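import Mathlib
import Cfsg.Prelude.Def_CaseTheorems
import Cfsg.Agent.Lib.Helper21_SCNCDefs

/-!
# S3921 package `NT` (helper8): a prime power of the form `2 ^ k ± 1` is a prime or `9`.
-/

set_option autoImplicit false

namespace Cfsg.Agent.Lib.Helper8_SCNC_NT

open Cfsg.Agent.Lib.Helper21_SCNC

/-- a sum of an odd number of odd integers is odd -/
theorem odd_geom_sum (x : ℤ) (n : ℕ) (hx : Odd x) (hn : Odd n) :
    Odd (∑ i ∈ Finset.range n, x ^ i) := by
  have key : ∀ m : ℕ, (∑ i ∈ Finset.range m, x ^ i) % 2 = (m : ℤ) % 2 := by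
    intro m
    induction m with
    | zero => simp
    | succ m ih =>
      have hxm : x ^ m % 2 = 1 := Int.odd_iff.1 hx.pow
      rw [Finset.sum_range_succ, Int.add_emod, ih, hxm]
      push_cast
      rw [Int.add_emod ((m : ℤ)) 1 2]
      rfl
  rw [Int.odd_iff, key n]
  have : Odd (n : ℤ) := by exact_mod_cast hn
  exact Int.odd_iff.1 this

/-- an odd integer dividing a power of two is `± 1` -/
theorem unit_of_odd_dvd (s : ℤ) (k : ℕ) (hs : Odd s) (hd : s ∣ 2 ^ k) : s = 1 ∨ s = -1 := by
  have h1 : s.natAbs ∣ 2 ^ k := by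
    have := Int.natAbs_dvd_natAbs.2 hd
    rwa [Int.natAbs_pow, show (2 : ℤ).natAbs = 2 from rfl] at this
  obtain ⟨j, -, hj⟩ := (Nat.dvd_prime_pow Nat.prime_two).1 h1
  have hodd : Odd s.natAbs := Int.natAbs_odd.2 hs
  have hj0 : j = 0 := by
    by_contra hne
    rw [hj] at hodd
    have : Even (2 ^ j) := (Nat.even_pow.2 ⟨even_two, hne⟩)
    exact (Nat.not_odd_iff_even.2 this) hodd
  rw [hj0, pow_zero] at hj
  rcases Int.natAbs_eq s with h | h
  · left
    rw [h, hj]
    rfl
  · right
    rw [h, hj]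
    rfl

/-- the odd exponent case: `x = ± p`, `x ^ n - 1 = ± 2 ^ k` forces `n = 1` -/
theorem odd_exp (p n k : ℕ) (hp : 2 ≤ p) (hpo : Odd p) (hn : Odd n) (x : ℤ)
    (hx : x = p ∨ x = -p) (h : x ^ n - 1 = 2 ^ k ∨ x ^ n - 1 = -2 ^ k) : n = 1 := by
  have hxo : Odd x := by
    rcases hx with rfl | rfl
    · exact_mod_cast hpo
    · exact (by exact_mod_cast hpo : Odd (p : ℤ)).neg
  have hS := odd_geom_sum x n hxo hn
  have hgeom := geom_sum_mul x n
  have hd : (∑ i ∈ Finset.range n, x ^ i) ∣ 2 ^ k := by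
    rcases h with h | h
    · rw [← h, ← hgeom]
      exact Dvd.intro _ rfl
    · have : (2 : ℤ) ^ k = -(x ^ n - 1) := by rw [h]; ring
      rw [this, ← hgeom]
      exact (Dvd.intro _ rfl : _ ∣ _).neg_right
  have hpow : x ^ n = x ∨ x ^ n = 2 - x := by
    rcases unit_of_odd_dvd _ k hS hd with h1 | h1
    · rw [h1, one_mul] at hgeom
      left
      linarith
    · rw [h1] at hgeom
      right
      linarith
  -- compare absolute values
  have hpos : (0 : ℤ) < (p : ℤ) ^ n := by positivity
  have hp' : (2 : ℤ) ≤ p := by exact_mod_cast hp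
  have habs : (p : ℤ) ^ n = p := by
    rcases hx with rfl | rfl
    · rcases hpow with h1 | h1
      · exact h1
      · exfalso
        linarith
    · have hneg : (-(p : ℤ)) ^ n = -((p : ℤ) ^ n) := hn.neg_pow _
      rw [hneg] at hpow
      rcases hpow with h1 | h1
      · linarith
      · exfalso
        linarith
  have h2 : p ^ n = p ^ 1 := by
    rw [pow_one]
    exact_mod_cast habs
  exact Nat.pow_right_injective hp h2

theorem sq_add_one_mod_four (a : ℕ) : (a ^ 2 + 1) % 4 ≠ 0 := by
  have h : a % 4 = 0 ∨ a % 4 = 1 ∨ a % 4 = 2 ∨ a % 4 = 3 := by omega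
  rw [Nat.add_mod, Nat.pow_mod]
  rcases h with h | h | h | h <;> rw [h] <;> decide

theorem prime_or_nine (p n k : ℕ) (hp : p.Prime) (hn : 0 < n)
    (h : p ^ n = 2 ^ k + 1 ∨ p ^ n = 2 ^ k - 1) : (p ^ n).Prime ∨ p ^ n = 9 := by
  have hp2 : 2 ≤ p := hp.two_le
  have hpn2 : 2 ≤ p ^ n := by
    calc 2 ≤ p ^ 1 := by rw [pow_one]; exact hp2
      _ ≤ p ^ n := Nat.pow_le_pow_right (by omega) hn
  by_cases hn1 : n = 1
  · left
    rw [hn1, pow_one]
    exact hp
  -- `p` is odd
  have hpodd : Odd p := by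
    rcases hp.eq_two_or_odd' with rfl | ho
    · exfalso
      -- 2 ^ n = 2 ^ k ± 1 with n ≥ 2
      have hn2 : 2 ≤ n := by omega
      have h4 : 4 ∣ 2 ^ n := by
        have : (4 : ℕ) = 2 ^ 2 := by norm_num
        rw [this]
        exact pow_dvd_pow 2 hn2
      rcases h with h | h
      · rcases Nat.eq_zero_or_pos k with rfl | hk
        · rw [pow_zero] at h
          have : 2 ^ 2 ≤ 2 ^ n := Nat.pow_le_pow_right (by norm_num) hn2
          omega
        · have : 2 ∣ 2 ^ k := dvd_pow_self 2 (by omega)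
          omega
      · have hk1 : 1 ≤ 2 ^ k := Nat.one_le_two_pow
        rcases Nat.eq_zero_or_pos k with rfl | hk
        · rw [pow_zero] at h
          omega
        · have : 2 ∣ 2 ^ k := dvd_pow_self 2 (by omega)
          omega
    · exact ho
  right
  rcases Nat.even_or_odd n with ⟨m, hm⟩ | hno
  · -- even exponent
    have hm1 : 1 ≤ m := by omega
    have hnm : n = 2 * m := by omega
    have hsq : p ^ n = (p ^ m) ^ 2 := by rw [hnm, ← pow_mul, mul_comm]
    rcases h with h | h
    · -- (p^m - 1)(p^m + 1) = 2^k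
      have ha : 2 ≤ p ^ m := by
        calc 2 ≤ p ^ 1 := by rw [pow_one]; exact hp2
          _ ≤ p ^ m := Nat.pow_le_pow_right (by omega) hm1
      have hfac : (p ^ m - 1) * (p ^ m + 1) = 2 ^ k := by
        have : (p ^ m - 1) * (p ^ m + 1) = (p ^ m) ^ 2 - 1 := by
          zify [show 1 ≤ p ^ m by omega, show 1 ≤ (p ^ m) ^ 2 by nlinarith]
          ring
        rw [this, ← hsq, h]
        omega
      have hd1 : p ^ m - 1 ∣ 2 ^ k := Dvd.intro _ hfac
      have hd2 : p ^ m + 1 ∣ 2 ^ k := Dvd.intro_left _ hfac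
      obtain ⟨a, -, ha'⟩ := (Nat.dvd_prime_pow Nat.prime_two).1 hd1
      obtain ⟨b, -, hb'⟩ := (Nat.dvd_prime_pow Nat.prime_two).1 hd2
      have hab : 2 ^ b = 2 ^ a + 2 := by omega
      -- a = 1, b = 2
      have ha1 : a = 1 := by
        rcases Nat.lt_or_ge a 1 with h0 | h1
        · have : a = 0 := by omega
          rw [this, pow_zero] at hab
          -- 2 ^ b = 3
          have hb1 : 1 ≤ b := by
            by_contra hcon
            have : b = 0 := by omega
            rw [this] at hab
            norm_num at hab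
          have : 2 ∣ 2 ^ b := dvd_pow_self 2 (by omega)
          omega
        · rcases Nat.lt_or_ge 1 a with h2 | h2
          · -- 4 ∣ 2 ^ a, so 2 ^ b ≡ 2 mod 4, b = 1, contradiction
            have h4a : 4 ∣ 2 ^ a := by
              have : (4 : ℕ) = 2 ^ 2 := by norm_num
              rw [this]
              exact pow_dvd_pow 2 h2
            have hb2 : 2 ≤ b := by
              by_contra hcon
              have hb01 : b = 0 ∨ b = 1 := by omega
              have h4 : 4 ≤ 2 ^ a := Nat.le_of_dvd (by positivity) h4a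
              rcases hb01 with rfl | rfl <;> norm_num at hab
            have h4b : 4 ∣ 2 ^ b := by
              have : (4 : ℕ) = 2 ^ 2 := by norm_num
              rw [this]
              exact pow_dvd_pow 2 hb2
            omega
          · omega
      rw [ha1, pow_one] at ha'
      have h3 : p ^ m = 3 := by omega
      rw [hsq, h3]
      norm_num
    · exfalso
      have hk1 : 1 ≤ 2 ^ k := Nat.one_le_two_pow
      have h' : (p ^ m) ^ 2 + 1 = 2 ^ k := by rw [← hsq, h]; omega
      have hk2 : 2 ≤ k := by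
        by_contra hcon
        have hk01 : k = 0 ∨ k = 1 := by omega
        rcases hk01 with rfl | rfl <;> norm_num at h <;> omega
      have h4 : 4 ∣ 2 ^ k := by
        have : (4 : ℕ) = 2 ^ 2 := by norm_num
        rw [this]
        exact pow_dvd_pow 2 hk2
      have := sq_add_one_mod_four (p ^ m)
      rw [h'] at this
      exact this (Nat.mod_eq_zero_of_dvd h4)
  · -- odd exponent: impossible
    exfalso
    apply hn1
    rcases h with h | h
    · apply odd_exp p n k hp2 hpodd hno (p : ℤ) (Or.inl rfl)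
      left
      have : ((p ^ n : ℕ) : ℤ) = ((2 ^ k + 1 : ℕ) : ℤ) := by rw [h]
      push_cast at this
      linarith
    · apply odd_exp p n k hp2 hpodd hno (-(p : ℤ)) (Or.inr rfl)
      right
      have hk1 : 1 ≤ 2 ^ k := Nat.one_le_two_pow
      have h' : p ^ n + 1 = 2 ^ k := by omega
      have : ((p ^ n + 1 : ℕ) : ℤ) = ((2 ^ k : ℕ) : ℤ) := by rw [h']
      push_cast at this
      rw [hno.neg_pow]
      linarith

end Cfsg.Agent.Lib.Helper8_SCNC_NT
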