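import Mathlib
import Cfsg.Prelude.Def_GeometricClasses
import Cfsg.Agent.Lib.Helper97_SpTensBasic
import Cfsg.Agent.Lib.Helper98_SP3_BRDefs

/-!
# SP3 bridge block, package KEQUIV (sub-architect helper98)

* `isKron_conjE_psi` : conjugation by the coordinate change `psi` (`Y ↦ A Y Bᵀ`) preserves `IsKron`.
* `exists_kronEquiv` : for `P` symplectic and `Qᵀ S0 Q = S0` the map `X ↦ P X Qᵀ` is a linear automorphism.
-/

set_option autoImplicit false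
set_option linter.unusedSectionVars false
set_option linter.unusedVariables false

namespace Cfsg.Agent.Lib.Helper8_SP3BR_KEQUIV

open Matrix
open Cfsg.Agent.Lib.Helper98_ExtDefs Cfsg.Agent.Lib.Helper97_TensDefs
  Cfsg.Agent.Lib.Helper97_SpTensDefs Cfsg.Agent.Lib.Helper97_SpTensBasic
  Cfsg.Agent.Lib.Helper70_Tens_TP10b Cfsg.Agent.Lib.Helper98_SP3_BRDefs

/-- **KEQUIV** (S), part 1. -/
theorem isKron_conjE_psi {F : Type*} [Field F] {ι₁ κ₁ ι₂ κ₂ : Type*}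
    [Fintype ι₁] [Fintype κ₁] [Fintype ι₂] [Fintype κ₂]
    [DecidableEq ι₁] [DecidableEq κ₁] [DecidableEq ι₂] [DecidableEq κ₂]
    (A : Matrix ι₁ κ₁ F) (A' : Matrix κ₁ ι₁ F) (B : Matrix ι₂ κ₂ F) (B' : Matrix κ₂ ι₂ F)
    (hA : A * A' = 1) (hA' : A' * A = 1) (hB : B * B' = 1) (hB' : B' * B = 1)
    (g : Matrix κ₁ κ₂ F ≃ₗ[F] Matrix κ₁ κ₂ F) :
    IsKron (conjE (psi A A' B B' hA hA' hB hB') g) ↔ IsKron g := by
  constructor
  · rintro ⟨P, Q, hPQ⟩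
    refine ⟨A' * P * A, B' * Q * B, ?_⟩
    intro Y
    have h1 := hPQ (psi A A' B B' hA hA' hB hB' Y)
    rw [conjE_apply, LinearEquiv.symm_apply_apply] at h1
    have h2 : g Y = (psi A A' B B' hA hA' hB hB').symm
        (psi A A' B B' hA hA' hB hB' (g Y)) := (LinearEquiv.symm_apply_apply _ _).symm
    rw [h2, h1, psi_symm_apply, psi_apply]
    simp only [Matrix.transpose_mul, Matrix.mul_assoc]
  · rintro ⟨P, Q, hPQ⟩
    refine ⟨A * P * A', B * Q * B', ?_⟩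
    intro X
    rw [conjE_apply, psi_apply, hPQ, psi_symm_apply]
    simp only [Matrix.transpose_mul, Matrix.mul_assoc]

/-- **KEQUIV** (S), part 2. -/
theorem exists_kronEquiv {F : Type*} [Field F] {m : ℕ}
    (P : Matrix (Fin m ⊕ Fin m) (Fin m ⊕ Fin m) F) (Q : Matrix (Fin 3) (Fin 3) F)
    (hP : P ∈ Matrix.symplecticGroup (Fin m) F) (hQ : Qᵀ * S0 F * Q = S0 F) :
    ∃ g : Matrix (Fin m ⊕ Fin m) (Fin 3) F ≃ₗ[F] Matrix (Fin m ⊕ Fin m) (Fin 3) F,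
      ∀ X, g X = P * X * Qᵀ := by
  -- inverse of `P`
  let Pg : Matrix.symplecticGroup (Fin m) F := ⟨P, hP⟩
  have hP1 : P * ((Pg⁻¹ : Matrix.symplecticGroup (Fin m) F) :
      Matrix (Fin m ⊕ Fin m) (Fin m ⊕ Fin m) F) = 1 := by
    show (Pg : Matrix (Fin m ⊕ Fin m) (Fin m ⊕ Fin m) F) * _ = 1
    rw [← Submonoid.coe_mul, mul_inv_cancel]; rfl
  have hP2 : ((Pg⁻¹ : Matrix.symplecticGroup (Fin m) F) :
      Matrix (Fin m ⊕ Fin m) (Fin m ⊕ Fin m) F) * P = 1 := by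
    show _ * (Pg : Matrix (Fin m ⊕ Fin m) (Fin m ⊕ Fin m) F) = 1
    rw [← Submonoid.coe_mul, inv_mul_cancel]; rfl
  -- inverse of `Q`
  have hS : S0 F * S0 F = 1 := by
    ext i j
    fin_cases i <;> fin_cases j <;> simp [S0, Matrix.mul_apply, Fin.sum_univ_three]
  have hQ2 : (S0 F * Qᵀ * S0 F) * Q = 1 := by
    rw [Matrix.mul_assoc, Matrix.mul_assoc, ← Matrix.mul_assoc Qᵀ, hQ, hS]
  have hQ1 : Q * (S0 F * Qᵀ * S0 F) = 1 := mul_eq_one_comm.mp hQ2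
  exact ⟨psi P _ Q _ hP1 hP2 hQ1 hQ2, fun X => rfl⟩

end Cfsg.Agent.Lib.Helper8_SP3BR_KEQUIV
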