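import Mathlib
import Cfsg.Prelude.Def_GeometricClasses
import Cfsg.Agent.Lib.Helper97_SpTensBasic
import Cfsg.Agent.Lib.Helper98_SP3_BRDefs

/-!
# SP3 bridge block, package NONKRON (sub-architect helper98)

The symplectic transvection at `x₀ ⊗ e0` is not a Kronecker map.
-/

set_option autoImplicit false
set_option linter.unusedSectionVars false
set_option linter.unusedVariables false

namespace Cfsg.Agent.Lib.Helper8_SP3BR_NONKRON

open Matrix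
open Cfsg.Agent.Lib.Helper98_ExtDefs Cfsg.Agent.Lib.Helper97_TensDefs
  Cfsg.Agent.Lib.Helper97_SpTensDefs Cfsg.Agent.Lib.Helper97_SpTensBasic
  Cfsg.Agent.Lib.Helper70_Tens_TP10b Cfsg.Agent.Lib.Helper98_SP3_BRDefs

/-- `sympForm (f_0) (e_0) = 1` -/
theorem sympForm_single {F : Type*} [Field F] {m : ℕ} (hm : 0 < m) :
    Cfsg.sympForm m F (Pi.single (Sum.inr ⟨0, hm⟩) 1) (Pi.single (Sum.inl ⟨0, hm⟩) 1) = 1 := by
  rw [Cfsg.Agent.Lib.Helper13_Symp.sympForm_eq]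
  rw [Finset.sum_eq_single (⟨0, hm⟩ : Fin m)]
  · simp
  · intro i _ hi
    have h1 : (Sum.inr i : Fin m ⊕ Fin m) ≠ Sum.inr ⟨0, hm⟩ := fun h => hi (Sum.inr.inj h)
    simp [Pi.single_apply, h1]
  · intro h; exact absurd (Finset.mem_univ _) h

/-- **NONKRON** (S). -/
theorem nonkron {F : Type*} [Field F] {m : ℕ} (hm : 0 < m)
    (g : Matrix (Fin m ⊕ Fin m) (Fin 3) F ≃ₗ[F] Matrix (Fin m ⊕ Fin m) (Fin 3) F)
    (hg : ∀ X, g X = X + tf m X (vecMulVec (Pi.single (Sum.inl ⟨0, hm⟩) 1) e0) •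
      vecMulVec (Pi.single (Sum.inl ⟨0, hm⟩) 1) e0) : ¬ IsKron g := by
  rintro ⟨P, Q, hPQ⟩
  set x₀ : Fin m ⊕ Fin m → F := Pi.single (Sum.inl ⟨0, hm⟩) 1 with hx₀
  set x' : Fin m ⊕ Fin m → F := Pi.single (Sum.inr ⟨0, hm⟩) 1 with hx'
  -- `g` fixes `u ⊗ e0`
  have h1 : ∀ u : Fin m ⊕ Fin m → F, vecMulVec (P *ᵥ u) (Q *ᵥ e0) = vecMulVec u e0 := by
    intro u
    have := hg (vecMulVec u e0)
    rw [hPQ, kron_vecMulVec, tf_vecMulVec, be_e0_e0, mul_zero, zero_smul, add_zero] at this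
    exact this
  have e00 : (e0 : Fin 3 → F) 0 = 1 := by simp [e0]
  have e20 : (e2 : Fin 3 → F) 0 = 0 := by simp [e2]
  have hx₀0 : x₀ (Sum.inl ⟨0, hm⟩) = 1 := by simp [hx₀]
  have hx'0 : x' (Sum.inl ⟨0, hm⟩) = 0 := by simp [hx']
  have h2 : (P *ᵥ x₀) (Sum.inl ⟨0, hm⟩) * (Q *ᵥ e0) 0 = 1 := by
    have := congrFun (congrFun (h1 x₀) (Sum.inl ⟨0, hm⟩)) 0
    rw [vecMulVec_apply, vecMulVec_apply, hx₀0, e00, mul_one] at this
    exact this
  have hw : (Q *ᵥ e0) 0 ≠ 0 := by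
    intro h0
    rw [h0, mul_zero] at h2
    exact zero_ne_one h2
  have h3 : (P *ᵥ x') (Sum.inl ⟨0, hm⟩) = 0 := by
    have := congrFun (congrFun (h1 x') (Sum.inl ⟨0, hm⟩)) 0
    rw [vecMulVec_apply, vecMulVec_apply, hx'0, zero_mul] at this
    rcases mul_eq_zero.mp this with h | h
    · exact h
    · exact absurd h hw
  -- but `g` moves `x' ⊗ e2`
  have h4 := hg (vecMulVec x' e2)
  rw [hPQ, kron_vecMulVec, tf_vecMulVec, be_e2_e0, mul_one, sympForm_single hm, one_smul] at h4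
  have := congrFun (congrFun h4 (Sum.inl ⟨0, hm⟩)) 0
  rw [Matrix.add_apply, vecMulVec_apply, vecMulVec_apply, vecMulVec_apply, h3, hx'0, hx₀0, e00,
    zero_mul, zero_mul, zero_add, mul_one] at this
  exact zero_ne_one this

end Cfsg.Agent.Lib.Helper8_SP3BR_NONKRON
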