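import Mathlib
import Cfsg.Prelude.Def_GeometricClasses
import Cfsg.Prelude.Def_LieClassical
import Cfsg.Agent.Lib.Helper39_QSDefs

set_option autoImplicit false

/-!
Package SUG-G7 (helper39): a subgroup `N ≤ GL(ι, F)` with the properties `QS N` does not lie in
the normalizer of an irreducible subgroup `R` which normalizes `N` and does not contain `N`.
Contains its own copy of G1 (the commutant of `N` consists of scalars).
-/

namespace Cfsg.Agent.Lib.Helper8_SUG_G7

open Matrix Cfsg.Geo Cfsg.Agent.Lib.Helper39_QSDefs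

variable {ι : Type} [Fintype ι] [DecidableEq ι] {F : Type*} [Field F]

/-- G1: a matrix commuting with `N` is a scalar. -/
theorem commutant_scalar {N : Subgroup (GL ι F)} (hN : QS N) (A : Matrix ι ι F)
    (hA : ∀ s ∈ N, (s : Matrix ι ι F) * A = A * (s : Matrix ι ι F)) :
    ∃ c : F, A = c • (1 : Matrix ι ι F) := by
  obtain ⟨g, hgN, hgs, φ, hφ0, hφ⟩ := hN.tv
  -- a vector `x0` with `φ x0 = 1`
  obtain ⟨x1, hx1⟩ : ∃ x1, φ x1 ≠ 0 := by
    by_contra hall
    apply hφ0
    refine LinearMap.ext fun x => ?_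
    by_contra hx
    exact hall ⟨x, hx⟩
  obtain ⟨x0, hx0⟩ : ∃ x0, φ x0 = 1 := ⟨(φ x1)⁻¹ • x1, by
    rw [map_smul, smul_eq_mul, inv_mul_cancel₀ hx1]⟩
  set v : ι → F := (g : Matrix ι ι F) *ᵥ x0 - x0 with hv
  have hg : ∀ x : ι → F, (g : Matrix ι ι F) *ᵥ x = x + φ x • v := by
    intro x
    have h1 : φ (x - φ x • x0) = 0 := by
      rw [map_sub, map_smul, hx0, smul_eq_mul, mul_one, sub_self]
    have h2 := hφ _ h1
    rw [Matrix.mulVec_sub, Matrix.mulVec_smul] at h2
    rw [hv, smul_sub]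
    have h3 : (g : Matrix ι ι F) *ᵥ x = x - φ x • x0 + φ x • ((g : Matrix ι ι F) *ᵥ x0) :=
      eq_add_of_sub_eq h2
    rw [h3]
    abel
  have hv0 : v ≠ 0 := by
    intro h0
    apply hgs
    rw [mem_scalars_iff]
    refine ⟨1, ?_⟩
    rw [Units.val_one, one_smul]
    apply Matrix.toLin'.injective
    apply LinearMap.ext
    intro x
    rw [Matrix.toLin'_apply, hg x, h0, smul_zero, add_zero, Matrix.toLin'_one, LinearMap.id_apply]
  -- `A v = a v`
  have hcomm : ∀ x : ι → F, φ x • (A *ᵥ v) = φ (A *ᵥ x) • v := by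
    intro x
    have h1 := congrArg (fun M : Matrix ι ι F => M *ᵥ x) (hA g hgN)
    simp only [← Matrix.mulVec_mulVec] at h1
    rw [hg (A *ᵥ x), hg x, Matrix.mulVec_add, Matrix.mulVec_smul] at h1
    exact (add_left_cancel h1).symm
  have hAv : A *ᵥ v = φ (A *ᵥ x0) • v := by
    have := hcomm x0
    rwa [hx0, one_smul] at this
  set a : F := φ (A *ᵥ x0) with ha
  -- the eigenspace is invariant, hence everything
  let W : Submodule F (ι → F) :=
    LinearMap.ker (Matrix.toLin' A - a • (LinearMap.id : (ι → F) →ₗ[F] (ι → F)))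
  have hWmem : ∀ w : ι → F, w ∈ W ↔ A *ᵥ w = a • w := by
    intro w
    show w ∈ LinearMap.ker (Matrix.toLin' A - a • (LinearMap.id : (ι → F) →ₗ[F] (ι → F))) ↔ _
    rw [LinearMap.mem_ker, LinearMap.sub_apply, LinearMap.smul_apply, LinearMap.id_apply, Matrix.toLin'_apply,
      sub_eq_zero]
  have hWinv : ∀ s ∈ N, ∀ w ∈ W, (s : Matrix ι ι F) *ᵥ w ∈ W := by
    intro s hs w hw
    rw [hWmem] at hw ⊢
    rw [Matrix.mulVec_mulVec, ← hA s hs, ← Matrix.mulVec_mulVec, hw, Matrix.mulVec_smul]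
  rcases hN.irr W hWinv with h0 | h1
  · exfalso
    have : v ∈ W := (hWmem v).2 hAv
    rw [h0, Submodule.mem_bot] at this
    exact hv0 this
  · refine ⟨a, ?_⟩
    apply Matrix.toLin'.injective
    apply LinearMap.ext
    intro x
    have hx : x ∈ W := by
      rw [h1]
      exact Submodule.mem_top
    rw [Matrix.toLin'_apply, (hWmem x).1 hx, Matrix.toLin'_apply, Matrix.smul_mulVec,
      Matrix.one_mulVec]

/-- the index type has two distinct elements -/
theorem exists_ne_of_QS {N : Subgroup (GL ι F)} (hN : QS N) : ∃ i j : ι, i ≠ j := by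
  obtain ⟨g, -, hgs, -⟩ := hN.tv
  by_contra hall
  apply hgs
  have hsub : ∀ i j : ι, i = j := by
    intro i j
    by_contra hij
    exact hall ⟨i, j, hij⟩
  rw [mem_scalars_iff]
  by_cases hne : Nonempty ι
  · obtain ⟨i0⟩ := hne
    have hdet : (g : Matrix ι ι F) i0 i0 ≠ 0 := by
      intro h0
      have h1 : (g : Matrix ι ι F) = 0 := by
        ext i j
        rw [hsub i i0, hsub j i0, h0]
        rfl
      have h2 := g.mul_inv
      rw [h1, zero_mul] at h2
      have h3 := congrFun (congrFun h2 i0) i0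
      simp at h3
    refine ⟨Units.mk0 _ hdet, ?_⟩
    ext i j
    rw [hsub i i0, hsub j i0]
    simp
  · refine ⟨1, ?_⟩
    ext i
    exact (hne ⟨i⟩).elim

/-- scalar matrices commute with everything -/
theorem scalars_comm' {z : GL ι F} (hz : z ∈ scalars ι F) (g : GL ι F) : z * g = g * z := by
  obtain ⟨c, hc⟩ := (mem_scalars_iff z).mp hz
  apply Units.ext
  rw [Units.val_mul, Units.val_mul, hc]
  simp

/-- a group of scalar matrices is not irreducible in dimension at least two -/
theorem not_irreducible_of_le_scalars' {i0 j0 : ι} (hij : i0 ≠ j0) {R : Subgroup (GL ι F)}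
    (hR : R ≤ scalars ι F) : ¬ ActsIrreducibly (matrixSet R) := by
  intro h
  set u : ι → F := Pi.single i0 1 with hu
  have hu0 : u ≠ 0 := by
    intro h0
    have := congrFun h0 i0
    simp [hu] at this
  have hinv : ∀ s ∈ matrixSet R,
      (Submodule.span F {u}).map (Matrix.toLin' s) ≤ Submodule.span F {u} := by
    rintro _ ⟨g, hg, rfl⟩
    obtain ⟨c, hc⟩ := (mem_scalars_iff g).mp (hR hg)
    rintro _ ⟨w, hw, rfl⟩
    rw [Matrix.toLin'_apply]
    dsimp only
    rw [hc, Matrix.smul_mulVec, Matrix.one_mulVec]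
    exact Submodule.smul_mem _ _ hw
  rcases h _ hinv with h0 | h1
  · have : u ∈ Submodule.span F {u} := Submodule.mem_span_singleton_self u
    rw [h0, Submodule.mem_bot] at this
    exact hu0 this
  · have hmem : (Pi.single j0 1 : ι → F) ∈ Submodule.span F {u} := by
      rw [h1]
      exact Submodule.mem_top
    obtain ⟨c, hc⟩ := Submodule.mem_span_singleton.1 hmem
    have h2 := congrFun hc j0
    simp [hu, hij] at h2

/-- G7 : normalizers of irreducible subgroups -/
theorem G7 {N : Subgroup (GL ι F)} (hN : QS N) {R : Subgroup (GL ι F)}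
    (hirr : ActsIrreducibly (matrixSet R)) (hRN : ∀ x ∈ R, ∀ s ∈ N, x * s * x⁻¹ ∈ N) (hne : ¬ N ≤ R) :
    ¬ N ≤ subgroupNormalizer R := by
  intro hle
  have hnormR : ∀ s ∈ N, ∀ x ∈ R, s * x * s⁻¹ ∈ R := by
    intro s hs x hx
    have h1 : s ∈ Subgroup.normalizer (R : Set (GL ι F)) := hle hs
    exact (Subgroup.mem_normalizer_iff.mp h1 x).mp hx
  have hnorm : ∀ s ∈ N, ∀ x ∈ R ⊓ N, s * x * s⁻¹ ∈ R ⊓ N := by
    intro s hs x hx
    exact ⟨hnormR s hs x hx.1, N.mul_mem (N.mul_mem hs hx.2) (N.inv_mem hs)⟩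
  rcases hN.dich (R ⊓ N) inf_le_right hnorm with h | h
  · -- `⁅N, R⁆` is scalar
    have hSR : ⁅N, R⁆ ≤ scalars ι F := by
      rw [Subgroup.commutator_le]
      intro s hs x hx
      apply h
      rw [commutatorElement_def]
      refine ⟨?_, ?_⟩
      · exact R.mul_mem (hnormR s hs x hx) (R.inv_mem hx)
      · have : s * x * s⁻¹ * x⁻¹ = s * (x * s⁻¹ * x⁻¹) := by group
        rw [this]
        exact N.mul_mem hs (hRN x hx s⁻¹ (N.inv_mem hs))
    have hcent : ⁅N, R⁆ ≤ Subgroup.centralizer (N : Set (GL ι F)) := by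
      intro z hz
      rw [Subgroup.mem_centralizer_iff]
      intro g _
      exact (scalars_comm' (hSR hz) g).symm
    have h1 : ⁅⁅N, R⁆, N⁆ = ⊥ := Subgroup.commutator_eq_bot_iff_le_centralizer.mpr hcent
    have h2 : ⁅⁅R, N⁆, N⁆ = ⊥ := by
      rw [Subgroup.commutator_comm R]
      exact h1
    have h3 := Subgroup.commutator_commutator_eq_bot_of_rotate h1 h2
    rw [hN.perf, Subgroup.commutator_eq_bot_iff_le_centralizer] at h3
    obtain ⟨i0, j0, hij⟩ := exists_ne_of_QS hN
    apply not_irreducible_of_le_scalars' hij _ hirr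
    intro x hx
    have hcomm : ∀ s ∈ N, (s : Matrix ι ι F) * (x : Matrix ι ι F)
        = (x : Matrix ι ι F) * (s : Matrix ι ι F) := by
      intro s hs
      have h4 := Subgroup.mem_centralizer_iff.mp (h3 hs) x hx
      have h5 := congrArg (fun g : GL ι F => (g : Matrix ι ι F)) h4
      simp only [Units.val_mul] at h5
      exact h5.symm
    obtain ⟨c, hc⟩ := commutant_scalar hN (x : Matrix ι ι F) hcomm
    have hc0 : c ≠ 0 := by
      rintro rfl
      have h6 := x.mul_inv
      rw [hc, zero_smul, zero_mul] at h6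
      have h7 := congrFun (congrFun h6 i0) i0
      simp at h7
    rw [mem_scalars_iff]
    exact ⟨Units.mk0 c hc0, by rw [hc, Units.val_mk0]⟩
  · exact hne (h ▸ inf_le_left)

end Cfsg.Agent.Lib.Helper8_SUG_G7
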