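import Mathlib
import Cfsg.Prelude.Def_GeometricClasses
import Cfsg.Prelude.Def_LieClassical
import Cfsg.Agent.Lib.Helper39_QSDefs
import Cfsg.Agent.Lib.Helper5_SUOrder

set_option autoImplicit false

/-!
Package SUG-U2 (helper39): `|scalars| * n! < |SU_n(q)|` for `n ≥ 3` (with `SU_n(q)` realised as
`GU ⊓ SL` inside `GL`).
-/

namespace Cfsg.Agent.Lib.Helper8_SUG_U2

open Matrix Cfsg.Geo Cfsg.Agent.Lib.Helper39_QSDefs

variable {ι : Type} [Fintype ι] [DecidableEq ι] {F : Type*} [Field F]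

/-- the order of the group of scalar matrices -/
theorem card_scalars' [Fintype F] [Nonempty ι] :
    Nat.card ↥(Cfsg.Geo.scalars ι F) = Fintype.card F - 1 := by
  unfold Cfsg.Geo.scalars
  have hinj : Function.Injective
      (Units.map (Matrix.scalar ι : F →+* Matrix ι ι F).toMonoidHom) := by
    apply Units.map_injective
    intro a b h
    exact Matrix.scalar_inj.mp h
  rw [← Nat.card_congr (MonoidHom.ofInjective hinj).toEquiv, Nat.card_units,
    Nat.card_eq_fintype_card]

/-- the special unitary group inside `GL` has the order of `SU` -/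
theorem card_GU_inf_SL' [Fintype F] {q : ℕ} (n : ℕ) :
    Nat.card ↥(Cfsg.GU n F q ⊓ Cfsg.Geo.specialLinear (Fin n) F) = Nat.card (Cfsg.SU n F q) := by
  rw [← Nat.card_congr (Cfsg.Agent.Lib.Helper5_SUOrder.kerEquiv (F := F) (q := q) n)]
  refine Nat.card_congr
    { toFun := fun g => ⟨⟨g.1, g.2.1⟩, ?_⟩
      invFun := fun g => ⟨g.1.1, ⟨g.1.2, ?_⟩⟩
      left_inv := fun g => rfl
      right_inv := fun g => rfl }
  · rw [MonoidHom.mem_ker]
    apply Units.ext
    rw [Cfsg.Agent.Lib.Helper5_SUOrder.detGU_val]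
    have h := g.2.2
    have h2 : Matrix.GeneralLinearGroup.det g.1 = 1 := MonoidHom.mem_ker.mp h
    have h3 := congrArg Units.val h2
    simpa using h3
  · have h := g.2
    rw [MonoidHom.mem_ker] at h
    have h2 := congrArg Units.val h
    rw [Cfsg.Agent.Lib.Helper5_SUOrder.detGU_val] at h2
    show g.1.1 ∈ (Matrix.GeneralLinearGroup.det : GL (Fin n) F →* Fˣ).ker
    rw [MonoidHom.mem_ker]
    apply Units.ext
    simpa using h2

/-- the product in the order formula of the unitary groups -/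
def P (q n : ℕ) : ℕ :=
  ∏ i ∈ Finset.range n, (if Even i then q ^ (i + 1) + 1 else q ^ (i + 1) - 1)

theorem P_succ (q n : ℕ) :
    P q (n + 1) = P q n * (if Even n then q ^ (n + 1) + 1 else q ^ (n + 1) - 1) := by
  unfold P
  rw [Finset.prod_range_succ]

/-- the arithmetic core -/
theorem arith (q : ℕ) (hq : 2 ≤ q) (n : ℕ) (hn : 3 ≤ n) :
    (q + 1) * ((q ^ 2 - 1) * n.factorial) < q ^ (n * (n - 1) / 2) * P q n := by
  induction n, hn using Nat.le_induction with
  | base =>
    have hP : P q 3 = (q + 1) * (q ^ 2 - 1) * (q ^ 3 + 1) := by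
      unfold P
      simp [Finset.prod_range_succ]
    have hq2 : 1 ≤ q ^ 2 - 1 := by
      have : 4 ≤ q ^ 2 := by nlinarith
      omega
    have h6 : (6 : ℕ) < q ^ 3 * (q ^ 3 + 1) := by
      have : 8 ≤ q ^ 3 := by
        calc 8 = 2 ^ 3 := by norm_num
          _ ≤ q ^ 3 := Nat.pow_le_pow_left hq 3
      nlinarith
    rw [hP]
    have e1 : (3 : ℕ).factorial = 6 := by decide
    have e2 : 3 * (3 - 1) / 2 = 3 := by norm_num
    rw [e1, e2]
    calc (q + 1) * ((q ^ 2 - 1) * 6) = ((q + 1) * (q ^ 2 - 1)) * 6 := by ring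
      _ < ((q + 1) * (q ^ 2 - 1)) * (q ^ 3 * (q ^ 3 + 1)) := by
          apply Nat.mul_lt_mul_of_pos_left h6
          positivity
      _ = q ^ 3 * ((q + 1) * (q ^ 2 - 1) * (q ^ 3 + 1)) := by ring
  | succ n hn ih =>
    have hfac : (q + 1) * ((q ^ 2 - 1) * (n + 1).factorial)
        = (q + 1) * ((q ^ 2 - 1) * n.factorial) * (n + 1) := by
      rw [Nat.factorial_succ]
      ring
    have hexp : (n + 1) * (n + 1 - 1) / 2 = n * (n - 1) / 2 + n := Nat.triangle_succ n
    have hterm : 1 ≤ (if Even n then q ^ (n + 1) + 1 else q ^ (n + 1) - 1) := by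
      split_ifs
      · omega
      · have : 2 ≤ q ^ (n + 1) := by
          calc 2 = 2 ^ 1 := by norm_num
            _ ≤ q ^ 1 := Nat.pow_le_pow_left hq 1
            _ ≤ q ^ (n + 1) := Nat.pow_le_pow_right (by omega) (by omega)
        omega
    have hqn : n + 1 ≤ q ^ n := by
      calc n + 1 ≤ 2 ^ n := Nat.lt_two_pow_self
        _ ≤ q ^ n := Nat.pow_le_pow_left hq n
    rw [hfac, hexp, P_succ, pow_add]
    calc (q + 1) * ((q ^ 2 - 1) * n.factorial) * (n + 1)
        < q ^ (n * (n - 1) / 2) * P q n * (n + 1) :=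
          Nat.mul_lt_mul_of_pos_right ih (by omega)
      _ ≤ q ^ (n * (n - 1) / 2) * P q n *
            (q ^ n * (if Even n then q ^ (n + 1) + 1 else q ^ (n + 1) - 1)) := by
          apply Nat.mul_le_mul_left
          calc n + 1 = (n + 1) * 1 := (mul_one _).symm
            _ ≤ q ^ n * (if Even n then q ^ (n + 1) + 1 else q ^ (n + 1) - 1) :=
              Nat.mul_le_mul hqn hterm
      _ = q ^ (n * (n - 1) / 2) * q ^ n *
            (P q n * (if Even n then q ^ (n + 1) + 1 else q ^ (n + 1) - 1)) := by ring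

section SU
variable [Fintype F]

/-- U2 -/
theorem U2 {q : ℕ} (hF : Fintype.card F = q ^ 2) (n : ℕ) (hn : 3 ≤ n) :
    Nat.card (scalars (Fin n) F) * n.factorial <
      Nat.card (Cfsg.GU n F q ⊓ specialLinear (Fin n) F : Subgroup (GL (Fin n) F)) := by
  have : Nonempty (Fin n) := ⟨⟨0, by omega⟩⟩
  have hq : 2 ≤ q := by
    have h1 : 1 < Fintype.card F := Fintype.one_lt_card
    rw [hF] at h1
    by_contra hlt
    have : q ≤ 1 := by omega
    have : q ^ 2 ≤ 1 := by
      calc q ^ 2 ≤ 1 ^ 2 := Nat.pow_le_pow_left this 2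
        _ = 1 := one_pow 2
    omega
  rw [card_scalars', hF, card_GU_inf_SL']
  have h1 := Cfsg.Agent.Lib.Helper5_SUOrder.card_SU hF n (by omega)
  have h2 := arith q hq n hn
  unfold P at h2
  rw [← h1] at h2
  exact Nat.lt_of_mul_lt_mul_left h2

end SU

end Cfsg.Agent.Lib.Helper8_SUG_U2
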