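import Mathlib
import Cfsg.Prelude.Def_GeometricClasses
import Cfsg.Prelude.Def_LieClassical
import Cfsg.Agent.Lib.Helper39_QSDefs

set_option autoImplicit false

/-!
Package SUG-U4 (helper39): similarities of the standard hermitian form normalize `SU_n(q)`
(realised as `GU ⊓ SL` inside `GL`).
-/

namespace Cfsg.Agent.Lib.Helper8_SUG_U4

open Matrix Cfsg.Geo Cfsg.Agent.Lib.Helper39_QSDefs

variable {ι : Type} [Fintype ι] [DecidableEq ι] {F : Type*} [Field F]

section SU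
variable [Fintype F]

/-- U4 -/
theorem U4 {q : ℕ} (hF : Fintype.card F = q ^ 2) (n : ℕ) (x : GL (Fin n) F)
    (hx : x ∈ similarityGroup (Cfsg.hermForm n F q)) (s : GL (Fin n) F)
    (hs : s ∈ Cfsg.GU n F q ⊓ specialLinear (Fin n) F) :
    x * s * x⁻¹ ∈ Cfsg.GU n F q ⊓ specialLinear (Fin n) F := by
  obtain ⟨c, hc⟩ := hx
  have hsGU : ∀ u v, Cfsg.hermForm n F q ((s : Matrix (Fin n) (Fin n) F) *ᵥ u)
      ((s : Matrix (Fin n) (Fin n) F) *ᵥ v) = Cfsg.hermForm n F q u v := hs.1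
  have hsSL : s ∈ specialLinear (Fin n) F := hs.2
  refine ⟨?_, ?_⟩
  · show ∀ u v, Cfsg.hermForm n F q
        ((Units.coeHom (Matrix (Fin n) (Fin n) F)) (x * s * x⁻¹) *ᵥ u)
        ((Units.coeHom (Matrix (Fin n) (Fin n) F)) (x * s * x⁻¹) *ᵥ v) = Cfsg.hermForm n F q u v
    intro u v
    have hval : (Units.coeHom (Matrix (Fin n) (Fin n) F)) (x * s * x⁻¹)
        = (x : Matrix (Fin n) (Fin n) F) * (s : Matrix (Fin n) (Fin n) F)
          * ((x⁻¹ : GL (Fin n) F) : Matrix (Fin n) (Fin n) F) := by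
      rw [Units.coeHom_apply, Units.val_mul, Units.val_mul]
    have hxx : ∀ w : Fin n → F, (x : Matrix (Fin n) (Fin n) F) *ᵥ
        (((x⁻¹ : GL (Fin n) F) : Matrix (Fin n) (Fin n) F) *ᵥ w) = w := by
      intro w
      rw [Matrix.mulVec_mulVec, ← Units.val_mul, mul_inv_cancel, Units.val_one, Matrix.one_mulVec]
    rw [hval, ← Matrix.mulVec_mulVec, ← Matrix.mulVec_mulVec, ← Matrix.mulVec_mulVec,
      ← Matrix.mulVec_mulVec, hc, hsGU, ← hc, hxx, hxx]
  · show x * s * x⁻¹ ∈ (Matrix.GeneralLinearGroup.det : GL (Fin n) F →* Fˣ).ker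
    exact (MonoidHom.normal_ker _).conj_mem s hsSL x

end SU

end Cfsg.Agent.Lib.Helper8_SUG_U4
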