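import Mathlib
import Cfsg.Agent.Lib.Helper37_SzZass
import Cfsg.Agent.Lib.Helper37_SzSylow

/-!
# S2112 package SZ8-T (architect helper35): the polarisation of the norm form of the field with
eight elements takes the value one (triple `(1, x, x^2)` for any `x ≠ 0, 1`).
-/

set_option autoImplicit false
open Cfsg

namespace Cfsg.Agent.Lib.Helper8_SZ8_T

open Cfsg.Agent.Helper37Sz

/-- the polarisation of the norm form of the field with eight elements takes the value one -/
theorem exists_polar_eq_one {F : Type*} [Field F] [Fintype F] (hF : Fintype.card F = 8) :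
    ∃ a a' a'' : F,
      a'' * (a ^ 4 * a' + a' ^ 4 * a) ^ 4 + a * (a' ^ 4 * a'' + a'' ^ 4 * a') ^ 4 +
        a' * (a'' ^ 4 * a + a ^ 4 * a'') ^ 4 = 1 := by
  classical
  have h2 : (2 : F) = 0 := by
    have h8 : ((Fintype.card F : ℕ) : F) = 0 := Nat.cast_card_eq_zero F
    rw [hF] at h8
    have h3 : (2 : F) ^ 3 = 0 := by
      have : ((8 : ℕ) : F) = (2 : F) ^ 3 := by norm_num
      rw [← this]
      exact h8
    exact (pow_eq_zero_iff (by norm_num)).1 h3
  obtain ⟨x, hx0, hx1⟩ : ∃ x : F, x ≠ 0 ∧ x ≠ 1 := by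
    by_contra hcon
    push Not at hcon
    have hle : Fintype.card F ≤ 2 := by
      calc Fintype.card F = (Finset.univ : Finset F).card := rfl
        _ ≤ ({0, 1} : Finset F).card := by
            apply Finset.card_le_card
            intro y _
            by_cases hy : y = 0
            · simp [hy]
            · simp [hcon y hy]
        _ ≤ 2 := Finset.card_le_two
    omega
  have h7 : x ^ 7 = 1 := by
    have := FiniteField.pow_card_sub_one_eq_one x hx0
    rwa [hF] at this
  have hS : 1 + x + x ^ 2 + x ^ 3 + x ^ 4 + x ^ 5 + x ^ 6 = 0 := by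
    have h : (x - 1) * (1 + x + x ^ 2 + x ^ 3 + x ^ 4 + x ^ 5 + x ^ 6) = 0 := by
      linear_combination h7
    rcases mul_eq_zero.1 h with h | h
    · exact absurd (sub_eq_zero.1 h) hx1
    · exact h
  have frob : ∀ u v : F, (u + v) ^ 4 = u ^ 4 + v ^ 4 := by
    intro u v
    linear_combination (2 * u ^ 3 * v + 3 * u ^ 2 * v ^ 2 + 2 * u * v ^ 3) * h2
  refine ⟨1, x, x ^ 2, ?_⟩
  rw [frob, frob, frob]
  linear_combination (x ^ 4 * (x ^ 7 + 1) + x ^ 3 * (x ^ 14 + x ^ 7 + 1) +
    x * (x ^ 28 + x ^ 21 + x ^ 14 + x ^ 7 + 1) + x ^ 5 * (x ^ 21 + x ^ 14 + x ^ 7 + 1) + x ^ 2) * h7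
    + hS - h2

end Cfsg.Agent.Lib.Helper8_SZ8_T
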