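import Cfsg.Agent.Lib.Helper8_U33Tab
import Cfsg.Agent.Lib.Helper61_G22Bridge
import Cfsg.Agent.Lib.Helper8_J2F

/-!
# The Cayley table of `U₃(3)` realised by frames in `2·J₂`: the kernel checks (helper8)

The packed frames `FT` multiply by the two generators according to the Cayley table `mtb` of
`Helper61_G22Data`; only the first frame is the identity and none is `-1`.
-/

set_option autoImplicit false

namespace Cfsg.Agent.Lib.Helper8_U33

open Cfsg.Agent.Lib.Helper26_Ico Cfsg.Agent.Lib.Helper8_J2 Cfsg.Agent.Lib.Helper8_PackLin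
open Cfsg.Agent.Lib.Helper61_G22Bridge (mtb allLt allLt_spec)

/-- The code of the `i`-th frame. -/
def lookF (i : ℕ) : ℕ :=
  Nat.land (Nat.shiftRight (FT (Nat.div i 378)) (Nat.mul 288 (Nat.mod i 378))) (2 ^ 288 - 1)

/-- The `i`-th frame. -/
def frmZ (i : ℕ) : Fin 3 → Fin 3 → Fin 8 → ℤ := decZ (lookF i)

/-- The check of the products `x i * A`, `x i * B`. -/
def chkAB (i : ℕ) : Bool :=
  frc (lookF i) fun c => frc (lookF (mtb i 0)) fun c0 => frc (lookF (mtb i 1)) fun c1 =>
    forceL (tripPack c) fun V =>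
      chkC colsPA colsQA KPtA KQtA V c0 && chkC colsPB colsQB KPtB KQtB V c1

set_option maxRecDepth 100000 in
theorem chkAB_all : allLt 6048 chkAB = true := by decide +kernel

theorem mul_AB {i : ℕ} (hi : i < 6048) :
    fmulZ gAZ' (frmZ i) = frmZ (mtb i 0) ∧ fmulZ gBZ (frmZ i) = frmZ (mtb i 1) := by
  have h := allLt_spec _ _ chkAB_all i hi
  simp only [chkAB, frc_eq, forceL_eq, Bool.and_eq_true] at h
  exact ⟨chkC_sound rowsA_ok colsA_ok h.1, chkC_sound rowsB_ok colsB_ok h.2⟩

/-! ### The identity and `-1` -/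

/-- Two codes have the same nibbles. -/
def sameF (c c' : ℕ) : Bool := (List.range 72).all fun j => Nat.beq (nib c j) (nib c' j)

theorem sh_inj {a b : ℕ} (h : sh a = sh b) : a = b := by
  unfold sh at h; omega

theorem sameF_of_decZ {c c' : ℕ} (h : decZ c = decZ c') : sameF c c' = true := by
  unfold sameF
  rw [List.all_eq_true]
  intro j hj
  have hj' : j < 72 := List.mem_range.1 hj
  have e := congrFun (congrFun (congrFun h ⟨j / 24, by omega⟩) ⟨j % 24 / 8, by omega⟩) ⟨j % 8, by omega⟩
  simp only [decZ] at e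
  have hidx : 24 * (j / 24) + 8 * (j % 24 / 8) + j % 8 = j := by omega
  rw [hidx] at e
  rw [sh_inj e]
  exact Nat.beq_refl _

/-- The codes of the identity and of `-1`. -/
def idC : ℕ := 0x444444484444444444444444444444444444444844444444444444444444444444444448
def negC : ℕ := 0x444444404444444444444444444444444444444044444444444444444444444444444440

/-- The frame of `-1`. -/
def negIdL : List ℤ := [-4, 0, 0, 0, 0, 0, 0, 0, 0, 0, 0, 0, 0, 0, 0, 0, 0, 0, 0, 0, 0, 0, 0, 0,
  0, 0, 0, 0, 0, 0, 0, 0, -4, 0, 0, 0, 0, 0, 0, 0, 0, 0, 0, 0, 0, 0, 0, 0,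
  0, 0, 0, 0, 0, 0, 0, 0, 0, 0, 0, 0, 0, 0, 0, 0, -4, 0, 0, 0, 0, 0, 0, 0]

theorem lookF_zero : lookF 0 = idC := by decide +kernel

theorem decZ_idC : toL9 (decZ idC) = lineAt 0 ++ lineAt 1 ++ lineAt 2 := by decide +kernel

theorem decZ_negC : toL9 (decZ negC) = negIdL := by decide +kernel

/-- Only the first frame is the identity, and no frame is `-1`. -/
def chkId (i : ℕ) : Bool :=
  frc (lookF i) fun c => (Nat.beq i 0 || !(sameF c idC)) && !(sameF c negC)

set_option maxRecDepth 100000 in
theorem chkId_all : allLt 6048 chkId = true := by decide +kernel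

theorem frmZ_zero : frmZ 0 = ofL9 (lineAt 0 ++ lineAt 1 ++ lineAt 2) := by
  unfold frmZ
  rw [lookF_zero, ← decZ_idC, ofL9_toL9]

theorem eq_zero_of_frmZ {i : ℕ} (hi : i < 6048) (h : frmZ i = frmZ 0) : i = 0 := by
  have hc := allLt_spec _ _ chkId_all i hi
  simp only [chkId, frc_eq, Bool.and_eq_true, Bool.or_eq_true, Bool.not_eq_true'] at hc
  unfold frmZ at h
  rw [lookF_zero] at h
  rcases hc.1 with h0 | h0
  · exact Nat.eq_of_beq_eq_true h0
  · rw [sameF_of_decZ h] at h0
    exact absurd h0 (by decide)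

theorem frmZ_ne_neg {i : ℕ} (hi : i < 6048) : frmZ i ≠ ofL9 negIdL := by
  intro h
  have hc := allLt_spec _ _ chkId_all i hi
  simp only [chkId, frc_eq, Bool.and_eq_true, Bool.not_eq_true'] at hc
  have : decZ (lookF i) = decZ negC := by
    have e : decZ negC = ofL9 negIdL := by rw [← decZ_negC, ofL9_toL9]
    rw [e]; exact h
  rw [sameF_of_decZ this] at hc
  exact absurd hc.2 (by decide)

/-! ### The frames of the generators and of `-1` -/

theorem hasFrame_genA : HasFrame (wordPerm [1, 2]) gAZ' :=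
  hasFrame_word [1, 2] (by decide) gAL (by decide +kernel) (by decide +kernel) (by decide +kernel)

theorem hasFrame_genB : HasFrame (wordPerm [0, 1, 2, 212, 105, 111]) gBZ :=
  hasFrame_word [0, 1, 2, 212, 105, 111] (by decide) gBL (by decide +kernel) (by decide +kernel)
    (by decide +kernel)

theorem hasFrame_negOne : HasFrame negOne (ofL9 negIdL) :=
  hasFrame_word [0, 1, 2] (by decide) negIdL (by decide +kernel) (by decide +kernel)
    (by decide +kernel)

end Cfsg.Agent.Lib.Helper8_U33
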