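import Cfsg.Agent.Lib.Helper8_U33Chk
import Cfsg.Agent.Lib.Helper61_G22Group

/-!
# A copy of `U₃(3)` inside `2·J₂` (helper8)

The subgroup `HJ` of `2·J₂` generated by two explicit words is isomorphic to `G₂(2)′ ≅ SU₃(3)` (same
Cayley table as `Helper61_G22Group.H`), has order `6048` and does not contain `-1`.
-/

set_option autoImplicit false

namespace Cfsg.Agent.Lib.Helper8_U33

open Cfsg.Spor Cfsg.Agent.Lib.Helper26_Ico Cfsg.Agent.Lib.Helper8_J2
  Cfsg.Agent.Lib.Helper61_FamilyIso3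
open Cfsg.Agent.Lib.Helper61_G22Bridge (mtb par pj dep tree mtb_lt decM_look_inj)

/-- The two generators. -/
noncomputable def genA : ↥twoJ2 := ⟨wordPerm [1, 2], wordPerm_mem _⟩
noncomputable def genB : ↥twoJ2 := ⟨wordPerm [0, 1, 2, 212, 105, 111], wordPerm_mem _⟩

/-- The generators as a sequence. -/
noncomputable def genJ (j : ℕ) : ↥twoJ2 := if j = 0 then genA else genB

theorem hasFrame_genJ {g : ↥twoJ2} {i : ℕ} (hi : i < 6048) (hg : HasFrame g.1 (frmZ i)) {j : ℕ}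
    (hj : j < 2) : HasFrame (g * genJ j).1 (frmZ (mtb i j)) := by
  have hj' : j = 0 ∨ j = 1 := by omega
  obtain ⟨hA, hB⟩ := mul_AB hi
  rcases hj' with rfl | rfl
  · rw [← hA]
    exact hasFrame_mul g.2 hg hasFrame_genA
  · rw [← hB]
    exact hasFrame_mul g.2 hg hasFrame_genB

theorem exists_frame : ∀ d i, dep i = d → i < 6048 → ∃ g : ↥twoJ2, HasFrame g.1 (frmZ i) := by
  intro d
  induction d using Nat.strong_induction_on with
  | _ d ih =>
    intro i hd hi
    by_cases h0 : i = 0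
    · subst h0
      refine ⟨1, ?_⟩
      rw [frmZ_zero]
      exact hasFrame_one
    · obtain ⟨hp, hj, hm, hdep⟩ := tree hi h0
      obtain ⟨g, hg⟩ := ih (dep (par i)) (hd ▸ hdep) (par i) rfl hp
      refine ⟨g * genJ (pj i), ?_⟩
      have := hasFrame_genJ hp hg hj
      rwa [hm] at this

open Classical in
/-- The element of `2·J₂` with the `i`-th frame. -/
noncomputable def XJ (i : ℕ) : ↥twoJ2 :=
  if h : ∃ g : ↥twoJ2, HasFrame g.1 (frmZ i) then h.choose else 1

theorem XJ_spec {i : ℕ} (hi : i < 6048) : HasFrame (XJ i).1 (frmZ i) := by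
  have hex := exists_frame (dep i) i rfl hi
  unfold XJ
  rw [dif_pos hex]
  exact hex.choose_spec

theorem eq_XJ {g : ↥twoJ2} {i : ℕ} (hi : i < 6048) (hg : HasFrame g.1 (frmZ i)) : g = XJ i :=
  Subtype.ext (hasFrame_unique g.2 (XJ i).2 hg (XJ_spec hi))

theorem famJ : Fam (MonoidHom.id ↥twoJ2) 6048 2 XJ genJ mtb par pj dep where
  one := by
    symm
    apply eq_XJ (by norm_num)
    rw [frmZ_zero]
    exact hasFrame_one
  mul := by
    intro i hi j hj
    exact eq_XJ (mtb_lt hi hj) (hasFrame_genJ hi (XJ_spec hi) hj)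
  mlt := fun i hi j hj => mtb_lt hi hj
  tree := fun i hi h0 => tree hi h0

theorem finite_twoJ2 : Finite ↥twoJ2 :=
  Nat.finite_of_card_ne_zero (by rw [card_twoJ2]; norm_num)

/-- The copy of `U₃(3)` in `2·J₂`. -/
noncomputable abbrev HJ : Subgroup ↥twoJ2 := gens 2 genJ

theorem XJ_ker {i : ℕ} (hi : i < 6048) (h : XJ i = 1) : i = 0 := by
  apply eq_zero_of_frmZ hi
  have h1 := XJ_spec hi
  rw [h] at h1
  have h2 : HasFrame (1 : ↥twoJ2).1 (frmZ 0) := by
    rw [frmZ_zero]; exact hasFrame_one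
  exact frame_unique h1 h2

theorem exists_iso : Nonempty (↥Cfsg.Agent.Lib.Helper61_G22Group.H ≃* ↥HJ) := by
  have := finite_twoJ2
  exact exists_mulEquiv Cfsg.Agent.Lib.Helper61_G22Group.ι₁_inj (fun _ _ h => h)
    Cfsg.Agent.Lib.Helper61_G22Group.fam₁ famJ (by norm_num)
    (fun _ hi _ hi' h => decM_look_inj hi hi' h) (fun _ hi h => XJ_ker hi h)

theorem card_HJ : Nat.card ↥HJ = 6048 := by
  obtain ⟨e⟩ := exists_iso
  rw [← Nat.card_congr e.toEquiv, Cfsg.Agent.Lib.Helper61_G22Group.card_H]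

theorem negOne_not_mem : negOne' ∉ HJ := by
  have := finite_twoJ2
  intro h
  obtain ⟨i, hi, hia⟩ := (mem_gens_iff (ι := MonoidHom.id ↥twoJ2) (fun _ _ h => h) famJ
    (by norm_num) negOne').1 h
  have h1 := XJ_spec hi
  rw [← hia] at h1
  exact frmZ_ne_neg hi (frame_unique h1 hasFrame_negOne)

theorem exists_iso_SU : Nonempty (↥HJ ≃* ↥(Cfsg.SU 3 Cfsg.Agent.Lib.Helper61_F9.F9 3)) := by
  obtain ⟨e⟩ := exists_iso
  obtain ⟨e'⟩ := Cfsg.Agent.Lib.Helper61_G22Group.exists_main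
  exact ⟨e.symm.trans e'⟩

end Cfsg.Agent.Lib.Helper8_U33
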