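import Cfsg.Agent.Lib.Helper8_U33SubChk
import Cfsg.Agent.Lib.Helper8_U33Fam

/-!
# `U₃(3)` in `J₂`: index `100` and the suborbits `36`, `63` (helper8)
-/

set_option autoImplicit false

namespace Cfsg.Agent.Lib.Helper8_U33

open Quaternion Cfsg.Spor Cfsg.Agent.Lib.Helper26_Ico Cfsg.Agent.Lib.Helper8_J2
  Cfsg.Agent.Lib.Helper61_FamilyIso3
open Cfsg.Agent.Lib.Helper61_G22Bridge (allLt allLt_spec)
open scoped Pointwise

/-! ### Sets of listed reflections -/

/-- The set of reflections with indices in a list. -/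
def RS (A : List ℕ) : Set Refl := {r | ∃ n ∈ A, Rn n = r}

/-- The bit mask of a list of indices. -/
def fp (A : List ℕ) : ℕ := A.foldr (fun n acc => Nat.lor acc (Nat.shiftLeft 1 n)) 0

theorem testBit_fp (A : List ℕ) (n : ℕ) : (fp A).testBit n = decide (n ∈ A) := by
  induction A with
  | nil => simp [fp]
  | cons a A ih =>
    have e : fp (a :: A) = fp A ||| (1 <<< a) := rfl
    rw [e, Nat.testBit_or, ih, Nat.one_shiftLeft, Nat.testBit_two_pow]
    by_cases h1 : n ∈ A <;> by_cases h2 : a = n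
    · simp [h1, h2]
    · simp [h1, h2]
    · simp [h1, h2]
    · have h3 : ¬ n = a := fun h => h2 h.symm
      simp [h1, h2, h3]

theorem mem_iff_of_fp {A A' : List ℕ} (h : fp A = fp A') (n : ℕ) : n ∈ A ↔ n ∈ A' := by
  have := congrArg (fun x => x.testBit n) h
  simp only [testBit_fp, decide_eq_decide] at this
  exact this

theorem fp_eq_of_mem_iff {A A' : List ℕ} (h : ∀ n, n ∈ A ↔ n ∈ A') : fp A = fp A' := by
  apply Nat.eq_of_testBit_eq
  intro n
  rw [testBit_fp, testBit_fp, decide_eq_decide]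
  exact h n

theorem RS_congr {A A' : List ℕ} (h : ∀ n, n ∈ A ↔ n ∈ A') : RS A = RS A' := by
  ext r
  constructor
  · rintro ⟨n, hn, rfl⟩; exact ⟨n, (h n).1 hn, rfl⟩
  · rintro ⟨n, hn, rfl⟩; exact ⟨n, (h n).2 hn, rfl⟩

theorem mem_iff_of_RS {A A' : List ℕ} (hA : ∀ n ∈ A, n < 315) (hA' : ∀ n ∈ A', n < 315)
    (h : RS A = RS A') (n : ℕ) : n ∈ A ↔ n ∈ A' := by
  constructor
  · intro hn
    have : Rn n ∈ RS A' := h ▸ (⟨n, hn, rfl⟩ : Rn n ∈ RS A)
    obtain ⟨m, hm, e⟩ := this
    rw [← Rn_inj (hA' m hm) (hA n hn) e]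
    exact hm
  · intro hn
    have : Rn n ∈ RS A := h ▸ (⟨n, hn, rfl⟩ : Rn n ∈ RS A')
    obtain ⟨m, hm, e⟩ := this
    rw [← Rn_inj (hA m hm) (hA' n hn) e]
    exact hm

theorem fp_eq_of_RS {A A' : List ℕ} (hA : ∀ n ∈ A, n < 315) (hA' : ∀ n ∈ A', n < 315)
    (h : RS A = RS A') : fp A = fp A' :=
  fp_eq_of_mem_iff (mem_iff_of_RS hA hA' h)

theorem smul_RS (g : J2) (σ : ℕ → ℕ) (A : List ℕ) (h : ∀ n ∈ A, g • Rn n = Rn (σ n)) :
    g • RS A = RS (A.map σ) := by
  ext r
  rw [Set.mem_smul_set]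
  constructor
  · rintro ⟨y, ⟨n, hn, rfl⟩, rfl⟩
    exact ⟨σ n, List.mem_map.2 ⟨n, hn, rfl⟩, (h n hn).symm⟩
  · rintro ⟨m, hm, rfl⟩
    obtain ⟨n, hn, rfl⟩ := List.mem_map.1 hm
    exact ⟨Rn n, ⟨n, hn, rfl⟩, h n hn⟩

/-- The number of listed reflections. -/
theorem ncard_RS (A : List ℕ) (hA : ∀ n ∈ A, n < 315) : (RS A).ncard = A.toFinset.card := by
  have e : RS A = Rn '' (A.toFinset : Set ℕ) := by
    ext r
    simp only [RS, Set.mem_ofPred_eq, Set.mem_image, Finset.mem_coe, List.mem_toFinset]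
  have hinj : Set.InjOn Rn (A.toFinset : Set ℕ) := by
    intro m hm n hn hmn
    simp only [Finset.mem_coe, List.mem_toFinset] at hm hn
    exact Rn_inj (hA m hm) (hA n hn) hmn
  rw [e, hinj.ncard_image, Set.ncard_coe_finset]

theorem RS_inter (A A' : List ℕ) (hA : ∀ n ∈ A, n < 315) (hA' : ∀ n ∈ A', n < 315) :
    RS A ∩ RS A' = RS (A.filter fun n => decide (n ∈ A')) := by
  ext r
  constructor
  · rintro ⟨⟨n, hn, rfl⟩, ⟨m, hm, e⟩⟩
    have : m = n := Rn_inj (hA' m hm) (hA n hn) e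
    subst this
    exact ⟨m, List.mem_filter.2 ⟨hn, by simpa using hm⟩, rfl⟩
  · rintro ⟨n, hn, rfl⟩
    obtain ⟨h1, h2⟩ := List.mem_filter.1 hn
    exact ⟨⟨n, h1, rfl⟩, ⟨n, by simpa using h2, rfl⟩⟩

/-! ### The subgroup of `J₂` -/

/-- The projection of `2·J₂` onto `J₂`. -/
noncomputable def πJ : ↥twoJ2 →* J2 := QuotientGroup.mk' (Subgroup.center ↥twoJ2)

/-- The copy of `U₃(3)` in `J₂`. -/
noncomputable def HU : Subgroup J2 := HJ.map πJ

/-- The images of the two generators. -/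
noncomputable def aJ : J2 := wordJ [1, 2]
noncomputable def bJ : J2 := wordJ [0, 1, 2, 212, 105, 111]

theorem genJ_zero : genJ 0 = genA := rfl
theorem genJ_one : genJ 1 = genB := rfl

theorem πJ_genA : πJ genA = aJ := rfl
theorem πJ_genB : πJ genB = bJ := rfl

theorem aJ_mem : aJ ∈ HU :=
  ⟨genA, genJ_zero ▸ gen_mem (r := 2) (gen := genJ) (j := 0) (by norm_num), rfl⟩

theorem bJ_mem : bJ ∈ HU :=
  ⟨genB, genJ_one ▸ gen_mem (r := 2) (gen := genJ) (j := 1) (by norm_num), rfl⟩

theorem eq_one_of_πJ {x : ↥twoJ2} (hx : x ∈ HJ) (h : πJ x = 1) : x = 1 := by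
  have hc : x ∈ Subgroup.center ↥twoJ2 := (QuotientGroup.eq_one_iff x).1 h
  have hc' : x ∈ ({1, negOne'} : Set ↥twoJ2) := by rw [← center_eq]; exact hc
  rcases hc' with h1 | h1
  · exact h1
  · rw [Set.mem_singleton_iff] at h1
    rw [h1] at hx
    exact absurd hx negOne_not_mem

/-- `HU` is isomorphic to its preimage `HJ`. -/
theorem exists_equivHU : Nonempty (↥HJ ≃* ↥HU) := by
  show Nonempty (↥HJ ≃* ↥(HJ.map πJ))
  have hinj : Function.Injective (πJ.subgroupMap HJ) := by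
    rw [injective_iff_map_eq_one]
    intro x hx
    apply Subtype.ext
    have : πJ x.1 = 1 := congrArg Subtype.val hx
    rw [eq_one_of_πJ x.2 this]
    rfl
  exact ⟨MulEquiv.ofBijective (πJ.subgroupMap HJ) ⟨hinj, πJ.subgroupMap_surjective HJ⟩⟩

theorem card_HU : Nat.card ↥HU = 6048 := by
  obtain ⟨e⟩ := exists_equivHU
  rw [← Nat.card_congr e.toEquiv, card_HJ]

theorem card_J2 : Nat.card J2 = 604800 := by
  have h := Subgroup.card_eq_card_quotient_mul_card_subgroup (Subgroup.center ↥twoJ2)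
  rw [card_twoJ2, card_center] at h
  show Nat.card (↥twoJ2 ⧸ Subgroup.center ↥twoJ2) = 604800
  omega

theorem finite_J2 : Finite J2 := Nat.finite_of_card_ne_zero (by rw [card_J2]; norm_num)

theorem index_HU : HU.index = 100 := by
  have h := Subgroup.card_mul_index HU
  rw [card_HU, card_J2] at h
  omega

/-! ### The line permutations of the generators -/

def σA (n : ℕ) : ℕ := (certA.getD n (0, 0)).1
def σB (n : ℕ) : ℕ := (certB.getD n (0, 0)).1
def σX1 (n : ℕ) : ℕ := (certX1.getD n (0, 0)).1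
def σX2 (n : ℕ) : ℕ := (certX2.getD n (0, 0)).1

theorem aJ_smul {n : ℕ} (hn : n < 315) : σA n < 315 ∧ aJ • Rn n = Rn (σA n) := by
  have h := allLt_spec _ _ certA_ok n hn
  obtain ⟨-, h1, h2⟩ := entryOK_sound (wd := [1, 2]) (by decide) h
  exact ⟨h1, h2⟩

theorem bJ_smul {n : ℕ} (hn : n < 315) : σB n < 315 ∧ bJ • Rn n = Rn (σB n) := by
  have h := allLt_spec _ _ certB_ok n hn
  obtain ⟨-, h1, h2⟩ := entryOK_sound (wd := [0, 1, 2, 212, 105, 111]) (by decide) h
  exact ⟨h1, h2⟩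

/-- The two elements moving the base coset into the two suborbits. -/
noncomputable def x1 : J2 := wordJ [5, 28]
noncomputable def x2 : J2 := wordJ [5]

theorem x1_smul {n : ℕ} (hn : n ∈ L63) : σX1 n < 315 ∧ x1 • Rn n = Rn (σX1 n) := by
  have h := List.all_eq_true.1 certX1_ok n hn
  obtain ⟨-, h1, h2⟩ := entryOK_sound (wd := [5, 28]) (by decide) h
  exact ⟨h1, h2⟩

theorem x2_smul {n : ℕ} (hn : n ∈ L63) : σX2 n < 315 ∧ x2 • Rn n = Rn (σX2 n) := by
  have h := List.all_eq_true.1 certX2_ok n hn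
  obtain ⟨-, h1, h2⟩ := entryOK_sound (wd := [5]) (by decide) h
  exact ⟨h1, h2⟩

/-! ### The set of reflections of the subgroup -/

/-- The `63` reflections stabilised by the subgroup. -/
noncomputable def oS : Set Refl := RS L63

theorem L63_lt : ∀ n ∈ L63, n < 315 := by decide

theorem aJ_stab : aJ • oS = oS := by
  unfold oS
  rw [smul_RS aJ σA L63 (fun n hn => (aJ_smul (L63_lt n hn)).2)]
  exact RS_congr (mem_iff_of_fp (by decide +kernel))

theorem bJ_stab : bJ • oS = oS := by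
  unfold oS
  rw [smul_RS bJ σB L63 (fun n hn => (bJ_smul (L63_lt n hn)).2)]
  exact RS_congr (mem_iff_of_fp (by decide +kernel))

theorem HU_stab {h : J2} (hh : h ∈ HU) : h • oS = oS := by
  obtain ⟨g, hg, rfl⟩ := hh
  induction hg using Subgroup.closure_induction with
  | mem x hx =>
    obtain ⟨j, hj, rfl⟩ := hx
    have hj' : j = 0 ∨ j = 1 := by
      have : j < 2 := hj
      omega
    rcases hj' with rfl | rfl
    · exact aJ_stab
    · exact bJ_stab
  | one => rw [map_one, one_smul]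
  | mul x y _ _ hx hy => rw [map_mul, mul_smul, hy, hx]
  | inv x _ hx => rw [map_inv, inv_smul_eq_iff, hx]

theorem smul_oS_of_mk_eq {x y : J2}
    (h : (QuotientGroup.mk x : J2 ⧸ HU) = QuotientGroup.mk y) : x • oS = y • oS := by
  have e := HU_stab (QuotientGroup.eq.1 h)
  rw [mul_smul, inv_smul_eq_iff] at e
  exact e.symm

/-! ### Words in the generators -/

/-- The generators as a sequence. -/
noncomputable def genU (j : ℕ) : J2 := if j = 0 then aJ else bJ

/-- The line permutations of the generators. -/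
def σG (j : ℕ) : ℕ → ℕ := if j = 0 then σA else σB

theorem genU_mem (j : ℕ) : genU j ∈ HU := by
  unfold genU
  split_ifs
  · exact aJ_mem
  · exact bJ_mem

theorem genU_smul (j : ℕ) {n : ℕ} (hn : n < 315) : σG j n < 315 ∧ genU j • Rn n = Rn (σG j n) := by
  unfold genU σG
  split_ifs
  · exact aJ_smul hn
  · exact bJ_smul hn

/-- The element of a word in the generators. -/
noncomputable def elemW (w : List ℕ) : J2 := (w.map genU).prod

/-- The action of a word in the generators on lists of line indices. -/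
def applyW (w : List ℕ) (A : List ℕ) : List ℕ := w.foldr (fun j acc => acc.map (σG j)) A

theorem elemW_mem (w : List ℕ) : elemW w ∈ HU := by
  apply Subgroup.list_prod_mem
  intro x hx
  obtain ⟨j, -, rfl⟩ := List.mem_map.1 hx
  exact genU_mem j

theorem elemW_smul (w : List ℕ) (A : List ℕ) (hA : ∀ n ∈ A, n < 315) :
    (∀ n ∈ applyW w A, n < 315) ∧ elemW w • RS A = RS (applyW w A) := by
  induction w with
  | nil => exact ⟨hA, one_smul _ _⟩
  | cons j w ih =>
    obtain ⟨h1, h2⟩ := ih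
    constructor
    · intro n hn
      obtain ⟨m, hm, rfl⟩ := List.mem_map.1 hn
      exact (genU_smul j (h1 m hm)).1
    · have e : elemW (j :: w) = genU j * elemW w := by simp [elemW]
      rw [e, mul_smul, h2]
      exact smul_RS (genU j) (σG j) _ (fun n hn => (genU_smul j (h1 n hn)).2)

/-! ### Lower bounds for the orbits -/

theorem finite_quot : Finite (J2 ⧸ HU) := by
  have := finite_J2
  infer_instance

theorem orbit_lower (x : J2) (A : List ℕ) (hA : ∀ n ∈ A, n < 315) (hx : x • oS = RS A)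
    (W : List (List ℕ)) (hnd : (W.map fun w => fp (applyW w A)).Nodup) :
    W.length ≤ (MulAction.orbit ↥HU (QuotientGroup.mk x : J2 ⧸ HU)).ncard := by
  have := finite_quot
  let F : List ℕ → J2 ⧸ HU := fun w => QuotientGroup.mk (elemW w * x)
  have hsub : F '' (W.toFinset : Set (List ℕ)) ⊆
      MulAction.orbit ↥HU (QuotientGroup.mk x : J2 ⧸ HU) := by
    rintro c ⟨w, -, rfl⟩
    exact ⟨⟨elemW w, elemW_mem w⟩, rfl⟩
  have hinj : Set.InjOn F (W.toFinset : Set (List ℕ)) := by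
    intro w hw w' hw' hFF
    simp only [Finset.mem_coe, List.mem_toFinset] at hw hw'
    have e := smul_oS_of_mk_eq hFF
    rw [mul_smul, mul_smul, hx, (elemW_smul w A hA).2, (elemW_smul w' A hA).2] at e
    have e' := fp_eq_of_RS (elemW_smul w A hA).1 (elemW_smul w' A hA).1 e
    exact List.inj_on_of_nodup_map hnd hw hw' e'
  calc W.length = W.toFinset.card := (List.toFinset_card_of_nodup (List.Nodup.of_map _ hnd)).symm
    _ = (F '' (W.toFinset : Set (List ℕ))).ncard := by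
        rw [hinj.ncard_image, Set.ncard_coe_finset]
    _ ≤ _ := Set.ncard_le_ncard hsub (Set.toFinite _)

/-! ### An invariant of the orbits -/

/-- The number of reflections shared with the base set. -/
noncomputable def invS (S : Set Refl) : ℕ := (S ∩ oS).ncard

theorem invS_smul {h : J2} (hh : h ∈ HU) (S : Set Refl) : invS (h • S) = invS S := by
  unfold invS
  have e : h • S ∩ oS = h • (S ∩ oS) := by rw [Set.smul_set_inter, HU_stab hh]
  rw [e, ← Set.image_smul, Set.ncard_image_of_injective _ (MulAction.injective h)]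

theorem invS_RS (A : List ℕ) (hA : ∀ n ∈ A, n < 315) :
    invS (RS A) = (A.filter fun n => decide (n ∈ L63)).toFinset.card := by
  unfold invS oS
  rw [RS_inter A L63 hA L63_lt, ncard_RS]
  intro n hn
  exact hA n (List.mem_filter.1 hn).1

theorem orbit_disjoint (x y : J2) (hne : invS (x • oS) ≠ invS (y • oS)) :
    Disjoint (MulAction.orbit ↥HU (QuotientGroup.mk x : J2 ⧸ HU))
      (MulAction.orbit ↥HU (QuotientGroup.mk y : J2 ⧸ HU)) := by
  rw [Set.disjoint_left]
  rintro c ⟨h, rfl⟩ ⟨h', e⟩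
  apply hne
  have e1 : (QuotientGroup.mk ((h' : J2) * y) : J2 ⧸ HU) = QuotientGroup.mk ((h : J2) * x) := e
  have e2 := smul_oS_of_mk_eq e1
  rw [mul_smul, mul_smul] at e2
  rw [← invS_smul h.2 (x • oS), ← e2, invS_smul h'.2]

/-! ### The two suborbits -/

def A1 : List ℕ := L63.map σX1
def A2 : List ℕ := L63.map σX2

theorem A1_lt : ∀ n ∈ A1, n < 315 := by
  intro n hn
  obtain ⟨m, hm, rfl⟩ := List.mem_map.1 hn
  exact (x1_smul hm).1

theorem A2_lt : ∀ n ∈ A2, n < 315 := by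
  intro n hn
  obtain ⟨m, hm, rfl⟩ := List.mem_map.1 hn
  exact (x2_smul hm).1

theorem x1_oS : x1 • oS = RS A1 := smul_RS x1 σX1 L63 (fun _ hn => (x1_smul hn).2)

theorem x2_oS : x2 • oS = RS A2 := smul_RS x2 σX2 L63 (fun _ hn => (x2_smul hn).2)

theorem nodup1 : (W1.map fun w => fp (applyW w A1)).Nodup := by decide +kernel

theorem nodup2 : (W2.map fun w => fp (applyW w A2)).Nodup := by decide +kernel

theorem inv0 : invS ((1 : J2) • oS) = 63 := by
  rw [one_smul]
  unfold oS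
  rw [invS_RS L63 L63_lt]
  decide +kernel

theorem inv1 : invS (x1 • oS) = 21 := by
  rw [x1_oS, invS_RS A1 A1_lt]
  decide +kernel

theorem inv2 : invS (x2 • oS) = 7 := by
  rw [x2_oS, invS_RS A2 A2_lt]
  decide +kernel

/-- The suborbits of lengths `36` and `63`. -/
theorem orbit_ncards :
    (MulAction.orbit ↥HU (QuotientGroup.mk x1 : J2 ⧸ HU)).ncard = 36 ∧
      (MulAction.orbit ↥HU (QuotientGroup.mk x2 : J2 ⧸ HU)).ncard = 63 := by
  have := finite_quot
  set O0 := MulAction.orbit ↥HU (QuotientGroup.mk (1 : J2) : J2 ⧸ HU) with hO0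
  set O1 := MulAction.orbit ↥HU (QuotientGroup.mk x1 : J2 ⧸ HU) with hO1
  set O2 := MulAction.orbit ↥HU (QuotientGroup.mk x2 : J2 ⧸ HU) with hO2
  have l1 : 36 ≤ O1.ncard := orbit_lower x1 A1 A1_lt x1_oS W1 nodup1
  have l2 : 63 ≤ O2.ncard := orbit_lower x2 A2 A2_lt x2_oS W2 nodup2
  have l0 : 1 ≤ O0.ncard := by
    rw [Nat.one_le_iff_ne_zero]
    exact Set.ncard_ne_zero_of_mem (MulAction.mem_orbit_self _) (Set.toFinite _)
  have d01 : Disjoint O0 O1 := orbit_disjoint 1 x1 (by rw [inv0, inv1]; norm_num)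
  have d02 : Disjoint O0 O2 := orbit_disjoint 1 x2 (by rw [inv0, inv2]; norm_num)
  have d12 : Disjoint O1 O2 := orbit_disjoint x1 x2 (by rw [inv1, inv2]; norm_num)
  have hu : (O0 ∪ O1 ∪ O2).ncard = O0.ncard + O1.ncard + O2.ncard := by
    rw [Set.ncard_union_eq (Set.disjoint_union_left.2 ⟨d02, d12⟩) (Set.toFinite _) (Set.toFinite _),
      Set.ncard_union_eq d01 (Set.toFinite _) (Set.toFinite _)]
  have hle : (O0 ∪ O1 ∪ O2).ncard ≤ 100 := by
    have h1 := Set.ncard_le_ncard (Set.subset_univ (O0 ∪ O1 ∪ O2)) (Set.toFinite _)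
    rw [Set.ncard_univ] at h1
    have h2 : Nat.card (J2 ⧸ HU) = 100 := index_HU
    omega
  omega

end Cfsg.Agent.Lib.Helper8_U33
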