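import Mathlib

/-!
# Data for the suborbits of `U₃(3)` on the cosets in `J₂` (helper8)

* `L63`: the lines whose reflections lie in the subgroup.
* `certA`, `certB`: for each line `n < 315`, the image line and the index of the unit multiplier under
  the two generators (words `[1, 2]` and `[0, 1, 2, 212, 105, 111]`).
* `certX1`, `certX2`: the same for the words `[5, 28]` and `[5]`, on the lines of `L63` only (dummy
  entries `(0, 0)` elsewhere).
* `W1`, `W2`: words in the generators reaching the `36` and `63` translates.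
-/

set_option autoImplicit false

namespace Cfsg.Agent.Lib.Helper8_U33

def L63 : List ℕ := [0, 1, 2, 3, 4, 9, 10, 11, 12, 17, 18, 19, 20, 25, 26, 27, 29, 32, 34, 35, 36, 41, 42, 53, 54, 55, 56, 83, 85, 88, 90, 123, 125, 128, 130, 157, 158, 159, 160, 171, 172, 177, 178, 179, 181, 184, 186, 187, 188, 193, 194, 205, 206, 207, 208, 261, 262, 263, 264, 275, 276, 281, 282]

def certA : List (ℕ × ℕ) := [(0, 119), (1, 0), (2, 0), (3, 0), (4, 0), (5, 0), (6, 0), (7, 0), (8, 0), (9, 0), (10, 0), (18, 119), (17, 119), (16, 119), (15, 119), (14, 119), (13, 119), (12, 119), (11, 119), (26, 119), (25, 119), (24, 119), (23, 119), (22, 119), (21, 119), (20, 119), (19, 119), (186, 119), (185, 119), (184, 119), (183, 119), (182, 119), (181, 119), (180, 119), (179, 119), (178, 119), (177, 119), (176, 119), (175, 119), (174, 119), (173, 119), (172, 119), (171, 119), (170, 119), (169, 119), (168, 119), (167, 119), (166, 119),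 (165, 119), (164, 119), (163, 119), (162, 119), (161, 119), (160, 119), (159, 119), (158, 119), (157, 119), (156, 119), (155, 119), (154, 119), (153, 119), (152, 119), (151, 119), (150, 119), (149, 119), (148, 119), (147, 119), (146, 119), (145, 119), (144, 119), (143, 119), (142, 119), (141, 119), (140, 119), (139, 119), (138, 119), (137, 119), (136, 119), (135, 119), (134, 119), (133, 119), (132, 119), (131, 119), (130, 119), (129, 119), (128, 119), (127, 119), (126, 119), (125, 119), (124, 119), (123, 119), (122, 119), (121, 119), (120, 119), (119, 119), (118, 119), (117, 119), (116, 119), (115, 119), (114, 119), (113, 119), (112, 119), (111, 119), (110, 119), (109, 119), (108, 119), (107, 119), (106, 119), (105, 119), (104, 119), (103, 119), (102, 119), (101, 119), (100, 119), (99, 119), (98, 119), (97, 119), (96, 119), (95, 119), (94, 119), (93, 119), (92, 119), (91, 119), (90, 119), (89, 119), (88, 119),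 (87, 119), (86, 119), (85, 119), (84, 119), (83, 119), (82, 119), (81, 119), (80, 119), (79, 119), (78, 119), (77, 119), (76, 119), (75, 119), (74, 119), (73, 119), (72, 119), (71, 119), (70, 119), (69, 119), (68, 119), (67, 119), (66, 119), (65, 119), (64, 119), (63, 119), (62, 119), (61, 119), (60, 119), (59, 119), (58, 119), (57, 119), (56, 119), (55, 119), (54, 119), (53, 119), (52, 119), (51, 119), (50, 119), (49, 119), (48, 119), (47, 119), (46, 119), (45, 119), (44, 119), (43, 119), (42, 119), (41, 119), (40, 119), (39, 119), (38, 119), (37, 119), (36, 119), (35, 119), (34, 119), (33, 119), (32, 119), (31, 119), (30, 119), (29, 119), (28, 119), (27, 119), (281, 0), (282, 0), (279, 0), (280, 0), (277, 0), (278, 0), (275, 0), (276, 0), (273, 0), (274, 0), (271, 0), (272, 0), (269, 0), (270, 0), (267, 0), (268, 0), (265, 0), (266, 0), (263, 0), (264, 0), (261, 0), (262, 0), (259, 0), (260, 0), (257, 0),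 (258, 0), (255, 0), (256, 0), (253, 0), (254, 0), (251, 0), (252, 0), (249, 0), (250, 0), (247, 0), (248, 0), (245, 0), (246, 0), (243, 0), (244, 0), (241, 0), (242, 0), (239, 0), (240, 0), (237, 0), (238, 0), (235, 0), (236, 0), (233, 0), (234, 0), (231, 0), (232, 0), (229, 0), (230, 0), (227, 0), (228, 0), (225, 0), (226, 0), (223, 0), (224, 0), (221, 0), (222, 0), (219, 0), (220, 0), (217, 0), (218, 0), (215, 0), (216, 0), (213, 0), (214, 0), (211, 0), (212, 0), (209, 0), (210, 0), (207, 0), (208, 0), (205, 0), (206, 0), (203, 0), (204, 0), (201, 0), (202, 0), (199, 0), (200, 0), (197, 0), (198, 0), (195, 0), (196, 0), (193, 0), (194, 0), (191, 0), (192, 0), (189, 0), (190, 0), (187, 0), (188, 0), (313, 0), (314, 0), (311, 0), (312, 0), (309, 0), (310, 0), (307, 0), (308, 0), (305, 0), (306, 0), (303, 0), (304, 0), (301, 0), (302, 0), (299, 0), (300, 0), (297, 0), (298, 0), (295, 0), (296, 0), (293, 0),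 (294, 0), (291, 0), (292, 0), (289, 0), (290, 0), (287, 0), (288, 0), (285, 0), (286, 0), (283, 0), (284, 0)]

def certB : List (ℕ × ℕ) := [(184, 46), (36, 109), (188, 46), (205, 65), (19, 64), (291, 114), (201, 53), (49, 37), (285, 7), (181, 96), (53, 50), (12, 115), (123, 54), (118, 18), (236, 47), (252, 116), (266, 71), (276, 92), (178, 77), (85, 80), (282, 77), (132, 47), (162, 71), (98, 100), (148, 116), (4, 115), (172, 92), (11, 69), (231, 32), (27, 108), (209, 68), (116, 27), (275, 70), (215, 37), (42, 45), (171, 70), (20, 38), (302, 45), (256, 47), (77, 76), (225, 15), (32, 46), (17, 30), (217, 29), (142, 2), (93, 13), (308, 88), (240, 37), (40, 25), (86, 57), (293, 75), (30, 24), (119, 1), (83, 70), (56, 0), (3, 69), (207, 70), (67, 93), (139, 63), (108, 25), (199, 59), (273, 25), (38, 100), (303, 3), (43, 44), (33, 78), (235, 113), (204, 1), (164, 46), (237, 23), (284, 101), (79, 32), (70, 76), (94,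 110), (46, 4), (195, 44), (101, 48), (277, 88), (47, 59), (313, 47), (169, 25), (28, 41), (251, 111), (208, 0), (198, 4), (0, 46), (224, 3), (246, 2), (9, 30), (272, 1), (262, 45), (91, 115), (45, 110), (247, 37), (289, 75), (296, 53), (73, 15), (268, 46), (23, 18), (219, 93), (189, 89), (242, 101), (136, 37), (196, 88), (310, 45), (133, 23), (76, 50), (243, 63), (257, 58), (200, 77), (192, 25), (150, 76), (152, 47), (299, 101), (59, 87), (31, 95), (13, 100), (214, 69), (124, 38), (210, 80), (229, 76), (52, 1), (265, 110), (128, 109), (115, 83), (177, 46), (81, 90), (65, 29), (29, 73), (51, 36), (41, 10), (131, 113), (21, 2), (105, 88), (190, 100), (287, 109), (106, 75), (290, 3), (39, 65), (203, 36), (168, 1), (63, 37), (249, 53), (37, 89), (153, 58), (5, 100), (197, 110), (147, 111), (24, 71), (191, 65), (111, 35), (298, 47), (114, 54), (295, 109), (173, 88), (228, 50), (211, 87), (194, 45), (160, 46), (193,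 10), (158, 45), (161, 110), (22, 47), (58, 80), (309, 53), (44, 88), (254, 76), (57, 68), (300, 79), (233, 90), (72, 3), (281, 46), (1, 46), (62, 69), (143, 37), (138, 101), (48, 77), (34, 11), (130, 45), (55, 70), (222, 76), (88, 119), (314, 79), (304, 88), (25, 26), (145, 53), (264, 46), (187, 10), (2, 70), (100, 56), (134, 26), (149, 118), (110, 95), (159, 119), (157, 49), (241, 82), (99, 28), (306, 30), (180, 102), (258, 50), (107, 62), (87, 114), (283, 44), (297, 66), (288, 31), (90, 109), (263, 45), (206, 108), (186, 119), (16, 107), (122, 71), (156, 81), (227, 48), (230, 108), (117, 114), (15, 9), (82, 43), (250, 87), (166, 89), (104, 84), (135, 59), (271, 48), (8, 96), (202, 48), (182, 101), (278, 106), (137, 56), (212, 108), (155, 112), (120, 38), (213, 2), (14, 99), (66, 32), (69, 114), (269, 100), (216, 48), (126, 52), (286, 7), (71, 23), (175, 110), (226, 76), (220, 57), (102, 61), (113, 111),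 (151, 6), (50, 71), (183, 100), (95, 109), (267, 100), (294, 95), (253, 100), (232, 2), (127, 7), (292, 5), (141, 96), (144, 52), (280, 45), (112, 115), (244, 91), (163, 101), (167, 77), (54, 11), (179, 45), (261, 108), (10, 38), (121, 69), (129, 37), (301, 79), (96, 52), (238, 76), (170, 80), (312, 89), (185, 99), (255, 87), (174, 33), (18, 54), (125, 11), (239, 45), (307, 71), (274, 103), (154, 111), (35, 109), (26, 35), (245, 78), (311, 31), (84, 8), (80, 20), (75, 9), (260, 54), (97, 39), (78, 49), (89, 51), (64, 9), (223, 41), (305, 44), (61, 20), (92, 6), (259, 75), (60, 49), (109, 0), (68, 39), (74, 8), (279, 48), (218, 113), (6, 2), (165, 4), (221, 88), (176, 0), (248, 25), (140, 51), (103, 4), (270, 35), (146, 6), (234, 111), (7, 71)]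

def certX1 : List (ℕ × ℕ) := [(40, 119), (174, 119), (13, 46), (107, 73), (236, 41), (0, 0), (0, 0), (0, 0), (0, 0), (254, 41), (264, 41), (99, 73), (233, 78), (0, 0), (0, 0), (0, 0), (0, 0), (215, 78), (205, 78), (1, 78), (162, 96), (0, 0), (0, 0), (0, 0), (0, 0), (52, 42), (16, 119), (145, 61), (0, 0), (163, 59), (0, 0), (0, 0), (49, 60), (0, 0), (67, 58), (172, 76), (73, 91), (0, 0), (0, 0), (0, 0), (0, 0), (157, 56), (142, 104), (0, 0), (0, 0), (0, 0), (0, 0), (0, 0), (0, 0), (0, 0), (0, 0), (0, 0), (0, 0), (53, 68), (44, 111), (167, 82), (178, 97), (0, 0), (0, 0), (0, 0), (0, 0), (0, 0), (0, 0), (0, 0), (0, 0), (0, 0), (0, 0), (0, 0), (0, 0), (0, 0), (0, 0), (0, 0), (0, 0), (0, 0), (0, 0), (0, 0), (0, 0), (0, 0), (0, 0), (0, 0), (0, 0), (0, 0), (0, 0), (240, 48), (0, 0), (122, 90), (0, 0), (0, 0), (281, 48), (0, 0), (255, 48), (0, 0), (0, 0), (0, 0), (0, 0), (0, 0), (0, 0), (0, 0), (0, 0), (0, 0), (0,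 0), (0, 0), (0, 0), (0, 0), (0, 0), (0, 0), (0, 0), (0, 0), (0, 0), (0, 0), (0, 0), (0, 0), (0, 0), (0, 0), (0, 0), (0, 0), (0, 0), (0, 0), (0, 0), (0, 0), (0, 0), (0, 0), (0, 0), (98, 83), (0, 0), (214, 9), (0, 0), (0, 0), (229, 9), (0, 0), (188, 9), (0, 0), (0, 0), (0, 0), (0, 0), (0, 0), (0, 0), (0, 0), (0, 0), (0, 0), (0, 0), (0, 0), (0, 0), (0, 0), (0, 0), (0, 0), (0, 0), (0, 0), (0, 0), (0, 0), (0, 0), (0, 0), (0, 0), (0, 0), (0, 0), (0, 0), (0, 0), (228, 5), (217, 5), (184, 106), (268, 106), (0, 0), (0, 0), (0, 0), (0, 0), (0, 0), (0, 0), (0, 0), (0, 0), (0, 0), (0, 0), (125, 113), (222, 31), (0, 0), (0, 0), (0, 0), (0, 0), (231, 33), (258, 33), (12, 87), (0, 0), (11, 33), (0, 0), (0, 0), (18, 91), (0, 0), (17, 37), (42, 76), (139, 91), (0, 0), (0, 0), (0, 0), (0, 0), (55, 56), (72, 104), (0, 0), (0, 0), (0, 0), (0, 0), (0, 0), (0, 0), (0, 0), (0, 0), (0, 0), (0, 0), (159, 68), (170, 111), (45, 82),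 (36, 97), (0, 0), (0, 0), (0, 0), (0, 0), (0, 0), (0, 0), (0, 0), (0, 0), (0, 0), (0, 0), (0, 0), (0, 0), (0, 0), (0, 0), (0, 0), (0, 0), (0, 0), (0, 0), (0, 0), (0, 0), (0, 0), (0, 0), (0, 0), (0, 0), (0, 0), (0, 0), (0, 0), (0, 0), (0, 0), (0, 0), (0, 0), (0, 0), (0, 0), (0, 0), (0, 0), (0, 0), (0, 0), (0, 0), (0, 0), (0, 0), (0, 0), (0, 0), (0, 0), (0, 0), (0, 0), (0, 0), (0, 0), (0, 0), (0, 0), (0, 0), (0, 0), (0, 0), (241, 114), (252, 114), (32, 106), (201, 13), (0, 0), (0, 0), (0, 0), (0, 0), (0, 0), (0, 0), (0, 0), (0, 0), (0, 0), (0, 0), (85, 113), (247, 88), (0, 0), (0, 0), (0, 0), (0, 0), (238, 86), (211, 86), (0, 0), (0, 0), (0, 0), (0, 0), (0, 0), (0, 0), (0, 0), (0, 0), (0, 0), (0, 0), (0, 0), (0, 0), (0, 0), (0, 0), (0, 0), (0, 0), (0, 0), (0, 0), (0, 0), (0, 0), (0, 0), (0, 0), (0, 0), (0, 0), (0, 0), (0, 0), (0, 0), (0, 0), (0, 0), (0, 0), (0, 0), (0, 0)]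

def certX2 : List (ℕ × ℕ) := [(0, 119), (2, 60), (1, 59), (10, 69), (9, 54), (0, 0), (0, 0), (0, 0), (0, 0), (4, 65), (3, 50), (24, 119), (22, 119), (0, 0), (0, 0), (0, 0), (0, 0), (23, 119), (21, 119), (13, 119), (15, 119), (0, 0), (0, 0), (0, 0), (0, 0), (14, 119), (16, 119), (67, 119), (0, 0), (49, 119), (0, 0), (0, 0), (163, 119), (0, 0), (145, 119), (94, 119), (118, 119), (0, 0), (0, 0), (0, 0), (0, 0), (111, 119), (103, 119), (0, 0), (0, 0), (0, 0), (0, 0), (0, 0), (0, 0), (0, 0), (0, 0), (0, 0), (0, 0), (113, 119), (105, 119), (92, 119), (116, 119), (0, 0), (0, 0), (0, 0), (0, 0), (0, 0), (0, 0), (0, 0), (0, 0), (0, 0), (0, 0), (0, 0), (0, 0), (0, 0), (0, 0), (0, 0), (0, 0), (0, 0), (0, 0), (0, 0), (0, 0), (0, 0), (0, 0), (0, 0), (0, 0), (0, 0), (0, 0), (144, 119), (0, 0), (166, 119), (0, 0), (0, 0), (48, 119), (0, 0), (70, 119), (0, 0), (0, 0), (0, 0), (0, 0), (0, 0), (0, 0), (0, 0), (0, 0), (0, 0),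 (0, 0), (0, 0), (0, 0), (0, 0), (0, 0), (0, 0), (0, 0), (0, 0), (0, 0), (0, 0), (0, 0), (0, 0), (0, 0), (0, 0), (0, 0), (0, 0), (0, 0), (0, 0), (0, 0), (0, 0), (0, 0), (0, 0), (0, 0), (143, 119), (0, 0), (165, 119), (0, 0), (0, 0), (47, 119), (0, 0), (69, 119), (0, 0), (0, 0), (0, 0), (0, 0), (0, 0), (0, 0), (0, 0), (0, 0), (0, 0), (0, 0), (0, 0), (0, 0), (0, 0), (0, 0), (0, 0), (0, 0), (0, 0), (0, 0), (0, 0), (0, 0), (0, 0), (0, 0), (0, 0), (0, 0), (0, 0), (0, 0), (97, 119), (121, 119), (108, 119), (100, 119), (0, 0), (0, 0), (0, 0), (0, 0), (0, 0), (0, 0), (0, 0), (0, 0), (0, 0), (0, 0), (110, 119), (102, 119), (0, 0), (0, 0), (0, 0), (0, 0), (95, 119), (119, 119), (68, 119), (0, 0), (50, 119), (0, 0), (0, 0), (164, 119), (0, 0), (146, 119), (272, 58), (197, 61), (0, 0), (0, 0), (0, 0), (0, 0), (226, 60), (243, 59), (0, 0), (0, 0), (0, 0), (0, 0), (0, 0), (0, 0), (0, 0), (0, 0), (0, 0), (0, 0), (196, 60),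 (273, 59), (224, 58), (245, 61), (0, 0), (0, 0), (0, 0), (0, 0), (0, 0), (0, 0), (0, 0), (0, 0), (0, 0), (0, 0), (0, 0), (0, 0), (0, 0), (0, 0), (0, 0), (0, 0), (0, 0), (0, 0), (0, 0), (0, 0), (0, 0), (0, 0), (0, 0), (0, 0), (0, 0), (0, 0), (0, 0), (0, 0), (0, 0), (0, 0), (0, 0), (0, 0), (0, 0), (0, 0), (0, 0), (0, 0), (0, 0), (0, 0), (0, 0), (0, 0), (0, 0), (0, 0), (0, 0), (0, 0), (0, 0), (0, 0), (0, 0), (0, 0), (0, 0), (0, 0), (0, 0), (0, 0), (246, 58), (223, 61), (274, 60), (195, 59), (0, 0), (0, 0), (0, 0), (0, 0), (0, 0), (0, 0), (0, 0), (0, 0), (0, 0), (0, 0), (244, 60), (225, 59), (0, 0), (0, 0), (0, 0), (0, 0), (198, 58), (271, 61), (0, 0), (0, 0), (0, 0), (0, 0), (0, 0), (0, 0), (0, 0), (0, 0), (0, 0), (0, 0), (0, 0), (0, 0), (0, 0), (0, 0), (0, 0), (0, 0), (0, 0), (0, 0), (0, 0), (0, 0), (0, 0), (0, 0), (0, 0), (0, 0), (0, 0), (0, 0), (0, 0), (0, 0), (0, 0), (0, 0), (0, 0), (0, 0)]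

def W1 : List (List ℕ) := [[], [0], [1], [1, 0], [1, 1], [0, 1, 0], [1, 1, 0], [0, 1, 1], [1, 1, 1], [1, 0, 1, 0], [0, 1, 1, 0], [1, 0, 1, 1], [0, 1, 1, 1], [1, 1, 1, 1], [0, 1, 0, 1, 0], [1, 1, 0, 1, 0], [1, 0, 1, 1, 0], [1, 1, 0, 1, 1], [1, 0, 1, 1, 1], [0, 1, 1, 1, 1], [1, 1, 1, 1, 1], [1, 0, 1, 0, 1, 0], [1, 1, 0, 1, 1, 0], [0, 1, 1, 0, 1, 1], [1, 1, 1, 0, 1, 1], [1, 1, 0, 1, 1, 1], [1, 0, 1, 1, 1, 1], [0, 1, 0, 1, 0, 1, 0], [0, 1, 1, 0, 1, 1, 0], [1, 1, 1, 1, 0, 1, 1], [0, 1, 0, 1, 1, 1, 1], [1, 1, 0, 1, 1, 1, 1], [1, 0, 1, 0, 1, 0, 1, 0], [1, 0, 1, 1, 0, 1, 1, 0], [1, 1, 1, 0, 1, 1, 1, 1], [0, 1, 0, 1, 1, 0, 1, 1, 0]]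

def W2 : List (List ℕ) := [[], [1], [0, 1], [1, 1], [1, 0, 1], [0, 1, 1], [1, 1, 1], [0, 1, 0, 1], [1, 1, 0, 1], [1, 0, 1, 1], [1, 1, 1, 1], [1, 0, 1, 0, 1], [0, 1, 1, 0, 1], [1, 1, 1, 0, 1], [0, 1, 0, 1, 1], [1, 1, 0, 1, 1], [1, 1, 1, 1, 1], [0, 1, 0, 1, 0, 1], [1, 1, 0, 1, 0, 1], [1, 0, 1, 1, 0, 1], [0, 1, 1, 1, 0, 1], [1, 1, 1, 1, 0, 1], [1, 0, 1, 0, 1, 1], [1, 1, 1, 0, 1, 1], [0, 1, 1, 1, 1, 1], [1, 0, 1, 0, 1, 0, 1], [1, 1, 1, 0, 1, 0, 1], [0, 1, 0, 1, 1, 0, 1], [1, 1, 0, 1, 1, 0, 1], [1, 0, 1, 1, 1, 0, 1], [0, 1, 1, 1, 1, 0, 1], [0, 1, 1, 1, 0, 1, 1], [1, 1, 1, 1, 0, 1, 1], [0, 1, 0, 1, 0, 1, 0, 1], [1, 1, 0, 1, 0, 1, 0, 1], [0, 1, 1, 1, 0, 1, 0, 1], [1, 1, 1, 1, 0, 1, 0, 1], [1, 0, 1, 0, 1, 1, 0, 1], [0, 1, 0, 1, 1, 1, 0, 1], [1, 1, 0, 1, 1, 1, 0, 1], [1, 0, 1, 1, 1, 1, 0, 1], [1, 0, 1, 1, 1, 0, 1, 1], [1, 1, 1, 1, 1, 0, 1, 1], [0, 1, 1, 0, 1, 0, 1, 0, 1], [1, 1, 1, 0, 1, 0, 1, 0, 1], [1, 0, 1, 1,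 1, 0, 1, 0, 1], [1, 1, 1, 1, 1, 0, 1, 0, 1], [0, 1, 0, 1, 0, 1, 1, 0, 1], [1, 1, 0, 1, 0, 1, 1, 0, 1], [1, 0, 1, 0, 1, 1, 1, 0, 1], [0, 1, 1, 0, 1, 1, 1, 0, 1], [1, 1, 1, 0, 1, 1, 1, 0, 1], [1, 1, 0, 1, 1, 1, 1, 0, 1], [0, 1, 0, 1, 1, 1, 0, 1, 1], [1, 1, 0, 1, 1, 1, 0, 1, 1], [0, 1, 1, 1, 0, 1, 0, 1, 0, 1], [1, 1, 1, 1, 0, 1, 0, 1, 0, 1], [0, 1, 0, 1, 1, 1, 0, 1, 0, 1], [0, 1, 1, 0, 1, 0, 1, 1, 0, 1], [1, 0, 1, 1, 0, 1, 1, 1, 0, 1], [1, 1, 1, 1, 0, 1, 1, 1, 0, 1], [0, 1, 1, 0, 1, 1, 1, 0, 1, 1], [1, 0, 1, 0, 1, 1, 1, 0, 1, 0, 1]]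

end Cfsg.Agent.Lib.Helper8_U33
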