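import Cfsg.Agent.Lib.Helper8_J2F
import Cfsg.Agent.Lib.Helper26_IcoSimple
import Cfsg.Agent.Lib.Helper8_U33SubData

/-!
# Line permutations of words in `J₂` and sets of reflections (helper8)
-/

set_option autoImplicit false

namespace Cfsg.Agent.Lib.Helper8_U33

open Quaternion Cfsg.Spor Cfsg.Agent.Lib.Helper26_Ico Cfsg.Agent.Lib.Helper8_J2
open scoped Pointwise

/-! ### Words acting on the listed reflections -/

/-- A word as an element of `2·J₂`. -/
noncomputable def wordG (wd : List ℕ) : ↥twoJ2 := ⟨wordPerm wd, wordPerm_mem wd⟩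

/-- A word as an element of `J₂`. -/
noncomputable def wordJ (wd : List ℕ) : J2 := QuotientGroup.mk (wordG wd)

theorem word_conj (wd : List ℕ) (hwd : ∀ k ∈ wd, k < 315) {n m : ℕ} (hn : n < 315) (hm : m < 315)
    {u : List ℤ} (hu : u ∈ UZl) (h : wordL wd (lineAt n) = lsmull u (lineAt m)) :
    wordPerm wd * lineRefl (lineAt n) * (wordPerm wd)⁻¹ = lineRefl (lineAt m) := by
  obtain ⟨F, hF⟩ := exists_ext (wordPerm_mem wd)
  have mn := lineAt_mem hn
  have mm := lineAt_mem hm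
  obtain ⟨hℓ, hℓ4⟩ := line_mem mn
  obtain ⟨hμ, hμ4⟩ := line_mem mm
  rw [lineRefl_eq mn, conj_reflPerm hF _ hℓ hℓ4, lineRefl_eq mm]
  have e1 : F (toH3 (ofL3 (lineAt n))) = lsmul (toH (ofL u)) (toH3 (ofL3 (lineAt m))) := by
    have := word_eval wd hwd n hn _ h
    rw [hF.agree] at this
    rw [← lsmull_lineAt hu hm, ← this]
    rfl
  have nu : Quaternion.normSq (toH (ofL u)) = 1 := (unit_mem hu).2.1
  have hm' : lsmul (toH (ofL u)) (toH3 (ofL3 (lineAt m))) ∈ icoLeech := e1 ▸ hF.mem hℓ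
  have hm4' : qip (lsmul (toH (ofL u)) (toH3 (ofL3 (lineAt m))))
      (lsmul (toH (ofL u)) (toH3 (ofL3 (lineAt m)))) = 4 := by
    rw [← e1, hF.isom, hℓ4]
  rw [← reflPerm_lsmul nu hμ hμ4 hm' hm4']
  exact reflPerm_congr _ _ _ _ (fun x => by rw [e1])

theorem wordJ_smul_Rn (wd : List ℕ) (hwd : ∀ k ∈ wd, k < 315) {n m : ℕ} (hn : n < 315) (hm : m < 315)
    {u : List ℤ} (hu : u ∈ UZl) (h : wordL wd (lineAt n) = lsmull u (lineAt m)) :
    wordJ wd • Rn n = Rn m := by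
  show (QuotientGroup.mk (wordG wd) : J2) • Rn n = Rn m
  rw [mk_smul]
  apply Subtype.ext
  rw [smul_val, Rn_val hn, Rn_val hm]
  exact word_conj wd hwd hn hm hu h

/-- One entry of a line certificate: the word maps line `n` to the unit `e.2` times line `e.1`. -/
def entryOK (wd : List ℕ) (n : ℕ) (e : ℕ × ℕ) : Bool :=
  decide (n < 315) && decide (e.1 < 315) && decide (e.2 < 120) &&
    decide (wordL wd (lineAt n) = lsmull (UZl.getD e.2 []) (lineAt e.1))

theorem entryOK_sound {wd : List ℕ} (hwd : ∀ k ∈ wd, k < 315) {n : ℕ} {e : ℕ × ℕ}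
    (h : entryOK wd n e = true) : n < 315 ∧ e.1 < 315 ∧ wordJ wd • Rn n = Rn e.1 := by
  simp only [entryOK, Bool.and_eq_true, decide_eq_true_eq] at h
  obtain ⟨⟨⟨hn, hm⟩, hu⟩, he⟩ := h
  refine ⟨hn, hm, wordJ_smul_Rn wd hwd hn hm ?_ he⟩
  have hlen : e.2 < UZl.length := by rw [UZl_length]; exact hu
  rw [List.getD_eq_getElem _ _ hlen]
  exact List.getElem_mem hlen

end Cfsg.Agent.Lib.Helper8_U33
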