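import Cfsg.Agent.Lib.Helper8_U33Sub
import Cfsg.Agent.Lib.Helper61_G22Bridge

/-!
# Kernel checks of the line certificates (helper8)
-/

set_option autoImplicit false

namespace Cfsg.Agent.Lib.Helper8_U33

open Cfsg.Agent.Lib.Helper26_Ico Cfsg.Agent.Lib.Helper8_J2
open Cfsg.Agent.Lib.Helper61_G22Bridge (allLt allLt_spec)

/-- A certificate for all `315` lines. -/
def permOK (wd : List ℕ) (cert : List (ℕ × ℕ)) : Bool :=
  allLt 315 fun n => entryOK wd n (cert.getD n (0, 0))

/-- A certificate for a list of lines. -/
def listOK (wd : List ℕ) (ns : List ℕ) (cert : List (ℕ × ℕ)) : Bool :=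
  ns.all fun n => entryOK wd n (cert.getD n (0, 0))

set_option maxRecDepth 100000 in
theorem certA_ok : permOK [1, 2] certA = true := by decide +kernel

set_option maxRecDepth 100000 in
theorem certB_ok : permOK [0, 1, 2, 212, 105, 111] certB = true := by decide +kernel

set_option maxRecDepth 100000 in
theorem certX1_ok : listOK [5, 28] L63 certX1 = true := by decide +kernel

set_option maxRecDepth 100000 in
theorem certX2_ok : listOK [5] L63 certX2 = true := by decide +kernel

end Cfsg.Agent.Lib.Helper8_U33
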