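import Cfsg.Agent.Lib.Helper8_J2G
import Cfsg.Agent.Lib.Helper8_PackLin
import Cfsg.Agent.Lib.Helper8_U33Data

/-!
# Frame products checked by natural-number arithmetic (helper8)

Frames are coded by `72` nibbles; the product of a coded frame with a fixed generator is checked by
the packed linear checks of `Helper8_PackLin`.
-/

set_option autoImplicit false

namespace Cfsg.Agent.Lib.Helper8_U33

open Cfsg.Agent.Lib.Helper26_Ico Cfsg.Agent.Lib.Helper8_J2 Cfsg.Agent.Lib.Helper8_PackLin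

/-! ### The matrix of a left multiplication -/

/-- Row `k` of the matrix of `w ↦ mulZ v w`. -/
def Lrow (v : Fin 8 → ℤ) : Fin 8 → List ℤ :=
  ![[v 0, v 1, -v 2, -v 3, -v 4, -v 5, -v 6, -v 7],
    [v 1, v 0 + v 1, -v 3, -(v 2 + v 3), -v 5, -(v 4 + v 5), -v 7, -(v 6 + v 7)],
    [v 2, v 3, v 0, v 1, -v 6, -v 7, v 4, v 5],
    [v 3, v 2 + v 3, v 1, v 0 + v 1, -v 7, -(v 6 + v 7), v 5, v 4 + v 5],
    [v 4, v 5, v 6, v 7, v 0, v 1, -v 2, -v 3],
    [v 5, v 4 + v 5, v 7, v 6 + v 7, v 1, v 0 + v 1, -v 3, -(v 2 + v 3)],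
    [v 6, v 7, -v 4, -v 5, v 2, v 3, v 0, v 1],
    [v 7, v 6 + v 7, -v 5, -(v 4 + v 5), v 3, v 2 + v 3, v 1, v 0 + v 1]]

theorem Lrow_length (v : Fin 8 → ℤ) (k : Fin 8) : (Lrow v k).length = 8 := by
  fin_cases k <;> rfl

theorem mulZ_eq_dot (v w : Fin 8 → ℤ) (k : Fin 8) : mulZ v w k = dotZ (Lrow v k) (toL w) := by
  fin_cases k <;> simp [mulZ, ztm, ztn, Lrow, dotZ, toL] <;> ring

/-- Row `(t, k)` of the matrix of `c ↦ fmulZ γ c` (on one column). -/
def rowZ (γ : Fin 3 → Fin 3 → Fin 8 → ℤ) (t : Fin 3) (k : Fin 8) : List ℤ :=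
  Lrow (γ t 0) k ++ Lrow (γ t 1) k ++ Lrow (γ t 2) k

theorem sum_mulZ_eq_dot (γ : Fin 3 → Fin 3 → Fin 8 → ℤ) (t : Fin 3) (k : Fin 8)
    (x : Fin 3 → Fin 8 → ℤ) :
    (mulZ (γ t 0) (x 0) + mulZ (γ t 1) (x 1) + mulZ (γ t 2) (x 2)) k = dotZ (rowZ γ t k) (toL3 x) := by
  unfold rowZ toL3
  rw [dotZ_append _ _ _ _ (by rw [List.length_append, Lrow_length, Lrow_length]; rfl),
    dotZ_append _ _ _ _ (by rw [Lrow_length]; rfl)]
  simp only [Pi.add_apply, mulZ_eq_dot]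

theorem quot4_apply (v : Fin 8 → ℤ) (k : Fin 8) : quot4 v k = v k / 4 := by
  fin_cases k <;> rfl

/-! ### Coded frames -/

/-- Nibble `j` of a code. -/
def nib (c j : ℕ) : ℕ := Nat.land (Nat.shiftRight c (Nat.mul 4 j)) 15

theorem nib_le (c j : ℕ) : nib c j ≤ 15 := Nat.and_le_right

/-- Decoding a frame. -/
def decZ (c : ℕ) : Fin 3 → Fin 3 → Fin 8 → ℤ := fun t s k => sh (nib c (24 * t.val + 8 * s.val + k.val))

/-- The nibble positions of the first column. -/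
def idx24 : List ℕ := [0, 1, 2, 3, 4, 5, 6, 7, 24, 25, 26, 27, 28, 29, 30, 31, 48, 49, 50, 51, 52, 53, 54, 55]

/-- The nibbles of a coded frame, the three columns side by side. -/
def trip (c : ℕ) : List (ℕ × ℕ × ℕ) :=
  idx24.map fun j => (nib c j, nib c (Nat.add j 8), nib c (Nat.add j 16))

theorem trip_le (c : ℕ) : ∀ x ∈ trip c, x.1 ≤ 15 ∧ x.2.1 ≤ 15 ∧ x.2.2 ≤ 15 := by
  intro x hx
  obtain ⟨j, -, rfl⟩ := List.mem_map.1 hx
  exact ⟨nib_le _ _, nib_le _ _, nib_le _ _⟩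

/-- The packed nibbles of a coded frame. -/
def tripPack (c : ℕ) : List ℕ :=
  [pack (nib c 0, nib c 8, nib c 16),
   pack (nib c 1, nib c 9, nib c 17),
   pack (nib c 2, nib c 10, nib c 18),
   pack (nib c 3, nib c 11, nib c 19),
   pack (nib c 4, nib c 12, nib c 20),
   pack (nib c 5, nib c 13, nib c 21),
   pack (nib c 6, nib c 14, nib c 22),
   pack (nib c 7, nib c 15, nib c 23),
   pack (nib c 24, nib c 32, nib c 40),
   pack (nib c 25, nib c 33, nib c 41),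
   pack (nib c 26, nib c 34, nib c 42),
   pack (nib c 27, nib c 35, nib c 43),
   pack (nib c 28, nib c 36, nib c 44),
   pack (nib c 29, nib c 37, nib c 45),
   pack (nib c 30, nib c 38, nib c 46),
   pack (nib c 31, nib c 39, nib c 47),
   pack (nib c 48, nib c 56, nib c 64),
   pack (nib c 49, nib c 57, nib c 65),
   pack (nib c 50, nib c 58, nib c 66),
   pack (nib c 51, nib c 59, nib c 67),
   pack (nib c 52, nib c 60, nib c 68),
   pack (nib c 53, nib c 61, nib c 69),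
   pack (nib c 54, nib c 62, nib c 70),
   pack (nib c 55, nib c 63, nib c 71)]

theorem tripPack_eq (c : ℕ) : tripPack c = (trip c).map pack := rfl

def ones24 : List ℕ := [1, 1, 1, 1, 1, 1, 1, 1, 1, 1, 1, 1, 1, 1, 1, 1, 1, 1, 1, 1, 1, 1, 1, 1]

theorem col0 (c : ℕ) : toL3 (fun t' => decZ c t' 0) = ((trip c).map fun x => x.1).map sh := rfl
theorem col1 (c : ℕ) : toL3 (fun t' => decZ c t' 1) = ((trip c).map fun x => x.2.1).map sh := rfl
theorem col2 (c : ℕ) : toL3 (fun t' => decZ c t' 2) = ((trip c).map fun x => x.2.2).map sh := rfl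

/-- The nibbles of row `r = 8 t + k` of the target. -/
def tgt (c r : ℕ) : ℕ × ℕ × ℕ :=
  (nib c (Nat.add r (Nat.mul 16 (Nat.div r 8))), nib c (Nat.add (Nat.add r (Nat.mul 16 (Nat.div r 8))) 8),
    nib c (Nat.add (Nat.add r (Nat.mul 16 (Nat.div r 8))) 16))

theorem tgt_le (c r : ℕ) : (tgt c r).1 ≤ 15 ∧ (tgt c r).2.1 ≤ 15 ∧ (tgt c r).2.2 ≤ 15 :=
  ⟨nib_le _ _, nib_le _ _, nib_le _ _⟩

theorem tripPack_getD (c : ℕ) (t : Fin 3) (k : Fin 8) :
    (tripPack c).getD (8 * t.val + k.val) 0 = pack (tgt c (8 * t.val + k.val)) := by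
  fin_cases t <;> fin_cases k <;> rfl

theorem decZ_tgt (c : ℕ) (t : Fin 3) (k : Fin 8) :
    decZ c t 0 k = sh (tgt c (8 * t.val + k.val)).1 ∧ decZ c t 1 k = sh (tgt c (8 * t.val + k.val)).2.1 ∧
      decZ c t 2 k = sh (tgt c (8 * t.val + k.val)).2.2 := by
  fin_cases t <;> fin_cases k <;> exact ⟨rfl, rfl, rfl⟩

/-- The check that `frame c * γ = frame c1`, with `V` the packed nibbles of `c`. -/
def chkC (cP cQ : List ℕ) (KPt KQt : ℕ) (V : List ℕ) (c1 : ℕ) : Bool :=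
  Nat.beq (Nat.add (dotN cP V) KPt)
    (Nat.add (Nat.add (dotN cQ V) (Nat.mul 4 (ofD (tripPack c1)))) KQt)

/-- The row data belongs to the frame `γ`. -/
def RowsOK (γ : Fin 3 → Fin 3 → Fin 8 → ℤ) (es : List (List (ℕ × ℕ) × ℕ × ℕ)) : Prop :=
  es.length = 24 ∧
  (∀ t : Fin 3, ∀ k : Fin 8,
    ((es.getD (8 * t.val + k.val) ([], 0, 0)).1.map fun pq => (pq.1 : ℤ) - pq.2) = rowZ γ t k) ∧
  ∀ e ∈ es, e.2.1 = 4 * dotQ e.1 ones24 + 16 ∧ e.2.2 = 4 * dotP e.1 ones24 ∧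
    15 * dotP e.1 ones24 + e.2.1 < BB ∧ 15 * dotQ e.1 ones24 + 60 + e.2.2 < BB

instance (γ : Fin 3 → Fin 3 → Fin 8 → ℤ) (es : List (List (ℕ × ℕ) × ℕ × ℕ)) :
    Decidable (RowsOK γ es) := by
  unfold RowsOK; infer_instance

/-- The packed column data belongs to the row data. -/
def ColsOK (es : List (List (ℕ × ℕ) × ℕ × ℕ)) (cP cQ : List ℕ) (KPt KQt : ℕ) : Prop :=
  cP = colsP (es.map fun e => e.1) 24 ∧ cQ = colsQ (es.map fun e => e.1) 24 ∧
    KPt = ofD (es.map fun e => e.2.1 * UU) ∧ KQt = ofD (es.map fun e => e.2.2 * UU)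

instance (es : List (List (ℕ × ℕ) × ℕ × ℕ)) (cP cQ : List ℕ) (KPt KQt : ℕ) :
    Decidable (ColsOK es cP cQ KPt KQt) := by
  unfold ColsOK; infer_instance

theorem lane_lt {a0 a1 a2 : ℕ} (h0 : a0 < BB) (h1 : a1 < BB) (h2 : a2 < BB) :
    a0 + BB * a1 + BB * BB * a2 < CC := by
  unfold BB CC at *
  omega

theorem UU_eq : UU = 1 + BB + BB * BB := by unfold UU BB; norm_num

theorem trip_length (c : ℕ) : (trip c).length = 24 := rfl

theorem map_ones {α : Type} (c : ℕ) (f : ℕ × ℕ × ℕ → α) (g : α → ℕ) (hg : ∀ a, g a = 1) :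
    ((trip c).map f).map g = ones24 := by
  rw [List.map_map]
  have : (g ∘ f) = fun _ => 1 := by funext x; exact hg _
  rw [this]
  rfl

/-- Soundness of the check. -/
theorem chkC_sound {γ : Fin 3 → Fin 3 → Fin 8 → ℤ} {es : List (List (ℕ × ℕ) × ℕ × ℕ)}
    {cP cQ : List ℕ} {KPt KQt : ℕ} (hrows : RowsOK γ es) (hcols : ColsOK es cP cQ KPt KQt)
    {c c1 : ℕ} (h : chkC cP cQ KPt KQt (tripPack c) c1 = true) :
    fmulZ γ (decZ c) = decZ c1 := by
  obtain ⟨hlen, hrow, hes⟩ := hrows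
  obtain ⟨hcP, hcQ, hKP, hKQ⟩ := hcols
  have e := Nat.eq_of_beq_eq_true h
  simp only [Nat.add_eq, Nat.mul_eq] at e
  have hV : (tripPack c).length ≤ 24 := le_of_eq rfl
  rw [hcP, hcQ, dotN_colsP _ _ _ hV, dotN_colsQ _ _ _ hV, hKP, hKQ, List.map_map, List.map_map] at e
  have e2 : ofD (es.map fun e => dotP e.1 (tripPack c) + e.2.1 * UU) =
      ofD (es.map fun e => dotQ e.1 (tripPack c) + e.2.2 * UU) + 4 * ofD (tripPack c1) := by
    rw [ofD_map_add, ofD_map_add]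
    simp only [Function.comp_def] at e
    omega
  -- bounds
  have b1 : ∀ v ∈ (trip c).map (fun x => x.1), v ≤ 15 := by
    intro v hv
    obtain ⟨x, hx, rfl⟩ := List.mem_map.1 hv
    exact (trip_le c x hx).1
  have b2 : ∀ v ∈ (trip c).map (fun x => x.2.1), v ≤ 15 := by
    intro v hv
    obtain ⟨x, hx, rfl⟩ := List.mem_map.1 hv
    exact (trip_le c x hx).2.1
  have b3 : ∀ v ∈ (trip c).map (fun x => x.2.2), v ≤ 15 := by
    intro v hv
    obtain ⟨x, hx, rfl⟩ := List.mem_map.1 hv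
    exact (trip_le c x hx).2.2
  have o1 : ((trip c).map fun x => x.1).map (fun _ => 1) = ones24 := map_ones c _ _ (fun _ => rfl)
  have o2 : ((trip c).map fun x => x.2.1).map (fun _ => 1) = ones24 := map_ones c _ _ (fun _ => rfl)
  have o3 : ((trip c).map fun x => x.2.2).map (fun _ => 1) = ones24 := map_ones c _ _ (fun _ => rfl)
  have hL : ∀ e ∈ es, dotP e.1 (tripPack c) + e.2.1 * UU < CC := by
    intro e he
    obtain ⟨-, -, hs, -⟩ := hes e he
    have P1 := dotP_le e.1 _ b1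
    have P2 := dotP_le e.1 _ b2
    have P3 := dotP_le e.1 _ b3
    rw [o1] at P1
    rw [o2] at P2
    rw [o3] at P3
    rw [tripPack_eq, dotP_pack, UU_eq]
    have := lane_lt (a0 := dotP e.1 ((trip c).map fun x => x.1) + e.2.1)
      (a1 := dotP e.1 ((trip c).map fun x => x.2.1) + e.2.1)
      (a2 := dotP e.1 ((trip c).map fun x => x.2.2) + e.2.1) (by omega) (by omega) (by omega)
    linarith
  have hR : ∀ e ∈ es, ∀ T ∈ tripPack c1, dotQ e.1 (tripPack c) + 4 * T + e.2.2 * UU < CC := by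
    intro e he T hT
    obtain ⟨-, -, -, hs⟩ := hes e he
    rw [tripPack_eq] at hT
    obtain ⟨x, hx, rfl⟩ := List.mem_map.1 hT
    obtain ⟨x0, x1, x2⟩ := x
    obtain ⟨hx0, hx1, hx2⟩ := trip_le c1 _ hx
    simp only at hx0 hx1 hx2
    have Q1 := dotQ_le e.1 _ b1
    have Q2 := dotQ_le e.1 _ b2
    have Q3 := dotQ_le e.1 _ b3
    rw [o1] at Q1
    rw [o2] at Q2
    rw [o3] at Q3
    rw [tripPack_eq, dotQ_pack, UU_eq, pack_eq]
    have := lane_lt (a0 := dotQ e.1 ((trip c).map fun x => x.1) + 4 * x0 + e.2.2)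
      (a1 := dotQ e.1 ((trip c).map fun x => x.2.1) + 4 * x1 + e.2.2)
      (a2 := dotQ e.1 ((trip c).map fun x => x.2.2) + 4 * x2 + e.2.2) (by omega) (by omega) (by omega)
    linarith
  have key := packed_rows es (tripPack c) (tripPack c1) (by rw [hlen]; rfl) hL hR e2
  funext t s k
  have hi : 8 * t.val + k.val < es.length := by
    rw [hlen]
    have := t.isLt
    have := k.isLt
    omega
  have hr := key (8 * t.val + k.val) hi
  rw [tripPack_getD] at hr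
  have hmem : es.getD (8 * t.val + k.val) ([], 0, 0) ∈ es := by
    rw [List.getD_eq_getElem _ _ hi]
    exact List.getElem_mem hi
  obtain ⟨hKP', hKQ', hsP, hsQ⟩ := hes _ hmem
  have hm := hrow t k
  have hchk : rowChk (es.getD (8 * t.val + k.val) ([], 0, 0)).1 (es.getD (8 * t.val + k.val) ([], 0, 0)).2.1
      (es.getD (8 * t.val + k.val) ([], 0, 0)).2.2 ((trip c).map pack)
      (pack (tgt c1 (8 * t.val + k.val))) = true := by
    rw [← tripPack_eq]
    unfold rowChk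
    simp only [Nat.add_eq, Nat.mul_eq]
    rw [hr]
    exact Nat.beq_refl _
  obtain ⟨r1, r2, r3⟩ := rowChk_sound _ _ _ (trip c) (tgt c1 (8 * t.val + k.val)) ones24 o1 o2 o3
    (trip_le c) (tgt_le _ _) hKP' hKQ' hsP hsQ hchk
  rw [dotM_eq, hm] at r1 r2 r3
  obtain ⟨d0, d1, d2⟩ := decZ_tgt c1 t k
  show quot4 (mulZ (γ t 0) (decZ c 0 s) + mulZ (γ t 1) (decZ c 1 s) + mulZ (γ t 2) (decZ c 2 s)) k =
    decZ c1 t s k
  rw [quot4_apply, sum_mulZ_eq_dot γ t k (fun t' => decZ c t' s)]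
  fin_cases s
  · show dotZ (rowZ γ t k) (toL3 fun t' => decZ c t' 0) / 4 = decZ c1 t 0 k
    rw [col0, r1, d0, Int.mul_ediv_cancel_left _ (by norm_num)]
  · show dotZ (rowZ γ t k) (toL3 fun t' => decZ c t' 1) / 4 = decZ c1 t 1 k
    rw [col1, r2, d1, Int.mul_ediv_cancel_left _ (by norm_num)]
  · show dotZ (rowZ γ t k) (toL3 fun t' => decZ c t' 2) / 4 = decZ c1 t 2 k
    rw [col2, r3, d2, Int.mul_ediv_cancel_left _ (by norm_num)]

/-! ### The generators -/

/-- The frames of the two generators. -/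
def gAZ' : Fin 3 → Fin 3 → Fin 8 → ℤ := ofL9 gAL
def gBZ : Fin 3 → Fin 3 → Fin 8 → ℤ := ofL9 gBL

theorem rowsA_ok : RowsOK gAZ' rowsA := by decide +kernel

theorem rowsB_ok : RowsOK gBZ rowsB := by decide +kernel

theorem colsA_ok : ColsOK rowsA colsPA colsQA KPtA KQtA := by decide +kernel

theorem colsB_ok : ColsOK rowsB colsPB colsQB KPtB KQtB := by decide +kernel

end Cfsg.Agent.Lib.Helper8_U33
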