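import Mathlib
import Cfsg.Agent.Lib.Helper39_U4Defs
import Cfsg.Agent.Lib.Helper13_SUGen
import Cfsg.Agent.Lib.Helper94_HermTrans
import Cfsg.Agent.Lib.Helper95_UQ_FLD
import Cfsg.Agent.Lib.Helper41_U5_D3FQ1

/-!
# S2150 market (helper39), package U4 L-LAG (helper8): the Lagrangian bound `|Bb| ≤ q^2`.

`β(w,w') = h(w,w') - h(w',w)` composed with an additive character of `F / Y` which is nontrivial on the skew
scalars is a nondegenerate alternating biadditive form on `W` (`|W| = q^4`) for which `Bb` is totally isotropic.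
-/

set_option autoImplicit false
set_option linter.unusedSectionVars false

namespace Cfsg.Agent.Lib.Helper8_U4_LLAG

open Module Cfsg.Agent.Lib.Helper94_Symp Cfsg.Agent.Lib.Helper94_Herm
  Cfsg.Agent.Lib.Helper94_HermEich Cfsg.Agent.Lib.Helper94_HermOrth
  Cfsg.Agent.Lib.Helper13_SUGen Cfsg.Agent.Lib.Helper39_U4Defs

variable {F W : Type*} [Field F] [AddCommGroup W] [Module F W] {σ : F →+* F}
  {h : W →ₗ[F] W →ₛₗ[σ] F} [Finite F] [FiniteDimensional F W]

/-- L-LAG (L1): `|Bb| ≤ q^2`. -/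
theorem lagrangian {q : ℕ} {Bb : AddSubgroup W} {Y : AddSubgroup F}
    {S : Subgroup (Fˣ × (W ≃ₗ[F] W))} (H : LocHyp h q Bb Y S) : Nat.card Bb ≤ q ^ 2 := by
  classical
  have hWfin : Finite W := Module.finite_of_finite F
  obtain ⟨c₀, hc₀, hc₀Y⟩ := H.hY
  -- a character of `F / Y` which is nontrivial at `c₀`
  have hne : (QuotientAddGroup.mk c₀ : F ⧸ Y) ≠ 0 := by
    rw [Ne, QuotientAddGroup.eq_zero_iff]
    exact hc₀Y
  obtain ⟨ψ, hψ⟩ := (AddChar.exists_apply_ne_zero (α := F ⧸ Y)).mpr hne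
  obtain ⟨z, hz⟩ := Cfsg.Agent.Lib.Helper95_UQ_FLD.exists_sub_eq H.hσ hc₀
  have key := Cfsg.Agent.Lib.Helper41_U5_D3FQ1.card_mul_ncard_le
    (W := W) (A := F ⧸ Y)
    (fun w w' => (QuotientAddGroup.mk (h w w' - h w' w) : F ⧸ Y))
    (by
      intro w w' u
      rw [← QuotientAddGroup.mk_add]
      congr 1
      simp only [map_add, LinearMap.add_apply]
      ring)
    (by
      intro w u u'
      rw [← QuotientAddGroup.mk_add]
      congr 1
      simp only [map_add, LinearMap.add_apply]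
      ring)
    ψ
    (by
      intro w hw
      obtain ⟨u₀, -, hu₀⟩ := H.hN w Submodule.mem_top hw
      refine ⟨σ (z / h w u₀) • u₀, ?_⟩
      have h1 : h w (σ (z / h w u₀) • u₀) = z := by
        rw [LinearMap.map_smulₛₗ, H.hσ.invol, smul_eq_mul]
        field_simp
      have h2 : h (σ (z / h w u₀) • u₀) w = σ z := by
        rw [H.hh w (σ (z / h w u₀) • u₀), h1]
      rw [h1, h2, hz]
      exact hψ)
    Bb (Bb : Set W)
    (by
      intro w hw i hi
      rw [QuotientAddGroup.eq_zero_iff]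
      exact H.hβ i hi w hw)
  have hWcard : Nat.card W = q ^ 2 * q ^ 2 := by
    rw [Module.natCard_eq_pow_finrank (K := F), H.h2, H.hq]
    ring
  have hB : (Bb : Set W).ncard = Nat.card Bb := rfl
  rw [hB, hWcard] at key
  exact Nat.mul_self_le_mul_self_iff.mp key

end Cfsg.Agent.Lib.Helper8_U4_LLAG
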