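import Mathlib
import Cfsg.Agent.Lib.Helper39_U4Defs
import Cfsg.Agent.Lib.Helper13_SUGen
import Cfsg.Agent.Lib.Helper94_HermTrans
import Cfsg.Agent.Lib.Helper95_UQ_FLD

/-!
# S2150 market (helper39), package U4 L-TORQ (helper8): the torus inequality inside `F_q^*` (characteristic 2).

`E := {e : σ e = e, e Y ⊆ Y}` is a subring of the fixed field; `(e, y) ↦ e c₀ + y` (`c₀` skew, `c₀ ∉ Y`) is an injection
`E × Y → {skew}`, so `|E| |Y| ≤ q`; `c ↦ c σ c = c²` is an injection `Λ → E ∖ {0}` (`Λ` = the first components of `S`).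
-/

set_option autoImplicit false
set_option linter.unusedSectionVars false

namespace Cfsg.Agent.Lib.Helper8_U4_LTORQ

open Module Cfsg.Agent.Lib.Helper94_Symp Cfsg.Agent.Lib.Helper94_Herm
  Cfsg.Agent.Lib.Helper94_HermEich Cfsg.Agent.Lib.Helper94_HermOrth
  Cfsg.Agent.Lib.Helper13_SUGen Cfsg.Agent.Lib.Helper39_U4Defs

variable {F W : Type*} [Field F] [AddCommGroup W] [Module F W] {σ : F →+* F}
  {h : W →ₗ[F] W →ₛₗ[σ] F} [Finite F] [FiniteDimensional F W]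

/-- the multiplier set of `Y` inside the fixed field -/
def mult (σ : F →+* F) (Y : AddSubgroup F) : Set F := {e | σ e = e ∧ ∀ y ∈ Y, e * y ∈ Y}

theorem one_mem_mult (Y : AddSubgroup F) : (1 : F) ∈ mult σ Y :=
  ⟨map_one σ, fun y hy => by rwa [one_mul]⟩

theorem zero_mem_mult (Y : AddSubgroup F) : (0 : F) ∈ mult σ Y :=
  ⟨map_zero σ, fun y _ => by rw [zero_mul]; exact Y.zero_mem⟩

theorem sub_mem_mult {Y : AddSubgroup F} {a b : F} (ha : a ∈ mult σ Y) (hb : b ∈ mult σ Y) :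
    a - b ∈ mult σ Y :=
  ⟨by rw [map_sub, ha.1, hb.1], fun y hy => by
    rw [sub_mul]; exact Y.sub_mem (ha.2 y hy) (hb.2 y hy)⟩

theorem mul_mem_mult {Y : AddSubgroup F} {a b : F} (ha : a ∈ mult σ Y) (hb : b ∈ mult σ Y) :
    a * b ∈ mult σ Y :=
  ⟨by rw [map_mul, ha.1, hb.1], fun y hy => by
    rw [mul_assoc]; exact ha.2 _ (hb.2 y hy)⟩

theorem pow_mem_mult {Y : AddSubgroup F} {a : F} (ha : a ∈ mult σ Y) (n : ℕ) :
    a ^ n ∈ mult σ Y := by
  induction n with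
  | zero => simpa using one_mem_mult (σ := σ) Y
  | succ n ih => rw [pow_succ]; exact mul_mem_mult ih ha

/-- `|E| |Y| ≤ q` -/
theorem card_mult_mul_le {q : ℕ} (hσ : Invol σ) (hq : Nat.card F = q ^ 2) {Y : AddSubgroup F}
    (hY0 : ∀ y ∈ Y, σ y = -y) {c₀ : F} (hc₀ : σ c₀ = -c₀) (hc₀Y : c₀ ∉ Y) :
    Nat.card ↥(mult σ Y) * Nat.card Y ≤ q := by
  classical
  let _ : Fintype F := Fintype.ofFinite F
  rw [← Nat.card_prod, ← Cfsg.Agent.Lib.Helper95_UQ_FLD.card_skew hσ hq]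
  let f : ↥(mult σ Y) × Y → {c : F // σ c = -c} := fun p =>
    ⟨(p.1 : F) * c₀ + (p.2 : F), by
      rw [map_add, map_mul, p.1.2.1, hc₀, hY0 _ p.2.2]; ring⟩
  apply Nat.card_le_card_of_injective f
  rintro ⟨e, y⟩ ⟨e', y'⟩ hp
  have hp' : (e : F) * c₀ + (y : F) = (e' : F) * c₀ + (y' : F) := congrArg Subtype.val hp
  by_cases hee : (e : F) = (e' : F)
  · have hyy : (y : F) = (y' : F) := by
      rw [hee] at hp'
      exact add_left_cancel hp'
    exact Prod.ext (Subtype.ext hee) (Subtype.ext hyy)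
  · exfalso
    apply hc₀Y
    have hd : (e : F) - e' ∈ mult σ Y := sub_mem_mult e.2 e'.2
    have hd0 : (e : F) - e' ≠ 0 := sub_ne_zero.mpr hee
    have hdc : ((e : F) - e') * c₀ = (y' : F) - y := by linear_combination hp'
    have hdy : ((e : F) - e') * c₀ ∈ Y := by rw [hdc]; exact Y.sub_mem y'.2 y.2
    have hpow := FiniteField.pow_card_sub_one_eq_one ((e : F) - e') hd0
    have hcard : 2 ≤ Fintype.card F := Fintype.one_lt_card
    have h1 : ((e : F) - e') ^ (Fintype.card F - 2) * (((e : F) - e') * c₀) = c₀ := by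
      rw [← mul_assoc, ← pow_succ]
      have : Fintype.card F - 2 + 1 = Fintype.card F - 1 := by omega
      rw [this, hpow, one_mul]
    rw [← h1]
    exact (pow_mem_mult hd _).2 _ hdy

/-- L-TORQ (L2 inside F_q^*, characteristic 2): if all `c` occurring in `S` are fixed by `σ` then
`|Y| |S| ≤ (q-1) |S ∩ K|`, strict if `Y ≠ 0`. -/
theorem torus_fixed {q : ℕ} {Bb : AddSubgroup W} {Y : AddSubgroup F}
    {S : Subgroup (Fˣ × (W ≃ₗ[F] W))} (H : LocHyp h q Bb Y S) (h2 : (2 : F) = 0)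
    (hfix : ∀ p ∈ S, σ (p.1 : F) = (p.1 : F)) :
    Nat.card Y * Nat.card S ≤ (q - 1) * Nat.card {p : S // (p : Fˣ × (W ≃ₗ[F] W)).1 = 1} ∧
    (Y ≠ ⊥ → Nat.card Y * Nat.card S < (q - 1) * Nat.card {p : S // (p : Fˣ × (W ≃ₗ[F] W)).1 = 1}) := by
  classical
  obtain ⟨c₀, hc₀, hc₀Y⟩ := H.hY
  have hWfin : Finite W := Module.finite_of_finite F
  have hEY := card_mult_mul_le H.hσ H.hq H.hY0 hc₀ hc₀Y
  -- the projection to the first component
  let φ : ↥S →* Fˣ := (MonoidHom.fst Fˣ (W ≃ₗ[F] W)).comp S.subtype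
  have hSfin : Finite ↥S := by
    have : Finite (W ≃ₗ[F] W) := Finite.of_injective (fun g : W ≃ₗ[F] W => (g : W → W))
      (fun a b hab => LinearEquiv.ext (fun x => congrFun hab x))
    infer_instance
  have hcardS : Nat.card ↥S = Nat.card φ.range *
      Nat.card {p : S // (p : Fˣ × (W ≃ₗ[F] W)).1 = 1} := by
    rw [← Subgroup.card_mul_index φ.ker, Subgroup.index_ker, mul_comm]
    congr 1
  -- `Λ → E ∖ {0}`
  have hΛ : Nat.card φ.range < Nat.card ↥(mult σ Y) := by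
    let _ : Fintype ↥φ.range := Fintype.ofFinite _
    let _ : Fintype ↥(mult σ Y) := Fintype.ofFinite _
    rw [Nat.card_eq_fintype_card, Nat.card_eq_fintype_card]
    have hmem : ∀ c : ↥φ.range, ((c : Fˣ) : F) * σ ((c : Fˣ) : F) ∈ mult σ Y := by
      rintro ⟨c, p, rfl⟩
      refine ⟨?_, fun y hy => H.hSY p.1 p.2 y hy⟩
      rw [map_mul, H.hσ.invol, mul_comm]
    have hfixΛ : ∀ c : ↥φ.range, σ ((c : Fˣ) : F) = ((c : Fˣ) : F) := by
      rintro ⟨c, p, rfl⟩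
      exact hfix p.1 p.2
    let g : ↥φ.range → ↥(mult σ Y) := fun c => ⟨((c : Fˣ) : F) * σ ((c : Fˣ) : F), hmem c⟩
    apply Fintype.card_lt_of_injective_of_notMem g (b := ⟨0, zero_mem_mult Y⟩)
    · intro c c' hcc
      have h1 : ((c : Fˣ) : F) * σ ((c : Fˣ) : F) = ((c' : Fˣ) : F) * σ ((c' : Fˣ) : F) :=
        congrArg Subtype.val hcc
      rw [hfixΛ c, hfixΛ c'] at h1
      have h3 : (((c : Fˣ) : F) - ((c' : Fˣ) : F)) ^ 2 = 0 := by
        linear_combination h1 + (((c' : Fˣ) : F) ^ 2 - ((c : Fˣ) : F) * ((c' : Fˣ) : F)) * h2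
      have h4 : ((c : Fˣ) : F) = ((c' : Fˣ) : F) := sub_eq_zero.mp (pow_eq_zero_iff (two_ne_zero) |>.mp h3)
      exact Subtype.ext (Units.ext h4)
    · rintro ⟨c, hc⟩
      have h1 : ((c : Fˣ) : F) * σ ((c : Fˣ) : F) = 0 := congrArg Subtype.val hc
      rcases mul_eq_zero.mp h1 with h0 | h0
      · exact (c : Fˣ).ne_zero h0
      · exact (c : Fˣ).ne_zero ((map_eq_zero σ).mp h0)
  have hYpos : 1 ≤ Nat.card Y := Nat.card_pos
  have hkpos : 1 ≤ Nat.card {p : S // (p : Fˣ × (W ≃ₗ[F] W)).1 = 1} := by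
    have : Nonempty {p : S // (p : Fˣ × (W ≃ₗ[F] W)).1 = 1} := ⟨⟨1, rfl⟩⟩
    exact Nat.card_pos
  have hal : Nat.card Y * Nat.card φ.range + Nat.card Y ≤ q := by
    calc Nat.card Y * Nat.card φ.range + Nat.card Y = Nat.card Y * (Nat.card φ.range + 1) := by ring
      _ ≤ Nat.card Y * Nat.card ↥(mult σ Y) := Nat.mul_le_mul_left _ hΛ
      _ = Nat.card ↥(mult σ Y) * Nat.card Y := mul_comm _ _
      _ ≤ q := hEY
  rw [hcardS, ← mul_assoc]
  constructor
  · apply Nat.mul_le_mul_right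
    omega
  · intro hYne
    have hY2 : 2 ≤ Nat.card Y := by
      have hne1 : Nat.card Y ≠ 1 := fun h1 => hYne (AddSubgroup.card_eq_one.mp h1)
      omega
    apply Nat.mul_lt_mul_of_pos_right _ hkpos
    omega

end Cfsg.Agent.Lib.Helper8_U4_LTORQ
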