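import Mathlib

/-!
# Element orders in affine groups `Rⁿ ⋊ C` and in fibre powers (helper90)

* `FiberPow π k`: the tuples in `G^k` with one image under `π : G →* Q`; if every `g` is killed
  by an exponent depending on `π g` only, so is every tuple; `G` embeds diagonally; and the order is
  at least `k` when `π` has a nontrivial kernel.  This gives groups of unbounded order with the
  element orders of `G`.
* `Aff C = Rⁿ ⋊ C` for a subgroup `C` of `GLₙ(R)`: the powers of an element
  (`pow_right`, `pow_left`), and `pow_eq_one`: `x ^ (k * m) = 1` when the linear part `A` of `x`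
  has `A ^ k = 1` and `m • (1 + A + ⋯ + A ^ (k - 1)) = 0`.
* `predSubgroup`: the subgroup of the units of a finite monoid cut out by a multiplicatively closed
  predicate.

The action `glAct` follows `Helper61_AffineSpec.glAct` (helper61).
-/

set_option autoImplicit false

namespace Cfsg.Agent.Lib.Helper90_AffSpec

section FiberPow

variable {G Q : Type*} [Group G] [Group Q] (π : G →* Q)

/-- The tuples in `G^k` all of whose entries have the same image under `π`. -/
def FiberPow (k : ℕ) : Subgroup (Fin k → G) where
  carrier := {f | ∀ i j, π (f i) = π (f j)}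
  mul_mem' := by
    intro a b ha hb i j
    rw [Pi.mul_apply, Pi.mul_apply, map_mul, map_mul, ha i j, hb i j]
  one_mem' := by
    intro i j
    rfl
  inv_mem' := by
    intro a ha i j
    rw [Pi.inv_apply, Pi.inv_apply, map_inv, map_inv, ha i j]

/-- The diagonal embedding. -/
def diag (k : ℕ) : G →* ↥(FiberPow π k) where
  toFun g := ⟨fun _ => g, fun _ _ => rfl⟩
  map_one' := rfl
  map_mul' _ _ := rfl

theorem diag_injective (k : ℕ) : Function.Injective (diag π (k + 1)) := by
  intro a b h
  exact congrArg (fun x : ↥(FiberPow π (k + 1)) => (x : Fin (k + 1) → G) 0) h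

theorem orderOf_diag (k : ℕ) (g : G) : orderOf (diag π (k + 1) g) = orderOf g :=
  orderOf_injective _ (diag_injective π k) g

/-- If every `g` is killed by `e (π g)`, then so is every tuple. -/
theorem fiberPow_pow_eq_one (k : ℕ) (e : Q → ℕ) (he : ∀ g : G, g ^ e (π g) = 1)
    (f : ↥(FiberPow π (k + 1))) : f ^ e (π ((f : Fin (k + 1) → G) 0)) = 1 := by
  apply Subtype.ext
  rw [Subgroup.coe_pow]
  funext i
  rw [Pi.pow_apply, ← f.2 i 0]
  exact he _

/-- The tuple with `v` at the position `i`. -/
def singleTuple (k : ℕ) (v : G) (hv : π v = 1) (i : Fin k) : ↥(FiberPow π k) :=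
  ⟨Pi.mulSingle i v, by
    have h : ∀ c : Fin k, π ((Pi.mulSingle i v : Fin k → G) c) = 1 := by
      intro c
      by_cases hc : c = i
      · rw [hc, Pi.mulSingle_eq_same]; exact hv
      · rw [Pi.mulSingle_eq_of_ne hc]; exact map_one _
    intro a b
    rw [h a, h b]⟩

theorem le_card_fiberPow [Finite G] (k : ℕ) (v : G) (hv : π v = 1) (hv1 : v ≠ 1) :
    k ≤ Nat.card ↥(FiberPow π k) := by
  have hinj : Function.Injective (singleTuple π k v hv) := by
    intro i j h
    by_contra hij
    have h1 := congrArg (fun x : ↥(FiberPow π k) => (x : Fin k → G) i) h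
    simp only [singleTuple] at h1
    rw [Pi.mulSingle_eq_same, Pi.mulSingle_eq_of_ne hij] at h1
    exact hv1 h1
  have h := Nat.card_le_card_of_injective (singleTuple π k v hv) hinj
  rwa [Nat.card_fin] at h

end FiberPow

section Pred

variable {M : Type*} [Monoid M] [Finite Mˣ]

/-- The subgroup of the units of a monoid with finitely many units cut out by a multiplicatively
closed predicate. -/
def predSubgroup (P : M → Prop) (h1 : P 1) (hmul : ∀ a b, P a → P b → P (a * b)) :
    Subgroup Mˣ where
  carrier := {g | P g.val}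
  mul_mem' := fun {g h} hg hh => by
    show P (g * h).val
    rw [Units.val_mul]
    exact hmul _ _ hg hh
  one_mem' := by
    show P (1 : Mˣ).val
    rw [Units.val_one]
    exact h1
  inv_mem' := fun {g} hg => by
    have hpow : ∀ m : ℕ, P (g ^ m).val := by
      intro m
      induction m with
      | zero => rw [pow_zero, Units.val_one]; exact h1
      | succ m ih =>
        rw [pow_succ, Units.val_mul]
        exact hmul _ _ ih hg
    obtain ⟨k, hk0, hk⟩ := (isOfFinOrder_of_finite g).exists_pow_eq_one
    have : g⁻¹ = g ^ (k - 1) := by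
      apply inv_eq_of_mul_eq_one_left
      rw [← pow_succ, Nat.sub_add_cancel hk0, hk]
    show P (g⁻¹).val
    rw [this]
    exact hpow _

theorem mem_predSubgroup (P : M → Prop) (h1 : P 1) (hmul : ∀ a b, P a → P b → P (a * b))
    (g : Mˣ) : g ∈ predSubgroup P h1 hmul ↔ P g.val := Iff.rfl

end Pred

section Affine

open Matrix SemidirectProduct

variable {R : Type*} [CommRing R] {n : Type*} [Fintype n] [DecidableEq n]

/-- The action of `GL_n(R)` on the additive group `Rⁿ` (written multiplicatively). -/
def glAct : (Matrix n n R)ˣ →* MulAut (Multiplicative (n → R)) where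
  toFun g :=
    { toFun := fun v => Multiplicative.ofAdd (g.val *ᵥ Multiplicative.toAdd v)
      invFun := fun v => Multiplicative.ofAdd (g⁻¹.val *ᵥ Multiplicative.toAdd v)
      left_inv := fun v => by
        simp only [toAdd_ofAdd, mulVec_mulVec, Units.inv_mul, one_mulVec, ofAdd_toAdd]
      right_inv := fun v => by
        simp only [toAdd_ofAdd, mulVec_mulVec, Units.mul_inv, one_mulVec, ofAdd_toAdd]
      map_mul' := fun v w => by
        simp only [toAdd_mul, mulVec_add, ofAdd_add] }
  map_one' := by
    ext v
    simp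
  map_mul' g h := by
    ext v
    simp [mulVec_mulVec]

theorem glAct_apply (g : (Matrix n n R)ˣ) (v : Multiplicative (n → R)) :
    glAct g v = Multiplicative.ofAdd (g.val *ᵥ Multiplicative.toAdd v) := rfl

variable (C : Subgroup (Matrix n n R)ˣ)

/-- The affine group `Rⁿ ⋊ C`. -/
abbrev Aff : Type _ := Multiplicative (n → R) ⋊[(glAct (R := R) (n := n)).comp C.subtype] C

variable {C}

/-- The linear part of an element, as a matrix. -/
def lin (x : Aff C) : Matrix n n R := x.right.val.val

/-- The translation part of an element. -/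
def tr (x : Aff C) : n → R := Multiplicative.toAdd x.left

theorem pow_right (x : Aff C) (j : ℕ) : (x ^ j).right = x.right ^ j := by
  have : rightHom (x ^ j) = (rightHom x) ^ j := map_pow _ _ _
  simpa [rightHom_eq_right] using this

theorem lin_pow (x : Aff C) (j : ℕ) : lin (x ^ j) = lin x ^ j := by
  unfold lin
  rw [pow_right, Subgroup.coe_pow, Units.val_pow_eq_pow_val]

theorem tr_mul (x y : Aff C) : tr (x * y) = tr x + lin x *ᵥ tr y := by
  unfold tr lin
  rw [mul_left]
  rfl

theorem tr_pow (x : Aff C) (j : ℕ) :
    tr (x ^ j) = (∑ i ∈ Finset.range j, lin x ^ i) *ᵥ tr x := by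
  induction j with
  | zero =>
    rw [pow_zero, Finset.sum_range_zero, zero_mulVec]
    rfl
  | succ j ih =>
    rw [pow_succ, tr_mul, ih, lin_pow, Finset.sum_range_succ, add_mulVec]

theorem ext_lin_tr {x y : Aff C} (h1 : lin x = lin y) (h2 : tr x = tr y) : x = y := by
  apply SemidirectProduct.ext
  · exact Multiplicative.toAdd.injective h2
  · exact Subtype.ext (Units.ext h1)

theorem lin_one : lin (1 : Aff C) = 1 := rfl

theorem tr_one : tr (1 : Aff C) = 0 := rfl

/-- `x ^ (k * m) = 1` when the linear part `A` of `x` has `A ^ k = 1` and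
`m • (1 + A + ⋯ + A ^ (k - 1)) = 0`. -/
theorem pow_eq_one (x : Aff C) (k m : ℕ) (hk : lin x ^ k = 1)
    (hS : m • (∑ i ∈ Finset.range k, lin x ^ i) = 0) : x ^ (k * m) = 1 := by
  apply ext_lin_tr
  · rw [lin_pow, pow_mul, hk, one_pow, lin_one]
  · rw [pow_mul, tr_pow (x ^ k) m, lin_pow, hk, tr_pow x k, tr_one]
    simp only [one_pow, Finset.sum_const, Finset.card_range]
    rw [mulVec_mulVec, smul_mul_assoc, one_mul, hS, zero_mulVec]

/-- The element with linear part `c` and translation part `v`. -/
def mk (c : C) (v : n → R) : Aff C := ⟨Multiplicative.ofAdd v, c⟩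

theorem lin_mk (c : C) (v : n → R) : lin (mk c v) = c.val.val := rfl

theorem tr_mk (c : C) (v : n → R) : tr (mk c v) = v := rfl

theorem ne_one_of_lin {x : Aff C} (h : lin x ≠ 1) : x ≠ 1 := by
  intro hx
  apply h
  rw [hx, lin_one]

theorem ne_one_of_tr {x : Aff C} (h : tr x ≠ 0) : x ≠ 1 := by
  intro hx
  apply h
  rw [hx, tr_one]

/-- The projection to `C`, with kernel the translations. -/
theorem rightHom_mk (c : C) (v : n → R) : rightHom (mk c v) = c := rfl

end Affine

end Cfsg.Agent.Lib.Helper90_AffSpec
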