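import Cfsg.Agent.Lib.Helper90_A10Data
import Cfsg.Agent.Lib.Helper90_AffSpec

/-!
# A group `(3¹² × 7⁴) : 2.S₅⁻` with the element orders of `A₁₀`, and its fibre powers (helper90)

`G = (ZMod 21)¹² ⋊ C` with `C ≅ 2.S₅⁻` the group of the 240 matrices of `Helper90_A10Data`.
Every element of `G` is killed by an exponent in `Om = [1, …, 10, 12, 15, 21]` depending on its
linear part only (`exists_exp`), so the same holds in the fibre powers of `G` over `C`
(`orderOf_mem_Om`); and `G` has elements of all these orders (`exists_orderOf`).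
-/

set_option autoImplicit false

namespace Cfsg.Agent.Lib.Helper90_A10Twin

open Cfsg.Agent.Lib.Helper90_CodeTable Cfsg.Agent.Lib.Helper90_ModMat
  Cfsg.Agent.Lib.Helper90_A10Data Cfsg.Agent.Lib.Helper90_AffSpec

open Matrix

/-- The matrices. -/
abbrev M12 : Type := Matrix (Fin 12) (Fin 12) (ZMod 21)

/-- Decoding. -/
def toM (a : ℕ) : M12 := toMat 12 21 a

theorem toM_mul (a b : ℕ) : toM (cmul 12 21 a b) = toM a * toM b :=
  toMat_cmul (by norm_num) (by norm_num) a b

theorem toM_one : toM (cone 12) = 1 := toMat_cone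

theorem toM_pow (a k : ℕ) : toM (cpow 12 21 a k) = toM a ^ k :=
  toMat_cpow (by norm_num) (by norm_num) a k

theorem toM_sum (a k : ℕ) : toM (csum 12 21 a k) = ∑ i ∈ Finset.range k, toM a ^ i :=
  toMat_csum (by norm_num) (by norm_num) a k

theorem toM_smul (k a : ℕ) : toM (csmul 12 21 k a) = k • toM a :=
  toMat_csmul (by norm_num) (by norm_num) k a

/-- The matrices of the table. -/
def P (A : M12) : Prop := ∃ i < 240, A = toM (T i)

theorem P_iff (A : M12) : P A ↔ A ∈ genMon toM gen 3 := by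
  constructor
  · rintro ⟨i, hi, rfl⟩
    exact table_mem toM_mul toM_one T_zero (allLt_spec T_closed) (allLt_spec T_tree) i hi
  · intro h
    exact mem_table toM_mul toM_one (by norm_num) T_zero (allLt_spec T_closed) A h

theorem P_one : P 1 := (P_iff 1).mpr (Submonoid.one_mem _)

theorem P_mul (a b : M12) (ha : P a) (hb : P b) : P (a * b) :=
  (P_iff _).mpr (Submonoid.mul_mem _ ((P_iff a).mp ha) ((P_iff b).mp hb))

/-- The group `C ≅ 2.S₅⁻` of the 240 matrices. -/
def C : Subgroup M12ˣ := predSubgroup P P_one P_mul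

/-- The group `(ZMod 21)¹² ⋊ C`. -/
abbrev G : Type := Aff C

instance : Finite G := Finite.of_equiv _ (SemidirectProduct.equivProd
  (φ := (glAct (R := ZMod 21) (n := Fin 12)).comp C.subtype)).symm

theorem E_spec {i : ℕ} (hi : i < 240) : 0 < kf i ∧ toM (T i) ^ kf i = 1 ∧
    mf i • (∑ j ∈ Finset.range (kf i), toM (T i) ^ j) = 0 ∧ kf i * mf i ∈ Om := by
  have h := allLt_spec E_ok i hi
  unfold chkE at h
  simp only [force_eq, Bool.and_eq_true] at h
  obtain ⟨h1, h2, h3, h4⟩ := h
  refine ⟨by simpa using h1, ?_, ?_, ?_⟩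
  · rw [← toM_pow, Nat.eq_of_beq_eq_true h2, toM_one]
  · rw [← toM_sum, ← toM_smul, Nat.eq_of_beq_eq_true h3]
    exact toMat_zero
  · exact List.contains_iff_mem.mp h4

/-- Every element of `G` is killed by an exponent in `Om` depending on its linear part only. -/
theorem exists_exp (c : C) : ∃ e ∈ Om, ∀ x : G, x.right = c → x ^ e = 1 := by
  obtain ⟨i, hi, h⟩ := c.2
  obtain ⟨_, hk, hS, hOm⟩ := E_spec hi
  refine ⟨kf i * mf i, hOm, ?_⟩
  intro x hx
  have hl : lin x = toM (T i) := by
    unfold lin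
    rw [hx]
    exact h
  apply pow_eq_one
  · rw [hl, hk]
  · rw [hl, hS]

/-- The exponent of the elements with a given linear part. -/
noncomputable def expo (c : C) : ℕ := Classical.choose (exists_exp c)

theorem expo_mem (c : C) : expo c ∈ Om := (Classical.choose_spec (exists_exp c)).1

theorem pow_expo (x : G) : x ^ expo (SemidirectProduct.rightHom x) = 1 :=
  (Classical.choose_spec (exists_exp (SemidirectProduct.rightHom x))).2 x rfl

theorem Om_divisors : ∀ e ∈ Om, ∀ d ∈ Nat.divisors e, d ∈ Om := by decide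

/-- The element orders of the fibre powers lie in `Om`. -/
theorem orderOf_mem_Om (k : ℕ)
    (f : ↥(FiberPow (SemidirectProduct.rightHom : G →* C) (k + 1))) : orderOf f ∈ Om := by
  have h := fiberPow_pow_eq_one (SemidirectProduct.rightHom : G →* C) k expo pow_expo f
  have h1 := orderOf_dvd_of_pow_eq_one h
  have h2 := expo_mem (SemidirectProduct.rightHom ((f : Fin (k + 1) → G) 0))
  have h3 : expo (SemidirectProduct.rightHom ((f : Fin (k + 1) → G) 0)) ≠ 0 := by
    intro h0
    rw [h0] at h2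
    revert h2
    decide
  exact Om_divisors _ h2 _ (Nat.mem_divisors.mpr ⟨h1, h3⟩)

theorem colZero_spec {s c0 sc : ℕ} (hc0 : c0 < 12) :
    colZero s c0 sc = true ↔
      toM s *ᵥ (Pi.single (⟨c0, hc0⟩ : Fin 12) ((sc : ℕ) : ZMod 21)) = 0 := by
  have key : ∀ r : Fin 12, (toM s *ᵥ (Pi.single (⟨c0, hc0⟩ : Fin 12) ((sc : ℕ) : ZMod 21))) r =
      ((ent s (12 * r.val + c0) * sc : ℕ) : ZMod 21) := by
    intro r
    rw [Matrix.mulVec_single, Nat.cast_mul]
    rfl
  constructor
  · intro h
    funext r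
    rw [key r, Pi.zero_apply, ZMod.natCast_eq_zero_iff]
    have h1 := allLt_spec h r.val r.2
    exact Nat.dvd_of_mod_eq_zero (Nat.eq_of_beq_eq_true h1)
  · intro h
    apply allLt_of_forall
    intro r hr
    have h1 := congrFun h ⟨r, hr⟩
    rw [key, Pi.zero_apply, ZMod.natCast_eq_zero_iff] at h1
    have h2 : (ent s (12 * r + c0) * sc) % 21 = 0 := Nat.mod_eq_zero_of_dvd h1
    show Nat.beq ((ent s (12 * r + c0) * sc) % 21) 0 = true
    rw [h2]
    rfl

/-- The element of `C` with the matrix `T i`. -/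
noncomputable def cOf (i : ℕ) (hi : i < 240) : C :=
  ⟨Units.ofPowEqOne (toM (T i)) (kf i) (E_spec hi).2.1 (Nat.pos_iff_ne_zero.mp (E_spec hi).1),
    ⟨i, hi, rfl⟩⟩

theorem cOf_val (i : ℕ) (hi : i < 240) : ((cOf i hi : C) : M12ˣ).val = toM (T i) := rfl

/-- Elements of prescribed order, from a witness check. -/
theorem exists_orderOf (i c0 sc d : ℕ) (hi : i < 240) (hc0 : c0 < 12) (hd : 0 < d)
    (h : chkW (T i) c0 sc d = true) : ∃ x : G, orderOf x = d := by
  let v : Fin 12 → ZMod 21 := Pi.single (⟨c0, hc0⟩ : Fin 12) ((sc : ℕ) : ZMod 21)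
  let x : G := mk (cOf i hi) v
  have hlin : ∀ j, lin (x ^ j) = toM (cpow 12 21 (T i) j) := by
    intro j
    rw [lin_pow, toM_pow]
    rfl
  have htr : ∀ j, tr (x ^ j) = toM (csum 12 21 (T i) j) *ᵥ v := by
    intro j
    rw [tr_pow, toM_sum]
    rfl
  unfold chkW at h
  simp only [Bool.and_eq_true] at h
  obtain ⟨h1, h2, h3⟩ := h
  refine ⟨x, (orderOf_eq_iff hd).mpr ⟨?_, ?_⟩⟩
  · apply ext_lin_tr
    · rw [hlin, Nat.eq_of_beq_eq_true h1, toM_one]
      rfl
    · rw [htr]
      exact (colZero_spec hc0).mp h2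
  · intro j hj hj0
    have h4 := allLt_spec h3 j hj
    simp only [Bool.or_eq_true, Bool.not_eq_true'] at h4
    rcases h4 with h4 | h4 | h4
    · exact absurd (Nat.eq_of_beq_eq_true h4) (Nat.pos_iff_ne_zero.mp hj0)
    · apply ne_one_of_lin
      rw [hlin, ← toM_one]
      apply toMat_ne
      intro h5
      rw [h5, Nat.beq_refl] at h4
      exact Bool.noConfusion h4
    · apply ne_one_of_tr
      rw [htr]
      intro h5
      rw [(colZero_spec hc0).mpr h5] at h4
      exact Bool.noConfusion h4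

end Cfsg.Agent.Lib.Helper90_A10Twin
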