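import Mathlib
import Cfsg.Agent.Lib.Helper98_AschDefs
import Cfsg.Agent.Lib.Helper52_Asch_PK7

/-!
# PKN1 (package of S5630, helper98's Aschbacher batch 2; proved by helper90)

A subgroup `N` of `GL ι F`, minimal among the `H`-normalized subgroups not inside the scalars `Z`,
with `⁅N, N⁆ ≤ Z` and spanning the matrix algebra (`3 ≤ card ι`), is an `r`-group with
`x ^ r = 1` for all `x` (`r` odd) or `x ^ 4 = 1` for all `x` (`r = 2`).

The group theory is done abstractly (`abstract_PKN1`): `Z` central and cyclic in a finite group.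
-/

set_option autoImplicit false

namespace Cfsg.Agent.Lib.Helper90_Asch_PKN1

open Cfsg Cfsg.Geo Matrix Cfsg.Agent.Lib.Helper98_AschDefs
open scoped commutatorElement

section Abstract

variable {G : Type*} [Group G]

/-- `y ^ n * x = x * y ^ n * c ^ n` if `y * x = x * y * c` with `c` commuting with `y` -/
lemma pow_mul_comm_central {x y c : G} (hcy : Commute c y) (h : y * x = x * y * c) (n : ℕ) :
    y ^ n * x = x * y ^ n * c ^ n := by
  induction n with
  | zero => simp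
  | succ n ih =>
    calc y ^ (n + 1) * x = y * (y ^ n * x) := by rw [pow_succ', mul_assoc]
      _ = y * (x * y ^ n * c ^ n) := by rw [ih]
      _ = (y * x) * y ^ n * c ^ n := by simp only [mul_assoc]
      _ = x * y * (c * y ^ n) * c ^ n := by rw [h]; simp only [mul_assoc]
      _ = x * y * (y ^ n * c) * c ^ n := by rw [(hcy.pow_right n).eq]
      _ = x * (y * y ^ n) * (c * c ^ n) := by simp only [mul_assoc]
      _ = x * y ^ (n + 1) * c ^ (n + 1) := by rw [← pow_succ', ← pow_succ']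

/-- the power of a product in class 2 -/
lemma mul_pow_class_two {x y c : G} (hcx : Commute c x) (hcy : Commute c y)
    (h : y * x = x * y * c) (n : ℕ) :
    (x * y) ^ n = x ^ n * y ^ n * c ^ (n.choose 2) := by
  induction n with
  | zero => simp
  | succ n ih =>
    have hc1 : Commute (c ^ (n.choose 2)) (x * y) := (hcx.mul_right hcy).pow_left _
    have hc2 : Commute (c ^ n) y := hcy.pow_left _
    have hch : (n + 1).choose 2 = n + n.choose 2 := by
      rw [Nat.choose_succ_succ' n 1, Nat.choose_one_right]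
    calc (x * y) ^ (n + 1) = (x * y) ^ n * (x * y) := pow_succ _ _
      _ = x ^ n * y ^ n * (c ^ (n.choose 2) * (x * y)) := by rw [ih]; simp only [mul_assoc]
      _ = x ^ n * y ^ n * ((x * y) * c ^ (n.choose 2)) := by rw [hc1.eq]
      _ = x ^ n * (y ^ n * x) * y * c ^ (n.choose 2) := by simp only [mul_assoc]
      _ = x ^ n * (x * y ^ n * c ^ n) * y * c ^ (n.choose 2) := by
          rw [pow_mul_comm_central hcy h n]
      _ = x ^ n * x * y ^ n * (c ^ n * y) * c ^ (n.choose 2) := by simp only [mul_assoc]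
      _ = x ^ n * x * y ^ n * (y * c ^ n) * c ^ (n.choose 2) := by rw [hc2.eq]
      _ = (x ^ n * x) * (y ^ n * y) * (c ^ n * c ^ (n.choose 2)) := by simp only [mul_assoc]
      _ = x ^ (n + 1) * y ^ (n + 1) * c ^ ((n + 1).choose 2) := by
          rw [← pow_succ, ← pow_succ, ← pow_add, hch]

/-- an element of coprime-composite order is a product of powers of smaller order: here only the
statement needed, that a subgroup containing `x ^ a` and `x ^ b` (`a`, `b` coprime) contains `x` -/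
lemma mem_of_pow_mem_of_coprime (Z : Subgroup G) {x : G} {a b : ℕ} (hab : Nat.Coprime a b)
    (ha : x ^ a ∈ Z) (hb : x ^ b ∈ Z) : x ∈ Z := by
  obtain ⟨u, v, huv⟩ := Nat.isCoprime_iff_coprime.mpr hab
  have h1 : x = (x ^ a) ^ u * (x ^ b) ^ v := by
    rw [← zpow_natCast x a, ← zpow_natCast x b, ← _root_.zpow_mul, ← _root_.zpow_mul, ← _root_.zpow_add,
      mul_comm (a : ℤ), mul_comm (b : ℤ), huv, zpow_one]
  rw [h1]
  exact Z.mul_mem (Z.zpow_mem ha u) (Z.zpow_mem hb v)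

/-- Step 1a: a subgroup not inside `Z` has an element of prime power order outside `Z` -/
lemma exists_prime_pow_not_mem [Finite G] (Z N : Subgroup G) (hNZ : ¬ N ≤ Z) :
    ∃ r : ℕ, r.Prime ∧ ∃ y ∈ N, y ∉ Z ∧ ∃ k : ℕ, y ^ (r ^ k) = 1 := by
  classical
  have hex : ∃ m, ∃ x ∈ N, x ∉ Z ∧ orderOf x = m := by
    obtain ⟨x, hx, hxZ⟩ := SetLike.not_le_iff_exists.mp hNZ
    exact ⟨_, x, hx, hxZ, rfl⟩
  obtain ⟨x, hxN, hxZ, hxm⟩ := Nat.find_spec hex
  have hmin : ∀ w ∈ N, orderOf w < Nat.find hex → w ∈ Z := by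
    intro w hw hlt
    by_contra hwZ
    exact Nat.find_min hex hlt ⟨w, hw, hwZ, rfl⟩
  set m := Nat.find hex with hm
  have hm0 : m ≠ 0 := by rw [← hxm]; exact (orderOf_pos x).ne'
  have hm1 : m ≠ 1 := by
    intro h1
    rw [h1, orderOf_eq_one_iff] at hxm
    exact hxZ (hxm ▸ Z.one_mem)
  have hp : (m.minFac).Prime := Nat.minFac_prime hm1
  set p := m.minFac with hpdef
  have hpm : p ∣ m := Nat.minFac_dvd m
  have hk : 0 < m.factorization p := hp.factorization_pos_of_dvd hm0 hpm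
  set a := p ^ (m.factorization p) with ha
  set b := m / p ^ (m.factorization p) with hb
  have hab : a * b = m := Nat.ordProj_mul_ordCompl_eq_self m p
  have hcop : Nat.Coprime a b := (Nat.coprime_ordCompl hp hm0).pow_left _
  have ha2 : 2 ≤ a := by
    have : p ^ 1 ≤ p ^ (m.factorization p) := Nat.pow_le_pow_right hp.pos hk
    rw [pow_one] at this
    exact le_trans hp.two_le this
  have hb0 : 0 < b := by
    rcases Nat.eq_zero_or_pos b with h | h
    · rw [h, mul_zero] at hab; exact absurd hab.symm hm0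
    · exact h
  have hxm' : x ^ m = 1 := by rw [← hxm]; exact pow_orderOf_eq_one x
  by_cases hb1 : b = 1
  · refine ⟨p, hp, x, hxN, hxZ, m.factorization p, ?_⟩
    rw [← ha, ← hxm', ← hab, hb1, mul_one]
  · exfalso
    have hb2 : 2 ≤ b := by omega
    have halt : a < m := by nlinarith
    have hblt : b < m := by nlinarith
    have h1 : x ^ a ∈ Z := by
      apply hmin _ (N.pow_mem hxN a)
      have : orderOf (x ^ a) ∣ b := orderOf_dvd_of_pow_eq_one (by rw [← pow_mul, hab, hxm'])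
      exact lt_of_le_of_lt (Nat.le_of_dvd hb0 this) hblt
    have h2 : x ^ b ∈ Z := by
      apply hmin _ (N.pow_mem hxN b)
      have : orderOf (x ^ b) ∣ a :=
        orderOf_dvd_of_pow_eq_one (by rw [← pow_mul, mul_comm, hab, hxm'])
      exact lt_of_le_of_lt (Nat.le_of_dvd (by omega) this) halt
    exact hxZ (mem_of_pow_mem_of_coprime Z hcop h1 h2)

end Abstract

section Main

variable {G : Type*} [Group G] (Z H N : Subgroup G)

lemma comm_mem (hcomm : ⁅N, N⁆ ≤ Z) {x y : G} (hx : x ∈ N) (hy : y ∈ N) :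
    y⁻¹ * x⁻¹ * y * x ∈ Z := by
  have h1 : ⁅y⁻¹, x⁻¹⁆ ∈ ⁅N, N⁆ :=
    Subgroup.commutator_mem_commutator (N.inv_mem hy) (N.inv_mem hx)
  have h2 := hcomm h1
  rwa [commutatorElement_def, inv_inv, inv_inv] at h2

lemma comm_rel (x y : G) : y * x = x * y * (y⁻¹ * x⁻¹ * y * x) := by group

lemma mul_pow_N (hZc : ∀ z ∈ Z, ∀ g : G, z * g = g * z) (hcomm : ⁅N, N⁆ ≤ Z) {x y : G}
    (hx : x ∈ N) (hy : y ∈ N) (n : ℕ) :
    (x * y) ^ n = x ^ n * y ^ n * (y⁻¹ * x⁻¹ * y * x) ^ (n.choose 2) :=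
  mul_pow_class_two (hZc _ (comm_mem Z N hcomm hx hy) x) (hZc _ (comm_mem Z N hcomm hx hy) y)
    (comm_rel x y) n

lemma comm_pow_eq_one (hZc : ∀ z ∈ Z, ∀ g : G, z * g = g * z) (hcomm : ⁅N, N⁆ ≤ Z) {x y : G}
    (hx : x ∈ N) (hy : y ∈ N) {n : ℕ} (hyn : y ^ n ∈ Z) :
    (y⁻¹ * x⁻¹ * y * x) ^ n = 1 := by
  have h1 := pow_mul_comm_central (hZc _ (comm_mem Z N hcomm hx hy) y) (comm_rel x y) n
  rw [hZc _ hyn x] at h1
  simpa using h1

/-- the subgroup of `N` cut out by a conjugation-invariant multiplicative predicate is all of `N`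
or inside `Z` -/
lemma dichotomy (hnorm : ∀ h ∈ H, ∀ x ∈ N, h * x * h⁻¹ ∈ N)
    (hmin : ∀ N' : Subgroup G, N' ≤ N → (∀ h ∈ H, ∀ x ∈ N', h * x * h⁻¹ ∈ N') →
      N' = N ∨ N' ≤ Z)
    (P : G → Prop) (h1 : P 1) (hmul : ∀ x ∈ N, ∀ y ∈ N, P x → P y → P (x * y))
    (hinv : ∀ x, P x → P x⁻¹) (hconj : ∀ h x, P x → P (h * x * h⁻¹)) :
    (∀ x ∈ N, P x) ∨ (∀ x ∈ N, P x → x ∈ Z) := by
  let N' : Subgroup G :=
    { carrier := {x | x ∈ N ∧ P x}
      mul_mem' := fun {a b} ha hb => ⟨N.mul_mem ha.1 hb.1, hmul a ha.1 b hb.1 ha.2 hb.2⟩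
      one_mem' := ⟨N.one_mem, h1⟩
      inv_mem' := fun {a} ha => ⟨N.inv_mem ha.1, hinv a ha.2⟩ }
  have hle : N' ≤ N := fun x hx => hx.1
  have hn' : ∀ h ∈ H, ∀ x ∈ N', h * x * h⁻¹ ∈ N' :=
    fun h hh x hx => ⟨hnorm h hh x hx.1, hconj h x hx.2⟩
  rcases hmin N' hle hn' with h | h
  · left
    intro x hx
    have : x ∈ N' := h ▸ hx
    exact this.2
  · right
    intro x hx hP
    exact h ⟨hx, hP⟩

/-- if `x ↦ x ^ e` is a homomorphism `N → N ⊓ Z` whose kernel lies in the cyclic group `Z`, then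
`card N ≤ e * card (N ⊓ Z)` -/
lemma card_le_of_pow_hom [Finite G] [IsCyclic Z] (e : ℕ) (he : 0 < e)
    (hmul : ∀ x ∈ N, ∀ y ∈ N, (x * y) ^ e = x ^ e * y ^ e) (hZ : ∀ x ∈ N, x ^ e ∈ Z)
    (hker : ∀ x ∈ N, x ^ e = 1 → x ∈ Z) :
    Nat.card N ≤ e * Nat.card (N ⊓ Z : Subgroup G) := by
  let φ : ↥N →* G :=
    { toFun := fun x => (x : G) ^ e
      map_one' := by simp
      map_mul' := fun x y => by simpa using hmul x x.2 y y.2 }
  have h1 : Nat.card φ.ker * Nat.card φ.range = Nat.card N := by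
    rw [← Subgroup.index_ker]
    exact Subgroup.card_mul_index _
  have h2 : Nat.card φ.range ≤ Nat.card (N ⊓ Z : Subgroup G) := by
    apply Subgroup.card_le_of_le
    rintro _ ⟨x, rfl⟩
    exact ⟨N.pow_mem x.2 e, hZ x x.2⟩
  have h3 : Nat.card φ.ker ≤ e := by
    have hK : φ.ker.map N.subtype ≤ Z := by
      rintro _ ⟨x, hx, rfl⟩
      exact hker x x.2 (by simpa [φ, MonoidHom.mem_ker] using hx)
    have : IsCyclic (φ.ker.map N.subtype) := Subgroup.isCyclic_of_le hK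
    have h4 : Monoid.exponent (φ.ker.map N.subtype) ∣ e := by
      apply Monoid.exponent_dvd_of_forall_pow_eq_one
      rintro ⟨_, x, hx, rfl⟩
      apply Subtype.ext
      simpa [φ, MonoidHom.mem_ker] using hx
    rw [IsCyclic.exponent_eq_card] at h4
    have h5 : Nat.card (φ.ker.map N.subtype) = Nat.card φ.ker :=
      (Nat.card_congr (φ.ker.equivMapOfInjective N.subtype N.subtype_injective).toEquiv).symm
    rw [← h5]
    exact Nat.le_of_dvd he h4
  calc Nat.card N = Nat.card φ.ker * Nat.card φ.range := h1.symm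
    _ ≤ e * Nat.card (N ⊓ Z : Subgroup G) := Nat.mul_le_mul h3 h2

/-- the abstract form of PKN1: `Z` a central cyclic subgroup of a finite group -/
theorem abstract_PKN1 [Finite G] [IsCyclic Z] (hZc : ∀ z ∈ Z, ∀ g : G, z * g = g * z)
    (hnorm : ∀ h ∈ H, ∀ x ∈ N, h * x * h⁻¹ ∈ N) (hNZ : ¬ N ≤ Z)
    (hmin : ∀ N' : Subgroup G, N' ≤ N → (∀ h ∈ H, ∀ x ∈ N', h * x * h⁻¹ ∈ N') →
      N' = N ∨ N' ≤ Z)
    (hcomm : ⁅N, N⁆ ≤ Z) (n : ℕ) (hn : 3 ≤ n)
    (hcard : Nat.card N = Nat.card (N ⊓ Z : Subgroup G) * n ^ 2) :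
    ∃ r : ℕ, r.Prime ∧ IsPGroup r N ∧
      ((r ≠ 2 ∧ ∀ x ∈ N, x ^ r = 1) ∨ (r = 2 ∧ ∀ x ∈ N, x ^ 4 = 1)) := by
  obtain ⟨r, hr, y0, hy0N, hy0Z, k0, hy0⟩ := exists_prime_pow_not_mem Z N hNZ
  have : Fact r.Prime := ⟨hr⟩
  -- Step 1b: all elements of `N` are `r`-elements
  have hP : ∀ x ∈ N, ∃ k : ℕ, x ^ (r ^ k) = 1 := by
    have hmulP : ∀ x ∈ N, ∀ y ∈ N, (∃ k : ℕ, x ^ (r ^ k) = 1) → (∃ k : ℕ, y ^ (r ^ k) = 1) →
        ∃ k : ℕ, (x * y) ^ (r ^ k) = 1 := by
      rintro x hx y hy ⟨a, ha⟩ ⟨b, hb⟩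
      refine ⟨(a + b) + (a + b), ?_⟩
      have hxq : x ^ (r ^ (a + b)) = 1 := by rw [pow_add, pow_mul, ha, one_pow]
      have hyq : y ^ (r ^ (a + b)) = 1 := by rw [pow_add, mul_comm, pow_mul, hb, one_pow]
      have hcq : (y⁻¹ * x⁻¹ * y * x) ^ (r ^ (a + b)) = 1 :=
        comm_pow_eq_one Z N hZc hcomm hx hy (by rw [hyq]; exact Z.one_mem)
      rw [pow_add r, pow_mul, mul_pow_N Z N hZc hcomm hx hy (r ^ (a + b)), hxq, hyq, one_mul,
        one_mul, ← pow_mul, mul_comm, pow_mul, hcq, one_pow]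
    have hinvP : ∀ x : G, (∃ k : ℕ, x ^ (r ^ k) = 1) → ∃ k : ℕ, (x⁻¹) ^ (r ^ k) = 1 := by
      rintro x ⟨k, hk⟩
      exact ⟨k, by rw [inv_pow, hk, inv_one]⟩
    have hconjP : ∀ h x : G, (∃ k : ℕ, x ^ (r ^ k) = 1) →
        ∃ k : ℕ, (h * x * h⁻¹) ^ (r ^ k) = 1 := by
      rintro h x ⟨k, hk⟩
      exact ⟨k, by rw [conj_pow, hk, mul_one, mul_inv_cancel]⟩
    rcases dichotomy Z H N hnorm hmin (fun x => ∃ k : ℕ, x ^ (r ^ k) = 1) ⟨0, by simp⟩
      hmulP hinvP hconjP with h | h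
    · exact h
    · exact absurd (h y0 hy0N ⟨k0, hy0⟩) hy0Z
  have hpg : IsPGroup r N := by
    rintro ⟨g, hg⟩
    obtain ⟨k, hk⟩ := hP g hg
    exact ⟨k, Subtype.ext (by simpa using hk)⟩
  -- Step 2: `r`-th powers are in `Z`
  have hrZ : ∀ x ∈ N, x ^ r ∈ Z := by
    have hmulP : ∀ x ∈ N, ∀ y ∈ N, x ^ r ∈ Z → y ^ r ∈ Z → (x * y) ^ r ∈ Z := by
      rintro x hx y hy hxr hyr
      rw [mul_pow_N Z N hZc hcomm hx hy r]
      exact Z.mul_mem (Z.mul_mem hxr hyr) (Z.pow_mem (comm_mem Z N hcomm hx hy) _)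
    have hinvP : ∀ x : G, x ^ r ∈ Z → (x⁻¹) ^ r ∈ Z := by
      intro x hx
      rw [inv_pow]
      exact Z.inv_mem hx
    have hconjP : ∀ h x : G, x ^ r ∈ Z → (h * x * h⁻¹) ^ r ∈ Z := by
      intro h x hx
      rw [conj_pow, ← hZc _ hx h, mul_inv_cancel_right]
      exact hx
    rcases dichotomy Z H N hnorm hmin (fun x => x ^ r ∈ Z) (by simp [Z.one_mem])
      hmulP hinvP hconjP with h | h
    · exact h
    · exfalso
      classical
      have hex : ∃ j : ℕ, y0 ^ (r ^ j) ∈ Z := ⟨k0, by rw [hy0]; exact Z.one_mem⟩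
      have hj0 : Nat.find hex ≠ 0 := by
        intro h0
        have := Nat.find_spec hex
        rw [h0, pow_zero, pow_one] at this
        exact hy0Z this
      obtain ⟨j', hj'⟩ := Nat.exists_eq_succ_of_ne_zero hj0
      have hw : y0 ^ (r ^ j') ∉ Z := Nat.find_min hex (by omega)
      apply hw
      apply h _ (N.pow_mem hy0N _)
      show (y0 ^ (r ^ j')) ^ r ∈ Z
      rw [← pow_mul, ← pow_succ, ← Nat.succ_eq_add_one, ← hj']
      exact Nat.find_spec hex
  -- commutators have order dividing `r`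
  have hcr : ∀ x ∈ N, ∀ y ∈ N, (y⁻¹ * x⁻¹ * y * x) ^ r = 1 :=
    fun x hx y hy => comm_pow_eq_one Z N hZc hcomm hx hy (hrZ y hy)
  -- the `e`-th power map
  have key : ∀ e : ℕ, 0 < e → (∀ x ∈ N, ∀ y ∈ N, (x * y) ^ e = x ^ e * y ^ e) →
      (∀ x ∈ N, x ^ e ∈ Z) → (∀ x ∈ N, x ^ e = 1) ∨ n ^ 2 ≤ e := by
    intro e he hmul hZ
    have hmulP : ∀ x ∈ N, ∀ y ∈ N, x ^ e = 1 → y ^ e = 1 → (x * y) ^ e = 1 := by
      rintro x hx y hy hxe hye
      rw [hmul x hx y hy, hxe, hye, one_mul]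
    have hinvP : ∀ x : G, x ^ e = 1 → (x⁻¹) ^ e = 1 := by
      intro x hx
      rw [inv_pow, hx, inv_one]
    have hconjP : ∀ h x : G, x ^ e = 1 → (h * x * h⁻¹) ^ e = 1 := by
      intro h x hx
      rw [conj_pow, hx, mul_one, mul_inv_cancel]
    rcases dichotomy Z H N hnorm hmin (fun x => x ^ e = 1) (by simp) hmulP hinvP hconjP
      with h | h
    · left
      exact h
    · right
      have h1 := card_le_of_pow_hom Z N e he hmul hZ h
      rw [hcard, mul_comm] at h1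
      have hpos : 0 < Nat.card (N ⊓ Z : Subgroup G) := Nat.card_pos
      exact Nat.le_of_mul_le_mul_right h1 hpos
  refine ⟨r, hr, hpg, ?_⟩
  by_cases h2 : r = 2
  · right
    refine ⟨h2, ?_⟩
    subst h2
    have hmul4 : ∀ x ∈ N, ∀ y ∈ N, (x * y) ^ 4 = x ^ 4 * y ^ 4 := by
      intro x hx y hy
      rw [mul_pow_N Z N hZc hcomm hx hy 4]
      have : (y⁻¹ * x⁻¹ * y * x) ^ (Nat.choose 4 2) = 1 := by
        have h6 : Nat.choose 4 2 = 2 * 3 := by decide
        rw [h6, pow_mul, hcr x hx y hy, one_pow]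
      rw [this, mul_one]
    have hZ4 : ∀ x ∈ N, x ^ 4 ∈ Z := by
      intro x hx
      have : x ^ 4 = (x ^ 2) ^ 2 := by rw [← pow_mul]
      rw [this]
      exact Z.pow_mem (hrZ x hx) 2
    rcases key 4 (by norm_num) hmul4 hZ4 with h | h
    · exact h
    · exfalso
      nlinarith
  · left
    refine ⟨h2, ?_⟩
    have hr3 : 2 < r := lt_of_le_of_ne hr.two_le (Ne.symm h2)
    have hmulr : ∀ x ∈ N, ∀ y ∈ N, (x * y) ^ r = x ^ r * y ^ r := by
      intro x hx y hy
      rw [mul_pow_N Z N hZc hcomm hx hy r]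
      obtain ⟨q, hq⟩ := hr.dvd_choose_self (k := 2) (by norm_num) hr3
      rw [hq, pow_mul, hcr x hx y hy, one_pow, mul_one]
    rcases key r hr.pos hmulr hrZ with h | h
    · exact h
    · exfalso
      obtain ⟨a, ha⟩ := IsPGroup.iff_card.mp hpg
      have hdvd : n ^ 2 ∣ r ^ a := by
        rw [← ha, hcard]
        exact Dvd.intro_left _ rfl
      obtain ⟨b, hba, hb⟩ := (Nat.dvd_prime_pow hr).1 hdvd
      have hb1 : b ≤ 1 := by
        by_contra hb2
        have hb2' : 2 ≤ b := by omega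
        have : r ^ 2 ≤ r ^ b := Nat.pow_le_pow_right hr.pos hb2'
        nlinarith
      interval_cases b
      · simp at hb
        nlinarith
      · rw [pow_one] at hb
        have : ¬ (n * n).Prime := Nat.not_prime_mul (by omega) (by omega)
        apply this
        rw [← sq, hb]
        exact hr

end Main

section Concrete

variable {ι : Type} [Fintype ι] [DecidableEq ι] {F : Type*} [Field F]

/-- the scalars are central in `GL ι F` -/
lemma scalars_central (z : GL ι F) (hz : z ∈ scalars ι F) (g : GL ι F) : z * g = g * z := by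
  rw [mem_scalars_iff] at hz
  obtain ⟨c, hc⟩ := hz
  apply Units.ext
  rw [Units.val_mul, Units.val_mul, hc, smul_mul_assoc, one_mul, mul_smul_comm, mul_one]

/-- the scalars of a finite field form a cyclic group -/
instance scalars_isCyclic [Finite F] : IsCyclic (scalars ι F) := by
  unfold scalars
  exact isCyclic_of_surjective _ (MonoidHom.rangeRestrict_surjective _)

/-- PKN1: in the class-2 case the minimal subgroup is an `r`-group of exponent `r` (or dividing 4) -/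
theorem PKN1 [Finite F] [Nonempty ι] (H N : Subgroup (GL ι F)) (hnorm : NormalizesGrp H N)
    (hNZ : ¬ N ≤ scalars ι F)
    (hmin : ∀ N' : Subgroup (GL ι F), N' ≤ N → NormalizesGrp H N' → N' = N ∨ N' ≤ scalars ι F)
    (hspan : spanAlg N = ⊤) (hcomm : ⁅N, N⁆ ≤ scalars ι F) (hcard : 3 ≤ Fintype.card ι) :
    ∃ r : ℕ, r.Prime ∧ IsPGroup r N ∧
      ((r ≠ 2 ∧ ∀ x ∈ N, x ^ r = 1) ∨ (r = 2 ∧ ∀ x ∈ N, x ^ 4 = 1)) :=
  abstract_PKN1 (scalars ι F) H N scalars_central hnorm hNZ hmin hcomm (Fintype.card ι) hcard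
    (Cfsg.Agent.Lib.Helper52_Asch_PK7.PK7 N hspan hcomm)

end Concrete

end Cfsg.Agent.Lib.Helper90_Asch_PKN1
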