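import Mathlib
import Cfsg.Prelude.Def_Local
import Cfsg.Agent.Lib.Helper5_PSLSimple
import Cfsg.Agent.Lib.Helper21_Components
import Cfsg.Agent.Lib.Helper29_Local

set_option autoImplicit false

namespace Cfsg.Agent.Lib.Helper90_BlockSL

open Matrix

variable {F : Type*} [Field F] {m : ℕ}

/-- block matrix `diag(A, 1)` with the extra index last -/
noncomputable def blkM (A : Matrix (Fin m) (Fin m) F) : Matrix (Fin (m+1)) (Fin (m+1)) F :=
  Matrix.reindex finSumFinEquiv finSumFinEquiv (Matrix.fromBlocks A 0 0 (1 : Matrix (Fin 1) (Fin 1) F))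

theorem blkM_det (A : Matrix (Fin m) (Fin m) F) : (blkM A).det = A.det := by
  unfold blkM
  rw [Matrix.det_reindex_self, Matrix.det_fromBlocks_zero₂₁]
  simp

theorem blkM_mul (A B : Matrix (Fin m) (Fin m) F) : blkM (A * B) = blkM A * blkM B := by
  unfold blkM
  simp only [Matrix.reindex_apply]
  rw [Matrix.submatrix_mul_equiv, Matrix.fromBlocks_multiply]
  simp

@[simp] theorem blkM_cc (A : Matrix (Fin m) (Fin m) F) (i j : Fin m) :
    blkM A i.castSucc j.castSucc = A i j := by
  unfold blkM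
  simp [Matrix.reindex_apply]

@[simp] theorem blkM_cl (A : Matrix (Fin m) (Fin m) F) (i : Fin m) :
    blkM A i.castSucc (Fin.last m) = 0 := by
  unfold blkM
  simp [Matrix.reindex_apply]

@[simp] theorem blkM_lc (A : Matrix (Fin m) (Fin m) F) (i : Fin m) :
    blkM A (Fin.last m) i.castSucc = 0 := by
  unfold blkM
  simp [Matrix.reindex_apply]

@[simp] theorem blkM_ll (A : Matrix (Fin m) (Fin m) F) : blkM A (Fin.last m) (Fin.last m) = 1 := by
  unfold blkM
  simp [Matrix.reindex_apply]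

/-- block diagonal shape -/
def IsBlk (x : Matrix (Fin (m+1)) (Fin (m+1)) F) : Prop :=
  ∀ i : Fin m, x i.castSucc (Fin.last m) = 0 ∧ x (Fin.last m) i.castSucc = 0

/-- the diagonal matrix `diag(a, …, a, b)` -/
def dg (a b : F) : Matrix (Fin (m+1)) (Fin (m+1)) F :=
  Matrix.diagonal (Fin.lastCases b (fun _ => a))

theorem isBlk_comm_dg {x : Matrix (Fin (m+1)) (Fin (m+1)) F} (h : IsBlk x) (a b : F) :
    x * dg a b = dg a b * x := by
  unfold dg
  ext i j
  rw [Matrix.mul_diagonal, Matrix.diagonal_mul]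
  induction i using Fin.lastCases with
  | last =>
    induction j using Fin.lastCases with
    | last => simp [mul_comm]
    | cast j => simp [(h j).2]
  | cast i =>
    induction j using Fin.lastCases with
    | last => simp [(h i).1]
    | cast j => simp [mul_comm]

theorem comm_dg_iff {a b : F} (hab : a ≠ b) (x : Matrix (Fin (m+1)) (Fin (m+1)) F) :
    x * dg a b = dg a b * x ↔ IsBlk x := by
  unfold dg
  constructor
  · intro h i
    have h1 := congrFun (congrFun h i.castSucc) (Fin.last m)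
    have h2 := congrFun (congrFun h (Fin.last m)) i.castSucc
    rw [Matrix.mul_diagonal, Matrix.diagonal_mul] at h1 h2
    simp only [Fin.lastCases_last, Fin.lastCases_castSucc] at h1 h2
    constructor
    · have : (b - a) * x i.castSucc (Fin.last m) = 0 := by linear_combination h1
      rcases mul_eq_zero.1 this with h | h
      · exact absurd (sub_eq_zero.1 h).symm hab
      · exact h
    · have : (a - b) * x (Fin.last m) i.castSucc = 0 := by linear_combination h2
      rcases mul_eq_zero.1 this with h | h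
      · exact absurd (sub_eq_zero.1 h) hab
      · exact h
  · intro h
    ext i j
    rw [Matrix.mul_diagonal, Matrix.diagonal_mul]
    induction i using Fin.lastCases with
    | last =>
      induction j using Fin.lastCases with
      | last => simp [mul_comm]
      | cast j => simp [(h j).2]
    | cast i =>
      induction j using Fin.lastCases with
      | last => simp [(h i).1]
      | cast j => simp [mul_comm]


theorem isBlk_mul_ll {x y : Matrix (Fin (m+1)) (Fin (m+1)) F} (hx : IsBlk x) :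
    (x * y) (Fin.last m) (Fin.last m) = x (Fin.last m) (Fin.last m) * y (Fin.last m) (Fin.last m) := by
  rw [Matrix.mul_apply, Fin.sum_univ_castSucc]
  simp [(hx _).2]

theorem isBlk_mul_cc {x y : Matrix (Fin (m+1)) (Fin (m+1)) F} (hx : IsBlk x) (i j : Fin m) :
    (x * y) i.castSucc j.castSucc =
      (x.submatrix Fin.castSucc Fin.castSucc * y.submatrix Fin.castSucc Fin.castSucc) i j := by
  rw [Matrix.mul_apply, Matrix.mul_apply, Fin.sum_univ_castSucc]
  simp [(hx _).1]

theorem isBlk_mul_cc' {x y : Matrix (Fin (m+1)) (Fin (m+1)) F} (hy : IsBlk y) (i j : Fin m) :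
    (x * y) i.castSucc j.castSucc =
      (x.submatrix Fin.castSucc Fin.castSucc * y.submatrix Fin.castSucc Fin.castSucc) i j := by
  rw [Matrix.mul_apply, Matrix.mul_apply, Fin.sum_univ_castSucc]
  simp [(hy _).2]

theorem isBlk_blkM (A : Matrix (Fin m) (Fin m) F) : IsBlk (blkM A) := fun i => ⟨by simp, by simp⟩

theorem eq_blkM_of_isBlk {x : Matrix (Fin (m+1)) (Fin (m+1)) F} (hx : IsBlk x)
    (h1 : x (Fin.last m) (Fin.last m) = 1) : x = blkM (x.submatrix Fin.castSucc Fin.castSucc) := by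
  ext i j
  induction i using Fin.lastCases with
  | last =>
    induction j using Fin.lastCases with
    | last => simp [h1]
    | cast j => simp [(hx j).2]
  | cast i =>
    induction j using Fin.lastCases with
    | last => simp [(hx i).1]
    | cast j => simp

theorem blkM_injective : Function.Injective (blkM : Matrix (Fin m) (Fin m) F → _) := by
  intro A B h
  ext i j
  have := congrFun (congrFun h i.castSucc) j.castSucc
  simpa using this

section SL

open scoped MatrixGroups

variable (F m)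

/-- the ambient special linear group -/
abbrev SLn := Matrix.SpecialLinearGroup (Fin (m+1)) F

variable {F m}

/-- the subgroup of `SL` commuting with a given matrix -/
def commSub (D : Matrix (Fin (m+1)) (Fin (m+1)) F) : Subgroup (SLn F m) where
  carrier := {x | x.1 * D = D * x.1}
  one_mem' := by
    show (1 : SLn F m).1 * D = D * (1 : SLn F m).1
    simp
  mul_mem' := by
    intro x y hx hy
    have hx' : x.1 * D = D * x.1 := hx
    have hy' : y.1 * D = D * y.1 := hy
    show (x * y).1 * D = D * (x * y).1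
    rw [Matrix.SpecialLinearGroup.coe_mul, Matrix.mul_assoc, hy', ← Matrix.mul_assoc, hx', Matrix.mul_assoc]
  inv_mem' := by
    intro x hx
    have hx' : x.1 * D = D * x.1 := hx
    show (x⁻¹).1 * D = D * (x⁻¹).1
    have h1 : (x⁻¹).1 * x.1 = 1 := by
      rw [← Matrix.SpecialLinearGroup.coe_mul, inv_mul_cancel, Matrix.SpecialLinearGroup.coe_one]
    have h2 : x.1 * (x⁻¹).1 = 1 := by
      rw [← Matrix.SpecialLinearGroup.coe_mul, mul_inv_cancel, Matrix.SpecialLinearGroup.coe_one]
    calc (x⁻¹).1 * D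
        = (x⁻¹).1 * D * (x.1 * (x⁻¹).1) := by rw [h2, Matrix.mul_one]
      _ = (x⁻¹).1 * (D * x.1) * (x⁻¹).1 := by simp only [Matrix.mul_assoc]
      _ = (x⁻¹).1 * (x.1 * D) * (x⁻¹).1 := by rw [hx']
      _ = ((x⁻¹).1 * x.1) * D * (x⁻¹).1 := by simp only [Matrix.mul_assoc]
      _ = D * (x⁻¹).1 := by rw [h1, Matrix.one_mul]

theorem mem_commSub {D : Matrix (Fin (m+1)) (Fin (m+1)) F} {x : SLn F m} :
    x ∈ commSub D ↔ x.1 * D = D * x.1 := Iff.rfl

/-- the block-diagonal subgroup -/
def Cb : Subgroup (SLn F m) := commSub (dg 0 1)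

theorem mem_Cb {x : SLn F m} : x ∈ (Cb : Subgroup (SLn F m)) ↔ IsBlk x.1 :=
  comm_dg_iff zero_ne_one _

theorem commSub_dg {a b : F} (hab : a ≠ b) : commSub (dg a b) = (Cb : Subgroup (SLn F m)) := by
  ext x
  rw [mem_commSub, comm_dg_iff hab, mem_Cb]

/-- the corner entry as a monoid hom on the block-diagonal subgroup -/
def chi : ↥(Cb : Subgroup (SLn F m)) →* F where
  toFun x := (x : SLn F m).1 (Fin.last m) (Fin.last m)
  map_one' := by simp
  map_mul' x y := by
    have := isBlk_mul_ll (y := (y : SLn F m).1) (mem_Cb.1 x.2)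
    simpa using this

/-- the copy of `SL_m` inside the block-diagonal subgroup -/
def Lb : Subgroup ↥(Cb : Subgroup (SLn F m)) := (chi : ↥(Cb : Subgroup (SLn F m)) →* F).ker

instance : (Lb : Subgroup ↥(Cb : Subgroup (SLn F m))).Normal := by
  unfold Lb; infer_instance

theorem mem_Lb {x : ↥(Cb : Subgroup (SLn F m))} :
    x ∈ (Lb : Subgroup ↥(Cb : Subgroup (SLn F m))) ↔ (x : SLn F m).1 (Fin.last m) (Fin.last m) = 1 :=
  MonoidHom.mem_ker

theorem blkM_one : blkM (1 : Matrix (Fin m) (Fin m) F) = 1 := by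
  have := eq_blkM_of_isBlk (x := (1 : Matrix (Fin (m+1)) (Fin (m+1)) F))
    (fun i => ⟨by simp [(Fin.castSucc_lt_last i).ne],
      by simp [(Fin.castSucc_lt_last i).ne']⟩) (by simp)
  rw [this]
  congr 1
  ext i j
  simp [Matrix.one_apply]

/-- the block embedding into `SL` -/
noncomputable def blk0 : Matrix.SpecialLinearGroup (Fin m) F →* SLn F m :=
  MonoidHom.mk' (fun A => ⟨blkM A.1, by rw [blkM_det]; exact A.2⟩) (by
    intro A B
    apply Subtype.ext
    show blkM (A * B).1 = blkM A.1 * blkM B.1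
    rw [Matrix.SpecialLinearGroup.coe_mul, blkM_mul])

theorem blk0_coe (A : Matrix.SpecialLinearGroup (Fin m) F) : (blk0 A : SLn F m).1 = blkM A.1 := rfl

/-- the block embedding -/
noncomputable def blk : Matrix.SpecialLinearGroup (Fin m) F →* ↥(Cb : Subgroup (SLn F m)) :=
  blk0.codRestrict Cb (fun A => mem_Cb.2 (by rw [blk0_coe]; exact isBlk_blkM _))

theorem blk_coe (A : Matrix.SpecialLinearGroup (Fin m) F) :
    ((blk A : ↥(Cb : Subgroup (SLn F m))) : SLn F m).1 = blkM A.1 := rfl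

theorem blk_injective : Function.Injective (blk : Matrix.SpecialLinearGroup (Fin m) F →* ↥(Cb : Subgroup (SLn F m))) := by
  intro A B h
  apply Subtype.ext
  apply blkM_injective
  have := congrArg (fun z : ↥(Cb : Subgroup (SLn F m)) => (z : SLn F m).1) h
  simpa [blk_coe] using this

theorem blk_range : (blk : Matrix.SpecialLinearGroup (Fin m) F →* ↥(Cb : Subgroup (SLn F m))).range = Lb := by
  ext x
  rw [mem_Lb]
  constructor
  · rintro ⟨A, rfl⟩
    rw [blk_coe]; simp
  · intro h1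
    have hb := mem_Cb.1 x.2
    have hx := eq_blkM_of_isBlk hb h1
    have hdet : ((x : SLn F m).1.submatrix Fin.castSucc Fin.castSucc).det = 1 := by
      rw [← blkM_det, ← hx]; exact (x : SLn F m).2
    refine ⟨⟨_, hdet⟩, ?_⟩
    apply Subtype.ext
    apply Subtype.ext
    exact hx.symm

/-- `SL_m ≃ Lb` -/
noncomputable def blkEquiv : Matrix.SpecialLinearGroup (Fin m) F ≃* ↥(Lb : Subgroup ↥(Cb : Subgroup (SLn F m))) :=
  (MonoidHom.ofInjective blk_injective).trans (MulEquiv.subgroupCongr blk_range)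


theorem isQuasisimple_SL (h3 : 3 ≤ m) : IsQuasisimple (Matrix.SpecialLinearGroup (Fin m) F) := by
  refine ⟨⟨Cfsg.Agent.Lib.Helper5_SLGen.commutator_eq_top_of_three_le_card (by simpa using h3)⟩, ?_⟩
  exact Cfsg.Agent.Lib.Helper5_PSLSimple.psl_simple (F := F) (ι := Fin m) (by simpa using h3)

theorem isQuasisimple_Lb (h3 : 3 ≤ m) :
    IsQuasisimple ↥(Lb : Subgroup ↥(Cb : Subgroup (SLn F m))) :=
  Cfsg.Agent.Lib.Helper29_Local.isQuasisimple_of_mulEquiv blkEquiv (isQuasisimple_SL h3)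

theorem isComponent_Lb (h3 : 3 ≤ m) : IsComponent (Lb : Subgroup ↥(Cb : Subgroup (SLn F m))) :=
  ⟨Subgroup.Normal.isSubnormal inferInstance, isQuasisimple_Lb h3⟩

/-- `diag(a,…,a,b)` shape -/
def IsDg (x : Matrix (Fin (m+1)) (Fin (m+1)) F) : Prop := ∃ a b : F, x = dg a b

theorem IsDg.isBlk {x : Matrix (Fin (m+1)) (Fin (m+1)) F} (h : IsDg x) : IsBlk x := by
  obtain ⟨a, b, rfl⟩ := h
  intro i
  unfold dg
  constructor
  · rw [Matrix.diagonal_apply_ne _ (Fin.castSucc_lt_last i).ne]
  · rw [Matrix.diagonal_apply_ne _ (Fin.castSucc_lt_last i).ne']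

theorem dg_mul_dg (a b c d : F) : (dg a b : Matrix (Fin (m+1)) (Fin (m+1)) F) * dg c d = dg (a * c) (b * d) := by
  unfold dg
  rw [Matrix.diagonal_mul_diagonal]
  congr 1
  funext i
  induction i using Fin.lastCases with
  | last => simp
  | cast i => simp

theorem IsDg.comm {x y : Matrix (Fin (m+1)) (Fin (m+1)) F} (hx : IsDg x) (hy : IsDg y) : x * y = y * x := by
  obtain ⟨a, b, rfl⟩ := hx
  obtain ⟨c, d, rfl⟩ := hy
  rw [dg_mul_dg, dg_mul_dg, mul_comm a c, mul_comm b d]

/-- elements of the block-diagonal group centralizing `Lb` are of the form `diag(a,…,a,b)` -/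
theorem isDg_of_mem_centralizer_Lb {x : ↥(Cb : Subgroup (SLn F m))}
    (hx : x ∈ Subgroup.centralizer ((Lb : Subgroup ↥(Cb : Subgroup (SLn F m))) : Set ↥(Cb : Subgroup (SLn F m)))) :
    IsDg (x : SLn F m).1 := by
  have hb : IsBlk (x : SLn F m).1 := mem_Cb.1 x.2
  set X := (x : SLn F m).1 with hX
  set A := X.submatrix Fin.castSucc Fin.castSucc with hA
  have hcomm : ∀ t : Matrix.TransvectionStruct (Fin m) F, Commute t.toMatrix A := by
    intro t
    let T' : Matrix.SpecialLinearGroup (Fin m) F := ⟨t.toMatrix, t.det⟩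
    have hmem : blk T' ∈ (Lb : Subgroup ↥(Cb : Subgroup (SLn F m))) := by
      rw [← blk_range]; exact ⟨T', rfl⟩
    have h1 := (Subgroup.mem_centralizer_iff.1 hx) (blk T') hmem
    have h2 : blkM t.toMatrix * X = X * blkM t.toMatrix := by
      have := congrArg (fun z : ↥(Cb : Subgroup (SLn F m)) => (z : SLn F m).1) h1
      simpa [blk_coe] using this
    have hsub : (blkM t.toMatrix).submatrix Fin.castSucc Fin.castSucc = t.toMatrix := by
      ext i j; simp
    show t.toMatrix * A = A * t.toMatrix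
    ext i j
    have e1 := isBlk_mul_cc (x := blkM t.toMatrix) (y := X) (isBlk_blkM _) i j
    have e2 := isBlk_mul_cc' (x := X) (y := blkM t.toMatrix) (isBlk_blkM _) i j
    rw [hsub] at e1 e2
    rw [← e1, ← e2, h2]
  obtain ⟨a, ha⟩ := Matrix.mem_range_scalar_of_commute_transvectionStruct hcomm
  refine ⟨a, X (Fin.last m) (Fin.last m), ?_⟩
  ext i j
  unfold dg
  induction i using Fin.lastCases with
  | last =>
    induction j using Fin.lastCases with
    | last => simp
    | cast j => rw [(hb j).2, Matrix.diagonal_apply_ne _ (Fin.castSucc_lt_last j).ne']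
  | cast i =>
    induction j using Fin.lastCases with
    | last => rw [(hb i).1, Matrix.diagonal_apply_ne _ (Fin.castSucc_lt_last i).ne]
    | cast j =>
      have : X i.castSucc j.castSucc = A i j := rfl
      rw [this, ← ha]
      by_cases hij : i = j
      · subst hij; simp
      · rw [Matrix.diagonal_apply_ne _ (fun h => hij (Fin.castSucc_injective _ h))]
        simp [Matrix.scalar_apply, hij]


theorem dg_det (a b : F) : (dg a b : Matrix (Fin (m+1)) (Fin (m+1)) F).det = a ^ m * b := by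
  unfold dg
  rw [Matrix.det_diagonal, Fin.prod_univ_castSucc]
  simp

theorem dg_one_one : (dg 1 1 : Matrix (Fin (m+1)) (Fin (m+1)) F) = 1 := by
  unfold dg
  rw [← Matrix.diagonal_one]
  congr 1
  funext i
  induction i using Fin.lastCases with
  | last => simp
  | cast i => simp

theorem dg_injective {a b c d : F} (hm : 1 ≤ m)
    (h : (dg a b : Matrix (Fin (m+1)) (Fin (m+1)) F) = dg c d) : a = c ∧ b = d := by
  unfold dg at h
  have h' := Matrix.diagonal_injective h
  constructor
  · have := congrFun h' (Fin.castSucc ⟨0, hm⟩)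
    simpa only [Fin.lastCases_castSucc] using this
  · have := congrFun h' (Fin.last m)
    simpa using this

/-- the image of `Lb` in `SL` -/
def Lmap : Subgroup (SLn F m) := (Lb : Subgroup ↥(Cb : Subgroup (SLn F m))).map (Cb : Subgroup (SLn F m)).subtype

theorem mem_Lmap {x : SLn F m} :
    x ∈ (Lmap : Subgroup (SLn F m)) ↔ IsBlk x.1 ∧ x.1 (Fin.last m) (Fin.last m) = 1 := by
  unfold Lmap
  constructor
  · rintro ⟨y, hy, rfl⟩
    exact ⟨mem_Cb.1 y.2, mem_Lb.1 hy⟩
  · rintro ⟨h1, h2⟩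
    exact ⟨⟨x, mem_Cb.2 h1⟩, mem_Lb.2 h2, rfl⟩

theorem Lmap_le_Cb : (Lmap : Subgroup (SLn F m)) ≤ Cb := fun _ hx => mem_Cb.2 (mem_Lmap.1 hx).1

/-- the involution `diag(-1,…,-1,1)` -/
def t0 (hm : Even m) : SLn F m := ⟨dg (-1) 1, by rw [dg_det, hm.neg_one_pow, one_mul]⟩

theorem t0_coe (hm : Even m) : (t0 hm : SLn F m).1 = dg (-1) 1 := rfl

theorem t0_mem_Lmap (hm : Even m) : (t0 hm : SLn F m) ∈ (Lmap : Subgroup (SLn F m)) := by
  rw [mem_Lmap, t0_coe]
  refine ⟨IsDg.isBlk ⟨_, _, rfl⟩, ?_⟩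
  unfold dg
  simp

theorem centralizer_t0 (hm : Even m) (h2 : (-1 : F) ≠ 1) :
    Subgroup.centralizer {(t0 hm : SLn F m)} = Cb := by
  ext x
  rw [Subgroup.mem_centralizer_iff]
  simp only [Set.mem_singleton_iff, forall_eq]
  rw [← commSub_dg h2, mem_commSub]
  constructor
  · intro h
    have := congrArg Subtype.val h
    simpa [t0_coe] using this.symm
  · intro h
    apply Subtype.ext
    simpa [t0_coe] using h.symm

/-- the centralizer of `Lmap` -/
def Kc : Subgroup (SLn F m) := Subgroup.centralizer ((Lmap : Subgroup (SLn F m)) : Set (SLn F m))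

theorem mem_Kc (hm : Even m) (h2 : (-1 : F) ≠ 1) {x : SLn F m} :
    x ∈ (Kc : Subgroup (SLn F m)) ↔ IsDg x.1 := by
  constructor
  · intro hx
    have hxC : x ∈ (Cb : Subgroup (SLn F m)) := by
      rw [← centralizer_t0 hm h2, Subgroup.mem_centralizer_iff]
      simp only [Set.mem_singleton_iff, forall_eq]
      exact (Subgroup.mem_centralizer_iff.1 hx) _ (t0_mem_Lmap hm)
    have : (⟨x, hxC⟩ : ↥(Cb : Subgroup (SLn F m))) ∈
        Subgroup.centralizer ((Lb : Subgroup ↥(Cb : Subgroup (SLn F m))) : Set ↥(Cb : Subgroup (SLn F m))) := by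
      rw [Subgroup.mem_centralizer_iff]
      intro y hy
      apply Subtype.ext
      exact (Subgroup.mem_centralizer_iff.1 hx) y.1 ⟨y, hy, rfl⟩
    exact isDg_of_mem_centralizer_Lb this
  · rintro ⟨a, b, hab⟩
    unfold Kc
    rw [Subgroup.mem_centralizer_iff]
    intro y hy
    apply Subtype.ext
    rw [Matrix.SpecialLinearGroup.coe_mul, Matrix.SpecialLinearGroup.coe_mul, hab]
    exact isBlk_comm_dg (mem_Lmap.1 hy).1 a b

theorem Kc_le_Cb (hm : Even m) (h2 : (-1 : F) ≠ 1) : (Kc : Subgroup (SLn F m)) ≤ Cb :=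
  fun _ hx => mem_Cb.2 ((mem_Kc hm h2).1 hx).isBlk

theorem Kc_comm (hm : Even m) (h2 : (-1 : F) ≠ 1) {x y : SLn F m} (hx : x ∈ (Kc : Subgroup (SLn F m)))
    (hy : y ∈ (Kc : Subgroup (SLn F m))) : x * y = y * x := by
  apply Subtype.ext
  rw [Matrix.SpecialLinearGroup.coe_mul, Matrix.SpecialLinearGroup.coe_mul]
  exact ((mem_Kc hm h2).1 hx).comm ((mem_Kc hm h2).1 hy)

theorem Cb_comm_Kc (hm : Even m) (h2 : (-1 : F) ≠ 1) {g k : SLn F m} (hg : g ∈ (Cb : Subgroup (SLn F m)))
    (hk : k ∈ (Kc : Subgroup (SLn F m))) : g * k = k * g := by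
  obtain ⟨a, b, hab⟩ := (mem_Kc hm h2).1 hk
  apply Subtype.ext
  rw [Matrix.SpecialLinearGroup.coe_mul, Matrix.SpecialLinearGroup.coe_mul, hab]
  exact isBlk_comm_dg (mem_Cb.1 hg) a b

/-- the only involution of `Kc` is `t0` -/
theorem eq_t0_of_mem_Kc (hm : Even m) (h1 : 1 ≤ m) (h2 : (-1 : F) ≠ 1) {x : SLn F m}
    (hx : x ∈ (Kc : Subgroup (SLn F m))) (hsq : x * x = 1) (hne : x ≠ 1) : x = t0 hm := by
  obtain ⟨a, b, hab⟩ := (mem_Kc hm h2).1 hx
  have hsq' : (dg a b : Matrix (Fin (m+1)) (Fin (m+1)) F) * dg a b = dg 1 1 := by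
    rw [dg_one_one, ← hab, ← Matrix.SpecialLinearGroup.coe_mul, hsq, Matrix.SpecialLinearGroup.coe_one]
  rw [dg_mul_dg] at hsq'
  obtain ⟨ha, hb⟩ := dg_injective h1 hsq'
  have hdet : a ^ m * b = 1 := by
    rw [← dg_det, ← hab]; exact x.2
  have ham : a ^ m = 1 := by
    obtain ⟨k, hk⟩ := hm
    rw [hk, ← two_mul, pow_mul, pow_two, ha, one_pow]
  rw [ham, one_mul] at hdet
  have ha' : a = 1 ∨ a = -1 := mul_self_eq_one_iff.1 ha
  rcases ha' with ha' | ha'
  · exfalso
    apply hne
    apply Subtype.ext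
    rw [hab, ha', hdet, dg_one_one, Matrix.SpecialLinearGroup.coe_one]
  · apply Subtype.ext
    rw [hab, ha', hdet]; rfl


theorem layer_Cb [Finite F] (h3 : 3 ≤ m) :
    Cfsg.layer ↥(Cb : Subgroup (SLn F m)) = Lb := by
  apply le_antisymm
  · unfold Cfsg.layer
    apply sSup_le
    intro K' hK'
    by_contra hnle
    have hne : K' ≠ Lb := fun h => hnle (h ▸ le_rfl)
    have hc := Cfsg.Agent.Lib.Helper21_Components.IsComponent.commutator_eq_bot_of_ne hK' (isComponent_Lb h3) hne
    rw [Subgroup.commutator_eq_bot_iff_le_centralizer] at hc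
    have hcomm : ∀ x y : ↥K', x * y = y * x := by
      intro x y
      have hx' := isDg_of_mem_centralizer_Lb (hc x.2)
      have hy' := isDg_of_mem_centralizer_Lb (hc y.2)
      apply Subtype.ext
      apply Subtype.ext
      apply Subtype.ext
      exact hx'.comm hy'
    exact Cfsg.Agent.Lib.Helper29_Local.IsQuasisimple.not_isSolvable hK'.2 (Group.isSolvable_of_comm hcomm)
  · exact Cfsg.Agent.Lib.Helper29_Local.IsComponent.le_layer (isComponent_Lb h3)

theorem isQuasisimple_Lmap (h3 : 3 ≤ m) : IsQuasisimple ↥(Lmap : Subgroup (SLn F m)) :=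
  Cfsg.Agent.Lib.Helper29_Local.isQuasisimple_of_mulEquiv
    (Subgroup.equivMapOfInjective Lb (Cb : Subgroup (SLn F m)).subtype (Subgroup.subtype_injective _))
    (isQuasisimple_Lb h3)

theorem Cb_le_normalizer_Lmap : (Cb : Subgroup (SLn F m)) ≤ Subgroup.normalizer ((Lmap : Subgroup (SLn F m)) : Set (SLn F m)) := by
  have : ((Lmap : Subgroup (SLn F m)).subgroupOf Cb).Normal := by
    have : (Lmap : Subgroup (SLn F m)).subgroupOf Cb = Lb := by
      unfold Lmap
      ext x
      rw [Subgroup.mem_subgroupOf]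
      constructor
      · rintro ⟨y, hy, hyx⟩
        have : y = x := Subtype.ext hyx
        exact this ▸ hy
      · intro hx
        exact ⟨x, hx, rfl⟩
    rw [this]; infer_instance
  exact Subgroup.le_normalizer_of_normal_subgroupOf Lmap_le_Cb

theorem Cb_le_normalizer_Kc (hm : Even m) (h2 : (-1 : F) ≠ 1) :
    (Cb : Subgroup (SLn F m)) ≤ Subgroup.normalizer ((Kc : Subgroup (SLn F m)) : Set (SLn F m)) := by
  intro g hg
  rw [Subgroup.mem_normalizer_iff]
  intro k
  constructor
  · intro hk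
    have : g * k * g⁻¹ = k := by rw [Cb_comm_Kc hm h2 hg hk, mul_inv_cancel_right]
    rw [this]; exact hk
  · intro hk
    have h1 := Cb_comm_Kc hm h2 (inv_mem hg) hk
    have : k = g * k * g⁻¹ := by
      calc k = g⁻¹ * (g * k * g⁻¹) * g := by group
        _ = (g * k * g⁻¹) * g⁻¹ * g := by rw [h1]
        _ = g * k * g⁻¹ := by group
    rw [this]; exact hk

theorem normalizer_Kc_le_Cb (hm : Even m) (h1 : 1 ≤ m) (h2 : (-1 : F) ≠ 1) :
    Subgroup.normalizer ((Kc : Subgroup (SLn F m)) : Set (SLn F m)) ≤ Cb := by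
  intro g hg
  rw [Subgroup.mem_normalizer_iff] at hg
  have ht : (t0 hm : SLn F m) ∈ (Kc : Subgroup (SLn F m)) := (mem_Kc hm h2).2 ⟨_, _, rfl⟩
  have hsq : (t0 hm : SLn F m) * t0 hm = 1 := by
    apply Subtype.ext
    rw [Matrix.SpecialLinearGroup.coe_mul, t0_coe, dg_mul_dg]
    simp [dg_one_one]
  have hne : (t0 hm : SLn F m) ≠ 1 := by
    intro h
    have := congrArg Subtype.val h
    rw [t0_coe, Matrix.SpecialLinearGroup.coe_one, ← dg_one_one] at this
    exact h2 (dg_injective h1 this).1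
  have h3 := (hg _).1 ht
  have h4 : g * t0 hm * g⁻¹ = t0 hm := by
    apply eq_t0_of_mem_Kc hm h1 h2 h3
    · calc g * t0 hm * g⁻¹ * (g * t0 hm * g⁻¹) = g * (t0 hm * t0 hm) * g⁻¹ := by group
        _ = 1 := by rw [hsq]; group
    · intro h
      apply hne
      calc t0 hm = g⁻¹ * (g * t0 hm * g⁻¹) * g := by group
        _ = 1 := by rw [h]; group
  rw [← centralizer_t0 hm h2, Subgroup.mem_centralizer_iff]
  simp only [Set.mem_singleton_iff, forall_eq]
  calc t0 hm * g = (g * t0 hm * g⁻¹) * g := by rw [h4]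
    _ = g * t0 hm := by group

theorem normalizer_Lmap_le_normalizer_Kc :
    Subgroup.normalizer ((Lmap : Subgroup (SLn F m)) : Set (SLn F m)) ≤
      Subgroup.normalizer ((Kc : Subgroup (SLn F m)) : Set (SLn F m)) := by
  intro g hg
  rw [Subgroup.mem_normalizer_iff] at hg ⊢
  have key : ∀ (g : SLn F m), (∀ h, h ∈ (Lmap : Subgroup (SLn F m)) ↔ g * h * g⁻¹ ∈ (Lmap : Subgroup (SLn F m))) →
      ∀ k, k ∈ (Kc : Subgroup (SLn F m)) → g * k * g⁻¹ ∈ (Kc : Subgroup (SLn F m)) := by
    intro g hg k hk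
    unfold Kc at hk ⊢
    rw [Subgroup.mem_centralizer_iff] at hk ⊢
    intro y hy
    have hy' : g⁻¹ * y * g ∈ (Lmap : Subgroup (SLn F m)) := by
      have e : g * (g⁻¹ * y * g) * g⁻¹ = y := by group
      rw [hg, e]; exact hy
    have := hk _ hy'
    calc y * (g * k * g⁻¹) = g * ((g⁻¹ * y * g) * k) * g⁻¹ := by group
      _ = g * (k * (g⁻¹ * y * g)) * g⁻¹ := by rw [this]
      _ = g * k * g⁻¹ * y := by group
  intro k
  constructor
  · exact key g hg k
  · intro hk
    have hg' : ∀ h, h ∈ (Lmap : Subgroup (SLn F m)) ↔ g⁻¹ * h * g⁻¹⁻¹ ∈ (Lmap : Subgroup (SLn F m)) := by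
      intro h
      have e : g * (g⁻¹ * h * g⁻¹⁻¹) * g⁻¹ = h := by group
      rw [hg (g⁻¹ * h * g⁻¹⁻¹), e]
    have := key g⁻¹ hg' _ hk
    have e : g⁻¹ * (g * k * g⁻¹) * g⁻¹⁻¹ = k := by group
    rw [e] at this; exact this


theorem t0_sq (hm : Even m) : (t0 hm : SLn F m) * t0 hm = 1 := by
  apply Subtype.ext
  rw [Matrix.SpecialLinearGroup.coe_mul, t0_coe, dg_mul_dg]
  simp [dg_one_one]

theorem t0_ne_one (hm : Even m) (h1 : 1 ≤ m) (h2 : (-1 : F) ≠ 1) : (t0 hm : SLn F m) ≠ 1 := by
  intro h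
  have := congrArg Subtype.val h
  rw [t0_coe, Matrix.SpecialLinearGroup.coe_one, ← dg_one_one] at this
  exact h2 (dg_injective h1 this).1

theorem t0_mem_Kc (hm : Even m) (h2 : (-1 : F) ≠ 1) : (t0 hm : SLn F m) ∈ (Kc : Subgroup (SLn F m)) :=
  (mem_Kc hm h2).2 ⟨_, _, rfl⟩

theorem isStandardSubgroup_Lmap [Finite F] (hm : Even m) (h3 : 3 ≤ m) (h2 : (-1 : F) ≠ 1) :
    Cfsg.IsStandardSubgroup (Lmap : Subgroup (SLn F m)) := by
  have h1 : 1 ≤ m := by omega
  have hfact : Fact (Nat.Prime 2) := ⟨Nat.prime_two⟩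
  refine ⟨isQuasisimple_Lmap h3, ⟨?_, ?_⟩, ?_, ?_⟩
  · have ho : orderOf (t0 hm : SLn F m) = 2 :=
      orderOf_eq_prime (by rw [pow_two]; exact t0_sq hm) (t0_ne_one hm h1 h2)
    have := Subgroup.orderOf_dvd_natCard (Kc : Subgroup (SLn F m)) (t0_mem_Kc hm h2)
    rw [ho] at this
    exact even_iff_two_dvd.2 this
  · intro g hg
    by_contra hodd
    rw [Nat.not_odd_iff_even, even_iff_two_dvd] at hodd
    obtain ⟨y, hy⟩ := exists_prime_orderOf_dvd_card' 2 hodd
    apply hg
    have hy1 : (y : SLn F m) ∈ (Kc : Subgroup (SLn F m)) := y.2.1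
    obtain ⟨y', hy'K, hy'⟩ := y.2.2
    have hoy : orderOf (y : SLn F m) = 2 := by rw [Subgroup.orderOf_coe]; exact hy
    have hsq : (y : SLn F m) * y = 1 := by
      rw [← pow_two, ← hoy]; exact pow_orderOf_eq_one _
    have hne : (y : SLn F m) ≠ 1 := by
      intro h
      rw [h, orderOf_one] at hoy
      omega
    have e1 : (y : SLn F m) = t0 hm := eq_t0_of_mem_Kc hm h1 h2 hy1 hsq hne
    have hy'' : g * y' * g⁻¹ = (y : SLn F m) := hy'
    have e2 : y' = t0 hm := by
      apply eq_t0_of_mem_Kc hm h1 h2 hy'K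
      · calc y' * y' = g⁻¹ * ((g * y' * g⁻¹) * (g * y' * g⁻¹)) * g := by group
          _ = 1 := by rw [hy'', hsq]; group
      · intro h
        apply hne
        rw [← hy'', h]; group
    have hgC : g ∈ (Cb : Subgroup (SLn F m)) := by
      rw [← centralizer_t0 hm h2, Subgroup.mem_centralizer_iff]
      simp only [Set.mem_singleton_iff, forall_eq]
      calc t0 hm * g = (g * y' * g⁻¹) * g := by rw [hy'', e1]
        _ = g * t0 hm := by rw [e2]; group
    exact Cb_le_normalizer_Kc hm h2 hgC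
  · intro g _ hbot
    rw [Subgroup.commutator_eq_bot_iff_le_centralizer] at hbot
    have hsub : ∀ x ∈ (Lmap : Subgroup (SLn F m)), g * x * g⁻¹ ∈ (Kc : Subgroup (SLn F m)) := by
      intro x hx
      unfold Kc
      rw [Subgroup.mem_centralizer_iff]
      intro z hz
      have hmem : g * x * g⁻¹ ∈ ((Lmap : Subgroup (SLn F m)).map (MulAut.conj g).toMonoidHom) :=
        ⟨x, hx, rfl⟩
      exact ((Subgroup.mem_centralizer_iff.1 (hbot hz)) _ hmem).symm
    have hcomm : ∀ x y : ↥(Lmap : Subgroup (SLn F m)), x * y = y * x := by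
      intro x y
      apply Subtype.ext
      have := Kc_comm hm h2 (hsub x x.2) (hsub y y.2)
      calc (x : SLn F m) * y = g⁻¹ * ((g * x * g⁻¹) * (g * y * g⁻¹)) * g := by group
        _ = g⁻¹ * ((g * y * g⁻¹) * (g * x * g⁻¹)) * g := by rw [this]
        _ = y * x := by group
    exact Cfsg.Agent.Lib.Helper29_Local.IsQuasisimple.not_isSolvable (isQuasisimple_Lmap h3)
      (Group.isSolvable_of_comm hcomm)
  · apply le_antisymm
    · exact normalizer_Lmap_le_normalizer_Kc
    · exact (normalizer_Kc_le_Cb hm h1 h2).trans Cb_le_normalizer_Lmap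

end SL

end Cfsg.Agent.Lib.Helper90_BlockSL
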