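import Mathlib
import Cfsg.Agent.Lib.Helper90_CodeTable

/-!
# Distinctness of a table of codes through a sorted copy (helper90)

`Ts` is a strictly increasing table of normal forms and `inv k` is the index of `Ts k` in the table
`T`; then the entries of `T` are pairwise distinct.
-/

set_option autoImplicit false

namespace Cfsg.Agent.Lib.Helper90_CodeSorted

open Cfsg.Agent.Lib.Helper90_CodeTable

/-- Check at `k`: `Ts k` is a normal form, `Ts k < Ts (k + 1)` (if `k + 1 < n`), `inv k < n` and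
`T (inv k) = Ts k`. -/
def chkSorted (norm : ℕ → ℕ) (T Ts inv : ℕ → ℕ) (n k : ℕ) : Bool :=
  force (Ts k) fun s => force (inv k) fun i =>
    and (Nat.beq (norm s) s) (and (Nat.blt i n) (and (Nat.beq (T i) s)
      (or (Nat.ble n (Nat.add k 1)) (Nat.blt s (Ts (Nat.add k 1))))))

theorem chkSorted_spec {norm : ℕ → ℕ} {T Ts inv : ℕ → ℕ} {n k : ℕ}
    (h : chkSorted norm T Ts inv n k = true) :
    norm (Ts k) = Ts k ∧ inv k < n ∧ T (inv k) = Ts k ∧ (k + 1 < n → Ts k < Ts (k + 1)) := by
  unfold chkSorted at h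
  simp only [force_eq, Bool.and_eq_true, Bool.or_eq_true] at h
  obtain ⟨h1, h2, h3, h4⟩ := h
  refine ⟨Nat.eq_of_beq_eq_true h1, by simpa using h2, Nat.eq_of_beq_eq_true h3, ?_⟩
  intro hk
  rcases h4 with h4 | h4
  · have : n ≤ k + 1 := Nat.le_of_ble_eq_true h4
    omega
  · simpa using h4

theorem strictMono_of_succ {Ts : ℕ → ℕ} {n : ℕ} (h : ∀ k, k + 1 < n → Ts k < Ts (k + 1)) :
    ∀ a b, a < b → b < n → Ts a < Ts b := by
  intro a b hab hb
  induction b with
  | zero => omega
  | succ b ih =>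
    rcases Nat.lt_succ_iff_lt_or_eq.mp hab with h1 | h1
    · exact lt_trans (ih h1 (by omega)) (h b hb)
    · subst h1
      exact h a hb

/-- The entries of `T` are pairwise distinct. -/
theorem sorted_spec {M : Type*} {toM : ℕ → M} {norm : ℕ → ℕ}
    (hnorm : ∀ a b, toM a = toM b → norm a = norm b) {T Ts inv : ℕ → ℕ} {n : ℕ}
    (h : allLt n (chkSorted norm T Ts inv n) = true) :
    ∀ i < n, ∀ j < n, toM (T i) = toM (T j) → i = j := by
  have hs := fun k hk => chkSorted_spec (allLt_spec h k hk)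
  have hmono := strictMono_of_succ (n := n) (Ts := Ts) (fun k hk => (hs k (by omega)).2.2.2 hk)
  have hinj : ∀ a < n, ∀ b < n, Ts a = Ts b → a = b := by
    intro a ha b hb hab
    rcases lt_trichotomy a b with h1 | h1 | h1
    · exact absurd hab (ne_of_lt (hmono a b h1 hb))
    · exact h1
    · exact absurd hab.symm (ne_of_lt (hmono b a h1 ha))
  -- `inv` is a bijection of `Fin n`
  let f : Fin n → Fin n := fun k => ⟨inv k, (hs k k.2).2.1⟩
  have hf : Function.Injective f := by
    intro a b hab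
    have e : inv a = inv b := congrArg Fin.val hab
    apply Fin.ext
    apply hinj a a.2 b b.2
    rw [← (hs a a.2).2.2.1, ← (hs b b.2).2.2.1, e]
  have hsurj : Function.Surjective f := Finite.injective_iff_surjective.mp hf
  intro i hi j hj heq
  obtain ⟨a, ha⟩ := hsurj ⟨i, hi⟩
  obtain ⟨b, hb⟩ := hsurj ⟨j, hj⟩
  have ea : inv a = i := congrArg Fin.val ha
  have eb : inv b = j := congrArg Fin.val hb
  have h1 : T i = Ts a := by rw [← ea]; exact (hs a a.2).2.2.1
  have h2 : T j = Ts b := by rw [← eb]; exact (hs b b.2).2.2.1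
  have h3 := hnorm _ _ heq
  rw [h1, h2, (hs a a.2).1, (hs b b.2).1] at h3
  have h4 : (a : ℕ) = b := hinj a a.2 b b.2 h3
  rw [← ea, ← eb, h4]

end Cfsg.Agent.Lib.Helper90_CodeSorted
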