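import Mathlib
import Cfsg.Prelude.Def_Characters
import Cfsg.Prelude.Def_ParabolicCharacters
import Cfsg.Prelude.Def_LieTypes
import Cfsg.Prelude.Def_ChevB2
import Cfsg.Agent.Lib.Helper40_DefZeroDefs
import Cfsg.Agent.Lib.Helper40_ChevDZDefs
import Cfsg.Agent.S1045

/-!
# defzero wave 3, package CHUPROD (helper90): `U = X_{p_i} U_{p_i}` inside the Chevalley group.
-/

set_option autoImplicit false
open Cfsg Cfsg.Lie Cfsg.Agent.Lib.Helper40_DefZeroDefs Cfsg.Agent.Lib.Helper40_ChevDZDefs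

namespace Cfsg.Agent.Lib.Helper90_DZ_CHUPROD

/-- a sup with one factor normalising the other is the set of products -/
theorem exists_mul_of_mem_sup_aux {G : Type*} [Group G] (N A : Subgroup G)
    (hA : A ≤ Subgroup.normalizer (N : Set G)) {g : G} (hg : g ∈ N ⊔ A) :
    ∃ y ∈ N, ∃ a ∈ A, g = y * a := by
  rw [Subgroup.sup_eq_closure] at hg
  induction hg using Subgroup.closure_induction with
  | mem x hx =>
    rcases hx with hx | hx
    · exact ⟨x, hx, 1, Subgroup.one_mem _, by rw [mul_one]⟩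
    · exact ⟨1, Subgroup.one_mem _, x, hx, by rw [one_mul]⟩
  | one => exact ⟨1, Subgroup.one_mem _, 1, Subgroup.one_mem _, by rw [mul_one]⟩
  | mul x y _ _ ihx ihy =>
    obtain ⟨y1, hy1, a1, ha1, rfl⟩ := ihx
    obtain ⟨y2, hy2, a2, ha2, rfl⟩ := ihy
    have h1 := (Subgroup.mem_normalizer_iff.mp (hA ha1) y2).mp hy2
    exact ⟨y1 * (a1 * y2 * a1⁻¹), Subgroup.mul_mem _ hy1 h1, a1 * a2,
      Subgroup.mul_mem _ ha1 ha2, by group⟩
  | inv x _ ih =>
    obtain ⟨y, hy, a, ha, rfl⟩ := ih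
    have h1 := (Subgroup.mem_normalizer_iff.mp (hA (Subgroup.inv_mem _ ha)) y⁻¹).mp
      (Subgroup.inv_mem _ hy)
    exact ⟨a⁻¹ * y⁻¹ * a⁻¹⁻¹, h1, a⁻¹, Subgroup.inv_mem _ ha, by group⟩

/-- every root element lies in the Chevalley group -/
theorem x_mem_group_aux {F : Type*} [Field F] (D : ChevalleyDatum) (g : GL D.Idx F) (r : ℕ) (t : F)
    (hg : (g : Matrix D.Idx D.Idx F) = D.x F r t) : g ∈ D.group F := by
  unfold ChevalleyDatum.x at hg
  by_cases h : r < D.nroots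
  · rw [dif_pos h] at hg
    exact Subgroup.subset_closure ⟨⟨r, h⟩, t, hg⟩
  · rw [dif_neg h] at hg
    have : g = 1 := Units.ext hg
    rw [this]
    exact Subgroup.one_mem _

theorem rootSubgroup_le_group_aux {F : Type*} [Field F] (D : ChevalleyDatum) (r : ℕ) :
    D.rootSubgroup F r ≤ D.group F := by
  unfold ChevalleyDatum.rootSubgroup
  rw [Subgroup.closure_le]
  rintro g ⟨t, hg⟩
  exact x_mem_group_aux D g r t hg

theorem up_le_group_aux {F : Type*} [Field F] (D : ChevalleyDatum) (i : ℕ) :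
    Subgroup.closure {g : GL D.Idx F | ∃ (s : ℕ) (t : F), D.IsPosRoot s ∧ s ≠ D.simple i ∧
      (g : Matrix D.Idx D.Idx F) = D.x F s t} ≤ D.group F := by
  rw [Subgroup.closure_le]
  rintro g ⟨s, t, _, _, hg⟩
  exact x_mem_group_aux D g s t hg

variable {F : Type*} [Field F] (D : ChevalleyDatum)
  (hD : D ∈ [chevG2, chevB2, chevD4, chevF4, chevE6, chevE7, chevE8])
include hD

theorem ch_U_prod (i : ℕ) (hi : i < D.rank) :
    ∀ u ∈ cU D F, ∃ x ∈ cX D F i, ∃ v ∈ cUa D F i, u = x * v := by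
  intro u hu
  obtain ⟨hnorm, hsup⟩ := Cfsg.Agent.S1045.result (F := F) D hD i hi
  have hXn : D.rootSubgroup F (D.simple i) ≤ Subgroup.normalizer
      (Subgroup.closure {g : GL D.Idx F | ∃ (s : ℕ) (t : F), D.IsPosRoot s ∧ s ≠ D.simple i ∧
          (g : Matrix D.Idx D.Idx F) = D.x F s t} : Set (GL D.Idx F)) := le_sup_left.trans hnorm
  have hu' : (u : GL D.Idx F) ∈ D.posUnipotent F := hu
  rw [← hsup] at hu'
  obtain ⟨v, hv, x, hx, huvx⟩ := exists_mul_of_mem_sup_aux _ _ hXn hu'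
  -- `u = v x = x (x⁻¹ v x)`
  have hv' : x⁻¹ * v * x⁻¹⁻¹ ∈ Subgroup.closure {g : GL D.Idx F | ∃ (s : ℕ) (t : F),
      D.IsPosRoot s ∧ s ≠ D.simple i ∧ (g : Matrix D.Idx D.Idx F) = D.x F s t} :=
    (Subgroup.mem_normalizer_iff.mp (hXn (Subgroup.inv_mem _ hx)) v).mp hv
  have hxG : x ∈ D.group F := rootSubgroup_le_group_aux D _ hx
  have hvG : x⁻¹ * v * x⁻¹⁻¹ ∈ D.group F := up_le_group_aux D i hv'
  refine ⟨⟨x, hxG⟩, ?_, ⟨x⁻¹ * v * x⁻¹⁻¹, hvG⟩, ?_, ?_⟩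
  · exact hx
  · exact hv'
  · apply Subtype.ext
    change (u : GL D.Idx F) = x * (x⁻¹ * v * x⁻¹⁻¹)
    rw [huvx]
    group

end Cfsg.Agent.Lib.Helper90_DZ_CHUPROD
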