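import Mathlib
import Cfsg.Prelude.Def_Characters
import Cfsg.Prelude.Def_ParabolicCharacters
import Cfsg.Prelude.Def_LinearParabolics
import Cfsg.Prelude.Def_Blocks
import Cfsg.Prelude.Def_Solvable
import Cfsg.Agent.Lib.Helper40_DefZeroDefs
import Cfsg.Agent.Lib.Helper40_SLBNDefs
import Cfsg.Agent.Lib.Helper40_SLBNDefs2

/-!
# defzero market, package SLCOVER (helper90): `P_a = B ∪ U n_a B` in `SL_n(F)`

Also the elementary matrices `tv`, the element `nn a` and their basic properties, reused by SLBRUHAT.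
-/

set_option autoImplicit false
open Cfsg Cfsg.Agent.Lib.Helper40_DefZeroDefs Cfsg.Agent.Lib.Helper40_SLBNDefs
open Matrix
open scoped MatrixGroups

namespace Cfsg.Agent.Lib.Helper90_DZ_SLCOVER

variable {n : ℕ} {F : Type*} [Field F]

/-- the transvection as an element of `SL_n(F)` -/
def tv (i j : Fin n) (h : i ≠ j) (t : F) : SpecialLinearGroup (Fin n) F :=
  ⟨Matrix.transvection i j t, Matrix.det_transvection_of_ne i j h t⟩

theorem tv_coe (i j : Fin n) (h : i ≠ j) (t : F) :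
    ((tv i j h t : SpecialLinearGroup (Fin n) F) : Matrix (Fin n) (Fin n) F) =
      Matrix.transvection i j t := rfl

theorem coe_mul' (a b : SpecialLinearGroup (Fin n) F) :
    ((a * b : SpecialLinearGroup (Fin n) F) : Matrix (Fin n) (Fin n) F) =
      (a : Matrix (Fin n) (Fin n) F) * (b : Matrix (Fin n) (Fin n) F) := rfl

theorem tv_mul_tv (i j : Fin n) (h : i ≠ j) (s t : F) :
    tv i j h s * tv i j h t = tv i j h (s + t) := by
  apply Matrix.SpecialLinearGroup.ext
  intro k l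
  rw [coe_mul', tv_coe, tv_coe, tv_coe, Matrix.transvection_mul_transvection_same i j h]

theorem tv_zero (i j : Fin n) (h : i ≠ j) : tv i j h (0 : F) = 1 := by
  apply Matrix.SpecialLinearGroup.ext
  intro k l
  rw [tv_coe, Matrix.transvection_zero]
  rfl

theorem tv_mul_neg (i j : Fin n) (h : i ≠ j) (t : F) : tv i j h t * tv i j h (-t) = 1 := by
  rw [tv_mul_tv, add_neg_cancel, tv_zero]

theorem tv_neg_mul (i j : Fin n) (h : i ≠ j) (t : F) : tv i j h (-t) * tv i j h t = 1 := by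
  rw [tv_mul_tv, neg_add_cancel, tv_zero]

/-- rows other than `i` are unchanged -/
theorem tv_mul_apply_ne (i j : Fin n) (h : i ≠ j) (t : F) (g : SpecialLinearGroup (Fin n) F)
    (k l : Fin n) (hk : k ≠ i) :
    ((tv i j h t * g : SpecialLinearGroup (Fin n) F) : Matrix (Fin n) (Fin n) F) k l =
      (g : Matrix (Fin n) (Fin n) F) k l := by
  rw [coe_mul', tv_coe, Matrix.transvection_mul_apply_of_ne _ _ _ _ hk]

/-- the row `i` -/
theorem tv_mul_apply_same (i j : Fin n) (h : i ≠ j) (t : F) (g : SpecialLinearGroup (Fin n) F)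
    (l : Fin n) :
    ((tv i j h t * g : SpecialLinearGroup (Fin n) F) : Matrix (Fin n) (Fin n) F) i l =
      (g : Matrix (Fin n) (Fin n) F) i l + t * (g : Matrix (Fin n) (Fin n) F) j l := by
  rw [coe_mul', tv_coe, Matrix.transvection_mul_apply_same]

/-- a transvection is block triangular as soon as the label of `j` is at least that of `i` -/
theorem tv_mem_PL (l : Fin n → ℕ) (i j : Fin n) (h : i ≠ j) (t : F) (hl : l i ≤ l j) :
    tv i j h t ∈ PL F l := by
  rw [mem_PL, tv_coe]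
  intro r s hrs
  rw [Matrix.transvection, Matrix.add_apply, Matrix.one_apply_ne (fun e => by rw [e] at hrs; exact lt_irrefl _ hrs)]
  rw [zero_add]
  by_cases hr : r = i
  · by_cases hs : s = j
    · subst hr; subst hs; exact absurd hrs (not_lt.2 hl)
    · exact Matrix.single_apply_of_ne i j t r s (fun e => hs e.2.symm)
  · exact Matrix.single_apply_of_ne i j t r s (fun e => hr e.1.symm)

/-- a transvection is in `UL` as soon as the label of `j` is larger than that of `i` -/
theorem tv_mem_UL (l : Fin n → ℕ) (i j : Fin n) (h : i ≠ j) (t : F) (hl : l i < l j) :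
    tv i j h t ∈ UL F l := by
  rw [mem_UL, tv_coe]
  intro r s hrs
  rw [Matrix.transvection, add_sub_cancel_left]
  by_cases hr : r = i
  · by_cases hs : s = j
    · subst hr; subst hs; exact absurd hl (not_lt.2 hrs)
    · exact Matrix.single_apply_of_ne i j t r s (fun e => hs e.2.symm)
  · exact Matrix.single_apply_of_ne i j t r s (fun e => hr e.1.symm)

theorem grp_aux {G : Type*} [Group G] (x xi y yi : G) (h1 : x * xi = 1) (h2 : y * yi = 1) :
    x * y * x * (xi * yi * xi) = 1 := by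
  have e1 : xi = x⁻¹ := (inv_eq_of_mul_eq_one_right h1).symm
  have e2 : yi = y⁻¹ := (inv_eq_of_mul_eq_one_right h2).symm
  subst e1
  subst e2
  group

section pos

variable (a : ℕ) (ha : a + 1 < n)

/-- the position `a` -/
def i0 : Fin n := ⟨a, lt_trans (Nat.lt_succ_self a) ha⟩

/-- the position `a + 1` -/
def j0 : Fin n := ⟨a + 1, ha⟩

theorem i0_ne_j0 : i0 a ha ≠ j0 a ha := by
  intro h
  have := congrArg Fin.val h
  simp [i0, j0] at this

theorem la_i0 : la a (i0 a ha) = a := by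
  simp [la, i0]

theorem la_j0 : la a (j0 a ha) = a := by
  simp [la, j0]

/-- the labels `la a` of `s < r` are strictly increasing except at the positions `a`, `a + 1` -/
theorem la_lt_of_lt {r s : Fin n} (hsr : s < r) (hne : ¬ (s = i0 a ha ∧ r = j0 a ha)) :
    la a s < la a r := by
  have h1 : s.val < r.val := hsr
  unfold la
  by_cases hs : s.val ≤ a
  · by_cases hr : r.val ≤ a
    · rw [if_pos hs, if_pos hr]; exact h1
    · rw [if_pos hs, if_neg hr]
      by_contra hcon
      apply hne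
      constructor
      · apply Fin.ext; show s.val = a; omega
      · apply Fin.ext; show r.val = a + 1; omega
  · have hr : ¬ r.val ≤ a := by omega
    rw [if_neg hs, if_neg hr]
    omega

/-- an element of `P_a` with vanishing entry at `(a + 1, a)` is upper triangular -/
theorem mem_B_of_entry (g : SpecialLinearGroup (Fin n) F) (hg : g ∈ PL F (la a : Fin n → ℕ))
    (h0 : (g : Matrix (Fin n) (Fin n) F) (j0 a ha) (i0 a ha) = 0) :
    g ∈ PL F (lB : Fin n → ℕ) := by
  rw [mem_PL] at hg ⊢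
  intro r s hrs
  have hsr : s < r := hrs
  by_cases hne : s = i0 a ha ∧ r = j0 a ha
  · rw [hne.1, hne.2]; exact h0
  · exact hg (la_lt_of_lt a ha hsr hne)

/-- the upper root element -/
def X (t : F) : SpecialLinearGroup (Fin n) F := tv (i0 a ha) (j0 a ha) (i0_ne_j0 a ha) t

/-- the lower root element -/
def Y (t : F) : SpecialLinearGroup (Fin n) F := tv (j0 a ha) (i0 a ha) (i0_ne_j0 a ha).symm t

theorem X_mem_U (t : F) : (X a ha t : SpecialLinearGroup (Fin n) F) ∈ UL F (lB : Fin n → ℕ) :=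
  tv_mem_UL _ _ _ _ _ (by show a < a + 1; exact Nat.lt_succ_self a)

theorem X_mem_Pa (t : F) : (X a ha t : SpecialLinearGroup (Fin n) F) ∈ PL F (la a : Fin n → ℕ) :=
  tv_mem_PL _ _ _ _ _ (by rw [la_i0, la_j0])

theorem Y_mem_Pa (t : F) : (Y a ha t : SpecialLinearGroup (Fin n) F) ∈ PL F (la a : Fin n → ℕ) :=
  tv_mem_PL _ _ _ _ _ (by rw [la_i0, la_j0])

/-- the element `n_a`, equal to `[[0, 1], [-1, 0]]` at the positions `a`, `a + 1` -/
def nn : SpecialLinearGroup (Fin n) F := X a ha 1 * Y a ha (-1) * X a ha 1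

/-- its inverse -/
def nni : SpecialLinearGroup (Fin n) F := X a ha (-1) * Y a ha 1 * X a ha (-1)

theorem nn_mul_nni : (nn a ha : SpecialLinearGroup (Fin n) F) * nni a ha = 1 := by
  unfold nn nni X Y
  exact grp_aux _ _ _ _ (tv_mul_neg (i0 a ha) (j0 a ha) (i0_ne_j0 a ha) (1 : F))
    (tv_neg_mul (j0 a ha) (i0 a ha) (i0_ne_j0 a ha).symm (1 : F))

theorem nni_eq : (nni a ha : SpecialLinearGroup (Fin n) F) = (nn a ha)⁻¹ :=
  (inv_eq_of_mul_eq_one_right (nn_mul_nni a ha)).symm

theorem nn_mem_Pa : (nn a ha : SpecialLinearGroup (Fin n) F) ∈ PL F (la a : Fin n → ℕ) :=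
  Subgroup.mul_mem _ (Subgroup.mul_mem _ (X_mem_Pa a ha 1) (Y_mem_Pa a ha (-1))) (X_mem_Pa a ha 1)

theorem nni_mem_Pa : (nni a ha : SpecialLinearGroup (Fin n) F) ∈ PL F (la a : Fin n → ℕ) :=
  Subgroup.mul_mem _ (Subgroup.mul_mem _ (X_mem_Pa a ha (-1)) (Y_mem_Pa a ha 1)) (X_mem_Pa a ha (-1))

/-- the rows of `X t * g` -/
theorem X_mul_apply_i0 (t : F) (g : SpecialLinearGroup (Fin n) F) (l : Fin n) :
    ((X a ha t * g : SpecialLinearGroup (Fin n) F) : Matrix (Fin n) (Fin n) F) (i0 a ha) l =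
      (g : Matrix (Fin n) (Fin n) F) (i0 a ha) l + t * (g : Matrix (Fin n) (Fin n) F) (j0 a ha) l :=
  tv_mul_apply_same _ _ _ _ _ _

theorem X_mul_apply_ne (t : F) (g : SpecialLinearGroup (Fin n) F) (k l : Fin n)
    (hk : k ≠ i0 a ha) :
    ((X a ha t * g : SpecialLinearGroup (Fin n) F) : Matrix (Fin n) (Fin n) F) k l =
      (g : Matrix (Fin n) (Fin n) F) k l :=
  tv_mul_apply_ne _ _ _ _ _ _ _ hk

/-- the rows of `Y t * g` -/
theorem Y_mul_apply_j0 (t : F) (g : SpecialLinearGroup (Fin n) F) (l : Fin n) :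
    ((Y a ha t * g : SpecialLinearGroup (Fin n) F) : Matrix (Fin n) (Fin n) F) (j0 a ha) l =
      (g : Matrix (Fin n) (Fin n) F) (j0 a ha) l + t * (g : Matrix (Fin n) (Fin n) F) (i0 a ha) l :=
  tv_mul_apply_same _ _ _ _ _ _

theorem Y_mul_apply_ne (t : F) (g : SpecialLinearGroup (Fin n) F) (k l : Fin n)
    (hk : k ≠ j0 a ha) :
    ((Y a ha t * g : SpecialLinearGroup (Fin n) F) : Matrix (Fin n) (Fin n) F) k l =
      (g : Matrix (Fin n) (Fin n) F) k l :=
  tv_mul_apply_ne _ _ _ _ _ _ _ hk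

/-- the row `a + 1` of `n_a⁻¹ g` is the row `a` of `g` -/
theorem nni_mul_apply_j0 (g : SpecialLinearGroup (Fin n) F) (l : Fin n) :
    ((nni a ha * g : SpecialLinearGroup (Fin n) F) : Matrix (Fin n) (Fin n) F) (j0 a ha) l =
      (g : Matrix (Fin n) (Fin n) F) (i0 a ha) l := by
  unfold nni
  rw [mul_assoc, mul_assoc, X_mul_apply_ne a ha _ _ _ _ (i0_ne_j0 a ha).symm, Y_mul_apply_j0,
    X_mul_apply_ne a ha _ _ _ _ (i0_ne_j0 a ha).symm, X_mul_apply_i0]
  ring

/-- the row `a` of `n_a⁻¹ g` is minus the row `a + 1` of `g` -/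
theorem nni_mul_apply_i0 (g : SpecialLinearGroup (Fin n) F) (l : Fin n) :
    ((nni a ha * g : SpecialLinearGroup (Fin n) F) : Matrix (Fin n) (Fin n) F) (i0 a ha) l =
      -(g : Matrix (Fin n) (Fin n) F) (j0 a ha) l := by
  unfold nni
  rw [mul_assoc, mul_assoc, X_mul_apply_i0, Y_mul_apply_ne a ha _ _ _ _ (i0_ne_j0 a ha),
    Y_mul_apply_j0, X_mul_apply_i0, X_mul_apply_ne a ha _ _ _ _ (i0_ne_j0 a ha).symm]
  ring

/-- the other rows of `n_a⁻¹ g` are those of `g` -/
theorem nni_mul_apply_ne (g : SpecialLinearGroup (Fin n) F) (k l : Fin n) (hi : k ≠ i0 a ha)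
    (hj : k ≠ j0 a ha) :
    ((nni a ha * g : SpecialLinearGroup (Fin n) F) : Matrix (Fin n) (Fin n) F) k l =
      (g : Matrix (Fin n) (Fin n) F) k l := by
  unfold nni
  rw [mul_assoc, mul_assoc, X_mul_apply_ne a ha _ _ _ _ hi, Y_mul_apply_ne a ha _ _ _ _ hj,
    X_mul_apply_ne a ha _ _ _ _ hi]

end pos

/-- SLCOVER -/
theorem sl_cover (a : ℕ) (ha : a + 1 < n) :
    ∃ nn ∈ PL F (la a : Fin n → ℕ), ∀ g ∈ PL F (la a : Fin n → ℕ),
      g ∈ PL F (lB : Fin n → ℕ) ∨
        ∃ u ∈ UL F (lB : Fin n → ℕ), ∃ b ∈ PL F (lB : Fin n → ℕ), g = u * nn * b := by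
  refine ⟨nn a ha, nn_mem_Pa a ha, ?_⟩
  intro g hg
  by_cases hc : (g : Matrix (Fin n) (Fin n) F) (j0 a ha) (i0 a ha) = 0
  · exact Or.inl (mem_B_of_entry a ha g hg hc)
  · right
    set c := (g : Matrix (Fin n) (Fin n) F) (j0 a ha) (i0 a ha) with hcdef
    set t := (g : Matrix (Fin n) (Fin n) F) (i0 a ha) (i0 a ha) / c with ht
    refine ⟨X a ha t, X_mem_U a ha t, nni a ha * (X a ha (-t) * g), ?_, ?_⟩
    · apply mem_B_of_entry a ha
      · exact Subgroup.mul_mem _ (nni_mem_Pa a ha) (Subgroup.mul_mem _ (X_mem_Pa a ha (-t)) hg)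
      · rw [nni_mul_apply_j0]
        rw [X_mul_apply_i0, ← hcdef, ht]
        field_simp
        ring
    · have h1 : X a ha t * X a ha (-t) = (1 : SpecialLinearGroup (Fin n) F) :=
        tv_mul_neg _ _ _ t
      have h2 := nn_mul_nni (F := F) a ha
      calc g = (X a ha t * X a ha (-t)) * g := by rw [h1, one_mul]
        _ = X a ha t * (nn a ha * nni a ha) * (X a ha (-t) * g) := by rw [h2, mul_one]; group
        _ = _ := by group

end Cfsg.Agent.Lib.Helper90_DZ_SLCOVER
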