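import Mathlib
import Cfsg.Prelude.Def_Characters
import Cfsg.Prelude.Def_ParabolicCharacters
import Cfsg.Prelude.Def_LinearParabolics
import Cfsg.Prelude.Def_Blocks
import Cfsg.Prelude.Def_Solvable
import Cfsg.Agent.Lib.Helper40_DefZeroDefs
import Cfsg.Agent.Lib.Helper40_SLBNDefs
import Cfsg.Agent.Lib.Helper40_SLBNDefs2
import Cfsg.Agent.Lib.Helper81_Bruhat
import Cfsg.Agent.Lib.Helper90_DZ_SLCOVER

/-!
# defzero market, package SLBRUHAT (helper90)

For every `g ∈ SL_n(F)` some `P_a`-conjugate of the root subgroup `X_a` is mapped into `U` by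
conjugation with `g`: from the Bruhat decomposition `g = b₁ w b₂` of `GL_n(F)`.
-/

set_option autoImplicit false
open Cfsg Cfsg.Agent.Lib.Helper40_DefZeroDefs Cfsg.Agent.Lib.Helper40_SLBNDefs
open Matrix
open scoped MatrixGroups

namespace Cfsg.Agent.Lib.Helper90_DZ_SLBRUHAT

open Cfsg.Agent.Lib.Helper81_Bruhat Cfsg.Agent.Lib.Helper90_DZ_SLCOVER

variable {n : ℕ} {F : Type*} [Field F]

/-- right multiplication by a permutation matrix -/
theorem mul_W_apply (M : Matrix (Fin n) (Fin n) F) (σ : Equiv.Perm (Fin n)) (r i : Fin n) :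
    (M * (W σ : Matrix (Fin n) (Fin n) F)) r i = M r (σ i) := by
  rw [Matrix.mul_apply, Finset.sum_eq_single (σ i)]
  · rw [W_apply, if_pos rfl, mul_one]
  · intro l _ hl
    rw [W_apply, if_neg hl, mul_zero]
  · intro h; exact absurd (Finset.mem_univ _) h

/-- left multiplication by the inverse permutation matrix -/
theorem W_inv_mul_apply (M : Matrix (Fin n) (Fin n) F) (σ : Equiv.Perm (Fin n)) (j s : Fin n) :
    ((W σ⁻¹ : Matrix (Fin n) (Fin n) F) * M) j s = M (σ j) s := by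
  rw [Matrix.mul_apply, Finset.sum_eq_single (σ j)]
  · rw [W_apply, if_pos (by simp), one_mul]
  · intro l _ hl
    rw [W_apply, if_neg, zero_mul]
    intro e
    apply hl
    rw [e]
    simp
  · intro h; exact absurd (Finset.mem_univ _) h

/-- the key computation: a conjugate of an elementary matrix is strictly upper triangular -/
theorem strict_conj (B₁ B₁' : Matrix (Fin n) (Fin n) F) (hB : B₁.BlockTriangular id)
    (hB' : B₁'.BlockTriangular id) (σ : Equiv.Perm (Fin n)) (d d' : Fin n → F) (i j : Fin n)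
    (hσ : σ i < σ j) (t : F) :
    StrictBT (lB : Fin n → ℕ)
      ((B₁ * W σ * Matrix.diagonal d) * Matrix.single i j t *
        (Matrix.diagonal d' * W σ⁻¹ * B₁')) := by
  intro r s hsr
  have hsr' : s ≤ r := hsr
  rw [Matrix.mul_apply]
  apply Finset.sum_eq_zero
  intro k _
  by_cases hk : k = j
  · subst hk
    rw [Matrix.mul_single_apply_same, Matrix.mul_diagonal, mul_W_apply, Matrix.mul_assoc,
      Matrix.diagonal_mul, W_inv_mul_apply]
    by_cases hr : σ i < r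
    · rw [hB hr]; ring
    · have hs : s < σ k := lt_of_le_of_lt hsr' (lt_of_le_of_lt (not_lt.1 hr) hσ)
      rw [hB' hs]; ring
  · rw [Matrix.mul_single_apply_of_ne (hbj := hk), zero_mul]


/-- `BlockTriangular id` and `BlockTriangular lB` are the same -/
theorem bt_lB_of_id {M : Matrix (Fin n) (Fin n) F} (h : M.BlockTriangular id) :
    M.BlockTriangular (lB : Fin n → ℕ) := fun _ _ hij => h hij

theorem la_mono (a : ℕ) {i j : Fin n} (hij : i ≤ j) : la a i ≤ la a j := by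
  have h : i.val ≤ j.val := hij
  unfold la
  split_ifs <;> omega

/-- `B ≤ P_a` -/
theorem B_le_Pa (a : ℕ) : PL F (lB : Fin n → ℕ) ≤ PL F (la a : Fin n → ℕ) := by
  intro g hg
  rw [mem_PL] at hg ⊢
  intro i j hij
  apply hg
  show j.val < i.val
  by_contra hcon
  have : i ≤ j := not_lt.1 hcon
  exact absurd (la_mono a this) (not_le.2 hij)

/-- the diagonal matrix with one entry `δ` -/
def dg (k : Fin n) (δ : F) : Fin n → F := fun i => if i = k then δ else 1

theorem dg_mul_dg (k : Fin n) (δ : F) (hδ : δ ≠ 0) :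
    (Matrix.diagonal (dg k δ) : Matrix (Fin n) (Fin n) F) * Matrix.diagonal (dg k δ⁻¹) = 1 := by
  rw [Matrix.diagonal_mul_diagonal, ← Matrix.diagonal_one]
  congr 1
  ext i
  unfold dg
  split_ifs
  · exact mul_inv_cancel₀ hδ
  · exact mul_one 1

theorem det_dg (k : Fin n) (δ : F) : (Matrix.diagonal (dg k δ) : Matrix (Fin n) (Fin n) F).det = δ := by
  rw [Matrix.det_diagonal]
  unfold dg
  rw [Finset.prod_ite_eq' Finset.univ k (fun _ => δ)]
  simp

/-- Lemma K: after the Bruhat decomposition `g = b₁ w b₂`, one element `y₁ ∈ B` works for all the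
root elements `tv i j t` with `σ i < σ j`. -/
theorem exists_y (g : SpecialLinearGroup (Fin n) F) (b₁ b₂ : GL (Fin n) F)
    (hb₁ : b₁ ∈ Cfsg.upperTriangularGL n F) (hb₂ : b₂ ∈ Cfsg.upperTriangularGL n F)
    (σ : Equiv.Perm (Fin n)) (hg : SpecialLinearGroup.toGL g = b₁ * WGL σ * b₂) (k : Fin n) :
    ∃ y₁ ∈ PL F (lB : Fin n → ℕ), ∀ (i j : Fin n) (h : i ≠ j), σ i < σ j → ∀ t : F,
      g * (y₁ * tv i j h t * y₁⁻¹) * g⁻¹ ∈ UL F (lB : Fin n → ℕ) := by
  -- the matrices
  set B₁ : Matrix (Fin n) (Fin n) F := (b₁ : Matrix (Fin n) (Fin n) F) with hB₁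
  set B₂ : Matrix (Fin n) (Fin n) F := (b₂ : Matrix (Fin n) (Fin n) F) with hB₂
  set B₁' : Matrix (Fin n) (Fin n) F := ((b₁⁻¹ : GL (Fin n) F) : Matrix (Fin n) (Fin n) F) with hB₁'
  set B₂' : Matrix (Fin n) (Fin n) F := ((b₂⁻¹ : GL (Fin n) F) : Matrix (Fin n) (Fin n) F) with hB₂'
  have h11 : B₁ * B₁' = 1 := by
    rw [hB₁, hB₁', ← Units.val_mul, mul_inv_cancel]; rfl
  have h22 : B₂ * B₂' = 1 := by
    rw [hB₂, hB₂', ← Units.val_mul, mul_inv_cancel]; rfl
  have h22' : B₂' * B₂ = 1 := by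
    rw [hB₂, hB₂', ← Units.val_mul, inv_mul_cancel]; rfl
  have hG : (g : Matrix (Fin n) (Fin n) F) = B₁ * W σ * B₂ := by
    have := congrArg (fun x : GL (Fin n) F => (x : Matrix (Fin n) (Fin n) F)) hg
    simpa [WGL_coe] using this
  set δ : F := B₂.det with hδ
  have hδ0 : δ ≠ 0 := by
    intro h0
    have h1 : (B₂ * B₂').det = 1 := by rw [h22, Matrix.det_one]
    rw [Matrix.det_mul, ← hδ, h0, zero_mul] at h1
    exact zero_ne_one h1
  have hdet' : B₂'.det = δ⁻¹ := by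
    have h1 : (B₂ * B₂').det = 1 := by rw [h22, Matrix.det_one]
    rw [Matrix.det_mul, ← hδ] at h1
    exact eq_inv_of_mul_eq_one_right h1
  set D : Matrix (Fin n) (Fin n) F := Matrix.diagonal (dg k δ) with hD
  set D' : Matrix (Fin n) (Fin n) F := Matrix.diagonal (dg k δ⁻¹) with hD'
  have hDD : D * D' = 1 := dg_mul_dg k δ hδ0
  have hY1 : (B₂' * D).det = 1 := by
    rw [Matrix.det_mul, hdet', hD, det_dg, inv_mul_cancel₀ hδ0]
  set y₁ : SpecialLinearGroup (Fin n) F := ⟨B₂' * D, hY1⟩ with hy₁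
  have hy₁c : (y₁ : Matrix (Fin n) (Fin n) F) = B₂' * D := rfl
  have hWW : (W σ : Matrix (Fin n) (Fin n) F) * W σ⁻¹ = 1 := by
    rw [← W_mul, mul_inv_cancel, W_one]
  -- the matrix of `h = g y₁` and of its inverse
  have hH : ((g * y₁ : SpecialLinearGroup (Fin n) F) : Matrix (Fin n) (Fin n) F) =
      B₁ * W σ * D := by
    rw [coe_mul', hG, hy₁c]
    calc B₁ * W σ * B₂ * (B₂' * D) = B₁ * W σ * (B₂ * B₂') * D := by
          simp only [Matrix.mul_assoc]
      _ = B₁ * W σ * D := by rw [h22, Matrix.mul_one]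
  have hHH : (B₁ * W σ * D) * (D' * W σ⁻¹ * B₁') = 1 := by
    calc (B₁ * W σ * D) * (D' * W σ⁻¹ * B₁') = B₁ * (W σ * ((D * D') * W σ⁻¹)) * B₁' := by
          simp only [Matrix.mul_assoc]
      _ = 1 := by rw [hDD, Matrix.one_mul, hWW, Matrix.mul_one, h11]
  have hHi : (((g * y₁)⁻¹ : SpecialLinearGroup (Fin n) F) : Matrix (Fin n) (Fin n) F) =
      D' * W σ⁻¹ * B₁' := by
    have e1 : (((g * y₁)⁻¹ : SpecialLinearGroup (Fin n) F) : Matrix (Fin n) (Fin n) F) *
        ((g * y₁ : SpecialLinearGroup (Fin n) F) : Matrix (Fin n) (Fin n) F) = 1 := by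
      rw [← coe_mul', inv_mul_cancel]; rfl
    calc (((g * y₁)⁻¹ : SpecialLinearGroup (Fin n) F) : Matrix (Fin n) (Fin n) F)
        = (((g * y₁)⁻¹ : SpecialLinearGroup (Fin n) F) : Matrix (Fin n) (Fin n) F) *
            ((B₁ * W σ * D) * (D' * W σ⁻¹ * B₁')) := by rw [hHH, Matrix.mul_one]
      _ = ((((g * y₁)⁻¹ : SpecialLinearGroup (Fin n) F) : Matrix (Fin n) (Fin n) F) *
            ((g * y₁ : SpecialLinearGroup (Fin n) F) : Matrix (Fin n) (Fin n) F)) *
              (D' * W σ⁻¹ * B₁') := by rw [hH]; simp only [Matrix.mul_assoc]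
      _ = D' * W σ⁻¹ * B₁' := by rw [e1, Matrix.one_mul]
  have hbt1 : B₁.BlockTriangular id := hb₁
  have hbt1' : B₁'.BlockTriangular id := (Cfsg.upperTriangularGL n F).inv_mem hb₁
  have hbt2' : B₂'.BlockTriangular id := (Cfsg.upperTriangularGL n F).inv_mem hb₂
  refine ⟨y₁, ?_, ?_⟩
  · rw [mem_PL, hy₁c]
    exact bt_lB_of_id (Matrix.BlockTriangular.mul hbt2' (Matrix.blockTriangular_diagonal _))
  · intro i j hij hσ t
    have e : g * (y₁ * tv i j hij t * y₁⁻¹) * g⁻¹ = (g * y₁) * tv i j hij t * (g * y₁)⁻¹ := by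
      group
    rw [e, mem_UL, coe_mul', coe_mul', hH, hHi, tv_coe, Matrix.transvection]
    have e2 : B₁ * W σ * D * (1 + Matrix.single i j t) * (D' * W σ⁻¹ * B₁') - 1 =
        (B₁ * W σ * D) * Matrix.single i j t * (D' * W σ⁻¹ * B₁') := by
      rw [Matrix.mul_add, Matrix.mul_one, Matrix.add_mul, hHH]
      abel
    rw [e2]
    exact strict_conj B₁ B₁' hbt1 hbt1' σ _ _ i j hσ t


/-- `n_a x_a(t) = x_{-a}(-t) n_a` -/
theorem nn_mul_X (a : ℕ) (ha : a + 1 < n) (t : F) :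
    (nn a ha : SpecialLinearGroup (Fin n) F) * X a ha t = Y a ha (-t) * nn a ha := by
  have hne := i0_ne_j0 a ha
  have key : ∀ G : SpecialLinearGroup (Fin n) F,
      (nn a ha * X a ha t) * G = (Y a ha (-t) * nn a ha) * G := by
    intro G
    apply Matrix.SpecialLinearGroup.ext
    intro r s
    unfold nn
    simp only [mul_assoc]
    by_cases hr : r = i0 a ha
    · subst hr
      simp only [X_mul_apply_i0, X_mul_apply_ne a ha _ _ _ _ hne.symm, Y_mul_apply_j0,
        Y_mul_apply_ne a ha _ _ _ _ hne]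
      ring
    · by_cases hr' : r = j0 a ha
      · subst hr'
        simp only [X_mul_apply_i0, X_mul_apply_ne a ha _ _ _ _ hne.symm, Y_mul_apply_j0,
          Y_mul_apply_ne a ha _ _ _ _ hne]
        ring
      · simp only [X_mul_apply_ne a ha _ _ _ _ hr, Y_mul_apply_ne a ha _ _ _ _ hr']
  have := key 1
  rwa [mul_one, mul_one] at this

/-- generators of `X_a` are the elements `X a ha t` -/
theorem gen_eq (a : ℕ) (ha : a + 1 < n) (x : SpecialLinearGroup (Fin n) F) (i j : Fin n) (t : F)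
    (hi : i.val = a) (hj : j.val = a + 1)
    (hx : (x : Matrix (Fin n) (Fin n) F) = Matrix.transvection i j t) : x = X a ha t := by
  have e1 : i = i0 a ha := Fin.ext hi
  have e2 : j = j0 a ha := Fin.ext hj
  apply Matrix.SpecialLinearGroup.ext
  intro r s
  rw [hx, e1, e2]
  rfl

/-- SLBRUHAT -/
theorem sl_bruhat (a : ℕ) (ha : a + 1 < n) :
    ∀ g : SpecialLinearGroup (Fin n) F, ∃ y ∈ PL F (la a : Fin n → ℕ),
      ∀ x ∈ Xs F a, g * (y * x * y⁻¹) * g⁻¹ ∈ UL F (lB : Fin n → ℕ) := by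
  intro g
  obtain ⟨b₁, hb₁, σ, b₂, hb₂, hg⟩ := bruhat (SpecialLinearGroup.toGL g)
  obtain ⟨y₁, hy₁, hK⟩ := exists_y g b₁ b₂ hb₁ hb₂ σ hg (i0 a ha)
  have hne := i0_ne_j0 a ha
  -- reduction to the generators
  have red : ∀ y : SpecialLinearGroup (Fin n) F,
      (∀ t : F, g * (y * X a ha t * y⁻¹) * g⁻¹ ∈ UL F (lB : Fin n → ℕ)) →
      ∀ x ∈ Xs F a, g * (y * x * y⁻¹) * g⁻¹ ∈ UL F (lB : Fin n → ℕ) := by
    intro y hy x hx
    have hle : Xs F a ≤ (UL F (lB : Fin n → ℕ)).comap (MulAut.conj (g * y)).toMonoidHom := by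
      unfold Xs
      rw [Subgroup.closure_le]
      rintro z ⟨i, j, t, hi, hj, hz⟩
      rw [gen_eq a ha z i j t hi hj hz]
      show (MulAut.conj (g * y)) (X a ha t) ∈ UL F (lB : Fin n → ℕ)
      rw [MulAut.conj_apply]
      have e : g * y * X a ha t * (g * y)⁻¹ = g * (y * X a ha t * y⁻¹) * g⁻¹ := by group
      rw [e]
      exact hy t
    have h1 := hle hx
    have h2 : (MulAut.conj (g * y)) x ∈ UL F (lB : Fin n → ℕ) := h1
    rw [MulAut.conj_apply] at h2
    have e : g * (y * x * y⁻¹) * g⁻¹ = g * y * x * (g * y)⁻¹ := by group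
    rw [e]
    exact h2
  by_cases hσ : σ (i0 a ha) < σ (j0 a ha)
  · refine ⟨y₁, B_le_Pa a hy₁, red y₁ ?_⟩
    intro t
    exact hK (i0 a ha) (j0 a ha) hne hσ t
  · have hσ' : σ (j0 a ha) < σ (i0 a ha) := by
      rcases lt_or_eq_of_le (not_lt.1 hσ) with h | h
      · exact h
      · exact absurd (σ.injective h).symm hne
    refine ⟨y₁ * nn a ha, Subgroup.mul_mem _ (B_le_Pa a hy₁) (nn_mem_Pa a ha), red _ ?_⟩
    intro t
    have e : y₁ * nn a ha * X a ha t * (y₁ * nn a ha)⁻¹ = y₁ * Y a ha (-t) * y₁⁻¹ := by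
      have h1 : y₁ * nn a ha * X a ha t = y₁ * Y a ha (-t) * nn a ha := by
        rw [mul_assoc, nn_mul_X, ← mul_assoc]
      rw [h1]
      group
    rw [e]
    exact hK (j0 a ha) (i0 a ha) hne.symm hσ' (-t)

end Cfsg.Agent.Lib.Helper90_DZ_SLBRUHAT
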