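import Mathlib
import Cfsg.Agent.Lib.Helper90_CodeTable

/-!
# Bit-packed `n × n` matrices over `ZMod 2` with a fast product (helper90)

Row `i` of a code occupies the bits `n i, …, n i + n - 1`.  The product is
`⊕_c (column c of a, spread over the positions 0, n, 2n, …) * (row c of b)`: the multiplication of
natural numbers copies the row `c` of `b` to every row `i` with `a i c = 1`, without carries.
-/

set_option autoImplicit false

namespace Cfsg.Agent.Lib.Helper90_F2Mat

open Cfsg.Agent.Lib.Helper90_CodeTable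

/-- Row `c` of `b`. -/
def rowW (n b c : ℕ) : ℕ := Nat.land (Nat.shiftRight b (Nat.mul n c)) (Nat.sub (Nat.pow 2 n) 1)

/-- Column `c` of `a`, spread over the positions `0, n, 2n, …` (`m0` is the mask of these). -/
def colM (m0 a c : ℕ) : ℕ := Nat.land (Nat.shiftRight a c) m0

/-- Partial product of codes. -/
def cmulAux (n m0 a b : ℕ) (k : ℕ) : ℕ :=
  Nat.rec (motive := fun _ => ℕ) 0
    (fun c acc => Nat.xor acc (Nat.mul (colM m0 a c) (rowW n b c))) k

/-- Product of codes (with the mask `m0` given). -/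
def cmulF (n m0 a b : ℕ) : ℕ := cmulAux n m0 a b n

/-- `∑_{r < k} [f r] 2^(n r)`. -/
def spread (n : ℕ) (f : ℕ → Bool) : ℕ → ℕ
  | 0 => 0
  | k + 1 => spread n f k + (if f k then 2 ^ (n * k) else 0)

theorem spread_mul_lt {n : ℕ} (f : ℕ → Bool) (k : ℕ) {y : ℕ} (hy : y < 2 ^ n) :
    spread n f k * y < 2 ^ (n * k) := by
  induction k with
  | zero => simp [spread]
  | succ k ih =>
    rw [spread, add_mul, Nat.mul_succ, pow_add]
    split_ifs
    · calc spread n f k * y + 2 ^ (n * k) * y < 2 ^ (n * k) + 2 ^ (n * k) * y := by omega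
        _ = 2 ^ (n * k) * (y + 1) := by ring
        _ ≤ 2 ^ (n * k) * 2 ^ n := Nat.mul_le_mul_left _ hy
    · rw [zero_mul, add_zero]
      calc spread n f k * y < 2 ^ (n * k) := ih
        _ = 2 ^ (n * k) * 1 := (mul_one _).symm
        _ ≤ 2 ^ (n * k) * 2 ^ n := Nat.mul_le_mul_left _ Nat.one_le_two_pow

theorem testBit_spread_mul {n : ℕ} (f : ℕ → Bool) (k : ℕ) {y : ℕ} (hy : y < 2 ^ n) (i j : ℕ)
    (hj : j < n) :
    (spread n f k * y).testBit (n * i + j) = (decide (i < k) && f i && y.testBit j) := by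
  induction k with
  | zero => simp [spread]
  | succ k ih =>
    have hlt := spread_mul_lt f k hy
    have e : spread n f (k + 1) * y = 2 ^ (n * k) * ((if f k then 1 else 0) * y) +
        spread n f k * y := by
      rw [spread, add_mul]
      split_ifs <;> ring
    rw [e, Nat.testBit_two_pow_mul_add _ hlt]
    rcases lt_trichotomy i k with h | h | h
    · have h1 : n * i + j < n * k := by
        calc n * i + j < n * i + n := by omega
          _ = n * (i + 1) := by ring
          _ ≤ n * k := Nat.mul_le_mul_left _ h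
      rw [if_pos h1, ih]
      simp [h, Nat.lt_succ_of_lt h]
    · subst h
      have h1 : ¬ (n * i + j < n * i) := by omega
      rw [if_neg h1, Nat.add_sub_cancel_left]
      cases hf : f i <;> simp
    · have h1 : ¬ (n * i + j < n * k) := by
        have : n * k ≤ n * i := Nat.mul_le_mul_left _ (le_of_lt h)
        omega
      rw [if_neg h1]
      have h2 : (if f k then 1 else 0) * y < 2 ^ (n * i + j - n * k) := by
        have h3 : n ≤ n * i + j - n * k := by
          have : n * (k + 1) ≤ n * i := Nat.mul_le_mul_left _ h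
          rw [Nat.mul_succ] at this
          omega
        calc (if f k then 1 else 0) * y ≤ 1 * y := Nat.mul_le_mul_right _ (by split_ifs <;> omega)
          _ = y := one_mul y
          _ < 2 ^ n := hy
          _ ≤ 2 ^ (n * i + j - n * k) := Nat.pow_le_pow_right (by norm_num) h3
      rw [Nat.testBit_lt_two_pow h2]
      have : ¬ (i < k + 1) := by omega
      simp [this]

theorem testBit_one' (j : ℕ) : (1 : ℕ).testBit j = decide (j = 0) := by
  cases j with
  | zero => simp
  | succ j => simp [Nat.testBit_succ]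

theorem testBit_spread {n : ℕ} (hn : 0 < n) (f : ℕ → Bool) (k p : ℕ) :
    (spread n f k).testBit p = (decide (p / n < k) && f (p / n) && decide (p % n = 0)) := by
  have h1 : (1 : ℕ) < 2 ^ n := Nat.one_lt_two_pow (Nat.pos_iff_ne_zero.mp hn)
  have h := testBit_spread_mul f k h1 (p / n) (p % n) (Nat.mod_lt p hn)
  rw [mul_one, Nat.div_add_mod] at h
  rw [h, testBit_one']

/-- The column of `a`, spread: as a sum. -/
theorem colM_eq {n : ℕ} (hn : 0 < n) {m0 : ℕ} (hm0 : m0 = spread n (fun _ => true) n) (a c : ℕ) :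
    colM m0 a c = spread n (fun r => a.testBit (n * r + c)) n := by
  apply Nat.eq_of_testBit_eq
  intro p
  show (a >>> c &&& m0).testBit p = _
  rw [Nat.testBit_and, Nat.testBit_shiftRight, hm0, testBit_spread hn, testBit_spread hn]
  by_cases hp : p % n = 0
  · have e : n * (p / n) = p := by
      have := Nat.div_add_mod p n
      omega
    rw [e, add_comm c p]
    cases a.testBit (p + c) <;> simp [hp]
  · simp [hp]

theorem rowW_lt (n b c : ℕ) : rowW n b c < 2 ^ n := by
  show (b >>> (n * c)) &&& (2 ^ n - 1) < 2 ^ n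
  have h : (b >>> (n * c)) &&& (2 ^ n - 1) ≤ 2 ^ n - 1 := Nat.and_le_right
  have : 0 < 2 ^ n := Nat.two_pow_pos n
  omega

theorem testBit_rowW (n b c j : ℕ) :
    (rowW n b c).testBit j = (b.testBit (n * c + j) && decide (j < n)) := by
  show ((b >>> (n * c)) &&& (2 ^ n - 1)).testBit j = _
  rw [Nat.testBit_and, Nat.testBit_shiftRight, Nat.testBit_two_pow_sub_one]

/-- `h 0 ^^ h 1 ^^ … ^^ h (k - 1)`. -/
def bx (h : ℕ → Bool) : ℕ → Bool
  | 0 => false
  | k + 1 => bx h k ^^ h k

theorem testBit_cmulAux {n : ℕ} (hn : 0 < n) {m0 : ℕ} (hm0 : m0 = spread n (fun _ => true) n)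
    (a b k i j : ℕ) (hi : i < n) (hj : j < n) :
    (cmulAux n m0 a b k).testBit (n * i + j) =
      bx (fun c => a.testBit (n * i + c) && b.testBit (n * c + j)) k := by
  induction k with
  | zero => simp [cmulAux, bx]
  | succ k ih =>
    show ((cmulAux n m0 a b k) ^^^ (colM m0 a k * rowW n b k)).testBit (n * i + j) = _
    rw [Nat.testBit_xor, ih, colM_eq hn hm0, testBit_spread_mul _ _ (rowW_lt n b k) i j hj,
      testBit_rowW]
    simp [bx, hi, hj]

theorem testBit_cmulF {n : ℕ} (hn : 0 < n) {m0 : ℕ} (hm0 : m0 = spread n (fun _ => true) n)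
    (a b i j : ℕ) (hi : i < n) (hj : j < n) :
    (cmulF n m0 a b).testBit (n * i + j) =
      bx (fun c => a.testBit (n * i + c) && b.testBit (n * c + j)) n :=
  testBit_cmulAux hn hm0 a b n i j hi hj

/-! ### Decoding -/

/-- `true ↦ 1`, `false ↦ 0`. -/
def b2 (b : Bool) : ZMod 2 := if b then 1 else 0

theorem b2_and (p q : Bool) : b2 (p && q) = b2 p * b2 q := by
  cases p <;> cases q <;> simp [b2]

theorem b2_xor (p q : Bool) : b2 (p ^^ q) = b2 p + b2 q := by
  cases p <;> cases q <;> simp [b2]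
  decide

theorem b2_bx (h : ℕ → Bool) (k : ℕ) : b2 (bx h k) = ∑ c ∈ Finset.range k, b2 (h c) := by
  induction k with
  | zero => simp [bx, b2]
  | succ k ih => rw [bx, b2_xor, ih, Finset.sum_range_succ]

theorem b2_inj {p q : Bool} (h : b2 p = b2 q) : p = q := by
  cases p <;> cases q <;> simp [b2] at h ⊢

/-- Decoding. -/
def toMatF (n a : ℕ) : Matrix (Fin n) (Fin n) (ZMod 2) :=
  fun i j => b2 (a.testBit (n * i.val + j.val))

theorem toMatF_cmulF {n : ℕ} (hn : 0 < n) {m0 : ℕ} (hm0 : m0 = spread n (fun _ => true) n)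
    (a b : ℕ) : toMatF n (cmulF n m0 a b) = toMatF n a * toMatF n b := by
  ext i j
  rw [Matrix.mul_apply]
  show b2 ((cmulF n m0 a b).testBit (n * i.val + j.val)) = _
  rw [testBit_cmulF hn hm0 a b i.val j.val i.2 j.2, b2_bx,
    ← Fin.sum_univ_eq_sum_range (fun c => b2 (a.testBit (n * i.val + c) && b.testBit (n * c + j.val)))]
  apply Finset.sum_congr rfl
  intro c _
  rw [b2_and]
  rfl

theorem toMatF_xor (n a b : ℕ) : toMatF n (Nat.xor a b) = toMatF n a + toMatF n b := by
  ext i j
  show b2 ((a ^^^ b).testBit _) = b2 _ + b2 _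
  rw [Nat.testBit_xor, b2_xor]

theorem toMatF_zero (n : ℕ) : toMatF n 0 = 0 := by
  ext i j
  show b2 ((0 : ℕ).testBit _) = 0
  simp [b2]

/-- The code of the identity: `spread (n + 1)`. -/
theorem toMatF_one {n : ℕ} {c1 : ℕ} (h1 : c1 = spread (n + 1) (fun _ => true) n) :
    toMatF n c1 = 1 := by
  ext i j
  show b2 (c1.testBit (n * i.val + j.val)) = _
  rw [h1, testBit_spread (Nat.succ_pos n), Matrix.one_apply]
  have hi := i.2
  have hj := j.2
  by_cases hij : i = j
  · subst hij
    have e : n * i.val + i.val = (n + 1) * i.val := by ring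
    rw [e, Nat.mul_div_cancel_left _ (Nat.succ_pos n), Nat.mul_mod_right]
    simp [b2, hi]
  · rw [if_neg hij]
    have hne : i.val ≠ j.val := fun h => hij (Fin.ext h)
    have hmod : (n * i.val + j.val) % (n + 1) ≠ 0 := by
      intro h0
      have hdvd : (n + 1) ∣ n * i.val + j.val := Nat.dvd_of_mod_eq_zero h0
      rcases Nat.lt_or_gt_of_ne hne with h | h
      · -- j = i + d, n i + j = (n+1) i + d with 0 < d < n + 1
        have e : n * i.val + j.val = (n + 1) * i.val + (j.val - i.val) := by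
          rw [Nat.add_mul, one_mul]; omega
        rw [e] at hdvd
        have h2 : (n + 1) ∣ j.val - i.val := (Nat.dvd_add_right (Dvd.intro _ rfl)).mp hdvd
        have := Nat.le_of_dvd (by omega) h2
        omega
      · -- i = j + d: n i + j = (n+1) i - d
        have e : n * i.val + j.val + (i.val - j.val) = (n + 1) * i.val := by
          rw [Nat.add_mul, one_mul]; omega
        have h2 : (n + 1) ∣ i.val - j.val := by
          have h3 : (n + 1) ∣ n * i.val + j.val + (i.val - j.val) := by
            rw [e]; exact Dvd.intro _ rfl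
          exact (Nat.dvd_add_right hdvd).mp h3
        have := Nat.le_of_dvd (by omega) h2
        omega
    simp [b2, hmod]

/-- Codes below `2^(n n)` with equal matrices are equal. -/
theorem eq_of_toMatF_eq {n : ℕ} (hn : 0 < n) {a b : ℕ} (ha : a < 2 ^ (n * n))
    (hb : b < 2 ^ (n * n)) (h : toMatF n a = toMatF n b) : a = b := by
  apply Nat.eq_of_testBit_eq
  intro p
  by_cases hp : p < n * n
  · have hi : p / n < n := Nat.div_lt_of_lt_mul hp
    have hj : p % n < n := Nat.mod_lt p hn
    have h1 := congrFun (congrFun h ⟨p / n, hi⟩) ⟨p % n, hj⟩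
    have h2 : b2 (a.testBit (n * (p / n) + p % n)) = b2 (b.testBit (n * (p / n) + p % n)) := h1
    rw [Nat.div_add_mod] at h2
    exact b2_inj h2
  · have hp' : 2 ^ (n * n) ≤ 2 ^ p := Nat.pow_le_pow_right (by norm_num) (by omega)
    rw [Nat.testBit_lt_two_pow (lt_of_lt_of_le ha hp'),
      Nat.testBit_lt_two_pow (lt_of_lt_of_le hb hp')]

/-- Codes with equal matrices agree on the bits below `n n`. -/
theorem land_eq_of_toMatF_eq {n : ℕ} (hn : 0 < n) {a b : ℕ} (h : toMatF n a = toMatF n b) :
    Nat.land a (2 ^ (n * n) - 1) = Nat.land b (2 ^ (n * n) - 1) := by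
  apply Nat.eq_of_testBit_eq
  intro p
  show (a &&& (2 ^ (n * n) - 1)).testBit p = (b &&& (2 ^ (n * n) - 1)).testBit p
  rw [Nat.testBit_and, Nat.testBit_and, Nat.testBit_two_pow_sub_one]
  by_cases hp : p < n * n
  · have hi : p / n < n := Nat.div_lt_of_lt_mul hp
    have hj : p % n < n := Nat.mod_lt p hn
    have h1 := congrFun (congrFun h ⟨p / n, hi⟩) ⟨p % n, hj⟩
    have h2 : b2 (a.testBit (n * (p / n) + p % n)) = b2 (b.testBit (n * (p / n) + p % n)) := h1
    rw [Nat.div_add_mod] at h2
    rw [b2_inj h2]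
  · simp [hp]

/-! ### Powers and sums of powers -/

/-- `a ^ k`. -/
def cpowF (n m0 c1 a k : ℕ) : ℕ :=
  Nat.rec (motive := fun _ => ℕ) c1 (fun _ r => cmulF n m0 r a) k

/-- `1 + a + ⋯ + a ^ (k - 1)` (Horner: `s ↦ 1 + s a`). -/
def csumF (n m0 c1 a k : ℕ) : ℕ :=
  Nat.rec (motive := fun _ => ℕ) 0 (fun _ s => Nat.xor c1 (cmulF n m0 s a)) k

theorem toMatF_cpowF {n : ℕ} (hn : 0 < n) {m0 : ℕ} (hm0 : m0 = spread n (fun _ => true) n)
    {c1 : ℕ} (h1 : c1 = spread (n + 1) (fun _ => true) n) (a k : ℕ) :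
    toMatF n (cpowF n m0 c1 a k) = toMatF n a ^ k := by
  induction k with
  | zero => rw [pow_zero]; exact toMatF_one h1
  | succ k ih =>
    show toMatF n (cmulF n m0 (cpowF n m0 c1 a k) a) = _
    rw [toMatF_cmulF hn hm0, ih, pow_succ]

theorem toMatF_csumF {n : ℕ} (hn : 0 < n) {m0 : ℕ} (hm0 : m0 = spread n (fun _ => true) n)
    {c1 : ℕ} (h1 : c1 = spread (n + 1) (fun _ => true) n) (a k : ℕ) :
    toMatF n (csumF n m0 c1 a k) = ∑ i ∈ Finset.range k, toMatF n a ^ i := by
  induction k with
  | zero => rw [Finset.sum_range_zero]; exact toMatF_zero n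
  | succ k ih =>
    show toMatF n (Nat.xor c1 (cmulF n m0 (csumF n m0 c1 a k) a)) = _
    rw [toMatF_xor, toMatF_cmulF hn hm0, ih, toMatF_one h1, Finset.sum_range_succ',
      Finset.sum_mul, pow_zero, add_comm]
    congr 1

end Cfsg.Agent.Lib.Helper90_F2Mat
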