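import Cfsg.Agent.Lib.Helper90_J1Simple

/-!
# Conjugacy class tables and permutation actions for subgroups of `GL₇(11)` (helper90)

* `chkConj`: a table of conjugates of `T 0` with a tree of conjugations by generators;
  `card_centralizer_mul_le`: a lower bound for the index of a centralizer in `J₁`.
* `Acts`: a matrix group permuting five matrices by conjugation, and the homomorphism to
  `Equiv.Perm (Fin 5)`.
-/

set_option autoImplicit false

namespace Cfsg.Agent.Lib.Helper90_J1Cent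

open Cfsg.Agent.Lib.Helper90_J1Core Cfsg.Agent.Lib.Helper90_J1Table
  Cfsg.Agent.Lib.Helper90_J1Order Cfsg.Agent.Lib.Helper90_J1Simple Cfsg.Spor


/-! ### A fast normal form -/

/-- Unrolled `cnorm`. -/
def cnormR (a : ℕ) : ℕ :=
  force a fun a =>
  (Nat.add (Nat.mod (Nat.land (Nat.shiftRight a 0) 15) 11) (Nat.mul 16 (Nat.add (Nat.mod (Nat.land (Nat.shiftRight a 4) 15) 11) (Nat.mul 16 (Nat.add (Nat.mod (Nat.land (Nat.shiftRight a 8) 15) 11) (Nat.mul 16 (Nat.add (Nat.mod (Nat.land (Nat.shiftRight a 12) 15) 11) (Nat.mul 16 (Nat.add (Nat.mod (Nat.land (Nat.shiftRight a 16) 15) 11) (Nat.mul 16 (Nat.add (Nat.mod (Nat.land (Nat.shiftRight a 20) 15) 11) (Nat.mul 16 (Nat.add (Nat.mod (Nat.land (Nat.shiftRight a 24) 15) 11) (Nat.mul 16 (Nat.add (Nat.mod (Nat.land (Nat.shiftRight a 28) 15) 11) (Nat.mul 16 (Nat.add (Nat.mod (Nat.land (Nat.shiftRight a 32) 15) 11) (Nat.mul 16 (Nat.add (Nat.mod (Nat.land (Nat.shiftRight a 36) 15) 11) (Nat.mul 16 (Nat.add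 (Nat.mod (Nat.land (Nat.shiftRight a 40) 15) 11) (Nat.mul 16 (Nat.add (Nat.mod (Nat.land (Nat.shiftRight a 44) 15) 11) (Nat.mul 16 (Nat.add (Nat.mod (Nat.land (Nat.shiftRight a 48) 15) 11) (Nat.mul 16 (Nat.add (Nat.mod (Nat.land (Nat.shiftRight a 52) 15) 11) (Nat.mul 16 (Nat.add (Nat.mod (Nat.land (Nat.shiftRight a 56) 15) 11) (Nat.mul 16 (Nat.add (Nat.mod (Nat.land (Nat.shiftRight a 60) 15) 11) (Nat.mul 16 (Nat.add (Nat.mod (Nat.land (Nat.shiftRight a 64) 15) 11) (Nat.mul 16 (Nat.add (Nat.mod (Nat.land (Nat.shiftRight a 68) 15) 11) (Nat.mul 16 (Nat.add (Nat.mod (Nat.land (Nat.shiftRight a 72) 15) 11) (Nat.mul 16 (Nat.add (Nat.mod (Nat.land (Nat.shiftRight a 76) 15) 11) (Nat.mul 16 (Nat.add (Nat.mod (Nat.land (Nat.shiftRight a 80) 15) 11) (Nat.mul 16 (Nat.add (Nat.mod (Nat.land (Nat.shiftRight a 84) 15) 11) (Nat.mul 16 (Nat.add (Nat.mod (Nat.land (Nat.shiftRight a 88) 15) 11) (Nat.mul 16 (Nat.add (Nat.mod (Nat.land (Nat.shiftRight a 92) 15) 11)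 (Nat.mul 16 (Nat.add (Nat.mod (Nat.land (Nat.shiftRight a 96) 15) 11) (Nat.mul 16 (Nat.add (Nat.mod (Nat.land (Nat.shiftRight a 100) 15) 11) (Nat.mul 16 (Nat.add (Nat.mod (Nat.land (Nat.shiftRight a 104) 15) 11) (Nat.mul 16 (Nat.add (Nat.mod (Nat.land (Nat.shiftRight a 108) 15) 11) (Nat.mul 16 (Nat.add (Nat.mod (Nat.land (Nat.shiftRight a 112) 15) 11) (Nat.mul 16 (Nat.add (Nat.mod (Nat.land (Nat.shiftRight a 116) 15) 11) (Nat.mul 16 (Nat.add (Nat.mod (Nat.land (Nat.shiftRight a 120) 15) 11) (Nat.mul 16 (Nat.add (Nat.mod (Nat.land (Nat.shiftRight a 124) 15) 11) (Nat.mul 16 (Nat.add (Nat.mod (Nat.land (Nat.shiftRight a 128) 15) 11) (Nat.mul 16 (Nat.add (Nat.mod (Nat.land (Nat.shiftRight a 132) 15) 11) (Nat.mul 16 (Nat.add (Nat.mod (Nat.land (Nat.shiftRight a 136) 15) 11) (Nat.mul 16 (Nat.add (Nat.mod (Nat.land (Nat.shiftRight a 140) 15) 11) (Nat.mul 16 (Nat.add (Nat.mod (Nat.land (Nat.shiftRight a 144) 15) 11) (Nat.mul 16 (Nat.add (Nat.mod (Nat.land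 (Nat.shiftRight a 148) 15) 11) (Nat.mul 16 (Nat.add (Nat.mod (Nat.land (Nat.shiftRight a 152) 15) 11) (Nat.mul 16 (Nat.add (Nat.mod (Nat.land (Nat.shiftRight a 156) 15) 11) (Nat.mul 16 (Nat.add (Nat.mod (Nat.land (Nat.shiftRight a 160) 15) 11) (Nat.mul 16 (Nat.add (Nat.mod (Nat.land (Nat.shiftRight a 164) 15) 11) (Nat.mul 16 (Nat.add (Nat.mod (Nat.land (Nat.shiftRight a 168) 15) 11) (Nat.mul 16 (Nat.add (Nat.mod (Nat.land (Nat.shiftRight a 172) 15) 11) (Nat.mul 16 (Nat.add (Nat.mod (Nat.land (Nat.shiftRight a 176) 15) 11) (Nat.mul 16 (Nat.add (Nat.mod (Nat.land (Nat.shiftRight a 180) 15) 11) (Nat.mul 16 (Nat.add (Nat.mod (Nat.land (Nat.shiftRight a 184) 15) 11) (Nat.mul 16 (Nat.add (Nat.mod (Nat.land (Nat.shiftRight a 188) 15) 11) (Nat.mul 16 (Nat.add (Nat.mod (Nat.land (Nat.shiftRight a 192) 15) 11) (Nat.mul 16 0))))))))))))))))))))))))))))))))))))))))))))))))))))))))))))))))))))))))))))))))))))))))))))))))))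

theorem cnormR_eq (a : ℕ) : cnormR a = cnorm a := rfl

/-- `chkDist` with the unrolled normal form. -/
def chkDistR (T : ℕ → ℕ) (i : ℕ) : Bool :=
  force (T i) fun t => and (Nat.beq (cnormR t) t) (allLt i fun j => not (Nat.beq t (T j)))

theorem chkDistR_eq (T : ℕ → ℕ) : chkDistR T = chkDist T := by
  funext i
  unfold chkDistR chkDist
  simp only [cnormR_eq]


/-! ### Distinctness through a bitmap of hash values -/

/-- Bitmap loop: the entries `i, i + 1, …, i + cnt - 1` are normal forms whose residues modulo `p`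
are not yet in the bitmap `acc`; they are added one after the other. -/
def bmLoop (T : ℕ → ℕ) (p : ℕ) (cnt : ℕ) : ℕ → ℕ → Bool :=
  Nat.rec (motive := fun _ => ℕ → ℕ → Bool) (fun _ _ => true)
    (fun _ ih i acc => force (T i) fun t => force (Nat.mod t p) fun h =>
      and (Nat.beq (cnormR t) t) (and (not (Nat.testBit acc h))
        (force (Nat.add i 1) fun i' => force (Nat.lor acc (Nat.shiftLeft 1 h)) fun acc' =>
          ih i' acc'))) cnt

theorem bmLoop_succ (T : ℕ → ℕ) (p cnt i acc : ℕ) :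
    bmLoop T p (cnt + 1) i acc =
      (Nat.beq (cnormR (T i)) (T i) && (!(Nat.testBit acc (T i % p)) &&
        bmLoop T p cnt (i + 1) (acc ||| 1 <<< (T i % p)))) := rfl

theorem bmLoop_spec_aux (T : ℕ → ℕ) (p cnt : ℕ) :
    ∀ i acc, (∀ j < i, Nat.testBit acc (T j % p) = true) → bmLoop T p cnt i acc = true →
      ∀ a, i ≤ a → a < i + cnt → cnorm (T a) = T a ∧ ∀ b < a, T b % p ≠ T a % p := by
  induction cnt with
  | zero => intro i acc _ _ a h1 h2; omega
  | succ cnt ih =>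
    intro i acc hinv h a h1 h2
    rw [bmLoop_succ] at h
    simp only [Bool.and_eq_true, Bool.not_eq_true'] at h
    obtain ⟨hn, hb, hrest⟩ := h
    rcases Nat.eq_or_lt_of_le h1 with rfl | h3
    · refine ⟨by rw [← cnormR_eq]; exact Nat.eq_of_beq_eq_true hn, ?_⟩
      intro b hb' heq
      have := hinv b hb'
      rw [heq, hb] at this
      exact Bool.false_ne_true this
    · apply ih (i + 1) (acc ||| 1 <<< (T i % p)) _ hrest a h3 (by omega)
      intro j hj
      rw [Nat.testBit_or]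
      rcases Nat.lt_succ_iff_lt_or_eq.mp hj with h4 | rfl
      · rw [hinv j h4, Bool.true_or]
      · have : (1 <<< (T j % p)).testBit (T j % p) = true := by
          rw [Nat.testBit_shiftLeft]
          simp
        rw [this, Bool.or_true]

theorem bmLoop_spec {T : ℕ → ℕ} {p n : ℕ} (h : bmLoop T p n 0 0 = true) :
    ∀ i < n, ∀ j < n, toMat (T i) = toMat (T j) → i = j := by
  have key := bmLoop_spec_aux T p n 0 0 (fun j hj => absurd hj (Nat.not_lt_zero j)) h
  have key2 : ∀ i < n, ∀ j < i, toMat (T i) ≠ toMat (T j) := by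
    intro i hi j hj heq
    obtain ⟨h1, h2⟩ := key i (Nat.zero_le i) (by omega)
    obtain ⟨h3, _⟩ := key j (Nat.zero_le j) (by omega)
    have e := cnorm_eq_of_toMat_eq heq
    rw [h1, h3] at e
    exact h2 j hj (by rw [e])
  intro i hi j hj heq
  rcases lt_trichotomy i j with h1 | h1 | h1
  · exact absurd heq.symm (key2 j hj i h1)
  · exact h1
  · exact absurd heq (key2 i hi j h1)

/-! ### Trees of conjugations -/

/-- Conjugation check at `i`: `i = 0`, or `T i * gen l = gen l * T (par i)` with `par i < i`. -/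
def chkConj (T : ℕ → ℕ) (gen : ℕ → ℕ) (ng : ℕ) (par lett : ℕ → ℕ) (i : ℕ) : Bool :=
  or (Nat.beq i 0)
    (force (par i) fun p => force (lett i) fun l =>
      and (Nat.blt p i) (and (Nat.blt l ng)
        (Nat.beq (cmulR (T i) (gen l)) (cmulR (gen l) (T p)))))

theorem conj_table {T : ℕ → ℕ} {n : ℕ} {gen : ℕ → ℕ} {ng : ℕ} {par lett : ℕ → ℕ}
    (htree : allLt n (chkConj T gen ng par lett) = true) :
    ∀ i < n, ∃ m ∈ genMon gen ng, m * toMat (T 0) = toMat (T i) * m := by
  intro i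
  induction i using Nat.strong_induction_on with
  | _ i ih =>
    intro hi
    have h := allLt_spec htree i hi
    unfold chkConj at h
    simp only [force_eq, Bool.or_eq_true, Bool.and_eq_true] at h
    rcases h with h | ⟨h1, h2, h3⟩
    · rw [Nat.eq_of_beq_eq_true h]
      exact ⟨1, Submonoid.one_mem _, by rw [one_mul, mul_one]⟩
    · have hp : par i < i := by simpa using h1
      have hl : lett i < ng := by simpa using h2
      obtain ⟨m, hm, hmt⟩ := ih _ hp (lt_trans hp hi)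
      have e : toMat (T i) * toMat (gen (lett i)) = toMat (gen (lett i)) * toMat (T (par i)) := by
        rw [← toMat_cmulR, ← toMat_cmulR, Nat.eq_of_beq_eq_true h3]
      refine ⟨toMat (gen (lett i)) * m, Submonoid.mul_mem _
        (Submonoid.subset_closure ⟨lett i, hl, rfl⟩) hm, ?_⟩
      rw [mul_assoc, hmt, ← mul_assoc, ← e, mul_assoc]

/-- The submonoid generated by the two Janko matrices consists of matrices of elements of `J₁`. -/
theorem exists_J1_of_mem {gen : ℕ → ℕ} (h0 : gen 0 = cX) (h1 : gen 1 = cY) {m : M7}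
    (hm : m ∈ genMon gen 2) : ∃ g : J1, ((g : GL (Fin 7) (ZMod 11)) : M7) = m := by
  have h : m ∈ Submonoid.closure
      ((fun u : GL (Fin 7) (ZMod 11) => (u : M7)) '' {jankoX, jankoY}) := by
    refine Submonoid.closure_mono ?_ hm
    rintro _ ⟨l, hl, rfl⟩
    interval_cases l
    · exact ⟨jankoX, by simp, by rw [h0, toMat_cX]; rfl⟩
    · exact ⟨jankoY, by simp, by rw [h1, toMat_cY]; rfl⟩
  obtain ⟨g, hg, hgm⟩ := exists_of_mem_mclosure _ h
  exact ⟨⟨g, hg⟩, hgm⟩

/-- A table of `n` distinct conjugates of `t` bounds the order of the centralizer of `t`. -/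
theorem card_centralizer_mul_le {T : ℕ → ℕ} {n : ℕ} {gen : ℕ → ℕ} {par lett : ℕ → ℕ}
    (h0 : gen 0 = cX) (h1 : gen 1 = cY)
    (htree : allLt n (chkConj T gen 2 par lett) = true)
    (hd : ∀ i < n, ∀ j < n, toMat (T i) = toMat (T j) → i = j)
    (t : J1) (ht : ((t : GL (Fin 7) (ZMod 11)) : M7) = toMat (T 0)) :
    Nat.card (Subgroup.centralizer ({t} : Set J1)) * n ≤ 175560 := by
  have hc := conj_table htree
  have hex : ∀ i : Fin n, ∃ g : J1, ((g : GL (Fin 7) (ZMod 11)) : M7) * toMat (T 0) =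
      toMat (T i) * ((g : GL (Fin 7) (ZMod 11)) : M7) := by
    intro i
    obtain ⟨m, hm, hmt⟩ := hc i i.2
    obtain ⟨g, hg⟩ := exists_J1_of_mem h0 h1 hm
    exact ⟨g, by rw [hg, hmt]⟩
  choose g hg using hex
  -- the conjugate `g i * t * (g i)⁻¹` has matrix `T i`
  have hconj : ∀ i : Fin n, (((g i * t * (g i)⁻¹ : J1) : GL (Fin 7) (ZMod 11)) : M7) =
      toMat (T i) := by
    intro i
    have e1 : ((g i * t * (g i)⁻¹ : J1) : GL (Fin 7) (ZMod 11)) =
        (g i : GL (Fin 7) (ZMod 11)) * (t : GL (Fin 7) (ZMod 11)) *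
          (g i : GL (Fin 7) (ZMod 11))⁻¹ := by
      rw [Subgroup.coe_mul, Subgroup.coe_mul, Subgroup.coe_inv]
    rw [e1, Units.val_mul, Units.val_mul, ht, hg i, mul_assoc, ← Units.val_mul,
      mul_inv_cancel, Units.val_one, mul_one]
  let f : Fin n → J1 ⧸ Subgroup.centralizer ({t} : Set J1) := fun i => QuotientGroup.mk (g i)
  have hf : Function.Injective f := by
    intro i j hij
    have h1 : (g i)⁻¹ * g j ∈ Subgroup.centralizer ({t} : Set J1) := QuotientGroup.eq.mp hij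
    rw [Subgroup.mem_centralizer_singleton_iff] at h1
    have h2 : g i * t * (g i)⁻¹ = g j * t * (g j)⁻¹ := by
      have hgj : g j = g i * ((g i)⁻¹ * g j) := by group
      rw [hgj]
      generalize (g i)⁻¹ * g j = c at h1
      have e : c * t * c⁻¹ = t := by rw [h1, mul_assoc, mul_inv_cancel, mul_one]
      calc g i * t * (g i)⁻¹ = g i * (c * t * c⁻¹) * (g i)⁻¹ := by rw [e]
        _ = g i * c * t * (g i * c)⁻¹ := by group
    apply Fin.ext
    apply hd i i.2 j j.2
    rw [← hconj i, ← hconj j, h2]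
  have h3 : n ≤ (Subgroup.centralizer ({t} : Set J1)).index := by
    rw [Subgroup.index_eq_card]
    have := Nat.card_le_card_of_injective f hf
    rwa [Nat.card_eq_fintype_card, Fintype.card_fin] at this
  calc Nat.card (Subgroup.centralizer ({t} : Set J1)) * n
      ≤ Nat.card (Subgroup.centralizer ({t} : Set J1)) *
          (Subgroup.centralizer ({t} : Set J1)).index := Nat.mul_le_mul_left _ h3
    _ = Nat.card J1 := Subgroup.card_mul_index _
    _ = 175560 := card_J1

/-! ### Permutation actions on five matrices -/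

section Act

variable (N : Fin 5 → M7)

/-- `g` permutes the matrices `N k` by conjugation, through `σ`. -/
def Acts (g : GL (Fin 7) (ZMod 11)) (σ : Equiv.Perm (Fin 5)) : Prop :=
  ∀ k, (g : M7) * N k = N (σ k) * (g : M7)

theorem Acts.one : Acts N 1 1 := fun k => by simp

theorem Acts.mul {g h : GL (Fin 7) (ZMod 11)} {σ τ : Equiv.Perm (Fin 5)} (hg : Acts N g σ)
    (hh : Acts N h τ) : Acts N (g * h) (σ * τ) := by
  intro k
  rw [Units.val_mul, mul_assoc, hh k, ← mul_assoc, hg (τ k), mul_assoc]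
  rfl

theorem Acts.inv {g : GL (Fin 7) (ZMod 11)} {σ : Equiv.Perm (Fin 5)} (hg : Acts N g σ) :
    Acts N g⁻¹ σ⁻¹ := by
  intro k
  have h := hg (σ⁻¹ k)
  rw [← Equiv.Perm.mul_apply, mul_inv_cancel, Equiv.Perm.one_apply] at h
  have h2 : ((g⁻¹ : GL (Fin 7) (ZMod 11)) : M7) * (g : M7) = 1 := by
    rw [← Units.val_mul, inv_mul_cancel, Units.val_one]
  calc ((g⁻¹ : GL (Fin 7) (ZMod 11)) : M7) * N k
      = ((g⁻¹ : GL (Fin 7) (ZMod 11)) : M7) * (N k * (g : M7)) *
          ((g⁻¹ : GL (Fin 7) (ZMod 11)) : M7) := by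
        rw [mul_assoc, mul_assoc, ← Units.val_mul, mul_inv_cancel, Units.val_one, mul_one]
    _ = ((g⁻¹ : GL (Fin 7) (ZMod 11)) : M7) * ((g : M7) * N (σ⁻¹ k)) *
          ((g⁻¹ : GL (Fin 7) (ZMod 11)) : M7) := by rw [h]
    _ = N (σ⁻¹ k) * ((g⁻¹ : GL (Fin 7) (ZMod 11)) : M7) := by
        rw [← mul_assoc, h2, one_mul]

theorem Acts.unique (hN : Function.Injective N) {g : GL (Fin 7) (ZMod 11)}
    {σ τ : Equiv.Perm (Fin 5)} (hg : Acts N g σ) (hg' : Acts N g τ) : σ = τ := by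
  ext k
  have h := (hg k).symm.trans (hg' k)
  have h2 : N (σ k) = N (τ k) := by
    have := congrArg (fun m => m * ((g⁻¹ : GL (Fin 7) (ZMod 11)) : M7)) h
    simpa [mul_assoc, ← Units.val_mul] using this
  exact congrArg Fin.val (hN h2)

theorem exists_acts_of_closure {S : Set (GL (Fin 7) (ZMod 11))}
    (hS : ∀ s ∈ S, ∃ σ, Acts N s σ) :
    ∀ g ∈ Subgroup.closure S, ∃ σ, Acts N g σ := by
  intro g hg
  induction hg using Subgroup.closure_induction with
  | mem x hx => exact hS x hx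
  | one => exact ⟨1, Acts.one N⟩
  | mul x y _ _ hx hy =>
    obtain ⟨σ, hσ⟩ := hx
    obtain ⟨τ, hτ⟩ := hy
    exact ⟨σ * τ, hσ.mul N hτ⟩
  | inv x _ hx =>
    obtain ⟨σ, hσ⟩ := hx
    exact ⟨σ⁻¹, hσ.inv N⟩

/-- The permutation representation of a subgroup permuting the five matrices. -/
noncomputable def actHom (hN : Function.Injective N) (A : Subgroup (GL (Fin 7) (ZMod 11)))
    (hA : ∀ g ∈ A, ∃ σ, Acts N g σ) : A →* Equiv.Perm (Fin 5) where
  toFun a := Classical.choose (hA a a.2)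
  map_one' := Acts.unique N hN (Classical.choose_spec (hA 1 (1 : A).2)) (Acts.one N)
  map_mul' a b := Acts.unique N hN (Classical.choose_spec (hA (a * b) (a * b).2))
    ((Classical.choose_spec (hA a a.2)).mul N (Classical.choose_spec (hA b b.2)))

theorem actHom_spec (hN : Function.Injective N) (A : Subgroup (GL (Fin 7) (ZMod 11)))
    (hA : ∀ g ∈ A, ∃ σ, Acts N g σ) (a : A) : Acts N a (actHom N hN A hA a) :=
  Classical.choose_spec (hA a a.2)

theorem actHom_eq (hN : Function.Injective N) (A : Subgroup (GL (Fin 7) (ZMod 11)))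
    (hA : ∀ g ∈ A, ∃ σ, Acts N g σ) (a : A) {σ : Equiv.Perm (Fin 5)} (h : Acts N a σ) :
    actHom N hN A hA a = σ :=
  Acts.unique N hN (actHom_spec N hN A hA a) h

end Act

end Cfsg.Agent.Lib.Helper90_J1Cent
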