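import Mathlib
import Cfsg.Prelude.Def_Spor_J1

/-!
# Packed arithmetic of 7 × 7 matrices over `ZMod 11` for kernel evaluation (helper90)

A matrix is coded by a natural number with 49 fields of 4 bits (row major).  `cmul` multiplies two
codes; `toMat` decodes.  Everything that is evaluated by the kernel is written with raw `Nat`
operations and strict application.
-/

set_option autoImplicit false

namespace Cfsg.Agent.Lib.Helper90_J1Core

universe u

/-- The matrices. -/
abbrev M7 : Type := Matrix (Fin 7) (Fin 7) (ZMod 11)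

/-- Strict application: evaluates `n` before calling `f` (for kernel evaluation). -/
@[inline] def force {α : Sort u} (n : ℕ) (f : ℕ → α) : α :=
  Nat.rec (motive := fun _ => α) (f (nat_lit 0)) (fun a _ => f a) (Nat.add n (nat_lit 1))

@[simp] theorem force_eq {α : Sort u} (n : ℕ) (f : ℕ → α) : force n f = f n := rfl

/-- The field of four bits at the bit offset `s`. -/
def fld (v s : ℕ) : ℕ := Nat.land (Nat.shiftRight v s) 15

/-- The entry with index `i` (row major) of a code. -/
def ent (a i : ℕ) : ℕ := fld a (Nat.mul 4 i)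

/-- Decoding. -/
def toMat (a : ℕ) : M7 := fun i j => ((ent a (7 * i.val + j.val) : ℕ) : ZMod 11)

/-- Packing of a list of digits (base 16). -/
def packL : List ℕ → ℕ
  | [] => 0
  | x :: l => Nat.add x (Nat.mul 16 (packL l))

/-- Scalar product of the row starting at the bit offset `0` of `ar` with the column starting at
the bit offset `0` of `bj`, reduced. -/
def dot (ar bj : ℕ) : ℕ :=
  Nat.mod
    (Nat.add (Nat.mul (fld ar 0) (fld bj 0))
    (Nat.add (Nat.mul (fld ar 4) (fld bj 28))
    (Nat.add (Nat.mul (fld ar 8) (fld bj 56))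
    (Nat.add (Nat.mul (fld ar 12) (fld bj 84))
    (Nat.add (Nat.mul (fld ar 16) (fld bj 112))
    (Nat.add (Nat.mul (fld ar 20) (fld bj 140))
      (Nat.mul (fld ar 24) (fld bj 168)))))))) 11

/-- The entry with index `n` of the product. -/
def cent (a b n : ℕ) : ℕ :=
  force (Nat.shiftRight a (Nat.mul 28 (Nat.div n 7))) fun ar =>
  force (Nat.shiftRight b (Nat.mul 4 (Nat.mod n 7))) fun bj => dot ar bj

/-- The product of two codes. -/
def cmul (a b : ℕ) : ℕ :=
  force a fun a => force b fun b => packL ((List.range 49).map (cent a b))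

/-- The code of the identity matrix. -/
def cone : ℕ := 0x1000000010000000100000001000000010000000100000001

/-- Unrolled scalar product of a row and a column. -/
def dotR (ar bj : ℕ) : ℕ :=
  (Nat.mod (Nat.add (Nat.mul (Nat.land (Nat.shiftRight ar 0) 15) (Nat.land (Nat.shiftRight bj 0) 15)) (Nat.add (Nat.mul (Nat.land (Nat.shiftRight ar 4) 15) (Nat.land (Nat.shiftRight bj 28) 15)) (Nat.add (Nat.mul (Nat.land (Nat.shiftRight ar 8) 15) (Nat.land (Nat.shiftRight bj 56) 15)) (Nat.add (Nat.mul (Nat.land (Nat.shiftRight ar 12) 15) (Nat.land (Nat.shiftRight bj 84) 15)) (Nat.add (Nat.mul (Nat.land (Nat.shiftRight ar 16) 15) (Nat.land (Nat.shiftRight bj 112) 15)) (Nat.add (Nat.mul (Nat.land (Nat.shiftRight ar 20) 15) (Nat.land (Nat.shiftRight bj 140) 15)) (Nat.mul (Nat.land (Nat.shiftRight ar 24) 15) (Nat.land (Nat.shiftRight bj 168) 15)))))))) 11)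
/-- One row of the product, put in front of the packed remaining rows. -/
def rowR (ar b0 b1 b2 b3 b4 b5 b6 rest : ℕ) : ℕ :=
  Nat.add (dotR ar b0) (Nat.mul 16 (Nat.add (dotR ar b1) (Nat.mul 16 (Nat.add (dotR ar b2) (Nat.mul 16 (Nat.add (dotR ar b3) (Nat.mul 16 (Nat.add (dotR ar b4) (Nat.mul 16 (Nat.add (dotR ar b5) (Nat.mul 16 (Nat.add (dotR ar b6) (Nat.mul 16 rest)))))))))))))
/-- The product of two codes (unrolled, strict). -/
def cmulR (a b : ℕ) : ℕ :=
  force a fun a => force b fun b =>
  force (Nat.shiftRight b 0) fun b0 =>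
  force (Nat.shiftRight b 4) fun b1 =>
  force (Nat.shiftRight b 8) fun b2 =>
  force (Nat.shiftRight b 12) fun b3 =>
  force (Nat.shiftRight b 16) fun b4 =>
  force (Nat.shiftRight b 20) fun b5 =>
  force (Nat.shiftRight b 24) fun b6 =>
  force (Nat.shiftRight a 0) fun a0 => rowR a0 b0 b1 b2 b3 b4 b5 b6 (force (Nat.shiftRight a 28) fun a1 => rowR a1 b0 b1 b2 b3 b4 b5 b6 (force (Nat.shiftRight a 56) fun a2 => rowR a2 b0 b1 b2 b3 b4 b5 b6 (force (Nat.shiftRight a 84) fun a3 => rowR a3 b0 b1 b2 b3 b4 b5 b6 (force (Nat.shiftRight a 112) fun a4 => rowR a4 b0 b1 b2 b3 b4 b5 b6 (force (Nat.shiftRight a 140) fun a5 => rowR a5 b0 b1 b2 b3 b4 b5 b6 (force (Nat.shiftRight a 168) fun a6 => rowR a6 b0 b1 b2 b3 b4 b5 b6 (0)))))))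

theorem cmulR_eq (a b : ℕ) : cmulR a b = cmul a b := rfl


/-! ### Correctness -/

theorem fld_eq (v s : ℕ) : fld v s = v / 2 ^ s % 16 := by
  show (v >>> s) &&& (2 ^ 4 - 1) = _
  rw [Nat.and_two_pow_sub_one_eq_mod, Nat.shiftRight_eq_div_pow]

theorem fld_shiftRight (v s t : ℕ) : fld (Nat.shiftRight v s) t = fld v (s + t) := by
  show ((v >>> s) >>> t) &&& 15 = (v >>> (s + t)) &&& 15
  rw [Nat.shiftRight_add]

theorem fld_lt (v s : ℕ) : fld v s < 16 := by
  rw [fld_eq]; exact Nat.mod_lt _ (by norm_num)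

theorem ent_eq (a i : ℕ) : ent a i = a / 16 ^ i % 16 := by
  unfold ent
  rw [fld_eq]
  show a / 2 ^ (4 * i) % 16 = _
  rw [pow_mul]
  norm_num

theorem ent_packL (L : List ℕ) (hL : ∀ x ∈ L, x < 16) (i : ℕ) :
    ent (packL L) i = L.getD i 0 := by
  induction L generalizing i with
  | nil => simp [packL, ent_eq]
  | cons x L ih =>
    have hx : x < 16 := hL x List.mem_cons_self
    have hL' : ∀ y ∈ L, y < 16 := fun y hy => hL y (List.mem_cons_of_mem _ hy)
    show ent (x + 16 * packL L) i = _
    cases i with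
    | zero =>
      rw [ent_eq]
      simp only [pow_zero, Nat.div_one, List.getD_cons_zero]
      omega
    | succ i =>
      rw [List.getD_cons_succ, ← ih hL' i, ent_eq, ent_eq, pow_succ', ← Nat.div_div_eq_div_mul]
      congr 2
      omega

theorem dot_lt (ar bj : ℕ) : dot ar bj < 16 := by
  unfold dot
  exact lt_of_lt_of_le (Nat.mod_lt _ (by norm_num)) (by norm_num)

theorem cent_lt (a b n : ℕ) : cent a b n < 16 := by
  unfold cent
  simp only [force_eq]
  exact dot_lt _ _

theorem ent_cmul (a b n : ℕ) (hn : n < 49) : ent (cmul a b) n = cent a b n := by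
  unfold cmul
  simp only [force_eq]
  rw [ent_packL]
  · simp [List.getD_eq_getElem?_getD, hn]
  · intro x hx
    obtain ⟨m, _, rfl⟩ := List.mem_map.mp hx
    exact cent_lt a b m

theorem cent_eq (a b i j : ℕ) (hj : j < 7) :
    cent a b (7 * i + j) =
      (ent a (7 * i) * ent b j + (ent a (7 * i + 1) * ent b (7 + j) +
        (ent a (7 * i + 2) * ent b (14 + j) + (ent a (7 * i + 3) * ent b (21 + j) +
        (ent a (7 * i + 4) * ent b (28 + j) + (ent a (7 * i + 5) * ent b (35 + j) +
          ent a (7 * i + 6) * ent b (42 + j))))))) % 11 := by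
  unfold cent
  simp only [force_eq]
  have h1 : Nat.div (7 * i + j) 7 = i := by show (7 * i + j) / 7 = i; omega
  have h2 : Nat.mod (7 * i + j) 7 = j := by show (7 * i + j) % 7 = j; omega
  rw [h1, h2]
  unfold dot ent
  simp only [fld_shiftRight]
  show (_ : ℕ) % 11 = _
  have e : ∀ k, Nat.mul 28 i + k = Nat.mul 4 (7 * i) + k := fun k => by
    show 28 * i + k = 4 * (7 * i) + k; omega
  simp only [Nat.mul_eq, Nat.add_eq] at *
  congr 1
  have a0 : 28 * i + 0 = 4 * (7 * i) := by omega
  have a1 : 28 * i + 4 = 4 * (7 * i + 1) := by omega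
  have a2 : 28 * i + 8 = 4 * (7 * i + 2) := by omega
  have a3 : 28 * i + 12 = 4 * (7 * i + 3) := by omega
  have a4 : 28 * i + 16 = 4 * (7 * i + 4) := by omega
  have a5 : 28 * i + 20 = 4 * (7 * i + 5) := by omega
  have a6 : 28 * i + 24 = 4 * (7 * i + 6) := by omega
  have b0 : 4 * j + 0 = 4 * j := by omega
  have b1 : 4 * j + 28 = 4 * (7 + j) := by omega
  have b2 : 4 * j + 56 = 4 * (14 + j) := by omega
  have b3 : 4 * j + 84 = 4 * (21 + j) := by omega
  have b4 : 4 * j + 112 = 4 * (28 + j) := by omega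
  have b5 : 4 * j + 140 = 4 * (35 + j) := by omega
  have b6 : 4 * j + 168 = 4 * (42 + j) := by omega
  rw [a0, a1, a2, a3, a4, a5, a6, b0, b1, b2, b3, b4, b5, b6]

theorem toMat_cmul (a b : ℕ) : toMat (cmul a b) = toMat a * toMat b := by
  ext i j
  rw [Matrix.mul_apply, Fin.sum_univ_seven]
  unfold toMat
  rw [ent_cmul a b _ (by have := i.2; have := j.2; omega), cent_eq a b i j j.2,
    ZMod.natCast_mod]
  push_cast
  simp only [Fin.val_zero, Fin.val_one, Fin.val_two, mul_zero, zero_add, mul_one, add_zero]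
  have e3 : ((3 : Fin 7) : ℕ) = 3 := rfl
  have e4 : ((4 : Fin 7) : ℕ) = 4 := rfl
  have e5 : ((5 : Fin 7) : ℕ) = 5 := rfl
  have e6 : ((6 : Fin 7) : ℕ) = 6 := rfl
  rw [e3, e4, e5, e6]
  norm_num
  ring

theorem toMat_cmulR (a b : ℕ) : toMat (cmulR a b) = toMat a * toMat b := by
  rw [cmulR_eq, toMat_cmul]

theorem toMat_cone : toMat cone = 1 := by
  ext i j
  fin_cases i <;> fin_cases j <;> rfl


/-! ### Normal forms, for disequalities -/

/-- The code with all entries reduced modulo 11 and the upper bits cleared. -/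
def cnorm (a : ℕ) : ℕ := packL ((List.range 49).map fun n => Nat.mod (ent a n) 11)

theorem cnorm_eq_of_toMat_eq {a b : ℕ} (h : toMat a = toMat b) : cnorm a = cnorm b := by
  unfold cnorm
  congr 1
  apply List.map_congr_left
  intro n hn
  have hn' : n < 49 := List.mem_range.mp hn
  have h1 := congrFun (congrFun h ⟨n / 7, by omega⟩) ⟨n % 7, Nat.mod_lt _ (by norm_num)⟩
  unfold toMat at h1
  simp only [Nat.div_add_mod] at h1
  exact (ZMod.natCast_eq_natCast_iff' _ _ _).mp h1

theorem toMat_ne {a b : ℕ} (h : cnorm a ≠ cnorm b) : toMat a ≠ toMat b :=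
  fun heq => h (cnorm_eq_of_toMat_eq heq)

/-! ### Powers -/

/-- Powers of a code. -/
def cpow (a n : ℕ) : ℕ := Nat.rec (motive := fun _ => ℕ) cone (fun _ r => cmulR r a) n

theorem toMat_cpow (a n : ℕ) : toMat (cpow a n) = toMat a ^ n := by
  induction n with
  | zero => exact toMat_cone
  | succ n ih =>
    show toMat (cmulR (cpow a n) a) = _
    rw [toMat_cmulR, ih, pow_succ]

/-! ### Words in the two Janko matrices -/

/-- Code of `jankoMatrixX`. -/
def cX : ℕ := 0x1100000001000000010000000100000001000000010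
/-- Code of `jankoMatrixY`. -/
def cY : ℕ := 0x13119333119331aa288a8a288a8a288a8aa33131198a8aa28
/-- Code of the transpose of `jankoMatrixX`. -/
def cXi : ℕ := 0x100000001000000010000000100000001000000011000000
/-- Code of the transpose of `jankoMatrixY`. -/
def cYi : ℕ := 0x13aa23831a283a11288181988a3a938a81a33a8a12318aa98

/-- Codes of the letters: `0, 1, 2, 3` for `x, y, x⁻¹, y⁻¹`. -/
def gcode (l : ℕ) : ℕ :=
  Nat.rec (motive := fun _ => ℕ) cX (fun l _ =>
    Nat.rec (motive := fun _ => ℕ) cY (fun l _ =>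
      Nat.rec (motive := fun _ => ℕ) cXi (fun _ _ => cYi) l) l) l

/-- The code of a word, from a starting code. -/
def evalFrom : ℕ → List ℕ → ℕ
  | acc, [] => acc
  | acc, l :: w => evalFrom (cmulR acc (gcode l)) w

/-- The code of a word. -/
def evalW (w : List ℕ) : ℕ := evalFrom cone w

open Cfsg.Spor in
/-- The letters in `GL₇(11)`. -/
noncomputable def glet (l : ℕ) : GL (Fin 7) (ZMod 11) :=
  Nat.rec (motive := fun _ => GL (Fin 7) (ZMod 11)) jankoX (fun l _ =>
    Nat.rec (motive := fun _ => GL (Fin 7) (ZMod 11)) jankoY (fun l _ =>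
      Nat.rec (motive := fun _ => GL (Fin 7) (ZMod 11)) jankoX⁻¹ (fun _ _ => jankoY⁻¹) l) l) l

/-- The value of a word in `GL₇(11)`. -/
noncomputable def evalG (w : List ℕ) : GL (Fin 7) (ZMod 11) := (w.map glet).prod

theorem toMat_cX : toMat cX = Cfsg.jankoMatrixX := by
  ext i j
  fin_cases i <;> fin_cases j <;> rfl

theorem toMat_cY : toMat cY = Cfsg.jankoMatrixY := by
  ext i j
  fin_cases i <;> fin_cases j <;> decide

theorem toMat_cXi : toMat cXi = Cfsg.jankoMatrixX.transpose := by
  ext i j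
  fin_cases i <;> fin_cases j <;> rfl

theorem toMat_cYi : toMat cYi = Cfsg.jankoMatrixY.transpose := by
  ext i j
  fin_cases i <;> fin_cases j <;> decide

theorem toMat_gcode (l : ℕ) : toMat (gcode l) = (glet l : M7) := by
  rcases l with _ | _ | _ | l
  · exact toMat_cX
  · exact toMat_cY
  · exact toMat_cXi
  · exact toMat_cYi

theorem toMat_evalFrom (acc : ℕ) (w : List ℕ) :
    toMat (evalFrom acc w) = toMat acc * (evalG w : M7) := by
  induction w generalizing acc with
  | nil => simp [evalFrom, evalG]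
  | cons l w ih =>
    rw [evalFrom, ih, toMat_cmulR, toMat_gcode]
    simp [evalG, mul_assoc]

theorem toMat_evalW (w : List ℕ) : toMat (evalW w) = (evalG w : M7) := by
  unfold evalW
  rw [toMat_evalFrom, toMat_cone, one_mul]

theorem glet_mem (l : ℕ) : glet l ∈ Cfsg.Spor.J1 := by
  have hx : Cfsg.Spor.jankoX ∈ Cfsg.Spor.J1 := Subgroup.subset_closure (by simp)
  have hy : Cfsg.Spor.jankoY ∈ Cfsg.Spor.J1 := Subgroup.subset_closure (by simp)
  rcases l with _ | _ | _ | l
  · exact hx
  · exact hy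
  · exact Subgroup.inv_mem _ hx
  · exact Subgroup.inv_mem _ hy

theorem evalG_mem (w : List ℕ) : evalG w ∈ Cfsg.Spor.J1 := by
  unfold evalG
  apply Subgroup.list_prod_mem
  intro g hg
  obtain ⟨l, _, rfl⟩ := List.mem_map.mp hg
  exact glet_mem l

theorem evalG_append (u v : List ℕ) : evalG (u ++ v) = evalG u * evalG v := by
  simp [evalG]

/-- Equality of two words in `GL₇(11)` from the equality of their codes. -/
theorem evalG_eq_of_code {u v : List ℕ} (h : evalW u = evalW v) : evalG u = evalG v := by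
  apply Units.ext
  rw [← toMat_evalW, ← toMat_evalW, h]

/-- Disequality of two words in `GL₇(11)` from the disequality of their normal forms. -/
theorem evalG_ne_of_code {u v : List ℕ} (h : cnorm (evalW u) ≠ cnorm (evalW v)) :
    evalG u ≠ evalG v := by
  intro heq
  apply toMat_ne h
  rw [toMat_evalW, toMat_evalW, heq]

end Cfsg.Agent.Lib.Helper90_J1Core
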