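import Cfsg.Agent.Lib.Helper90_J1Data

/-!
# The order of `J₁ = ⟨jankoX, jankoY⟩ ≤ GL₇(11)` is 175560 (helper90)

Upper bound: every element is `K c * B j` (660 · 266 products).  Lower bound: Lagrange, with
elements of orders 3, 5, 7, 11, 19 and an elementary abelian subgroup of order 8.
-/

set_option autoImplicit false

namespace Cfsg.Agent.Lib.Helper90_J1Order

open Cfsg.Agent.Lib.Helper90_J1Core Cfsg.Agent.Lib.Helper90_J1Table
  Cfsg.Agent.Lib.Helper90_J1Data Cfsg.Spor

/-- Every element of `J₁` is a product `K c * B j`. -/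
theorem J1_mem_cosets (g : GL (Fin 7) (ZMod 11)) (hg : g ∈ J1) :
    ∃ c < 660, ∃ j < 266, (g : M7) = toMat (Ktab c) * toMat (Btab j) := by
  have hA1 := mem_table (by norm_num : 0 < 660) K_zero K_closed
  have hA2 := table_mem K_zero K_tree
  apply mem_cosets hA1 hA2 (by norm_num) K_zero (by norm_num) Btab_zero cosets_ok
  have h1 := coe_mem_mclosure _ hg
  refine Submonoid.closure_mono ?_ h1
  rintro _ ⟨u, hu, rfl⟩
  rcases hu with rfl | rfl
  · exact ⟨0, by norm_num, toMat_cX.symm⟩
  · exact ⟨1, by norm_num, toMat_cY.symm⟩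

theorem card_J1_le : Nat.card J1 ≤ 175560 := by
  classical
  obtain ⟨U, hU, hmem⟩ : ∃ U : Finset M7, U.card ≤ 175560 ∧
      ∀ c < 660, ∀ j < 266, toMat (Ktab c) * toMat (Btab j) ∈ U := by
    refine ⟨((Finset.range 660) ×ˢ (Finset.range 266)).image
      (fun p => toMat (Ktab p.1) * toMat (Btab p.2)), ?_, ?_⟩
    · refine le_trans Finset.card_image_le ?_
      rw [Finset.card_product, Finset.card_range, Finset.card_range]
    · intro c hc j hj
      rw [Finset.mem_image]
      exact ⟨(c, j), by rw [Finset.mem_product, Finset.mem_range, Finset.mem_range]; exact ⟨hc, hj⟩,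
        rfl⟩
  let f : J1 → M7 := fun g => ((g : GL (Fin 7) (ZMod 11)) : M7)
  have hf : Function.Injective f := by
    intro a b hab
    exact Subtype.ext (Units.ext hab)
  have hsub : Set.range f ⊆ (U : Set M7) := by
    intro m hm
    obtain ⟨g, rfl⟩ := hm
    obtain ⟨c, hc, j, hj, h⟩ := J1_mem_cosets g g.2
    rw [Finset.mem_coe]
    show ((g : GL (Fin 7) (ZMod 11)) : M7) ∈ U
    rw [h]
    exact hmem c hc j hj
  calc Nat.card J1 = Nat.card (Set.range f) := (Nat.card_range_of_injective hf).symm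
    _ = (Set.range f).ncard := rfl
    _ ≤ (U : Set M7).ncard := Set.ncard_le_ncard hsub (Finset.finite_toSet U)
    _ = U.card := Set.ncard_coe_finset U
    _ ≤ 175560 := hU

/-- The order of the value of a word, from its code. -/
theorem orderOf_evalG {w : List ℕ} {p : ℕ} [hp : Fact p.Prime] (h1 : cpow (evalW w) p = cone)
    (h2 : cnorm (evalW w) ≠ cnorm cone) : orderOf (evalG w) = p := by
  apply orderOf_eq_prime
  · apply Units.ext
    rw [Units.val_pow_eq_pow_val, ← toMat_evalW, ← toMat_cpow, h1, toMat_cone]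
    rfl
  · intro h
    apply toMat_ne h2
    rw [toMat_evalW, h, toMat_cone]
    rfl

/-- The word of an element of order 3. -/
def w3 : List ℕ := [0, 3, 3, 0, 3, 3]
/-- The word of an element of order 11. -/
def w11 : List ℕ := [0, 1, 1]
/-- The word of an element of order 19. -/
def w19 : List ℕ := [0, 3]

theorem pow_w3 : cpow (evalW w3) 3 = cone := by decide +kernel
theorem ne_w3 : cnorm (evalW w3) ≠ cnorm cone := by decide +kernel
theorem pow_w5 : cpow (evalW [1]) 5 = cone := by decide +kernel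
theorem ne_w5 : cnorm (evalW [1]) ≠ cnorm cone := by decide +kernel
theorem pow_w7 : cpow (evalW [0]) 7 = cone := by decide +kernel
theorem ne_w7 : cnorm (evalW [0]) ≠ cnorm cone := by decide +kernel
theorem pow_w11 : cpow (evalW w11) 11 = cone := by decide +kernel
theorem ne_w11 : cnorm (evalW w11) ≠ cnorm cone := by decide +kernel
theorem pow_w19 : cpow (evalW w19) 19 = cone := by decide +kernel
theorem ne_w19 : cnorm (evalW w19) ≠ cnorm cone := by decide +kernel

theorem orderOf_w3 : orderOf (evalG w3) = 3 :=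
  haveI : Fact (Nat.Prime 3) := ⟨by norm_num⟩; orderOf_evalG pow_w3 ne_w3
theorem orderOf_w5 : orderOf (evalG [1]) = 5 :=
  haveI : Fact (Nat.Prime 5) := ⟨by norm_num⟩; orderOf_evalG pow_w5 ne_w5
theorem orderOf_w7 : orderOf (evalG [0]) = 7 :=
  haveI : Fact (Nat.Prime 7) := ⟨by norm_num⟩; orderOf_evalG pow_w7 ne_w7
theorem orderOf_w11 : orderOf (evalG w11) = 11 :=
  haveI : Fact (Nat.Prime 11) := ⟨by norm_num⟩; orderOf_evalG pow_w11 ne_w11
theorem orderOf_w19 : orderOf (evalG w19) = 19 :=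
  haveI : Fact (Nat.Prime 19) := ⟨by norm_num⟩; orderOf_evalG pow_w19 ne_w19

/-- The elementary abelian subgroup `P` of order 8. -/
noncomputable def P8 : Subgroup (GL (Fin 7) (ZMod 11)) := Subgroup.closure (wordSet Pws 3)

theorem card_P8 : Nat.card P8 = 8 :=
  card_closure_table P_gen (by norm_num) P_zero P_closed P_tree P_dist

theorem P8_le : P8 ≤ J1 := wordSet_subset_J1 _ _

theorem card_J1_dvd : 175560 ∣ Nat.card J1 := by
  have h3 : 3 ∣ Nat.card J1 := by
    have h := Subgroup.orderOf_dvd_natCard J1 (evalG_mem w3)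
    rwa [orderOf_w3] at h
  have h5 : 5 ∣ Nat.card J1 := by
    have h := Subgroup.orderOf_dvd_natCard J1 (evalG_mem [1])
    rwa [orderOf_w5] at h
  have h7 : 7 ∣ Nat.card J1 := by
    have h := Subgroup.orderOf_dvd_natCard J1 (evalG_mem [0])
    rwa [orderOf_w7] at h
  have h11 : 11 ∣ Nat.card J1 := by
    have h := Subgroup.orderOf_dvd_natCard J1 (evalG_mem w11)
    rwa [orderOf_w11] at h
  have h19 : 19 ∣ Nat.card J1 := by
    have h := Subgroup.orderOf_dvd_natCard J1 (evalG_mem w19)
    rwa [orderOf_w19] at h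
  have h8 : 8 ∣ Nat.card J1 := by
    have h := Subgroup.card_dvd_of_le P8_le
    rwa [card_P8] at h
  have c1 : 24 ∣ Nat.card J1 := Nat.Coprime.mul_dvd_of_dvd_of_dvd (by norm_num) h8 h3
  have c2 : 120 ∣ Nat.card J1 := Nat.Coprime.mul_dvd_of_dvd_of_dvd (by norm_num) c1 h5
  have c3 : 840 ∣ Nat.card J1 := Nat.Coprime.mul_dvd_of_dvd_of_dvd (by norm_num) c2 h7
  have c4 : 9240 ∣ Nat.card J1 := Nat.Coprime.mul_dvd_of_dvd_of_dvd (by norm_num) c3 h11
  exact Nat.Coprime.mul_dvd_of_dvd_of_dvd (by norm_num) c4 h19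

/-- The order of `J₁`. -/
theorem card_J1 : Nat.card J1 = 175560 :=
  Nat.le_antisymm card_J1_le (Nat.le_of_dvd Nat.card_pos card_J1_dvd)

end Cfsg.Agent.Lib.Helper90_J1Order
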