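import Cfsg.Agent.Lib.Helper90_J1Order

/-!
# `J₁ = ⟨jankoX, jankoY⟩` is simple (helper90)

A normal subgroup whose order is divisible by an odd prime `p` contains all elements of order
`p` (the Sylow `p`-subgroups have order `p`); explicit commutators link every odd prime to `7`
and `7` to `5`, so such a subgroup contains `x` and `y`.  A normal `2`-subgroup lies in the
explicit subgroup `P` of order 8 and in its conjugate under `y`, which meet trivially.
-/

set_option autoImplicit false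

namespace Cfsg.Agent.Lib.Helper90_J1Simple

open Cfsg.Agent.Lib.Helper90_J1Core Cfsg.Agent.Lib.Helper90_J1Table
  Cfsg.Agent.Lib.Helper90_J1Data Cfsg.Agent.Lib.Helper90_J1Order Cfsg.Spor

/-! ### Inverse words -/

/-- The inverse letter. -/
def linv (l : ℕ) : ℕ :=
  Nat.rec (motive := fun _ => ℕ) 2 (fun l _ =>
    Nat.rec (motive := fun _ => ℕ) 3 (fun l _ =>
      Nat.rec (motive := fun _ => ℕ) 0 (fun _ _ => 1) l) l) l

/-- The inverse word. -/
def winv : List ℕ → List ℕ
  | [] => []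
  | l :: w => winv w ++ [linv l]

/-- The commutator word. -/
def wcomm (u h : List ℕ) : List ℕ := u ++ (h ++ (winv u ++ winv h))

theorem glet_linv (l : ℕ) : glet (linv l) = (glet l)⁻¹ := by
  rcases l with _ | _ | _ | l
  · rfl
  · rfl
  · exact (inv_inv _).symm
  · exact (inv_inv _).symm

theorem evalG_cons (l : ℕ) (w : List ℕ) : evalG (l :: w) = glet l * evalG w := by
  simp [evalG]

theorem evalG_winv (w : List ℕ) : evalG (winv w) = (evalG w)⁻¹ := by
  induction w with
  | nil => simp [winv, evalG]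
  | cons l w ih =>
    rw [winv, evalG_append, ih, evalG_cons, evalG_cons, glet_linv, mul_inv_rev]
    simp [evalG]

theorem evalG_wcomm (u h : List ℕ) :
    evalG (wcomm u h) = evalG u * (evalG h * (evalG u)⁻¹ * (evalG h)⁻¹) := by
  unfold wcomm
  rw [evalG_append, evalG_append, evalG_append, evalG_winv, evalG_winv, mul_assoc]

/-- The element of `J₁` given by a word. -/
noncomputable def gw (w : List ℕ) : J1 := ⟨evalG w, evalG_mem w⟩

theorem gw_wcomm (u h : List ℕ) :
    gw (wcomm u h) = gw u * (gw h * (gw u)⁻¹ * (gw h)⁻¹) :=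
  Subtype.ext (evalG_wcomm u h)

theorem orderOf_gw (w : List ℕ) : orderOf (gw w) = orderOf (evalG w) :=
  (Subgroup.orderOf_coe (gw w)).symm

/-! ### Normal subgroups and elements of prime order -/

/-- If `p ∣ |N|` and `p² ∤ |G|` then the normal subgroup `N` contains all `g` with `g ^ p = 1`. -/
theorem mem_of_pow_prime {G : Type*} [Group G] (N : Subgroup G) [N.Normal] {p : ℕ}
    (hp : p.Prime) (hpN : p ∣ Nat.card N) (hp2 : ¬ p ^ 2 ∣ Nat.card G) {g : G}
    (hg : g ^ p = 1) : g ∈ N := by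
  have : Fact p.Prime := ⟨hp⟩
  rw [← QuotientGroup.eq_one_iff (N := N)]
  by_contra hne
  have h1 : (QuotientGroup.mk g : G ⧸ N) ^ p = 1 := by
    rw [← QuotientGroup.mk_pow, hg]
    rfl
  have h2 : orderOf (QuotientGroup.mk g : G ⧸ N) = p := orderOf_eq_prime h1 hne
  have h3 : p ∣ Nat.card (G ⧸ N) := by
    have := orderOf_dvd_natCard (QuotientGroup.mk g : G ⧸ N)
    rwa [h2] at this
  apply hp2
  rw [Subgroup.card_eq_card_quotient_mul_card_subgroup N, pow_two]
  exact Nat.mul_dvd_mul h3 hpN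

theorem mem_of_orderOf {N : Subgroup J1} [N.Normal] {p : ℕ} (hp : p.Prime)
    (hpN : p ∣ Nat.card N) (hp2 : ¬ p ^ 2 ∣ 175560) {w : List ℕ}
    (hw : orderOf (evalG w) = p) : gw w ∈ N := by
  apply mem_of_pow_prime N hp hpN (by rw [card_J1]; exact hp2)
  rw [← hw, ← orderOf_gw]
  exact pow_orderOf_eq_one _

/-- A link: if the value of `u` is in the normal subgroup `N` and the commutator of `u` and `h`
has prime order `q` then `q ∣ |N|`. -/
theorem link {N : Subgroup J1} [hN : N.Normal] {u h : List ℕ} {q : ℕ} (hq : q.Prime)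
    (hu : gw u ∈ N) (h1 : cpow (evalW (wcomm u h)) q = cone)
    (h2 : cnorm (evalW (wcomm u h)) ≠ cnorm cone) : q ∣ Nat.card N := by
  have : Fact q.Prime := ⟨hq⟩
  have hm : gw (wcomm u h) ∈ N := by
    rw [gw_wcomm]
    exact N.mul_mem hu (hN.conj_mem _ (N.inv_mem hu) _)
  have ho : orderOf (gw (wcomm u h)) = q := by
    rw [orderOf_gw]
    exact orderOf_evalG h1 h2
  have := Subgroup.orderOf_dvd_natCard N hm
  rwa [ho] at this

theorem link_3_pow : cpow (evalW (wcomm w3 [0])) 7 = cone := by decide +kernel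
theorem link_3_ne : cnorm (evalW (wcomm w3 [0])) ≠ cnorm cone := by decide +kernel
theorem link_5_pow : cpow (evalW (wcomm [1] [0])) 7 = cone := by decide +kernel
theorem link_5_ne : cnorm (evalW (wcomm [1] [0])) ≠ cnorm cone := by decide +kernel
theorem link_11_pow : cpow (evalW (wcomm w11 [1])) 7 = cone := by decide +kernel
theorem link_11_ne : cnorm (evalW (wcomm w11 [1])) ≠ cnorm cone := by decide +kernel
theorem link_19_pow : cpow (evalW (wcomm w19 [0])) 7 = cone := by decide +kernel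
theorem link_19_ne : cnorm (evalW (wcomm w19 [0])) ≠ cnorm cone := by decide +kernel
theorem link_7_pow : cpow (evalW (wcomm [0] [1, 2, 1])) 5 = cone := by decide +kernel
theorem link_7_ne : cnorm (evalW (wcomm [0] [1, 2, 1])) ≠ cnorm cone := by decide +kernel

theorem eq_top_of_mem {N : Subgroup J1} (hx : gw [0] ∈ N) (hy : gw [1] ∈ N) : N = ⊤ := by
  rw [eq_top_iff]
  have h1 : J1 ≤ N.map J1.subtype := by
    unfold J1
    rw [Subgroup.closure_le]
    rintro g (rfl | rfl)
    · exact ⟨gw [0], hx, by simp [gw, evalG, glet]⟩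
    · exact ⟨gw [1], hy, by simp [gw, evalG, glet]⟩
  rintro ⟨g, hg⟩ _
  obtain ⟨g', hg', e⟩ := h1 hg
  have : g' = ⟨g, hg⟩ := Subtype.ext e
  rwa [this] at hg'

/-- A normal subgroup whose order is divisible by an odd prime divisor of `|J₁|` is `⊤`. -/
theorem eq_top_of_odd {N : Subgroup J1} [N.Normal]
    (h : 3 ∣ Nat.card N ∨ 5 ∣ Nat.card N ∨ 7 ∣ Nat.card N ∨ 11 ∣ Nat.card N ∨
      19 ∣ Nat.card N) : N = ⊤ := by
  have p3 : Nat.Prime 3 := by norm_num
  have p5 : Nat.Prime 5 := by norm_num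
  have p7 : Nat.Prime 7 := by norm_num
  have p11 : Nat.Prime 11 := by norm_num
  have p19 : Nat.Prime 19 := by norm_num
  have h7 : 7 ∣ Nat.card N := by
    rcases h with h | h | h | h | h
    · exact link p7 (mem_of_orderOf p3 h (by norm_num) orderOf_w3) link_3_pow link_3_ne
    · exact link p7 (mem_of_orderOf p5 h (by norm_num) orderOf_w5) link_5_pow link_5_ne
    · exact h
    · exact link p7 (mem_of_orderOf p11 h (by norm_num) orderOf_w11) link_11_pow link_11_ne
    · exact link p7 (mem_of_orderOf p19 h (by norm_num) orderOf_w19) link_19_pow link_19_ne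
  have hx : gw [0] ∈ N := mem_of_orderOf p7 h7 (by norm_num) orderOf_w7
  have h5 : 5 ∣ Nat.card N := link p5 hx link_7_pow link_7_ne
  have hy : gw [1] ∈ N := mem_of_orderOf p5 h5 (by norm_num) orderOf_w5
  exact eq_top_of_mem hx hy

/-! ### Normal 2-subgroups -/

/-- The subgroup `P` inside `J₁`. -/
noncomputable def P8' : Subgroup J1 := P8.subgroupOf J1

theorem card_P8' : Nat.card P8' = 8 := by
  unfold P8'
  rw [Nat.card_congr (Subgroup.subgroupOfEquivOfLe P8_le).toEquiv, card_P8]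

theorem isPGroup_P8' : IsPGroup 2 P8' :=
  IsPGroup.of_card (n := 3) (by rw [card_P8']; norm_num)

theorem card_le_of_isPGroup (Q : Subgroup J1) (hQ : IsPGroup 2 Q) : Nat.card Q ≤ 8 := by
  obtain ⟨k, hk⟩ := hQ.exists_card_eq
  have hdvd : 2 ^ k ∣ 175560 := by
    rw [← hk, ← card_J1]
    exact Subgroup.card_subgroup_dvd_card Q
  have hk3 : k ≤ 3 := by
    by_contra hlt
    have h4 : 2 ^ 4 ∣ 2 ^ k := pow_dvd_pow 2 (by omega)
    have := dvd_trans h4 hdvd
    norm_num at this
  rw [hk]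
  calc 2 ^ k ≤ 2 ^ 3 := Nat.pow_le_pow_right (by norm_num) hk3
    _ = 8 := by norm_num

theorem le_P8' (N : Subgroup J1) [N.Normal] (hN : IsPGroup 2 N) : N ≤ P8' := by
  have h1 : IsPGroup 2 (N ⊔ P8' : Subgroup J1) := IsPGroup.to_sup_of_normal_left hN isPGroup_P8'
  have h2 : Nat.card (N ⊔ P8' : Subgroup J1) ≤ Nat.card P8' := by
    rw [card_P8']
    exact card_le_of_isPGroup _ h1
  have h3 : P8' = N ⊔ P8' := Subgroup.eq_of_le_of_card_ge le_sup_right h2
  rw [h3]
  exact le_sup_left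

/-- No nontrivial element of `P` is conjugated into `P` by `y`. -/
def chkO2 (i : ℕ) : Bool :=
  or (Nat.beq i 0) (allLt 8 fun j =>
    not (Nat.beq (cnorm (cmulR cY (Ptab i))) (cnorm (cmulR (Ptab j) cY))))

theorem O2_ok : allLt 8 chkO2 = true := by decide +kernel

theorem mem_P8'_iff (n : J1) : n ∈ P8' ↔ (n : GL (Fin 7) (ZMod 11)) ∈ P8 := Subgroup.mem_subgroupOf

theorem eq_bot_of_isPGroup (N : Subgroup J1) [hN : N.Normal] (h2 : IsPGroup 2 N) : N = ⊥ := by
  rw [Subgroup.eq_bot_iff_forall]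
  intro n hn
  by_contra hne
  have hle := le_P8' N h2
  have htab := closure_mem_table P_gen (by norm_num : 0 < 8) P_zero P_closed
  obtain ⟨i, hi, hni⟩ := htab _ ((mem_P8'_iff n).mp (hle hn))
  have hconj : gw [1] * n * (gw [1])⁻¹ ∈ N := hN.conj_mem n hn _
  obtain ⟨j, hj, hnj⟩ := htab _ ((mem_P8'_iff _).mp (hle hconj))
  have hy : ((gw [1] : J1) : GL (Fin 7) (ZMod 11)) = jankoY := by simp [gw, evalG, glet]
  have hY : toMat cY = ((jankoY : GL (Fin 7) (ZMod 11)) : M7) := toMat_cY
  have e0' : ((gw [1] * n * (gw [1])⁻¹ : J1) : GL (Fin 7) (ZMod 11)) * jankoY =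
      jankoY * (n : GL (Fin 7) (ZMod 11)) := by
    rw [Subgroup.coe_mul, Subgroup.coe_mul, Subgroup.coe_inv, hy, inv_mul_cancel_right]
  have e0 : (((gw [1] * n * (gw [1])⁻¹ : J1) : GL (Fin 7) (ZMod 11)) : M7) *
      ((jankoY : GL (Fin 7) (ZMod 11)) : M7) =
      ((jankoY : GL (Fin 7) (ZMod 11)) : M7) * ((n : GL (Fin 7) (ZMod 11)) : M7) := by
    rw [← Units.val_mul, ← Units.val_mul, e0']
  have e1 : toMat cY * toMat (Ptab i) = toMat (Ptab j) * toMat cY := by
    rw [hY, ← hni, ← hnj, e0]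
  have hchk := allLt_spec O2_ok i hi
  unfold chkO2 at hchk
  rw [Bool.or_eq_true] at hchk
  rcases hchk with h0 | h0
  · apply hne
    have hi0 : i = 0 := Nat.eq_of_beq_eq_true h0
    rw [hi0, P_zero, toMat_cone] at hni
    exact Subtype.ext (Units.ext hni)
  · have h3 := allLt_spec h0 j hj
    have e2 : cnorm (cmulR cY (Ptab i)) = cnorm (cmulR (Ptab j) cY) := by
      apply cnorm_eq_of_toMat_eq
      rw [toMat_cmulR, toMat_cmulR, e1]
    rw [e2] at h3
    simp at h3

/-! ### Simplicity -/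

theorem isSimpleGroup_J1 : IsSimpleGroup J1 := by
  have : Nontrivial J1 := by
    rw [← Finite.one_lt_card_iff_nontrivial, card_J1]
    norm_num
  refine ⟨fun N hN => ?_⟩
  by_cases h : 3 ∣ Nat.card N ∨ 5 ∣ Nat.card N ∨ 7 ∣ Nat.card N ∨ 11 ∣ Nat.card N ∨
      19 ∣ Nat.card N
  · exact Or.inr (eq_top_of_odd h)
  · left
    push Not at h
    obtain ⟨n3, n5, n7, n11, n19⟩ := h
    have hdvd : Nat.card N ∣ 8 * 21945 := by
      have := Subgroup.card_subgroup_dvd_card N
      rwa [card_J1] at this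
    have hcop : Nat.Coprime (Nat.card N) 21945 := by
      have e : (21945 : ℕ) = 3 * (5 * (7 * (11 * 19))) := by norm_num
      rw [e]
      refine Nat.Coprime.mul_right ?_ (Nat.Coprime.mul_right ?_ (Nat.Coprime.mul_right ?_
        (Nat.Coprime.mul_right ?_ ?_)))
      · exact (Nat.Prime.coprime_iff_not_dvd (by norm_num)).mpr n3 |>.symm
      · exact (Nat.Prime.coprime_iff_not_dvd (by norm_num)).mpr n5 |>.symm
      · exact (Nat.Prime.coprime_iff_not_dvd (by norm_num)).mpr n7 |>.symm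
      · exact (Nat.Prime.coprime_iff_not_dvd (by norm_num)).mpr n11 |>.symm
      · exact (Nat.Prime.coprime_iff_not_dvd (by norm_num)).mpr n19 |>.symm
    have h8 : Nat.card N ∣ 2 ^ 3 := hcop.dvd_of_dvd_mul_right hdvd
    obtain ⟨k, _, hk⟩ := (Nat.dvd_prime_pow Nat.prime_two).mp h8
    exact eq_bot_of_isPGroup N (IsPGroup.of_card hk)

end Cfsg.Agent.Lib.Helper90_J1Simple
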