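import Cfsg.Agent.Lib.Helper90_J1Order

/-!
# The element orders of `J₁ = ⟨jankoX, jankoY⟩ ≤ GL₇(11)` (helper90)

Every element of `J₁` has order in `{1, 2, 3, 5, 6, 7, 10, 11, 15, 19}`, and all these occur.

Every element is `K c * B j` (`K ≅ L₂(11)` of order 660, 266 cosets), each `B j` lies in one of
the five double cosets `K * D i * K`, so every element is conjugate to some `K c' * D i`; the
orders of these `660 · 5` elements are checked by kernel evaluation.
-/

set_option autoImplicit false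

namespace Cfsg.Agent.Lib.Helper90_J1Spec

open Cfsg.Agent.Lib.Helper90_J1Core Cfsg.Agent.Lib.Helper90_J1Table
  Cfsg.Agent.Lib.Helper90_J1Data Cfsg.Agent.Lib.Helper90_J1Order Cfsg.Spor

/-- Index in `Btab` of the representative of the `i`-th double coset of `K`. -/
def Dix (i : ℕ) : ℕ :=
  Nat.rec (motive := fun _ => ℕ) 0 (fun i _ =>
    Nat.rec (motive := fun _ => ℕ) 1 (fun i _ =>
      Nat.rec (motive := fun _ => ℕ) 2 (fun i _ =>
        Nat.rec (motive := fun _ => ℕ) 8 (fun _ _ => 20) i) i) i) i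

/-- The representative of the `i`-th double coset of `K`. -/
def Dtab (i : ℕ) : ℕ := Btab (Dix i)

/-- Packed double coset certificate: `B j = K c₁ * D i * K c₂`. -/
def DCdat : ℕ := 0x4d73794dcf4a1e46b201896c3df1d21f84621e74322c4bc23246e91ce8621c92020043e432a60a0cc0e20cf0ea1903ca1203324acba1176c3a0a4cf910305a002ceb11907241c53a37acb13332621fae59072d211780512f4ad12f731100836329f07207327239c18907723907942109e289246b092572194e6c820141f32ed1da3baf52180f2921d1c951b46912eb9a00c69b0d10421090f24709c23cc9112e6ef935b47905c5710267fc3be90a0213310126aa50b1c902acc20532220120f10e60310093aa02074300ecf3248781028bb102e80125701a31313a0590311f91214ce43203f2f909f34a3bcc320042d9074fca00200216ef02028af2280721038584016ff303c47132f14209ad62506db1390fba43694a2b31213d24720da9f947af0a0069133fcb391eb4322ad2a102a4614c8ce220d00a13880924a1ea258c321c22290d4e4200a65c17078a04c1b407031248b26227cfe218211a38c2a127e17127230a346f9a2a815a31704a3fe6e91200d101cffa19e4011848f238a6a9180c7a01cf6102d12929681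10c29022a0d620ac95911b3f145c69a288da224caa201032c46915145a01203c15211f1a91073521842f952071141a3524c4d520d61c22eaf62006fc927465200402304092105085a00829c3cb0313d803a01ae0408085928a66206f3a21d035201f17112443916098a00b3b94741122f733a13c2314ae3b10431e939a981002b9415f44a37066a1572121fa01a1b012a5171e24331b12ba9913147223d420a3f86f2098cfa2ee94a08cb420d83f10545e91ec4fa05aa0100c9a91eef110568993eb0812e887228b379322f6a0e885907483903a8fa05444243eb5907a7994f88b924f25a114a12068efa1826611f686a0a13211f257a17c9b228ca3152449900aae328542a1004da00a01228c9da12250100930911eb322f89510a29891221122ce11a232d2a2545e135467148e9e10126bc334c7a1c719a11cf924e10610ae3692709c23881a91a2cb107e61915931a1c430200000400e0811cc9f1096b2246e5f239f1724b674934e182004ba20d60713728320026e10000034d04c10be56a014b9945f15218aa39000002000001000000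
/-- The double coset of `B j`. -/
def DCi (j : ℕ) : ℕ := Nat.land (Nat.shiftRight DCdat (Nat.mul 24 j)) 7
/-- The left factor. -/
def DCl (j : ℕ) : ℕ := Nat.land (Nat.shiftRight DCdat (Nat.add (Nat.mul 24 j) 3)) 1023
/-- The right factor. -/
def DCr (j : ℕ) : ℕ := Nat.land (Nat.shiftRight DCdat (Nat.add (Nat.mul 24 j) 13)) 1023

/-- Double coset check at `j`. -/
def chkDC (j : ℕ) : Bool :=
  force (DCi j) fun i => force (DCl j) fun c1 => force (DCr j) fun c2 =>
    and (Nat.blt i 5) (and (Nat.blt c1 660) (and (Nat.blt c2 660)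
      (Nat.beq (Btab j) (cmulR (cmulR (Ktab c1) (Dtab i)) (Ktab c2)))))

set_option maxRecDepth 100000 in
theorem dc_ok : allLt 266 chkDC = true := by decide +kernel

theorem dc_spec {j : ℕ} (hj : j < 266) : ∃ i < 5, ∃ c1 < 660, ∃ c2 < 660,
    toMat (Btab j) = toMat (Ktab c1) * toMat (Dtab i) * toMat (Ktab c2) := by
  have h := allLt_spec dc_ok j hj
  unfold chkDC at h
  simp only [force_eq, Bool.and_eq_true] at h
  obtain ⟨h1, h2, h3, h4⟩ := h
  refine ⟨DCi j, by simpa using h1, DCl j, by simpa using h2, DCr j, by simpa using h3, ?_⟩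
  rw [Nat.eq_of_beq_eq_true h4, toMat_cmulR, toMat_cmulR]

/-- Order check: one of `h ^ 6`, `h ^ 7`, `h ^ 10`, `h ^ 11`, `h ^ 15`, `h ^ 19` is `1`. -/
def chkOrd (h : ℕ) : Bool :=
  force (cmulR h h) fun h2 => force (cmulR h2 h) fun h3 => force (cmulR h3 h2) fun h5 =>
    or (Nat.beq (cmulR h3 h3) cone) (or (Nat.beq (cmulR h5 h2) cone)
      (force (cmulR h5 h5) fun h10 => or (Nat.beq h10 cone) (or (Nat.beq (cmulR h10 h) cone)
        (force (cmulR h10 h5) fun h15 => or (Nat.beq h15 cone)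
          (Nat.beq (cmulR h15 (cmulR h2 h2)) cone)))))

theorem chkOrd_spec {h : ℕ} (hc : chkOrd h = true) :
    ∃ e ∈ ({6, 7, 10, 11, 15, 19} : Finset ℕ), toMat h ^ e = 1 := by
  have e2 : toMat (cmulR h h) = toMat h ^ 2 := by rw [toMat_cmulR, pow_two]
  have e3 : toMat (cmulR (cmulR h h) h) = toMat h ^ 3 := by rw [toMat_cmulR, e2, ← pow_succ]
  have e5 : toMat (cmulR (cmulR (cmulR h h) h) (cmulR h h)) = toMat h ^ 5 := by
    rw [toMat_cmulR, e3, e2, ← pow_add]
  unfold chkOrd at hc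
  simp only [force_eq, Bool.or_eq_true] at hc
  rcases hc with hc | hc | hc | hc | hc | hc
  · refine ⟨6, by decide, ?_⟩
    have := congrArg toMat (Nat.eq_of_beq_eq_true hc)
    rw [toMat_cmulR, e3, ← pow_add, toMat_cone] at this
    exact this
  · refine ⟨7, by decide, ?_⟩
    have := congrArg toMat (Nat.eq_of_beq_eq_true hc)
    rw [toMat_cmulR, e5, e2, ← pow_add, toMat_cone] at this
    exact this
  · refine ⟨10, by decide, ?_⟩
    have := congrArg toMat (Nat.eq_of_beq_eq_true hc)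
    rw [toMat_cmulR, e5, ← pow_add, toMat_cone] at this
    exact this
  · refine ⟨11, by decide, ?_⟩
    have := congrArg toMat (Nat.eq_of_beq_eq_true hc)
    rw [toMat_cmulR, toMat_cmulR, e5, ← pow_add, ← pow_succ, toMat_cone] at this
    exact this
  · refine ⟨15, by decide, ?_⟩
    have := congrArg toMat (Nat.eq_of_beq_eq_true hc)
    rw [toMat_cmulR, toMat_cmulR, e5, ← pow_add, ← pow_add, toMat_cone] at this
    exact this
  · refine ⟨19, by decide, ?_⟩
    have := congrArg toMat (Nat.eq_of_beq_eq_true hc)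
    simp only [toMat_cmulR, toMat_cone] at this
    rw [← this]
    simp only [pow_succ, pow_zero, one_mul, mul_assoc]

set_option maxRecDepth 100000 in
theorem ord_ok : allLt 660 (fun c => allLt 5 fun i => chkOrd (cmulR (Ktab c) (Dtab i))) = true := by
  decide +kernel

theorem mul_pow_succ_swap {M : Type*} [Monoid M] (u v : M) (n : ℕ) :
    (u * v) ^ (n + 1) = u * (v * u) ^ n * v := by
  induction n with
  | zero => simp
  | succ n ih => rw [pow_succ, ih, pow_succ (v * u)]; simp only [mul_assoc]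

/-- Every element of `J₁` is killed by one of the exponents `6, 7, 10, 11, 15, 19`. -/
theorem exists_pow_eq_one (g : GL (Fin 7) (ZMod 11)) (hg : g ∈ J1) :
    ∃ e ∈ ({6, 7, 10, 11, 15, 19} : Finset ℕ), g ^ e = 1 := by
  obtain ⟨c, hc, j, hj, h⟩ := J1_mem_cosets g hg
  obtain ⟨i, hi, c1, hc1, c2, hc2, hB⟩ := dc_spec hj
  have hA1 := mem_table (by norm_num : 0 < 660) K_zero K_closed
  have hA2 := table_mem K_zero K_tree
  obtain ⟨c', hc', h5⟩ := hA1 _ (Submonoid.mul_mem _ (Submonoid.mul_mem _ (hA2 c2 hc2) (hA2 c hc))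
    (hA2 c1 hc1))
  have h6 := allLt_spec (allLt_spec ord_ok c' hc') i hi
  obtain ⟨e, he, h7⟩ := chkOrd_spec h6
  refine ⟨e, he, ?_⟩
  rw [toMat_cmulR] at h7
  have h8 : (g : M7) = (toMat (Ktab c) * toMat (Ktab c1) * toMat (Dtab i)) * toMat (Ktab c2) := by
    rw [h, hB]; simp only [mul_assoc]
  have h9 : toMat (Ktab c2) * (toMat (Ktab c) * toMat (Ktab c1) * toMat (Dtab i)) =
      toMat (Ktab c') * toMat (Dtab i) := by
    rw [← h5]; simp only [mul_assoc]
  have h10 : (g : M7) ^ (e + 1) = (g : M7) := by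
    rw [h8, mul_pow_succ_swap, h9, h7, mul_one]
  have h11 : g ^ (e + 1) = g := by
    apply Units.ext
    rw [Units.val_pow_eq_pow_val]
    exact h10
  have h12 : g ^ e * g = 1 * g := by rw [← pow_succ, h11, one_mul]
  exact mul_right_cancel h12

/-- The set of element orders of `J₁`. -/
def S10 : Finset ℕ := {1, 2, 3, 5, 6, 7, 10, 11, 15, 19}

theorem orderOf_mem_S10 (g : ↥J1) : orderOf g ∈ S10 := by
  obtain ⟨e, he, h⟩ := exists_pow_eq_one (g : GL (Fin 7) (ZMod 11)) g.2
  have h1 : orderOf g ∣ e := by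
    rw [← Subgroup.orderOf_coe]
    exact orderOf_dvd_of_pow_eq_one h
  have h2 : ∀ e ∈ ({6, 7, 10, 11, 15, 19} : Finset ℕ), Nat.divisors e ⊆ S10 := by decide
  have h3 : e ≠ 0 := by
    intro h0; rw [h0] at he; revert he; decide
  exact h2 e he (Nat.mem_divisors.mpr ⟨h1, h3⟩)

/-- The order of the value of a word, for a product of two primes. -/
theorem orderOf_evalG_mul {w : List ℕ} {p q : ℕ} (hp : p.Prime) (hq : q.Prime)
    (h1 : cpow (evalW w) (p * q) = cone) (h2 : cnorm (cpow (evalW w) p) ≠ cnorm cone)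
    (h3 : cnorm (cpow (evalW w) q) ≠ cnorm cone) : orderOf (evalG w) = p * q := by
  have key : ∀ n : ℕ, evalG w ^ n = 1 → toMat (cpow (evalW w) n) = 1 := by
    intro n hn
    rw [toMat_cpow, toMat_evalW, ← Units.val_pow_eq_pow_val, hn]
    rfl
  apply orderOf_eq_of_pow_and_pow_div_prime (Nat.mul_pos hp.pos hq.pos)
  · apply Units.ext
    rw [Units.val_pow_eq_pow_val, ← toMat_evalW, ← toMat_cpow, h1, toMat_cone]
    rfl
  · intro r hr hdvd h
    rcases (Nat.Prime.dvd_mul hr).mp hdvd with hd | hd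
    · rw [(Nat.prime_dvd_prime_iff_eq hr hp).mp hd, Nat.mul_div_cancel_left _ hp.pos] at h
      apply toMat_ne h3
      rw [key _ h, toMat_cone]
    · rw [(Nat.prime_dvd_prime_iff_eq hr hq).mp hd, Nat.mul_div_cancel _ hq.pos] at h
      apply toMat_ne h2
      rw [key _ h, toMat_cone]

theorem pow_w2 : cpow (evalW [0, 1, 0, 3]) 2 = cone := by decide +kernel
theorem ne_w2 : cnorm (evalW [0, 1, 0, 3]) ≠ cnorm cone := by decide +kernel
theorem orderOf_w2 : orderOf (evalG [0, 1, 0, 3]) = 2 :=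
  haveI : Fact (Nat.Prime 2) := ⟨by norm_num⟩; orderOf_evalG pow_w2 ne_w2

theorem pow_w6 : cpow (evalW [0, 3, 3]) (2 * 3) = cone := by decide +kernel
theorem ne_w6a : cnorm (cpow (evalW [0, 3, 3]) 2) ≠ cnorm cone := by decide +kernel
theorem ne_w6b : cnorm (cpow (evalW [0, 3, 3]) 3) ≠ cnorm cone := by decide +kernel
theorem orderOf_w6 : orderOf (evalG [0, 3, 3]) = 6 :=
  orderOf_evalG_mul (by norm_num) (by norm_num) pow_w6 ne_w6a ne_w6b

theorem pow_w10 : cpow (evalW [0, 1]) (2 * 5) = cone := by decide +kernel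
theorem ne_w10a : cnorm (cpow (evalW [0, 1]) 2) ≠ cnorm cone := by decide +kernel
theorem ne_w10b : cnorm (cpow (evalW [0, 1]) 5) ≠ cnorm cone := by decide +kernel
theorem orderOf_w10 : orderOf (evalG [0, 1]) = 10 :=
  orderOf_evalG_mul (by norm_num) (by norm_num) pow_w10 ne_w10a ne_w10b

theorem pow_w15 : cpow (evalW [0, 1, 1, 2, 1, 1]) (3 * 5) = cone := by decide +kernel
theorem ne_w15a : cnorm (cpow (evalW [0, 1, 1, 2, 1, 1]) 3) ≠ cnorm cone := by decide +kernel
theorem ne_w15b : cnorm (cpow (evalW [0, 1, 1, 2, 1, 1]) 5) ≠ cnorm cone := by decide +kernel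
theorem orderOf_w15 : orderOf (evalG [0, 1, 1, 2, 1, 1]) = 15 :=
  orderOf_evalG_mul (by norm_num) (by norm_num) pow_w15 ne_w15a ne_w15b

/-- The element of `J₁` given by a word. -/
noncomputable def gw (w : List ℕ) : ↥J1 := ⟨evalG w, evalG_mem w⟩

theorem orderOf_gw (w : List ℕ) : orderOf (gw w) = orderOf (evalG w) :=
  (Subgroup.orderOf_coe (gw w)).symm

/-- The element orders of `J₁`. -/
theorem range_orderOf_J1 : Set.range (orderOf : ↥J1 → ℕ) = ↑S10 := by
  apply Set.Subset.antisymm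
  · rintro _ ⟨g, rfl⟩
    exact orderOf_mem_S10 g
  · intro n hn
    have hn' : n ∈ S10 := hn
    unfold S10 at hn'
    simp only [Finset.mem_insert, Finset.mem_singleton] at hn'
    rcases hn' with rfl | rfl | rfl | rfl | rfl | rfl | rfl | rfl | rfl | rfl
    · exact ⟨1, orderOf_one⟩
    · exact ⟨gw [0, 1, 0, 3], by rw [orderOf_gw, orderOf_w2]⟩
    · exact ⟨gw w3, by rw [orderOf_gw, orderOf_w3]⟩
    · exact ⟨gw [1], by rw [orderOf_gw, orderOf_w5]⟩
    · exact ⟨gw [0, 3, 3], by rw [orderOf_gw, orderOf_w6]⟩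
    · exact ⟨gw [0], by rw [orderOf_gw, orderOf_w7]⟩
    · exact ⟨gw [0, 1], by rw [orderOf_gw, orderOf_w10]⟩
    · exact ⟨gw w11, by rw [orderOf_gw, orderOf_w11]⟩
    · exact ⟨gw [0, 1, 1, 2, 1, 1], by rw [orderOf_gw, orderOf_w15]⟩
    · exact ⟨gw w19, by rw [orderOf_gw, orderOf_w19]⟩

end Cfsg.Agent.Lib.Helper90_J1Spec
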