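import Cfsg.Agent.Lib.Helper90_J1Core

/-!
# Tables of matrix codes closed under multiplication by generators (helper90)

Generic lemmas: a table of codes closed under right multiplication by the generators contains
the submonoid they generate; a spanning tree shows the converse; a table of coset
representatives over such a table bounds the submonoid generated by further matrices.
All certificates are Boolean functions evaluated by the kernel.
-/

set_option autoImplicit false

namespace Cfsg.Agent.Lib.Helper90_J1Table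

open Cfsg.Agent.Lib.Helper90_J1Core

/-- `f 0 && f 1 && … && f (n - 1)`. -/
def allLt (n : ℕ) (f : ℕ → Bool) : Bool :=
  Nat.rec (motive := fun _ => Bool) true (fun i r => and (f i) r) n

theorem allLt_spec {n : ℕ} {f : ℕ → Bool} (h : allLt n f = true) : ∀ i < n, f i = true := by
  induction n with
  | zero => intro i hi; omega
  | succ n ih =>
    have h' : (f n && allLt n f) = true := h
    rw [Bool.and_eq_true] at h'
    intro i hi
    rcases Nat.lt_succ_iff_lt_or_eq.mp hi with h1 | h1
    · exact ih h'.2 i h1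
    · rw [h1]; exact h'.1

/-- The submonoid of matrices generated by the codes `gen l`, `l < ng`. -/
def genMon (gen : ℕ → ℕ) (ng : ℕ) : Submonoid M7 :=
  Submonoid.closure {m : M7 | ∃ l < ng, m = toMat (gen l)}

/-! ### Closure certificates -/

/-- Closure check at the index `i`: `T i * gen l = T (cl i l)` and `cl i l < n` for `l < ng`. -/
def chkCl (T : ℕ → ℕ) (n : ℕ) (gen : ℕ → ℕ) (ng : ℕ) (cl : ℕ → ℕ → ℕ) (i : ℕ) : Bool :=
  force (T i) fun t => allLt ng fun l => force (cl i l) fun i' =>
    and (Nat.blt i' n) (Nat.beq (cmulR t (gen l)) (T i'))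

theorem chkCl_spec {T : ℕ → ℕ} {n : ℕ} {gen : ℕ → ℕ} {ng : ℕ} {cl : ℕ → ℕ → ℕ} {i : ℕ}
    (h : chkCl T n gen ng cl i = true) :
    ∀ l < ng, cl i l < n ∧ cmulR (T i) (gen l) = T (cl i l) := by
  unfold chkCl at h
  simp only [force_eq] at h
  intro l hl
  have h1 := allLt_spec h l hl
  rw [Bool.and_eq_true] at h1
  exact ⟨by simpa using h1.1, Nat.eq_of_beq_eq_true h1.2⟩

/-- The submonoid generated lies in a table closed under right multiplication. -/
theorem mem_table {T : ℕ → ℕ} {n : ℕ} {gen : ℕ → ℕ} {ng : ℕ} {cl : ℕ → ℕ → ℕ}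
    (hn : 0 < n) (h0 : T 0 = cone) (hcl : allLt n (chkCl T n gen ng cl) = true) :
    ∀ m ∈ genMon gen ng, ∃ i < n, m = toMat (T i) := by
  intro m hm
  unfold genMon at hm
  induction hm using Submonoid.closure_induction_right with
  | one => exact ⟨0, hn, by rw [h0, toMat_cone]⟩
  | mul_right x _ y hy ih =>
    obtain ⟨i, hi, rfl⟩ := ih
    obtain ⟨l, hl, rfl⟩ := hy
    obtain ⟨h1, h2⟩ := chkCl_spec (allLt_spec hcl i hi) l hl
    exact ⟨cl i l, h1, by rw [← h2, toMat_cmulR]⟩

/-! ### Spanning trees -/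

/-- Tree check at the index `i`: `i = 0`, or `T i = T (par i) * gen (lett i)` with `par i < i`. -/
def chkTree (T : ℕ → ℕ) (gen : ℕ → ℕ) (ng : ℕ) (par lett : ℕ → ℕ) (i : ℕ) : Bool :=
  or (Nat.beq i 0)
    (force (par i) fun p => force (lett i) fun l =>
      and (Nat.blt p i) (and (Nat.blt l ng) (Nat.beq (T i) (cmulR (T p) (gen l)))))

theorem table_mem {T : ℕ → ℕ} {n : ℕ} {gen : ℕ → ℕ} {ng : ℕ} {par lett : ℕ → ℕ}
    (h0 : T 0 = cone) (htree : allLt n (chkTree T gen ng par lett) = true) :
    ∀ i < n, toMat (T i) ∈ genMon gen ng := by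
  intro i
  induction i using Nat.strong_induction_on with
  | _ i ih =>
    intro hi
    have h := allLt_spec htree i hi
    unfold chkTree at h
    simp only [force_eq, Bool.or_eq_true, Bool.and_eq_true] at h
    rcases h with h | ⟨h1, h2, h3⟩
    · rw [Nat.eq_of_beq_eq_true h, h0, toMat_cone]
      exact Submonoid.one_mem _
    · have hp : par i < i := by simpa using h1
      have hl : lett i < ng := by simpa using h2
      rw [Nat.eq_of_beq_eq_true h3, toMat_cmulR]
      exact Submonoid.mul_mem _ (ih _ hp (lt_trans hp hi))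
        (Submonoid.subset_closure ⟨lett i, hl, rfl⟩)

/-! ### Coset tables -/

/-- Coset check at `j`: `B j * gen l = K (mc j l) * B (mj j l)` for `l < ng`. -/
def chkCos (K : ℕ → ℕ) (nK : ℕ) (B : ℕ → ℕ) (nB : ℕ) (gen : ℕ → ℕ) (ng : ℕ)
    (mc mj : ℕ → ℕ → ℕ) (j : ℕ) : Bool :=
  force (B j) fun b => allLt ng fun l => force (mc j l) fun c => force (mj j l) fun j' =>
    and (Nat.blt c nK) (and (Nat.blt j' nB) (Nat.beq (cmulR b (gen l)) (cmulR (K c) (B j'))))

theorem chkCos_spec {K : ℕ → ℕ} {nK : ℕ} {B : ℕ → ℕ} {nB : ℕ} {gen : ℕ → ℕ} {ng : ℕ}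
    {mc mj : ℕ → ℕ → ℕ} {j : ℕ} (h : chkCos K nK B nB gen ng mc mj j = true) :
    ∀ l < ng, mc j l < nK ∧ mj j l < nB ∧
      cmulR (B j) (gen l) = cmulR (K (mc j l)) (B (mj j l)) := by
  unfold chkCos at h
  simp only [force_eq] at h
  intro l hl
  have h1 := allLt_spec h l hl
  simp only [Bool.and_eq_true] at h1
  exact ⟨by simpa using h1.1, by simpa using h1.2.1, Nat.eq_of_beq_eq_true h1.2.2⟩

/-- The submonoid generated lies in the product of a multiplicatively closed table and a table
of coset representatives. -/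
theorem mem_cosets {A : Submonoid M7} {K : ℕ → ℕ} {nK : ℕ} {B : ℕ → ℕ} {nB : ℕ}
    {gen : ℕ → ℕ} {ng : ℕ} {mc mj : ℕ → ℕ → ℕ}
    (hK1 : ∀ m ∈ A, ∃ c < nK, m = toMat (K c)) (hK2 : ∀ c < nK, toMat (K c) ∈ A)
    (hnK : 0 < nK) (hK0 : K 0 = cone) (hnB : 0 < nB) (hB0 : B 0 = cone)
    (hcos : allLt nB (chkCos K nK B nB gen ng mc mj) = true) :
    ∀ m ∈ genMon gen ng, ∃ c < nK, ∃ j < nB, m = toMat (K c) * toMat (B j) := by
  intro m hm
  unfold genMon at hm
  induction hm using Submonoid.closure_induction_right with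
  | one => exact ⟨0, hnK, 0, hnB, by rw [hK0, hB0, toMat_cone, one_mul]⟩
  | mul_right x _ y hy ih =>
    obtain ⟨c, hc, j, hj, rfl⟩ := ih
    obtain ⟨l, hl, rfl⟩ := hy
    obtain ⟨h1, h2, h3⟩ := chkCos_spec (allLt_spec hcos j hj) l hl
    have h4 : toMat (B j) * toMat (gen l) = toMat (K (mc j l)) * toMat (B (mj j l)) := by
      rw [← toMat_cmulR, ← toMat_cmulR, h3]
    obtain ⟨c', hc', h5⟩ := hK1 _ (A.mul_mem (hK2 c hc) (hK2 _ h1))
    exact ⟨c', hc', mj j l, h2, by rw [mul_assoc, h4, ← mul_assoc, h5]⟩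

/-! ### From subgroups of `GL₇(11)` to submonoids of matrices -/

theorem coe_mem_mclosure (S : Set (GL (Fin 7) (ZMod 11))) {g : GL (Fin 7) (ZMod 11)}
    (hg : g ∈ Subgroup.closure S) :
    (g : M7) ∈ Submonoid.closure ((fun u : GL (Fin 7) (ZMod 11) => (u : M7)) '' S) := by
  have h1 : g ∈ Submonoid.closure S := by
    rw [← Subgroup.closure_toSubmonoid_of_finite]
    exact hg
  have h2 := Submonoid.mem_map_of_mem (Units.coeHom M7) h1
  rwa [MonoidHom.map_mclosure] at h2


theorem exists_of_mem_mclosure (S : Set (GL (Fin 7) (ZMod 11))) {m : M7}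
    (hm : m ∈ Submonoid.closure ((fun u : GL (Fin 7) (ZMod 11) => (u : M7)) '' S)) :
    ∃ g ∈ Subgroup.closure S, (g : M7) = m := by
  have h1 : Submonoid.closure ((fun u : GL (Fin 7) (ZMod 11) => (u : M7)) '' S) =
      (Submonoid.closure S).map (Units.coeHom M7) :=
    (MonoidHom.map_mclosure (Units.coeHom M7) S).symm
  rw [h1] at hm
  obtain ⟨g, hg, rfl⟩ := hm
  exact ⟨g, Subgroup.le_closure_toSubmonoid S hg, rfl⟩

/-! ### Packed tables -/

/-- The mask of a code. -/
def mask196 : ℕ := 0xfffffffffffffffffffffffffffffffffffffffffffffffff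

/-- The code with index `i` of a packed table. -/
def tabAt (dat i : ℕ) : ℕ := Nat.land (Nat.shiftRight dat (Nat.mul 196 i)) mask196

/-! ### Distinctness -/

/-- Distinctness check at `i`: `T i` is a normal form and differs from all `T j`, `j < i`. -/
def chkDist (T : ℕ → ℕ) (i : ℕ) : Bool :=
  force (T i) fun t => and (Nat.beq (cnorm t) t) (allLt i fun j => not (Nat.beq t (T j)))

theorem chkDist_spec {T : ℕ → ℕ} {n : ℕ} (h : allLt n (chkDist T) = true) :
    ∀ i < n, ∀ j < n, toMat (T i) = toMat (T j) → i = j := by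
  have key : ∀ i < n, ∀ j < i, toMat (T i) ≠ toMat (T j) := by
    intro i hi j hj heq
    have h1 := allLt_spec h i hi
    have h2 := allLt_spec h j (lt_trans hj hi)
    unfold chkDist at h1 h2
    simp only [force_eq, Bool.and_eq_true] at h1 h2
    have h3 := allLt_spec h1.2 j hj
    have e1 := Nat.eq_of_beq_eq_true h1.1
    have e2 := Nat.eq_of_beq_eq_true h2.1
    have e3 := cnorm_eq_of_toMat_eq heq
    rw [e1, e2] at e3
    rw [e3] at h3
    simp at h3
  intro i hi j hj heq
  rcases lt_trichotomy i j with h1 | h1 | h1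
  · exact absurd heq.symm (key j hj i h1)
  · exact h1
  · exact absurd heq (key i hi j h1)

/-! ### Subgroups generated by words -/

/-- The set of the values of the words `ws l`, `l < ng`. -/
def wordSet (ws : ℕ → List ℕ) (ng : ℕ) : Set (GL (Fin 7) (ZMod 11)) :=
  {g | ∃ l < ng, g = evalG (ws l)}

theorem coe_image_wordSet {ws : ℕ → List ℕ} {gen : ℕ → ℕ} {ng : ℕ}
    (hgen : ∀ l < ng, evalW (ws l) = gen l) :
    (fun u : GL (Fin 7) (ZMod 11) => (u : M7)) '' wordSet ws ng =
      {m : M7 | ∃ l < ng, m = toMat (gen l)} := by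
  ext m
  constructor
  · rintro ⟨u, ⟨l, hl, rfl⟩, rfl⟩
    exact ⟨l, hl, by rw [← hgen l hl, toMat_evalW]⟩
  · rintro ⟨l, hl, rfl⟩
    exact ⟨evalG (ws l), ⟨l, hl, rfl⟩, by rw [← hgen l hl, toMat_evalW]⟩

theorem wordSet_subset_J1 (ws : ℕ → List ℕ) (ng : ℕ) :
    Subgroup.closure (wordSet ws ng) ≤ Cfsg.Spor.J1 := by
  rw [Subgroup.closure_le]
  rintro g ⟨l, _, rfl⟩
  exact evalG_mem _

section WordTable

variable {ws : ℕ → List ℕ} {gen : ℕ → ℕ} {ng n : ℕ} {T : ℕ → ℕ} {cl : ℕ → ℕ → ℕ}
  {par lett : ℕ → ℕ}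

/-- Every element of the subgroup generated by the words is in the table. -/
theorem closure_mem_table (hgen : ∀ l < ng, evalW (ws l) = gen l) (hn : 0 < n)
    (h0 : T 0 = cone) (hcl : allLt n (chkCl T n gen ng cl) = true) :
    ∀ g ∈ Subgroup.closure (wordSet ws ng), ∃ i < n, (g : M7) = toMat (T i) := by
  intro g hg
  apply mem_table hn h0 hcl
  have h1 := coe_mem_mclosure _ hg
  rw [coe_image_wordSet hgen] at h1
  exact h1

/-- Every entry of the table is in the subgroup generated by the words. -/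
theorem table_mem_closure (hgen : ∀ l < ng, evalW (ws l) = gen l)
    (h0 : T 0 = cone) (htree : allLt n (chkTree T gen ng par lett) = true) :
    ∀ i < n, ∃ g ∈ Subgroup.closure (wordSet ws ng), (g : M7) = toMat (T i) := by
  intro i hi
  apply exists_of_mem_mclosure
  rw [coe_image_wordSet hgen]
  exact table_mem h0 htree i hi

/-- The order of the subgroup generated by the words. -/
theorem card_closure_table (hgen : ∀ l < ng, evalW (ws l) = gen l) (hn : 0 < n)
    (h0 : T 0 = cone) (hcl : allLt n (chkCl T n gen ng cl) = true)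
    (htree : allLt n (chkTree T gen ng par lett) = true)
    (hdist : allLt n (chkDist T) = true) :
    Nat.card (Subgroup.closure (wordSet ws ng)) = n := by
  have h1 := closure_mem_table hgen hn h0 hcl
  have h2 := table_mem_closure hgen h0 htree
  have h3 := chkDist_spec hdist
  choose! g hg hgT using h2
  let f : Fin n → Subgroup.closure (wordSet ws ng) := fun i => ⟨g i, hg i i.2⟩
  have hf : Function.Bijective f := by
    constructor
    · intro i j hij
      have e : g i = g j := congrArg Subtype.val hij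
      have e2 : toMat (T i) = toMat (T j) := by rw [← hgT i i.2, ← hgT j j.2, e]
      exact Fin.ext (h3 i i.2 j j.2 e2)
    · rintro ⟨u, hu⟩
      obtain ⟨i, hi, hui⟩ := h1 u hu
      refine ⟨⟨i, hi⟩, Subtype.ext (Units.ext ?_)⟩
      show ((g i : GL (Fin 7) (ZMod 11)) : M7) = u
      rw [hgT i hi, hui]
  rw [← Nat.card_eq_of_bijective f hf, Nat.card_eq_fintype_card, Fintype.card_fin]

end WordTable

end Cfsg.Agent.Lib.Helper90_J1Table
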