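import Cfsg.Agent.Lib.Helper90_J2TwinAll
import Cfsg.Agent.Lib.Helper90_AffSpec

/-!
# The group `2⁶ : A₈` with the element orders of `J₂`, and its fibre powers (helper90)

`G = (ZMod 2)⁶ ⋊ C` with `C ≅ A₈` the group of the 20160 matrices of `Helper90_J2TwinData`
(the action of `A₈` on the even-weight vectors of `F₂⁸` modulo the all-ones vector).
Every element of `G` is killed by an exponent in `Om = [1, …, 8, 10, 12, 15]` depending on its
linear part only (`exists_exp`), so the same holds in the fibre powers of `G` over `C`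
(`orderOf_mem_Om`); and `G` has elements of all these orders (`exists_orderOf`).
-/

set_option autoImplicit false

namespace Cfsg.Agent.Lib.Helper90_J2Twin

open Cfsg.Agent.Lib.Helper90_CodeTable Cfsg.Agent.Lib.Helper90_F2Mat
  Cfsg.Agent.Lib.Helper90_J2TwinData Cfsg.Agent.Lib.Helper90_J2TwinAll
  Cfsg.Agent.Lib.Helper90_AffSpec

open Matrix

/-- The matrices. -/
abbrev M6 : Type := Matrix (Fin 6) (Fin 6) (ZMod 2)

/-- Decoding. -/
def toM (a : ℕ) : M6 := toMatF 6 a

theorem m0_eq : m0 = spread 6 (fun _ => true) 6 := by decide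

theorem c1_eq : c1 = spread (6 + 1) (fun _ => true) 6 := by decide

theorem toM_mul (a b : ℕ) : toM (mulF a b) = toM a * toM b :=
  toMatF_cmulF (by norm_num) m0_eq a b

theorem toM_one : toM c1 = 1 := toMatF_one c1_eq

theorem toM_pow (a k : ℕ) : toM (cpowF 6 m0 c1 a k) = toM a ^ k :=
  toMatF_cpowF (by norm_num) m0_eq c1_eq a k

theorem toM_sum (a k : ℕ) : toM (csumF 6 m0 c1 a k) = ∑ i ∈ Finset.range k, toM a ^ i :=
  toMatF_csumF (by norm_num) m0_eq c1_eq a k

/-- The matrices of the table. -/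
def P (A : M6) : Prop := ∃ i < 20160, A = toM (T i)

theorem P_iff (A : M6) : P A ↔ A ∈ genMon toM gen 2 := by
  constructor
  · rintro ⟨i, hi, rfl⟩
    exact table_mem toM_mul toM_one T_zero T_closed (allLt_spec T_tree) i hi
  · intro h
    exact mem_table toM_mul toM_one (by norm_num) T_zero T_closed A h

theorem P_one : P 1 := (P_iff 1).mpr (Submonoid.one_mem _)

theorem P_mul (a b : M6) (ha : P a) (hb : P b) : P (a * b) :=
  (P_iff _).mpr (Submonoid.mul_mem _ ((P_iff a).mp ha) ((P_iff b).mp hb))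

/-- The group `C ≅ A₈` of the 20160 matrices. -/
def C : Subgroup M6ˣ := predSubgroup P P_one P_mul

/-- The group `(ZMod 2)⁶ ⋊ C`. -/
abbrev G : Type := Aff C

instance : Finite G := Finite.of_equiv _ (SemidirectProduct.equivProd
  (φ := (glAct (R := ZMod 2) (n := Fin 6)).comp C.subtype)).symm

theorem two_nsmul_M6 (A : M6) : 2 • A = 0 := by
  ext a b
  rw [two_nsmul]
  exact CharTwo.add_self_eq_zero _

theorem E_spec {i : ℕ} (hi : i < 20160) : 0 < kf i ∧ toM (T i) ^ kf i = 1 ∧
    mf i • (∑ j ∈ Finset.range (kf i), toM (T i) ^ j) = 0 ∧ kf i * mf i ∈ Om := by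
  have h := E_ok i hi
  unfold chkE at h
  simp only [force_eq, Bool.and_eq_true, Bool.or_eq_true] at h
  obtain ⟨h1, h2, h3, h4⟩ := h
  refine ⟨by simpa using h1, ?_, ?_, ?_⟩
  · rw [← toM_pow, Nat.eq_of_beq_eq_true h2, toM_one]
  · rcases h3 with h3 | h3
    · rw [Nat.eq_of_beq_eq_true h3]
      exact two_nsmul_M6 _
    · rw [← toM_sum, Nat.eq_of_beq_eq_true h3]
      show mf i • toMatF 6 0 = 0
      rw [toMatF_zero, smul_zero]
  · exact List.contains_iff_mem.mp h4

/-- Every element of `G` is killed by an exponent in `Om` depending on its linear part only. -/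
theorem exists_exp (c : C) : ∃ e ∈ Om, ∀ x : G, x.right = c → x ^ e = 1 := by
  obtain ⟨i, hi, h⟩ := c.2
  obtain ⟨_, hk, hS, hOm⟩ := E_spec hi
  refine ⟨kf i * mf i, hOm, ?_⟩
  intro x hx
  have hl : lin x = toM (T i) := by
    unfold lin
    rw [hx]
    exact h
  apply pow_eq_one
  · rw [hl, hk]
  · rw [hl, hS]

/-- The exponent of the elements with a given linear part. -/
noncomputable def expo (c : C) : ℕ := Classical.choose (exists_exp c)

theorem expo_mem (c : C) : expo c ∈ Om := (Classical.choose_spec (exists_exp c)).1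

theorem pow_expo (x : G) : x ^ expo (SemidirectProduct.rightHom x) = 1 :=
  (Classical.choose_spec (exists_exp (SemidirectProduct.rightHom x))).2 x rfl

theorem Om_divisors : ∀ e ∈ Om, ∀ d ∈ Nat.divisors e, d ∈ Om := by decide

/-- The element orders of the fibre powers lie in `Om`. -/
theorem orderOf_mem_Om (k : ℕ)
    (f : ↥(FiberPow (SemidirectProduct.rightHom : G →* C) (k + 1))) : orderOf f ∈ Om := by
  have h := fiberPow_pow_eq_one (SemidirectProduct.rightHom : G →* C) k expo pow_expo f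
  have h1 := orderOf_dvd_of_pow_eq_one h
  have h2 := expo_mem (SemidirectProduct.rightHom ((f : Fin (k + 1) → G) 0))
  have h3 : expo (SemidirectProduct.rightHom ((f : Fin (k + 1) → G) 0)) ≠ 0 := by
    intro h0
    rw [h0] at h2
    revert h2
    decide
  exact Om_divisors _ h2 _ (Nat.mem_divisors.mpr ⟨h1, h3⟩)

theorem b2_eq_zero {p : Bool} : b2 p = 0 ↔ p = false := by
  cases p <;> simp [b2]

theorem colZero_spec {s c0 sc : ℕ} (hc0 : c0 < 6) :
    colZero s c0 sc = true ↔
      toM s *ᵥ (Pi.single (⟨c0, hc0⟩ : Fin 6) (b2 (sc.testBit 0))) = 0 := by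
  have key : ∀ r : Fin 6, (toM s *ᵥ (Pi.single (⟨c0, hc0⟩ : Fin 6) (b2 (sc.testBit 0)))) r =
      b2 (s.testBit (6 * r.val + c0) && sc.testBit 0) := by
    intro r
    rw [Matrix.mulVec_single, b2_and]
    rfl
  constructor
  · intro h
    funext r
    rw [key r, Pi.zero_apply, b2_eq_zero]
    have h1 : (!(Nat.testBit s (6 * r.val + c0) && Nat.testBit sc 0)) = true :=
      allLt_spec h r.val r.2
    rw [Bool.not_eq_true'] at h1
    exact h1
  · intro h
    apply allLt_of_forall
    intro r hr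
    have h1 := congrFun h ⟨r, hr⟩
    rw [key, Pi.zero_apply, b2_eq_zero] at h1
    show (!(Nat.testBit s (6 * r + c0) && Nat.testBit sc 0)) = true
    rw [h1]
    rfl

/-- The element of `C` with the matrix `T i`. -/
noncomputable def cOf (i : ℕ) (hi : i < 20160) : C :=
  ⟨Units.ofPowEqOne (toM (T i)) (kf i) (E_spec hi).2.1 (Nat.pos_iff_ne_zero.mp (E_spec hi).1),
    ⟨i, hi, rfl⟩⟩

theorem cOf_val (i : ℕ) (hi : i < 20160) : ((cOf i hi : C) : M6ˣ).val = toM (T i) := rfl

theorem toM_ne {a b : ℕ} (h : Nat.land a mask36 ≠ Nat.land b mask36) : toM a ≠ toM b := by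
  intro h1
  exact h (land_eq_of_toMatF_eq (n := 6) (by norm_num) h1)

/-- Elements of prescribed order, from a witness check. -/
theorem exists_orderOf (i c0 sc d : ℕ) (hi : i < 20160) (hc0 : c0 < 6) (hd : 0 < d)
    (h : chkW (T i) c0 sc d = true) : ∃ x : G, orderOf x = d := by
  let v : Fin 6 → ZMod 2 := Pi.single (⟨c0, hc0⟩ : Fin 6) (b2 (sc.testBit 0))
  let x : G := mk (cOf i hi) v
  have hlin : ∀ j, lin (x ^ j) = toM (cpowF 6 m0 c1 (T i) j) := by
    intro j
    rw [lin_pow, toM_pow]
    rfl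
  have htr : ∀ j, tr (x ^ j) = toM (csumF 6 m0 c1 (T i) j) *ᵥ v := by
    intro j
    rw [tr_pow, toM_sum]
    rfl
  unfold chkW at h
  simp only [Bool.and_eq_true] at h
  obtain ⟨h1, h2, h3⟩ := h
  refine ⟨x, (orderOf_eq_iff hd).mpr ⟨?_, ?_⟩⟩
  · apply ext_lin_tr
    · rw [hlin, Nat.eq_of_beq_eq_true h1, toM_one]
      rfl
    · rw [htr]
      exact (colZero_spec hc0).mp h2
  · intro j hj hj0
    have h4 := allLt_spec h3 j hj
    simp only [Bool.or_eq_true, Bool.not_eq_true'] at h4
    rcases h4 with h4 | h4 | h4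
    · exact absurd (Nat.eq_of_beq_eq_true h4) (Nat.pos_iff_ne_zero.mp hj0)
    · apply ne_one_of_lin
      rw [hlin, ← toM_one]
      apply toM_ne
      intro h5
      rw [h5, Nat.beq_refl] at h4
      exact Bool.noConfusion h4
    · apply ne_one_of_tr
      rw [htr]
      intro h5
      rw [(colZero_spec hc0).mpr h5] at h4
      exact Bool.noConfusion h4

end Cfsg.Agent.Lib.Helper90_J2Twin
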