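import Mathlib
import Cfsg.Agent.Lib.Helper90_CodeTable
import Cfsg.Agent.Lib.Helper90_F2Mat
import Cfsg.Agent.Lib.Helper90_J2TwinData

/-!
# Order check of the table of `A₈`, part 0 (helper90)

Generated by `tools/helper90_j2/emit2.py`.
-/

set_option autoImplicit false
set_option maxRecDepth 100000

namespace Cfsg.Agent.Lib.Helper90_J2TwinE0

open Cfsg.Agent.Lib.Helper90_CodeTable Cfsg.Agent.Lib.Helper90_F2Mat
  Cfsg.Agent.Lib.Helper90_J2TwinData

theorem eT_0 : eChk 0 10080 = true := by decide +kernel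

end Cfsg.Agent.Lib.Helper90_J2TwinE0
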