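import Mathlib
import Cfsg.Agent.Lib.Helper90_CodeTable
import Cfsg.Agent.Lib.Helper90_F2Mat
import Cfsg.Agent.Lib.Helper90_J2TwinData
import Cfsg.Agent.Lib.Helper90_J2TwinCl0
import Cfsg.Agent.Lib.Helper90_J2TwinE0
import Cfsg.Agent.Lib.Helper90_J2TwinE1

/-!
# Checks of the table of `A₈`: all parts (helper90)

Generated by `tools/helper90_j2/emit2.py`.
-/

set_option autoImplicit false
set_option maxRecDepth 100000

namespace Cfsg.Agent.Lib.Helper90_J2TwinAll

open Cfsg.Agent.Lib.Helper90_CodeTable Cfsg.Agent.Lib.Helper90_F2Mat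
  Cfsg.Agent.Lib.Helper90_J2TwinData
  Cfsg.Agent.Lib.Helper90_J2TwinCl0
  Cfsg.Agent.Lib.Helper90_J2TwinE0
  Cfsg.Agent.Lib.Helper90_J2TwinE1

theorem T_closed : ∀ i < 20160, chkCl mulF T 20160 gen 2 cl i = true := by
  intro i hi
  exact allFrom_spec clT_0 i (by omega) (by omega)

theorem E_ok : ∀ i < 20160, chkE i = true := by
  intro i hi
  by_cases h0 : i < 10080
  · exact allFrom_spec eT_0 i (by omega) (by omega)
  exact allFrom_spec eT_1 i (by omega) (by omega)

end Cfsg.Agent.Lib.Helper90_J2TwinAll
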