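import Mathlib

/-!
# The element orders of the symmetric group of degree 8 (helper90)

`range_orderOf : Set.range (orderOf : Perm (Fin 8) → ℕ) = {1, 2, 3, 4, 5, 6, 7, 8, 10, 12, 15}`,
by a search over the cycle types (after the proof of `S2477` for the alternating group of
degree 10).
-/

set_option autoImplicit false

namespace Cfsg.Agent.Lib.Helper90_S8Spec

open Equiv Equiv.Perm

/-- The target set as a Boolean test. -/
def inS (k : ℕ) : Bool :=
  [1, 2, 3, 4, 5, 6, 7, 8, 10, 12, 15].contains k

/-- Search over all ways to add further cycles: `s` is the remaining budget, `L` the lcm so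
far. -/
def ok : ℕ → ℕ → ℕ → Bool
  | 0, _, _ => false
  | f + 1, s, L =>
    inS L && (List.range (s + 1)).all fun a => (a < 2) || ok f (s - a) (Nat.lcm L a)

theorem ok_sound : ∀ (f s L : ℕ), ok f s L = true → ∀ m : Multiset ℕ, (∀ x ∈ m, 2 ≤ x) →
    m.sum ≤ s → inS (Nat.lcm L m.lcm) = true := by
  intro f
  induction f with
  | zero => intro s L h; simp [ok] at h
  | succ f ih =>
    intro s L h m
    rw [ok, Bool.and_eq_true] at h
    obtain ⟨h1, h2⟩ := h
    induction m using Multiset.induction_on with
    | empty =>
      intro _ _
      simp only [Multiset.lcm_zero, Nat.lcm_one_right]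
      exact h1
    | cons a t _ =>
      intro hge hsum
      rw [Multiset.sum_cons] at hsum
      have ha2 : 2 ≤ a := hge a (Multiset.mem_cons_self a t)
      have has : a ≤ s := by omega
      rw [List.all_eq_true] at h2
      have h3 := h2 a (List.mem_range.2 (by omega))
      rcases Bool.or_eq_true_iff.1 h3 with h3 | h3
      · exfalso
        have : a < 2 := by simpa using h3
        omega
      · have := ih (s - a) (Nat.lcm L a) h3 t
          (fun x hx => hge x (Multiset.mem_cons_of_mem hx)) (by omega)
        rw [Multiset.lcm_cons]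
        have e2 : Nat.lcm L (GCDMonoid.lcm a t.lcm) = Nat.lcm (Nat.lcm L a) t.lcm := by
          change Nat.lcm L (Nat.lcm a t.lcm) = _
          rw [Nat.lcm_assoc]
        rw [e2]; exact this

theorem ok_val : ok 6 8 1 = true := by decide +kernel

theorem mem_of_type (m : Multiset ℕ) (hsum : m.sum ≤ 8) (h2 : ∀ a ∈ m, 2 ≤ a) :
    m.lcm ∈ Set.range (orderOf : Perm (Fin 8) → ℕ) := by
  have hex : ∃ g : Perm (Fin 8), g.cycleType = m := by
    rw [Equiv.Perm.exists_with_cycleType_iff]
    exact ⟨by simpa using hsum, h2⟩
  obtain ⟨g, hg⟩ := hex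
  exact ⟨g, by rw [← lcm_cycleType, hg]⟩

/-- The element orders of the symmetric group of degree 8. -/
theorem range_orderOf :
    Set.range (orderOf : Perm (Fin 8) → ℕ) = {1, 2, 3, 4, 5, 6, 7, 8, 10, 12, 15} := by
  apply Set.eq_of_subset_of_subset
  · rintro _ ⟨g, rfl⟩
    have hord : orderOf g = g.cycleType.lcm := by rw [lcm_cycleType]
    have hsum : g.cycleType.sum ≤ 8 := by
      have := sum_cycleType_le g
      simpa using this
    have := ok_sound 6 8 1 ok_val _ (fun x hx => two_le_of_mem_cycleType hx) hsum
    rw [Nat.lcm_one_left, ← hord] at this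
    simp only [inS, List.contains_eq_mem, List.mem_cons, List.not_mem_nil, or_false,
      decide_eq_true_eq] at this
    simpa using this
  · intro k hk
    simp only [Set.mem_insert_iff, Set.mem_singleton_iff] at hk
    rcases hk with rfl | rfl | rfl | rfl | rfl | rfl | rfl | rfl | rfl | rfl | rfl
    · exact ⟨1, orderOf_one⟩
    · exact mem_of_type {2} (by decide) (by decide)
    · exact mem_of_type {3} (by decide) (by decide)
    · exact mem_of_type {4} (by decide) (by decide)
    · exact mem_of_type {5} (by decide) (by decide)
    · exact mem_of_type {3, 2} (by decide) (by decide)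
    · exact mem_of_type {7} (by decide) (by decide)
    · exact mem_of_type {8} (by decide) (by decide)
    · exact mem_of_type {5, 2} (by decide) (by decide)
    · exact mem_of_type {4, 3} (by decide) (by decide)
    · exact mem_of_type {5, 3} (by decide) (by decide)

end Cfsg.Agent.Lib.Helper90_S8Spec
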