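import Mathlib
import Cfsg.Agent.Lib.Helper90_CodeTable
import Cfsg.Agent.Lib.Helper90_J3Core
import Cfsg.Agent.Lib.Helper90_J3DataB

/-!
# Coset check, part 4 (helper90)

Generated by `tools/helper90_j3/emit_lean.py`.
-/

set_option autoImplicit false
set_option maxRecDepth 100000

namespace Cfsg.Agent.Lib.Helper90_J3Cos4

open Cfsg.Agent.Lib.Helper90_CodeTable Cfsg.Agent.Lib.Helper90_J3Core
  Cfsg.Agent.Lib.Helper90_J3DataB

theorem cos_4 : cosChk 11628 2907 = true := by decide +kernel

end Cfsg.Agent.Lib.Helper90_J3Cos4
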