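import Mathlib

/-!
# Permutation representation of a simple group on the cosets of a subgroup (helper90)
-/

set_option autoImplicit false

namespace Cfsg.Agent.Lib.Helper90_PermRep

/-- A simple group with a subgroup `M` of index `n > 1` is isomorphic to a transitive subgroup of
`Perm (Fin n)` in which the stabilizer of `0` has the order of `M`. -/
theorem exists_perm_rep {S : Type*} [Group S] [Finite S] [IsSimpleGroup S] (M : Subgroup S)
    {n : ℕ} [NeZero n] (hn : M.index = n) (hn1 : 1 < n) :
    ∃ H : Subgroup (Equiv.Perm (Fin n)), Nonempty (S ≃* H) ∧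
      MulAction.IsPretransitive H (Fin n) ∧
      Nat.card (MulAction.stabilizer H (0 : Fin n)) = Nat.card M := by
  classical
  -- the cosets
  have hcard : Nat.card (S ⧸ M) = n := hn
  have hfin : Finite (S ⧸ M) := inferInstance
  obtain ⟨ψ⟩ : Nonempty (S ⧸ M ≃ Fin n) := by
    have := Fintype.ofFinite (S ⧸ M)
    exact ⟨Fintype.equivFinOfCardEq (by rw [← Nat.card_eq_fintype_card, hcard])⟩
  let x0 : S ⧸ M := QuotientGroup.mk 1
  let φ : S ⧸ M ≃ Fin n := ψ.trans (Equiv.swap (ψ x0) 0)
  have hφ0 : φ x0 = 0 := by simp [φ]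
  let ρ : S →* Equiv.Perm (Fin n) :=
    (φ.permCongrHom.toMonoidHom).comp (MulAction.toPermHom S (S ⧸ M))
  have hρ : ∀ (s : S) (i : Fin n), ρ s i = φ (s • φ.symm i) := by
    intro s i
    rfl
  have hinj : Function.Injective ρ := by
    rw [← MonoidHom.ker_eq_bot_iff]
    rcases (ρ.normal_ker).eq_bot_or_eq_top with h | h
    · exact h
    · exfalso
      have hM : M = ⊤ := by
        rw [eq_top_iff]
        intro s _
        have hs : s ∈ ρ.ker := by rw [h]; trivial
        have h1 : ρ s 0 = 0 := by rw [MonoidHom.mem_ker.mp hs]; rfl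
        rw [hρ, ← hφ0, Equiv.symm_apply_apply] at h1
        have h2 : s • x0 = x0 := φ.injective h1
        have h3 : (QuotientGroup.mk (s * 1) : S ⧸ M) = QuotientGroup.mk 1 := h2
        rw [mul_one, QuotientGroup.eq] at h3
        simpa using M.inv_mem h3
      rw [hM, Subgroup.index_top] at hn
      omega
  let e : S ≃* ρ.range := MonoidHom.ofInjective hinj
  refine ⟨ρ.range, ⟨e⟩, ?_, ?_⟩
  · constructor
    intro i j
    obtain ⟨a, ha⟩ := QuotientGroup.mk_surjective (φ.symm i)
    obtain ⟨b, hb⟩ := QuotientGroup.mk_surjective (φ.symm j)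
    refine ⟨⟨ρ (b * a⁻¹), ⟨_, rfl⟩⟩, ?_⟩
    show ρ (b * a⁻¹) i = j
    rw [hρ, ← ha]
    have : (b * a⁻¹) • (QuotientGroup.mk a : S ⧸ M) = QuotientGroup.mk b := by
      show (QuotientGroup.mk (b * a⁻¹ * a) : S ⧸ M) = _
      rw [inv_mul_cancel_right]
    rw [this, hb, Equiv.apply_symm_apply]
  · -- the stabilizer of `0` is the image of `M`
    have hstab : MulAction.stabilizer ρ.range (0 : Fin n) = M.map e.toMonoidHom := by
      ext h
      obtain ⟨s, rfl⟩ := e.surjective h
      rw [MulAction.mem_stabilizer_iff]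
      constructor
      · intro h1
        have h1' : ρ s 0 = 0 := h1
        rw [hρ, ← hφ0, Equiv.symm_apply_apply] at h1'
        have h2 : s • x0 = x0 := φ.injective h1'
        have h3 : (QuotientGroup.mk (s * 1) : S ⧸ M) = QuotientGroup.mk 1 := h2
        rw [mul_one, QuotientGroup.eq] at h3
        have hs : s ∈ M := by simpa using M.inv_mem h3
        exact ⟨s, hs, rfl⟩
      · rintro ⟨s', hs', h1⟩
        have : s' = s := e.injective h1
        subst this
        show ρ s' 0 = 0
        rw [hρ, ← hφ0, Equiv.symm_apply_apply]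
        congr 1
        show (QuotientGroup.mk (s' * 1) : S ⧸ M) = QuotientGroup.mk 1
        rw [mul_one, QuotientGroup.eq]
        simpa using M.inv_mem hs'
    rw [hstab]
    exact Nat.card_congr (e.subgroupMap M).symm.toEquiv

end Cfsg.Agent.Lib.Helper90_PermRep
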