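import Mathlib
import Cfsg.Prelude.Def_Spor_J3
import Cfsg.Agent.Lib.Helper90_CodeTable
import Cfsg.Agent.Lib.Helper90_CodeSorted
import Cfsg.Agent.Lib.Helper90_PermRep
import Cfsg.Agent.Lib.Helper90_J3Core
import Cfsg.Agent.Lib.Helper90_J3Gens
import Cfsg.Agent.Lib.Helper90_J3Group
import Cfsg.Agent.Lib.Helper90_J3DataP
import Cfsg.Agent.Lib.Helper90_J3Order
import Cfsg.Agent.Lib.Helper90_J3Simple
import Cfsg.Agent.Lib.Helper90_J3Center
import Cfsg.Agent.Lib.Helper90_J3DataL
import Cfsg.Agent.Lib.Helper90_J3LCl0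
import Cfsg.Agent.Lib.Helper90_J3LCl1
import Cfsg.Agent.Lib.Helper90_J3LCl2
import Cfsg.Agent.Lib.Helper90_J3LCl3

/-!
# `J₃` on the 6156 cosets of `L₂(16):2` (helper90)

The subgroup `L = 3 × L₂(16):2` of `3·J₃` (a table of 24480 codes) contains the centre, so its
image in `J₃` has index 6156 and order 8160; `J₃` is simple, so it acts faithfully on the cosets.
-/

set_option autoImplicit false

namespace Cfsg.Agent.Lib.Helper90_J3Perm

open Cfsg.Spor Cfsg.Agent.Lib.Helper90_CodeTable Cfsg.Agent.Lib.Helper90_CodeSorted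
  Cfsg.Agent.Lib.Helper90_J3Core Cfsg.Agent.Lib.Helper90_J3Gens Cfsg.Agent.Lib.Helper90_J3Group
  Cfsg.Agent.Lib.Helper90_J3DataP Cfsg.Agent.Lib.Helper90_J3Order
  Cfsg.Agent.Lib.Helper90_J3Simple Cfsg.Agent.Lib.Helper90_J3Center
  Cfsg.Agent.Lib.Helper90_J3DataL Cfsg.Agent.Lib.Helper90_J3LCl0 Cfsg.Agent.Lib.Helper90_J3LCl1
  Cfsg.Agent.Lib.Helper90_J3LCl2 Cfsg.Agent.Lib.Helper90_J3LCl3
  Cfsg.Agent.Lib.Helper90_PermRep

theorem L_closed : ∀ i < 24480, chkCl cmulR Ltab 24480 genL 3 ClL i = true := by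
  intro i hi
  by_cases h0 : i < 6120
  · exact allFrom_spec clL_0 i (by omega) (by omega)
  by_cases h1 : i < 12240
  · exact allFrom_spec clL_1 i (by omega) (by omega)
  by_cases h2 : i < 18360
  · exact allFrom_spec clL_2 i (by omega) (by omega)
  · exact allFrom_spec clL_3 i (by omega) (by omega)

theorem L_closed_all : allLt 24480 (chkCl cmulR Ltab 24480 genL 3 ClL) = true :=
  allLt_of_forall L_closed

theorem L_gen' : ∀ l < 3, evalW (wsL l) = genL l := fun l hl => L_gen ⟨l, hl⟩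

theorem genL_two : genL 2 = cw := by decide +kernel

variable {F : Type*} [Field F] {ω : F}

section Table

variable (h2 : (2 : F) = 0) (hω : ω ^ 2 + ω + 1 = 0)

/-- The order of the subgroup generated by words, from a table with pairwise distinct entries. -/
theorem card_closure_table' [Finite F] {ws : ℕ → List ℕ} {gen' : ℕ → ℕ} {ng n : ℕ} {T : ℕ → ℕ}
    {cl : ℕ → ℕ → ℕ} {par lett : ℕ → ℕ}
    (hgen : ∀ l < ng, evalW (ws l) = gen' l) (hn : 0 < n)
    (h0 : T 0 = cone) (hcl : allLt n (chkCl cmulR T n gen' ng cl) = true)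
    (htree : allLt n (chkTree ng cl par lett) = true)
    (h3 : ∀ i < n, ∀ j < n, toMat F ω (T i) = toMat F ω (T j) → i = j) :
    Nat.card (Subgroup.closure (wordSet h2 hω ws ng)) = n := by
  have h1 := closure_mem_table h2 hω hgen hn h0 hcl
  have h3' := table_mem_closure h2 hω hgen h0 hcl htree
  choose! g hg hgT using h3'
  let f : Fin n → Subgroup.closure (wordSet h2 hω ws ng) := fun i => ⟨g i, hg i i.2⟩
  have hf : Function.Bijective f := by
    constructor
    · intro i j hij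
      have e : g i = g j := congrArg Subtype.val hij
      have e2 : toMat F ω (T i) = toMat F ω (T j) := by rw [← hgT i i.2, ← hgT j j.2, e]
      exact Fin.ext (h3 i i.2 j j.2 e2)
    · rintro ⟨u, hu⟩
      obtain ⟨i, hi, hui⟩ := h1 u hu
      refine ⟨⟨i, hi⟩, Subtype.ext (Units.ext ?_)⟩
      show ((g i : GL F9 F) : M9 F) = u
      rw [hgT i hi, hui]
  rw [← Nat.card_eq_of_bijective f hf, Nat.card_eq_fintype_card, Fintype.card_fin]

/-- The subgroup `L = 3 × L₂(16):2` of `GL₉(F)`. -/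
def Lgrp : Subgroup (GL F9 F) := Subgroup.closure (wordSet h2 hω wsL 3)

theorem card_Lgrp [Finite F] : Nat.card (Lgrp h2 hω) = 24480 :=
  card_closure_table' h2 hω L_gen' (by norm_num) L_zero L_closed_all L_tree_all
    (sorted_spec (toM := toMat F ω) (fun a b => cnorm_eq_of_toMat_eq h2 hω) L_sorted_all)

theorem Lgrp_le : Lgrp h2 hω ≤ threeJ3 F ω := wordSet_le h2 hω _ _

/-- `L` as a subgroup of `3·J₃`. -/
def Lsub : Subgroup (threeJ3 F ω) := (Lgrp h2 hω).subgroupOf (threeJ3 F ω)

theorem card_Lsub [Finite F] : Nat.card (Lsub h2 hω) = 24480 := by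
  unfold Lsub
  rw [Nat.card_congr (Subgroup.subgroupOfEquivOfLe (Lgrp_le h2 hω)).toEquiv, card_Lgrp]

end Table

section Perm

variable [Fintype F] (hF : Fintype.card F = 4) (hω : ω ^ 2 + ω + 1 = 0)

include hF hω

/-- The centre of `3·J₃` lies in `L`. -/
theorem center_le_Lsub : Subgroup.center (threeJ3 F ω) ≤ Lsub (two_eq_zero hF) hω := by
  have h2 := two_eq_zero hF
  -- the scalar `ω` as an element of `L`
  have hzL : evalG h2 hω (wsL 2) ∈ Lgrp h2 hω :=
    Subgroup.subset_closure ⟨2, by norm_num, rfl⟩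
  have hz : ((evalG h2 hω (wsL 2) : GL F9 F) : M9 F) = Matrix.diagonal fun _ => ω := by
    rw [← toMat_evalW h2 hω, L_gen' 2 (by norm_num), genL_two, toMat_cw]
  intro g hg
  show (g : GL F9 F) ∈ Lgrp h2 hω
  have hg' := coe_central h2 hω g hg
  have ha0 : ((g : GL F9 F) : M9 F) 0 0 ≠ 0 := by
    intro h0
    have h1 : ((g : GL F9 F) : M9 F) * (((g : GL F9 F)⁻¹ : GL F9 F) : M9 F) = 1 := by
      rw [← Units.val_mul, mul_inv_cancel]
      rfl
    rw [hg', h0] at h1
    have := congrFun (congrFun h1 0) 0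
    rw [Matrix.diagonal_mul, zero_mul, Matrix.one_apply_eq] at this
    exact zero_ne_one this
  rcases eq_of_ne_zero hF hω ha0 with h | h | h
  · have : (g : GL F9 F) = 1 := by
      apply Units.ext
      rw [hg', h, Matrix.diagonal_one]
      rfl
    rw [this]
    exact Subgroup.one_mem _
  · have : (g : GL F9 F) = evalG h2 hω (wsL 2) := by
      apply Units.ext
      rw [hg', h, hz]
    rw [this]
    exact hzL
  · have : (g : GL F9 F) = evalG h2 hω (wsL 2) ^ 2 := by
      apply Units.ext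
      rw [Units.val_pow_eq_pow_val, hz, Matrix.diagonal_pow, hg', h]
      rfl
    rw [this]
    exact Subgroup.pow_mem _ hzL 2

theorem index_Lsub : (Lsub (two_eq_zero hF) hω).index = 6156 := by
  have h2 := two_eq_zero hF
  have h := Subgroup.card_mul_index (Lsub h2 hω)
  rw [card_Lsub h2 hω, card_threeJ3 h2 hω] at h
  omega

/-- The image of `L` in `J₃`. -/
def Lbar : Subgroup (J3 F ω) :=
  (Lsub (two_eq_zero hF) hω).map (QuotientGroup.mk' (Subgroup.center (threeJ3 F ω)))

theorem index_Lbar : (Lbar hF hω).index = 6156 := by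
  unfold Lbar
  rw [Subgroup.index_map_eq _ (QuotientGroup.mk'_surjective _), index_Lsub hF hω]
  rw [QuotientGroup.ker_mk']
  exact center_le_Lsub hF hω

theorem card_Lbar : Nat.card (Lbar hF hω) = 8160 := by
  have h := Subgroup.card_mul_index (Lbar hF hω)
  rw [index_Lbar hF hω, card_J3 hF hω] at h
  omega

/-- `J₃` as a transitive permutation group of degree 6156 with point stabilizer of order 8160. -/
theorem exists_perm_J3 : ∃ H : Subgroup (Equiv.Perm (Fin 6156)),
    (IsSimpleGroup H ∧ Nat.card H = 50232960) ∧ MulAction.IsPretransitive H (Fin 6156) ∧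
      Nat.card (MulAction.stabilizer H (0 : Fin 6156)) = 8160 := by
  have : IsSimpleGroup (J3 F ω) := isSimpleGroup_J3 hF hω
  obtain ⟨H, ⟨e⟩, h1, h3⟩ := exists_perm_rep (Lbar hF hω) (index_Lbar hF hω) (by norm_num)
  refine ⟨H, ⟨e.symm.isSimpleGroup, ?_⟩, h1, ?_⟩
  · rw [← Nat.card_congr e.toEquiv]
    exact card_J3 hF hω
  · rw [h3]
    exact card_Lbar hF hω

end Perm

end Cfsg.Agent.Lib.Helper90_J3Perm
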