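import Mathlib
import Cfsg.Agent.Lib.Helper90_CodeTable

/-!
# Packed arithmetic of `n × n` matrices over `ZMod m` for kernel evaluation (helper90)

A matrix is coded by a natural number with `n * n` fields of 8 bits (row major), `m ≤ 256`.
`cmul`, `cadd` multiply and add codes, `toMat` decodes.  Generic in `n` and `m`; written with raw
`Nat` operations so that the kernel evaluates it quickly.
-/

set_option autoImplicit false

namespace Cfsg.Agent.Lib.Helper90_ModMat

open Cfsg.Agent.Lib.Helper90_CodeTable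

/-- The entry with index `i` of a code. -/
def ent (a i : ℕ) : ℕ := Nat.land (Nat.shiftRight a (Nat.mul 8 i)) 255

theorem ent_eq (a i : ℕ) : ent a i = a / 256 ^ i % 256 := by
  unfold ent
  show (a >>> (8 * i)) &&& (2 ^ 8 - 1) = _
  rw [Nat.and_two_pow_sub_one_eq_mod, Nat.shiftRight_eq_div_pow, pow_mul]
  norm_num

theorem ent_lt (a i : ℕ) : ent a i < 256 := by
  rw [ent_eq]; exact Nat.mod_lt _ (by norm_num)

/-- Packing of a list of digits (base 256). -/
def packL : List ℕ → ℕ
  | [] => 0
  | x :: l => Nat.add x (Nat.mul 256 (packL l))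

theorem ent_packL (L : List ℕ) (hL : ∀ x ∈ L, x < 256) (i : ℕ) :
    ent (packL L) i = L.getD i 0 := by
  induction L generalizing i with
  | nil => simp [packL, ent_eq]
  | cons x L ih =>
    have hx : x < 256 := hL x List.mem_cons_self
    have hL' : ∀ y ∈ L, y < 256 := fun y hy => hL y (List.mem_cons_of_mem _ hy)
    show ent (x + 256 * packL L) i = _
    cases i with
    | zero =>
      rw [ent_eq]
      simp only [pow_zero, Nat.div_one, List.getD_cons_zero]
      omega
    | succ i =>
      rw [List.getD_cons_succ, ← ih hL' i, ent_eq, ent_eq, pow_succ', ← Nat.div_div_eq_div_mul]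
      congr 2
      omega

theorem ent_packL_map (N : ℕ) (f : ℕ → ℕ) (hf : ∀ i, f i < 256) {i : ℕ} (hi : i < N) :
    ent (packL ((List.range N).map f)) i = f i := by
  rw [ent_packL]
  · simp [List.getD_eq_getElem?_getD, hi]
  · intro x hx
    obtain ⟨k, _, rfl⟩ := List.mem_map.mp hx
    exact hf k

section

variable (n m : ℕ)

/-- Decoding. -/
def toMat (a : ℕ) : Matrix (Fin n) (Fin n) (ZMod m) :=
  fun i j => ((ent a (n * i.val + j.val) : ℕ) : ZMod m)

/-- `∑ k < n, a[ai + k] * b[n * k + j]`. -/
def dot (a b ai j : ℕ) : ℕ :=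
  Nat.rec (motive := fun _ => ℕ) 0
    (fun k r => Nat.add r (Nat.mul (ent a (Nat.add ai k)) (ent b (Nat.add (Nat.mul n k) j)))) n

/-- The entry with index `idx` of the product. -/
def cent (a b idx : ℕ) : ℕ :=
  Nat.mod (dot n a b (Nat.mul n (Nat.div idx n)) (Nat.mod idx n)) m

/-- The product of two codes. -/
def cmul (a b : ℕ) : ℕ :=
  force a fun a => force b fun b => packL ((List.range (Nat.mul n n)).map (cent n m a b))

/-- The sum of two codes. -/
def cadd (a b : ℕ) : ℕ :=
  force a fun a => force b fun b =>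
    packL ((List.range (Nat.mul n n)).map fun idx => Nat.mod (Nat.add (ent a idx) (ent b idx)) m)

/-- The code of the identity matrix. -/
def cone : ℕ :=
  packL ((List.range (Nat.mul n n)).map fun idx =>
    cond (Nat.beq (Nat.div idx n) (Nat.mod idx n)) 1 0)

/-- The code with all entries reduced and the upper bits cleared. -/
def cnorm (a : ℕ) : ℕ := packL ((List.range (Nat.mul n n)).map fun idx => Nat.mod (ent a idx) m)

/-- Powers of a code. -/
def cpow (a k : ℕ) : ℕ := Nat.rec (motive := fun _ => ℕ) (cone n) (fun _ r => cmul n m r a) k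

/-- `1 + a + ⋯ + a ^ (k - 1)`. -/
def csum (a k : ℕ) : ℕ :=
  Nat.rec (motive := fun _ => ℕ) 0 (fun _ r => cadd n m (cmul n m r a) (cone n)) k

/-- `k • a`. -/
def csmul (k a : ℕ) : ℕ := Nat.rec (motive := fun _ => ℕ) 0 (fun _ r => cadd n m r a) k

variable {n m}

theorem idx_lt {i j : ℕ} (hi : i < n) (hj : j < n) : n * i + j < n * n := by
  have h1 : n * i + n ≤ n * n := by
    have : n * (i + 1) ≤ n * n := Nat.mul_le_mul_left n hi
    rwa [Nat.mul_add, Nat.mul_one] at this
  omega

theorem idx_div {i j : ℕ} (hj : j < n) : (n * i + j) / n = i := by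
  have hn : 0 < n := by omega
  rw [Nat.add_comm, Nat.add_mul_div_left _ _ hn, Nat.div_eq_of_lt hj, Nat.zero_add]

theorem idx_mod {i j : ℕ} (hj : j < n) : (n * i + j) % n = j := by
  rw [Nat.add_comm, Nat.add_mul_mod_self_left, Nat.mod_eq_of_lt hj]

theorem dot_aux (a b ai j N : ℕ) :
    Nat.rec (motive := fun _ => ℕ) 0
      (fun k r => Nat.add r (Nat.mul (ent a (Nat.add ai k)) (ent b (Nat.add (Nat.mul n k) j)))) N =
      ∑ k ∈ Finset.range N, ent a (ai + k) * ent b (n * k + j) := by
  induction N with
  | zero => simp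
  | succ N ih =>
    rw [Finset.sum_range_succ, ← ih]
    rfl

theorem dot_eq (a b ai j : ℕ) :
    dot n a b ai j = ∑ k ∈ Finset.range n, ent a (ai + k) * ent b (n * k + j) :=
  dot_aux a b ai j n

theorem toMat_cmul (hm0 : 0 < m) (hm : m ≤ 256) (a b : ℕ) :
    toMat n m (cmul n m a b) = toMat n m a * toMat n m b := by
  ext i j
  rw [Matrix.mul_apply]
  unfold toMat cmul
  simp only [force_eq]
  have hidx : n * i.val + j.val < Nat.mul n n := idx_lt i.2 j.2
  rw [ent_packL_map _ _ _ hidx]
  · unfold cent
    have h1 : Nat.div (n * i.val + j.val) n = i.val := idx_div j.2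
    have h2 : Nat.mod (n * i.val + j.val) n = j.val := idx_mod j.2
    rw [h1, h2, dot_eq]
    show ((((∑ k ∈ Finset.range n, ent a (n * i.val + k) * ent b (n * k + j.val)) % m : ℕ)) :
      ZMod m) = _
    rw [ZMod.natCast_mod, Nat.cast_sum, Finset.sum_range]
    apply Finset.sum_congr rfl
    intro k _
    rw [Nat.cast_mul]
  · intro idx
    unfold cent
    exact lt_of_lt_of_le (Nat.mod_lt _ hm0) hm

theorem toMat_cadd (hm0 : 0 < m) (hm : m ≤ 256) (a b : ℕ) :
    toMat n m (cadd n m a b) = toMat n m a + toMat n m b := by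
  ext i j
  rw [Matrix.add_apply]
  unfold toMat cadd
  simp only [force_eq]
  have hidx : n * i.val + j.val < Nat.mul n n := idx_lt i.2 j.2
  rw [ent_packL_map _ _ _ hidx]
  · show (((ent a (n * i.val + j.val) + ent b (n * i.val + j.val)) % m : ℕ) : ZMod m) = _
    rw [ZMod.natCast_mod, Nat.cast_add]
  · intro idx
    exact lt_of_lt_of_le (Nat.mod_lt _ hm0) hm

theorem toMat_cone : toMat n m (cone n) = 1 := by
  ext i j
  unfold toMat cone
  have hidx : n * i.val + j.val < Nat.mul n n := idx_lt i.2 j.2
  rw [ent_packL_map _ _ _ hidx]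
  · have h1 : Nat.div (n * i.val + j.val) n = i.val := idx_div j.2
    have h2 : Nat.mod (n * i.val + j.val) n = j.val := idx_mod j.2
    rw [h1, h2, Matrix.one_apply]
    by_cases hij : i = j
    · rw [if_pos hij, hij]
      have : Nat.beq j.val j.val = true := Nat.beq_refl _
      rw [this]
      simp
    · rw [if_neg hij]
      have : Nat.beq i.val j.val = false := by
        rw [Bool.eq_false_iff]
        intro h
        exact hij (Fin.ext (Nat.eq_of_beq_eq_true h))
      rw [this]
      simp
  · intro idx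
    cases Nat.beq (Nat.div idx n) (Nat.mod idx n) <;> simp

theorem toMat_zero : toMat n m 0 = 0 := by
  ext i j
  unfold toMat
  rw [ent_eq]
  simp

theorem toMat_cpow (hm0 : 0 < m) (hm : m ≤ 256) (a k : ℕ) :
    toMat n m (cpow n m a k) = toMat n m a ^ k := by
  induction k with
  | zero => exact toMat_cone
  | succ k ih =>
    show toMat n m (cmul n m (cpow n m a k) a) = _
    rw [toMat_cmul hm0 hm, ih, pow_succ]

theorem toMat_csum (hm0 : 0 < m) (hm : m ≤ 256) (a k : ℕ) :
    toMat n m (csum n m a k) = ∑ i ∈ Finset.range k, toMat n m a ^ i := by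
  induction k with
  | zero => rw [Finset.sum_range_zero]; exact toMat_zero
  | succ k ih =>
    show toMat n m (cadd n m (cmul n m (csum n m a k) a) (cone n)) = _
    rw [toMat_cadd hm0 hm, toMat_cmul hm0 hm, ih, toMat_cone, Finset.sum_range_succ',
      Finset.sum_mul, pow_zero]
    congr 1

theorem toMat_csmul (hm0 : 0 < m) (hm : m ≤ 256) (k a : ℕ) :
    toMat n m (csmul n m k a) = k • toMat n m a := by
  induction k with
  | zero => rw [zero_smul]; exact toMat_zero
  | succ k ih =>
    show toMat n m (cadd n m (csmul n m k a) a) = _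
    rw [toMat_cadd hm0 hm, ih, succ_nsmul]

theorem cnorm_eq_of_toMat_eq {a b : ℕ} (h : toMat n m a = toMat n m b) :
    cnorm n m a = cnorm n m b := by
  unfold cnorm
  congr 1
  apply List.map_congr_left
  intro idx hidx
  have hidx' : idx < n * n := List.mem_range.mp hidx
  have hn : 0 < n := by
    rcases Nat.eq_zero_or_pos n with h0 | h0
    · rw [h0] at hidx'; omega
    · exact h0
  have hd : idx / n < n := Nat.div_lt_of_lt_mul hidx'
  have h1 := congrFun (congrFun h ⟨idx / n, hd⟩) ⟨idx % n, Nat.mod_lt _ hn⟩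
  unfold toMat at h1
  simp only [Nat.div_add_mod] at h1
  exact (ZMod.natCast_eq_natCast_iff' _ _ _).mp h1

theorem toMat_ne {a b : ℕ} (h : cnorm n m a ≠ cnorm n m b) : toMat n m a ≠ toMat n m b :=
  fun heq => h (cnorm_eq_of_toMat_eq heq)

end

end Cfsg.Agent.Lib.Helper90_ModMat
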