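import Mathlib
import Cfsg.Agent.Lib.Helper38_OTDefs

set_option autoImplicit false
set_option linter.unusedSectionVars false
set_option linter.unusedVariables false
set_option linter.unusedSimpArgs false

/-!
OTENS4 (architect helper38), package OT-GAM: `gamO_facts`, `inter_translateO`
(orthogonal twin of UT-GAM, ported from `Helper25_UT_GAM`).
-/

namespace Cfsg.Agent.Lib.Helper90_OT_GAM

open Module
open Cfsg.Agent.Lib.Helper94_Herm
open Cfsg.Agent.Lib.Helper37_UTPairDefs Cfsg.Agent.Lib.Helper38_OTDefs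

variable {F : Type*} [Field F] {V : Type*} [AddCommGroup V] [Module F V]
variable {f : LinearMap.BilinForm F V} {ℓ ℓ' : Submodule F V} {N N' : V →ₗ[F] V}

/-- the property of `γ` proved by closure induction -/
def GamPO (f : LinearMap.BilinForm F V) (W I : Submodule F V) (γ : V ≃ₗ[F] V) : Prop :=
  γ ∈ uG f ∧ (∀ w ∈ W, γ w ∈ W) ∧ (∀ v ∈ orthS f W, γ v - v ∈ I) ∧
    (∀ v ∈ orthS f W ⊓ orthS f I, γ v = v) ∧ (∀ v ∈ I, γ v = v)

theorem gamPO_one (W I : Submodule F V) : GamPO f W I 1 := by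
  refine ⟨Subgroup.one_mem _, fun w hw => hw, fun v _ => ?_, fun v _ => rfl, fun v _ => rfl⟩
  simp

theorem gamPO_mul {W I : Submodule F V} {a b : V ≃ₗ[F] V} (ha : GamPO f W I a)
    (hb : GamPO f W I b) : GamPO f W I (a * b) := by
  obtain ⟨a1, a2, a3, a4, a5⟩ := ha
  obtain ⟨b1, b2, b3, b4, b5⟩ := hb
  refine ⟨Subgroup.mul_mem _ a1 b1, fun w hw => ?_, fun v hv => ?_, fun v hv => ?_, fun v hv => ?_⟩
  · rw [LinearEquiv.mul_apply]; exact a2 _ (b2 w hw)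
  · rw [LinearEquiv.mul_apply]
    have h1 : b v - v ∈ I := b3 v hv
    have h2 : a (b v - v) = b v - v := a5 _ h1
    have h3 : a (b v) - v = (b v - v) + (a v - v) := by
      have : a (b v) = a (b v - v) + a v := by rw [← map_add]; congr 1; abel
      rw [this, h2]; abel
    rw [h3]
    exact I.add_mem h1 (a3 v hv)
  · rw [LinearEquiv.mul_apply, b4 v hv, a4 v hv]
  · rw [LinearEquiv.mul_apply, b5 v hv, a5 v hv]

/-- a generator `1 + s N` has the property -/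
theorem gamPO_gen (W I : Submodule F V) {N : V →ₗ[F] V} {s : F}
    (hsk : ∀ u v, f (N u) v = - f u (N v)) (hNN : ∀ v, N (N v) = 0)
    (hW : ∀ w ∈ W, N w ∈ W) (hWo : ∀ v ∈ orthS f W, N v ∈ I)
    (hU0 : ∀ v ∈ orthS f W ⊓ orthS f I, N v = 0) (hI : ∀ v ∈ I, N v = 0)
    {g : V ≃ₗ[F] V} (hg : ∀ v, g v = v + s • N v) : GamPO f W I g := by
  refine ⟨?_, fun w hw => ?_, fun v hv => ?_, fun v hv => ?_, fun v hv => ?_⟩
  · rw [mem_uG]
    intro x y
    rw [hg x, hg y]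
    simp only [map_add, LinearMap.add_apply, map_smul, LinearMap.smul_apply, smul_eq_mul]
    rw [hsk x (N y), hNN, map_zero, hsk x y]
    ring
  · rw [hg w]; exact W.add_mem hw (W.smul_mem _ (hW w hw))
  · rw [hg v, add_sub_cancel_left]; exact I.smul_mem _ (hWo v hv)
  · rw [hg v, hU0 v hv, smul_zero, add_zero]
  · rw [hg v, hI v hv, smul_zero, add_zero]

/-- the inverse of `1 + s N` is `1 + (-s) N` when `N² = 0` -/
theorem inv_genO {N : V →ₗ[F] V} {s : F} (hNN : ∀ v, N (N v) = 0) {g : V ≃ₗ[F] V}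
    (hg : ∀ v, g v = v + s • N v) : ∀ v, g⁻¹ v = v + (-s) • N v := by
  intro v
  have h : g (v + (-s) • N v) = v := by
    rw [hg, map_add, map_smul, hNN, smul_zero, add_zero]
    simp
  have h2 : g⁻¹ (g (v + (-s) • N v)) = v + (-s) • N v := by
    rw [← LinearEquiv.mul_apply, inv_mul_cancel]; rfl
  rw [h] at h2
  exact h2

/-! ## GAM (M): the group generated by the two root groups -/

theorem gamO_facts (hf : ∀ u v, f u v = 0 → f v u = 0) (hℓ : IsRootOpO f ℓ N)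
    (hℓ' : IsRootOpO f ℓ' N') (hG : PairGeo f ℓ ℓ' N N') (hU : PairGeoU f ℓ ℓ' N N')
    {γ : V ≃ₗ[F] V} (hγ : γ ∈ GamO N N') :
    γ ∈ uG f ∧ (∀ w ∈ ℓ'.map N ⊔ ℓ.map N', γ w ∈ ℓ'.map N ⊔ ℓ.map N') ∧
      (∀ v ∈ orthS f (ℓ'.map N ⊔ ℓ.map N'), γ v - v ∈ ℓ ⊓ ℓ') ∧
      (∀ v ∈ orthS f (ℓ'.map N ⊔ ℓ.map N') ⊓ orthS f (ℓ ⊓ ℓ'), γ v = v) ∧
      (∀ v ∈ ℓ ⊓ ℓ', γ v = v) := by
  have hNN : ∀ v, N (N v) = 0 := by
    intro v
    have h1 : N v ∈ ℓ := by rw [← hℓ.range_eq]; exact LinearMap.mem_range_self N v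
    have h2 : N v ∈ LinearMap.ker N := by rw [hℓ.ker_eq]; exact hℓ.ti h1
    exact LinearMap.mem_ker.1 h2
  have hNN' : ∀ v, N' (N' v) = 0 := by
    intro v
    have h1 : N' v ∈ ℓ' := by rw [← hℓ'.range_eq]; exact LinearMap.mem_range_self N' v
    have h2 : N' v ∈ LinearMap.ker N' := by rw [hℓ'.ker_eq]; exact hℓ'.ti h1
    exact LinearMap.mem_ker.1 h2
  have hW : ∀ w ∈ ℓ'.map N ⊔ ℓ.map N', N w ∈ ℓ'.map N ⊔ ℓ.map N' := by
    intro w hw
    obtain ⟨u, hu, u', hu', rfl⟩ := Submodule.mem_sup.1 hw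
    rw [map_add, hG.N_J u hu, zero_add]
    apply Submodule.mem_sup_left
    rw [← hG.N_J']
    exact Submodule.mem_map_of_mem hu'
  have hW' : ∀ w ∈ ℓ'.map N ⊔ ℓ.map N', N' w ∈ ℓ'.map N ⊔ ℓ.map N' := by
    intro w hw
    obtain ⟨u, hu, u', hu', rfl⟩ := Submodule.mem_sup.1 hw
    rw [map_add, hG.N'_J' u' hu', add_zero]
    apply Submodule.mem_sup_right
    rw [← hG.N'_J]
    exact Submodule.mem_map_of_mem hu
  have key : GamPO f (ℓ'.map N ⊔ ℓ.map N') (ℓ ⊓ ℓ') γ := by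
    unfold GamO at hγ
    induction hγ using Subgroup.closure_induction'' with
    | one => exact gamPO_one _ _
    | mem x hx =>
      obtain ⟨s, h | h⟩ := hx
      · exact gamPO_gen _ _ hℓ.skew hNN hW hU.N_Worth hU.N_U0 hG.N_I h
      · exact gamPO_gen _ _ hℓ'.skew hNN' hW' hU.N'_Worth hU.N'_U0 hG.N'_I h
    | inv_mem x hx =>
      obtain ⟨s, h | h⟩ := hx
      · exact gamPO_gen _ _ (s := -s) hℓ.skew hNN hW hU.N_Worth hU.N_U0 hG.N_I
          (inv_genO hNN h)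
      · exact gamPO_gen _ _ (s := -s) hℓ'.skew hNN' hW' hU.N'_Worth hU.N'_U0
          hG.N'_I (inv_genO hNN' h)
    | mul x y _ _ hx hy => exact gamPO_mul hx hy
  exact key

/-- the image of a line under `1 + s N` meets the line in `(1 + s N) K` -/
theorem inter_translateO {u : V ≃ₗ[F] V} {s : F} (hs : s ≠ 0) (hu : ∀ v, u v = v + s • N v)
    (hr : LinearMap.range N = ℓ) :
    ℓ'.map u.toLinearMap ⊓ ℓ' = (ℓ' ⊓ (ℓ ⊓ ℓ').comap N).map u.toLinearMap := by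
  apply le_antisymm
  · rintro y ⟨⟨x, hx, rfl⟩, hy⟩
    refine ⟨x, ⟨hx, ?_⟩, rfl⟩
    have hy' : x + s • N x ∈ ℓ' := by
      have : u.toLinearMap x = x + s • N x := hu x
      rw [← this]; exact hy
    have h1 : s • N x ∈ ℓ' := by
      have : s • N x = (x + s • N x) - x := by abel
      rw [this]; exact ℓ'.sub_mem hy' hx
    have h2 : N x ∈ ℓ' := by
      have : N x = s⁻¹ • (s • N x) := by rw [smul_smul, inv_mul_cancel₀ hs, one_smul]
      rw [this]; exact ℓ'.smul_mem _ h1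
    have h3 : N x ∈ ℓ := by rw [← hr]; exact LinearMap.mem_range_self N x
    exact ⟨h3, h2⟩
  · rintro y ⟨x, ⟨hx, hNx⟩, rfl⟩
    refine ⟨⟨x, hx, rfl⟩, ?_⟩
    have : u.toLinearMap x = x + s • N x := hu x
    rw [SetLike.mem_coe, this]
    exact ℓ'.add_mem hx (ℓ'.smul_mem _ hNx.2)

end Cfsg.Agent.Lib.Helper90_OT_GAM
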