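import Mathlib
import Cfsg.Agent.Lib.Helper97_OX2Defs
import Cfsg.Agent.Lib.Helper94_OrthVec
import Cfsg.Agent.Lib.Helper89_OX2_TRANS
import Cfsg.Agent.Lib.Helper90_OX2_ALL1aux

set_option autoImplicit false
set_option linter.unusedSectionVars false
set_option linter.unusedVariables false

/-!
# OEXT2 market (architect helper97), package ALL1 (helper90)
`root_all`: the root subgroup property spreads from one singular point to all singular vectors.
-/

namespace Cfsg.Agent.Lib.Helper90_OX2_ALL1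

open Module Cfsg.Agent.Lib.Helper94_OrthSmall Cfsg.Agent.Lib.Helper94_OrthSiegel
  Cfsg.Agent.Lib.Helper98_ExtDefs Cfsg.Agent.Lib.Helper97_OX2Defs
open scoped commutatorElement

variable {F K V : Type*} [Field F] [Field K] [Algebra F K] [AddCommGroup V] [Module F V]
  [Module K V] [IsScalarTower F K V]
variable {θ : K} {ε : F} {τ : K →ₗ[F] F} {QK : V → K} {BK : LinearMap.BilinForm K V}

/-- ALL1 -/
theorem root_all [Finite F] [Finite K] [Module.Finite K V] (C : Ctx θ ε τ QK BK)
    (M : Subgroup (V ≃ₗ[F] V)) (hM : HypO τ QK BK M) {p₁ : V} (hp0 : p₁ ≠ 0) (hp : QK p₁ = 0)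
    (hroot : Root τ QK BK M p₁) : ∀ v : V, QK v = 0 → Root τ QK BK M v :=
  Cfsg.Agent.Lib.Helper90_OX2_ALL1aux.root_all_of C
    (fun hp0 hv0 hp hv => Cfsg.Agent.Lib.Helper89_OX2_TRANS.ks_trans C hp0 hv0 hp hv)
    M hM hp0 hp hroot

end Cfsg.Agent.Lib.Helper90_OX2_ALL1
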