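import Mathlib
import Cfsg.Agent.Lib.Helper97_OX3Defs
import Cfsg.Agent.Lib.Helper94_OrthVec
import Cfsg.Agent.Lib.Helper89_OX2_LONGCOMM

set_option autoImplicit false
set_option linter.unusedSectionVars false
set_option linter.unusedVariables false

/-!
OEXT3 market (helper97), package **FULLPERP**, conditional form: the existence of a frame through
every nonzero singular vector (packages G4_THRU + G4_PAIR) is a hypothesis.  If `M` contains the
Siegel elements `sieg Q B a f` for `a` `K`-singular and `f` `K`-orthogonal to `a`, it contains them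
for `f` `F`-orthogonal to `a`.  (Port of `Helper89_OX2_ALL4`.)
-/

namespace Cfsg.Agent.Lib.Helper90_OX3_FULLPERPaux

open Module Cfsg.Agent.Lib.Helper94_OrthSmall Cfsg.Agent.Lib.Helper94_OrthSiegel
  Cfsg.Agent.Lib.Helper98_ExtDefs Cfsg.Agent.Lib.Helper97_OX2Defs
  Cfsg.Agent.Lib.Helper97_OX3Defs
open scoped commutatorElement

variable {F K V : Type*} [Field F] [Field K] [Algebra F K] [AddCommGroup V] [Module F V]
  [Module K V] [IsScalarTower F K V]
variable {τ : K →ₗ[F] F} {QK : V → K} {BK : LinearMap.BilinForm K V}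

/-- FULLPERP with the frame through a singular vector as a hypothesis -/
theorem full_perp3_of [Finite F] (C : Ctx3 τ QK BK) (M : Subgroup (V ≃ₗ[F] V))
    (hperp : ∀ a f : V, QK a = 0 → BK a f = 0 → sieg (trQ τ QK) (trB τ BK) a f ∈ M)
    (hfr : ∀ {a : V}, a ≠ 0 → QK a = 0 → ∃ a' b b' : V, Frame QK BK a a' b b')
    {a f : V} (ha : QK a = 0) (hf : trB τ BK a f = 0) :
    sieg (trQ τ QK) (trB τ BK) a f ∈ M := by
  have hQs := C.trQ_smul (τ := τ) (QK := QK) (BK := BK)
  have hQp := C.trQ_add (τ := τ) (QK := QK) (BK := BK)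
  by_cases ha0 : a = 0
  · rw [ha0, sieg_zero_left (trQ τ QK) (trB τ BK) hQs hQp]
    exact M.one_mem
  obtain ⟨a', b, b', fr⟩ := hfr ha0 ha
  obtain ⟨l, hl⟩ := C.exists_tau_eq_one
  set κ : K := BK a f with hκ
  have hτκ : τ κ = 0 := hf
  -- the `K`-orthogonal part
  have hf' : BK a (f - κ • a') = 0 := by
    rw [map_sub, map_smul, fr.hpp', smul_eq_mul, mul_one, sub_self]
  have hQa : trQ τ QK a = 0 := trQ_eq_zero ha
  have hBf' : trB τ BK a (f - κ • a') = 0 := trB_eq_zero hf'
  have hBκ : trB τ BK a (κ • a') = 0 := by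
    rw [trB_apply, map_smul, fr.hpp', smul_eq_mul, mul_one, hτκ]
  have hsplit : f = (f - κ • a') + κ • a' := by abel
  have h1 : sieg (trQ τ QK) (trB τ BK) a (f - κ • a') ∈ M := hperp _ _ ha hf'
  -- the long root element
  have h2 : sieg (trQ τ QK) (trB τ BK) a (κ • a') ∈ M := by
    have hQlb : QK (l • b) = 0 := by rw [C.hQs, fr.ha, mul_zero]
    have hQκa' : QK (κ • a') = 0 := by rw [C.hQs, fr.hp', mul_zero]
    have hKab : BK a (l • b) = 0 := by rw [map_smul, fr.hpa, smul_zero]
    have hKκb' : BK (κ • a') b' = 0 := by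
      rw [map_smul, LinearMap.smul_apply, fr.hp'b, smul_zero]
    have hKbκ : BK (l • b) (κ • a') = 0 := by
      simp only [map_smul, LinearMap.smul_apply, C.BK_symm b a', fr.hp'a, smul_zero]
    have hpair : trB τ BK (l • b) b' = 1 := by
      rw [trB_apply, map_smul, LinearMap.smul_apply, fr.hab, smul_eq_mul, mul_one, hl]
    have hcomm := Cfsg.Agent.Lib.Helper89_OX2_LONGCOMM.long_comm2 (trQ τ QK) (trB τ BK) hQs hQp
      (a := a) (b := l • b) (c := κ • a') (d := b')
      hQa (trQ_eq_zero hQlb) (trQ_eq_zero hQκa') (trQ_eq_zero fr.hb)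
      (trB_eq_zero hKab) (trB_eq_zero hKκb') hBκ (trB_eq_zero fr.hpb) (trB_eq_zero hKbκ)
    rw [hpair, one_smul] at hcomm
    rw [← hcomm]
    exact Subgroup.commutator_le_self M (Subgroup.commutator_mem_commutator (H₁ := M) (H₂ := M)
      (hperp _ _ ha hKab) (hperp _ _ hQκa' hKκb'))
  rw [hsplit, ← sieg_mul (trQ τ QK) (trB τ BK) hQs hQp hQa hBf' hBκ]
  exact M.mul_mem h1 h2

end Cfsg.Agent.Lib.Helper90_OX3_FULLPERPaux
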