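import Mathlib
import Cfsg.Agent.Lib.Helper97_OX3Defs
import Cfsg.Agent.Lib.Helper94_OrthVec
import Cfsg.Agent.Lib.Helper21_OX3_G4_PAIR
import Cfsg.Agent.Lib.Helper44_OX3_G4_THRU
import Cfsg.Agent.Lib.Helper90_OX3_FULLPERPaux

set_option autoImplicit false
set_option linter.unusedSectionVars false
set_option linter.unusedVariables false

/-!
OEXT3 market (helper97), package **FULLPERP**: if `M` contains the Siegel elements `sieg Q B a f`
for `a` `K`-singular and `f` `K`-orthogonal to `a`, it contains them for `f` `F`-orthogonal to `a`.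
(Port of `Helper89_OX2_ALL4`; frames from G4_THRU + G4_PAIR.)
-/

namespace Cfsg.Agent.Lib.Helper90_OX3_FULLPERP

open Module Cfsg.Agent.Lib.Helper94_OrthSmall Cfsg.Agent.Lib.Helper94_OrthSiegel
  Cfsg.Agent.Lib.Helper98_ExtDefs Cfsg.Agent.Lib.Helper97_OX2Defs
  Cfsg.Agent.Lib.Helper97_OX3Defs
open scoped commutatorElement

variable {F K V : Type*} [Field F] [Field K] [Algebra F K] [AddCommGroup V] [Module F V]
  [Module K V] [IsScalarTower F K V]
variable {τ : K →ₗ[F] F} {QK : V → K} {BK : LinearMap.BilinForm K V}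
variable [Finite F] [Finite K] [Module.Finite F V] [Module.Finite K V]

/-- FULLPERP -/
theorem full_perp3 (C : Ctx3 τ QK BK) (hs : Split3 QK BK)
    (M : Subgroup (V ≃ₗ[F] V)) (hM : HypO3 τ QK BK M)
    (hperp : ∀ a f : V, QK a = 0 → BK a f = 0 → sieg (trQ τ QK) (trB τ BK) a f ∈ M)
    {a f : V} (ha : QK a = 0) (hf : trB τ BK a f = 0) :
    sieg (trQ τ QK) (trB τ BK) a f ∈ M := by
  refine Cfsg.Agent.Lib.Helper90_OX3_FULLPERPaux.full_perp3_of C M hperp ?_ ha hf
  intro a ha0 ha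
  obtain ⟨b, hab⟩ := Cfsg.Agent.Lib.Helper44_OX3_G4_THRU.exists_pair_through QK BK C.hQs C.hQp
    C.hN hs ha0 ha
  obtain ⟨a', b', fr⟩ := Cfsg.Agent.Lib.Helper21_OX3_G4_PAIR.frame_of_pair QK BK C.hQs C.hQp
    C.hN hab
  exact ⟨a', b, b', fr⟩

end Cfsg.Agent.Lib.Helper90_OX3_FULLPERP
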