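import Mathlib
import Cfsg.Prelude.Def_KGroupFacts
import Cfsg.Agent.Lib.Helper90_OutCyc

/-!
# A criterion for `|Out G| = 2` through a Sylow subgroup of prime order `p` (helper90)

Generic form of `Helper90_OutCyc.card_out_eq_two`.  `G` is a finite group whose order is divisible
by the prime `p` exactly once, `y` an element of order `p`, `g` a primitive root modulo `p`.  If an
automorphism `σ`, not inner, maps `y` to `y ^ g`, some `c ∈ G` conjugates `y` to `y ^ (g * g)`, and
every automorphism fixing `y` is conjugation by a power of `y`, then `Out G` has order 2.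
Also: the last hypothesis from a generating set and the images of the generators.
-/

set_option autoImplicit false
open Cfsg

namespace Cfsg.Agent.Lib.Helper90_OutCycGen

open Cfsg.Agent.Lib.Helper90_OutCyc

variable {G : Type*} [Group G]

theorem pow_apply_of_pow (τ : MulAut G) {y : G} {g : ℕ} (h : τ y = y ^ g) (m : ℕ) :
    (τ ^ m) y = y ^ (g ^ m) := by
  induction m with
  | zero => simp
  | succ m ih =>
    rw [pow_succ, MulAut.mul_apply, h, map_pow, ih, ← pow_mul, pow_succ]

/-- an automorphism fixing a generating set pointwise is the identity -/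
theorem eq_one_of_fix_set (δ : MulAut G) {S : Set G} (hgen : Subgroup.closure S = ⊤)
    (h : ∀ x ∈ S, δ x = x) : δ = 1 := by
  have h' : δ.toMonoidHom = MonoidHom.id G := by
    apply MonoidHom.eq_of_eqOn_dense hgen
    intro x hx
    exact h x hx
  ext x
  exact DFunLike.congr_fun h' x

/-- an automorphism acting on a generating set as conjugation by `z` is conjugation by `z` -/
theorem eq_conj_of_gen (α : MulAut G) {S : Set G} (hgen : Subgroup.closure S = ⊤) (z : G)
    (h : ∀ x ∈ S, α x = z * x * z⁻¹) : α = MulAut.conj z := by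
  have hδ : (MulAut.conj z)⁻¹ * α = 1 := by
    apply eq_one_of_fix_set _ hgen
    intro x hx
    rw [MulAut.mul_apply, h x hx, ← map_inv, MulAut.conj_apply, inv_inv]
    group
  rw [← mul_one (MulAut.conj z), ← hδ, mul_inv_cancel_left]

variable [Finite G]

/-- The criterion. -/
theorem card_out_eq_two_gen (p g : ℕ) [hp : Fact p.Prime]
    (hprim : ∀ k : ℕ, 0 < k → k < p → ∃ m : ℕ, g ^ m % p = k)
    {s : ℕ} (hcard : Nat.card G = p * s) (hs : ¬ p ∣ s) (y : G) (σ : MulAut G)
    (hy : orderOf y = p) (hσ : σ ∉ Inn G) (hσy : σ y = y ^ g)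
    (c : G) (hc : c * y * c⁻¹ = y ^ (g * g))
    (hsurv : ∀ α : MulAut G, α y = y → ∃ k : ℕ, α = MulAut.conj (y ^ k)) :
    Nat.card (Out G) = 2 := by
  have hconj : ∀ x : G, (QuotientGroup.mk (MulAut.conj x) : Out G) = 1 := by
    intro x
    rw [QuotientGroup.eq_one_iff]
    exact ⟨x, rfl⟩
  have key : ∀ α : MulAut G, ∃ m : ℕ,
      (QuotientGroup.mk α : Out G) = (QuotientGroup.mk σ) ^ m := by
    intro α
    have hoα : orderOf (α y) = p := by
      rw [← hy]
      exact MulEquiv.orderOf_eq α y
    obtain ⟨c', k, hk, hk0, hck⟩ := exists_conj_pow p hcard hs hy hoα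
    obtain ⟨m, hm⟩ := hprim k (Nat.pos_of_ne_zero hk0) hk
    have hm' : y ^ (g ^ m) = y ^ k := by
      rw [← pow_mod_orderOf y (g ^ m), hy, hm]
    set γ : MulAut G := (σ ^ m)⁻¹ * ((MulAut.conj c')⁻¹ * α) with hγ
    have hγy : γ y = y := by
      rw [hγ, MulAut.mul_apply, MulAut.mul_apply, ← hck, ← map_inv, MulAut.conj_apply, inv_inv]
      have e : c'⁻¹ * (c' * y ^ k * c'⁻¹) * c' = y ^ k := by group
      rw [e, ← hm', ← pow_apply_of_pow σ hσy m]
      exact MulAut.inv_apply_self _ _ y
    obtain ⟨j, hj⟩ := hsurv γ hγy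
    have hα : α = MulAut.conj c' * (σ ^ m * MulAut.conj (y ^ j)) := by
      rw [← hj, hγ]
      group
    refine ⟨m, ?_⟩
    rw [hα, QuotientGroup.mk_mul, QuotientGroup.mk_mul, hconj, hconj, one_mul, mul_one,
      QuotientGroup.mk_pow]
  have htop : Subgroup.zpowers (QuotientGroup.mk σ : Out G) = ⊤ := by
    rw [eq_top_iff]
    rintro a -
    induction a using QuotientGroup.induction_on with
    | H α =>
      obtain ⟨m, hm⟩ := key α
      rw [hm]
      exact Subgroup.pow_mem _ (Subgroup.mem_zpowers _) m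
  have hcardO : Nat.card (Out G) = orderOf (QuotientGroup.mk σ : Out G) := by
    rw [← Nat.card_zpowers, htop, Subgroup.card_top]
  rw [hcardO]
  have hsq : σ * σ ∈ Inn G := by
    set δ : MulAut G := (MulAut.conj c)⁻¹ * (σ * σ) with hδ
    have hδy : δ y = y := by
      rw [hδ, MulAut.mul_apply, MulAut.mul_apply, hσy, map_pow, hσy, ← pow_mul, ← hc, ← map_inv,
        MulAut.conj_apply, inv_inv]
      group
    obtain ⟨j, hj⟩ := hsurv δ hδy
    refine ⟨c * y ^ j, ?_⟩
    rw [map_mul, ← hj, hδ]
    group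
  have hdvd : orderOf (QuotientGroup.mk σ : Out G) ∣ 2 := by
    apply orderOf_dvd_of_pow_eq_one
    rw [pow_two, ← QuotientGroup.mk_mul, QuotientGroup.eq_one_iff]
    exact hsq
  rcases (Nat.dvd_prime Nat.prime_two).mp hdvd with h1 | h2
  · exfalso
    apply hσ
    rw [orderOf_eq_one_iff, QuotientGroup.eq_one_iff] at h1
    exact h1
  · exact h2

/-- the survivor hypothesis from a generating pair -/
theorem surv_of_pair {y t : G} (hgen : Subgroup.closure {y, t} = ⊤)
    (h : ∀ α : MulAut G, α y = y → ∃ k : ℕ, α t = y ^ k * t * (y ^ k)⁻¹) :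
    ∀ α : MulAut G, α y = y → ∃ k : ℕ, α = MulAut.conj (y ^ k) := by
  intro α hα
  obtain ⟨k, hk⟩ := h α hα
  refine ⟨k, eq_conj_of_gen α hgen _ ?_⟩
  rintro x (rfl | rfl)
  · rw [hα]
    have hc : Commute (x ^ k) x := (Commute.refl x).pow_left k
    rw [hc.eq, mul_inv_cancel_right]
  · exact hk

end Cfsg.Agent.Lib.Helper90_OutCycGen
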