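import Mathlib

/-!
# Polycyclic chains of index two (helper90)

If `x * x ∈ K` and `x` normalises the subgroup `K`, the subgroup generated by `K` and `x` is
`K ∪ x K`.  Iterating: for elements `x 0, x 1, …` such that `x i * x i` and the conjugates of the
earlier `x j` by `x i` are ordered products `e i m` of the earlier elements, every element of the
subgroup generated by `x 0, …, x (n - 1)` is an ordered product
`e n m = x (n-1) ^ b (n-1) * ⋯ * x 0 ^ b 0` over the binary digits `b` of some `m < 2 ^ n`.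
-/

set_option autoImplicit false

namespace Cfsg.Agent.Lib.Helper90_PcChain

variable {G : Type*} [Group G]

/-- `K ∪ x K` as a subgroup -/
def extSub (K : Subgroup G) (x : G) (hx2 : x * x ∈ K) (hn : ∀ k ∈ K, x⁻¹ * k * x ∈ K) :
    Subgroup G where
  carrier := {g | g ∈ K ∨ x⁻¹ * g ∈ K}
  one_mem' := Or.inl K.one_mem
  mul_mem' := by
    have hxi : x⁻¹ * x⁻¹ ∈ K := by
      have := K.inv_mem hx2
      rwa [mul_inv_rev] at this
    have hn' : ∀ k ∈ K, x * k * x⁻¹ ∈ K := by
      intro k hk
      have h1 := hn k hk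
      have h2 : x * k * x⁻¹ = (x * x) * (x⁻¹ * k * x) * (x⁻¹ * x⁻¹) := by group
      rw [h2]
      exact K.mul_mem (K.mul_mem hx2 h1) hxi
    rintro a b (ha | ha) (hb | hb)
    · exact Or.inl (K.mul_mem ha hb)
    · right
      have h2 : x⁻¹ * (a * b) = (x⁻¹ * a * x) * (x⁻¹ * b) := by group
      rw [h2]
      exact K.mul_mem (hn a ha) hb
    · right
      have h2 : x⁻¹ * (a * b) = (x⁻¹ * a) * b := by group
      rw [h2]
      exact K.mul_mem ha hb
    · left
      have h2 : a * b = (x * (x⁻¹ * a) * x⁻¹) * (x * x) * (x⁻¹ * b) := by group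
      rw [h2]
      exact K.mul_mem (K.mul_mem (hn' _ ha) hx2) hb
  inv_mem' := by
    have hxi : x⁻¹ * x⁻¹ ∈ K := by
      have := K.inv_mem hx2
      rwa [mul_inv_rev] at this
    rintro a (ha | ha)
    · exact Or.inl (K.inv_mem ha)
    · right
      have h2 : x⁻¹ * a⁻¹ = (x⁻¹ * (x⁻¹ * a)⁻¹ * x) * (x⁻¹ * x⁻¹) := by group
      rw [h2]
      exact K.mul_mem (hn _ (K.inv_mem ha)) hxi

/-- every element of the subgroup generated by `K` and `x` lies in `K` or in `x K` -/
theorem mem_or_of_closure (K : Subgroup G) (x : G) (hx2 : x * x ∈ K)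
    (hn : ∀ k ∈ K, x⁻¹ * k * x ∈ K) (g : G)
    (hg : g ∈ Subgroup.closure ((K : Set G) ∪ {x})) : g ∈ K ∨ x⁻¹ * g ∈ K := by
  have hle : Subgroup.closure ((K : Set G) ∪ {x}) ≤ extSub K x hx2 hn := by
    rw [Subgroup.closure_le]
    rintro a (ha | ha)
    · exact Or.inl ha
    · right
      rw [Set.mem_singleton_iff] at ha
      rw [ha, inv_mul_cancel]
      exact K.one_mem
  exact hle hg

variable (x : ℕ → G)

/-- the ordered product `x (n-1) ^ b (n-1) * ⋯ * x 0 ^ b 0` over the binary digits of `m` -/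
def e : ℕ → ℕ → G
  | 0, _ => 1
  | n + 1, m => (if m.testBit n then x n else 1) * e n m

theorem e_succ (n m : ℕ) : e x (n + 1) m = (if m.testBit n then x n else 1) * e x n m := rfl

/-- the subgroup generated by `x 0, …, x (n - 1)` -/
def S (n : ℕ) : Subgroup G := Subgroup.closure {g | ∃ i < n, x i = g}

theorem x_mem {n i : ℕ} (h : i < n) : x i ∈ S x n := Subgroup.subset_closure ⟨i, h, rfl⟩

theorem S_mono {n n' : ℕ} (h : n ≤ n') : S x n ≤ S x n' := by
  apply Subgroup.closure_mono
  rintro g ⟨i, hi, rfl⟩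
  exact ⟨i, lt_of_lt_of_le hi h, rfl⟩

theorem e_mem (n m : ℕ) : e x n m ∈ S x n := by
  induction n with
  | zero => exact Subgroup.one_mem _
  | succ n ih =>
    rw [e_succ]
    apply Subgroup.mul_mem
    · split_ifs
      · exact x_mem x (Nat.lt_succ_self n)
      · exact Subgroup.one_mem _
    · exact S_mono x (Nat.le_succ n) ih

theorem e_succ_of_lt {n m : ℕ} (h : m < 2 ^ n) : e x (n + 1) m = e x n m := by
  rw [e_succ, Nat.testBit_lt_two_pow h]
  simp

theorem e_congr_mod (n m : ℕ) : e x n m = e x n (m % 2 ^ n) := by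
  induction n generalizing m with
  | zero => rfl
  | succ n ih =>
    rw [e_succ, e_succ]
    have h1 : (m % 2 ^ (n + 1)).testBit n = m.testBit n := by
      rw [Nat.testBit_mod_two_pow]
      simp
    have h2 : m % 2 ^ (n + 1) % 2 ^ n = m % 2 ^ n :=
      Nat.mod_mod_of_dvd m (pow_dvd_pow 2 (Nat.le_succ n))
    rw [h1, ih m, ih (m % 2 ^ (n + 1)), h2]

theorem e_succ_add {n m : ℕ} (h : m < 2 ^ n) : e x (n + 1) (2 ^ n + m) = x n * e x n m := by
  rw [e_succ]
  have h1 : (2 ^ n + m).testBit n = true := by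
    rw [Nat.testBit_two_pow_add_eq, Nat.testBit_lt_two_pow h]
    rfl
  rw [h1, if_pos rfl, e_congr_mod x n (2 ^ n + m), Nat.add_mod_left, Nat.mod_eq_of_lt h]

/-- stability of the ordered product -/
theorem e_stable {i n m : ℕ} (hin : i ≤ n) (h : m < 2 ^ i) : e x n m = e x i m := by
  induction n with
  | zero =>
    have : i = 0 := by omega
    rw [this]
  | succ n ih =>
    rcases Nat.lt_or_ge i (n + 1) with h1 | h1
    · have h2 : m < 2 ^ n := lt_of_lt_of_le h (Nat.pow_le_pow_right (by norm_num) (by omega))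
      rw [e_succ_of_lt x h2, ih (by omega)]
    · have : i = n + 1 := by omega
      rw [this]

theorem e_zero (n : ℕ) : e x n 0 = 1 := by
  induction n with
  | zero => rfl
  | succ n ih => rw [e_succ, Nat.zero_testBit, ih]; simp

theorem e_two_pow {i n : ℕ} (h : i < n) : e x n (2 ^ i) = x i := by
  rw [e_stable x (Nat.succ_le_of_lt h) (Nat.pow_lt_pow_right (by norm_num) (Nat.lt_succ_self i))]
  have h2 : e x (i + 1) (2 ^ i + 0) = x i * e x i 0 := e_succ_add x (Nat.two_pow_pos i)
  have h3 : e x (i + 1) (2 ^ i) = x i * e x i 0 := h2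
  show e x (i + 1) (2 ^ i) = x i
  rw [h3, e_zero, mul_one]

/-- the elements of the subgroup generated by a chain are the ordered products -/
theorem pc_closure (N : ℕ) (sq : ℕ → ℕ) (cj : ℕ → ℕ → ℕ)
    (hsq : ∀ i < N, x i * x i = e x i (sq i))
    (hcj : ∀ i < N, ∀ j < i, x j * x i = x i * e x i (cj i j)) :
    ∀ n ≤ N, ∀ g ∈ S x n, ∃ m < 2 ^ n, g = e x n m := by
  intro n
  induction n with
  | zero =>
    intro _ g hg
    have h0 : S x 0 = ⊥ := by
      unfold S
      rw [Subgroup.closure_eq_bot_iff]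
      rintro g ⟨i, hi, _⟩
      omega
    rw [h0, Subgroup.mem_bot] at hg
    exact ⟨0, by norm_num, by rw [hg]; rfl⟩
  | succ n ih =>
    intro hn g hg
    have hnN : n < N := hn
    have hx2 : x n * x n ∈ S x n := by
      rw [hsq n hnN]
      exact e_mem x n _
    have hnorm : ∀ k ∈ S x n, (x n)⁻¹ * k * x n ∈ S x n := by
      have hle : S x n ≤ (S x n).comap (MulAut.conj (x n)⁻¹).toMonoidHom := by
        unfold S
        rw [Subgroup.closure_le]
        rintro k ⟨j, hj, rfl⟩
        show MulAut.conj (x n)⁻¹ (x j) ∈ Subgroup.closure {g | ∃ i < n, x i = g}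
        rw [MulAut.conj_apply, inv_inv]
        have h1 : (x n)⁻¹ * x j * x n = e x n (cj n j) := by
          rw [mul_assoc, hcj n hnN j hj, ← mul_assoc, inv_mul_cancel, one_mul]
        rw [h1]
        exact e_mem x n _
      intro k hk
      have := hle hk
      rw [Subgroup.mem_comap] at this
      have h2 : (MulAut.conj (x n)⁻¹).toMonoidHom k = (x n)⁻¹ * k * x n := by
        show MulAut.conj (x n)⁻¹ k = _
        rw [MulAut.conj_apply, inv_inv]
      rwa [h2] at this
    have hle : S x (n + 1) ≤ Subgroup.closure (((S x n : Subgroup G) : Set G) ∪ {x n}) := by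
      unfold S
      rw [Subgroup.closure_le]
      rintro g ⟨i, hi, rfl⟩
      rcases Nat.lt_succ_iff_lt_or_eq.mp hi with h1 | h1
      · exact Subgroup.subset_closure (Or.inl (Subgroup.subset_closure ⟨i, h1, rfl⟩))
      · rw [h1]
        exact Subgroup.subset_closure (Or.inr rfl)
    rcases mem_or_of_closure (S x n) (x n) hx2 hnorm g (hle hg) with h | h
    · obtain ⟨m, hm, rfl⟩ := ih (Nat.le_of_lt hnN) g h
      exact ⟨m, lt_of_lt_of_le hm (Nat.pow_le_pow_right (by norm_num) (Nat.le_succ n)),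
        (e_succ_of_lt x hm).symm⟩
    · obtain ⟨m, hm, hgm⟩ := ih (Nat.le_of_lt hnN) _ h
      refine ⟨2 ^ n + m, by rw [pow_succ]; omega, ?_⟩
      rw [e_succ_add x hm, ← hgm, ← mul_assoc, mul_inv_cancel, one_mul]

end Cfsg.Agent.Lib.Helper90_PcChain
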