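import Mathlib

/-!
# Sets of element orders of products, dihedral groups and generalised dihedral groups (helper90)

* `range_orderOf_prod`: the element orders of `G × H` are the `lcm`s.
* `range_orderOf_dihedral`: the element orders of `DihedralGroup p`, `p` prime, are `1, 2, p`.
* `GenDih3 k`: the tuples in `(S₃)^k` whose entries all have the same sign, the generalised
  dihedral group of `(C₃)^k`; its element orders are `1, 2, 3` (`k ≥ 1`) and its order is at
  least `k`.
-/

set_option autoImplicit false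

namespace Cfsg.Agent.Lib.Helper90_Spectrum

/-- The element orders of a product are the least common multiples. -/
theorem range_orderOf_prod {G H : Type*} [Monoid G] [Monoid H] {A B : Finset ℕ}
    (hG : Set.range (orderOf : G → ℕ) = ↑A) (hH : Set.range (orderOf : H → ℕ) = ↑B) :
    Set.range (orderOf : G × H → ℕ) = ↑(Finset.image₂ Nat.lcm A B) := by
  ext n
  rw [Finset.mem_coe, Finset.mem_image₂]
  constructor
  · rintro ⟨⟨g, h⟩, rfl⟩
    refine ⟨orderOf g, ?_, orderOf h, ?_, (Prod.orderOf (g, h)).symm⟩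
    · have h1 : orderOf g ∈ Set.range (orderOf : G → ℕ) := ⟨g, rfl⟩
      rw [hG] at h1
      exact h1
    · have h1 : orderOf h ∈ Set.range (orderOf : H → ℕ) := ⟨h, rfl⟩
      rw [hH] at h1
      exact h1
  · rintro ⟨a, ha, b, hb, rfl⟩
    have ha' : a ∈ Set.range (orderOf : G → ℕ) := by rw [hG]; exact ha
    have hb' : b ∈ Set.range (orderOf : H → ℕ) := by rw [hH]; exact hb
    obtain ⟨g, rfl⟩ := ha'
    obtain ⟨h, rfl⟩ := hb'
    exact ⟨(g, h), Prod.orderOf (g, h)⟩

/-- The element orders of the dihedral group of order `2p`, `p` prime. -/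
theorem range_orderOf_dihedral {p : ℕ} (hp : p.Prime) :
    Set.range (orderOf : DihedralGroup p → ℕ) = ↑({1, 2, p} : Finset ℕ) := by
  haveI : NeZero p := ⟨hp.ne_zero⟩
  ext n
  rw [Finset.mem_coe, Finset.mem_insert, Finset.mem_insert, Finset.mem_singleton]
  constructor
  · rintro ⟨g, rfl⟩
    cases g with
    | r i =>
      rw [DihedralGroup.orderOf_r]
      rcases (Nat.dvd_prime hp).mp (Nat.gcd_dvd_left p i.val) with h | h
      · right; right; rw [h, Nat.div_one]
      · left; rw [h, Nat.div_self hp.pos]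
    | sr i => right; left; exact DihedralGroup.orderOf_sr i
  · rintro (rfl | rfl | rfl)
    · exact ⟨1, orderOf_one⟩
    · exact ⟨DihedralGroup.sr 0, DihedralGroup.orderOf_sr 0⟩
    · exact ⟨DihedralGroup.r 1, DihedralGroup.orderOf_r_one⟩

/-- The generalised dihedral group of `(C₃)^k`: the tuples in `(S₃)^k` all of whose entries have
the same sign. -/
def GenDih3 (k : ℕ) : Subgroup (Fin k → Equiv.Perm (Fin 3)) where
  carrier := {f | ∀ i j, Equiv.Perm.sign (f i) = Equiv.Perm.sign (f j)}
  mul_mem' := by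
    intro a b ha hb i j
    rw [Pi.mul_apply, Pi.mul_apply, map_mul, map_mul, ha i j, hb i j]
  one_mem' := by
    intro i j
    rw [Pi.one_apply, Pi.one_apply]
  inv_mem' := by
    intro a ha i j
    rw [Pi.inv_apply, Pi.inv_apply, map_inv, map_inv, ha i j]

theorem perm3_pow_three : ∀ σ : Equiv.Perm (Fin 3), Equiv.Perm.sign σ = 1 → σ ^ 3 = 1 := by
  decide

theorem perm3_pow_two : ∀ σ : Equiv.Perm (Fin 3), Equiv.Perm.sign σ = -1 → σ ^ 2 = 1 := by
  decide

/-- The constant tuple. -/
def constTuple (k : ℕ) (σ : Equiv.Perm (Fin 3)) : ↥(GenDih3 k) :=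
  ⟨fun _ => σ, fun _ _ => rfl⟩

theorem constTuple_pow (k : ℕ) (σ : Equiv.Perm (Fin 3)) (n : ℕ) :
    constTuple k σ ^ n = constTuple k (σ ^ n) := by
  apply Subtype.ext
  rw [Subgroup.coe_pow]
  funext i
  rw [Pi.pow_apply]
  rfl

theorem constTuple_ne_one (k : ℕ) {σ : Equiv.Perm (Fin 3)} (h : σ ≠ 1) :
    constTuple (k + 1) σ ≠ 1 := by
  intro h1
  apply h
  have h2 := congrArg (fun x : ↥(GenDih3 (k + 1)) => (x : Fin (k + 1) → Equiv.Perm (Fin 3)) 0) h1
  exact h2

/-- The element orders of the generalised dihedral group of `(C₃)^(k+1)`. -/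
theorem range_orderOf_genDih3 (k : ℕ) :
    Set.range (orderOf : ↥(GenDih3 (k + 1)) → ℕ) = ↑({1, 2, 3} : Finset ℕ) := by
  ext n
  rw [Finset.mem_coe, Finset.mem_insert, Finset.mem_insert, Finset.mem_singleton]
  constructor
  · rintro ⟨⟨f, hf⟩, rfl⟩
    rcases Int.units_eq_one_or (Equiv.Perm.sign (f 0)) with h | h
    · have h3 : (⟨f, hf⟩ : ↥(GenDih3 (k + 1))) ^ 3 = 1 := by
        apply Subtype.ext
        rw [Subgroup.coe_pow]
        funext i
        rw [Pi.pow_apply]
        exact perm3_pow_three (f i) ((hf i 0).trans h)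
      have h4 := orderOf_dvd_of_pow_eq_one h3
      rcases (Nat.dvd_prime Nat.prime_three).mp h4 with h5 | h5
      · left; exact h5
      · right; right; exact h5
    · have h3 : (⟨f, hf⟩ : ↥(GenDih3 (k + 1))) ^ 2 = 1 := by
        apply Subtype.ext
        rw [Subgroup.coe_pow]
        funext i
        rw [Pi.pow_apply]
        exact perm3_pow_two (f i) ((hf i 0).trans h)
      have h4 := orderOf_dvd_of_pow_eq_one h3
      rcases (Nat.dvd_prime Nat.prime_two).mp h4 with h5 | h5
      · left; exact h5
      · right; left; exact h5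
  · rintro (rfl | rfl | rfl)
    · exact ⟨1, orderOf_one⟩
    · refine ⟨constTuple (k + 1) (Equiv.swap 0 1), ?_⟩
      haveI : Fact (Nat.Prime 2) := ⟨Nat.prime_two⟩
      apply orderOf_eq_prime
      · rw [constTuple_pow]
        have : (Equiv.swap (0 : Fin 3) 1) ^ 2 = 1 := by decide
        rw [this]; rfl
      · exact constTuple_ne_one k (by decide)
    · refine ⟨constTuple (k + 1) (finRotate 3), ?_⟩
      haveI : Fact (Nat.Prime 3) := ⟨Nat.prime_three⟩
      apply orderOf_eq_prime
      · rw [constTuple_pow]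
        have : (finRotate 3) ^ 3 = 1 := by decide
        rw [this]; rfl
      · exact constTuple_ne_one k (by decide)

/-- The tuple with a 3-cycle at the position `i`. -/
def singleTuple (k : ℕ) (i : Fin k) : ↥(GenDih3 k) :=
  ⟨Pi.mulSingle i (finRotate 3), by
    intro a b
    have h : ∀ c : Fin k, Equiv.Perm.sign ((Pi.mulSingle i (finRotate 3) : Fin k → Equiv.Perm (Fin 3)) c) = 1 := by
      intro c
      by_cases hc : c = i
      · rw [hc, Pi.mulSingle_eq_same]; decide
      · rw [Pi.mulSingle_eq_of_ne hc]; exact map_one _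
    rw [h a, h b]⟩

theorem singleTuple_injective (k : ℕ) : Function.Injective (singleTuple k) := by
  intro i j h
  by_contra hij
  have h1 := congrArg (fun x : ↥(GenDih3 k) => (x : Fin k → Equiv.Perm (Fin 3)) i) h
  simp only [singleTuple] at h1
  rw [Pi.mulSingle_eq_same, Pi.mulSingle_eq_of_ne hij] at h1
  revert h1
  decide

theorem le_card_genDih3 (k : ℕ) : k ≤ Nat.card ↥(GenDih3 k) := by
  have h := Nat.card_le_card_of_injective (singleTuple k) (singleTuple_injective k)
  rwa [Nat.card_fin] at h

end Cfsg.Agent.Lib.Helper90_Spectrum
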