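import Mathlib
import Cfsg.Agent.Lib.Helper90_SuzCentData

/-!
# Suz: the centraliser of the generator g has at least 3317760 elements (helper90)

A stabiliser chain with orbits of lengths 1728, 640 and 3 inside the centraliser.
-/

set_option autoImplicit false

namespace Cfsg.Agent.Lib.Helper90_SuzCent

open Cfsg.Spor Cfsg.Agent.Lib.Helper28_CosetPerm Cfsg.Agent.Lib.Helper90_SuzBase
open Cfsg.Agent.Lib.Helper90_SuzWalk Cfsg.Agent.Lib.Helper90_SuzCol
open Cfsg.Agent.Lib.Helper90_CodeTable Cfsg.Agent.Lib.Helper90_SuzCentData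
open Cfsg.Agent.Lib.Helper96_SuzSimple Cfsg.Agent.Lib.Helper96_SuzLower
open Cfsg.Agent.Lib.Helper96_PermLower

/-- the chain -/
noncomputable def K1 : Subgroup Suz := Subgroup.centralizer {tG}
/-- the chain -/
noncomputable def K2 : Subgroup Suz := K1 ⊓ MulAction.stabilizer Suz pt1
/-- the chain -/
noncomputable def K3 : Subgroup Suz := K2 ⊓ MulAction.stabilizer Suz pt2

theorem hK1 : ∀ l < 14, Nat.land (Nat.shiftRight 1978 l) 1 = 1 → mE l ∈ K1 := by
  intro l hl hb
  interval_cases l <;>
    first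
    | exact absurd hb (by decide)
    | exact comm1
    | exact comm3
    | exact comm4
    | exact comm5
    | exact comm7
    | exact comm8
    | exact comm9
    | exact comm10

theorem hK2 : ∀ l < 14, Nat.land (Nat.shiftRight 6144 l) 1 = 1 → mE l ∈ K2 := by
  intro l hl hb
  interval_cases l <;>
    first
    | exact absurd hb (by decide)
    | exact ⟨comm11, fix11_1⟩
    | exact ⟨comm12, fix12_1⟩

theorem hK3 : ∀ l < 14, Nat.land (Nat.shiftRight 8192 l) 1 = 1 → mE l ∈ K3 := by
  intro l hl hb
  interval_cases l <;>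
    first
    | exact absurd hb (by decide)
    | exact ⟨⟨comm13, fix13_1⟩, fix13_2⟩

theorem card3 : 3 ≤ Nat.card K3 := by
  have := suz_finite
  have h := card_step K3 pt3 (orbSet 1782 15 32767 oid3 1) 1
    (reach ok3 K3 oid3 rnk3 sv3 8192 pt3 hK3 desc3) Nat.card_pos
  rwa [card_orb oid3 3 cnt3, mul_one] at h

theorem card2 : 640 * 3 ≤ Nat.card K2 := by
  have := suz_finite
  have h := card_step K2 pt2 (orbSet 1782 15 32767 oid2 1) 3
    (reach ok3 K2 oid2 rnk2 sv2 6144 pt2 hK2 desc2) card3
  rwa [card_orb oid2 640 cnt2] at h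

theorem card1 : 1728 * (640 * 3) ≤ Nat.card K1 := by
  have := suz_finite
  have h := card_step K1 pt1 (orbSet 1782 15 32767 oid1 1) (640 * 3)
    (reach ok3 K1 oid1 rnk1 sv1 1978 pt1 hK1 desc1) card2
  rwa [card_orb oid1 1728 cnt1] at h

/-- the centraliser of `tG` has at least 3317760 elements -/
theorem card_centralizer_ge : 3317760 ≤ Nat.card (Subgroup.centralizer {tG}) := card1

end Cfsg.Agent.Lib.Helper90_SuzCent
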