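import Mathlib
import Cfsg.Agent.Lib.Helper90_SuzClDef

/-!
# Suz: the class of the generator g, check part 1 (helper90)

Generated by `tools/helper90_suz`.
-/

set_option autoImplicit false
set_option maxRecDepth 100000

namespace Cfsg.Agent.Lib.Helper90_SuzClK1

open Cfsg.Agent.Lib.Helper90_SuzClDef Cfsg.Agent.Lib.Helper90_CodeTable

theorem part : allFrom 8446 8446 eltChk = true := by decide +kernel

end Cfsg.Agent.Lib.Helper90_SuzClK1
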