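import Mathlib
import Cfsg.Agent.Lib.Helper90_SuzClDef

/-!
# Suz: the class of the generator g, the representatives and the order of the keys (helper90)

Generated by `tools/helper90_suz`.
-/

set_option autoImplicit false
set_option maxRecDepth 100000

namespace Cfsg.Agent.Lib.Helper90_SuzClRep

open Cfsg.Agent.Lib.Helper90_SuzClDef Cfsg.Agent.Lib.Helper90_CodeTable Cfsg.Agent.Lib.Helper90_SuzCol

theorem reps_ok : allFrom 1 10394 repChk = true := by decide +kernel

theorem sorted_ok : incChk KT 135135 (Nat.pow 2 60) = true := by decide +kernel

end Cfsg.Agent.Lib.Helper90_SuzClRep
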