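import Mathlib
import Cfsg.Agent.Lib.Helper90_SuzClRep
import Cfsg.Agent.Lib.Helper90_SuzClK0
import Cfsg.Agent.Lib.Helper90_SuzClK1
import Cfsg.Agent.Lib.Helper90_SuzClK2
import Cfsg.Agent.Lib.Helper90_SuzClK3
import Cfsg.Agent.Lib.Helper90_SuzClK4
import Cfsg.Agent.Lib.Helper90_SuzClK5
import Cfsg.Agent.Lib.Helper90_SuzClK6
import Cfsg.Agent.Lib.Helper90_SuzClK7
import Cfsg.Agent.Lib.Helper90_SuzClK8
import Cfsg.Agent.Lib.Helper90_SuzClK9
import Cfsg.Agent.Lib.Helper90_SuzClK10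
import Cfsg.Agent.Lib.Helper90_SuzClK11
import Cfsg.Agent.Lib.Helper90_SuzClK12
import Cfsg.Agent.Lib.Helper90_SuzClK13
import Cfsg.Agent.Lib.Helper90_SuzClK14
import Cfsg.Agent.Lib.Helper90_SuzClK15
import Cfsg.Agent.Lib.Helper90_SuzCent

/-!
# Suz: the conjugacy class of the generator g and the element y of order 13 (helper90)

The class of `tG` has 135135 elements, listed as the conjugates under the powers of `y` of 10395
representatives.  The only elements `u` of the class with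
`(y u) ^ 4 = (y ^ 4 u) ^ 9 = (y ^ 2 u y ^ 4 u y ^ 3 u) ^ 8 = 1` are the thirteen conjugates of `tG`
under the powers of `y`.
-/

set_option autoImplicit false

namespace Cfsg.Agent.Lib.Helper90_SuzClass

open Cfsg.Spor Cfsg.Agent.Lib.Helper28_CosetPerm Cfsg.Agent.Lib.Helper28_S1680Tab
open Cfsg.Agent.Lib.Helper90_SuzBase
open Cfsg.Agent.Lib.Helper90_SuzWalk Cfsg.Agent.Lib.Helper90_SuzCol
open Cfsg.Agent.Lib.Helper90_CodeTable Cfsg.Agent.Lib.Helper90_SuzMacro
open Cfsg.Agent.Lib.Helper90_SuzClDef Cfsg.Agent.Lib.Helper90_SuzClRep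
open Cfsg.Agent.Lib.Helper96_SuzSimple Cfsg.Agent.Lib.Helper96_SuzLower

/-- the representative `i` -/
noncomputable def rE (i : ℕ) : Suz := cE (R i)

/-- the conjugate of the representative `i` under `y ^ k` -/
noncomputable def uE (i k : ℕ) : Suz := (yE ^ k)⁻¹ * rE i * yE ^ k

theorem yE_inv_pow (k : ℕ) (hk : k ≤ 13) : (yE ^ k)⁻¹ = yE ^ (13 - k) := by
  apply inv_eq_of_mul_eq_one_left
  rw [← pow_add, Nat.sub_add_cancel hk, yE_pow13]

theorem isWalk_uE (i k : ℕ) (hk : k ≤ 13) :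
    IsWalk (uWc (R i) (cYp (Nat.sub 13 k)) (cYp k)) (uE i k) := by
  unfold uE
  rw [yE_inv_pow k hk]
  exact ((isWalk_col (cYp_ok (13 - k) (Nat.sub_le 13 k))).comp (isWalk_cw (R i))).comp
    (isWalk_col (cYp_ok k hk))

theorem elt_ok : ∀ j < 135135, eltChk j = true := by
  intro j hj
  rcases Nat.lt_or_ge j 8446 with h0 | h0
  · exact allFrom_spec Cfsg.Agent.Lib.Helper90_SuzClK0.part j (by omega) (by omega)
  rcases Nat.lt_or_ge j 16892 with h1 | h1
  · exact allFrom_spec Cfsg.Agent.Lib.Helper90_SuzClK1.part j (by omega) (by omega)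
  rcases Nat.lt_or_ge j 25338 with h2 | h2
  · exact allFrom_spec Cfsg.Agent.Lib.Helper90_SuzClK2.part j (by omega) (by omega)
  rcases Nat.lt_or_ge j 33784 with h3 | h3
  · exact allFrom_spec Cfsg.Agent.Lib.Helper90_SuzClK3.part j (by omega) (by omega)
  rcases Nat.lt_or_ge j 42230 with h4 | h4
  · exact allFrom_spec Cfsg.Agent.Lib.Helper90_SuzClK4.part j (by omega) (by omega)
  rcases Nat.lt_or_ge j 50676 with h5 | h5
  · exact allFrom_spec Cfsg.Agent.Lib.Helper90_SuzClK5.part j (by omega) (by omega)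
  rcases Nat.lt_or_ge j 59122 with h6 | h6
  · exact allFrom_spec Cfsg.Agent.Lib.Helper90_SuzClK6.part j (by omega) (by omega)
  rcases Nat.lt_or_ge j 67568 with h7 | h7
  · exact allFrom_spec Cfsg.Agent.Lib.Helper90_SuzClK7.part j (by omega) (by omega)
  rcases Nat.lt_or_ge j 76014 with h8 | h8
  · exact allFrom_spec Cfsg.Agent.Lib.Helper90_SuzClK8.part j (by omega) (by omega)
  rcases Nat.lt_or_ge j 84460 with h9 | h9
  · exact allFrom_spec Cfsg.Agent.Lib.Helper90_SuzClK9.part j (by omega) (by omega)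
  rcases Nat.lt_or_ge j 92906 with h10 | h10
  · exact allFrom_spec Cfsg.Agent.Lib.Helper90_SuzClK10.part j (by omega) (by omega)
  rcases Nat.lt_or_ge j 101352 with h11 | h11
  · exact allFrom_spec Cfsg.Agent.Lib.Helper90_SuzClK11.part j (by omega) (by omega)
  rcases Nat.lt_or_ge j 109798 with h12 | h12
  · exact allFrom_spec Cfsg.Agent.Lib.Helper90_SuzClK12.part j (by omega) (by omega)
  rcases Nat.lt_or_ge j 118244 with h13 | h13
  · exact allFrom_spec Cfsg.Agent.Lib.Helper90_SuzClK13.part j (by omega) (by omega)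
  rcases Nat.lt_or_ge j 126690 with h14 | h14
  · exact allFrom_spec Cfsg.Agent.Lib.Helper90_SuzClK14.part j (by omega) (by omega)
  exact allFrom_spec Cfsg.Agent.Lib.Helper90_SuzClK15.part j (by omega) (by omega)

/-- the orbit of the entry `j` -/
def oi (j : ℕ) : ℕ := Nat.shiftRight (IT j) 4

/-- the exponent of the entry `j` -/
def ex (j : ℕ) : ℕ := Nat.land (IT j) 15

/-- the entry `j` of the list of the class -/
noncomputable def elt (j : ℕ) : Suz := uE (oi j) (ex j)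

theorem elt_spec (j : ℕ) (hj : j < 135135) :
    ex j < 13 ∧ oi j < 10395 ∧
      key4 (uWc (R (oi j)) (cYp (Nat.sub 13 (ex j))) (cYp (ex j))) = KT j := by
  have h := elt_ok j hj
  simp only [eltChk, force_eq, Bool.and_eq_true, Nat.blt_eq] at h
  exact ⟨h.1, h.2.1, Nat.eq_of_beq_eq_true h.2.2⟩

theorem KT_lt {j j' : ℕ} (h : j < j') (hj' : j' < 135135) : KT j < KT j' :=
  (incChk_spec sorted_ok).2 j j' h hj'

theorem elt_inj {j j' : ℕ} (hj : j < 135135) (hj' : j' < 135135) (h : elt j = elt j') :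
    j = j' := by
  obtain ⟨h1, _, h3⟩ := elt_spec j hj
  obtain ⟨h1', _, h3'⟩ := elt_spec j' hj'
  have w := isWalk_uE (oi j) (ex j) (by omega)
  have w' := isWalk_uE (oi j') (ex j') (by omega)
  have e : uE (oi j) (ex j) = uE (oi j') (ex j') := h
  rw [e] at w
  have hk : KT j = KT j' := by rw [← h3, ← h3', key4_eq_of_isWalk w w']
  rcases Nat.lt_trichotomy j j' with h4 | h4 | h4
  · have := KT_lt h4 hj'
    omega
  · exact h4
  · have := KT_lt h4 hj
    omega

theorem uE_conj (i k : ℕ) : ∃ x : Suz, uE i k = x⁻¹ * tG * x := by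
  obtain ⟨x, hx⟩ := cE_conj (R i)
  refine ⟨x * yE ^ k, ?_⟩
  unfold uE rE
  rw [hx]
  group

/-! ### The class -/

/-- the conjugates of `tG` -/
def IsCl (u : Suz) : Prop := ∃ x : Suz, u = x⁻¹ * tG * x

theorem isCl_iff (u : Suz) : IsCl u ↔ u ∈ MulAction.orbit (ConjAct Suz) tG := by
  rw [ConjAct.mem_orbit_conjAct, isConj_comm, isConj_iff]
  constructor
  · rintro ⟨x, rfl⟩
    exact ⟨x⁻¹, by group⟩
  · rintro ⟨c, hc⟩
    exact ⟨c⁻¹, by rw [← hc]; group⟩

theorem card_orbit_le : Nat.card (MulAction.orbit (ConjAct Suz) tG) ≤ 135135 := by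
  have := suz_finite
  have h1 : Nat.card (MulAction.orbit (ConjAct Suz) tG) *
      Nat.card (MulAction.stabilizer (ConjAct Suz) tG) = Nat.card (ConjAct Suz) := by
    rw [← Nat.card_prod]
    exact Nat.card_congr (MulAction.orbitProdStabilizerEquivGroup (ConjAct Suz) tG)
  have h2 : Nat.card (ConjAct Suz) = 448345497600 := by
    rw [← card_suz]
    exact Nat.card_congr ConjAct.ofConjAct.toEquiv
  have h3 := Subgroup.nat_card_centralizer_nat_card_stabilizer tG
  have h4 := Cfsg.Agent.Lib.Helper90_SuzCent.card_centralizer_ge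
  rw [h2, ← h3] at h1
  by_contra hlt
  rw [not_le] at hlt
  have : 135136 * 3317760 ≤ Nat.card (MulAction.orbit (ConjAct Suz) tG) *
      Nat.card (Subgroup.centralizer {tG}) := Nat.mul_le_mul hlt h4
  omega

/-- every conjugate of `tG` is an entry of the list -/
theorem class_eq (u : Suz) (hu : IsCl u) : ∃ j < 135135, u = elt j := by
  have := suz_finite
  let f : Fin 135135 → Suz := fun j => elt j
  have hf : Function.Injective f := fun j j' h => Fin.ext (elt_inj j.2 j'.2 h)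
  have hsub : Set.range f ⊆ MulAction.orbit (ConjAct Suz) tG := by
    rintro _ ⟨j, rfl⟩
    rw [← isCl_iff]
    exact uE_conj _ _
  have hcard : (Set.range f).ncard = 135135 := by
    rw [← Nat.card_coe_set_eq, ← Nat.card_congr (Equiv.ofInjective f hf), Nat.card_fin]
  have hle : (MulAction.orbit (ConjAct Suz) tG).ncard ≤ (Set.range f).ncard := by
    rw [hcard, ← Nat.card_coe_set_eq]
    exact card_orbit_le
  have heq := Set.eq_of_subset_of_ncard_le hsub hle (Set.toFinite _)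
  have hu' := (isCl_iff u).mp hu
  rw [← heq] at hu'
  obtain ⟨j, rfl⟩ := hu'
  exact ⟨j, j.2, rfl⟩

/-! ### The relations -/

theorem isWalk_iter {f : ℕ → ℕ} {g : Suz} (h : IsWalk f g) (m : ℕ) : IsWalk (iter f m) (g ^ m) := by
  induction m with
  | zero => rw [pow_zero]; exact isWalk_one
  | succ m ih =>
    rw [pow_succ]
    exact ih.comp h

theorem ne_one_of_walk {f : ℕ → ℕ} {g : Suz} (h : IsWalk f g) (k : Fin 1782) (p : ℕ)
    (hp : p = (k : ℕ) * 15) (hk : Nat.beq (f p) p = false) : g ≠ 1 := by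
  intro h1
  have h2 : f p = p := by
    rw [hp, h k, h1, map_one, inv_one, Equiv.Perm.one_apply]
  rw [h2, Nat.beq_refl] at hk
  exact Bool.noConfusion hk

/-- the three relations for `u` -/
def Rel (u : Suz) : Prop :=
  (yE * u) ^ 4 = 1 ∧ (yE ^ 4 * u) ^ 9 = 1 ∧ (yE ^ 2 * u * yE ^ 4 * u * yE ^ 3 * u) ^ 8 = 1

theorem w1 (w : ℕ) : IsWalk (iter (fun x => cw w (nxt 32767 cY1 x)) 4) ((yE * cE w) ^ 4) :=
  isWalk_iter ((isWalk_col cY1_ok).comp (isWalk_cw w)) 4

theorem w2 (w : ℕ) : IsWalk (iter (fun x => cw w (nxt 32767 cY4 x)) 9) ((yE ^ 4 * cE w) ^ 9) :=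
  isWalk_iter ((isWalk_col cY4_ok).comp (isWalk_cw w)) 9

theorem w3 (w : ℕ) :
    IsWalk (iter (fun x => cw w (nxt 32767 cY3 (cw w (nxt 32767 cY4 (cw w (nxt 32767 cY2 x)))))) 8)
      ((yE ^ 2 * cE w * yE ^ 4 * cE w * yE ^ 3 * cE w) ^ 8) :=
  isWalk_iter ((((((isWalk_col cY2_ok).comp (isWalk_cw w)).comp (isWalk_col cY4_ok)).comp
    (isWalk_cw w)).comp (isWalk_col cY3_ok)).comp (isWalk_cw w)) 8

theorem rep_spec (i : ℕ) (h : repChk i = true) : ¬ Rel (rE i) := by
  rintro ⟨r1, r2, r3⟩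
  simp only [repChk, force_eq, Bool.or_eq_true, t1, t2, t3, Bool.not_eq_true'] at h
  unfold rE at r1 r2 r3
  rcases h with h | h | h | h | h | h | h | h
  · exact ne_one_of_walk (w1 (R i)) b1 0 rfl h r1
  · exact ne_one_of_walk (w1 (R i)) b2 14925 rfl h r1
  · exact ne_one_of_walk (w2 (R i)) b1 0 rfl h r2
  · exact ne_one_of_walk (w2 (R i)) b2 14925 rfl h r2
  · exact ne_one_of_walk (w3 (R i)) b1 0 rfl h r3
  · exact ne_one_of_walk (w3 (R i)) b2 14925 rfl h r3
  · exact ne_one_of_walk (w2 (R i)) b3 2115 rfl h r2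
  · exact ne_one_of_walk (w3 (R i)) b3 2115 rfl h r3

theorem rel_tG : Rel tG := by
  rw [← cE_zero]
  refine ⟨?_, ?_, ?_⟩
  · exact eq_of_key5 (w1 0) isWalk_one (by decide +kernel)
  · exact eq_of_key5 (w2 0) isWalk_one (by decide +kernel)
  · exact eq_of_key5 (w3 0) isWalk_one (by decide +kernel)

theorem R_zero : R 0 = 0 := by decide +kernel

/-- conjugation by a power of `y` preserves the relations -/
theorem rel_conj (r : Suz) (k : ℕ) (h : Rel ((yE ^ k)⁻¹ * r * yE ^ k)) : Rel r := by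
  have hy : (MulAut.conj (yE ^ k)⁻¹) yE = yE := by
    rw [MulAut.conj_apply, inv_inv, mul_assoc, ← pow_succ', pow_succ, ← mul_assoc, inv_mul_cancel,
      one_mul]
  have hr : (MulAut.conj (yE ^ k)⁻¹) r = (yE ^ k)⁻¹ * r * yE ^ k := by
    rw [MulAut.conj_apply, inv_inv]
  obtain ⟨h1, h2, h3⟩ := h
  refine ⟨?_, ?_, ?_⟩
  · apply (MulEquiv.map_eq_one_iff (MulAut.conj (yE ^ k)⁻¹)).mp
    rw [map_pow, map_mul, hy, hr]
    exact h1
  · apply (MulEquiv.map_eq_one_iff (MulAut.conj (yE ^ k)⁻¹)).mp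
    rw [map_pow, map_mul, map_pow, hy, hr]
    exact h2
  · apply (MulEquiv.map_eq_one_iff (MulAut.conj (yE ^ k)⁻¹)).mp
    rw [map_pow, map_mul, map_mul, map_mul, map_mul, map_mul, map_pow, map_pow, map_pow, hy, hr]
    exact h3

/-- the conjugates of `tG` satisfying the relations are the conjugates under the powers of `y` -/
theorem survivors (u : Suz) (hu : IsCl u) (hr : Rel u) : ∃ k : ℕ, u = (yE ^ k)⁻¹ * tG * yE ^ k := by
  obtain ⟨j, hj, rfl⟩ := class_eq u hu
  obtain ⟨_, h2, _⟩ := elt_spec j hj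
  rcases Nat.eq_zero_or_pos (oi j) with h0 | h0
  · refine ⟨ex j, ?_⟩
    unfold elt uE rE
    rw [h0, R_zero, cE_zero]
  · exfalso
    have hc : repChk (oi j) = true := allFrom_spec reps_ok (oi j) h0 (by omega)
    exact rep_spec (oi j) hc (rel_conj (rE (oi j)) (ex j) hr)

end Cfsg.Agent.Lib.Helper90_SuzClass
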