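import Mathlib
import Cfsg.Agent.Lib.Helper90_SuzSylData

/-!
# Suz: a Sylow 2-subgroup containing the generator g, and its centre (helper90)

The subgroup `Syl` generated by the thirteen elements `xS i` has order `2 ^ 13`, contains `tG`, and
its centre is `{1, tG}`.
-/

set_option autoImplicit false

namespace Cfsg.Agent.Lib.Helper90_SuzSyl

open Cfsg.Spor Cfsg.Agent.Lib.Helper28_CosetPerm Cfsg.Agent.Lib.Helper90_SuzBase
open Cfsg.Agent.Lib.Helper90_SuzWalk Cfsg.Agent.Lib.Helper90_SuzCol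
open Cfsg.Agent.Lib.Helper90_CodeTable Cfsg.Agent.Lib.Helper90_PcChain
open Cfsg.Agent.Lib.Helper90_SuzSylData Cfsg.Agent.Lib.Helper96_SuzSimple

theorem isWalk_e (m : ℕ) : IsWalk (walkE cS 13 m) (e xS 13 m) :=
  fun k => walkE_eq cS cS_ok 13 le_rfl m k

theorem e_pow (i : ℕ) (hi : i < 13) : e xS 13 (2 ^ i) = xS i := e_two_pow xS hi

theorem rel_spec (i : ℕ) (hi : i < 13) :
    sqS i < 2 ^ i ∧ xS i * xS i = e xS 13 (sqS i) ∧
      ∀ j < i, cjS i j < 2 ^ i ∧ xS j * xS i = e xS 13 (2 ^ i + cjS i j) := by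
  have h := allLt_spec rel_ok i hi
  simp only [force_eq, Bool.and_eq_true, Nat.blt_eq] at h
  obtain ⟨h1, h2, h3⟩ := h
  refine ⟨h1, ?_, ?_⟩
  · have := eq_of_key5 ((isWalk_e (2 ^ i)).comp (isWalk_e (2 ^ i))) (isWalk_e (sqS i))
      (Nat.eq_of_beq_eq_true h2)
    rwa [e_pow i hi] at this
  · intro j hj
    have h4 := allLt_spec h3 j hj
    simp only [Bool.and_eq_true, Nat.blt_eq] at h4
    refine ⟨h4.1, ?_⟩
    have := eq_of_key5 ((isWalk_e (2 ^ j)).comp (isWalk_e (2 ^ i))) (isWalk_e (2 ^ i + cjS i j))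
      (Nat.eq_of_beq_eq_true h4.2)
    rwa [e_pow i hi, e_pow j (lt_trans hj hi)] at this

theorem hsq : ∀ i < 13, xS i * xS i = e xS i (sqS i) := by
  intro i hi
  obtain ⟨h1, h2, _⟩ := rel_spec i hi
  rw [h2, e_stable xS (Nat.le_of_lt hi) h1]

theorem hcj : ∀ i < 13, ∀ j < i, xS j * xS i = xS i * e xS i (cjS i j) := by
  intro i hi j hj
  obtain ⟨_, _, h3⟩ := rel_spec i hi
  obtain ⟨h4, h5⟩ := h3 j hj
  have hlt : 2 ^ i + cjS i j < 2 ^ (i + 1) := by rw [pow_succ]; omega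
  rw [h5, e_stable xS (Nat.succ_le_of_lt hi) hlt, e_succ_add xS h4]

/-- the Sylow 2-subgroup -/
noncomputable def Syl : Subgroup Suz := S xS 13

theorem mem_syl (g : Suz) (hg : g ∈ Syl) : ∃ m < 8192, g = e xS 13 m :=
  pc_closure xS 13 sqS cjS hsq hcj 13 le_rfl g hg

theorem tG_eq : tG = xS 0 := rfl

theorem tG_mem : tG ∈ Syl := x_mem xS (n := 13) (i := 0) (by norm_num)

theorem xS_mem (i : ℕ) (hi : i < 13) : xS i ∈ Syl := x_mem xS hi

theorem keyM_inj {i j : ℕ} (hi : i < 8192) (hj : j < 8192)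
    (h : e xS 13 (srt i) = e xS 13 (srt j)) : i = j := by
  obtain ⟨_, hs⟩ := incChk_spec srt_ok
  have hk : keyM (srt i) = keyM (srt j) := by
    unfold keyM
    have h1 := isWalk_e (srt i)
    rw [h] at h1
    exact key5_eq_of_isWalk h1 (isWalk_e (srt j))
  rcases Nat.lt_trichotomy i j with h1 | h1 | h1
  · have := hs i j h1 hj
    omega
  · exact h1
  · have := hs j i h1 hi
    omega

theorem card_syl : Nat.card Syl = 8192 := by
  have := suz_finite
  apply le_antisymm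
  · have hsurj : Function.Surjective (fun m : Fin 8192 => (⟨e xS 13 m, e_mem xS 13 m⟩ : Syl)) := by
      rintro ⟨g, hg⟩
      obtain ⟨m, hm, rfl⟩ := mem_syl g hg
      exact ⟨⟨m, hm⟩, rfl⟩
    have := Nat.card_le_card_of_surjective _ hsurj
    rwa [Nat.card_fin] at this
  · have hinj : Function.Injective
        (fun i : Fin 8192 => (⟨e xS 13 (srt i), e_mem xS 13 _⟩ : Syl)) := by
      intro i j hij
      have h1 : e xS 13 (srt i) = e xS 13 (srt j) := congrArg Subtype.val hij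
      exact Fin.ext (keyM_inj i.2 j.2 h1)
    have := Nat.card_le_card_of_injective _ hinj
    rwa [Nat.card_fin] at this

/-- the centre of the Sylow 2-subgroup is `{1, tG}` -/
theorem centre (z : Suz) (hz : z ∈ Syl) (hc : ∀ s ∈ Syl, z * s = s * z) : z = 1 ∨ z = tG := by
  obtain ⟨m, hm, rfl⟩ := mem_syl z hz
  rcases Nat.lt_or_ge m 2 with h2 | h2
  · interval_cases m
    · left; exact e_zero xS 13
    · right
      have := e_pow 0 (by norm_num)
      rw [pow_zero] at this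
      rw [this, tG_eq]
  · exfalso
    have h := allFrom_spec cen_ok m h2 (by omega)
    simp only [force_eq, Bool.not_eq_true', Nat.pow_eq, Bool.and_eq_true, Nat.blt_eq] at h
    obtain ⟨hw, h⟩ := h
    have hcm := hc (xS (wit m)) (xS_mem _ hw)
    rw [← e_pow _ hw] at hcm
    have w1 : IsWalk (fun x => walkE cS 13 (2 ^ wit m) (walkE cS 13 m x))
        (e xS 13 m * e xS 13 (2 ^ wit m)) := (isWalk_e m).comp (isWalk_e (2 ^ wit m))
    have w2 : IsWalk (fun x => walkE cS 13 m (walkE cS 13 (2 ^ wit m) x))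
        (e xS 13 (2 ^ wit m) * e xS 13 m) := (isWalk_e (2 ^ wit m)).comp (isWalk_e m)
    rw [hcm] at w1
    have hk := key5_eq_of_isWalk w1 w2
    rw [hk] at h
    simp at h

end Cfsg.Agent.Lib.Helper90_SuzSyl
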