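import Mathlib
import Cfsg.Agent.Lib.Helper90_SuzSyl
import Cfsg.Agent.Lib.Helper90_SuzClass

/-!
# Suz: automorphisms map the generator g into its conjugacy class (helper90)

`Syl` is a Sylow 2-subgroup with centre `{1, tG}`; an automorphism maps it to a conjugate, hence `tG`
to a conjugate of `tG`.  An automorphism fixing `y` maps `tG` to a conjugate under a power of `y`.
-/

set_option autoImplicit false

namespace Cfsg.Agent.Lib.Helper90_SuzAut

open Cfsg.Spor Cfsg.Agent.Lib.Helper28_CosetPerm Cfsg.Agent.Lib.Helper28_S1680Tab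
open Cfsg.Agent.Lib.Helper90_SuzBase
open Cfsg.Agent.Lib.Helper90_SuzWalk Cfsg.Agent.Lib.Helper90_SuzCol
open Cfsg.Agent.Lib.Helper90_CodeTable Cfsg.Agent.Lib.Helper90_SuzMacro
open Cfsg.Agent.Lib.Helper90_SuzSylData Cfsg.Agent.Lib.Helper90_SuzSyl
open Cfsg.Agent.Lib.Helper90_SuzClass Cfsg.Agent.Lib.Helper90_PcChain
open Cfsg.Agent.Lib.Helper96_SuzSimple Cfsg.Agent.Lib.Helper96_SuzLower

theorem xS_comm (i : ℕ) (hi : i < 13) : xS i ∈ Subgroup.centralizer {tG} := by
  apply mem_centralizer_of_keys (cS_ok i hi)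
  interval_cases i <;> decide +kernel

/-- `tG` is central in the Sylow subgroup -/
theorem tG_central (s : Suz) (hs : s ∈ Syl) : tG * s = s * tG := by
  have hle : Syl ≤ Subgroup.centralizer {tG} := by
    unfold Syl S
    rw [Subgroup.closure_le]
    rintro g ⟨i, hi, rfl⟩
    exact xS_comm i hi
  have := hle hs
  rw [Subgroup.mem_centralizer_iff] at this
  exact this tG rfl

theorem tG_ne_one : tG ≠ 1 := by
  intro h
  have h1 : IsWalk (nxt 32767 cG) tG := isWalk_col (colOK_gen 7)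
  rw [h] at h1
  have := key5_eq_of_isWalk h1 isWalk_one
  revert this
  decide +kernel

/-- a subgroup of order `2 ^ 13` is a Sylow 2-subgroup -/
theorem sylow_of_card (H : Subgroup Suz) (hH : Nat.card H = 8192) :
    ∃ Q : Sylow 2 Suz, (Q : Subgroup Suz) = H := by
  have := suz_finite
  have : Fact (Nat.Prime 2) := ⟨Nat.prime_two⟩
  have hp : IsPGroup 2 H := IsPGroup.of_card (n := 13) (by rw [hH]; norm_num)
  obtain ⟨Q, hQ⟩ := hp.exists_le_sylow
  obtain ⟨n, hn⟩ := IsPGroup.iff_card.mp Q.isPGroup'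
  have hdvd : Nat.card (Q : Subgroup Suz) ∣ Nat.card Suz := Subgroup.card_subgroup_dvd_card _
  rw [hn, card_suz] at hdvd
  have hle : 8192 ≤ 2 ^ n := by
    rw [← hH, ← hn]
    exact Subgroup.card_le_of_le hQ
  have hn13 : n = 13 := by
    rcases Nat.lt_trichotomy n 13 with h | h | h
    · exfalso
      have : 2 ^ n ≤ 2 ^ 12 := Nat.pow_le_pow_right (by norm_num) (by omega)
      omega
    · exact h
    · exfalso
      have h14 : 2 ^ 14 ∣ 2 ^ n := pow_dvd_pow 2 (by omega)
      have := dvd_trans h14 hdvd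
      revert this
      norm_num
  refine ⟨Q, ?_⟩
  symm
  apply Subgroup.eq_of_le_of_card_ge hQ
  rw [hn, hn13, hH]
  norm_num

/-- every automorphism maps `tG` to a conjugate -/
theorem aut_isCl (α : MulAut Suz) : IsCl (α tG) := by
  have := suz_finite
  have : Fact (Nat.Prime 2) := ⟨Nat.prime_two⟩
  obtain ⟨Q, hQ⟩ := sylow_of_card Syl card_syl
  have hcard' : Nat.card (Syl.map α.toMonoidHom) = 8192 := by
    rw [Subgroup.card_map_of_injective α.injective]
    exact card_syl
  obtain ⟨Q', hQ'⟩ := sylow_of_card _ hcard'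
  obtain ⟨g, hg⟩ := MulAction.exists_smul_eq Suz Q Q'
  -- membership in the image
  have hmem : ∀ x : Suz, x ∈ Syl.map α.toMonoidHom ↔ ∃ s ∈ Syl, g * s * g⁻¹ = x := by
    intro x
    rw [← hQ', ← hg, Sylow.coe_subgroup_smul, Subgroup.mem_smul_pointwise_iff_exists, hQ]
    constructor
    · rintro ⟨s, hs, rfl⟩
      exact ⟨s, hs, rfl⟩
    · rintro ⟨s, hs, rfl⟩
      exact ⟨s, hs, rfl⟩
  obtain ⟨z, hz, hzt⟩ := (hmem (α tG)).mp (Subgroup.mem_map_of_mem _ tG_mem)
  have hzc : ∀ s ∈ Syl, z * s = s * z := by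
    intro s hs
    obtain ⟨s'', hs'', hs2⟩ := Subgroup.mem_map.mp ((hmem (g * s * g⁻¹)).mpr ⟨s, hs, rfl⟩)
    have h1 : α tG * α s'' = α s'' * α tG := by
      rw [← map_mul, ← map_mul, tG_central s'' hs'']
    have hs3 : α s'' = g * s * g⁻¹ := hs2
    rw [hs3, ← hzt] at h1
    have h2 : g * (z * s) * g⁻¹ = g * (s * z) * g⁻¹ := by
      calc g * (z * s) * g⁻¹ = g * z * g⁻¹ * (g * s * g⁻¹) := by group
        _ = g * s * g⁻¹ * (g * z * g⁻¹) := h1
        _ = g * (s * z) * g⁻¹ := by group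
    exact mul_left_cancel (mul_right_cancel h2)
  rcases centre z hz hzc with h | h
  · exfalso
    rw [h, mul_one, mul_inv_cancel] at hzt
    have : α tG = α 1 := by rw [map_one, ← hzt]
    exact tG_ne_one (α.injective this)
  · refine ⟨g⁻¹, ?_⟩
    rw [← hzt, h, inv_inv]

/-- an automorphism fixing `y` maps `tG` to a conjugate under a power of `y` -/
theorem aut_fix (α : MulAut Suz) (hα : α yE = yE) :
    ∃ k : ℕ, α tG = yE ^ k * tG * (yE ^ k)⁻¹ := by
  have hr : Rel (α tG) := by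
    obtain ⟨h1, h2, h3⟩ := rel_tG
    refine ⟨?_, ?_, ?_⟩
    · have := congrArg α h1
      rwa [map_pow, map_mul, hα, map_one] at this
    · have := congrArg α h2
      rwa [map_pow, map_mul, map_pow, hα, map_one] at this
    · have := congrArg α h3
      rwa [map_pow, map_mul, map_mul, map_mul, map_mul, map_mul, map_pow, map_pow, map_pow, hα,
        map_one] at this
  obtain ⟨k, hk⟩ := survivors (α tG) (aut_isCl α) hr
  refine ⟨12 * k, ?_⟩
  have hinv : (yE ^ k)⁻¹ = yE ^ (12 * k) := by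
    apply inv_eq_of_mul_eq_one_left
    rw [← pow_add, show 12 * k + k = 13 * k by ring, pow_mul, yE_pow13, one_pow]
  rw [hk, ← hinv, inv_inv]

end Cfsg.Agent.Lib.Helper90_SuzAut
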