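import Mathlib

/-!
# A simplicity criterion for primitive groups (helper96)

Let the finite group `G` act faithfully and primitively on the finite set `X`, and let `q` be coprime to
`|G| / |X|` (the order of a point stabiliser).  If `G` is generated by elements `z` with `z ^ q = 1`, then `G` is
simple: a nontrivial normal subgroup `N` is transitive, so `|X|` divides `|N|` and the index of `N` divides
`|G| / |X|`; in `G ⧸ N` the image of such a `z` has order dividing both `q` and the index of `N`, so it is trivial.
-/

set_option autoImplicit false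

namespace Cfsg.Agent.Lib.Helper96_PrimSimple

open MulAction

variable {G X : Type*} [Group G] [MulAction G X]

/-- a transitive subgroup has order divisible by the number of points -/
theorem card_dvd_of_pretransitive [Finite G] [Finite X] (N : Subgroup G) [IsPretransitive N X] (x : X) :
    Nat.card X ∣ Nat.card N := by
  have h1 : Nat.card (orbit N x) * Nat.card (stabilizer N x) = Nat.card N := by
    rw [← Nat.card_prod]
    exact Nat.card_congr (orbitProdStabilizerEquivGroup N x)
  have h2 : orbit N x = Set.univ := orbit_eq_univ N x
  have h3 : Nat.card (orbit N x) = Nat.card X := by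
    rw [h2]
    exact Nat.card_congr (Equiv.Set.univ X)
  rw [h3] at h1
  exact Dvd.intro _ h1

/-- **Simplicity criterion**: faithful primitive action, generation by elements of exponent `q` coprime to the
order of a point stabiliser. -/
theorem isSimpleGroup_of_primitive [Finite G] [Nontrivial G] [Finite X] [IsPreprimitive G X]
    (hfaith : ∀ g : G, (∀ x : X, g • x = x) → g = 1)
    (q : ℕ) (hq : Nat.Coprime q (Nat.card G / Nat.card X))
    (hgen : Subgroup.closure {z : G | z ^ q = 1} = ⊤) : IsSimpleGroup G := by
  refine ⟨fun N hN => ?_⟩
  by_cases hbot : N = ⊥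
  · exact Or.inl hbot
  refine Or.inr ?_
  -- `N` acts nontrivially
  have hfix : fixedPoints N X ≠ Set.univ := by
    intro h
    apply hbot
    rw [Subgroup.eq_bot_iff_forall]
    intro n hn
    apply hfaith
    intro x
    have hx : x ∈ fixedPoints N X := by rw [h]; exact Set.mem_univ x
    exact hx ⟨n, hn⟩
  have : IsPretransitive N X := IsQuasiPreprimitive.isPretransitive_of_normal hfix
  obtain ⟨x, -⟩ := (Set.ne_univ_iff_exists_notMem _).mp hfix
  have hdvd : Nat.card X ∣ Nat.card N := card_dvd_of_pretransitive N x
  have hXpos : 0 < Nat.card X := Nat.card_pos_iff.mpr ⟨⟨x⟩, inferInstance⟩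
  -- the index of `N` divides `|G| / |X|`
  have hidx : N.index ∣ Nat.card G / Nat.card X := by
    obtain ⟨c, hc⟩ := hdvd
    have h1 : Nat.card G = N.index * Nat.card N := (N.index_mul_card).symm
    rw [hc] at h1
    have h2 : Nat.card G / Nat.card X = N.index * c := by
      rw [h1, show N.index * (Nat.card X * c) = Nat.card X * (N.index * c) by ring]
      exact Nat.mul_div_cancel_left _ hXpos
    rw [h2]
    exact Dvd.intro _ rfl
  have hcop : Nat.Coprime q N.index := Nat.Coprime.coprime_dvd_right hidx hq
  -- elements of exponent `q` lie in `N`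
  rw [eq_top_iff, ← hgen, Subgroup.closure_le]
  intro z hz
  have hz' : z ^ q = 1 := hz
  have h1 : orderOf (QuotientGroup.mk z : G ⧸ N) ∣ q := by
    apply orderOf_dvd_of_pow_eq_one
    rw [← QuotientGroup.mk_pow, hz']
    rfl
  have h2 : orderOf (QuotientGroup.mk z : G ⧸ N) ∣ N.index := by
    rw [Subgroup.index_eq_card]
    exact orderOf_dvd_natCard _
  have h3 : orderOf (QuotientGroup.mk z : G ⧸ N) = 1 := by
    have := Nat.dvd_gcd h1 h2
    rw [hcop] at this
    exact Nat.dvd_one.mp this
  rw [orderOf_eq_one_iff, QuotientGroup.eq_one_iff] at h3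
  exact h3

end Cfsg.Agent.Lib.Helper96_PrimSimple
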