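import Cfsg.Agent.Lib.Helper96_PermWord
import Cfsg.Agent.Lib.Helper28_S1680Def

/-!
# Every generator of Suz is a quotient of two elements with trivial 11th power (helper96; generated)

For the generator `s` the words `x_s` and `s x_s` both have trivial 11th power in the action on the 1782 points.
-/

set_option autoImplicit false
set_option Elab.async false
set_option maxRecDepth 100000

namespace Cfsg.Agent.Lib.Helper96_SuzEleven

open Cfsg.Agent.Lib.Helper28_CosetPerm Cfsg.Agent.Lib.Helper96_PermWord Cfsg.Agent.Lib.Helper28_S1680 Cfsg.Agent.Lib.Helper28_S1680Tab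

/-- eleven-fold iterate -/
def p11 (f : ℕ → ℕ) (x : ℕ) : ℕ := f (f (f (f (f (f (f (f (f (f (f x))))))))))

theorem p11_walk (u : List (Cfsg.Spor.Suz.Gen × Bool)) (x : ℕ) :
    p11 (fun y => walk 32767 col u y) x = wpow 32767 col u 11 x := rfl

theorem wpow_of_p11 (f : ℕ → ℕ) (u : List (Cfsg.Spor.Suz.Gen × Bool)) (hf : ∀ x, f x = walk 32767 col u x)
    (h : allRange (fun x => Nat.beq (p11 f x) x) 15 0 1782 = true) :
    ∀ j < 1782, wpow 32767 col u 11 (j * 15) = j * 15 := by
  intro j hj
  have h1 := (allRange_iff _ 15 0 1782).mp h j hj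
  rw [Nat.zero_add] at h1
  have h2 := Nat.eq_of_beq_eq_true h1
  have h3 : f = fun y => walk 32767 col u y := funext hf
  rw [h3, p11_walk] at h2
  exact h2

/-- the word `x` for the generator a -/
def xa : List (Cfsg.Spor.Suz.Gen × Bool) := [(.b, true), (.c, true), (.d, true), (.e, true), (.f, true), (.g, true)]

/-- the word `a x` -/
def ya : List (Cfsg.Spor.Suz.Gen × Bool) := (.a, true) :: xa

/-- the walk along `xa`, unrolled -/
def wxa (x : ℕ) : ℕ := Nat.land (Nat.shiftRight cG (Nat.land (Nat.shiftRight cF (Nat.land (Nat.shiftRight cE (Nat.land (Nat.shiftRight cD (Nat.land (Nat.shiftRight cC (Nat.land (Nat.shiftRight cB x) 32767)) 32767)) 32767)) 32767)) 32767)) 32767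

theorem wxa_eq (x : ℕ) : wxa x = walk 32767 col xa x := rfl

set_option maxHeartbeats 4000000 in
theorem xa_chk : allRange (fun x => Nat.beq (p11 wxa x) x) 15 0 1782 = true := by
  decide +kernel

theorem xa_ok : ∀ j < 1782, wpow 32767 col xa 11 (j * 15) = j * 15 :=
  wpow_of_p11 wxa xa wxa_eq xa_chk

/-- the walk along `ya`, unrolled -/
def wya (x : ℕ) : ℕ := Nat.land (Nat.shiftRight cG (Nat.land (Nat.shiftRight cF (Nat.land (Nat.shiftRight cE (Nat.land (Nat.shiftRight cD (Nat.land (Nat.shiftRight cC (Nat.land (Nat.shiftRight cB (Nat.land (Nat.shiftRight cA x) 32767)) 32767)) 32767)) 32767)) 32767)) 32767)) 32767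

theorem wya_eq (x : ℕ) : wya x = walk 32767 col ya x := rfl

set_option maxHeartbeats 4000000 in
theorem ya_chk : allRange (fun x => Nat.beq (p11 wya x) x) 15 0 1782 = true := by
  decide +kernel

theorem ya_ok : ∀ j < 1782, wpow 32767 col ya 11 (j * 15) = j * 15 :=
  wpow_of_p11 wya ya wya_eq ya_chk

/-- the word `x` for the generator b -/
def xb : List (Cfsg.Spor.Suz.Gen × Bool) := [(.a, true), (.b, true), (.c, true), (.d, true), (.e, true), (.f, true), (.g, true)]

/-- the word `b x` -/
def yb : List (Cfsg.Spor.Suz.Gen × Bool) := (.b, true) :: xb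

/-- the walk along `xb`, unrolled -/
def wxb (x : ℕ) : ℕ := Nat.land (Nat.shiftRight cG (Nat.land (Nat.shiftRight cF (Nat.land (Nat.shiftRight cE (Nat.land (Nat.shiftRight cD (Nat.land (Nat.shiftRight cC (Nat.land (Nat.shiftRight cB (Nat.land (Nat.shiftRight cA x) 32767)) 32767)) 32767)) 32767)) 32767)) 32767)) 32767

theorem wxb_eq (x : ℕ) : wxb x = walk 32767 col xb x := rfl

set_option maxHeartbeats 4000000 in
theorem xb_chk : allRange (fun x => Nat.beq (p11 wxb x) x) 15 0 1782 = true := by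
  decide +kernel

theorem xb_ok : ∀ j < 1782, wpow 32767 col xb 11 (j * 15) = j * 15 :=
  wpow_of_p11 wxb xb wxb_eq xb_chk

/-- the walk along `yb`, unrolled -/
def wyb (x : ℕ) : ℕ := Nat.land (Nat.shiftRight cG (Nat.land (Nat.shiftRight cF (Nat.land (Nat.shiftRight cE (Nat.land (Nat.shiftRight cD (Nat.land (Nat.shiftRight cC (Nat.land (Nat.shiftRight cB (Nat.land (Nat.shiftRight cA (Nat.land (Nat.shiftRight cB x) 32767)) 32767)) 32767)) 32767)) 32767)) 32767)) 32767)) 32767

theorem wyb_eq (x : ℕ) : wyb x = walk 32767 col yb x := rfl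

set_option maxHeartbeats 4000000 in
theorem yb_chk : allRange (fun x => Nat.beq (p11 wyb x) x) 15 0 1782 = true := by
  decide +kernel

theorem yb_ok : ∀ j < 1782, wpow 32767 col yb 11 (j * 15) = j * 15 :=
  wpow_of_p11 wyb yb wyb_eq yb_chk

/-- the word `x` for the generator c -/
def xc : List (Cfsg.Spor.Suz.Gen × Bool) := [(.b, true), (.c, true), (.a, true), (.b, true), (.c, true), (.d, true), (.e, true), (.f, true), (.g, true), (.c, true), (.b, true)]

/-- the word `c x` -/
def yc : List (Cfsg.Spor.Suz.Gen × Bool) := (.c, true) :: xc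

/-- the walk along `xc`, unrolled -/
def wxc (x : ℕ) : ℕ := Nat.land (Nat.shiftRight cB (Nat.land (Nat.shiftRight cC (Nat.land (Nat.shiftRight cG (Nat.land (Nat.shiftRight cF (Nat.land (Nat.shiftRight cE (Nat.land (Nat.shiftRight cD (Nat.land (Nat.shiftRight cC (Nat.land (Nat.shiftRight cB (Nat.land (Nat.shiftRight cA (Nat.land (Nat.shiftRight cC (Nat.land (Nat.shiftRight cB x) 32767)) 32767)) 32767)) 32767)) 32767)) 32767)) 32767)) 32767)) 32767)) 32767)) 32767

theorem wxc_eq (x : ℕ) : wxc x = walk 32767 col xc x := rfl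

set_option maxHeartbeats 4000000 in
theorem xc_chk : allRange (fun x => Nat.beq (p11 wxc x) x) 15 0 1782 = true := by
  decide +kernel

theorem xc_ok : ∀ j < 1782, wpow 32767 col xc 11 (j * 15) = j * 15 :=
  wpow_of_p11 wxc xc wxc_eq xc_chk

/-- the walk along `yc`, unrolled -/
def wyc (x : ℕ) : ℕ := Nat.land (Nat.shiftRight cB (Nat.land (Nat.shiftRight cC (Nat.land (Nat.shiftRight cG (Nat.land (Nat.shiftRight cF (Nat.land (Nat.shiftRight cE (Nat.land (Nat.shiftRight cD (Nat.land (Nat.shiftRight cC (Nat.land (Nat.shiftRight cB (Nat.land (Nat.shiftRight cA (Nat.land (Nat.shiftRight cC (Nat.land (Nat.shiftRight cB (Nat.land (Nat.shiftRight cC x) 32767)) 32767)) 32767)) 32767)) 32767)) 32767)) 32767)) 32767)) 32767)) 32767)) 32767)) 32767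

theorem wyc_eq (x : ℕ) : wyc x = walk 32767 col yc x := rfl

set_option maxHeartbeats 4000000 in
theorem yc_chk : allRange (fun x => Nat.beq (p11 wyc x) x) 15 0 1782 = true := by
  decide +kernel

theorem yc_ok : ∀ j < 1782, wpow 32767 col yc 11 (j * 15) = j * 15 :=
  wpow_of_p11 wyc yc wyc_eq yc_chk

/-- the word `x` for the generator d -/
def xd : List (Cfsg.Spor.Suz.Gen × Bool) := [(.e, true), (.c, true), (.b, true), (.a, true), (.b, true), (.c, true), (.d, true), (.e, true), (.f, true), (.g, true), (.b, true), (.c, true), (.e, true)]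

/-- the word `d x` -/
def yd : List (Cfsg.Spor.Suz.Gen × Bool) := (.d, true) :: xd

/-- the walk along `xd`, unrolled -/
def wxd (x : ℕ) : ℕ := Nat.land (Nat.shiftRight cE (Nat.land (Nat.shiftRight cC (Nat.land (Nat.shiftRight cB (Nat.land (Nat.shiftRight cG (Nat.land (Nat.shiftRight cF (Nat.land (Nat.shiftRight cE (Nat.land (Nat.shiftRight cD (Nat.land (Nat.shiftRight cC (Nat.land (Nat.shiftRight cB (Nat.land (Nat.shiftRight cA (Nat.land (Nat.shiftRight cB (Nat.land (Nat.shiftRight cC (Nat.land (Nat.shiftRight cE x) 32767)) 32767)) 32767)) 32767)) 32767)) 32767)) 32767)) 32767)) 32767)) 32767)) 32767)) 32767)) 32767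

theorem wxd_eq (x : ℕ) : wxd x = walk 32767 col xd x := rfl

set_option maxHeartbeats 4000000 in
theorem xd_chk : allRange (fun x => Nat.beq (p11 wxd x) x) 15 0 1782 = true := by
  decide +kernel

theorem xd_ok : ∀ j < 1782, wpow 32767 col xd 11 (j * 15) = j * 15 :=
  wpow_of_p11 wxd xd wxd_eq xd_chk

/-- the walk along `yd`, unrolled -/
def wyd (x : ℕ) : ℕ := Nat.land (Nat.shiftRight cE (Nat.land (Nat.shiftRight cC (Nat.land (Nat.shiftRight cB (Nat.land (Nat.shiftRight cG (Nat.land (Nat.shiftRight cF (Nat.land (Nat.shiftRight cE (Nat.land (Nat.shiftRight cD (Nat.land (Nat.shiftRight cC (Nat.land (Nat.shiftRight cB (Nat.land (Nat.shiftRight cA (Nat.land (Nat.shiftRight cB (Nat.land (Nat.shiftRight cC (Nat.land (Nat.shiftRight cE (Nat.land (Nat.shiftRight cD x) 32767)) 32767)) 32767)) 32767)) 32767)) 32767)) 32767)) 32767)) 32767)) 32767)) 32767)) 32767)) 32767)) 32767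

theorem wyd_eq (x : ℕ) : wyd x = walk 32767 col yd x := rfl

set_option maxHeartbeats 4000000 in
theorem yd_chk : allRange (fun x => Nat.beq (p11 wyd x) x) 15 0 1782 = true := by
  decide +kernel

theorem yd_ok : ∀ j < 1782, wpow 32767 col yd 11 (j * 15) = j * 15 :=
  wpow_of_p11 wyd yd wyd_eq yd_chk

/-- the word `x` for the generator e -/
def xe : List (Cfsg.Spor.Suz.Gen × Bool) := [(.d, true), (.c, true), (.b, true), (.a, true), (.b, true), (.c, true), (.d, true), (.e, true), (.f, true), (.g, true), (.b, true), (.c, true), (.d, true)]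

/-- the word `e x` -/
def ye : List (Cfsg.Spor.Suz.Gen × Bool) := (.e, true) :: xe

/-- the walk along `xe`, unrolled -/
def wxe (x : ℕ) : ℕ := Nat.land (Nat.shiftRight cD (Nat.land (Nat.shiftRight cC (Nat.land (Nat.shiftRight cB (Nat.land (Nat.shiftRight cG (Nat.land (Nat.shiftRight cF (Nat.land (Nat.shiftRight cE (Nat.land (Nat.shiftRight cD (Nat.land (Nat.shiftRight cC (Nat.land (Nat.shiftRight cB (Nat.land (Nat.shiftRight cA (Nat.land (Nat.shiftRight cB (Nat.land (Nat.shiftRight cC (Nat.land (Nat.shiftRight cD x) 32767)) 32767)) 32767)) 32767)) 32767)) 32767)) 32767)) 32767)) 32767)) 32767)) 32767)) 32767)) 32767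

theorem wxe_eq (x : ℕ) : wxe x = walk 32767 col xe x := rfl

set_option maxHeartbeats 4000000 in
theorem xe_chk : allRange (fun x => Nat.beq (p11 wxe x) x) 15 0 1782 = true := by
  decide +kernel

theorem xe_ok : ∀ j < 1782, wpow 32767 col xe 11 (j * 15) = j * 15 :=
  wpow_of_p11 wxe xe wxe_eq xe_chk

/-- the walk along `ye`, unrolled -/
def wye (x : ℕ) : ℕ := Nat.land (Nat.shiftRight cD (Nat.land (Nat.shiftRight cC (Nat.land (Nat.shiftRight cB (Nat.land (Nat.shiftRight cG (Nat.land (Nat.shiftRight cF (Nat.land (Nat.shiftRight cE (Nat.land (Nat.shiftRight cD (Nat.land (Nat.shiftRight cC (Nat.land (Nat.shiftRight cB (Nat.land (Nat.shiftRight cA (Nat.land (Nat.shiftRight cB (Nat.land (Nat.shiftRight cC (Nat.land (Nat.shiftRight cD (Nat.land (Nat.shiftRight cE x) 32767)) 32767)) 32767)) 32767)) 32767)) 32767)) 32767)) 32767)) 32767)) 32767)) 32767)) 32767)) 32767)) 32767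

theorem wye_eq (x : ℕ) : wye x = walk 32767 col ye x := rfl

set_option maxHeartbeats 4000000 in
theorem ye_chk : allRange (fun x => Nat.beq (p11 wye x) x) 15 0 1782 = true := by
  decide +kernel

theorem ye_ok : ∀ j < 1782, wpow 32767 col ye 11 (j * 15) = j * 15 :=
  wpow_of_p11 wye ye wye_eq ye_chk

/-- the word `x` for the generator f -/
def xf : List (Cfsg.Spor.Suz.Gen × Bool) := [(.b, true), (.f, true), (.a, true), (.b, true), (.c, true), (.d, true), (.e, true), (.f, true), (.g, true), (.f, true), (.b, true)]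

/-- the word `f x` -/
def yf : List (Cfsg.Spor.Suz.Gen × Bool) := (.f, true) :: xf

/-- the walk along `xf`, unrolled -/
def wxf (x : ℕ) : ℕ := Nat.land (Nat.shiftRight cB (Nat.land (Nat.shiftRight cF (Nat.land (Nat.shiftRight cG (Nat.land (Nat.shiftRight cF (Nat.land (Nat.shiftRight cE (Nat.land (Nat.shiftRight cD (Nat.land (Nat.shiftRight cC (Nat.land (Nat.shiftRight cB (Nat.land (Nat.shiftRight cA (Nat.land (Nat.shiftRight cF (Nat.land (Nat.shiftRight cB x) 32767)) 32767)) 32767)) 32767)) 32767)) 32767)) 32767)) 32767)) 32767)) 32767)) 32767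

theorem wxf_eq (x : ℕ) : wxf x = walk 32767 col xf x := rfl

set_option maxHeartbeats 4000000 in
theorem xf_chk : allRange (fun x => Nat.beq (p11 wxf x) x) 15 0 1782 = true := by
  decide +kernel

theorem xf_ok : ∀ j < 1782, wpow 32767 col xf 11 (j * 15) = j * 15 :=
  wpow_of_p11 wxf xf wxf_eq xf_chk

/-- the walk along `yf`, unrolled -/
def wyf (x : ℕ) : ℕ := Nat.land (Nat.shiftRight cB (Nat.land (Nat.shiftRight cF (Nat.land (Nat.shiftRight cG (Nat.land (Nat.shiftRight cF (Nat.land (Nat.shiftRight cE (Nat.land (Nat.shiftRight cD (Nat.land (Nat.shiftRight cC (Nat.land (Nat.shiftRight cB (Nat.land (Nat.shiftRight cA (Nat.land (Nat.shiftRight cF (Nat.land (Nat.shiftRight cB (Nat.land (Nat.shiftRight cF x) 32767)) 32767)) 32767)) 32767)) 32767)) 32767)) 32767)) 32767)) 32767)) 32767)) 32767)) 32767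

theorem wyf_eq (x : ℕ) : wyf x = walk 32767 col yf x := rfl

set_option maxHeartbeats 4000000 in
theorem yf_chk : allRange (fun x => Nat.beq (p11 wyf x) x) 15 0 1782 = true := by
  decide +kernel

theorem yf_ok : ∀ j < 1782, wpow 32767 col yf 11 (j * 15) = j * 15 :=
  wpow_of_p11 wyf yf wyf_eq yf_chk

/-- the word `x` for the generator g -/
def xg : List (Cfsg.Spor.Suz.Gen × Bool) := [(.b, true), (.g, true), (.a, true), (.b, true), (.c, true), (.d, true), (.e, true), (.f, true), (.b, true)]

/-- the word `g x` -/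
def yg : List (Cfsg.Spor.Suz.Gen × Bool) := (.g, true) :: xg

/-- the walk along `xg`, unrolled -/
def wxg (x : ℕ) : ℕ := Nat.land (Nat.shiftRight cB (Nat.land (Nat.shiftRight cF (Nat.land (Nat.shiftRight cE (Nat.land (Nat.shiftRight cD (Nat.land (Nat.shiftRight cC (Nat.land (Nat.shiftRight cB (Nat.land (Nat.shiftRight cA (Nat.land (Nat.shiftRight cG (Nat.land (Nat.shiftRight cB x) 32767)) 32767)) 32767)) 32767)) 32767)) 32767)) 32767)) 32767)) 32767

theorem wxg_eq (x : ℕ) : wxg x = walk 32767 col xg x := rfl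

set_option maxHeartbeats 4000000 in
theorem xg_chk : allRange (fun x => Nat.beq (p11 wxg x) x) 15 0 1782 = true := by
  decide +kernel

theorem xg_ok : ∀ j < 1782, wpow 32767 col xg 11 (j * 15) = j * 15 :=
  wpow_of_p11 wxg xg wxg_eq xg_chk

/-- the walk along `yg`, unrolled -/
def wyg (x : ℕ) : ℕ := Nat.land (Nat.shiftRight cB (Nat.land (Nat.shiftRight cF (Nat.land (Nat.shiftRight cE (Nat.land (Nat.shiftRight cD (Nat.land (Nat.shiftRight cC (Nat.land (Nat.shiftRight cB (Nat.land (Nat.shiftRight cA (Nat.land (Nat.shiftRight cG (Nat.land (Nat.shiftRight cB (Nat.land (Nat.shiftRight cG x) 32767)) 32767)) 32767)) 32767)) 32767)) 32767)) 32767)) 32767)) 32767)) 32767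

theorem wyg_eq (x : ℕ) : wyg x = walk 32767 col yg x := rfl

set_option maxHeartbeats 4000000 in
theorem yg_chk : allRange (fun x => Nat.beq (p11 wyg x) x) 15 0 1782 = true := by
  decide +kernel

theorem yg_ok : ∀ j < 1782, wpow 32767 col yg 11 (j * 15) = j * 15 :=
  wpow_of_p11 wyg yg wyg_eq yg_chk

end Cfsg.Agent.Lib.Helper96_SuzEleven
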