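import Cfsg.Agent.Lib.Helper96_SuzChain
import Cfsg.Agent.Lib.Helper28_S1680

/-!
# The permutation group of Suz on 1782 points has at least 448345497600 elements (helper96)
-/

set_option autoImplicit false

namespace Cfsg.Agent.Lib.Helper96_SuzLower

open Cfsg.Spor Cfsg.Agent.Lib.Helper28_CosetPerm Cfsg.Agent.Lib.Helper96_PermLower
open Cfsg.Agent.Lib.Helper28_S1680 Cfsg.Agent.Lib.Helper96_SuzChain

/-- the permutation representation of Suz on the 1782 cosets -/
noncomputable def ψ : Suz →* Equiv.Perm (Fin 1782) := psi (perm verified.hv) verified.hrel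

theorem ψ_mk (u : FreeGroup Suz.Gen) :
    ψ (PresentedGroup.mk _ u) = FreeGroup.lift (perm verified.hv) u := rfl

theorem all_of_allRange (p : ℕ → Bool) (h : allRange p 15 0 1782 = true) : ∀ k < 1782, p (k * 15) = true := by
  intro k hk
  have := (allRange_iff p 15 0 1782).mp h k hk
  rwa [Nat.zero_add] at this

/-- the generic level: labelled points are reached from the base point inside `K` -/
theorem level_reach (oid rnk : ℕ) (b : Fin 1782) (cl : List (List (Suz.Gen × Bool)))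
    (K : Subgroup (Equiv.Perm (Fin 1782)))
    (hK : ∀ u ∈ cl, FreeGroup.lift (perm verified.hv) (FreeGroup.mk u) ∈ K)
    (hchk : allRange (fun x => lchk 32767 col oid rnk (b * 15) cl x) 15 0 1782 = true) :
    ∀ y ∈ orbSet 1782 15 32767 oid 1, ∃ g ∈ K, g • b = y := by
  intro y hy
  simp only [orbSet, Finset.mem_filter, Finset.mem_univ, true_and] at hy
  obtain ⟨g, hg, hgy⟩ := reach_of_lchk verified.hv oid rnk b cl (all_of_allRange _ hchk) y hy
  refine ⟨FreeGroup.lift (perm verified.hv) g, ?_, hgy⟩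
  have hle : Subgroup.closure {g : FreeGroup Suz.Gen | ∃ u ∈ cl, FreeGroup.mk u = g} ≤
      K.comap (FreeGroup.lift (perm verified.hv)) := by
    rw [Subgroup.closure_le]
    rintro _ ⟨u, hu, rfl⟩
    exact hK u hu
  exact hle hg

theorem mem_range (u : List (Suz.Gen × Bool)) :
    FreeGroup.lift (perm verified.hv) (FreeGroup.mk u) ∈ ψ.range :=
  ⟨PresentedGroup.mk _ (FreeGroup.mk u), rfl⟩

theorem fix_of_all (cl : List (List (Suz.Gen × Bool))) (b : Fin 1782)
    (h : cl.all (fun u => Nat.beq (walk 32767 col u (b * 15)) (b * 15)) = true) :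
    ∀ u ∈ cl, FreeGroup.lift (perm verified.hv) (FreeGroup.mk u) ∈
      MulAction.stabilizer (Equiv.Perm (Fin 1782)) b := by
  intro u hu
  rw [List.all_eq_true] at h
  have h1 := Nat.eq_of_beq_eq_true (h u hu)
  rw [MulAction.mem_stabilizer_iff]
  exact lift_fix_of_walk verified.hv u b h1

/-- the base points -/
def b1 : Fin 1782 := ⟨0, by norm_num⟩
/-- the base points -/
def b2 : Fin 1782 := ⟨995, by norm_num⟩
/-- the base points -/
def b3 : Fin 1782 := ⟨141, by norm_num⟩
/-- the base points -/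
def b4 : Fin 1782 := ⟨3, by norm_num⟩
/-- the base points -/
def b5 : Fin 1782 := ⟨14, by norm_num⟩

/-- the stabiliser chain -/
noncomputable def K1 : Subgroup (Equiv.Perm (Fin 1782)) := ψ.range
/-- the stabiliser chain -/
noncomputable def K2 : Subgroup (Equiv.Perm (Fin 1782)) := K1 ⊓ MulAction.stabilizer (Equiv.Perm (Fin 1782)) b1
/-- the stabiliser chain -/
noncomputable def K3 : Subgroup (Equiv.Perm (Fin 1782)) := K2 ⊓ MulAction.stabilizer (Equiv.Perm (Fin 1782)) b2
/-- the stabiliser chain -/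
noncomputable def K4 : Subgroup (Equiv.Perm (Fin 1782)) := K3 ⊓ MulAction.stabilizer (Equiv.Perm (Fin 1782)) b3
/-- the stabiliser chain -/
noncomputable def K5 : Subgroup (Equiv.Perm (Fin 1782)) := K4 ⊓ MulAction.stabilizer (Equiv.Perm (Fin 1782)) b4

theorem card_orb (oid m : ℕ) (h : cntB (fun k => Nat.beq (nxt 32767 oid (Nat.mul k 15)) 1) 1782 = m) :
    (orbSet 1782 15 32767 oid 1).card = m := by
  rw [card_orbSet, h]

theorem card5 : 3 ≤ Nat.card K5 := by
  have h := card_step K5 b5 (orbSet 1782 15 32767 oid5 1) 1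
    (level_reach oid5 rnk5 b5 cl5 K5 (fun u hu =>
      ⟨⟨⟨⟨mem_range u, fix_of_all cl5 b1 fix5_1 u hu⟩, fix_of_all cl5 b2 fix5_2 u hu⟩,
        fix_of_all cl5 b3 fix5_3 u hu⟩, fix_of_all cl5 b4 fix5_4 u hu⟩) chk5)
    Nat.card_pos
  rwa [card_orb oid5 3 Cfsg.Agent.Lib.Helper96_SuzChain.cnt5] at h

theorem card4 : 192 * 3 ≤ Nat.card K4 := by
  have h := card_step K4 b4 (orbSet 1782 15 32767 oid4 1) 3
    (level_reach oid4 rnk4 b4 cl4 K4 (fun u hu =>
      ⟨⟨⟨mem_range u, fix_of_all cl4 b1 fix4_1 u hu⟩, fix_of_all cl4 b2 fix4_2 u hu⟩,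
        fix_of_all cl4 b3 fix4_3 u hu⟩) chk4)
    card5
  rwa [card_orb oid4 192 Cfsg.Agent.Lib.Helper96_SuzChain.cnt4] at h

theorem card3 : 1050 * (192 * 3) ≤ Nat.card K3 := by
  have h := card_step K3 b3 (orbSet 1782 15 32767 oid3 1) (192 * 3)
    (level_reach oid3 rnk3 b3 cl3 K3 (fun u hu =>
      ⟨⟨mem_range u, fix_of_all cl3 b1 fix3_1 u hu⟩, fix_of_all cl3 b2 fix3_2 u hu⟩) chk3)
    card4
  rwa [card_orb oid3 1050 Cfsg.Agent.Lib.Helper96_SuzChain.cnt3] at h

theorem card2 : 416 * (1050 * (192 * 3)) ≤ Nat.card K2 := by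
  have h := card_step K2 b2 (orbSet 1782 15 32767 oid2 1) (1050 * (192 * 3))
    (level_reach oid2 rnk2 b2 cl2 K2 (fun u hu =>
      ⟨mem_range u, fix_of_all cl2 b1 fix2_1 u hu⟩) chk2)
    card3
  rwa [card_orb oid2 416 Cfsg.Agent.Lib.Helper96_SuzChain.cnt2] at h

theorem card1 : 1782 * (416 * (1050 * (192 * 3))) ≤ Nat.card K1 := by
  have h := card_step K1 b1 (orbSet 1782 15 32767 oid1 1) (416 * (1050 * (192 * 3)))
    (level_reach oid1 rnk1 b1 cl1 K1 (fun u _ => mem_range u) chk1)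
    card2
  rwa [card_orb oid1 1782 Cfsg.Agent.Lib.Helper96_SuzChain.cnt1] at h

/-- the lower bound for the order of the permutation group -/
theorem range_card_ge : 448345497600 ≤ Nat.card ψ.range := by
  have h := card1
  norm_num at h
  exact h

end Cfsg.Agent.Lib.Helper96_SuzLower
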