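import Cfsg.Agent.Lib.Helper96_SuzOrderUpper
import Cfsg.Agent.Lib.Helper96_SuzLower
import Cfsg.Agent.Lib.Helper96_SuzEleven
import Cfsg.Agent.Lib.Helper96_PrimSimple

/-!
# The presented group Suz is simple of order 448345497600 (helper96)
-/

set_option autoImplicit false

namespace Cfsg.Agent.Lib.Helper96_SuzSimple

open Cfsg.Spor Cfsg.Agent.Lib.Helper28_CosetPerm Cfsg.Agent.Lib.Helper96_PermLower
open Cfsg.Agent.Lib.Helper96_PermWord Cfsg.Agent.Lib.Helper96_SuzLower
open Cfsg.Agent.Lib.Helper28_S1680 Cfsg.Agent.Lib.Helper96_SuzEleven MulAction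
open scoped Pointwise

theorem suz_finite : Finite Suz := Cfsg.Agent.Lib.Helper96_SuzOrderUpper.suz_card_le.1

/-- the order -/
theorem card_suz : Nat.card Suz = 448345497600 := by
  have := suz_finite
  have h1 : Nat.card ψ.range ≤ Nat.card Suz :=
    Nat.card_le_card_of_surjective ψ.rangeRestrict ψ.rangeRestrict_surjective
  exact le_antisymm Cfsg.Agent.Lib.Helper96_SuzOrderUpper.suz_card_le.2 (le_trans range_card_ge h1)

/-- the permutation representation is faithful -/
theorem ψ_injective : Function.Injective ψ := by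
  have := suz_finite
  have h1 : Nat.card ψ.range ≤ Nat.card Suz :=
    Nat.card_le_card_of_surjective ψ.rangeRestrict ψ.rangeRestrict_surjective
  have h2 : Nat.card Suz = Nat.card ψ.range :=
    le_antisymm (by rw [card_suz]; exact range_card_ge) h1
  have h3 : Function.Bijective ψ.rangeRestrict :=
    (Nat.bijective_iff_surjective_and_card _).mpr ⟨ψ.rangeRestrict_surjective, h2⟩
  intro a b hab
  apply h3.1
  exact Subtype.ext hab

/-- a word acting trivially is trivial in the group -/
theorem mk_eq_one_of_lift (g : FreeGroup Suz.Gen) (h : FreeGroup.lift (perm verified.hv) g = 1) :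
    (PresentedGroup.mk _ g : Suz) = 1 := by
  apply ψ_injective
  rw [map_one]
  exact h

/-- the element of a word -/
noncomputable def el (u : List (Suz.Gen × Bool)) : Suz := PresentedGroup.mk _ (FreeGroup.mk u)

theorem el_pow (u : List (Suz.Gen × Bool)) (h : ∀ j < 1782, wpow 32767 col u 11 (j * 15) = j * 15) :
    el u ^ 11 = 1 := by
  unfold el
  rw [← map_pow]
  apply mk_eq_one_of_lift
  rw [map_pow]
  exact lift_pow_eq_one_of_wpow verified.hv u 11 h

theorem el_cons (s : Suz.Gen) (u : List (Suz.Gen × Bool)) :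
    el ((s, true) :: u) = PresentedGroup.of s * el u := by
  unfold el
  have : FreeGroup.mk ((s, true) :: u) = FreeGroup.of s * FreeGroup.mk u := by
    rw [FreeGroup.of, FreeGroup.mul_mk]
    rfl
  rw [this, map_mul]
  rfl

/-- a generator lies in the subgroup generated by the elements of exponent 11 -/
theorem gen_mem (s : Suz.Gen) (x : List (Suz.Gen × Bool))
    (hx : ∀ j < 1782, wpow 32767 col x 11 (j * 15) = j * 15)
    (hy : ∀ j < 1782, wpow 32767 col ((s, true) :: x) 11 (j * 15) = j * 15) :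
    (PresentedGroup.of s : Suz) ∈ Subgroup.closure {z : Suz | z ^ 11 = 1} := by
  have h1 : el x ∈ Subgroup.closure {z : Suz | z ^ 11 = 1} := Subgroup.subset_closure (el_pow x hx)
  have h2 : el ((s, true) :: x) ∈ Subgroup.closure {z : Suz | z ^ 11 = 1} :=
    Subgroup.subset_closure (el_pow _ hy)
  have h3 : (PresentedGroup.of s : Suz) = el ((s, true) :: x) * (el x)⁻¹ := by
    rw [el_cons, mul_inv_cancel_right]
  rw [h3]
  exact Subgroup.mul_mem _ h2 (Subgroup.inv_mem _ h1)

/-- Suz is generated by elements of exponent 11 -/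
theorem gen_eleven : Subgroup.closure {z : Suz | z ^ 11 = 1} = ⊤ := by
  rw [eq_top_iff, ← PresentedGroup.closure_range_of, Subgroup.closure_le]
  rintro _ ⟨s, rfl⟩
  cases s
  · exact gen_mem .a xa xa_ok ya_ok
  · exact gen_mem .b xb xb_ok yb_ok
  · exact gen_mem .c xc xc_ok yc_ok
  · exact gen_mem .d xd xd_ok yd_ok
  · exact gen_mem .e xe xe_ok ye_ok
  · exact gen_mem .f xf xf_ok yf_ok
  · exact gen_mem .g xg xg_ok yg_ok

/-! ### The action on the 1782 points is primitive -/

/-- the action on the 1782 points -/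
@[reducible] noncomputable def suzAct : MulAction Suz (Fin 1782) := act (perm verified.hv) verified.hrel

attribute [local instance] suzAct

theorem pretrans : IsPretransitive Suz (Fin 1782) :=
  isPretransitive_act (perm verified.hv) verified.hrel verified.htrans

/-- the labels: `0` for the point `0`, `1` and `2` for the two other orbits of the stabiliser -/
theorem lab_chk : allRange (fun x => or (and (Nat.beq (nxt 32767 Cfsg.Agent.Lib.Helper28_S1680Tab.oidA x) 0) (Nat.beq x 0))
    (or (Nat.beq (nxt 32767 Cfsg.Agent.Lib.Helper28_S1680Tab.oidA x) 1)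
      (Nat.beq (nxt 32767 Cfsg.Agent.Lib.Helper28_S1680Tab.oidA x) 2))) 15 0 1782 = true := by
  decide +kernel

theorem lab_cases (y : Fin 1782) : y = 0 ∨ nxt 32767 Cfsg.Agent.Lib.Helper28_S1680Tab.oidA (y * 15) = 1 ∨
    nxt 32767 Cfsg.Agent.Lib.Helper28_S1680Tab.oidA (y * 15) = 2 := by
  have h := all_of_allRange _ lab_chk y y.2
  simp only [Bool.or_eq_true, Bool.and_eq_true] at h
  rcases h with ⟨_, h⟩ | h | h
  · left
    have h' := Nat.eq_of_beq_eq_true h
    apply Fin.ext
    have : (y : ℕ) * 15 = 0 := h'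
    simp only [Fin.val_zero]
    omega
  · exact Or.inr (Or.inl (Nat.eq_of_beq_eq_true h))
  · exact Or.inr (Or.inr (Nat.eq_of_beq_eq_true h))

/-- points with the same nonzero label are conjugate under the stabiliser of `0` -/
theorem reach_sub (j : ℕ) (b : Fin 1782) (hb : bases.getD j 0 = b * 15) (y : Fin 1782)
    (hy : nxt 32767 Cfsg.Agent.Lib.Helper28_S1680Tab.oidA (y * 15) = j) :
    ∃ g ∈ stabilizer Suz (0 : Fin 1782), g • b = y := by
  obtain ⟨g, hg, hgy⟩ := reach_of_ochk verified.hv Cfsg.Agent.Lib.Helper28_S1680Tab.oidA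
    Cfsg.Agent.Lib.Helper28_S1680Tab.rnkA bases cl orb_ok j b hb y hy
  refine ⟨PresentedGroup.mk _ g, ?_, hgy⟩
  have h1 : g ∈ Subgroup.closure ({Suz.a, Suz.b, Suz.c, Suz.d, Suz.e, Suz.f} : Set (FreeGroup Suz.Gen)) := by
    refine (Subgroup.closure_le _).mpr ?_ hg
    rintro _ ⟨u, hu, rfl⟩
    exact cl_mem u hu
  exact map_closure_le_stabilizer (perm verified.hv) verified.hrel _ verified.hsub
    (Subgroup.mem_map_of_mem _ h1)

/-- a block containing `0` that meets a label class contains it -/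
theorem block_class (B : Set (Fin 1782)) (h0 : (0 : Fin 1782) ∈ B) (hB : IsBlock Suz B)
    (j : ℕ) (b : Fin 1782) (hb : bases.getD j 0 = b * 15)
    (y : Fin 1782) (hyB : y ∈ B) (hy : nxt 32767 Cfsg.Agent.Lib.Helper28_S1680Tab.oidA (y * 15) = j)
    (z : Fin 1782) (hz : nxt 32767 Cfsg.Agent.Lib.Helper28_S1680Tab.oidA (z * 15) = j) : z ∈ B := by
  obtain ⟨g1, hg1, rfl⟩ := reach_sub j b hb y hy
  obtain ⟨g2, hg2, rfl⟩ := reach_sub j b hb z hz
  have hg : g2 * g1⁻¹ ∈ stabilizer Suz (0 : Fin 1782) := Subgroup.mul_mem _ hg2 (Subgroup.inv_mem _ hg1)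
  have hfix : (g2 * g1⁻¹) • B = B := by
    apply (isBlock_iff_smul_eq_of_mem.mp hB) h0
    rw [mem_stabilizer_iff.mp hg]
    exact h0
  rw [← hfix]
  refine ⟨g1 • b, hyB, ?_⟩
  show (g2 * g1⁻¹) • (g1 • b) = g2 • b
  rw [mul_smul, inv_smul_smul]

theorem card_L1 : (orbSet 1782 15 32767 Cfsg.Agent.Lib.Helper28_S1680Tab.oidA 1).card = 1365 := by
  rw [card_orbSet, Cfsg.Agent.Lib.Helper28_S1680.cnt1]

theorem card_L2 : (orbSet 1782 15 32767 Cfsg.Agent.Lib.Helper28_S1680Tab.oidA 2).card = 416 := by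
  rw [card_orbSet, Cfsg.Agent.Lib.Helper28_S1680.cnt0]

theorem lab_zero : nxt 32767 Cfsg.Agent.Lib.Helper28_S1680Tab.oidA (((0 : Fin 1782) : ℕ) * 15) = 0 := by
  decide +kernel

/-- the set of a block that contains `0` and exactly one of the two label classes -/
theorem block_eq (B : Set (Fin 1782)) (h0 : (0 : Fin 1782) ∈ B) (j j' : ℕ) (hj : j = 1 ∨ j = 2)
    (hjj' : (j = 1 ∧ j' = 2) ∨ (j = 2 ∧ j' = 1))
    (hL : ∀ z : Fin 1782, nxt 32767 Cfsg.Agent.Lib.Helper28_S1680Tab.oidA (z * 15) = j → z ∈ B)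
    (hn : ¬ ∃ y ∈ B, nxt 32767 Cfsg.Agent.Lib.Helper28_S1680Tab.oidA (y * 15) = j') :
    B.ncard = (orbSet 1782 15 32767 Cfsg.Agent.Lib.Helper28_S1680Tab.oidA j).card + 1 := by
  have hBeq : B = ↑(insert (0 : Fin 1782) (orbSet 1782 15 32767 Cfsg.Agent.Lib.Helper28_S1680Tab.oidA j)) := by
    ext z
    simp only [Finset.coe_insert, Set.mem_insert_iff, Finset.mem_coe, orbSet, Finset.mem_filter,
      Finset.mem_univ, true_and]
    constructor
    · intro hz
      rcases lab_cases z with rfl | hz1 | hz2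
      · exact Or.inl rfl
      · rcases hjj' with ⟨rfl, rfl⟩ | ⟨rfl, rfl⟩
        · exact Or.inr hz1
        · exact absurd ⟨z, hz, hz1⟩ hn
      · rcases hjj' with ⟨rfl, rfl⟩ | ⟨rfl, rfl⟩
        · exact absurd ⟨z, hz, hz2⟩ hn
        · exact Or.inr hz2
    · rintro (rfl | hz)
      · exact h0
      · exact hL z hz
  rw [hBeq, Set.ncard_coe_finset, Finset.card_insert_of_notMem]
  simp only [orbSet, Finset.mem_filter, Finset.mem_univ, true_and]
  rw [lab_zero]
  rcases hj with rfl | rfl <;> decide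

/-- the action on the 1782 points is primitive -/
theorem prim : IsPreprimitive Suz (Fin 1782) := by
  have := pretrans
  apply IsPreprimitive.of_isTrivialBlock_base (0 : Fin 1782)
  intro B h0 hB
  have hdvd : B.ncard ∣ 1782 := by
    have := hB.ncard_dvd_card ⟨0, h0⟩
    rwa [Nat.card_eq_fintype_card, Fintype.card_fin] at this
  by_cases h1 : ∃ y ∈ B, nxt 32767 Cfsg.Agent.Lib.Helper28_S1680Tab.oidA (y * 15) = 1
  · obtain ⟨y1, hy1B, hy1⟩ := h1
    have hL1 : ∀ z : Fin 1782, nxt 32767 Cfsg.Agent.Lib.Helper28_S1680Tab.oidA (z * 15) = 1 → z ∈ B :=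
      fun z hz => block_class B h0 hB 1 (⟨1, by norm_num⟩ : Fin 1782) (by decide) y1 hy1B hy1 z hz
    by_cases h2 : ∃ y ∈ B, nxt 32767 Cfsg.Agent.Lib.Helper28_S1680Tab.oidA (y * 15) = 2
    · obtain ⟨y2, hy2B, hy2⟩ := h2
      right
      ext z
      simp only [Set.mem_univ, iff_true]
      rcases lab_cases z with rfl | hz | hz
      · exact h0
      · exact hL1 z hz
      · exact block_class B h0 hB 2 (⟨47, by norm_num⟩ : Fin 1782) (by decide) y2 hy2B hy2 z hz
    · exfalso
      have hcard := block_eq B h0 1 2 (Or.inl rfl) (Or.inl ⟨rfl, rfl⟩) hL1 h2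
      rw [card_L1] at hcard
      rw [hcard] at hdvd
      norm_num at hdvd
  · by_cases h2 : ∃ y ∈ B, nxt 32767 Cfsg.Agent.Lib.Helper28_S1680Tab.oidA (y * 15) = 2
    · obtain ⟨y2, hy2B, hy2⟩ := h2
      have hL2 : ∀ z : Fin 1782, nxt 32767 Cfsg.Agent.Lib.Helper28_S1680Tab.oidA (z * 15) = 2 → z ∈ B :=
        fun z hz => block_class B h0 hB 2 (⟨47, by norm_num⟩ : Fin 1782) (by decide) y2 hy2B hy2 z hz
      exfalso
      have hcard := block_eq B h0 2 1 (Or.inr rfl) (Or.inr ⟨rfl, rfl⟩) hL2 h1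
      rw [card_L2] at hcard
      rw [hcard] at hdvd
      norm_num at hdvd
    · left
      intro x hx y hy
      have hx0 : x = 0 := by
        rcases lab_cases x with h | h | h
        · exact h
        · exact absurd ⟨x, hx, h⟩ h1
        · exact absurd ⟨x, hx, h⟩ h2
      have hy0 : y = 0 := by
        rcases lab_cases y with h | h | h
        · exact h
        · exact absurd ⟨y, hy, h⟩ h1
        · exact absurd ⟨y, hy, h⟩ h2
      rw [hx0, hy0]

/-- the action is faithful -/
theorem faithful (g : Suz) (h : ∀ x : Fin 1782, g • x = x) : g = 1 := by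
  apply ψ_injective
  rw [map_one]
  ext x
  exact congrArg Fin.val (h x)

/-- **The presented group Suz is simple.** -/
theorem suz_simple : IsSimpleGroup Suz := by
  have := suz_finite
  have : Nontrivial Suz := by
    apply (Finite.one_lt_card_iff_nontrivial).mp
    rw [card_suz]
    norm_num
  have := prim
  apply Cfsg.Agent.Lib.Helper96_PrimSimple.isSimpleGroup_of_primitive (X := Fin 1782) faithful 11 ?_ gen_eleven
  rw [card_suz, Nat.card_eq_fintype_card, Fintype.card_fin]
  norm_num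

end Cfsg.Agent.Lib.Helper96_SuzSimple
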