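import Mathlib
import Cfsg.Agent.Lib.Helper96_SuzSimple

/-!
# The presented group Suz: words, keys and the base of the permutation representation (helper90)

The five points `0, 995, 141, 3, 14` form a base of the permutation representation of Suz on 1782
points (helper96's stabiliser chain has the order of the group as product of its orbit lengths), so
two words with the same walks from the five base offsets give the same element of Suz.
-/

set_option autoImplicit false

namespace Cfsg.Agent.Lib.Helper90_SuzBase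

open Cfsg.Spor Cfsg.Agent.Lib.Helper28_CosetPerm Cfsg.Agent.Lib.Helper96_PermLower
open Cfsg.Agent.Lib.Helper96_SuzLower Cfsg.Agent.Lib.Helper28_S1680 Cfsg.Agent.Lib.Helper96_SuzChain
open Cfsg.Agent.Lib.Helper96_SuzSimple

/-- the relators of Suz -/
abbrev RELS : Set (FreeGroup Suz.Gen) := coxRelators Suz.edges ∪ {r | r ∈ Suz.extra}

/-- letters -/
abbrev Lt : Type := Suz.Gen × Bool

/-- the element of a word -/
noncomputable def gm (u : List Lt) : Suz := PresentedGroup.mk RELS (FreeGroup.mk u)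

theorem gm_nil : gm [] = 1 := rfl

theorem gm_append (u v : List Lt) : gm (u ++ v) = gm u * gm v := by
  unfold gm
  rw [← map_mul, FreeGroup.mul_mk]

theorem gm_invRev (u : List Lt) : gm (FreeGroup.invRev u) = (gm u)⁻¹ := by
  unfold gm
  rw [← map_inv, FreeGroup.inv_mk]

theorem gm_singleton (s : Suz.Gen) : gm [(s, true)] = PresentedGroup.of s := rfl

theorem psi_gm (u : List Lt) : ψ (gm u) = FreeGroup.lift (perm verified.hv) (FreeGroup.mk u) := rfl

/-- the walk of a word is the inverse of its permutation -/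
theorem walk_eq (u : List Lt) (k : Fin 1782) :
    walk 32767 col u ((k : ℕ) * 15) = (((ψ (gm u))⁻¹ k : Fin 1782) : ℕ) * 15 := by
  rw [psi_gm]
  exact walk_fin verified.hv u k

/-! ### The pointwise stabiliser of the base is trivial -/

/-- the last group of the chain -/
noncomputable def K6 : Subgroup (Equiv.Perm (Fin 1782)) :=
  K5 ⊓ MulAction.stabilizer (Equiv.Perm (Fin 1782)) b5

theorem card5' : 3 * Nat.card K6 ≤ Nat.card K5 := by
  have h := card_step K5 b5 (orbSet 1782 15 32767 oid5 1) (Nat.card K6)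
    (level_reach oid5 rnk5 b5 cl5 K5 (fun u hu =>
      ⟨⟨⟨⟨mem_range u, fix_of_all cl5 b1 fix5_1 u hu⟩, fix_of_all cl5 b2 fix5_2 u hu⟩,
        fix_of_all cl5 b3 fix5_3 u hu⟩, fix_of_all cl5 b4 fix5_4 u hu⟩) chk5)
    le_rfl
  rwa [card_orb oid5 3 Cfsg.Agent.Lib.Helper96_SuzChain.cnt5] at h

theorem card4' : 192 * (3 * Nat.card K6) ≤ Nat.card K4 := by
  have h := card_step K4 b4 (orbSet 1782 15 32767 oid4 1) (3 * Nat.card K6)
    (level_reach oid4 rnk4 b4 cl4 K4 (fun u hu =>
      ⟨⟨⟨mem_range u, fix_of_all cl4 b1 fix4_1 u hu⟩, fix_of_all cl4 b2 fix4_2 u hu⟩,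
        fix_of_all cl4 b3 fix4_3 u hu⟩) chk4)
    card5'
  rwa [card_orb oid4 192 Cfsg.Agent.Lib.Helper96_SuzChain.cnt4] at h

theorem card3' : 1050 * (192 * (3 * Nat.card K6)) ≤ Nat.card K3 := by
  have h := card_step K3 b3 (orbSet 1782 15 32767 oid3 1) (192 * (3 * Nat.card K6))
    (level_reach oid3 rnk3 b3 cl3 K3 (fun u hu =>
      ⟨⟨mem_range u, fix_of_all cl3 b1 fix3_1 u hu⟩, fix_of_all cl3 b2 fix3_2 u hu⟩) chk3)
    card4'
  rwa [card_orb oid3 1050 Cfsg.Agent.Lib.Helper96_SuzChain.cnt3] at h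

theorem card2' : 416 * (1050 * (192 * (3 * Nat.card K6))) ≤ Nat.card K2 := by
  have h := card_step K2 b2 (orbSet 1782 15 32767 oid2 1) (1050 * (192 * (3 * Nat.card K6)))
    (level_reach oid2 rnk2 b2 cl2 K2 (fun u hu =>
      ⟨mem_range u, fix_of_all cl2 b1 fix2_1 u hu⟩) chk2)
    card3'
  rwa [card_orb oid2 416 Cfsg.Agent.Lib.Helper96_SuzChain.cnt2] at h

theorem card1' : 1782 * (416 * (1050 * (192 * (3 * Nat.card K6)))) ≤ Nat.card K1 := by
  have h := card_step K1 b1 (orbSet 1782 15 32767 oid1 1) (416 * (1050 * (192 * (3 * Nat.card K6))))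
    (level_reach oid1 rnk1 b1 cl1 K1 (fun u _ => mem_range u) chk1)
    card2'
  rwa [card_orb oid1 1782 Cfsg.Agent.Lib.Helper96_SuzChain.cnt1] at h

theorem card_K6 : Nat.card K6 = 1 := by
  have := suz_finite
  have h1 : Nat.card K1 ≤ Nat.card Suz :=
    Nat.card_le_card_of_surjective ψ.rangeRestrict ψ.rangeRestrict_surjective
  rw [card_suz] at h1
  have h2 := card1'
  have h3 : 0 < Nat.card K6 := Nat.card_pos
  omega

/-- an element of Suz fixing the five base points is trivial -/
theorem eq_one_of_fix (g : Suz) (h1 : ψ g b1 = b1) (h2 : ψ g b2 = b2) (h3 : ψ g b3 = b3)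
    (h4 : ψ g b4 = b4) (h5 : ψ g b5 = b5) : g = 1 := by
  have hm : ψ g ∈ K6 :=
    ⟨⟨⟨⟨⟨⟨g, rfl⟩, MulAction.mem_stabilizer_iff.mpr h1⟩, MulAction.mem_stabilizer_iff.mpr h2⟩,
      MulAction.mem_stabilizer_iff.mpr h3⟩, MulAction.mem_stabilizer_iff.mpr h4⟩,
      MulAction.mem_stabilizer_iff.mpr h5⟩
  have hb : K6 = ⊥ := Subgroup.eq_bot_of_card_eq _ card_K6
  rw [hb, Subgroup.mem_bot] at hm
  apply ψ_injective
  rw [hm, map_one]

/-- the offsets of the five base points -/
def baseOffs : List ℕ := [0, 14925, 2115, 45, 210]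

/-- the key of a word: the walks from the five base offsets, packed -/
def keyW (u : List Lt) : ℕ :=
  Nat.lor (walk 32767 col u 0) (Nat.lor (Nat.shiftLeft (walk 32767 col u 14925) 15)
    (Nat.lor (Nat.shiftLeft (walk 32767 col u 2115) 30)
      (Nat.lor (Nat.shiftLeft (walk 32767 col u 45) 45) (Nat.shiftLeft (walk 32767 col u 210) 60))))

theorem fix_of_walk_eq (u v : List Lt) (k : Fin 1782)
    (h : walk 32767 col u ((k : ℕ) * 15) = walk 32767 col v ((k : ℕ) * 15)) :
    ψ (gm v * (gm u)⁻¹) k = k := by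
  rw [walk_eq, walk_eq] at h
  have h' : (ψ (gm u))⁻¹ k = (ψ (gm v))⁻¹ k := Fin.ext (Nat.eq_of_mul_eq_mul_right (by norm_num) h)
  rw [map_mul, map_inv, Equiv.Perm.mul_apply, h', Equiv.Perm.inv_def, Equiv.apply_symm_apply]

/-- two words with the same walks from the five base offsets give the same element -/
theorem gm_eq_of_walks (u v : List Lt)
    (h1 : walk 32767 col u 0 = walk 32767 col v 0)
    (h2 : walk 32767 col u 14925 = walk 32767 col v 14925)
    (h3 : walk 32767 col u 2115 = walk 32767 col v 2115)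
    (h4 : walk 32767 col u 45 = walk 32767 col v 45)
    (h5 : walk 32767 col u 210 = walk 32767 col v 210) : gm u = gm v := by
  have h := eq_one_of_fix (gm v * (gm u)⁻¹)
    (fix_of_walk_eq u v b1 h1) (fix_of_walk_eq u v b2 h2) (fix_of_walk_eq u v b3 h3)
    (fix_of_walk_eq u v b4 h4) (fix_of_walk_eq u v b5 h5)
  rw [mul_inv_eq_one] at h
  exact h.symm

/-- a word walking back to the five base offsets is trivial -/
theorem gm_eq_one_of_walks (u : List Lt)
    (h1 : walk 32767 col u 0 = 0) (h2 : walk 32767 col u 14925 = 14925)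
    (h3 : walk 32767 col u 2115 = 2115) (h4 : walk 32767 col u 45 = 45)
    (h5 : walk 32767 col u 210 = 210) : gm u = 1 := by
  rw [← gm_nil]
  exact gm_eq_of_walks u [] h1 h2 h3 h4 h5

/-- Boolean form: the five walks of two words agree -/
def sameW (u v : List Lt) : Bool :=
  and (Nat.beq (walk 32767 col u 0) (walk 32767 col v 0))
    (and (Nat.beq (walk 32767 col u 14925) (walk 32767 col v 14925))
      (and (Nat.beq (walk 32767 col u 2115) (walk 32767 col v 2115))
        (and (Nat.beq (walk 32767 col u 45) (walk 32767 col v 45))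
          (Nat.beq (walk 32767 col u 210) (walk 32767 col v 210)))))

theorem gm_eq_of_sameW {u v : List Lt} (h : sameW u v = true) : gm u = gm v := by
  unfold sameW at h
  simp only [Bool.and_eq_true] at h
  obtain ⟨h1, h2, h3, h4, h5⟩ := h
  exact gm_eq_of_walks u v (Nat.eq_of_beq_eq_true h1) (Nat.eq_of_beq_eq_true h2)
    (Nat.eq_of_beq_eq_true h3) (Nat.eq_of_beq_eq_true h4) (Nat.eq_of_beq_eq_true h5)

/-- two words with different walks from some offset give different elements -/
theorem gm_ne_of_walk {u v : List Lt} (k : Fin 1782)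
    (h : walk 32767 col u ((k : ℕ) * 15) ≠ walk 32767 col v ((k : ℕ) * 15)) : gm u ≠ gm v := by
  intro he
  apply h
  rw [walk_eq, walk_eq, he]

end Cfsg.Agent.Lib.Helper90_SuzBase
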