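import Mathlib
import Cfsg.Agent.Lib.Helper90_SuzBase
import Cfsg.Agent.Lib.Helper90_CodeTable

/-!
# Suz: packed conjugation words and macro columns (helper90)

A *macro column* is a packed column describing the walk of a whole word.  A conjugate
`x_d⁻¹ ⋯ x_1⁻¹ g x_1 ⋯ x_d` of the generator `g` by macro letters `x_j` (numbers `1, …, 31`) is
stored as the number `Σ x_j 32^(d-j)` (lowest digit the outermost letter).
-/

set_option autoImplicit false

namespace Cfsg.Agent.Lib.Helper90_SuzWalk

open Cfsg.Spor Cfsg.Agent.Lib.Helper28_CosetPerm Cfsg.Agent.Lib.Helper28_S1680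
open Cfsg.Agent.Lib.Helper28_S1680Tab Cfsg.Agent.Lib.Helper90_SuzBase
open Cfsg.Agent.Lib.Helper90_CodeTable

/-- the generators are involutions -/
theorem of_mul_self (s : Suz.Gen) : (PresentedGroup.of s : Suz) * PresentedGroup.of s = 1 := by
  have h : (FreeGroup.of s * FreeGroup.of s) ^ coxLabel Suz.edges s s ∈ RELS := by
    left
    refine ⟨s, ?_, s, ?_, rfl⟩ <;> cases s <;> decide
  have h2 := (PresentedGroup.one_of_mem (rels := RELS) h)
  have h3 : coxLabel Suz.edges s s = 1 := by simp [coxLabel]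
  rw [h3, pow_one, map_mul] at h2
  exact h2

/-- the generator `g` as an element -/
noncomputable def tG : Suz := gm [(.g, true)]

theorem gm_cons (s : Suz.Gen) (u : List Lt) : gm ((s, true) :: u) = PresentedGroup.of s * gm u := by
  have : (s, true) :: u = [(s, true)] ++ u := rfl
  rw [this, gm_append]
  rfl

/-- arithmetic packing of five offsets -/
def pack5 (a b c d e : ℕ) : ℕ :=
  Nat.add a (Nat.add (Nat.mul 32768 b) (Nat.add (Nat.mul 1073741824 c)
    (Nat.add (Nat.mul 35184372088832 d) (Nat.mul 1152921504606846976 e))))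

theorem pack5_inj {a b c d e a' b' c' d' e' : ℕ} (ha : a < 32768) (hb : b < 32768)
    (hc : c < 32768) (hd : d < 32768) (ha' : a' < 32768) (hb' : b' < 32768)
    (hc' : c' < 32768) (hd' : d' < 32768)
    (h : pack5 a b c d e = pack5 a' b' c' d' e') :
    a = a' ∧ b = b' ∧ c = c' ∧ d = d' ∧ e = e' := by
  unfold pack5 at h
  simp only [Nat.add_eq, Nat.mul_eq] at h
  omega

theorem nxt_lt (c x : ℕ) : nxt 32767 c x < 32768 := by
  unfold nxt
  have : Nat.land (Nat.shiftRight c x) 32767 ≤ 32767 := Nat.and_le_right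
  omega

/-- a packed column describes the walk of a word -/
def MacroOK (c : ℕ) (w : List Lt) : Prop :=
  ∀ k < 1782, nxt 32767 c (k * 15) = walk 32767 col w (k * 15)

/-- Boolean check for `MacroOK` -/
def macroChk (c : ℕ) (w : List Lt) : Bool :=
  allRange (fun x => Nat.beq (nxt 32767 c x) (walk 32767 col w x)) 15 0 1782

theorem macroOK_of_chk {c : ℕ} {w : List Lt} (h : macroChk c w = true) : MacroOK c w := by
  intro k hk
  have := (allRange_iff _ 15 0 1782).mp h k hk
  rw [Nat.zero_add] at this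
  exact Nat.eq_of_beq_eq_true this

/-- walks end at offsets of points -/
theorem walk_off (u : List Lt) (k : ℕ) (hk : k < 1782) :
    ∃ k' < 1782, walk 32767 col u (k * 15) = k' * 15 := by
  have := walk_eq u ⟨k, hk⟩
  exact ⟨_, ((Cfsg.Agent.Lib.Helper96_SuzLower.ψ (gm u))⁻¹ ⟨k, hk⟩).2, this⟩


/-! ### Packed words -/

/-- the column of the letter with number `l` (`1, …, 7` for `a, …, g`) -/
def colL (l : ℕ) : ℕ :=
  Nat.rec (motive := fun _ => ℕ) cA (fun l _ =>
    Nat.rec (motive := fun _ => ℕ) cA (fun l _ =>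
      Nat.rec (motive := fun _ => ℕ) cB (fun l _ =>
        Nat.rec (motive := fun _ => ℕ) cC (fun l _ =>
          Nat.rec (motive := fun _ => ℕ) cD (fun l _ =>
            Nat.rec (motive := fun _ => ℕ) cE (fun l _ =>
              Nat.rec (motive := fun _ => ℕ) cF (fun _ _ => cG) l) l) l) l) l) l) l

/-- the generator with number `l` -/
def genL (l : ℕ) : Suz.Gen :=
  Nat.rec (motive := fun _ => Suz.Gen) .a (fun l _ =>
    Nat.rec (motive := fun _ => Suz.Gen) .a (fun l _ =>
      Nat.rec (motive := fun _ => Suz.Gen) .b (fun l _ =>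
        Nat.rec (motive := fun _ => Suz.Gen) .c (fun l _ =>
          Nat.rec (motive := fun _ => Suz.Gen) .d (fun l _ =>
            Nat.rec (motive := fun _ => Suz.Gen) .e (fun l _ =>
              Nat.rec (motive := fun _ => Suz.Gen) .f (fun _ _ => .g) l) l) l) l) l) l) l

theorem colL_eq (l : ℕ) (b : Bool) : colL l = col (genL l) b := by
  rcases l with _ | _ | _ | _ | _ | _ | _ | _ <;> rfl

/-- walk along a packed word (letters `1, …, 7`, three bits each, first letter lowest) -/
def pwalk (fuel : ℕ) : ℕ → ℕ → ℕ :=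
  Nat.rec (motive := fun _ => ℕ → ℕ → ℕ) (fun _ x => x)
    (fun _ ih w x =>
      Nat.rec (motive := fun _ => ℕ) x
        (fun _ _ => force (Nat.land w 7) fun l =>
          ih (Nat.shiftRight w 3) (nxt 32767 (colL l) x)) w) fuel

/-- the word of a packed word -/
def unpack : ℕ → ℕ → List Lt
  | 0, _ => []
  | fuel + 1, w => if w = 0 then [] else (genL (w % 8), true) :: unpack fuel (w / 8)

theorem pwalk_succ_pos (fuel w x : ℕ) (hw : w ≠ 0) :
    pwalk (fuel + 1) w x = pwalk fuel (w / 8) (nxt 32767 (colL (w % 8)) x) := by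
  obtain ⟨w', rfl⟩ := Nat.exists_eq_succ_of_ne_zero hw
  show pwalk fuel (Nat.shiftRight (w' + 1) 3) (nxt 32767 (colL (Nat.land (w' + 1) 7)) x) = _
  have h1 : Nat.land (w' + 1) 7 = (w' + 1) % 8 := Nat.and_two_pow_sub_one_eq_mod (w' + 1) 3
  have h2 : Nat.shiftRight (w' + 1) 3 = (w' + 1) / 8 := Nat.shiftRight_eq_div_pow (w' + 1) 3
  rw [h1, h2]

theorem pwalk_eq (fuel w x : ℕ) : pwalk fuel w x = walk 32767 col (unpack fuel w) x := by
  induction fuel generalizing w x with
  | zero => rfl
  | succ fuel ih =>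
    by_cases hw : w = 0
    · subst hw
      simp only [unpack, if_true]
      rfl
    · rw [pwalk_succ_pos fuel w x hw]
      simp only [unpack, if_neg hw]
      rw [walk, ih, ← colL_eq]

/-- Boolean check for `MacroOK` of a packed word -/
def macroChkP (fuel c wp : ℕ) : Bool :=
  allLt 1782 fun k => force (Nat.mul k 15) fun x => Nat.beq (nxt 32767 c x) (pwalk fuel wp x)

theorem macroOK_of_chkP {fuel c wp : ℕ} (h : macroChkP fuel c wp = true) :
    MacroOK c (unpack fuel wp) := by
  intro k hk
  have := allLt_spec h k hk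
  simp only [force_eq] at this
  rw [← pwalk_eq]
  exact Nat.eq_of_beq_eq_true this

/-- the columns do not depend on the sign of the letter -/
theorem walk_flip (u : List Lt) (x : ℕ) :
    walk 32767 col (u.map fun p => (p.1, !p.2)) x = walk 32767 col u x := by
  induction u generalizing x with
  | nil => rfl
  | cons l ls ih =>
    obtain ⟨s, b⟩ := l
    simp only [List.map_cons, walk]
    rw [ih]
    cases s <;> rfl

theorem walk_invRev (u : List Lt) (x : ℕ) :
    walk 32767 col (FreeGroup.invRev u) x = walk 32767 col u.reverse x := by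
  unfold FreeGroup.invRev
  rw [← List.map_reverse]
  exact walk_flip _ _

theorem macroOK_invRev {c : ℕ} {u v : List Lt} (h : MacroOK c v) (hv : v = u.reverse) :
    MacroOK c (FreeGroup.invRev u) := by
  intro k hk
  rw [walk_invRev, ← hv]
  exact h k hk

/-! ### Packed conjugates of `g` by macro letters -/

section Conj

variable (mF mB : ℕ → ℕ) (mWord : ℕ → List Lt)

/-- walk along the conjugate of `g` with packed path `w` -/
def cwalk (fuel : ℕ) : ℕ → ℕ → ℕ :=
  Nat.rec (motive := fun _ => ℕ → ℕ → ℕ) (fun _ x => nxt 32767 cG x)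
    (fun _ ih w x =>
      Nat.rec (motive := fun _ => ℕ) (nxt 32767 cG x)
        (fun _ _ => force (Nat.land w 31) fun l =>
          nxt 32767 (mF l) (ih (Nat.shiftRight w 5) (nxt 32767 (mB l) x))) w) fuel

/-- the conjugate of `g` with packed path `w`, as a word -/
def cword : ℕ → ℕ → List Lt
  | 0, _ => [(.g, true)]
  | fuel + 1, w =>
    if w = 0 then [(.g, true)]
    else FreeGroup.invRev (mWord (w % 32)) ++ (cword fuel (w / 32) ++ mWord (w % 32))

theorem cwalk_succ_zero (fuel x : ℕ) : cwalk mF mB (fuel + 1) 0 x = nxt 32767 cG x := rfl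

theorem cwalk_succ_pos (fuel w x : ℕ) (hw : w ≠ 0) :
    cwalk mF mB (fuel + 1) w x =
      nxt 32767 (mF (w % 32)) (cwalk mF mB fuel (w / 32) (nxt 32767 (mB (w % 32)) x)) := by
  obtain ⟨w', rfl⟩ := Nat.exists_eq_succ_of_ne_zero hw
  show nxt 32767 (mF (Nat.land (w' + 1) 31))
    (cwalk mF mB fuel (Nat.shiftRight (w' + 1) 5) (nxt 32767 (mB (Nat.land (w' + 1) 31)) x)) = _
  have h1 : Nat.land (w' + 1) 31 = (w' + 1) % 32 := Nat.and_two_pow_sub_one_eq_mod (w' + 1) 5
  have h2 : Nat.shiftRight (w' + 1) 5 = (w' + 1) / 32 := Nat.shiftRight_eq_div_pow (w' + 1) 5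
  rw [h1, h2]

variable {mF mB mWord}

theorem cwalk_eq (hF : ∀ l, MacroOK (mF l) (mWord l))
    (hB : ∀ l, MacroOK (mB l) (FreeGroup.invRev (mWord l))) (fuel w k : ℕ) (hk : k < 1782) :
    cwalk mF mB fuel w (k * 15) = walk 32767 col (cword mWord fuel w) (k * 15) := by
  induction fuel generalizing w k with
  | zero => rfl
  | succ fuel ih =>
    by_cases hw : w = 0
    · subst hw
      rw [cwalk_succ_zero]
      simp only [cword, if_true]
      rfl
    · rw [cwalk_succ_pos mF mB fuel w _ hw]
      simp only [cword, if_neg hw]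
      rw [walk_append, walk_append, hB _ k hk]
      obtain ⟨k1, hk1, e1⟩ := walk_off (FreeGroup.invRev (mWord (w % 32))) k hk
      rw [e1, ih _ k1 hk1]
      obtain ⟨k2, hk2, e2⟩ := walk_off (cword mWord fuel (w / 32)) k1 hk1
      rw [e2, hF _ k2 hk2]

/-- the element of a packed conjugate is conjugate to `g` -/
theorem cword_conj (mWord : ℕ → List Lt) (fuel w : ℕ) :
    ∃ x : Suz, gm (cword mWord fuel w) = x⁻¹ * tG * x := by
  induction fuel generalizing w with
  | zero => exact ⟨1, by simp [cword, tG]⟩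
  | succ fuel ih =>
    by_cases hw : w = 0
    · exact ⟨1, by simp [cword, hw, tG]⟩
    · obtain ⟨x, hx⟩ := ih (w / 32)
      refine ⟨x * gm (mWord (w % 32)), ?_⟩
      simp only [cword, if_neg hw]
      rw [gm_append, gm_append, hx, gm_invRev, mul_inv_rev]
      group

end Conj

end Cfsg.Agent.Lib.Helper90_SuzWalk
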