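import Mathlib
import Cfsg.Agent.Lib.Helper90_SuzWalk
import Cfsg.Agent.Lib.Helper90_PcChain

/-!
# Suz: columns of elements, straight-line letters, ordered products and Schreier descents (helper90)

`ColOK c g`: the packed column `c` is the walk of the element `g` (the action of `g⁻¹` on the 1782
points).  Letters `1, …, 63` with columns `mF l` and elements `mE l`; packed words of letters (six
bits each, first letter lowest) with walk `lwalk` and element `lelt`; a new generation of letters
defined by packed words over the earlier ones (`extend`).  Ordered products over the binary digits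
of a mask (`walkE`).  A rank table descending along the letters of a list gives, for every point
of positive rank, an element of the generated subgroup moving the base point to it (`reach`).
-/

set_option autoImplicit false

namespace Cfsg.Agent.Lib.Helper90_SuzCol

open Cfsg.Spor Cfsg.Agent.Lib.Helper28_CosetPerm Cfsg.Agent.Lib.Helper28_S1680
open Cfsg.Agent.Lib.Helper28_S1680Tab Cfsg.Agent.Lib.Helper90_SuzBase
open Cfsg.Agent.Lib.Helper90_CodeTable Cfsg.Agent.Lib.Helper90_SuzWalk
open Cfsg.Agent.Lib.Helper96_SuzLower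

/-- the packed column `c` is the walk of the element `g` -/
def ColOK (c : ℕ) (g : Suz) : Prop :=
  ∀ k : Fin 1782, nxt 32767 c ((k : ℕ) * 15) = (((ψ g)⁻¹ k : Fin 1782) : ℕ) * 15

theorem colOK_of_macroOK {c : ℕ} {w : List Lt} (h : MacroOK c w) : ColOK c (gm w) :=
  fun k => (h k k.2).trans (walk_eq w k)

theorem colOK_gen (l : ℕ) : ColOK (colL l) (PresentedGroup.of (genL l)) := by
  intro k
  have h := walk_eq [(genL l, true)] k
  rw [gm_singleton] at h
  rw [← h]
  show _ = nxt 32767 (col (genL l) true) _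
  rw [← colL_eq]

/-- the walk of a product -/
theorem colOK_mul_apply {c1 c2 : ℕ} {g1 g2 : Suz} (h1 : ColOK c1 g1) (h2 : ColOK c2 g2)
    (k : Fin 1782) :
    nxt 32767 c2 (nxt 32767 c1 ((k : ℕ) * 15)) = (((ψ (g1 * g2))⁻¹ k : Fin 1782) : ℕ) * 15 := by
  rw [h1 k, h2, map_mul, mul_inv_rev, Equiv.Perm.mul_apply]

theorem colOK_mul {c c1 c2 : ℕ} {g1 g2 : Suz} (h1 : ColOK c1 g1) (h2 : ColOK c2 g2)
    (h : ∀ k < 1782, nxt 32767 c (k * 15) = nxt 32767 c2 (nxt 32767 c1 (k * 15))) :
    ColOK c (g1 * g2) := by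
  intro k
  rw [h k k.2, colOK_mul_apply h1 h2]

/-- two elements with the same action on the five base points are equal -/
theorem eq_of_base {g h : Suz} (h1 : (ψ g)⁻¹ b1 = (ψ h)⁻¹ b1) (h2 : (ψ g)⁻¹ b2 = (ψ h)⁻¹ b2)
    (h3 : (ψ g)⁻¹ b3 = (ψ h)⁻¹ b3) (h4 : (ψ g)⁻¹ b4 = (ψ h)⁻¹ b4)
    (h5 : (ψ g)⁻¹ b5 = (ψ h)⁻¹ b5) : g = h := by
  have key : ∀ b : Fin 1782, (ψ g)⁻¹ b = (ψ h)⁻¹ b → ψ (g * h⁻¹) b = b := by
    intro b hb
    rw [map_mul, map_inv, Equiv.Perm.mul_apply, ← hb, Equiv.Perm.inv_def, Equiv.apply_symm_apply]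
  have := eq_one_of_fix (g * h⁻¹) (key b1 h1) (key b2 h2) (key b3 h3) (key b4 h4) (key b5 h5)
  exact mul_inv_eq_one.mp this

/-- the offset of a point determines the point -/
theorem fin_eq_of_off {a b : Fin 1782} (h : (a : ℕ) * 15 = (b : ℕ) * 15) : a = b :=
  Fin.ext (Nat.eq_of_mul_eq_mul_right (by norm_num) h)

/-! ### Walk functions and keys -/

/-- the function `f` on offsets is the walk of the element `g` -/
def IsWalk (f : ℕ → ℕ) (g : Suz) : Prop :=
  ∀ k : Fin 1782, f ((k : ℕ) * 15) = (((ψ g)⁻¹ k : Fin 1782) : ℕ) * 15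

theorem isWalk_col {c : ℕ} {g : Suz} (h : ColOK c g) : IsWalk (nxt 32767 c) g := h

theorem isWalk_one : IsWalk (fun x => x) 1 := by
  intro k
  simp

theorem IsWalk.comp {f f' : ℕ → ℕ} {g g' : Suz} (h : IsWalk f g) (h' : IsWalk f' g') :
    IsWalk (fun x => f' (f x)) (g * g') := by
  intro k
  show f' (f ((k : ℕ) * 15)) = _
  rw [h k, h', map_mul, mul_inv_rev, Equiv.Perm.mul_apply]

theorem IsWalk.lt {f : ℕ → ℕ} {g : Suz} (h : IsWalk f g) (k : Fin 1782) :
    f ((k : ℕ) * 15) < 32768 := by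
  rw [h k]
  have := ((ψ g)⁻¹ k).2
  omega

/-- the key of a walk function: the images of the five base offsets -/
def key5 (f : ℕ → ℕ) : ℕ := pack5 (f 0) (f 14925) (f 2115) (f 45) (f 210)

theorem off_b1 : (b1 : ℕ) * 15 = 0 := rfl
theorem off_b2 : (b2 : ℕ) * 15 = 14925 := rfl
theorem off_b3 : (b3 : ℕ) * 15 = 2115 := rfl
theorem off_b4 : (b4 : ℕ) * 15 = 45 := rfl
theorem off_b5 : (b5 : ℕ) * 15 = 210 := rfl

theorem eq_of_key5 {f f' : ℕ → ℕ} {g g' : Suz} (h : IsWalk f g) (h' : IsWalk f' g')
    (hk : key5 f = key5 f') : g = g' := by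
  have l1 := h.lt b1
  have l2 := h.lt b2
  have l3 := h.lt b3
  have l4 := h.lt b4
  have l1' := h'.lt b1
  have l2' := h'.lt b2
  have l3' := h'.lt b3
  have l4' := h'.lt b4
  rw [off_b1] at l1 l1'
  rw [off_b2] at l2 l2'
  rw [off_b3] at l3 l3'
  rw [off_b4] at l4 l4'
  obtain ⟨e1, e2, e3, e4, e5⟩ := pack5_inj l1 l2 l3 l4 l1' l2' l3' l4' hk
  have k1 := h b1
  have k2 := h b2
  have k3 := h b3
  have k4 := h b4
  have k5 := h b5
  have k1' := h' b1
  have k2' := h' b2
  have k3' := h' b3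
  have k4' := h' b4
  have k5' := h' b5
  rw [off_b1] at k1 k1'
  rw [off_b2] at k2 k2'
  rw [off_b3] at k3 k3'
  rw [off_b4] at k4 k4'
  rw [off_b5] at k5 k5'
  exact eq_of_base (fin_eq_of_off (by rw [← k1, ← k1', e1])) (fin_eq_of_off (by rw [← k2, ← k2', e2]))
    (fin_eq_of_off (by rw [← k3, ← k3', e3])) (fin_eq_of_off (by rw [← k4, ← k4', e4]))
    (fin_eq_of_off (by rw [← k5, ← k5', e5]))

theorem key5_eq_of_isWalk {f f' : ℕ → ℕ} {g : Suz} (h : IsWalk f g) (h' : IsWalk f' g) :
    key5 f = key5 f' := by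
  have k1 := (h b1).trans (h' b1).symm
  have k2 := (h b2).trans (h' b2).symm
  have k3 := (h b3).trans (h' b3).symm
  have k4 := (h b4).trans (h' b4).symm
  have k5 := (h b5).trans (h' b5).symm
  rw [off_b1] at k1
  rw [off_b2] at k2
  rw [off_b3] at k3
  rw [off_b4] at k4
  rw [off_b5] at k5
  unfold key5
  rw [k1, k2, k3, k4, k5]

/-- the key of four base offsets -/
def key4 (f : ℕ → ℕ) : ℕ :=
  Nat.add (f 0) (Nat.add (Nat.mul 32768 (f 14925)) (Nat.add (Nat.mul 1073741824 (f 2115))
    (Nat.mul 35184372088832 (f 45))))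

theorem key4_eq_of_isWalk {f f' : ℕ → ℕ} {g : Suz} (h : IsWalk f g) (h' : IsWalk f' g) :
    key4 f = key4 f' := by
  have k1 := (h b1).trans (h' b1).symm
  have k2 := (h b2).trans (h' b2).symm
  have k3 := (h b3).trans (h' b3).symm
  have k4 := (h b4).trans (h' b4).symm
  rw [off_b1] at k1
  rw [off_b2] at k2
  rw [off_b3] at k3
  rw [off_b4] at k4
  unfold key4
  rw [k1, k2, k3, k4]

/-- a strictly increasing sequence below a bound (each value computed once) -/
def incChk (f : ℕ → ℕ) (n : ℕ) : ℕ → Bool :=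
  Nat.rec (motive := fun _ => ℕ → Bool) (fun _ => true)
    (fun i ih hi => force (f i) fun v => and (Nat.blt v hi) (ih v)) n

theorem incChk_succ (f : ℕ → ℕ) (n hi : ℕ) :
    incChk f (n + 1) hi = (Nat.blt (f n) hi && incChk f n (f n)) := rfl

theorem incChk_spec {f : ℕ → ℕ} {n hi : ℕ} (h : incChk f n hi = true) :
    (∀ i < n, f i < hi) ∧ ∀ i j, i < j → j < n → f i < f j := by
  induction n generalizing hi with
  | zero => exact ⟨fun i hi => by omega, fun i j _ hj => by omega⟩
  | succ n ih =>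
    rw [incChk_succ, Bool.and_eq_true, Nat.blt_eq] at h
    obtain ⟨h1, h2⟩ := ih h.2
    constructor
    · intro i hi'
      rcases Nat.lt_succ_iff_lt_or_eq.mp hi' with h3 | h3
      · exact lt_trans (h1 i h3) h.1
      · rw [h3]; exact h.1
    · intro i j hij hj
      rcases Nat.lt_succ_iff_lt_or_eq.mp hj with h3 | h3
      · exact h2 i j hij h3
      · rw [h3]; exact h1 i (by omega)

/-! ### Letters and packed words -/

section Letters

variable (mF : ℕ → ℕ) (mE : ℕ → Suz)

/-- walk along a packed word of letters (six bits each, first letter lowest) -/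
def lwalk (fuel : ℕ) : ℕ → ℕ → ℕ :=
  Nat.rec (motive := fun _ => ℕ → ℕ → ℕ) (fun _ x => x)
    (fun _ ih w x =>
      Nat.rec (motive := fun _ => ℕ) x
        (fun _ _ => force (Nat.land w 63) fun l =>
          ih (Nat.shiftRight w 6) (nxt 32767 (mF l) x)) w) fuel

/-- the element of a packed word of letters -/
noncomputable def lelt : ℕ → ℕ → Suz
  | 0, _ => 1
  | fuel + 1, w => if w = 0 then 1 else mE (w % 64) * lelt fuel (w / 64)

/-- all letters of the packed word are smaller than `n` -/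
def lettersLt (n : ℕ) : ℕ → ℕ → Bool
  | 0, _ => true
  | fuel + 1, w => if w = 0 then true else (decide (w % 64 < n) && lettersLt n fuel (w / 64))

theorem lwalk_succ_zero (fuel x : ℕ) : lwalk mF (fuel + 1) 0 x = x := rfl

theorem lwalk_succ_pos (fuel w x : ℕ) (hw : w ≠ 0) :
    lwalk mF (fuel + 1) w x = lwalk mF fuel (w / 64) (nxt 32767 (mF (w % 64)) x) := by
  obtain ⟨w', rfl⟩ := Nat.exists_eq_succ_of_ne_zero hw
  show lwalk mF fuel (Nat.shiftRight (w' + 1) 6) (nxt 32767 (mF (Nat.land (w' + 1) 63)) x) = _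
  have h1 : Nat.land (w' + 1) 63 = (w' + 1) % 64 := Nat.and_two_pow_sub_one_eq_mod (w' + 1) 6
  have h2 : Nat.shiftRight (w' + 1) 6 = (w' + 1) / 64 := Nat.shiftRight_eq_div_pow (w' + 1) 6
  rw [h1, h2]

variable {mF mE}

theorem lwalk_eq {n : ℕ} (h : ∀ l < n, ColOK (mF l) (mE l)) (fuel w : ℕ)
    (hw : lettersLt n fuel w = true) (k : Fin 1782) :
    lwalk mF fuel w ((k : ℕ) * 15) = (((ψ (lelt mE fuel w))⁻¹ k : Fin 1782) : ℕ) * 15 := by
  induction fuel generalizing w k with
  | zero => simp [lwalk, lelt]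
  | succ fuel ih =>
    by_cases hw0 : w = 0
    · subst hw0
      rw [lwalk_succ_zero]
      simp [lelt]
    · rw [lwalk_succ_pos mF fuel w _ hw0]
      simp only [lettersLt, if_neg hw0, Bool.and_eq_true, decide_eq_true_eq] at hw
      simp only [lelt, if_neg hw0]
      rw [h _ hw.1 k, ih _ hw.2, map_mul, mul_inv_rev, Equiv.Perm.mul_apply]

/-- the elements of packed words lie in every subgroup containing the letters -/
theorem lelt_mem {n : ℕ} (K : Subgroup Suz) (h : ∀ l < n, mE l ∈ K) (fuel w : ℕ)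
    (hw : lettersLt n fuel w = true) : lelt mE fuel w ∈ K := by
  induction fuel generalizing w with
  | zero => exact K.one_mem
  | succ fuel ih =>
    by_cases hw0 : w = 0
    · simp only [lelt, if_pos hw0]
      exact K.one_mem
    · simp only [lettersLt, if_neg hw0, Bool.and_eq_true, decide_eq_true_eq] at hw
      simp only [lelt, if_neg hw0]
      exact K.mul_mem (h _ hw.1) (ih _ hw.2)

variable (mE)

/-- a new generation of letters: the letters from `n0` on are packed words over the earlier ones -/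
noncomputable def extend (n0 fuel : ℕ) (code : ℕ → ℕ) : ℕ → Suz :=
  fun l => if l < n0 then mE l else lelt mE fuel (code l)

variable (mF)

/-- Boolean check for the letter `l` of a new generation -/
def letterChk (n0 fuel : ℕ) (code : ℕ → ℕ) (l : ℕ) : Bool :=
  force (code l) fun w => force (mF l) fun c =>
    and (lettersLt n0 fuel w)
      (allLt 1782 fun k => force (Nat.mul k 15) fun x => Nat.beq (nxt 32767 c x) (lwalk mF fuel w x))

variable {mF mE}

theorem extend_ok {n0 n1 fuel : ℕ} {code : ℕ → ℕ} (h : ∀ l < n0, ColOK (mF l) (mE l))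
    (hchk : ∀ l, n0 ≤ l → l < n1 → letterChk mF n0 fuel code l = true) :
    ∀ l < n1, ColOK (mF l) (extend mE n0 fuel code l) := by
  intro l hl
  unfold extend
  by_cases h0 : l < n0
  · rw [if_pos h0]
    exact h l h0
  · rw [if_neg h0]
    have hc := hchk l (not_lt.mp h0) hl
    simp only [letterChk, force_eq, Bool.and_eq_true] at hc
    intro k
    have := allLt_spec hc.2 k k.2
    have h2 : nxt 32767 (mF l) ((k : ℕ) * 15) = lwalk mF fuel (code l) ((k : ℕ) * 15) :=
      Nat.eq_of_beq_eq_true this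
    rw [h2, lwalk_eq h fuel _ hc.1 k]

theorem extend_mem {n0 n1 fuel : ℕ} {code : ℕ → ℕ} (K : Subgroup Suz) (h : ∀ l < n0, mE l ∈ K)
    (hchk : ∀ l, n0 ≤ l → l < n1 → lettersLt n0 fuel (code l) = true) :
    ∀ l < n1, extend mE n0 fuel code l ∈ K := by
  intro l hl
  unfold extend
  by_cases h0 : l < n0
  · rw [if_pos h0]
    exact h l h0
  · rw [if_neg h0]
    exact lelt_mem K h fuel _ (hchk l (not_lt.mp h0) hl)

end Letters

/-! ### Ordered products over the digits of a mask -/

section Mask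

variable (c : ℕ → ℕ)

/-- walk along the ordered product `x (n-1) ^ b (n-1) * ⋯ * x 0 ^ b 0` of the mask `m` -/
def walkE (n : ℕ) : ℕ → ℕ → ℕ :=
  Nat.rec (motive := fun _ => ℕ → ℕ → ℕ) (fun _ x => x)
    (fun n ih m x =>
      Nat.rec (motive := fun _ => ℕ) (ih m x) (fun _ _ => ih m (nxt 32767 (c n) x))
        (Nat.land (Nat.shiftRight m n) 1)) n

theorem walkE_succ (n m x : ℕ) :
    walkE c (n + 1) m x = walkE c n m (if m.testBit n then nxt 32767 (c n) x else x) := by
  have hb : Nat.land (Nat.shiftRight m n) 1 = (m >>> n) % 2 := Nat.and_one_is_mod _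
  show Nat.rec (motive := fun _ => ℕ) (walkE c n m x) (fun _ _ => walkE c n m (nxt 32767 (c n) x))
    (Nat.land (Nat.shiftRight m n) 1) = _
  rw [hb]
  have ht : m.testBit n = decide ((m >>> n) % 2 = 1) := by
    rw [Nat.testBit, Nat.one_and_eq_mod_two]
    rcases Nat.mod_two_eq_zero_or_one (m >>> n) with h | h <;> rw [h] <;> rfl
  rcases Nat.mod_two_eq_zero_or_one (m >>> n) with h | h
  · rw [ht, h]; rfl
  · rw [ht, h]; rfl

open Cfsg.Agent.Lib.Helper90_PcChain in
theorem walkE_eq {x : ℕ → Suz} {N : ℕ} (h : ∀ i < N, ColOK (c i) (x i)) (n : ℕ) (hn : n ≤ N)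
    (m : ℕ) (k : Fin 1782) :
    walkE c n m ((k : ℕ) * 15) = (((ψ (e x n m))⁻¹ k : Fin 1782) : ℕ) * 15 := by
  induction n generalizing k with
  | zero => simp [walkE, e]
  | succ n ih =>
    rw [walkE_succ, e_succ]
    by_cases hb : m.testBit n = true
    · rw [if_pos hb, if_pos hb, h n hn k, ih (Nat.le_of_succ_le hn), map_mul, mul_inv_rev,
        Equiv.Perm.mul_apply]
    · rw [if_neg hb, if_neg hb, ih (Nat.le_of_succ_le hn), one_mul]

end Mask

/-! ### Schreier descents -/

section Reach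

variable (mF : ℕ → ℕ)

/-- the descent check at the offset `x`: an unlabelled point, the base offset `b`, or the letter
`sv x` is allowed by the mask and leads to a labelled point of smaller rank -/
def descChk (n oid rnk sv b lmask : ℕ) (x : ℕ) : Bool :=
  or (not (Nat.beq (nxt 32767 oid x) 1))
    (or (Nat.beq x b)
      (force (nxt 32767 sv x) fun l => force (nxt 32767 (mF l) x) fun x' =>
        and (and (Nat.blt l n) (Nat.beq (Nat.land (Nat.shiftRight lmask l) 1) 1))
          (and (Nat.beq (nxt 32767 oid x') 1) (Nat.blt (nxt 32767 rnk x') (nxt 32767 rnk x)))))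

variable {mF}

/-- the action of Suz on the points -/
noncomputable instance pointAction : MulAction Suz (Fin 1782) := MulAction.compHom (Fin 1782) ψ

theorem smul_def (g : Suz) (k : Fin 1782) : g • k = ψ g k := rfl

theorem reach {mE : ℕ → Suz} {n : ℕ} (h : ∀ l < n, ColOK (mF l) (mE l)) (K : Subgroup Suz)
    (oid rnk sv lmask : ℕ) (b : Fin 1782)
    (hK : ∀ l < n, Nat.land (Nat.shiftRight lmask l) 1 = 1 → mE l ∈ K)
    (hchk : allLt 1782 (fun k => force (Nat.mul k 15) fun x =>
      descChk mF n oid rnk sv ((b : ℕ) * 15) lmask x) = true) :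
    ∀ y ∈ orbSet 1782 15 32767 oid 1, ∃ g ∈ K, g • b = y := by
  intro y hy
  simp only [orbSet, Finset.mem_filter, Finset.mem_univ, true_and] at hy
  generalize hr : nxt 32767 rnk ((y : ℕ) * 15) = r
  induction r using Nat.strong_induction_on generalizing y with
  | _ r ih =>
    have hc := allLt_spec hchk y y.2
    simp only [force_eq, descChk, Bool.or_eq_true, Bool.not_eq_true', Bool.and_eq_true,
      Nat.blt_eq] at hc
    rw [show Nat.mul (y : ℕ) 15 = (y : ℕ) * 15 from rfl] at hc
    rcases hc with hc | hc | ⟨⟨hl, h1⟩, h2, h3⟩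
    · rw [hy] at hc
      exact absurd hc (by decide)
    · have : y = b := fin_eq_of_off (Nat.eq_of_beq_eq_true hc)
      exact ⟨1, K.one_mem, by rw [this, one_smul]⟩
    · have hmem := hK _ hl (Nat.eq_of_beq_eq_true h1)
      have hcol := h _ hl y
      rw [hcol] at h2 h3
      rw [hr] at h3
      obtain ⟨g, hg, hgy⟩ := ih _ h3 _ (Nat.eq_of_beq_eq_true h2) rfl
      refine ⟨mE (nxt 32767 sv ((y : ℕ) * 15)) * g, K.mul_mem hmem hg, ?_⟩
      rw [mul_smul, hgy, smul_def, Equiv.Perm.inv_def, Equiv.apply_symm_apply]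

/-- a column fixing the offset of `b`: the element lies in the stabiliser -/
theorem mem_stabilizer_of_col {c : ℕ} {g : Suz} (h : ColOK c g) (b : Fin 1782)
    (hb : nxt 32767 c ((b : ℕ) * 15) = (b : ℕ) * 15) : g ∈ MulAction.stabilizer Suz b := by
  rw [MulAction.mem_stabilizer_iff, smul_def]
  have h1 := h b
  rw [hb] at h1
  have h2 : (ψ g)⁻¹ b = b := (fin_eq_of_off h1).symm
  rw [Equiv.Perm.inv_def, Equiv.symm_apply_eq] at h2
  exact h2.symm

/-- an element whose column commutes with the column of `g` on the base lies in the centraliser -/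
theorem mem_centralizer_of_keys {c : ℕ} {g : Suz} (h : ColOK c g)
    (hk : key5 (fun x => nxt 32767 cG (nxt 32767 c x)) = key5 (fun x => nxt 32767 c (nxt 32767 cG x))) :
    g ∈ Subgroup.centralizer {tG} := by
  have hG : ColOK cG tG := by
    have := colOK_gen 7
    exact this
  rw [Subgroup.mem_centralizer_iff]
  intro z hz
  rw [Set.mem_singleton_iff] at hz
  rw [hz]
  exact (eq_of_key5 ((isWalk_col h).comp (isWalk_col hG)) ((isWalk_col hG).comp (isWalk_col h)) hk).symm

end Reach

end Cfsg.Agent.Lib.Helper90_SuzCol
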