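import Mathlib
import Cfsg.Agent.Lib.Helper90_SuzMacro

/-!
# Suz is generated by the element y of order 13 and the generator g (helper90)

Generated by `tools/helper90_suz`.
-/

set_option autoImplicit false
set_option maxRecDepth 100000

namespace Cfsg.Agent.Lib.Helper90_SuzGen

open Cfsg Cfsg.Spor Cfsg.Agent.Lib.Helper28_CosetPerm Cfsg.Agent.Lib.Helper28_S1680
  Cfsg.Agent.Lib.Helper28_S1680Tab Cfsg.Agent.Lib.Helper90_SuzBase Cfsg.Agent.Lib.Helper90_SuzWalk
  Cfsg.Agent.Lib.Helper90_SuzCol Cfsg.Agent.Lib.Helper90_SuzMacro Cfsg.Agent.Lib.Helper90_CodeTable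

/-- walk along the product of the syllables `g y ^ k` -/
def sylW : List ℕ → ℕ → ℕ
  | [], x => x
  | k :: ks, x => sylW ks (nxt 32767 (cYp k) (nxt 32767 cG x))

/-- the product of the syllables `g y ^ k` -/
noncomputable def sylE : List ℕ → Suz
  | [] => 1
  | k :: ks => tG * yE ^ k * sylE ks

theorem colOK_tG : ColOK cG tG := colOK_gen 7

theorem isWalk_syl (ks : List ℕ) (h : ∀ k ∈ ks, k ≤ 13) : IsWalk (sylW ks) (sylE ks) := by
  induction ks with
  | nil => exact isWalk_one
  | cons k ks ih =>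
    have h1 := ih fun k' hk' => h k' (List.mem_cons_of_mem _ hk')
    exact ((isWalk_col colOK_tG).comp (isWalk_col (cYp_ok k (h k List.mem_cons_self)))).comp h1

/-- the subgroup generated by `y` and `g` -/
noncomputable def YT : Subgroup Suz := Subgroup.closure {yE, tG}

theorem yE_mem : yE ∈ YT := Subgroup.subset_closure (Or.inl rfl)

theorem tG_mem : tG ∈ YT := Subgroup.subset_closure (Or.inr rfl)

theorem sylE_mem (ks : List ℕ) : sylE ks ∈ YT := by
  induction ks with
  | nil => exact YT.one_mem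
  | cons k ks ih => exact YT.mul_mem (YT.mul_mem tG_mem (YT.pow_mem yE_mem k)) ih

/-- a generator times one syllable word is another syllable word -/
theorem mem_of_keys (l k0 k0' : ℕ) (ks ks' : List ℕ) (hk0 : k0 ≤ 13) (hk0' : k0' ≤ 13)
    (hks : ∀ k ∈ ks, k ≤ 13) (hks' : ∀ k ∈ ks', k ≤ 13)
    (h : key5 (fun x => sylW ks' (nxt 32767 (cYp k0') (nxt 32767 (colL l) x))) =
      key5 (fun x => sylW ks (nxt 32767 (cYp k0) x))) :
    (PresentedGroup.of (genL l) : Suz) ∈ YT := by
  have e : (PresentedGroup.of (genL l) : Suz) * (yE ^ k0' * sylE ks') = yE ^ k0 * sylE ks :=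
    eq_of_key5 ((isWalk_col (colOK_gen l)).comp ((isWalk_col (cYp_ok k0' hk0')).comp (isWalk_syl ks' hks')))
      ((isWalk_col (cYp_ok k0 hk0)).comp (isWalk_syl ks hks)) h
  have e2 : (PresentedGroup.of (genL l) : Suz) = yE ^ k0 * sylE ks * (yE ^ k0' * sylE ks')⁻¹ := by
    rw [← e, mul_inv_cancel_right]
  rw [e2]
  exact YT.mul_mem (YT.mul_mem (YT.pow_mem yE_mem _) (sylE_mem _))
    (YT.inv_mem (YT.mul_mem (YT.pow_mem yE_mem _) (sylE_mem _)))

theorem mem_a : (PresentedGroup.of Suz.Gen.a : Suz) ∈ YT :=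
  mem_of_keys 1 10 10 [8, 6, 4, 4, 10] [8, 6, 4, 1] (by norm_num) (by norm_num) (by decide) (by decide)
    (by decide +kernel)

theorem mem_b : (PresentedGroup.of Suz.Gen.b : Suz) ∈ YT :=
  mem_of_keys 2 2 2 [12, 9, 8, 6, 8] [12, 9, 8, 1] (by norm_num) (by norm_num) (by decide) (by decide)
    (by decide +kernel)

theorem mem_c : (PresentedGroup.of Suz.Gen.c : Suz) ∈ YT :=
  mem_of_keys 3 6 0 [11, 10, 5, 2, 2] [6, 11, 10, 4, 1] (by norm_num) (by norm_num) (by decide) (by decide)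
    (by decide +kernel)

theorem mem_d : (PresentedGroup.of Suz.Gen.d : Suz) ∈ YT :=
  mem_of_keys 4 12 3 [4, 11, 9, 9, 8, 9] [7, 3, 5, 6, 1] (by norm_num) (by norm_num) (by decide) (by decide)
    (by decide +kernel)

theorem mem_e : (PresentedGroup.of Suz.Gen.e : Suz) ∈ YT :=
  mem_of_keys 5 6 2 [2, 7, 7, 5, 5, 11] [10, 4, 2, 6, 1] (by norm_num) (by norm_num) (by decide) (by decide)
    (by decide +kernel)

theorem mem_f : (PresentedGroup.of Suz.Gen.f : Suz) ∈ YT :=
  mem_of_keys 6 11 0 [10, 9, 12, 3, 2, 4] [7, 4, 8, 12, 1] (by norm_num) (by norm_num) (by decide) (by decide)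
    (by decide +kernel)

/-- `y` and `g` generate Suz -/
theorem closure_eq_top : Subgroup.closure {yE, tG} = (⊤ : Subgroup Suz) := by
  rw [eq_top_iff, ← PresentedGroup.closure_range_of, Subgroup.closure_le]
  rintro _ ⟨x, rfl⟩
  cases x
  · exact mem_a
  · exact mem_b
  · exact mem_c
  · exact mem_d
  · exact mem_e
  · exact mem_f
  · exact tG_mem

end Cfsg.Agent.Lib.Helper90_SuzGen
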