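import Mathlib
import Cfsg.Agent.Lib.Helper90_SuzMacro

/-!
# Suz: the automorphism interchanging the generators f and g, which is not inner (helper90)

Generated by `tools/helper90_suz`.
-/

set_option autoImplicit false
set_option maxRecDepth 100000

namespace Cfsg.Agent.Lib.Helper90_SuzSigma

open Cfsg Cfsg.Spor Cfsg.Agent.Lib.Helper28_CosetPerm Cfsg.Agent.Lib.Helper28_S1680
  Cfsg.Agent.Lib.Helper28_S1680Tab Cfsg.Agent.Lib.Helper90_SuzBase Cfsg.Agent.Lib.Helper90_SuzWalk
  Cfsg.Agent.Lib.Helper90_SuzCol Cfsg.Agent.Lib.Helper90_SuzMacro Cfsg.Agent.Lib.Helper90_CodeTable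
  Cfsg.Agent.Lib.Helper96_SuzLower Cfsg.Agent.Lib.Helper96_SuzSimple Cfsg.Agent.Lib.Helper96_SuzChain
  Cfsg.Agent.Lib.Helper96_PermLower

/-- the interchange of `f` and `g` -/
def sw : Suz.Gen → Suz.Gen
  | .f => .g
  | .g => .f
  | x => x

theorem sw_sw (x : Suz.Gen) : sw (sw x) = x := by cases x <;> rfl

/-- the interchange on words -/
def swW (L : List Lt) : List Lt := L.map fun p => (sw p.1, p.2)

/-- the images of the generators -/
noncomputable def sigF (x : Suz.Gen) : Suz := PresentedGroup.of (sw x)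

theorem gm_inv_single (x : Suz.Gen) : (gm [(x, true)])⁻¹ = gm [(x, false)] := by
  rw [← gm_invRev]
  rfl

theorem lift_letter (x : Suz.Gen) (b : Bool) :
    FreeGroup.lift sigF (FreeGroup.mk [(x, b)]) = gm [(sw x, b)] := by
  cases b
  · have e : (FreeGroup.mk [(x, false)] : FreeGroup Suz.Gen) = (FreeGroup.of x)⁻¹ := rfl
    rw [e, map_inv, FreeGroup.lift_apply_of]
    show (gm [(sw x, true)])⁻¹ = gm [(sw x, false)]
    exact gm_inv_single _
  · show FreeGroup.lift sigF (FreeGroup.of x) = _
    rw [FreeGroup.lift_apply_of]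
    rfl

theorem lift_sigF_mk (L : List Lt) : FreeGroup.lift sigF (FreeGroup.mk L) = gm (swW L) := by
  induction L with
  | nil => exact map_one _
  | cons p L ih =>
    obtain ⟨x, b⟩ := p
    have e : (FreeGroup.mk ((x, b) :: L) : FreeGroup Suz.Gen) =
        FreeGroup.mk [(x, b)] * FreeGroup.mk L := rfl
    rw [e, map_mul, ih, lift_letter]
    show gm [(sw x, b)] * gm (swW L) = gm ([(sw x, b)] ++ swW L)
    rw [gm_append]

theorem label_sw (x y : Suz.Gen) :
    coxLabel Suz.edges (sw x) (sw y) = coxLabel Suz.edges x y := by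
  cases x <;> cases y <;> decide

theorem cox_rel (x y : Suz.Gen) :
    ((PresentedGroup.of x : Suz) * PresentedGroup.of y) ^ coxLabel Suz.edges x y = 1 := by
  have h : (FreeGroup.of x * FreeGroup.of y) ^ coxLabel Suz.edges x y ∈ RELS := by
    left
    refine ⟨x, ?_, y, ?_, rfl⟩
    · cases x <;> decide
    · cases y <;> decide
  have h2 := PresentedGroup.one_of_mem (rels := RELS) h
  rwa [map_pow, map_mul] at h2

/-- the further relator 1 as a word -/
def R1 : List Lt := [(.a, true), (.d, false), (.c, false), (.d, false), (.c, false), (.d, false), (.c, false), (.d, false), (.c, false)]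

/-- the further relator 2 as a word -/
def R2 : List Lt := [(.a, true), (.g, false), (.f, false), (.g, false), (.f, false)]

/-- the further relator 3 as a word -/
def R3 : List Lt := [(.a, true), (.b, true), (.c, true), (.f, true), (.a, true), (.b, true), (.c, true), (.f, true), (.a, true), (.b, true), (.c, true), (.f, true), (.a, true), (.b, true), (.c, true), (.f, true), (.a, true), (.b, true), (.c, true), (.f, true)]

/-- the further relator 4 as a word -/
def R4 : List Lt := [(.b, true), (.f, true), (.g, true), (.b, true), (.f, true), (.g, true), (.b, true), (.f, true), (.g, true), (.b, true), (.f, true), (.g, true), (.b, true), (.f, true), (.g, true)]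

/-- the further relator 5 as a word -/
def R5 : List Lt := [(.b, true), (.c, true), (.d, true), (.c, true), (.d, true), (.b, true), (.c, true), (.d, true), (.c, true), (.d, true), (.b, true), (.c, true), (.d, true), (.c, true), (.d, true), (.b, true), (.c, true), (.d, true), (.c, true), (.d, true), (.b, true), (.c, true), (.d, true), (.c, true), (.d, true), (.e, true), (.b, true), (.c, true), (.d, true), (.c, true), (.d, true), (.b, true), (.c, true), (.d, true), (.c, true), (.d, true), (.b, true), (.c, true), (.d, true), (.c, true), (.d, true), (.b, true), (.c, true), (.d, true), (.c, true), (.d, true), (.b, true), (.c, true), (.d, true), (.c, true), (.d, true), (.e, true), (.b, true), (.c, true), (.d, true), (.c, true), (.d, true), (.b, true), (.c, true), (.d, true), (.c, true), (.d, true), (.b, true), (.c, true), (.d, true), (.c, true), (.d, true), (.b, true), (.c, true), (.d, true), (.c, true), (.d, true), (.b, true), (.c, true), (.d, true), (.c, true), (.d, true), (.e, true)]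

theorem chk_rels : sameW (swW R1) [] = true ∧ sameW (swW R2) [] = true ∧ sameW (swW R3) [] = true ∧
    sameW (swW R4) [] = true ∧ sameW (swW R5) [] = true := by
  refine ⟨?_, ?_, ?_, ?_, ?_⟩ <;> decide +kernel

theorem sig_rel : ∀ r ∈ RELS, FreeGroup.lift sigF r = 1 := by
  intro r hr
  rcases hr with hr | hr
  · obtain ⟨x, _, y, _, rfl⟩ := hr
    rw [map_pow, map_mul, FreeGroup.lift_apply_of, FreeGroup.lift_apply_of, ← label_sw]
    exact cox_rel (sw x) (sw y)
  · have hr' : r ∈ Suz.extra := hr
    simp only [Suz.extra, List.mem_cons, List.not_mem_nil, or_false] at hr'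
    rcases hr' with rfl | rfl | rfl | rfl | rfl
    · rw [show Suz.a * ((Suz.c * Suz.d) ^ 4)⁻¹ = FreeGroup.mk R1 from rfl, lift_sigF_mk]
      exact gm_eq_of_sameW chk_rels.1
    · rw [show Suz.a * ((Suz.f * Suz.g) ^ 2)⁻¹ = FreeGroup.mk R2 from rfl, lift_sigF_mk]
      exact gm_eq_of_sameW chk_rels.2.1
    · rw [show (Suz.a * Suz.b * Suz.c * Suz.f) ^ 5 = FreeGroup.mk R3 from rfl, lift_sigF_mk]
      exact gm_eq_of_sameW chk_rels.2.2.1
    · rw [show (Suz.b * Suz.f * Suz.g) ^ 5 = FreeGroup.mk R4 from rfl, lift_sigF_mk]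
      exact gm_eq_of_sameW chk_rels.2.2.2.1
    · rw [show ((Suz.b * Suz.c * Suz.d * Suz.c * Suz.d) ^ 5 * Suz.e) ^ 3 = FreeGroup.mk R5 from rfl,
        lift_sigF_mk]
      exact gm_eq_of_sameW chk_rels.2.2.2.2

/-- the endomorphism interchanging `f` and `g` -/
noncomputable def sigHom : Suz →* Suz := PresentedGroup.toGroup (f := sigF) sig_rel

theorem sigHom_of (x : Suz.Gen) : sigHom (PresentedGroup.of x) = PresentedGroup.of (sw x) :=
  PresentedGroup.toGroup.of sig_rel

theorem sigHom_sigHom (z : Suz) : sigHom (sigHom z) = z := by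
  have h : sigHom.comp sigHom = MonoidHom.id Suz := by
    apply PresentedGroup.ext
    intro x
    show sigHom (sigHom (PresentedGroup.of x)) = PresentedGroup.of x
    rw [sigHom_of, sigHom_of, sw_sw]
  exact DFunLike.congr_fun h z

/-- the automorphism interchanging `f` and `g` -/
noncomputable def sigma : MulAut Suz where
  toFun := sigHom
  invFun := sigHom
  left_inv := sigHom_sigHom
  right_inv := sigHom_sigHom
  map_mul' := map_mul sigHom

theorem sigma_of (x : Suz.Gen) : sigma (PresentedGroup.of x) = PresentedGroup.of (sw x) :=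
  sigHom_of x

theorem sigma_gm (L : List Lt) : sigma (gm L) = gm (swW L) := lift_sigF_mk L

/-! ### The permutation inducing the automorphism -/

/-- the column of the permutation of the points inducing the automorphism -/
def cSg : ℕ := 0x33f1e68acdab08631745415cd8d8c1b42dd00a86e3939b08bc353a759867b16cc3805e74bcad78e5da2bc71764ee42de65d07ba006b54de83be51a1329b851ea5c590d8aa035082a0c94246947d0eba17d64f6b203d4aa28b4462bf257d5b04140a2b2f569aad16f1e2ccbd9a6a08d9ed9e693cffae07449de52da69c1214a7a95e3c96a55af2d2d07d64f78d344270c7e171a44cf4ee9e53feda7b2ff029f45e47bce9795ae51d979a8499fcaa46e81fced785130a9e135a4110b3294052f8a4e31096965d217a3f36ad2d785172a33f725214fe036b4b59deb1f3c3dac7b182bb15de2cac559687b3d3bbb5774d81530395181a033858abe3647daf6f836ebf9e0ea7e5586f2c1f4fec7f62b92a7dfcfce5e933e0e7ba3bd377e2807227ba9e594b729e65356699981d2ed25264bff97e171da5f0c85d98772b133546351cdc98d0b1b067119a390af6122cddf985935d9501cd94952f9c833813eee3f487ecd4d49fd17bc107e95364623819d197ed693bc48c6519bb199e1dacde77b39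e07bc4b783cf0b4e973d775d84f835ed23dfe7c5712edee8c83f918d204a44cc88a8412f87234648e491513fede61e20779e1737ec2e62167ad0f43a7d8594cc91986b61cf438f875b849b211c236844ea7d22652a128a0d9413289cda3c6490b6e2925a78cbad6316c794e2a7c75647d51842aeb25d4b6a7062fa379c2f21e8505ac38797809df2c656d8b1b16af031e58bcaf9827f040c3355da35c4a9224e1b8b38bbbe929d23589d15e2b25cd154a2c709521394308cd6f9503298c57e8adf953f20a65c7a1f541ce86e50cda15eb3c5fd12f94aaa0a9ed9a2aa9966a9098e46ad5b99204f5662dd3f48587afd996352eb3a8a2b131fabcbc3c5ef30759b94bd2a992ff3dffe6315d02198fe01c636fc71b8eae7ab67899f24f619572667ba06efa8e320bec17c92f7bdf33e2707d0b62db121e45fc88391bb301e27fc4c2c24eb9fd77bae618f2711a629dc44b99b22fb45d88b9318170f4c3f8c19987e2b72d6f4cb530fa7255659ac7ed58c72fa5613ac099796afad86bcc2598c2b1166219f4393d69b0e55ec17b9f52d87601852db7f72ff5da87a0ab4e76fdf5faf574f4eeddcbbb8876f27f09015bb3d7620a5f14c595db2bf273514cd1cb6556ecd8d80d9cc55ffb6442bb658a76ae0d586efe359d6afed6eecc45dc09985777971dae595d0cd549ba0de296efadd41b91b76e6ebf3616652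4cb36f36d765bd54a8858f2e012f50ddeda8fd7c66f765eddbd7f5182a4e5f0a41faca81c54b9995cd0b9ddbc6393f4cc32c79c18b9127206be15caede927242d6b2ed8cc68be8d7cdefaadefb3a3e753250faaa85514ae24ac8159f391271e970eaaf36216b7fd86f31655c1cc3f18a3b11a61db550589c5b2caabf6e55894db1db6ef6da243dc029bd60c992dd2227490436e19966a9b8538e4ec09df9fe03fdecabd993aac65622cc61590342656d71c89975b3f967d4ceb98c1c65068a6acbda1adb3b681172cae7746c8a6877306e862a21a35d476d52751cca37b548ec01575db02359f2b36b07560ccc030e71d95b605566d6fb9d7216091674ede14434410b1185cd43db3891c828dcdbc4acc4a5101e20b5190a26d8602c26af58b45b692ed1e675ccf8b993b3cc2efeaf510baa17cd6b8862f0c9acb5628ebc3563530e5aee05d2b5b1eab756d6bc176802cf8e82eb6b374a9ee13c5a7878b004f692c103dfe81da07d9ee145bac955ecab27345d8dcca0b9ad005a3d73f58421e696504aed9fef2ea4803479e15e2d3f790d9019562dd433c739020ea21637ec013575d6533f84591153daa55d51476038115d8faad53ba776115ae3be2a668adea9a92b02a5d2acfa983d82fa64b6406de8db4ab7fd6f8298b5d39b76707ae2385bef826f4e3ae0e5aa5aa6596e31dd30b161456a5b2645ae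1b113935ed7fe432c9379142c3d6522c80b0772e2c41cdb8757126e33bb2ebf22fb42fd05cd0c21183e67a3cf389e52713501d1c5c9df8f001f8dceed7e72a5794a7a940758aead8af5290451eaa1f4e35adf0000039e50339365490282c922a24cc418291ca221c47f96f09241231a4ae95a6e22e59e249f956b2c02578a6074bb4972d2fc2fd0970e97a5ca7386d70f8684dc27a625961e9859ac74c4a3e1cdf99beba67f4ce131de64acb4b9a1b3382668ccfe9a57042a677931a2c88899537ba6e82c109b653ce278d3408d9f934ea7604ea2d90938aa4ea657c9f613dd27ab990c9dbe6d94aa69ba0e04e6e0cdfd9bdd34e89fda41828327699a838ce43a7a76d402d08521c7a756c99c21933f2a859a35ca1848d371d010bac67d8e091bd4bc733cc43451b996ad33905a9751be733557dab3688a63c5c75e2ea4cbea389b2dc9006d8563cd4b9645070286094484e828c72606541d6a2b5cc5d18fda2a13af28dcd8dfa33763428c6636bb20a92b88e0a497c8f3916f24824c4c93e922325ac9ba1d017a58f47693140bf8ac1154507744d941a1145672bc5429c72bec97e0b8b85fbebfbac4c55c895c48251024c3bcbf9b9d3739f672f3ffd0d12ba74290af337036a6c4074850335265ad4b699ab17fea6b3e65d934f25364bd3a5c53ac542511c1e1e5a1e816169e15182efece7d9c0ad873d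e103756d2c0ecabcca8fca57acc43bc4fe4d64bbf7598b3539e005d4baaa0a7e18f9dc1a0837cafc95f19e87808f024a7b29dc493e4faca398bedf3b10f9da355474f8edafa524cc537f7e191df273aca10ab192806ad55d1b4219179d67158e38c296712ee7d9e2bec8b7863f2c7f4baaf3a4e767cede9fbaebc9d71bad426166f54994ba98751270f946ba8c818247080e089be474f403c0025800f05fa1ef04b00c5d31ce585cc5d360631b0d7ddaf436ab6d386325ae536606ca2461539998f66c666721b73b6d86d74456135d99d76cde9a39be437b9965a99493219a227080e089c7a38c77134e395c6b01c20a1430847440ea649b69588d201ae535ac9498d4d250834f8d8912b8b9e435e8e5b1c98398a7422e719cbdb9f330de90d8a053534012c00b40ff05730dd424ccac08c302d96c5598e70fc346aa5b698d8232863248c28f8ec11982aa3ed115f974363d88a49948c8306dec8958bb0adc3666c4d1c41293ce1c988778bdda1c02f3acef5a403444682ed1880f005462c4c31b09c1aa5d974ac15cb1ab03973aae80a2292f76893b0609d17ad965eceed6e785df822b7abc363d4c7b8ba913c6aeb35d7568e2b0b8e538dc53eb2519160f9f2c45f6dfd60c8ad2d82c906bc6b5942839e47a595ea405681607968aa29e3c2a4eb6d0f079e00297cb2d5f7eab9869b4d4589eeab4d63bac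8a1a4f4a2e69d370ae51e965361807a96299cea29c913a10fbbb246938b26d9d35bb4c76d4a398958a8aa5136700896f288c524406cc043801e014a03fc0d2023a065413b026e86091d2e1fe084aa4bd4a8894d45911ab82148945cd45a4f9162669788a4a553346298d1c2f368d33ea459d35627060618047409d8366079e26343e591ee12de64c88d9191423289c91402a7c94efc9f9c54d9068311a41dd222810e00d20d5c0b405eb0fb4111c7170a322fb23d2d0e797ac4362cf6d6b49770448ecc251580555187e250865b96f81fa48d191c88267067219504038c7b1d883ad4e88370541be84e53fb36c99d62ea9e7600e5b401ac8664ea49e3475e4d584650d203c9654d8f16ad785ba422746799392299a77c566994a01be452086ea1f4a28aa51186bd1eb46a4a909daa18cc63b2e87f23e3c7d61da6537108db0cf744055c910d348f5226dc5149887ad17ca6fcc9678bf4385e038401e012c0294074416f80d207440f7829402d012fc654039a91d01554648c8d199054e8445d8cf326ca349e083410e02490c6c13ec2c10618169e43085989aa936064218c3f189c03de02d01c98519050a249034f89f61fc25ba51b222ce06901fa42fd08341ed22904be503fc13b00fb429b8816135626709d096712cc49600d90a58f747c2544ae621ed695a5fdc62705af10e052446f194733ed01680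4308c8a1b1250dcf618d5c11ee34f846c95541a2222b0a75b4f810864fb0b83b23713743660b40212a5028387cb92a3a04b3ca2e460192c025da065403c022b04b00c6c0c3062709061be48688b4021666b1cd3682ee06ea0ec43b10ac80e884704c5581590bb810683390a501eb45fa02b20a140d5c3fc03318f2d0c8a32647788ee232dc47f4ca0a8231cd45c591df100e070816446a688e81a5e558c45d8d0229f422382df0e011b4ed2f066a8f7844163c00b479b121f2c6054cafa83225f8030c1e002a308ac2b5c3a98ab923be12c038b849216bc8f3413b040b0d7a28147ff86900852297c4f3969e139244345be10e036603e1cc120a7d0b9a21fc7080db6120c43bd1ee0a232e688520787921b205896b487f1b4e367e05dc14a072609421c205b6847405641dc4c0304380d0229b83660f3c1e3c48a8cbe878f15cc48e481d891515ea6630c210fa52d5a6d745cd19b950822c1092b920c058211943c004bf203a1b6cb5e0ba922386db05dc112b22748fac82ca15724cc96f0de31b7b17ac2e2c2671833151849d4ccd928433546180dc5286e254449203cf104a37329024ddb8bc730a2d32d42f929347f46ea14283a4d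

/-- the column is an involution of the offsets -/
def invChk : Bool :=
  allLt 1782 fun k => force (Nat.mul k 15) fun x => force (nxt 32767 cSg x) fun v =>
    and (Nat.beq (Nat.mod v 15) 0) (and (Nat.blt v 26730) (Nat.beq (nxt 32767 cSg v) x))

theorem inv_ok : invChk = true := by decide +kernel

/-- the column intertwines the generators with their images -/
def twChk : Bool :=
  allLt 1782 fun k => force (Nat.mul k 15) fun x => force (nxt 32767 cSg x) fun v =>
    allLt 8 fun l => Nat.beq (nxt 32767 cSg (nxt 32767 (colL l) x))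
      (nxt 32767 (colL (Nat.rec (motive := fun _ => ℕ) 0 (fun l' _ =>
        Nat.rec (motive := fun _ => ℕ) 1 (fun l' _ => Nat.rec (motive := fun _ => ℕ) 2 (fun l' _ =>
        Nat.rec (motive := fun _ => ℕ) 3 (fun l' _ => Nat.rec (motive := fun _ => ℕ) 4 (fun l' _ =>
        Nat.rec (motive := fun _ => ℕ) 5 (fun l' _ => Nat.rec (motive := fun _ => ℕ) 7 (fun _ _ => 6)
          l') l') l') l') l') l') l)) v)

theorem tw_ok : twChk = true := by decide +kernel

theorem cnt_ok : cntB (fun k => not (Nat.beq (nxt 32767 cSg (Nat.mul k 15)) (Nat.mul k 15))) 1782 = 1682 := by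
  decide +kernel

/-- the packed word of an element conjugating the image of `y` to `y ^ 2` -/
def pC1 : ℕ := 0xaf9c4e54e35f272b8d629989cb1c4e2711

/-- the packed word of an element conjugating `y` to `y ^ 4` -/
def pC2 : ℕ := 0x532b566396388a6518e58e44e58e2

/-- the packed word of the image of `y` -/
def pYs : ℕ := 0x13e57ae35da

/-- the packed word of `y` -/
def pY : ℕ := 0x13c56ae359a

theorem unpack_pY : unpack 16 pY = wY := by decide

theorem unpack_pYs : unpack 16 pYs = swW wY := by decide

/-- the conjugating elements -/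
noncomputable def c1E : Suz := gm (unpack 64 pC1)
/-- the conjugating elements -/
noncomputable def c2E : Suz := gm (unpack 64 pC2)

theorem isWalk_pwalk (fuel w : ℕ) : IsWalk (pwalk fuel w) (gm (unpack fuel w)) := by
  intro k
  rw [pwalk_eq, walk_eq]

theorem rel_c1 : sigma yE * c1E = c1E * yE ^ 2 := by
  have h1 : sigma yE = gm (unpack 16 pYs) := by
    rw [unpack_pYs]
    exact sigma_gm wY
  rw [h1]
  exact eq_of_key5 ((isWalk_pwalk 16 pYs).comp (isWalk_pwalk 64 pC1))
    ((isWalk_pwalk 64 pC1).comp (isWalk_col cY2_ok)) (by decide +kernel)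

theorem rel_c2 : yE * c2E = c2E * yE ^ 4 := by
  exact eq_of_key5 ((isWalk_col cY1_ok).comp (isWalk_pwalk 64 pC2))
    ((isWalk_pwalk 64 pC2).comp (isWalk_col cY4_ok)) (by decide +kernel)

end Cfsg.Agent.Lib.Helper90_SuzSigma
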