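import Mathlib
import Cfsg.Prelude.Def_KGroupFacts
import Cfsg.Agent.Lib.Helper90_SuzSigma

/-!
# Suz: the automorphism interchanging f and g is not inner (helper90)

The automorphism is induced by an odd permutation of the 1782 points, the group acts by even
permutations, and its centraliser in the symmetric group is trivial.
-/

set_option autoImplicit false
set_option maxRecDepth 100000

namespace Cfsg.Agent.Lib.Helper90_SuzOuter

open Cfsg Cfsg.Spor Cfsg.Agent.Lib.Helper28_CosetPerm Cfsg.Agent.Lib.Helper28_S1680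
open Cfsg.Agent.Lib.Helper28_S1680Tab Cfsg.Agent.Lib.Helper90_SuzBase
open Cfsg.Agent.Lib.Helper90_SuzWalk Cfsg.Agent.Lib.Helper90_SuzCol
open Cfsg.Agent.Lib.Helper90_SuzMacro Cfsg.Agent.Lib.Helper90_CodeTable
open Cfsg.Agent.Lib.Helper96_SuzLower Cfsg.Agent.Lib.Helper96_SuzSimple
open Cfsg.Agent.Lib.Helper96_SuzChain Cfsg.Agent.Lib.Helper96_PermLower
open Cfsg.Agent.Lib.Helper90_SuzSigma

theorem inv_spec (k : Fin 1782) :
    nxt 32767 cSg ((k : ℕ) * 15) % 15 = 0 ∧ nxt 32767 cSg ((k : ℕ) * 15) < 26730 ∧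
      nxt 32767 cSg (nxt 32767 cSg ((k : ℕ) * 15)) = (k : ℕ) * 15 := by
  have h := allLt_spec inv_ok k k.2
  simp only [force_eq, Bool.and_eq_true, Nat.blt_eq] at h
  exact ⟨Nat.eq_of_beq_eq_true h.1, h.2.1, Nat.eq_of_beq_eq_true h.2.2⟩

/-- the map of the points -/
def sFun (k : Fin 1782) : Fin 1782 :=
  ⟨nxt 32767 cSg ((k : ℕ) * 15) / 15, by
    have := (inv_spec k).2.1
    omega⟩

theorem sFun_off (k : Fin 1782) : ((sFun k : Fin 1782) : ℕ) * 15 = nxt 32767 cSg ((k : ℕ) * 15) := by
  have h := (inv_spec k).1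
  show nxt 32767 cSg ((k : ℕ) * 15) / 15 * 15 = _
  omega

theorem sFun_inv : Function.Involutive sFun := by
  intro k
  apply fin_eq_of_off
  rw [sFun_off, sFun_off]
  exact (inv_spec k).2.2

/-- the permutation of the points -/
def sP : Equiv.Perm (Fin 1782) := sFun_inv.toPerm sFun

theorem sP_apply (k : Fin 1782) : sP k = sFun k := rfl

theorem sP_sq : sP * sP = 1 := by
  ext k
  rw [Equiv.Perm.mul_apply, sP_apply, sP_apply, sFun_inv k]
  rfl

/-- the letter number of a generator -/
def numL : Suz.Gen → ℕ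
  | .a => 1 | .b => 2 | .c => 3 | .d => 4 | .e => 5 | .f => 6 | .g => 7

theorem genL_numL (x : Suz.Gen) : genL (numL x) = x := by cases x <;> rfl

theorem tw_spec (x : Suz.Gen) (k : Fin 1782) :
    nxt 32767 cSg (nxt 32767 (colL (numL x)) ((k : ℕ) * 15)) =
      nxt 32767 (colL (numL (sw x))) (nxt 32767 cSg ((k : ℕ) * 15)) := by
  have h := allLt_spec tw_ok k k.2
  simp only [force_eq] at h
  have h2 := allLt_spec h (numL x) (by cases x <;> decide)
  have h3 := Nat.eq_of_beq_eq_true h2
  cases x <;> exact h3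

/-- the permutation intertwines the generators -/
theorem sP_gen (x : Suz.Gen) (k : Fin 1782) :
    sP ((ψ (PresentedGroup.of x))⁻¹ k) = (ψ (PresentedGroup.of (sw x)))⁻¹ (sP k) := by
  apply fin_eq_of_off
  have h1 := colOK_gen (numL x) k
  have h2 := colOK_gen (numL (sw x)) (sP k)
  rw [genL_numL] at h1 h2
  rw [← h2, sP_apply, sP_apply, sFun_off, sFun_off, ← h1]
  exact tw_spec x k

theorem sP_conj_gen (x : Suz.Gen) :
    sP * ψ (PresentedGroup.of x) * sP⁻¹ = ψ (PresentedGroup.of (sw x)) := by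
  have h : sP * (ψ (PresentedGroup.of x))⁻¹ = (ψ (PresentedGroup.of (sw x)))⁻¹ * sP := by
    ext k
    rw [Equiv.Perm.mul_apply, Equiv.Perm.mul_apply, sP_gen]
  have h2 : (ψ (PresentedGroup.of (sw x)))⁻¹ = sP * (ψ (PresentedGroup.of x))⁻¹ * sP⁻¹ := by
    rw [h, mul_inv_cancel_right]
  have h3 := congrArg (fun p => p⁻¹) h2
  simp only [inv_inv, mul_inv_rev] at h3
  rw [h3, mul_assoc]

theorem sP_conj (g : Suz) : sP * ψ g * sP⁻¹ = ψ (sigma g) := by
  have h : ((MulAut.conj sP).toMonoidHom.comp ψ) = ψ.comp sigma.toMonoidHom := by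
    apply PresentedGroup.ext
    intro x
    show MulAut.conj sP (ψ (PresentedGroup.of x)) = ψ (sigma (PresentedGroup.of x))
    rw [MulAut.conj_apply, sP_conj_gen, sigma_of]
  have := DFunLike.congr_fun h g
  exact this

/-! ### The group acts transitively, by even permutations, with trivial centraliser -/

theorem transitive (k : Fin 1782) : ∃ g : Suz, ψ g b1 = k := by
  have hall := level_reach oid1 rnk1 b1 cl1 K1 (fun u _ => mem_range u) chk1
  have hcard := card_orb oid1 1782 cnt1
  have huniv : orbSet 1782 15 32767 oid1 1 = Finset.univ := by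
    apply Finset.eq_univ_of_card
    rw [hcard]
    simp
  obtain ⟨p, ⟨g, rfl⟩, hp⟩ := hall k (by rw [huniv]; exact Finset.mem_univ k)
  exact ⟨g, hp⟩

theorem fixY (k : Fin 1782) (h : ψ yE k = k) : k = b1 := by
  have hc : allLt 1782 (fun k => force (Nat.mul k 15) fun x =>
      or (Nat.beq k 0) (not (Nat.beq (nxt 32767 cY1 x) x))) = true := by decide +kernel
  have h1 := allLt_spec hc k k.2
  simp only [force_eq, Bool.or_eq_true, Bool.not_eq_true'] at h1
  rcases h1 with h1 | h1
  · exact Fin.ext (Nat.eq_of_beq_eq_true h1)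
  · exfalso
    have h2 := cY1_ok k
    have h3 : (ψ yE)⁻¹ k = k := by
      rw [Equiv.Perm.inv_def, Equiv.symm_apply_eq, h]
    rw [h3] at h2
    rw [show Nat.mul (k : ℕ) 15 = (k : ℕ) * 15 from rfl, h2, Nat.beq_refl] at h1
    exact Bool.noConfusion h1

theorem fixY_b1 : ψ yE b1 = b1 := by
  have h2 := cY1_ok b1
  have h3 : nxt 32767 cY1 ((b1 : ℕ) * 15) = (b1 : ℕ) * 15 := by decide +kernel
  rw [h3] at h2
  have h4 : b1 = (ψ yE)⁻¹ b1 := fin_eq_of_off h2
  rw [Equiv.Perm.inv_def, Equiv.eq_symm_apply] at h4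
  exact h4

/-- a permutation commuting with the group is trivial -/
theorem centralizer_trivial (z : Equiv.Perm (Fin 1782)) (hz : ∀ g : Suz, z * ψ g = ψ g * z) :
    z = 1 := by
  have h0 : z b1 = b1 := by
    apply fixY
    have := DFunLike.congr_fun (hz yE) b1
    rw [Equiv.Perm.mul_apply, Equiv.Perm.mul_apply, fixY_b1] at this
    exact this.symm
  ext k
  obtain ⟨g, rfl⟩ := transitive k
  have := DFunLike.congr_fun (hz g) b1
  rw [Equiv.Perm.mul_apply, Equiv.Perm.mul_apply, h0] at this
  rw [this]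
  rfl

theorem sign_psi (g : Suz) : Equiv.Perm.sign (ψ g) = 1 := by
  have := suz_simple
  have := suz_finite
  let φ : Suz →* ℤˣ := Equiv.Perm.sign.comp ψ
  rcases (MonoidHom.normal_ker φ).eq_bot_or_eq_top with h | h
  · exfalso
    have hinj : Function.Injective φ := (MonoidHom.ker_eq_bot_iff φ).mp h
    have h1 := Nat.card_le_card_of_injective φ hinj
    rw [card_suz] at h1
    have h2 : Nat.card ℤˣ = 2 := by
      rw [Nat.card_eq_fintype_card]
      rfl
    omega
  · have : g ∈ φ.ker := by rw [h]; exact Subgroup.mem_top g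
    exact this

theorem sP_ne_one : sP ≠ 1 := by
  intro h
  have h1 : nxt 32767 cSg 0 = 14925 := by decide +kernel
  have h2 := sFun_off b1
  rw [← sP_apply, h, Equiv.Perm.one_apply] at h2
  rw [show ((b1 : Fin 1782) : ℕ) * 15 = 0 from rfl] at h2
  rw [h1] at h2
  exact absurd h2 (by decide)

theorem support_card : sP.support.card = 1682 := by
  have h1 : sP.support = Finset.univ.filter (fun k : Fin 1782 =>
      (fun k : ℕ => not (Nat.beq (nxt 32767 cSg (Nat.mul k 15)) (Nat.mul k 15))) k = true) := by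
    ext k
    simp only [Equiv.Perm.mem_support, Finset.mem_filter, Finset.mem_univ, true_and,
      Bool.not_eq_true']
    rw [show Nat.mul (k : ℕ) 15 = (k : ℕ) * 15 from rfl, ← sFun_off k, ← sP_apply]
    constructor
    · intro h
      by_contra hc
      apply h
      apply fin_eq_of_off
      have : Nat.beq (((sP k : Fin 1782) : ℕ) * 15) ((k : ℕ) * 15) = true := by
        cases hb : Nat.beq (((sP k : Fin 1782) : ℕ) * 15) ((k : ℕ) * 15)
        · exact absurd hb hc
        · rfl
      exact Nat.eq_of_beq_eq_true this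
    · intro h he
      rw [he, Nat.beq_refl] at h
      exact Bool.noConfusion h
  rw [h1, card_filter_fin 1782 (fun k : ℕ =>
    (fun k : ℕ => not (Nat.beq (nxt 32767 cSg (Nat.mul k 15)) (Nat.mul k 15))) k = true),
    card_filter_range_eq_cntB, cnt_ok]

theorem sign_sP : Equiv.Perm.sign sP = -1 := by
  have hord : orderOf sP = 2 := by
    have hp : Fact (Nat.Prime 2) := ⟨Nat.prime_two⟩
    apply orderOf_eq_prime
    · rw [pow_two]; exact sP_sq
    · exact sP_ne_one
  have hprime : (orderOf sP).Prime := by rw [hord]; exact Nat.prime_two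
  obtain ⟨n, hn⟩ := Equiv.Perm.cycleType_prime_order hprime
  rw [hord] at hn
  have hsum := Equiv.Perm.sum_cycleType sP
  rw [hn, Multiset.sum_replicate, support_card, smul_eq_mul] at hsum
  have hn1 : n + 1 = 841 := by omega
  rw [Equiv.Perm.sign_of_cycleType, hn, hn1]
  rw [Multiset.sum_replicate, Multiset.card_replicate, smul_eq_mul]
  norm_num

/-- the automorphism is not inner -/
theorem sigma_not_inn : sigma ∉ Inn Suz := by
  rintro ⟨h, hh⟩
  have hs : ∀ g : Suz, sigma g = h * g * h⁻¹ := by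
    intro g
    rw [← hh]
    rfl
  have hz : ∀ g : Suz, ((ψ h)⁻¹ * sP) * ψ g = ψ g * ((ψ h)⁻¹ * sP) := by
    intro g
    have h1 := sP_conj g
    rw [hs, map_mul, map_mul, map_inv] at h1
    have h2 : sP * ψ g = ψ h * ψ g * (ψ h)⁻¹ * sP := by
      rw [← h1, inv_mul_cancel_right]
    rw [mul_assoc, h2]
    group
  have h1 := centralizer_trivial _ hz
  have h2 : sP = ψ h := by
    rw [inv_mul_eq_one] at h1
    exact h1.symm
  have h3 := sign_sP
  rw [h2, sign_psi] at h3
  exact absurd h3 (by decide)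

end Cfsg.Agent.Lib.Helper90_SuzOuter
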