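import Mathlib
import Cfsg.Agent.Lib.Helper81_TZW_Defs
import Cfsg.Agent.Lib.Helper25_TZ_GEN4

/-!
# S2524 part W, package GLT (helper90): `A ↦ (A⁻¹)ᵀ` is transitive on the non-zero vectors.
-/

set_option autoImplicit false

namespace Cfsg.Agent.Lib.Helper90_TZW_GLT

open Matrix Module
open Cfsg.Agent.Lib.Helper5_SpPerfect Cfsg.Agent.Lib.Helper81_SpWeights
  Cfsg.Agent.Lib.Helper81_Heis Cfsg.Agent.Lib.Helper81_WeilLin Cfsg.Agent.Lib.Helper81_Schrodinger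
  Cfsg.Agent.Lib.Helper75_TZ Cfsg.Agent.Lib.Helper81_TZW

variable {F : Type*} [Field F] [Fintype F] [DecidableEq F] {K : Type*} [Field K] [IsAlgClosed K] [CharZero K]

theorem exists_GL_inv_transpose_mulVec_eq {k : ℕ} (s t : Fin k → F) (hs : s ≠ 0) (ht : t ≠ 0) :
    ∃ A : GL (Fin k) F, (A⁻¹.1)ᵀ *ᵥ s = t := by
  obtain ⟨B, hB⟩ := Cfsg.Agent.Lib.Helper75_TZ.exists_GL_mulVec s t hs ht
  -- the transpose of `B` as an element of `GL`
  let C : GL (Fin k) F :=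
    ⟨B.1ᵀ, (B⁻¹).1ᵀ, by
      rw [← Matrix.transpose_mul]
      have : (B⁻¹).1 * B.1 = 1 := by
        rw [← Units.val_mul, inv_mul_cancel, Units.val_one]
      rw [this, Matrix.transpose_one], by
      rw [← Matrix.transpose_mul]
      have : B.1 * (B⁻¹).1 = 1 := by
        rw [← Units.val_mul, mul_inv_cancel, Units.val_one]
      rw [this, Matrix.transpose_one]⟩
  refine ⟨C⁻¹, ?_⟩
  rw [inv_inv]
  show (B.1ᵀ)ᵀ *ᵥ s = t
  rw [Matrix.transpose_transpose]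
  exact hB

end Cfsg.Agent.Lib.Helper90_TZW_GLT
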