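import Mathlib
import Cfsg.Agent.Lib.Helper81_TZW_Defs

/-!
# S2524 part W, package VV (helper90): `s sᵀ = t tᵀ → t = ±s` and the rank one symmetric matrices.
-/

set_option autoImplicit false

namespace Cfsg.Agent.Lib.Helper90_TZW_VV

open Matrix Module
open Cfsg.Agent.Lib.Helper5_SpPerfect Cfsg.Agent.Lib.Helper81_SpWeights
  Cfsg.Agent.Lib.Helper81_Heis Cfsg.Agent.Lib.Helper81_WeilLin Cfsg.Agent.Lib.Helper81_Schrodinger
  Cfsg.Agent.Lib.Helper75_TZ Cfsg.Agent.Lib.Helper81_TZW

variable {F : Type*} [Field F] [Fintype F] [DecidableEq F] {K : Type*} [Field K] [IsAlgClosed K] [CharZero K]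

theorem vecMulVec_self_inj (h2 : (2 : F) ≠ 0) {k : ℕ} {s t : Fin k → F}
    (h : vecMulVec s s = vecMulVec t t) : t = s ∨ t = -s := by
  have hent : ∀ i j, s i * s j = t i * t j := by
    intro i j
    have := congrFun (congrFun h i) j
    simpa [vecMulVec_apply] using this
  by_cases hs : s = 0
  · left
    funext i
    have := hent i i
    rw [hs] at this
    simp only [Pi.zero_apply, mul_zero] at this
    rw [hs, Pi.zero_apply]
    exact (mul_self_eq_zero.mp this.symm)
  · obtain ⟨i0, hi0⟩ : ∃ i0, s i0 ≠ 0 := by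
      by_contra hcon
      push Not at hcon
      exact hs (funext hcon)
    have hsq := hent i0 i0
    have hfac : (t i0 - s i0) * (t i0 + s i0) = 0 := by ring_nf; rw [pow_two, pow_two, hsq]; ring
    rcases mul_eq_zero.mp hfac with h1 | h1
    · left
      have ht0 : t i0 = s i0 := sub_eq_zero.mp h1
      funext j
      have := hent i0 j
      rw [ht0] at this
      exact (mul_left_cancel₀ hi0 this).symm
    · right
      have ht0 : t i0 = -s i0 := eq_neg_of_add_eq_zero_left h1
      funext j
      have := hent i0 j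
      rw [ht0] at this
      have h3 : s i0 * s j = s i0 * (-t j) := by rw [this]; ring
      have h4 := mul_left_cancel₀ hi0 h3
      rw [Pi.neg_apply, h4, neg_neg]

theorem rk1S_inj (h2 : (2 : F) ≠ 0) {k : ℕ} {a : F} (ha : a ≠ 0) {s t : Fin k → F}
    (h : rk1S a s = rk1S a t) : t = s ∨ t = -s := by
  apply vecMulVec_self_inj h2
  have h1 : a • vecMulVec s s = a • vecMulVec t t := congrArg Subtype.val h
  exact smul_right_injective _ ha h1

theorem rk1S_neg {k : ℕ} (a : F) (s : Fin k → F) : rk1S a (-s) = rk1S a s := by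
  apply Subtype.ext
  show a • vecMulVec (-s) (-s) = a • vecMulVec s s
  rw [Matrix.neg_vecMulVec, Matrix.vecMulVec_neg, neg_neg]

theorem Ta_eq_rk1S {m : ℕ} (a : F) : (Ta a : symSub (m + 1) F) = rk1S a e0 := by
  apply Subtype.ext
  show Matrix.single 0 0 a = a • vecMulVec e0 e0
  ext i j
  simp only [Matrix.single_apply, Matrix.smul_apply, vecMulVec_apply, e0, Pi.single_apply,
    smul_eq_mul]
  by_cases hi : i = 0 <;> by_cases hj : j = 0 <;> simp [hi, hj, eq_comm]

end Cfsg.Agent.Lib.Helper90_TZW_VV
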