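import Mathlib
import Cfsg.Agent.Lib.Helper13_B2Defs
import Cfsg.Agent.Lib.Helper13_B2Geom

/-!
# Helper91_B2_PAIR (package B2-PAIR for S1083, architect helper13)

The unipotent radical of the stabiliser of `e1` moves every singular `y` with `y f1 = 1` to `f1`.
-/

set_option autoImplicit false

namespace Cfsg.Agent.Lib.Helper91_B2_PAIR

open Cfsg Cfsg.Agent.Lib.Helper13_B2Defs Cfsg.Agent.Lib.Helper13_B2Geom Matrix

variable {F : Type*} [Field F]

theorem act_xO (r : ℕ) (t : F) (v : I5 → F) : act (xO F r t) v = xM F r t *ᵥ v := rfl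

/-- the three root elements fix `e1`. -/
theorem fix_e1 (a e c : F) :
    act (xO F 6 a * xO F 4 e * xO F 7 c) (mk5 0 1 0 0 0) = mk5 0 1 0 0 0 := by
  rw [act_mul, act_mul, act_xO, act_xO, act_xO, xM_mk5_7, xM_mk5_4, xM_mk5_6]
  apply mk5_ext <;> ring

/-- the three root elements move a singular `(a, b, c, 1, e)` to `f1`. -/
theorem move_f1 (a b c e : F) (hQ : a ^ 2 + b * 1 + c * e = 0) :
    act (xO F 6 a * xO F 4 e * xO F 7 c) (mk5 a b c 1 e) = mk5 0 0 0 1 0 := by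
  rw [act_mul, act_mul, act_xO, act_xO, act_xO, xM_mk5_7, xM_mk5_4, xM_mk5_6]
  apply mk5_ext
  · ring
  · linear_combination hQ
  · ring
  · ring
  · ring

/-- B2-PAIR: the unipotent radical of the stabiliser of `e1` moves every singular `y` with `B(e1, y) = 1` to `f1`. -/
theorem pair5 (y : I5 → F) (hQ : Q5 F y = 0) (h1 : y f1 = 1) :
    ∃ h ∈ E5 F, act h (mk5 0 1 0 0 0) = mk5 0 1 0 0 0 ∧ act h y = mk5 0 0 0 1 0 := by
  have hy : y = mk5 (y o) (y e1) (y e2) 1 (y f2) := by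
    have := mk5_eta y
    rw [h1] at this
    exact this
  have hQ' := hQ
  rw [hy, Q5_mk5] at hQ'
  refine ⟨xO F 6 (y o) * xO F 4 (y f2) * xO F 7 (y e2),
    (E5 F).mul_mem ((E5 F).mul_mem (xO_mem_E5 _ _) (xO_mem_E5 _ _)) (xO_mem_E5 _ _),
    fix_e1 _ _ _, ?_⟩
  have hmove := move_f1 (y o) (y e1) (y e2) (y f2)
  rw [← hy] at hmove
  exact hmove hQ'

end Cfsg.Agent.Lib.Helper91_B2_PAIR
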