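import Mathlib
import Cfsg.Agent.Lib.Helper13_B2Defs
import Cfsg.Agent.Lib.Helper13_B2Geom

/-!
# Helper91_B2_TRANS (package B2-TRANS for S1083, architect helper13)

`E5 F` is transitive on the non-zero singular vectors of `Q = x₀² + x₁y₁ + x₂y₂`.
-/

set_option autoImplicit false

namespace Cfsg.Agent.Lib.Helper91_B2_TRANS

open Cfsg Cfsg.Agent.Lib.Helper13_B2Defs Cfsg.Agent.Lib.Helper13_B2Geom Matrix

variable {F : Type*} [Field F]

/-- `v` can be moved to `e1` by an element of `E5`. -/
def Rch (v : I5 → F) : Prop := ∃ h ∈ E5 F, act h v = mk5 0 1 0 0 0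

theorem Rch_step (r : ℕ) (t : F) (v : I5 → F) (h : Rch (xM F r t *ᵥ v)) : Rch v := by
  obtain ⟨g, hg, hgv⟩ := h
  refine ⟨g * xO F r t, (E5 F).mul_mem hg (xO_mem_E5 r t), ?_⟩
  rw [act_mul]
  exact hgv

theorem Rch_e1 : Rch (mk5 (0 : F) 1 0 0 0) := ⟨1, (E5 F).one_mem, act_one _⟩

/-- the case `b ≠ 0` -/
theorem trans5_b (a b c d e : F) (hb : b ≠ 0) (hQ : a ^ 2 + b * d + c * e = 0) :
    Rch (mk5 a b c d e) := by
  apply Rch_step 3 (-c / b)
  rw [xM_mk5_3]
  apply Rch_step 0 (-e / b)
  rw [xM_mk5_0]
  apply Rch_step 1 (-a / b)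
  rw [xM_mk5_1]
  apply Rch_step 3 1
  rw [xM_mk5_3]
  apply Rch_step 4 (b⁻¹ - 1)
  rw [xM_mk5_4]
  apply Rch_step 3 (-b)
  rw [xM_mk5_3]
  have key : mk5 (a + -a / b * b)
      (b + (b⁻¹ - 1) * (c + -c / b * b + 1 * b))
      (c + -c / b * b + 1 * b + -b * (b + (b⁻¹ - 1) * (c + -c / b * b + 1 * b)))
      (d - -c / b * e - -e / b * (c + -c / b * b) - 2 * (-a / b) * a - (-a / b) ^ 2 * b -
        1 * (e + -e / b * b) - -b * (e + -e / b * b - (b⁻¹ - 1) * (d - -c / b * e - -e / b * (c + -c / b * b) - 2 * (-a / b) * a - (-a / b) ^ 2 * b - 1 * (e + -e / b * b))))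
      (e + -e / b * b - (b⁻¹ - 1) * (d - -c / b * e - -e / b * (c + -c / b * b) - 2 * (-a / b) * a - (-a / b) ^ 2 * b - 1 * (e + -e / b * b)))
      = mk5 (0 : F) 1 0 0 0 := by
    have hd : d - -c / b * e - -e / b * (c + -c / b * b) - 2 * (-a / b) * a - (-a / b) ^ 2 * b -
        1 * (e + -e / b * b) = 0 := by
      field_simp
      linear_combination hQ
    rw [hd]
    apply mk5_ext <;> field_simp <;> ring
  rw [key]
  exact Rch_e1

/-- B2-TRANS: `E5` is transitive on the non-zero singular vectors. -/
theorem trans5 (v : I5 → F) (hv : v ≠ 0) (hQ : Q5 F v = 0) :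
    ∃ h ∈ E5 F, act h v = mk5 0 1 0 0 0 := by
  show Rch v
  have hQ' := hQ
  rw [mk5_eta v, Q5_mk5] at hQ'
  by_cases hb : v e1 = 0
  · by_cases hc : v e2 = 0
    · by_cases he : v f2 = 0
      · by_cases hd : v f1 = 0
        · exfalso
          apply hv
          rw [hb, hc, hd, he] at hQ'
          have ha : v o = 0 := by
            have : v o ^ 2 = 0 := by linear_combination hQ'
            exact pow_eq_zero_iff (two_ne_zero) |>.1 this
          rw [mk5_eta v, ha, hb, hc, hd, he]
          funext i
          revert i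
          apply I5_forall <;> rfl
        · -- `a = 0`, use `x₆(1)`
          have ha : v o = 0 := by
            rw [hb, hc, he] at hQ'
            have : v o ^ 2 = 0 := by linear_combination hQ'
            exact pow_eq_zero_iff (two_ne_zero) |>.1 this
          apply Rch_step 6 1
          rw [mk5_eta v, xM_mk5_6]
          apply trans5_b
          · rw [hb, ha]
            intro h
            apply hd
            linear_combination -h
          · have := Q5_xM (F := F) 6 1 v
            rw [hQ, mk5_eta v, xM_mk5_6, Q5_mk5] at this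
            exact this
      · apply Rch_step 7 1
        rw [mk5_eta v, xM_mk5_7]
        apply trans5_b
        · rw [hb]
          intro h
          apply he
          linear_combination h
        · have := Q5_xM (F := F) 7 1 v
          rw [hQ, mk5_eta v, xM_mk5_7, Q5_mk5] at this
          exact this
    · apply Rch_step 4 1
      rw [mk5_eta v, xM_mk5_4]
      apply trans5_b
      · rw [hb]
        intro h
        apply hc
        linear_combination h
      · have := Q5_xM (F := F) 4 1 v
        rw [hQ, mk5_eta v, xM_mk5_4, Q5_mk5] at this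
        exact this
  · rw [mk5_eta v]
    exact trans5_b _ _ _ _ _ hb hQ'

end Cfsg.Agent.Lib.Helper91_B2_TRANS
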