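import Mathlib

/-!
# Permutations respecting a partition, and an index-two recognition lemma

helper91.
* `PS f`: the subgroup of `Perm α` of the permutations `σ` for which some permutation `τ`
  of `β` satisfies `f (σ x) = τ (f x)` (the fibres of `f : α → β` are permuted);
  for surjective `f` the induced permutation is unique and gives `rho : PS f →* Perm β`.
* `index_two_of_common_action`: if a finite group `G` acts on `Fin n` through `ρ`, a perfect
  group `S` acts faithfully through `θ` with `θ.range ≤ ρ.range`, some element of `G` acts as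
  an odd permutation, and `|G| ≤ 2 |S|`, then `G` has a normal subgroup of index two
  isomorphic to `S`.
-/

set_option autoImplicit false

namespace Cfsg.Agent.Lib.Helper91_BlockAction

open Equiv

section PS

variable {α β : Type*} (f : α → β)

/-- permutations of `α` inducing a permutation of `β` along `f` -/
def PS : Subgroup (Perm α) where
  carrier := {σ | ∃ τ : Perm β, ∀ x, f (σ x) = τ (f x)}
  mul_mem' := by
    rintro σ₁ σ₂ ⟨τ₁, h₁⟩ ⟨τ₂, h₂⟩
    exact ⟨τ₁ * τ₂, fun x => by rw [Perm.mul_apply, h₁, h₂, Perm.mul_apply]⟩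
  one_mem' := ⟨1, fun _ => rfl⟩
  inv_mem' := by
    rintro σ ⟨τ, h⟩
    refine ⟨τ⁻¹, fun x => ?_⟩
    rw [Perm.eq_inv_iff_eq, ← h]
    exact congrArg f (Equiv.apply_symm_apply σ x)

theorem mem_PS_iff (σ : Perm α) : σ ∈ PS f ↔ ∃ τ : Perm β, ∀ x, f (σ x) = τ (f x) := Iff.rfl

variable {f} (hf : Function.Surjective f)

include hf in
theorem induced_unique (σ : Perm α) (τ₁ τ₂ : Perm β) (h₁ : ∀ x, f (σ x) = τ₁ (f x))
    (h₂ : ∀ x, f (σ x) = τ₂ (f x)) : τ₁ = τ₂ := by
  ext y
  obtain ⟨x, rfl⟩ := hf y
  rw [← h₁, ← h₂]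

/-- the induced permutation -/
noncomputable def rho : PS f →* Perm β where
  toFun σ := Classical.choose σ.2
  map_one' := by
    refine induced_unique hf (1 : Perm α) _ 1 ?_ (fun _ => rfl)
    exact Classical.choose_spec (1 : PS f).2
  map_mul' σ₁ σ₂ := by
    refine induced_unique hf ((σ₁ : Perm α) * σ₂) _ _ (Classical.choose_spec (σ₁ * σ₂).2) ?_
    intro x
    rw [Perm.mul_apply, Classical.choose_spec σ₁.2, Classical.choose_spec σ₂.2, Perm.mul_apply]

theorem rho_spec (σ : PS f) (x : α) : f ((σ : Perm α) x) = rho hf σ (f x) :=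
  Classical.choose_spec σ.2 x

theorem rho_eq (σ : PS f) (τ : Perm β) (h : ∀ x, f ((σ : Perm α) x) = τ (f x)) :
    rho hf σ = τ :=
  induced_unique hf σ _ _ (rho_spec hf σ) h

end PS

section Index

variable {G S : Type*} [Group G] [Group S] [Finite G] {n : ℕ}

/-- the recognition lemma -/
theorem index_two_of_common_action (ρ : G →* Perm (Fin n)) (θ : S →* Perm (Fin n))
    (hθ : Function.Injective θ) (hle : θ.range ≤ ρ.range) (hS : commutator S = ⊤)
    (g₀ : G) (hodd : Perm.sign (ρ g₀) = -1) (hcard : Nat.card G ≤ 2 * Nat.card S) :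
    ∃ N : Subgroup G, N.Normal ∧ N.index = 2 ∧ Nonempty (N ≃* S) := by
  classical
  let ε : G →* ℤˣ := Perm.sign.comp ρ
  have hεsurj : Function.Surjective ε := by
    intro u
    rcases Int.units_eq_one_or u with rfl | rfl
    · exact ⟨1, map_one _⟩
    · exact ⟨g₀, hodd⟩
  have hidx : ε.ker.index = 2 := by
    rw [Subgroup.index_ker, MonoidHom.range_eq_top.mpr hεsurj]
    simp
  refine ⟨ε.ker, inferInstance, hidx, ?_⟩
  -- the sign of `θ s` is trivial
  have hsign : ∀ s : S, Perm.sign (θ s) = 1 := by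
    intro s
    have h1 : (Perm.sign.comp θ).ker = ⊤ := by
      rw [eq_top_iff, ← hS]
      exact Abelianization.commutator_subset_ker _
    have h2 : s ∈ (Perm.sign.comp θ).ker := h1 ▸ Subgroup.mem_top s
    exact h2
  have hle2 : θ.range ≤ ε.ker.map ρ := by
    rintro _ ⟨s, rfl⟩
    obtain ⟨g, hg⟩ := hle ⟨s, rfl⟩
    refine ⟨g, ?_, hg⟩
    show Perm.sign (ρ g) = 1
    rw [hg]
    exact hsign s
  have hcardN : Nat.card ε.ker * 2 = Nat.card G := by
    rw [← hidx]
    exact Subgroup.card_mul_index _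
  have hcS : Nat.card θ.range = Nat.card S :=
    Nat.card_congr (MonoidHom.ofInjective hθ).toEquiv.symm
  have hc1 : Nat.card θ.range ≤ Nat.card (ε.ker.map ρ) :=
    Nat.card_le_card_of_injective _ (Subgroup.inclusion_injective hle2)
  have hsurj : Function.Surjective (ρ.subgroupMap ε.ker) := ρ.subgroupMap_surjective ε.ker
  have hc2 : Nat.card (ε.ker.map ρ) ≤ Nat.card ε.ker := Nat.card_le_card_of_surjective _ hsurj
  have hNS : Nat.card ε.ker ≤ Nat.card S := by omega
  have hbij : Function.Bijective (ρ.subgroupMap ε.ker) :=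
    hsurj.bijective_of_nat_card_le (by omega)
  have heq : θ.range = ε.ker.map ρ :=
    Subgroup.eq_of_le_of_card_ge hle2 (by omega)
  exact ⟨((MulEquiv.ofBijective _ hbij).trans (MulEquiv.subgroupCongr heq.symm)).trans
    (MonoidHom.ofInjective hθ).symm⟩

end Index

end Cfsg.Agent.Lib.Helper91_BlockAction
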