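import Mathlib

/-!
# Permutations respecting a partition and an incidence relation on its classes

helper91.
* `PS2 f R`: the subgroup of `Perm α` of the permutations `σ` for which there are permutations
  `τ₁` of `β` and `τ₂` of `γ` with `f (σ x) = τ₁ (f x)` and `R (τ₁ b) (τ₂ c) ↔ R b c`
  (`f : α → β` a partition into classes, `R : β → γ → Prop` an incidence relation between classes
  and "points").  For surjective `f` and separating `R` the permutation `τ₂` is unique and gives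
  `rho2 : PS2 f R →* Perm γ`.
* `iso_of_common_action`: if a finite group `G` acts through `ρ`, a group `S` acts faithfully
  through `θ` on the same set with `θ.range ≤ ρ.range`, and `|G| ≤ |S|`, then `G ≃* S`.
-/

set_option autoImplicit false

namespace Cfsg.Agent.Lib.Helper91_BlockAction2

open Equiv

section PS2

variable {α β γ : Type*} (f : α → β) (R : β → γ → Prop)

/-- permutations of `α` inducing compatible permutations of classes and points -/
def PS2 : Subgroup (Perm α) where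
  carrier := {σ | ∃ τ₂ : Perm γ, ∃ τ₁ : Perm β, (∀ x, f (σ x) = τ₁ (f x)) ∧
    ∀ b c, R (τ₁ b) (τ₂ c) ↔ R b c}
  mul_mem' := by
    rintro σ σ' ⟨τ₂, τ₁, h₁, h₂⟩ ⟨τ₂', τ₁', h₁', h₂'⟩
    refine ⟨τ₂ * τ₂', τ₁ * τ₁', fun x => ?_, fun b c => ?_⟩
    · rw [Perm.mul_apply, h₁, h₁', Perm.mul_apply]
    · rw [Perm.mul_apply, Perm.mul_apply, h₂, h₂']
  one_mem' := ⟨1, 1, fun _ => rfl, fun _ _ => Iff.rfl⟩
  inv_mem' := by
    rintro σ ⟨τ₂, τ₁, h₁, h₂⟩
    refine ⟨τ₂⁻¹, τ₁⁻¹, fun x => ?_, fun b c => ?_⟩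
    · rw [Perm.eq_inv_iff_eq, ← h₁]
      exact congrArg f (Equiv.apply_symm_apply σ x)
    · have := h₂ (τ₁⁻¹ b) (τ₂⁻¹ c)
      rw [show τ₁ (τ₁⁻¹ b) = b from Equiv.apply_symm_apply τ₁ b,
        show τ₂ (τ₂⁻¹ c) = c from Equiv.apply_symm_apply τ₂ c] at this
      exact this.symm

variable {f R} (hf : Function.Surjective f)
  (hR : ∀ c c' : γ, (∀ b, R b c ↔ R b c') → c = c')

include hf hR in
theorem induced_unique (σ : Perm α) (τ₂ τ₂' : Perm γ)
    (h : ∃ τ₁ : Perm β, (∀ x, f (σ x) = τ₁ (f x)) ∧ ∀ b c, R (τ₁ b) (τ₂ c) ↔ R b c)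
    (h' : ∃ τ₁ : Perm β, (∀ x, f (σ x) = τ₁ (f x)) ∧ ∀ b c, R (τ₁ b) (τ₂' c) ↔ R b c) :
    τ₂ = τ₂' := by
  obtain ⟨τ₁, h₁, h₂⟩ := h
  obtain ⟨τ₁', h₁', h₂'⟩ := h'
  have e : τ₁ = τ₁' := by
    ext y
    obtain ⟨x, rfl⟩ := hf y
    rw [← h₁, ← h₁']
  subst e
  ext c
  apply hR
  intro b
  have hb : b = τ₁ (τ₁⁻¹ b) := (Equiv.apply_symm_apply τ₁ b).symm
  rw [hb, h₂, h₂']

/-- the induced permutation of the points -/
noncomputable def rho2 : PS2 f R →* Perm γ where
  toFun σ := Classical.choose σ.2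
  map_one' := by
    refine induced_unique hf hR (1 : Perm α) _ 1 (Classical.choose_spec (1 : PS2 f R).2) ?_
    exact ⟨1, fun _ => rfl, fun _ _ => Iff.rfl⟩
  map_mul' σ σ' := by
    refine induced_unique hf hR ((σ : Perm α) * σ') _ _ (Classical.choose_spec (σ * σ').2) ?_
    obtain ⟨τ₁, h₁, h₂⟩ := Classical.choose_spec σ.2
    obtain ⟨τ₁', h₁', h₂'⟩ := Classical.choose_spec σ'.2
    refine ⟨τ₁ * τ₁', fun x => ?_, fun b c => ?_⟩
    · rw [Perm.mul_apply, h₁, h₁', Perm.mul_apply]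
    · rw [Perm.mul_apply, Perm.mul_apply, h₂, h₂']

theorem rho2_eq (σ : PS2 f R) (τ₂ : Perm γ) (τ₁ : Perm β) (h₁ : ∀ x, f ((σ : Perm α) x) = τ₁ (f x))
    (h₂ : ∀ b c, R (τ₁ b) (τ₂ c) ↔ R b c) : rho2 hf hR σ = τ₂ :=
  induced_unique hf hR σ _ _ (Classical.choose_spec σ.2) ⟨τ₁, h₁, h₂⟩

end PS2

section Iso

variable {G S P : Type*} [Group G] [Group S] [Group P] [Finite G]

/-- the recognition lemma -/
theorem iso_of_common_action (ρ : G →* P) (θ : S →* P)
    (hθ : Function.Injective θ) (hle : θ.range ≤ ρ.range) (hcard : Nat.card G ≤ Nat.card S) :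
    Nonempty (G ≃* S) := by
  have hcS : Nat.card θ.range = Nat.card S :=
    Nat.card_congr (MonoidHom.ofInjective hθ).toEquiv.symm
  have : Finite ρ.range := Finite.of_surjective _ ρ.rangeRestrict_surjective
  have hsurj : Function.Surjective ρ.rangeRestrict := ρ.rangeRestrict_surjective
  have hc1 : Nat.card θ.range ≤ Nat.card ρ.range :=
    Nat.card_le_card_of_injective _ (Subgroup.inclusion_injective hle)
  have hc2 : Nat.card ρ.range ≤ Nat.card G := Nat.card_le_card_of_surjective _ hsurj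
  have hbij : Function.Bijective ρ.rangeRestrict :=
    hsurj.bijective_of_nat_card_le (by omega)
  have heq : θ.range = ρ.range := Subgroup.eq_of_le_of_card_ge hle (by omega)
  exact ⟨((MulEquiv.ofBijective _ hbij).trans (MulEquiv.subgroupCongr heq.symm)).trans
    (MonoidHom.ofInjective hθ).symm⟩

end Iso

end Cfsg.Agent.Lib.Helper91_BlockAction2
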