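import Mathlib

/-!
# Identifying a group with a simple central quotient through a common permutation action

helper91.  `ρ : G →* P`, `θ : N →* P` with `θ.range ≤ ρ.range`, `ψ : N →* T` onto a simple group
with central kernel, `θ` with two non-commuting values and `|G| ≤ |T|`: then `G ≃* T`.
-/

set_option autoImplicit false

namespace Cfsg.Agent.Lib.Helper91_BlockAction3

variable {G N T P : Type*} [Group G] [Group N] [Group T] [Group P]

/-- `ker θ ≤ ker ψ` when `ψ` is onto a simple group, `ker ψ` is central, and `θ` has two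
non-commuting values -/
theorem ker_le_ker [IsSimpleGroup T] (ψ : N →* T) (hψ : Function.Surjective ψ)
    (hc : ∀ n ∈ ψ.ker, ∀ m : N, n * m = m * n)
    (θ : N →* P) (a b : N) (hab : θ a * θ b ≠ θ b * θ a) : θ.ker ≤ ψ.ker := by
  have hn : (θ.ker.map ψ).Normal := Subgroup.Normal.map inferInstance ψ hψ
  rcases hn.eq_bot_or_eq_top with h | h
  · intro x hx
    have hx' : ψ x ∈ θ.ker.map ψ := Subgroup.mem_map_of_mem ψ hx
    rw [h, Subgroup.mem_bot] at hx'
    exact hx'
  · exfalso
    have key : ∀ n : N, ∃ c ∈ ψ.ker, θ n = θ c := by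
      intro n
      have hn' : ψ n ∈ θ.ker.map ψ := by rw [h]; exact Subgroup.mem_top _
      obtain ⟨k, hk, hkn⟩ := hn'
      refine ⟨k⁻¹ * n, ?_, ?_⟩
      · rw [MonoidHom.mem_ker, map_mul, map_inv, hkn, inv_mul_cancel]
      · rw [map_mul, map_inv, MonoidHom.mem_ker.mp hk, inv_one, one_mul]
    obtain ⟨c, hc1, hc2⟩ := key a
    apply hab
    rw [hc2, ← map_mul, ← map_mul, hc c hc1 b]

theorem iso_of_common_action_quot [Finite G] [Finite N] [IsSimpleGroup T]
    (ρ : G →* P) (ψ : N →* T) (hψ : Function.Surjective ψ)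
    (hc : ∀ n ∈ ψ.ker, ∀ m : N, n * m = m * n)
    (θ : N →* P) (a b : N) (hab : θ a * θ b ≠ θ b * θ a)
    (hle : θ.range ≤ ρ.range) (hcard : Nat.card G ≤ Nat.card T) : Nonempty (G ≃* T) := by
  have hk := ker_le_ker ψ hψ hc θ a b hab
  have : Finite T := Finite.of_surjective ψ hψ
  have h1 : Nat.card N = Nat.card T * Nat.card ψ.ker := by
    rw [← Nat.card_congr (QuotientGroup.quotientKerEquivOfSurjective ψ hψ).toEquiv]
    exact Subgroup.card_eq_card_quotient_mul_card_subgroup ψ.ker
  have h2 : Nat.card N = Nat.card θ.range * Nat.card θ.ker := by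
    rw [← Nat.card_congr (QuotientGroup.quotientKerEquivRange θ).toEquiv]
    exact Subgroup.card_eq_card_quotient_mul_card_subgroup θ.ker
  have h3 : Nat.card θ.ker ≤ Nat.card ψ.ker :=
    Nat.card_le_card_of_injective (Subgroup.inclusion hk) (Subgroup.inclusion_injective hk)
  have hpos : 0 < Nat.card ψ.ker := Nat.card_pos
  have hposT : 0 < Nat.card T := Nat.card_pos
  have h4 : Nat.card T ≤ Nat.card θ.range := by
    by_contra hlt
    rw [not_le] at hlt
    have : Nat.card θ.range * Nat.card θ.ker < Nat.card T * Nat.card ψ.ker :=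
      Nat.mul_lt_mul_of_lt_of_le hlt h3 hpos
    omega
  have : Finite ρ.range := Finite.of_surjective _ ρ.rangeRestrict_surjective
  have hsurj : Function.Surjective ρ.rangeRestrict := ρ.rangeRestrict_surjective
  have hc1 : Nat.card θ.range ≤ Nat.card ρ.range :=
    Nat.card_le_card_of_injective _ (Subgroup.inclusion_injective hle)
  have hc2 : Nat.card ρ.range ≤ Nat.card G := Nat.card_le_card_of_surjective _ hsurj
  have hbij : Function.Bijective ρ.rangeRestrict :=
    hsurj.bijective_of_nat_card_le (by omega)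
  have heq : θ.range = ρ.range := Subgroup.eq_of_le_of_card_ge hle (by omega)
  have hT : Nat.card θ.range = Nat.card T := by omega
  have hkk : Nat.card ψ.ker ≤ Nat.card θ.ker := by
    rw [hT] at h2
    rw [h1] at h2
    exact Nat.le_of_mul_le_mul_left (le_of_eq h2) hposT
  have hker : θ.ker = ψ.ker := Subgroup.eq_of_le_of_card_ge hk hkk
  exact ⟨((((MulEquiv.ofBijective _ hbij).trans (MulEquiv.subgroupCongr heq.symm)).trans
    (QuotientGroup.quotientKerEquivRange θ).symm).trans
    (QuotientGroup.quotientMulEquivOfEq hker)).trans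
    (QuotientGroup.quotientKerEquivOfSurjective ψ hψ)⟩

end Cfsg.Agent.Lib.Helper91_BlockAction3
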