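import Cfsg.Agent.Lib.Helper91_Co3L1

/-!
# Consequences of the first level: the count 552 and transitivity
-/

set_option autoImplicit false
open Cfsg

namespace Cfsg.Agent.Lib.Helper91_Co3L1

open Cfsg.Agent.Lib.Helper7_Xi Cfsg.Agent.Lib.Helper91_LeechWord Cfsg.Agent.Lib.Helper91_LeechOrb
  Cfsg.Agent.Lib.Helper91_LeechEnum Cfsg.Agent.Lib.Helper91_LeechLevel
  Cfsg.Agent.Lib.Helper91_LeechGlue

theorem conds1_iff (x : GolayPt → ℤ) : CondsOn [(U0, 24)] x ↔ dotInt (vecL U0) x = 24 := by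
  unfold CondsOn
  simp

/-- the standard vector of type 3, as a lattice vector -/
def U0v : leechLattice := ⟨vecL U0, U0_mem⟩

theorem count1 :
    {x : leechLattice | sqNorm (x : GolayPt → ℤ) = 32 ∧
      dotInt (vecL U0) (x : GolayPt → ℤ) = 24}.ncard = 552 := by
  have h := level1.count (by simp) root1_norm ((conds1_iff _).mpr root1_dot) orbit1_len24
    orbit1_strict
  rw [orbit1_len] at h
  rw [← h]
  congr 1
  ext x
  simp only [Set.mem_ofPred_eq, conds1_iff]

theorem trans1 (x y : leechLattice) (hx : sqNorm (x : GolayPt → ℤ) = 32)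
    (hdx : dotInt (vecL U0) (x : GolayPt → ℤ) = 24) (hy : sqNorm (y : GolayPt → ℤ) = 32)
    (hdy : dotInt (vecL U0) (y : GolayPt → ℤ) = 24) :
    ∃ g : Co0, g • U0v = U0v ∧ g • x = y := by
  obtain ⟨g, hgB, hg⟩ := levelOK_trans level1 x y hx ((conds1_iff _).mpr hdx) hy ((conds1_iff _).mpr hdy)
  exact ⟨g, hgB U0 (by simp) U0_mem, hg⟩

end Cfsg.Agent.Lib.Helper91_Co3L1
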