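import Cfsg.Agent.Lib.Helper91_Co3L2
import Cfsg.Agent.Lib.Helper91_Co3L1Thm
import Cfsg.Agent.S0401

/-!
# Consequences of the second level: the count 275 and transitivity of the joint stabiliser
-/

set_option autoImplicit false
open Cfsg

namespace Cfsg.Agent.Lib.Helper91_Co3L2

open Cfsg.Agent.Lib.Helper7_Xi Cfsg.Agent.Lib.Helper91_LeechWord Cfsg.Agent.Lib.Helper91_LeechOrb
  Cfsg.Agent.Lib.Helper91_LeechEnum Cfsg.Agent.Lib.Helper91_LeechLevel
  Cfsg.Agent.Lib.Helper91_LeechGlue Cfsg.Agent.Lib.Helper91_Co3L1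

theorem root2_dotU : dotInt (vecL U0) (vecL root2) = 24 := by decide +kernel

theorem root2_dotV : dotInt (vecL root1) (vecL root2) = 16 := by decide +kernel

theorem conds2_iff (x : GolayPt → ℤ) : CondsOn [(U0, 24), (root1, 16)] x ↔
    (dotInt (vecL U0) x = 24 ∧ dotInt (vecL root1) x = 16) := by
  unfold CondsOn
  simp

/-- the standard minimal vector `v0`, as a lattice vector -/
def V0v : leechLattice := ⟨vecL root1, root1_mem⟩

theorem count2 :
    {x : leechLattice | sqNorm (x : GolayPt → ℤ) = 32 ∧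
      dotInt (vecL U0) (x : GolayPt → ℤ) = 24 ∧ dotInt (vecL root1) (x : GolayPt → ℤ) = 16}.ncard =
      275 := by
  have h := level2.count (by simp) root2_norm ((conds2_iff _).mpr ⟨root2_dotU, root2_dotV⟩)
    orbit2_len24 orbit2_strict
  rw [orbit2_len] at h
  rw [← h]
  congr 1
  ext x
  simp only [Set.mem_ofPred_eq, conds2_iff]

theorem trans2 (x y : leechLattice) (hx : sqNorm (x : GolayPt → ℤ) = 32)
    (hx1 : dotInt (vecL U0) (x : GolayPt → ℤ) = 24)
    (hx2 : dotInt (vecL root1) (x : GolayPt → ℤ) = 16) (hy : sqNorm (y : GolayPt → ℤ) = 32)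
    (hy1 : dotInt (vecL U0) (y : GolayPt → ℤ) = 24)
    (hy2 : dotInt (vecL root1) (y : GolayPt → ℤ) = 16) :
    ∃ g : Co0, g • U0v = U0v ∧ g • V0v = V0v ∧ g • x = y := by
  obtain ⟨g, hgB, hg⟩ := levelOK_trans level2 x y hx ((conds2_iff _).mpr ⟨hx1, hx2⟩) hy
    ((conds2_iff _).mpr ⟨hy1, hy2⟩)
  exact ⟨g, hgB U0 (by simp) U0_mem, hgB root1 (by simp) root1_mem, hg⟩

/-- every pair `(u, v)` with `u` of type 3 and `v`, `u - v` minimal is conjugate to the standard
pair -/
theorem pair_std (u v : leechLattice) (hu : sqNorm (u : GolayPt → ℤ) = 48)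
    (hv : sqNorm (v : GolayPt → ℤ) = 32)
    (hd : dotInt (u : GolayPt → ℤ) (v : GolayPt → ℤ) = 24) :
    ∃ g : Co0, g • u = U0v ∧ g • v = V0v := by
  obtain ⟨g, hg⟩ := Cfsg.Agent.S0401.result u U0v hu U0_norm
  have e1 : dotInt (vecL U0) ((g • v : leechLattice) : GolayPt → ℤ) = 24 := by
    have := dotInt_smul g u v
    rw [hg] at this
    rw [← hd, ← this]; rfl
  obtain ⟨h, hU, hh⟩ := trans1 (g • v) V0v (by rw [sqNorm_smul]; exact hv) e1 root1_norm root1_dot
  exact ⟨h * g, by rw [mul_smul, hg, hU], by rw [mul_smul, hh]⟩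

end Cfsg.Agent.Lib.Helper91_Co3L2
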