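import Cfsg.Agent.Lib.Helper91_Co3L3a
import Cfsg.Agent.Lib.Helper91_Co3L3b
import Cfsg.Agent.Lib.Helper91_Co3L2Thm

/-!
# Consequences of the third level: the counts 112 and 162 and transitivity
-/

set_option autoImplicit false
open Cfsg

namespace Cfsg.Agent.Lib.Helper91_Co3L3

open Cfsg.Agent.Lib.Helper7_Xi Cfsg.Agent.Lib.Helper91_LeechWord Cfsg.Agent.Lib.Helper91_LeechOrb
  Cfsg.Agent.Lib.Helper91_LeechEnum Cfsg.Agent.Lib.Helper91_LeechLevel
  Cfsg.Agent.Lib.Helper91_LeechGlue Cfsg.Agent.Lib.Helper91_Co3L1 Cfsg.Agent.Lib.Helper91_Co3L2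
  Cfsg.Agent.Lib.Helper91_Co3L3a Cfsg.Agent.Lib.Helper91_Co3L3b

theorem root3a_dots : dotInt (vecL U0) (vecL root3a) = 24 ∧ dotInt (vecL root1) (vecL root3a) = 16 ∧
    dotInt (vecL root2) (vecL root3a) = 8 := by decide +kernel

theorem root3b_dots : dotInt (vecL U0) (vecL root3b) = 24 ∧ dotInt (vecL root1) (vecL root3b) = 16 ∧
    dotInt (vecL root2) (vecL root3b) = 16 := by decide +kernel

theorem conds3_iff (k : ℤ) (x : GolayPt → ℤ) : CondsOn [(U0, 24), (root1, 16), (root2, k)] x ↔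
    (dotInt (vecL U0) x = 24 ∧ dotInt (vecL root1) x = 16 ∧ dotInt (vecL root2) x = k) := by
  unfold CondsOn
  simp

/-- the standard third vector `x0`, as a lattice vector -/
def X0v : leechLattice := ⟨vecL root2, root2_mem⟩

/-- the standard set of the second level -/
def Sstd : Set leechLattice :=
  {x | sqNorm (x : GolayPt → ℤ) = 32 ∧ dotInt (vecL U0) (x : GolayPt → ℤ) = 24 ∧
    dotInt (vecL root1) (x : GolayPt → ℤ) = 16}

theorem count3a :
    {y : leechLattice | y ∈ Sstd ∧ dotInt (vecL root2) (y : GolayPt → ℤ) = 8}.ncard = 112 := by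
  have h := level3a.count (by simp) root3a_norm ((conds3_iff 8 _).mpr root3a_dots) orbit3a_len24
    orbit3a_strict
  rw [orbit3a_len] at h
  rw [← h]
  congr 1
  ext x
  unfold Sstd
  simp only [Set.mem_ofPred_eq, conds3_iff]
  tauto

theorem count3b :
    {y : leechLattice | y ∈ Sstd ∧ dotInt (vecL root2) (y : GolayPt → ℤ) = 16}.ncard = 162 := by
  have h := level3b.count (by simp) root3b_norm ((conds3_iff 16 _).mpr root3b_dots) orbit3b_len24
    orbit3b_strict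
  rw [orbit3b_len] at h
  rw [← h]
  congr 1
  ext x
  unfold Sstd
  simp only [Set.mem_ofPred_eq, conds3_iff]
  tauto

theorem trans3a (x y : leechLattice) (hx : x ∈ Sstd)
    (hx3 : dotInt (vecL root2) (x : GolayPt → ℤ) = 8) (hy : y ∈ Sstd)
    (hy3 : dotInt (vecL root2) (y : GolayPt → ℤ) = 8) :
    ∃ g : Co0, g • U0v = U0v ∧ g • V0v = V0v ∧ g • X0v = X0v ∧ g • x = y := by
  obtain ⟨g, hgB, hg⟩ := levelOK_trans level3a x y hx.1
    ((conds3_iff 8 _).mpr ⟨hx.2.1, hx.2.2, hx3⟩) hy.1 ((conds3_iff 8 _).mpr ⟨hy.2.1, hy.2.2, hy3⟩)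
  exact ⟨g, hgB U0 (by simp) U0_mem, hgB root1 (by simp) root1_mem,
    hgB root2 (by simp) root2_mem, hg⟩

theorem trans3b (x y : leechLattice) (hx : x ∈ Sstd)
    (hx3 : dotInt (vecL root2) (x : GolayPt → ℤ) = 16) (hy : y ∈ Sstd)
    (hy3 : dotInt (vecL root2) (y : GolayPt → ℤ) = 16) :
    ∃ g : Co0, g • U0v = U0v ∧ g • V0v = V0v ∧ g • X0v = X0v ∧ g • x = y := by
  obtain ⟨g, hgB, hg⟩ := levelOK_trans level3b x y hx.1
    ((conds3_iff 16 _).mpr ⟨hx.2.1, hx.2.2, hx3⟩) hy.1 ((conds3_iff 16 _).mpr ⟨hy.2.1, hy.2.2, hy3⟩)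
  exact ⟨g, hgB U0 (by simp) U0_mem, hgB root1 (by simp) root1_mem,
    hgB root2 (by simp) root2_mem, hg⟩

theorem X0v_mem : X0v ∈ Sstd := ⟨root2_norm, root2_dotU, root2_dotV⟩

theorem card_Sstd : Sstd.ncard = 275 := count2

/-- every triple `(u, v, x)` of the configuration is conjugate to the standard triple -/
theorem triple_std (u v x : leechLattice) (hu : sqNorm (u : GolayPt → ℤ) = 48)
    (hv : sqNorm (v : GolayPt → ℤ) = 32)
    (hd : dotInt (u : GolayPt → ℤ) (v : GolayPt → ℤ) = 24)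
    (hx : sqNorm (x : GolayPt → ℤ) = 32)
    (hx1 : dotInt (u : GolayPt → ℤ) (x : GolayPt → ℤ) = 24)
    (hx2 : dotInt (v : GolayPt → ℤ) (x : GolayPt → ℤ) = 16) :
    ∃ g : Co0, g • u = U0v ∧ g • v = V0v ∧ g • x = X0v := by
  obtain ⟨g, hgu, hgv⟩ := pair_std u v hu hv hd
  have e1 : dotInt (vecL U0) ((g • x : leechLattice) : GolayPt → ℤ) = 24 := by
    have := dotInt_smul g u x
    rw [hgu] at this
    rw [← hx1, ← this]; rfl
  have e2 : dotInt (vecL root1) ((g • x : leechLattice) : GolayPt → ℤ) = 16 := by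
    have := dotInt_smul g v x
    rw [hgv] at this
    rw [← hx2, ← this]; rfl
  obtain ⟨h, hU, hV, hh⟩ := trans2 (g • x) X0v (by rw [sqNorm_smul]; exact hx) e1 e2 root2_norm
    root2_dotU root2_dotV
  exact ⟨h * g, by rw [mul_smul, hgu, hU], by rw [mul_smul, hgv, hV], by rw [mul_smul, hh]⟩

end Cfsg.Agent.Lib.Helper91_Co3L3
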