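import Mathlib
import Cfsg.Prelude.Def_FusionSystem
import Cfsg.Prelude.Def_Classical
import Cfsg.Prelude.Def_LieClassical
import Cfsg.Agent.Lib.Helper87_F2L3Defs
import Cfsg.Agent.Lib.Helper87_F2U3Defs
import Cfsg.Agent.Lib.Helper13_Herm
import Cfsg.Agent.Lib.Helper5_GUOrder

/-!
# S5319 package F2U3-SD1CONJG (architect helper87, proof helper91)

From unit vectors `v` with `(v, A v) = 0` to conjugacy in `GU₂`: the matrix with columns `v, A v` is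
unitary and conjugates `A` to `J = !![0,-1;1,0]`.
-/

set_option autoImplicit false

open Matrix Cfsg.Agent.Lib.Helper87_F2L3

namespace Cfsg.Agent.Lib.Helper91_F2U3_SD1CONJG

open Cfsg.Agent.Lib.Helper13_Herm Cfsg.Agent.Lib.Helper5_GUOrder

variable {F : Type*} [Field F]

/-- the matrix with columns `v`, `w` -/
def colMat (v w : Fin 2 → F) : Matrix (Fin 2) (Fin 2) F := !![v 0, w 0; v 1, w 1]

theorem colMat_mulVec (v w u : Fin 2 → F) : colMat v w *ᵥ u = u 0 • v + u 1 • w := by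
  ext i
  fin_cases i <;> simp [colMat, Matrix.mulVec, dotProduct, Fin.sum_univ_two] <;> ring

theorem mul_colMat (N : Matrix (Fin 2) (Fin 2) F) (v w : Fin 2 → F) :
    N * colMat v w = colMat (N *ᵥ v) (N *ᵥ w) := by
  ext i j
  fin_cases i <;> fin_cases j <;>
    simp [colMat, Matrix.mul_apply, Matrix.mulVec, dotProduct, Fin.sum_univ_two]

theorem colMat_mul_J (v w : Fin 2 → F) :
    colMat v w * !![0, -1; 1, 0] = colMat w (-v) := by
  ext i j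
  fin_cases i <;> fin_cases j <;> simp [colMat, Matrix.mul_apply, Fin.sum_univ_two]

theorem hermForm_two (q : ℕ) (u w : Fin 2 → F) :
    Cfsg.hermForm 2 F q u w = u 0 * w 0 ^ q + u 1 * w 1 ^ q := by
  unfold Cfsg.hermForm
  rw [Fin.sum_univ_two]

/-- two orthonormal columns give a unitary matrix -/
theorem isU_colMat [Fintype F] {q : ℕ} (hF : Fintype.card F = q ^ 2) (v w : Fin 2 → F)
    (hvv : Cfsg.hermForm 2 F q v v = 1) (hww : Cfsg.hermForm 2 F q w w = 1)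
    (hvw : Cfsg.hermForm 2 F q v w = 0) : IsU 2 q (colMat v w) := by
  have hq0 : q ≠ 0 := by have := two_le_q hF; omega
  have hwv : Cfsg.hermForm 2 F q w v = 0 := by
    rw [← hermForm_pow_q 2 hF, hvw, zero_pow hq0]
  intro u z
  rw [colMat_mulVec, colMat_mulVec]
  simp only [hermForm_add_left, hermForm_add_right 2 hF, hermForm_smul_left, hermForm_smul_right]
  rw [hvv, hww, hvw, hwv, hermForm_two]
  ring

/-- `A ∈ GU₂` with `A² = -1` and a unit vector `v ⊥ A v` is `GU₂`-conjugate to `J` -/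
theorem exists_conj_J [Fintype F] {q : ℕ} (hF : Fintype.card F = q ^ 2) (A : GL (Fin 2) F)
    (hA : A ∈ Cfsg.GU 2 F q) (hAA : A * A = -1) (v : Fin 2 → F)
    (hvv : Cfsg.hermForm 2 F q v v = 1)
    (hvA : Cfsg.hermForm 2 F q v ((A : Matrix (Fin 2) (Fin 2) F) *ᵥ v) = 0) :
    ∃ G ∈ Cfsg.GU 2 F q,
      ((G⁻¹ * A * G : GL (Fin 2) F) : Matrix (Fin 2) (Fin 2) F) = !![0, -1; 1, 0] := by
  have hq0 : q ≠ 0 := by have := two_le_q hF; omega
  have hAU : IsU 2 q (A : Matrix (Fin 2) (Fin 2) F) := (mem_GU_iff A).mp hA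
  have hww : Cfsg.hermForm 2 F q ((A : Matrix (Fin 2) (Fin 2) F) *ᵥ v)
      ((A : Matrix (Fin 2) (Fin 2) F) *ᵥ v) = 1 := by rw [hAU v v, hvv]
  have hU := isU_colMat hF v ((A : Matrix (Fin 2) (Fin 2) F) *ᵥ v) hvv hww hvA
  obtain ⟨G, hGmem, hG⟩ : ∃ G ∈ Cfsg.GU 2 F q, ((G : GL (Fin 2) F) : Matrix (Fin 2) (Fin 2) F) =
      colMat v ((A : Matrix (Fin 2) (Fin 2) F) *ᵥ v) :=
    ⟨(mkGU hq0 _ hU : Cfsg.GU 2 F q).1, (mkGU hq0 _ hU : Cfsg.GU 2 F q).2, mkGU_val hq0 _ hU⟩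
  refine ⟨G, hGmem, ?_⟩
  have hAAm : (A : Matrix (Fin 2) (Fin 2) F) * (A : Matrix (Fin 2) (Fin 2) F) = -1 := by
    have := congrArg (fun x : GL (Fin 2) F => (x : Matrix (Fin 2) (Fin 2) F)) hAA
    simpa using this
  have hAAv : (A : Matrix (Fin 2) (Fin 2) F) *ᵥ ((A : Matrix (Fin 2) (Fin 2) F) *ᵥ v) = -v := by
    rw [Matrix.mulVec_mulVec, hAAm, Matrix.neg_mulVec, Matrix.one_mulVec]
  have key : (A : Matrix (Fin 2) (Fin 2) F) * colMat v ((A : Matrix (Fin 2) (Fin 2) F) *ᵥ v) =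
      colMat v ((A : Matrix (Fin 2) (Fin 2) F) *ᵥ v) * !![0, -1; 1, 0] := by
    rw [mul_colMat, colMat_mul_J, hAAv]
  rw [Units.val_mul, Units.val_mul, hG, mul_assoc, key, ← mul_assoc, ← hG, Units.inv_mul, one_mul]

/-- **F2U3-SD1CONJG** [M/L].  From the vectors to conjugacy in `GU₂`. -/
theorem conj_of_sq_U [Fintype F] {q : ℕ} (hF : Fintype.card F = q ^ 2)
    (hV : ∀ A : GL (Fin 2) F, A ∈ Cfsg.GU 2 F q → A * A = -1 →
      Matrix.trace (A : Matrix (Fin 2) (Fin 2) F) = 0 →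
      ∃ v : Fin 2 → F, Cfsg.hermForm 2 F q v v = 1 ∧
        Cfsg.hermForm 2 F q v ((A : Matrix (Fin 2) (Fin 2) F) *ᵥ v) = 0)
    (A B : GL (Fin 2) F) (hA : A ∈ Cfsg.GU 2 F q) (hB : B ∈ Cfsg.GU 2 F q) (hAA : A * A = -1)
    (hBB : B * B = -1) (htA : Matrix.trace (A : Matrix (Fin 2) (Fin 2) F) = 0)
    (htB : Matrix.trace (B : Matrix (Fin 2) (Fin 2) F) = 0) :
    ∃ g ∈ Cfsg.GU 2 F q, g * A * g⁻¹ = B := by
  obtain ⟨v, hvv, hvA⟩ := hV A hA hAA htA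
  obtain ⟨w, hww, hwB⟩ := hV B hB hBB htB
  obtain ⟨GA, hGA, hJA⟩ := exists_conj_J hF A hA hAA v hvv hvA
  obtain ⟨GB, hGB, hJB⟩ := exists_conj_J hF B hB hBB w hww hwB
  have e : GA⁻¹ * A * GA = GB⁻¹ * B * GB := Units.ext (hJA.trans hJB.symm)
  refine ⟨GB * GA⁻¹, (Cfsg.GU 2 F q).mul_mem hGB ((Cfsg.GU 2 F q).inv_mem hGA), ?_⟩
  calc GB * GA⁻¹ * A * (GB * GA⁻¹)⁻¹ = GB * (GA⁻¹ * A * GA) * GB⁻¹ := by group
    _ = GB * (GB⁻¹ * B * GB) * GB⁻¹ := by rw [e]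
    _ = B := by group

end Cfsg.Agent.Lib.Helper91_F2U3_SD1CONJG
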