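import Mathlib

/-!
# The action of a group on a finite family it permutes

helper91.  `G` acts on `X` and `pts : Fin n → X` is an injective family.  The elements of `G`
that map every member of the family to a member form a subgroup `famStab`, and they permute the
indices: `famHom : famStab →* Perm (Fin n)` with `pts (famHom g i) = g • pts i`.
-/

set_option autoImplicit false

namespace Cfsg.Agent.Lib.Helper91_FamAct

variable {G X : Type*} [Group G] [MulAction G X] {n : ℕ}

/-- if `g` maps every member of an injective finite family to a member, so does `g⁻¹` -/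
theorem inv_maps (pts : Fin n → X) (hinj : Function.Injective pts) (g : G)
    (h : ∀ i, ∃ j, g • pts i = pts j) : ∀ i, ∃ j, g⁻¹ • pts i = pts j := by
  choose f hf using h
  have finj : Function.Injective f := by
    intro a b hab
    apply hinj
    have := hf a
    rw [hab, ← hf b] at this
    exact MulAction.injective g this
  have fsurj : Function.Surjective f := Finite.surjective_of_injective finj
  intro i
  obtain ⟨j, rfl⟩ := fsurj i
  exact ⟨j, by rw [← hf j, inv_smul_smul]⟩

/-- the elements of `G` permuting the family -/
def famStab (pts : Fin n → X) (hinj : Function.Injective pts) : Subgroup G where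
  carrier := {g | ∀ i, ∃ j, g • pts i = pts j}
  one_mem' := fun i => ⟨i, one_smul _ _⟩
  mul_mem' := by
    intro a b ha hb i
    obtain ⟨j, hj⟩ := hb i
    obtain ⟨k, hk⟩ := ha j
    exact ⟨k, by rw [mul_smul, hj, hk]⟩
  inv_mem' := fun {g} hg => inv_maps pts hinj g hg

theorem mem_famStab (pts : Fin n → X) (hinj : Function.Injective pts) (g : G) :
    g ∈ famStab pts hinj ↔ ∀ i, ∃ j, g • pts i = pts j := Iff.rfl

/-- the index of the image of a member -/
noncomputable def famIdx (pts : Fin n → X) (hinj : Function.Injective pts)
    (g : famStab (G := G) pts hinj) (i : Fin n) : Fin n := Classical.choose (g.2 i)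

theorem famIdx_spec (pts : Fin n → X) (hinj : Function.Injective pts)
    (g : famStab (G := G) pts hinj) (i : Fin n) : pts (famIdx pts hinj g i) = (g : G) • pts i :=
  (Classical.choose_spec (g.2 i)).symm

/-- the action on indices, as endomorphisms -/
noncomputable def famEnd (pts : Fin n → X) (hinj : Function.Injective pts) :
    famStab (G := G) pts hinj →* Function.End (Fin n) where
  toFun := famIdx pts hinj
  map_one' := by
    funext i
    apply hinj
    show pts (famIdx pts hinj 1 i) = pts i
    rw [famIdx_spec pts hinj 1 i]
    exact one_smul _ _
  map_mul' := by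
    intro a b
    funext i
    apply hinj
    show pts (famIdx pts hinj (a * b) i) = pts (famIdx pts hinj a (famIdx pts hinj b i))
    rw [famIdx_spec pts hinj (a * b) i, famIdx_spec pts hinj a, famIdx_spec pts hinj b]
    exact mul_smul _ _ _

/-- the action on indices -/
noncomputable def famHom (pts : Fin n → X) (hinj : Function.Injective pts) :
    famStab (G := G) pts hinj →* Equiv.Perm (Fin n) := MonoidHom.toHomPerm (famEnd pts hinj)

theorem famHom_spec (pts : Fin n → X) (hinj : Function.Injective pts)
    (g : famStab (G := G) pts hinj) (i : Fin n) : pts (famHom pts hinj g i) = (g : G) • pts i :=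
  famIdx_spec pts hinj g i

/-- the value of `famHom` from a table -/
theorem famHom_eq (pts : Fin n → X) (hinj : Function.Injective pts)
    (g : famStab (G := G) pts hinj) (σ : Fin n → Fin n) (h : ∀ i, (g : G) • pts i = pts (σ i))
    (i : Fin n) : famHom pts hinj g i = σ i := by
  apply hinj
  rw [famHom_spec pts hinj g i, h]

/-- a permutation mapping each member of a family of finite sets into the member prescribed by a
permutation of the indices maps it onto that member -/
theorem image_eq_of_maps {ι α : Type*} [Fintype ι] [DecidableEq α] (σ : Equiv.Perm α)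
    (τ : Equiv.Perm ι) (quad : ι → Finset α) (h : ∀ p, ∀ a ∈ quad p, σ a ∈ quad (τ p)) (p : ι) :
    (quad p).image σ = quad (τ p) := by
  have hsub : ∀ p, (quad p).image σ ⊆ quad (τ p) := by
    intro p b hb
    obtain ⟨a, ha, rfl⟩ := Finset.mem_image.mp hb
    exact h p a ha
  have hcard : ∀ p, ((quad p).image σ).card = (quad p).card :=
    fun p => Finset.card_image_of_injective _ σ.injective
  have hle : ∀ p ∈ (Finset.univ : Finset ι), (quad p).card ≤ (quad (τ p)).card := by
    intro p _
    rw [← hcard p]
    exact Finset.card_le_card (hsub p)
  have hsum : ∑ p, (quad p).card = ∑ p, (quad (τ p)).card :=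
    (Equiv.sum_comp τ (fun p => (quad p).card)).symm
  have := (Finset.sum_eq_sum_iff_of_le hle).mp hsum p (Finset.mem_univ p)
  exact Finset.eq_of_subset_of_card_le (hsub p) (by rw [hcard p, this])

end Cfsg.Agent.Lib.Helper91_FamAct
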