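import Mathlib
import Cfsg.Agent.Lib.Helper91_O73Theta

/-!
# Eight reflections whose conjugates give all reflections of norm `-1` in `O(7,3)`

helper91.  A subgroup `R` of `Perm (Fin 365)` containing `phi (r_{u₀} r_v)` for the eight base
vectors `v` contains `phi (r_u r_v)` for all vectors `u`, `v` of norm `-1`.
-/

set_option autoImplicit false

namespace Cfsg.Agent.Lib.Helper91_O73Closure

open Matrix Cfsg.Agent.Lib.Helper44_StdForms Cfsg.Agent.Lib.Helper44_Refl
  Cfsg.Agent.Lib.Helper44_Orth Cfsg.Agent.Lib.Helper44_Spinor Cfsg.Agent.Lib.Helper91_O73Pts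
  Cfsg.Agent.Lib.Helper91_O73Theta

/-- code of the first base vector -/
def c0 : ℕ := 165

/-- codes of the eight base vectors -/
def baseCodes : List ℕ := [165, 408, 94, 85, 2029, 1485, 655, 169]

/-- the certificate: `(v, w, x, y)` with `y = r_v r_w x` -/
def cert : List (ℕ × ℕ × ℕ × ℕ) := [(165, 408, 408, 651), (165, 408, 94, 415), (165, 94, 85, 179), (165, 94, 655, 588), (165, 94, 651, 509), (165, 85, 2029, 2114), (165, 85, 415, 335), (165, 85, 588, 506), (165, 85, 509, 511), (165, 2029, 1485, 440), (165, 2029, 179, 1953), (165, 2029, 335, 1554), (165, 2029, 506, 916), (165, 2029, 511, 834), (165, 1485, 2114, 710), (165, 1485, 1953, 549), (165, 1485, 1554, 228), (165, 1485, 916, 214), (165, 1485, 834, 210), (165, 655, 169, 572), (165, 655, 415, 576), (165, 655, 509, 267), (165, 655, 335, 583), (165, 655, 511, 350), (165, 655, 1554, 1718), (165, 655, 834, 1315), (165, 655, 228, 470), (165, 655, 210, 535), (165, 169, 588, 505), (165, 169, 506, 672), (165, 169, 916, 833), (165, 169, 214, 131), (165, 169,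 576, 584), (165, 169, 267, 349), (165, 169, 583, 501), (165, 169, 350, 342), (165, 169, 1718, 1714), (165, 169, 1315, 1397), (165, 169, 470, 388), (165, 169, 535, 539), (408, 94, 583, 104), (408, 94, 350, 256), (408, 94, 1718, 1800), (408, 94, 1315, 1065), (408, 94, 470, 726), (408, 94, 535, 684), (408, 94, 501, 586), (408, 94, 342, 95), (408, 94, 1714, 1964), (408, 94, 1397, 1312), (408, 94, 388, 482), (408, 94, 539, 280), (408, 85, 104, 668), (408, 85, 1800, 1885), (408, 85, 1065, 1391), (408, 85, 726, 403), (408, 85, 684, 611), (408, 85, 95, 260), (408, 85, 1964, 1881), (408, 85, 1312, 1227), (408, 85, 482, 321), (408, 85, 280, 603), (408, 2029, 104, 1722), (408, 2029, 726, 318), (408, 2029, 95, 1390), (408, 2029, 280, 688), (408, 2029, 1391, 983), (408, 2029, 403, 1859), (408, 2029, 611, 769), (408, 2029, 1881, 2046), (408, 2029, 321, 1612), (408, 2029, 603, 1337), (408, 1485, 1391, 281), (408, 1485, 1881, 642), (408, 1485, 1859, 1694), (408, 1485, 1337, 773), (408, 655, 586, 183), (408, 655, 95, 174),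 (408, 655, 1964, 2125), (408, 655, 1312, 986), (408, 655, 482, 565), (408, 655, 280, 362), (408, 655, 260, 495), (408, 655, 1881, 1646), (408, 655, 1227, 1144), (408, 655, 321, 641), (408, 655, 603, 121), (408, 655, 1390, 908), (408, 655, 688, 206), (408, 655, 2046, 1967), (408, 655, 1612, 1938), (408, 655, 1337, 1416), (408, 655, 642, 563), (408, 655, 773, 1008), (408, 415, 1885, 2030), (408, 415, 611, 439), (408, 415, 1227, 1058), (408, 415, 321, 709), (408, 415, 769, 1326), (408, 415, 1612, 1757), (408, 415, 183, 328), (408, 415, 986, 814), (408, 415, 565, 224), (408, 415, 1646, 1623), (408, 415, 1144, 1316), (408, 415, 641, 469), (408, 415, 121, 114), (408, 415, 1967, 1788), (408, 415, 1938, 1526), (408, 415, 1416, 839), (408, 415, 563, 384), (408, 415, 1008, 1004), (408, 179, 1859, 1756), (408, 179, 1337, 1410), (408, 179, 2125, 1866), (408, 179, 986, 894), (408, 179, 565, 141), (408, 179, 362, 600), (408, 179, 495, 571), (408, 179, 1646, 1543), (408, 179, 121, 197), (408, 179, 908, 1396), (408, 179,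 206, 694), (408, 179, 1938, 2003), (408, 179, 1416, 919), (408, 179, 1008, 779), (408, 179, 814, 1238), (408, 179, 224, 313), (408, 179, 1788, 1715), (408, 179, 1526, 1858), (408, 179, 839, 1336), (408, 179, 384, 311), (408, 179, 1004, 1260), (408, 588, 983, 815), (408, 588, 1859, 2000), (408, 588, 2046, 2034), (408, 588, 1612, 2161), (408, 588, 1337, 1349), (408, 588, 281, 113), (408, 588, 642, 630), (408, 588, 773, 761), (408, 588, 1646, 1787), (408, 588, 121, 682), (408, 588, 1008, 840), (408, 588, 1757, 1604), (408, 588, 1788, 1956), (408, 588, 839, 1427), (408, 588, 384, 552), (408, 588, 1756, 1603), (408, 588, 1410, 1014), (408, 588, 1866, 1878), (408, 588, 894, 1059), (408, 588, 141, 705), (408, 588, 600, 615), (408, 588, 1543, 2119), (408, 588, 197, 377), (408, 588, 1396, 985), (408, 588, 694, 283), (408, 588, 2003, 1685), (408, 588, 919, 1096), (408, 588, 779, 764), (408, 588, 1238, 917), (408, 588, 313, 148), (408, 588, 1715, 1562), (408, 588, 1858, 1999), (408, 588, 1336, 1348), (408, 588, 311,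 158), (408, 588, 1260, 924), (408, 509, 1646, 2031), (408, 509, 121, 435), (408, 509, 1938, 1762), (408, 509, 1416, 1102), (408, 509, 1008, 1325), (408, 509, 1543, 1637), (408, 509, 197, 130), (408, 509, 2003, 1838), (408, 509, 919, 1249), (408, 509, 779, 1187), (408, 509, 1858, 1517), (408, 509, 1336, 857), (408, 509, 1260, 1162), (408, 509, 840, 776), (408, 509, 1603, 2082), (408, 509, 1014, 758), (408, 509, 2119, 1711), (408, 509, 377, 533), (408, 509, 764, 1011), (408, 509, 1562, 2041), (408, 509, 1999, 2093), (408, 509, 1348, 933), (408, 509, 158, 637), (408, 509, 924, 766), (408, 2114, 328, 1385), (408, 2114, 814, 1871), (408, 2114, 224, 1026), (408, 2114, 1316, 1641), (408, 2114, 469, 1283), (408, 2114, 1526, 1441), (408, 2114, 1238, 1719), (408, 2114, 313, 1205), (408, 2114, 1858, 1374), (408, 2114, 1336, 772), (408, 2114, 1260, 1104), (408, 2114, 2034, 824), (408, 2114, 1349, 1830), (408, 2114, 630, 1279), (408, 2114, 1604, 1120), (408, 2114, 1956, 1145), (408, 2114, 1427, 1509), (408, 2114, 552,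 880), (408, 2114, 1603, 2176), (408, 2114, 1014, 1906), (408, 2114, 1878, 989), (408, 2114, 615, 1592), (408, 2114, 377, 858), (408, 2114, 985, 2042), (408, 2114, 283, 1656), (408, 2114, 1096, 2144), (408, 2114, 764, 1974), (408, 2114, 917, 1563), (408, 2114, 148, 1361), (408, 2114, 1562, 1078), (408, 2114, 1999, 140), (408, 2114, 1348, 699), (408, 2114, 158, 804), (408, 2114, 924, 599), (408, 2114, 1102, 1751), (408, 2114, 776, 1665), (408, 2114, 533, 1422), (408, 2114, 2093, 1529), (408, 2114, 933, 1089), (408, 2114, 637, 1767), (408, 2114, 766, 1988), (408, 335, 1526, 1693), (408, 335, 1349, 849), (408, 335, 840, 767), (408, 335, 1956, 2126), (408, 335, 1427, 1324), (408, 335, 552, 722), (408, 335, 1096, 1163), (408, 335, 924, 775), (408, 335, 1762, 2094), (408, 335, 1102, 770), (408, 335, 1325, 928), (408, 335, 776, 1246), (408, 335, 766, 1007), (408, 335, 1374, 801), (408, 335, 1830, 1574), (408, 335, 1120, 1452), (408, 335, 1509, 1652), (408, 335, 1906, 2138), (408, 335, 1974, 1809), (408, 335, 1078,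 1234), (408, 335, 699, 291), (408, 335, 804, 1212), (408, 335, 1529, 2166), (408, 335, 1089, 757), (408, 335, 1988, 1747), (408, 506, 1757, 2104), (408, 506, 1526, 1837), (408, 506, 1858, 1770), (408, 506, 766, 1174), (408, 506, 1441, 789), (408, 506, 1374, 1435), (408, 506, 1120, 1208), (408, 506, 1509, 1823), (408, 506, 1693, 1520), (408, 506, 770, 1081), (408, 506, 801, 959), (408, 511, 2000, 1525), (408, 511, 1349, 1003), (408, 511, 840, 1097), (408, 511, 1427, 1170), (408, 511, 1096, 1341), (408, 511, 764, 942), (408, 511, 924, 1426), (408, 511, 776, 838), (408, 511, 766, 920), (408, 511, 1830, 1895), (408, 511, 1509, 1984), (408, 511, 2144, 1669), (408, 511, 599, 369), (408, 511, 1665, 2060), (408, 511, 1988, 1566), (408, 511, 1174, 1250), (408, 511, 789, 1188), (408, 511, 1823, 1731), (408, 440, 571, 467), (408, 440, 1543, 1728), (408, 440, 197, 382), (408, 440, 1396, 1457), (408, 440, 694, 315), (408, 440, 779, 1372), (408, 440, 1715, 2143), (408, 440, 1336, 1200), (408, 440, 311, 123), (408, 440,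 2119, 2148), (408, 440, 377, 241), (408, 440, 1637, 1987), (408, 440, 130, 159), (408, 440, 1187, 1207), (408, 440, 857, 1051), (408, 440, 1711, 1575), (408, 440, 533, 562), (408, 440, 1011, 1442), (408, 440, 2041, 1497), (408, 440, 933, 1286), (408, 440, 637, 443), (408, 440, 772, 792), (408, 440, 858, 890), (408, 440, 1422, 1046), (408, 440, 1089, 1121), (408, 440, 1767, 1582), (408, 440, 767, 1360), (408, 440, 928, 1122), (408, 440, 2166, 1544), (408, 440, 757, 1301), (408, 440, 2104, 2075), (408, 440, 1097, 1282), (408, 1953, 2034, 1071), (408, 1953, 1349, 1583), (408, 1953, 630, 1029), (408, 1953, 1956, 1401), (408, 1953, 1427, 1982), (408, 1953, 552, 1350), (408, 1953, 1014, 1647), (408, 1953, 1096, 1894), (408, 1953, 924, 1506), (408, 1953, 766, 376), (408, 1953, 1174, 1573), (408, 1953, 1170, 1734), (408, 1554, 2034, 993), (408, 1554, 1349, 1661), (408, 1554, 630, 1107), (408, 1554, 1014, 1491), (408, 1554, 1096, 454), (408, 1554, 924, 1584), (408, 1554, 766, 1816), (408, 1554, 1174, 1651), (408,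 1554, 1894, 532), (408, 1554, 1506, 1914), (408, 1554, 376, 2059), (408, 1554, 1573, 2137)]

/-- run the certificate, extending the list of known codes -/
def runCert : List (ℕ × ℕ × ℕ × ℕ) → List ℕ → Option (List ℕ)
  | [], k => some k
  | (v, w, x, y) :: r, k =>
    if v ∈ k ∧ w ∈ k ∧ x ∈ k ∧ code (rf (dec v) (rf (dec w) (dec x))) = y then
      runCert r (y :: k) else none

theorem runCert_sound (P : V7 → Prop) (hP : ∀ v w x, P v → P w → P x → P (rf v (rf w x))) :
    ∀ (c : List (ℕ × ℕ × ℕ × ℕ)) (k K : List ℕ), (∀ n ∈ k, P (dec n)) → runCert c k = some K →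
      ∀ n ∈ K, P (dec n) := by
  intro c
  induction c with
  | nil =>
    intro k K hk h
    simp only [runCert, Option.some.injEq] at h
    subst h
    exact hk
  | cons t r ih =>
    obtain ⟨v, w, x, y⟩ := t
    intro k K hk h
    simp only [runCert] at h
    split_ifs at h with hc
    obtain ⟨hv, hw, hx, hy⟩ := hc
    refine ih (y :: k) K ?_ h
    intro n hn
    rcases List.mem_cons.mp hn with rfl | hn
    · rw [← hy, dec_code]
      exact hP _ _ _ (hk v hv) (hk w hw) (hk x hx)
    · exact hk n hn

/-- the code of the negative -/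
def negCode (n : ℕ) : ℕ := code (-(dec n))

/-- the final check: every vector of norm `-1` is reached up to sign -/
def finalOK : Bool :=
  match runCert cert baseCodes with
  | some K => (List.range 2187).all
      (fun n => !(decide (q7 (dec n) = -1)) || K.contains n || K.contains (negCode n))
  | none => false

theorem finalOK_true : finalOK = true := by decide +kernel

theorem all_of_base (P : V7 → Prop) (hb : ∀ n ∈ baseCodes, P (dec n))
    (hP : ∀ v w x, P v → P w → P x → P (rf v (rf w x))) (hN : ∀ x, P (-x) → P x) :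
    ∀ x : V7, q7 x = -1 → P x := by
  intro x hx
  have hf := finalOK_true
  unfold finalOK at hf
  split at hf
  · next K hK =>
    have hall := runCert_sound P hP cert baseCodes K hb hK
    rw [List.all_eq_true] at hf
    have h1 := hf (code x) (List.mem_range.mpr (code_lt x))
    rw [dec_code] at h1
    simp only [Bool.or_eq_true, Bool.not_eq_true', decide_eq_false_iff_not, List.contains_iff_mem] at h1
    rcases h1 with (h1 | h1) | h1
    · exact absurd hx h1
    · have := hall _ h1
      rwa [dec_code] at this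
    · have := hall _ h1
      rw [negCode, dec_code, dec_code] at this
      exact hN x this
  · exact absurd hf (by simp)

theorem q7_base : ∀ n ∈ baseCodes, q7 (dec n) = -1 := by decide

theorem q7_rf (v x : V7) (hv : q7 v = -1) : q7 (rf v x) = q7 x := by
  have h := q7_mat (reflT Q7 v) x
  rwa [mat_reflT v hv, reflectionMatrix_mulVec_rf v x hv] at h

theorem conj_formula {G : Type*} [Group G] (a v w x : G) (ha : a * a = 1) (hv : v * v = 1)
    (hw : w * w = 1) :
    a * (v * w * x * (v * w)⁻¹) = (a * v) * (a * w)⁻¹ * (a * x) * (a * w)⁻¹ * (a * v) := by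
  have hai : a⁻¹ = a := inv_eq_of_mul_eq_one_left ha
  have hvi : v⁻¹ = v := inv_eq_of_mul_eq_one_left hv
  have hwi : w⁻¹ = w := inv_eq_of_mul_eq_one_left hw
  have c : ∀ y : G, a * (a * y) = y := fun y => by rw [← mul_assoc, ha, one_mul]
  rw [_root_.mul_inv_rev, _root_.mul_inv_rev, hai, hvi, hwi]
  simp only [mul_assoc, c]

theorem good_step (R : Subgroup (Equiv.Perm (Fin 365))) (u₀ v w x : V7) (h0 : q7 u₀ = -1)
    (hv : q7 v = -1) (hw : q7 w = -1) (hx : q7 x = -1)
    (gv : phi (reflT Q7 u₀ * reflT Q7 v) ∈ R) (gw : phi (reflT Q7 u₀ * reflT Q7 w) ∈ R)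
    (gx : phi (reflT Q7 u₀ * reflT Q7 x) ∈ R) :
    phi (reflT Q7 u₀ * reflT Q7 (rf v (rf w x))) ∈ R := by
  have e : reflT Q7 u₀ * reflT Q7 (rf v (rf w x))
      = (reflT Q7 u₀ * reflT Q7 v) * (reflT Q7 u₀ * reflT Q7 w)⁻¹
        * (reflT Q7 u₀ * reflT Q7 x) * (reflT Q7 u₀ * reflT Q7 w)⁻¹
        * (reflT Q7 u₀ * reflT Q7 v) := by
    rw [← mat_rr_mulVec v w x hv hw, ← reflT_conj _ x hx]
    exact conj_formula _ _ _ _ (reflT_mul_self _ h0) (reflT_mul_self _ hv) (reflT_mul_self _ hw)
  rw [e, map_mul, map_mul, map_mul, map_mul, map_inv]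
  exact R.mul_mem (R.mul_mem (R.mul_mem (R.mul_mem gv (R.inv_mem gw)) gx) (R.inv_mem gw)) gv

/-- the property propagated along the certificate -/
def GoodP (R : Subgroup (Equiv.Perm (Fin 365))) (u₀ x : V7) : Prop :=
  q7 x = -1 ∧ phi (reflT Q7 u₀ * reflT Q7 x) ∈ R

theorem goodP_step (R : Subgroup (Equiv.Perm (Fin 365))) (u₀ : V7) (h0 : q7 u₀ = -1) (v w x : V7)
    (gv : GoodP R u₀ v) (gw : GoodP R u₀ w) (gx : GoodP R u₀ x) : GoodP R u₀ (rf v (rf w x)) :=
  ⟨by rw [q7_rf _ _ gv.1, q7_rf _ _ gw.1, gx.1],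
    good_step R u₀ v w x h0 gv.1 gw.1 gx.1 gv.2 gw.2 gx.2⟩

theorem goodP_neg (R : Subgroup (Equiv.Perm (Fin 365))) (u₀ : V7) (x : V7)
    (g : GoodP R u₀ (-x)) : GoodP R u₀ x := by
  have hx' : q7 x = -1 := by
    have := g.1
    rwa [← Q7_apply, QuadraticMap.map_neg, Q7_apply] at this
  refine ⟨hx', ?_⟩
  have := g.2
  rwa [reflT_neg x hx'] at this

/-- a subgroup containing the images of `r_{u₀} r_v` for the base vectors contains the images
of all `r_u r_v` with `u`, `v` of norm `-1` -/
theorem phi_rr_mem' (R : Subgroup (Equiv.Perm (Fin 365))) (u₀ : V7) (h0 : q7 u₀ = -1)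
    (hb : ∀ n ∈ baseCodes, phi (reflT Q7 u₀ * reflT Q7 (dec n)) ∈ R) :
    ∀ u v : V7, q7 u = -1 → q7 v = -1 → phi (reflT Q7 u * reflT Q7 v) ∈ R := by
  have hall : ∀ x : V7, q7 x = -1 → GoodP R u₀ x :=
    all_of_base (GoodP R u₀) (fun n hn => ⟨q7_base n hn, hb n hn⟩) (goodP_step R u₀ h0)
      (goodP_neg R u₀)
  intro u v hu hv
  have e : reflT Q7 u * reflT Q7 v
      = (reflT Q7 u₀ * reflT Q7 u)⁻¹ * (reflT Q7 u₀ * reflT Q7 v) := by
    rw [_root_.mul_inv_rev, reflT_inv u hu, reflT_inv _ h0, mul_assoc, ← mul_assoc (reflT Q7 u₀),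
      reflT_mul_self _ h0, one_mul]
  rw [e, map_mul, map_inv]
  exact R.mul_mem (R.inv_mem (hall u hu).2) (hall v hv).2

end Cfsg.Agent.Lib.Helper91_O73Closure
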