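import Mathlib
import Cfsg.Agent.Lib.Helper91_O73Closure
import Cfsg.Agent.S0292
import Cfsg.Agent.S0295

/-!
# `Ω(7,3)`: generated by products of two reflections of norm `-1`, simple, of order 4585351680

helper91.  Consequences of S0292, S0295 and helper44's library for the concrete form
`quadFormOdd 3 (ZMod 3)`, and the restriction of `phi` to `Ω`.
-/

set_option autoImplicit false

namespace Cfsg.Agent.Lib.Helper91_O73Omega

open scoped commutatorElement

open Module Matrix Cfsg.Agent.Lib.Helper44_StdForms Cfsg.Agent.Lib.Helper44_Refl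
  Cfsg.Agent.Lib.Helper44_Orth Cfsg.Agent.Lib.Helper44_Spinor Cfsg.Agent.Lib.Helper91_O73Pts
  Cfsg.Agent.Lib.Helper91_O73Theta Cfsg.Agent.Lib.Helper91_O73Closure
  Cfsg.Agent.Lib.Helper44_POmegaCard Cfsg.Agent.Lib.Helper44_Center Cfsg.Agent.Lib.Helper44_Index
  Cfsg.Agent.Lib.Helper44_OmegaOdd

/-- `Ω(7,3)` -/
abbrev Om : Subgroup O7 := Cfsg.Omega (ZMod 3) (⇑Q7)

/-- products of two reflections in vectors of norm `-1` -/
def gens : Set O7 := {g | ∃ u v : V7, q7 u = -1 ∧ q7 v = -1 ∧ g = reflT Q7 u * reflT Q7 v}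

/-- the subgroup they generate -/
def NN : Subgroup O7 := Subgroup.closure gens

theorem gens_conj (g x : O7) (hx : x ∈ gens) : g * x * g⁻¹ ∈ gens := by
  obtain ⟨u, v, hu, hv, rfl⟩ := hx
  refine ⟨mat g *ᵥ u, mat g *ᵥ v, by rw [q7_mat, hu], by rw [q7_mat, hv], ?_⟩
  rw [← reflT_conj g u hu, ← reflT_conj g v hv]
  group

theorem NN_normal : NN.Normal := by
  constructor
  intro n hn g
  have h : NN ≤ NN.comap (MulAut.conj g).toMonoidHom := by
    rw [NN, Subgroup.closure_le]
    intro x hx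
    exact Subgroup.subset_closure (gens_conj g x hx)
  exact h hn

theorem two_ne_zero3 : (2 : ZMod 3) ≠ 0 := by decide

theorem gens_le_Om : gens ⊆ (Om : Set O7) := by
  rintro _ ⟨u, v, hu, hv, rfl⟩
  have hu' := Q7_ne_zero hu
  have hv' := Q7_ne_zero hv
  obtain ⟨h, hh⟩ := exists_conj_refl Q7 two_ne_zero3 hu' hv'
    (by rw [Q7_apply, Q7_apply, hu, hv])
  rw [reflT_of_ne Q7 u hu', reflT_of_ne Q7 v hv', ← hh]
  have e : refl Q7 u hu' * (h * refl Q7 u hu' * h⁻¹) = ⁅refl Q7 u hu', h⁆ := by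
    have hinv : (refl Q7 u hu')⁻¹ = refl Q7 u hu' :=
      inv_eq_of_mul_eq_one_left (refl_mul_self Q7 u hu')
    rw [commutatorElement_def, hinv]
    group
  rw [e]
  exact Subgroup.commutator_mem_commutator (Subgroup.mem_top _) (Subgroup.mem_top _)

theorem NN_le_Om : NN ≤ Om := by
  rw [NN, Subgroup.closure_le]
  exact gens_le_Om

/-- a nontrivial element of `NN` -/
theorem phi_base_ne_one : phi (reflT Q7 (dec 165) * reflT Q7 (dec 408)) ≠ 1 := by
  intro h
  have h1 := congrArg (fun σ : Equiv.Perm (Fin 365) => σ 4) h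
  simp only [Equiv.Perm.one_apply] at h1
  rw [phi_rr _ _ (by decide +kernel) (by decide +kernel)] at h1
  revert h1
  decide +kernel

theorem base_mem_gens : reflT Q7 (dec 165) * reflT Q7 (dec 408) ∈ gens :=
  ⟨dec 165, dec 408, by decide +kernel, by decide +kernel, rfl⟩

theorem NN_ne_bot : NN ≠ ⊥ := by
  intro h
  have hm : reflT Q7 (dec 165) * reflT Q7 (dec 408) ∈ NN := Subgroup.subset_closure base_mem_gens
  rw [h, Subgroup.mem_bot] at hm
  apply phi_base_ne_one
  rw [hm, map_one]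

theorem nondeg_Q7 : (QuadraticMap.polarBilin Q7).Nondegenerate :=
  Cfsg.Agent.Lib.Helper14_POmegaSimple.nondegenerate_qfOdd two_ne_zero3 3

theorem card_I7 : Fintype.card I7 = 7 := by
  simp [Fintype.card_sum]

/-- the centre of `Ω(7,3)` is trivial -/
theorem center_Om : Subgroup.center Om = ⊥ := by
  have h2 := two_ne_zero3
  have hQ := nondeg_Q7
  have hex : Fintype.card (ZMod 3) ≠ 2 ∨ Fintype.card I7 ≠ 4 := by
    right; rw [card_I7]; omega
  set e : V7 := Pi.single (Sum.inr (Sum.inl 0)) 1 with he'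
  set f : V7 := Pi.single (Sum.inr (Sum.inr 0)) 1 with hf'
  set w₀ : V7 := Pi.single (Sum.inl ()) 1 with hw'
  have he : Q7 e = 0 := by
    rw [show Q7 e = (⇑(qfOdd 3 (ZMod 3))) e from rfl, coe_qfOdd, Cfsg.quadFormOdd, he']
    simp
  have hf : Q7 f = 0 := by
    rw [show Q7 f = (⇑(qfOdd 3 (ZMod 3))) f from rfl, coe_qfOdd, Cfsg.quadFormOdd, hf']
    simp
  have hw₀ : Q7 w₀ ≠ 0 := by
    rw [show Q7 w₀ = (⇑(qfOdd 3 (ZMod 3))) w₀ from rfl, coe_qfOdd, Cfsg.quadFormOdd, hw']
    simp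
  have hef : QuadraticMap.polar (⇑Q7) e f = 1 := by
    rw [coe_qfOdd, polar_quadFormOdd, he', hf']
    simp [Pi.single_apply]
  have hew : QuadraticMap.polar (⇑Q7) e w₀ = 0 := by
    rw [coe_qfOdd, polar_quadFormOdd, he', hw']
    simp [Pi.single_apply]
  have hfw : QuadraticMap.polar (⇑Q7) f w₀ = 0 := by
    rw [coe_qfOdd, polar_quadFormOdd, hf', hw']
    simp [Pi.single_apply]
  have hcent := fun z₀ hz₀ => centralizer_omega Q7 hQ hex (by rw [card_I7]; omega)
    he hf hef hw₀ hew hfw z₀ hz₀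
  have hneg : negOne Q7 ∉ Cfsg.Omega (ZMod 3) (⇑Q7) := by
    intro hmem
    have hdet := ((mem_omega_iff_det_theta h2 Q7 hQ _).mp hmem).1
    rw [negOne_coe, Matrix.det_neg, Matrix.det_one, mul_one, card_I7] at hdet
    revert hdet
    decide
  have hc1 := card_center_eq_one Q7 hcent (Or.inr hneg)
  exact Subgroup.eq_bot_of_card_eq _ hc1

/-- `Ω(7,3)` is isomorphic to `PΩ(7,3)` -/
noncomputable def omEquiv : Cfsg.POmega (ZMod 3) (⇑Q7) ≃* Om :=
  (QuotientGroup.quotientMulEquivOfEq center_Om).trans QuotientGroup.quotientBot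

theorem simple_POmega : IsSimpleGroup (Cfsg.POmega (ZMod 3) (⇑Q7)) := by
  have h := Cfsg.Agent.S0295.result (F := ZMod 3) (by decide) 3 le_rfl
  rwa [← coe_qfOdd] at h

theorem card_POmega : Nat.card (Cfsg.POmega (ZMod 3) (⇑Q7)) = 4585351680 := by
  have h := Cfsg.Agent.S0292.result (F := ZMod 3) (q := 3) (by decide) (by decide) 3 le_rfl
  rw [← coe_qfOdd] at h
  norm_num [Finset.prod_range_succ] at h
  have h' : 2 * Nat.card (Cfsg.POmega (ZMod 3) (⇑Q7)) = 9170703360 := h
  omega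

theorem card_Om : Nat.card Om = 4585351680 := by
  rw [← card_POmega]
  exact Nat.card_congr omEquiv.symm.toEquiv

theorem simple_Om : IsSimpleGroup Om := by
  have := simple_POmega
  have : Nontrivial Om := by
    have : Finite Om := Nat.finite_of_card_ne_zero (by rw [card_Om]; norm_num)
    exact Finite.one_lt_card_iff_nontrivial.mp (by rw [card_Om]; norm_num)
  exact IsSimpleGroup.isSimpleGroup_of_surjective omEquiv.toMonoidHom omEquiv.surjective

theorem Om_le_NN : Om ≤ NN := by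
  have := simple_Om
  have := NN_normal
  have hn : (NN.subgroupOf Om).Normal := inferInstance
  rcases hn.eq_bot_or_eq_top with h | h
  · exfalso
    rw [Subgroup.subgroupOf_eq_bot] at h
    apply NN_ne_bot
    rw [eq_bot_iff]
    intro x hx
    exact h.le_bot ⟨hx, NN_le_Om hx⟩
  · exact Subgroup.subgroupOf_eq_top.mp h

/-- the restriction of `phi` to `Ω(7,3)` -/
def phiOm : Om →* Equiv.Perm (Fin 365) := phi.comp Om.subtype

theorem phiOm_injective : Function.Injective phiOm := by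
  have := simple_Om
  rw [← MonoidHom.ker_eq_bot_iff]
  rcases Subgroup.Normal.eq_bot_or_eq_top (inferInstance : phiOm.ker.Normal) with h | h
  · exact h
  · exfalso
    have hm : reflT Q7 (dec 165) * reflT Q7 (dec 408) ∈ Om :=
      NN_le_Om (Subgroup.subset_closure base_mem_gens)
    have h1 : (⟨_, hm⟩ : Om) ∈ phiOm.ker := h ▸ Subgroup.mem_top _
    rw [MonoidHom.mem_ker] at h1
    exact phi_base_ne_one h1

/-- a subgroup containing the images of the base elements contains `phi (Ω)` -/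
theorem phiOm_range_le (R : Subgroup (Equiv.Perm (Fin 365)))
    (hb : ∀ n ∈ baseCodes, phi (reflT Q7 (dec c0) * reflT Q7 (dec n)) ∈ R) : phiOm.range ≤ R := by
  have h1 : NN ≤ R.comap phi := by
    rw [NN, Subgroup.closure_le]
    rintro _ ⟨u, v, hu, hv, rfl⟩
    exact phi_rr_mem' R (dec c0) (q7_base c0 (by decide)) hb u v hu hv
  rintro _ ⟨g, rfl⟩
  exact h1 (Om_le_NN g.2)

end Cfsg.Agent.Lib.Helper91_O73Omega
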