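import Mathlib
import Cfsg.Agent.Lib.Helper91_Fi22Blocks
import Cfsg.Agent.Lib.Helper91_O73Omega

/-!
# `<b, …, i> ≤ Fi22` is isomorphic to `Ω(7,3)`: the core statement

helper91.  Any group of order `4585351680` mapping into `Perm (Fin 14080)` with image in the
closure of the eight generator permutations and hitting each of them is isomorphic to
`Ω(7,3)`.
-/

set_option autoImplicit false
set_option linter.constructorNameAsVariable false

namespace Cfsg.Agent.Lib.Helper91_Fi22O73

open Cfsg.Spor Cfsg.Agent.Lib.Helper28_CosetPerm Cfsg.Agent.Lib.Helper28_S1685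
  Cfsg.Agent.Lib.Helper91_BlockAction2 Cfsg.Agent.Lib.Helper91_Fi22Blocks
  Cfsg.Agent.Lib.Helper91_O73Pts Cfsg.Agent.Lib.Helper91_O73Theta
  Cfsg.Agent.Lib.Helper91_O73Closure Cfsg.Agent.Lib.Helper91_O73Omega
  Cfsg.Agent.Lib.Helper44_Spinor Equiv

theorem i1B : inv1Chk t1B = true := by decide +kernel
theorem i2B : inv2Chk t2B = true := by decide +kernel
theorem icB : incChk t1B t2B = true := by decide +kernel
theorem chB : chkAll [(.b, true)] t1B = true := by decide +kernel

theorem i1C : inv1Chk t1C = true := by decide +kernel
theorem i2C : inv2Chk t2C = true := by decide +kernel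
theorem icC : incChk t1C t2C = true := by decide +kernel
theorem chC : chkAll [(.c, true)] t1C = true := by decide +kernel

theorem i1D : inv1Chk t1D = true := by decide +kernel
theorem i2D : inv2Chk t2D = true := by decide +kernel
theorem icD : incChk t1D t2D = true := by decide +kernel
theorem chD : chkAll [(.d, true)] t1D = true := by decide +kernel

theorem i1E : inv1Chk t1E = true := by decide +kernel
theorem i2E : inv2Chk t2E = true := by decide +kernel
theorem icE : incChk t1E t2E = true := by decide +kernel
theorem chE : chkAll [(.e, true)] t1E = true := by decide +kernel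

theorem i1F : inv1Chk t1F = true := by decide +kernel
theorem i2F : inv2Chk t2F = true := by decide +kernel
theorem icF : incChk t1F t2F = true := by decide +kernel
theorem chF : chkAll [(.f, true)] t1F = true := by decide +kernel

theorem i1G : inv1Chk t1G = true := by decide +kernel
theorem i2G : inv2Chk t2G = true := by decide +kernel
theorem icG : incChk t1G t2G = true := by decide +kernel
theorem chG : chkAll [(.g, true)] t1G = true := by decide +kernel

theorem i1H : inv1Chk t1H = true := by decide +kernel
theorem i2H : inv2Chk t2H = true := by decide +kernel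
theorem icH : incChk t1H t2H = true := by decide +kernel
theorem chH : chkAll [(.h, true)] t1H = true := by decide +kernel

theorem i1I : inv1Chk t1I = true := by decide +kernel
theorem i2I : inv2Chk t2I = true := by decide +kernel
theorem icI : incChk t1I t2I = true := by decide +kernel
theorem chI : chkAll [(.i, true)] t1I = true := by decide +kernel


/-! ### the base identities -/

theorem baseC : phi (reflT Q7 (dec 165) * reflT Q7 (dec 408)) = p2 t2B i2B * p2 t2C i2C := by
  apply Equiv.ext
  intro i
  rw [phi_rr _ _ (by decide +kernel) (by decide +kernel)]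
  revert i
  decide +kernel

theorem baseD : phi (reflT Q7 (dec 165) * reflT Q7 (dec 94)) = p2 t2B i2B * p2 t2D i2D := by
  apply Equiv.ext
  intro i
  rw [phi_rr _ _ (by decide +kernel) (by decide +kernel)]
  revert i
  decide +kernel

theorem baseE : phi (reflT Q7 (dec 165) * reflT Q7 (dec 85)) = p2 t2B i2B * p2 t2E i2E := by
  apply Equiv.ext
  intro i
  rw [phi_rr _ _ (by decide +kernel) (by decide +kernel)]
  revert i
  decide +kernel

theorem baseF : phi (reflT Q7 (dec 165) * reflT Q7 (dec 2029)) = p2 t2B i2B * p2 t2F i2F := by
  apply Equiv.ext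
  intro i
  rw [phi_rr _ _ (by decide +kernel) (by decide +kernel)]
  revert i
  decide +kernel

theorem baseG : phi (reflT Q7 (dec 165) * reflT Q7 (dec 1485)) = p2 t2B i2B * p2 t2G i2G := by
  apply Equiv.ext
  intro i
  rw [phi_rr _ _ (by decide +kernel) (by decide +kernel)]
  revert i
  decide +kernel

theorem baseH : phi (reflT Q7 (dec 165) * reflT Q7 (dec 655)) = p2 t2B i2B * p2 t2H i2H := by
  apply Equiv.ext
  intro i
  rw [phi_rr _ _ (by decide +kernel) (by decide +kernel)]
  revert i
  decide +kernel

theorem baseI : phi (reflT Q7 (dec 165) * reflT Q7 (dec 169)) = p2 t2B i2B * p2 t2I i2I := by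
  apply Equiv.ext
  intro i
  rw [phi_rr _ _ (by decide +kernel) (by decide +kernel)]
  revert i
  decide +kernel


end Cfsg.Agent.Lib.Helper91_Fi22O73
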