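import Mathlib
import Cfsg.Agent.Lib.Helper91_Fi22O73
import Cfsg.Agent.S1685
import Cfsg.Agent.S1696

/-!
# `<b, …, i> ≤ Fi22` is isomorphic to `PΩ(7,3)`

helper91.  The core statement and the statement of S1686.
-/

set_option autoImplicit false
set_option linter.constructorNameAsVariable false

namespace Cfsg.Agent.Lib.Helper91_Fi22Final

open Cfsg.Spor Cfsg.Agent.Lib.Helper28_CosetPerm Cfsg.Agent.Lib.Helper28_S1685
  Cfsg.Agent.Lib.Helper91_BlockAction2 Cfsg.Agent.Lib.Helper91_Fi22Blocks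
  Cfsg.Agent.Lib.Helper91_O73Pts Cfsg.Agent.Lib.Helper91_O73Theta
  Cfsg.Agent.Lib.Helper91_O73Closure Cfsg.Agent.Lib.Helper91_O73Omega
  Cfsg.Agent.Lib.Helper91_Fi22O73 Cfsg.Agent.Lib.Helper44_Spinor
  Cfsg.Agent.Lib.Helper44_StdForms Equiv

/-- the eight generators of the subgroup, as in the statement -/
abbrev S8 : Set (FreeGroup Fi22.Gen) :=
  {Fi22.b, Fi22.c, Fi22.d, Fi22.e, Fi22.f, Fi22.g, Fi22.h, Fi22.i}

theorem core {G : Type*} [Group G] (ι : G →* Perm (Fin 14080))
    (h1 : ∀ g, ι g ∈ Subgroup.closure (⇑(FreeGroup.lift (perm hv)) '' S8))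
    (h2 : ∀ s ∈ S8, ∃ g, ι g = FreeGroup.lift (perm hv) s)
    (hcard : Nat.card G = 4585351680) : Nonempty (G ≃* Om) := by
  have : Finite G := Nat.finite_of_card_ne_zero (by rw [hcard]; norm_num)
  have mB := word_mem [(.b, true)] t1B t2B i1B i2B icB chB
  have mC := word_mem [(.c, true)] t1C t2C i1C i2C icC chC
  have mD := word_mem [(.d, true)] t1D t2D i1D i2D icD chD
  have mE := word_mem [(.e, true)] t1E t2E i1E i2E icE chE
  have mF := word_mem [(.f, true)] t1F t2F i1F i2F icF chF
  have mG := word_mem [(.g, true)] t1G t2G i1G i2G icG chG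
  have mH := word_mem [(.h, true)] t1H t2H i1H i2H icH chH
  have mI := word_mem [(.i, true)] t1I t2I i1I i2I icI chI
  have hK : Subgroup.closure (⇑(FreeGroup.lift (perm hv)) '' S8) ≤ PS2 lineOf Inc := by
    rw [Subgroup.closure_le]
    rintro _ ⟨s, hs, rfl⟩
    simp only [Set.mem_insert_iff, Set.mem_singleton_iff] at hs
    rcases hs with rfl | rfl | rfl | rfl | rfl | rfl | rfl | rfl
    · exact mB
    · exact mC
    · exact mD
    · exact mE
    · exact mF
    · exact mG
    · exact mH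
    · exact mI
  let ι' : G →* PS2 lineOf Inc := ι.codRestrict (PS2 lineOf Inc) (fun g => hK (h1 g))
  let ρ : G →* Perm (Fin 365) := (rho2 lineOf_surj inc_sep).comp ι'
  have hval : ∀ (s : FreeGroup Fi22.Gen) (u : List (Fi22.Gen × Bool)) (t1 t2 : ℕ)
      (j1 : inv1Chk t1 = true) (j2 : inv2Chk t2 = true) (hi : incChk t1 t2 = true)
      (hc : chkAll u t1 = true), s ∈ S8 → s = FreeGroup.mk u → p2 t2 j2 ∈ ρ.range := by
    intro s u t1 t2 j1 j2 hi hc hs hsu
    obtain ⟨g, hg⟩ := h2 s hs
    refine ⟨g, ?_⟩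
    have hm := word_mem u t1 t2 j1 j2 hi hc
    have : ι' g = ⟨_, hm⟩ :=
      Subtype.ext (by rw [MonoidHom.codRestrict_apply]; simp only; rw [hg, hsu])
    show rho2 lineOf_surj inc_sep (ι' g) = p2 t2 j2
    rw [this]
    exact rho2_word u t1 t2 j1 j2 hi hc hm
  have rB := hval Fi22.b [(.b, true)] t1B t2B i1B i2B icB chB (by simp) rfl
  have rC := hval Fi22.c [(.c, true)] t1C t2C i1C i2C icC chC (by simp) rfl
  have rD := hval Fi22.d [(.d, true)] t1D t2D i1D i2D icD chD (by simp) rfl
  have rE := hval Fi22.e [(.e, true)] t1E t2E i1E i2E icE chE (by simp) rfl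
  have rF := hval Fi22.f [(.f, true)] t1F t2F i1F i2F icF chF (by simp) rfl
  have rG := hval Fi22.g [(.g, true)] t1G t2G i1G i2G icG chG (by simp) rfl
  have rH := hval Fi22.h [(.h, true)] t1H t2H i1H i2H icH chH (by simp) rfl
  have rI := hval Fi22.i [(.i, true)] t1I t2I i1I i2I icI chI (by simp) rfl
  have hle : phiOm.range ≤ ρ.range := by
    apply phiOm_range_le
    intro n hn
    simp only [baseCodes, List.mem_cons, List.not_mem_nil, or_false] at hn
    rcases hn with rfl | rfl | rfl | rfl | rfl | rfl | rfl | rfl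
    · have : reflT Q7 (dec c0) * reflT Q7 (dec 165) = 1 := reflT_mul_self _ (by decide +kernel)
      rw [this, map_one]
      exact ρ.range.one_mem
    · rw [show c0 = 165 from rfl, baseC]; exact ρ.range.mul_mem rB rC
    · rw [show c0 = 165 from rfl, baseD]; exact ρ.range.mul_mem rB rD
    · rw [show c0 = 165 from rfl, baseE]; exact ρ.range.mul_mem rB rE
    · rw [show c0 = 165 from rfl, baseF]; exact ρ.range.mul_mem rB rF
    · rw [show c0 = 165 from rfl, baseG]; exact ρ.range.mul_mem rB rG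
    · rw [show c0 = 165 from rfl, baseH]; exact ρ.range.mul_mem rB rH
    · rw [show c0 = 165 from rfl, baseI]; exact ρ.range.mul_mem rB rI
  exact iso_of_common_action ρ phiOm phiOm_injective hle (by rw [hcard, card_Om])

/-- the relators of the presentation -/
abbrev rels : Set (FreeGroup Fi22.Gen) := coxRelators Fi22.edges ∪ {r | r ∈ Fi22.extra}

theorem hrel : ∀ r ∈ rels, FreeGroup.lift (perm hv) r = 1 := verified.hrel

/-- the permutation representation on 14080 points -/
noncomputable def psiFi : Fi22 →* Perm (Fin 14080) := psi (perm hv) hrel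

theorem psiFi_mk (w : FreeGroup Fi22.Gen) :
    psiFi (PresentedGroup.mk rels w) = FreeGroup.lift (perm hv) w := rfl

/-- the subgroup of the statement -/
abbrev HS : Subgroup Fi22 := (Subgroup.closure S8).map (PresentedGroup.mk rels)

theorem index_HS : HS.index = 14080 := Cfsg.Agent.S1685.result

theorem card_HS : Nat.card HS = 4585351680 := by
  have h := HS.card_mul_index
  rw [index_HS, Cfsg.Agent.S1696.result.2] at h
  exact Nat.eq_of_mul_eq_mul_right (by norm_num : 0 < 14080) (h.trans (by norm_num))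

theorem psiFi_mem_closure (y : Fi22) (hy : y ∈ HS) :
    psiFi y ∈ Subgroup.closure (⇑(FreeGroup.lift (perm hv)) '' S8) := by
  obtain ⟨x, hx, rfl⟩ := hy
  rw [psiFi_mk, ← MonoidHom.map_closure]
  exact Subgroup.mem_map_of_mem _ hx

theorem s1686 : Nonempty (HS ≃* Cfsg.POmega (ZMod 3) (Cfsg.quadFormOdd 3 (ZMod 3))) := by
  obtain ⟨e⟩ := core (psiFi.comp HS.subtype)
    (fun g => psiFi_mem_closure g.1 g.2)
    (fun s hs => ⟨⟨PresentedGroup.mk rels s,
      Subgroup.mem_map_of_mem _ (Subgroup.subset_closure hs)⟩, rfl⟩)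
    card_HS
  rw [← coe_qfOdd]
  exact ⟨e.trans omEquiv.symm⟩

end Cfsg.Agent.Lib.Helper91_Fi22Final
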