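import Mathlib
import Cfsg.Prelude.Def_Characters
import Cfsg.Agent.Lib.Helper80_CharBasic
import Cfsg.Agent.Lib.Helper6_GL23Defs
import Cfsg.Agent.Lib.Helper30_KleinCount
import Cfsg.Agent.S0840

/-!
# S0197 package EQS (architect helper6): the two class-algebra constants (products of two involutions).
-/

set_option autoImplicit false
open scoped ComplexConjugate

namespace Cfsg.Agent.Lib.Helper91_GL23_EQS

open Cfsg Cfsg.Agent.Lib.Helper80_CharBasic Cfsg.Agent.Lib.Helper6_GL23Defs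

section grp2
variable {G : Type*} [Group G] [Finite G] {t a s : G}

omit [Finite G] in
/-- conjugates have the same order -/
theorem orderOf_of_isConj {x y : G} (h : IsConj x y) : orderOf y = orderOf x := by
  obtain ⟨g, hg⟩ := isConj_iff.mp h
  rw [← hg]
  exact (MulAut.conj g).orderOf_eq x

omit [Finite G] in
/-- the pairs of involutions with product `c` (not an involution) -/
theorem card_pairs_eq (ht : orderOf t = 2) (hinv : ∀ x : G, orderOf x = 2 → IsConj t x) (c : G)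
    (hc : orderOf c ≠ 2) :
    Nat.card {p : G × G // IsConj t p.1 ∧ IsConj t p.2 ∧ p.1 * p.2 = c} =
      Nat.card {x : G // orderOf x = 2 ∧ x * c * x⁻¹ = c⁻¹} := by
  have hsq : ∀ x : G, orderOf x = 2 → x * x = 1 := by
    intro x hx
    have := pow_orderOf_eq_one x
    rw [hx, pow_two] at this
    exact this
  have hinv' : ∀ x : G, orderOf x = 2 → x⁻¹ = x := by
    intro x hx
    exact inv_eq_of_mul_eq_one_left (hsq x hx)
  apply Nat.card_congr
  refine
    { toFun := fun p => ⟨p.1.1, ?_, ?_⟩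
      invFun := fun x => ⟨(x.1, x.1⁻¹ * c), ?_, ?_, ?_⟩
      left_inv := ?_
      right_inv := ?_ }
  · rw [orderOf_of_isConj p.2.1, ht]
  · have h1 : orderOf p.1.1 = 2 := by rw [orderOf_of_isConj p.2.1, ht]
    have h2 : orderOf p.1.2 = 2 := by rw [orderOf_of_isConj p.2.2.1, ht]
    have hpc : p.1.1 * p.1.2 = c := p.2.2.2
    calc p.1.1 * c * p.1.1⁻¹ = p.1.1 * (p.1.1 * p.1.2) * p.1.1⁻¹ := by rw [hpc]
      _ = (p.1.1 * p.1.1) * p.1.2 * p.1.1⁻¹ := by group
      _ = p.1.2 * p.1.1⁻¹ := by rw [hsq _ h1, one_mul]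
      _ = p.1.2⁻¹ * p.1.1⁻¹ := by rw [hinv' _ h2]
      _ = (p.1.1 * p.1.2)⁻¹ := by rw [mul_inv_rev]
      _ = c⁻¹ := by rw [hpc]
  · exact hinv _ x.2.1
  · apply hinv
    have : Fact (Nat.Prime 2) := ⟨Nat.prime_two⟩
    apply orderOf_eq_prime
    · rw [pow_two]
      have h1 := x.2.2
      have h3 : c * x.1⁻¹ = x.1⁻¹ * c⁻¹ := by
        calc c * x.1⁻¹ = x.1⁻¹ * (x.1 * c * x.1⁻¹) := by group
          _ = x.1⁻¹ * c⁻¹ := by rw [h1]
      calc x.1⁻¹ * c * (x.1⁻¹ * c) = x.1⁻¹ * (c * x.1⁻¹) * c := by group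
        _ = x.1⁻¹ * (x.1⁻¹ * c⁻¹) * c := by rw [h3]
        _ = (x.1 * x.1)⁻¹ := by group
        _ = 1 := by rw [hsq _ x.2.1, inv_one]
    · intro h1
      have h1' : x.1⁻¹ * c = 1 := h1
      apply hc
      have : c = x.1 := by
        calc c = x.1 * (x.1⁻¹ * c) := by group
          _ = x.1 := by rw [h1', mul_one]
      rw [this, x.2.1]
  · group
  · intro p
    apply Subtype.ext
    apply Prod.ext
    · rfl
    · show p.1.1⁻¹ * c = p.1.2
      have hpc : p.1.1 * p.1.2 = c := p.2.2.2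
      calc p.1.1⁻¹ * c = p.1.1⁻¹ * (p.1.1 * p.1.2) := by rw [hpc]
        _ = p.1.2 := by group
  · intro x
    rfl

theorem eqs (h : Loc G t a s) (hinv : ∀ x : G, orderOf x = 2 → IsConj t x) :
    ∑ᶠ χ : IrrCharacter G,
        (χ : G → ℂ) t * (χ : G → ℂ) t * conj ((χ : G → ℂ) a) / (χ : G → ℂ) 1 = 0 ∧
    (Nat.card G : ℂ) * ∑ᶠ χ : IrrCharacter G,
        (χ : G → ℂ) t * (χ : G → ℂ) t * conj ((χ : G → ℂ) (a ^ 2)) / (χ : G → ℂ) 1 = 9216 := by
  have hcls := Cfsg.Agent.Lib.Helper30_KleinCount.card_class_mul t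
  rw [h.ct] at hcls
  have hcls' : (Nat.card {w : G // IsConj t w} : ℂ) * 48 = (Nat.card G : ℂ) := by
    exact_mod_cast hcls
  have hg : (Nat.card G : ℂ) ≠ 0 := by
    have : Nat.card G ≠ 0 := Nat.card_pos.ne'
    exact_mod_cast this
  have hcl0 : (Nat.card {w : G // IsConj t w} : ℂ) ≠ 0 := by
    intro h0
    rw [h0, zero_mul] at hcls'
    exact hg hcls'.symm
  constructor
  · have key := Cfsg.Agent.S0840.result t t a
    have hN : Nat.card {p : G × G // IsConj t p.1 ∧ IsConj t p.2 ∧ p.1 * p.2 = a} = 0 := by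
      rw [card_pairs_eq h.ot hinv a (by rw [h.oa]; norm_num)]
      have : IsEmpty {x : G // orderOf x = 2 ∧ x * a * x⁻¹ = a⁻¹} :=
        ⟨fun x => h.na x.1 x.2.1 x.2.2⟩
      exact Nat.card_of_isEmpty
    rw [hN, Nat.cast_zero] at key
    have h1 : (Nat.card {x : G // IsConj t x} : ℂ) * (Nat.card {x : G // IsConj t x} : ℂ) /
        (Nat.card G : ℂ) ≠ 0 := div_ne_zero (mul_ne_zero hcl0 hcl0) hg
    rcases mul_eq_zero.mp key.symm with h2 | h2
    · exact absurd h2 h1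
    · exact h2
  · have key := Cfsg.Agent.S0840.result t t (a ^ 2)
    have ho : orderOf (a ^ 2) = 4 := by
      rw [orderOf_pow' a (by norm_num : (2 : ℕ) ≠ 0), h.oa]
      decide
    have hN : Nat.card {p : G × G // IsConj t p.1 ∧ IsConj t p.2 ∧ p.1 * p.2 = a ^ 2} = 4 := by
      rw [card_pairs_eq h.ot hinv (a ^ 2) (by rw [ho]; norm_num)]
      exact h.nv
    rw [hN] at key
    rw [← hcls'] at key ⊢
    have h4 : ((4 : ℕ) : ℂ) = 4 := by norm_num
    rw [h4] at key
    generalize (∑ᶠ χ : IrrCharacter G,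
        (χ : G → ℂ) t * (χ : G → ℂ) t * conj ((χ : G → ℂ) (a ^ 2)) / (χ : G → ℂ) 1) = S at key ⊢
    have h48 : ((48 : ℂ)) ≠ 0 := by norm_num
    rw [mul_div_mul_left _ _ hcl0] at key
    field_simp at key
    linear_combination (-48 : ℂ) * key

end grp2

end Cfsg.Agent.Lib.Helper91_GL23_EQS
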