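import Mathlib

set_option autoImplicit false

namespace Cfsg.Agent.Lib.Helper91_K4

/-- the field with four elements, `0, 1, ω, ω + 1` coded as `0, 1, 2, 3` -/
structure K4 where
  val : Fin 4
  deriving DecidableEq

namespace K4

instance : Fintype K4 := Fintype.ofEquiv (Fin 4) ⟨K4.mk, K4.val, fun _ => rfl, fun _ => rfl⟩

def addT (a b : Fin 4) : Fin 4 := ⟨(a.val ^^^ b.val) % 4, Nat.mod_lt _ (by norm_num)⟩

def mulT (a b : Fin 4) : Fin 4 := ⟨2625168384 / 4 ^ (4 * a.val + b.val) % 4, Nat.mod_lt _ (by norm_num)⟩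

def invT (a : Fin 4) : Fin 4 := ⟨180 / 4 ^ a.val % 4, Nat.mod_lt _ (by norm_num)⟩

instance : Zero K4 := ⟨⟨0⟩⟩
instance : One K4 := ⟨⟨1⟩⟩
instance : Add K4 := ⟨fun a b => ⟨addT a.val b.val⟩⟩
instance : Mul K4 := ⟨fun a b => ⟨mulT a.val b.val⟩⟩
instance : Neg K4 := ⟨fun a => a⟩
instance : Inv K4 := ⟨fun a => ⟨invT a.val⟩⟩

theorem add_def (a b : K4) : a + b = ⟨addT a.val b.val⟩ := rfl
theorem mul_def (a b : K4) : a * b = ⟨mulT a.val b.val⟩ := rfl

instance : CommRing K4 where
  add_assoc := by decide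
  zero_add := by decide
  add_zero := by decide
  add_comm := by decide
  neg_add_cancel := by decide
  mul_assoc := by decide
  one_mul := by decide
  mul_one := by decide
  left_distrib := by decide
  right_distrib := by decide
  mul_comm := by decide
  zero_mul := by decide
  mul_zero := by decide
  nsmul := nsmulRec
  zsmul := zsmulRec

instance : Field K4 where
  exists_pair_ne := ⟨0, 1, by decide⟩
  mul_inv_cancel := by decide
  inv_zero := by decide
  nnqsmul := _
  qsmul := _

theorem card : Fintype.card K4 = 4 := by decide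

end K4

end Cfsg.Agent.Lib.Helper91_K4
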