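import Mathlib
import Cfsg.Agent.Lib.Helper91_K4
import Cfsg.Agent.Lib.Helper13_SympTrans

/-!
# The action of `Sp(4,4)` on the 85 points of `PG(3,4)` (plus one dummy point), concretely

helper91.  Vectors of `K4^4` are functions `Fin 2 ⊕ Fin 2 → K4`; a vector is coded by a number
below 256, the 85 points (and the zero vector as the 86th "point") are listed in a packed table,
and `nrm` sends a vector to the index of the point it spans.  Every matrix acts on `Fin 86`
by `i ↦ nrm (M *ᵥ pt i)`; this is a monoid homomorphism, faithful on the symplectic group.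
-/

set_option autoImplicit false

namespace Cfsg.Agent.Lib.Helper91_Sp4Pts

open Cfsg.Agent.Lib.Helper91_K4 Matrix Cfsg.Agent.Lib.Helper13_Symp Cfsg.Agent.Lib.Helper13_SympTrans

/-- the space `K4^4` -/
abbrev V : Type := Fin 2 ⊕ Fin 2 → K4

/-- a vector from its four coordinates -/
def mkV (a b c d : K4) : V := Sum.elim ![a, b] ![c, d]

theorem mkV_eta (v : V) :
    mkV (v (Sum.inl 0)) (v (Sum.inl 1)) (v (Sum.inr 0)) (v (Sum.inr 1)) = v := by
  funext x
  rcases x with i | i <;> fin_cases i <;> rfl

/-- the code of a vector, a number below 256 -/
def code (v : V) : ℕ :=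
  (v (Sum.inl 0)).val.val + 4 * (v (Sum.inl 1)).val.val + 16 * (v (Sum.inr 0)).val.val
    + 64 * (v (Sum.inr 1)).val.val

/-- the `i`-th base-4 digit of `n` as a field element -/
def dg (n i : ℕ) : K4 := ⟨⟨n / 4 ^ i % 4, Nat.mod_lt _ (by norm_num)⟩⟩

/-- the vector with a given code -/
def dec (n : ℕ) : V := mkV (dg n 0) (dg n 1) (dg n 2) (dg n 3)

theorem code_lt (v : V) : code v < 256 := by
  unfold code
  have h0 := (v (Sum.inl 0)).val.isLt
  have h1 := (v (Sum.inl 1)).val.isLt
  have h2 := (v (Sum.inr 0)).val.isLt
  have h3 := (v (Sum.inr 1)).val.isLt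
  omega

theorem dec_code (v : V) : dec (code v) = v := by
  have h0 := (v (Sum.inl 0)).val.isLt
  have h1 := (v (Sum.inl 1)).val.isLt
  have h2 := (v (Sum.inr 0)).val.isLt
  have h3 := (v (Sum.inr 1)).val.isLt
  have e : ∀ (k : K4) (m : ℕ), m % 4 = k.val.val →
      (⟨⟨m % 4, Nat.mod_lt _ (by norm_num)⟩⟩ : K4) = k := by
    intro k m hm
    cases k with
    | mk kv =>
      congr 1
      apply Fin.ext
      exact hm
  conv_rhs => rw [← mkV_eta v]
  unfold dec dg code
  congr 1
  · apply e; norm_num; omega
  · apply e; norm_num; omega
  · apply e; norm_num; omega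
  · apply e; norm_num; omega

/-- packed table of the codes of the 85 points (entry 85 is the zero vector) -/
def ptTab : ℕ := 4972174373007016995347461364483235825540664109079918084639800901735223014108703232139848505789777740636458757682207610441587888251144238373528688067196108732908871020843772955004632966113010661482235433024

/-- packed table: code of a vector to the index of its point (the zero vector to 85) -/
def nrmTab : ℕ := 92662454135411871682910937103545098030620731267453968243689756485621557929594775188934191372142227985355135313159358382875733593283394581579884820010274512148701253871074344508821189554336989342154033288371116651402967968214966345622035567832616329280970754086345557412004527067966563704766855559804060696581120695769941644073121080899152507083533888325132050245794144654900469617175094473642620637475217009518844965211302807298463543671833451325603628370822151269280239156201023131978250794426999923448819179876957418217466335610880215765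

/-- the normalised vector spanning the `i`-th point -/
def pt (i : Fin 86) : V := dec (ptTab / 256 ^ i.val % 256)

/-- the index of the point spanned by a vector -/
def nrm (v : V) : Fin 86 := Fin.ofNat 86 (nrmTab / 128 ^ code v % 128)

theorem nrm_pt : ∀ i : Fin 86, nrm (pt i) = i := by decide

theorem nrm_smul_mkV : ∀ s a b c d : K4, s ≠ 0 → nrm (s • mkV a b c d) = nrm (mkV a b c d) := by
  decide

theorem pt_nrm_mkV : ∀ a b c d : K4, ∃ s : K4, s ≠ 0 ∧ pt (nrm (mkV a b c d)) = s • mkV a b c d := by
  decide

theorem nrm_smul (s : K4) (v : V) (hs : s ≠ 0) : nrm (s • v) = nrm v := by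
  rw [← mkV_eta v]
  exact nrm_smul_mkV s _ _ _ _ hs

theorem pt_nrm (v : V) : ∃ s : K4, s ≠ 0 ∧ pt (nrm v) = s • v := by
  rw [← mkV_eta v]
  exact pt_nrm_mkV _ _ _ _

end Cfsg.Agent.Lib.Helper91_Sp4Pts
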