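import Mathlib
import Cfsg.Agent.Lib.Helper91_Sp4Pts

/-!
# The permutation representation of `Sp(4,4)` on `Fin 86`

helper91.  `theta : Matrix.symplecticGroup (Fin 2) K4 →* Equiv.Perm (Fin 86)`, its values on
transvections, the conjugation formula for transvections, and injectivity.
-/

set_option autoImplicit false

namespace Cfsg.Agent.Lib.Helper91_Sp4Theta

open Cfsg.Agent.Lib.Helper91_K4 Cfsg.Agent.Lib.Helper91_Sp4Pts Matrix
  Cfsg.Agent.Lib.Helper13_Symp Cfsg.Agent.Lib.Helper13_SympTrans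

/-- the matrices -/
abbrev M4 : Type := Matrix (Fin 2 ⊕ Fin 2) (Fin 2 ⊕ Fin 2) K4

/-- the action of a matrix on the 86 "points" -/
def actM (A : M4) (i : Fin 86) : Fin 86 := nrm (A *ᵥ pt i)

theorem actM_one : actM 1 = id := by
  funext i
  simp only [actM, Matrix.one_mulVec, nrm_pt, id]

theorem actM_mul (A B : M4) : actM (A * B) = actM A ∘ actM B := by
  funext i
  simp only [actM, Function.comp]
  obtain ⟨s, hs, h⟩ := pt_nrm (B *ᵥ pt i)
  rw [h, Matrix.mulVec_smul, nrm_smul _ _ hs, Matrix.mulVec_mulVec]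

/-- the action as a monoid homomorphism into the endomorphisms of `Fin 86` -/
def thetaEnd : M4 →* Function.End (Fin 86) where
  toFun := actM
  map_one' := actM_one
  map_mul' := actM_mul

/-- the permutation representation of the symplectic group -/
def theta : Matrix.symplecticGroup (Fin 2) K4 →* Equiv.Perm (Fin 86) :=
  MonoidHom.toHomPerm (thetaEnd.comp (Matrix.symplecticGroup (Fin 2) K4).subtype)

theorem theta_apply (A : Matrix.symplecticGroup (Fin 2) K4) (i : Fin 86) :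
    theta A i = nrm ((A : M4) *ᵥ pt i) := rfl

/-- the symplectic form, written out -/
def sf (x w : V) : K4 :=
  x (Sum.inr 0) * w (Sum.inl 0) - x (Sum.inl 0) * w (Sum.inr 0)
    + (x (Sum.inr 1) * w (Sum.inl 1) - x (Sum.inl 1) * w (Sum.inr 1))

theorem sympForm_eq_sf (x w : V) : Cfsg.sympForm 2 K4 x w = sf x w := by
  rw [sympForm_eq, Fin.sum_univ_two]
  rfl

/-- the transvection map -/
def tv (u x : V) : V := x + sf x u • u

theorem transv_mulVec_tv (u x : V) :
    ((transv 2 u 1 : Matrix.symplecticGroup (Fin 2) K4) : M4) *ᵥ x = tv u x := by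
  rw [transv_mulVec, one_mul, sympForm_eq_sf]
  rfl

theorem theta_transv (u : V) (i : Fin 86) : theta (transv 2 u 1) i = nrm (tv u (pt i)) := by
  rw [theta_apply, transv_mulVec_tv]

/-- conjugating a transvection -/
theorem transv_conj (A : Matrix.symplecticGroup (Fin 2) K4) (w : V) (c : K4) :
    A * transv 2 w c * A⁻¹ = transv 2 ((A : M4) *ᵥ w) c := by
  rw [mul_inv_eq_iff_eq_mul]
  apply Subtype.ext
  apply Matrix.mulVec_injective
  funext x
  show ((A : M4) * (transv 2 w c : M4)) *ᵥ x = ((transv 2 ((A : M4) *ᵥ w) c : M4) * (A : M4)) *ᵥ x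
  rw [← Matrix.mulVec_mulVec, ← Matrix.mulVec_mulVec, transv_mulVec, transv_mulVec,
    sympForm_mulVec_mulVec_of_mem 2 A.2, Matrix.mulVec_add, Matrix.mulVec_smul]

theorem transv_zero (c : K4) : transv 2 (0 : V) c = 1 := by
  apply Subtype.ext
  show Cfsg.sympTransvection 2 (0 : V) c = 1
  unfold Cfsg.sympTransvection
  simp

/-- every scalar of `K4` is a square, so every transvection is one with `c = 1` -/
theorem transv_eq_one_coeff (w : V) (c : K4) : ∃ w' : V, transv 2 w c = transv 2 w' 1 := by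
  have hsq : ∀ c : K4, ∃ d : K4, d * d = c := by decide
  obtain ⟨d, hd⟩ := hsq c
  refine ⟨d • w, ?_⟩
  apply Subtype.ext
  apply Matrix.mulVec_injective
  funext x
  show (transv 2 w c : M4) *ᵥ x = (transv 2 (d • w) 1 : M4) *ᵥ x
  rw [transv_mulVec, transv_mulVec, sympForm_smul_right, smul_smul, one_mul, ← hd]
  congr 2
  ring

theorem scalar_of_fix (A : M4) (h1 : ∀ i, nrm (A *ᵥ pt i) = i) :
    ∀ v : V, ∃ s : K4, s ≠ 0 ∧ A *ᵥ v = s • v := by
  intro v
  obtain ⟨s, hs, hv⟩ := pt_nrm v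
  obtain ⟨s', hs', hw⟩ := pt_nrm (A *ᵥ pt (nrm v))
  rw [h1] at hw
  refine ⟨s'⁻¹, inv_ne_zero hs', ?_⟩
  have hw' : A *ᵥ pt (nrm v) = s'⁻¹ • pt (nrm v) := ((inv_smul_eq_iff₀ hs').mpr hw).symm
  have hv' : v = s⁻¹ • pt (nrm v) := ((inv_smul_eq_iff₀ hs).mpr hv).symm
  calc A *ᵥ v = A *ᵥ (s⁻¹ • pt (nrm v)) := by rw [← hv']
    _ = s⁻¹ • (s'⁻¹ • pt (nrm v)) := by rw [Matrix.mulVec_smul, hw']
    _ = s'⁻¹ • (s⁻¹ • pt (nrm v)) := smul_comm _ _ _
    _ = s'⁻¹ • v := by rw [← hv']

theorem eq_smul_one_of_scalar (A : M4) (h : ∀ v : V, ∃ s : K4, s ≠ 0 ∧ A *ᵥ v = s • v) :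
    ∃ c : K4, A = c • (1 : M4) := by
  choose c _ hc using h
  have hcol : ∀ i j, A i j = c (Pi.single j 1) * (if i = j then 1 else 0) := by
    intro i j
    have := congrFun (hc (Pi.single j 1)) i
    rw [Matrix.mulVec_single_one] at this
    simpa [Pi.single_apply] using this
  have heq : ∀ j k, j ≠ k → c (Pi.single j 1) = c (Pi.single k 1) := by
    intro j k hjk
    have h2 := hc (Pi.single j 1 + Pi.single k 1)
    rw [Matrix.mulVec_add, hc, hc] at h2
    have hj := congrFun h2 j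
    have hk := congrFun h2 k
    simp [hjk, Ne.symm hjk] at hj hk
    rw [hj, hk]
  refine ⟨c (Pi.single (Sum.inl 0) 1), ?_⟩
  ext i j
  rw [hcol, Matrix.smul_apply, Matrix.one_apply, smul_eq_mul]
  by_cases hj : j = Sum.inl 0
  · rw [hj]
  · rw [heq j (Sum.inl 0) hj]

theorem theta_injective : Function.Injective theta := by
  rw [injective_iff_map_eq_one]
  intro A hA
  have h1 : ∀ i, nrm ((A : M4) *ᵥ pt i) = i := fun i => by rw [← theta_apply, hA]; rfl
  obtain ⟨c, hc⟩ := eq_smul_one_of_scalar _ (scalar_of_fix _ h1)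
  have hmem := A.2
  rw [SymplecticGroup.mem_iff, hc] at hmem
  have h2 := congrFun (congrFun hmem (Sum.inl 0)) (Sum.inr 0)
  simp [Matrix.J, Matrix.fromBlocks_apply₁₂] at h2
  have hsq : ∀ c : K4, c * c = 1 → c = 1 := by decide
  have hc1 : c = 1 := hsq c h2
  apply Subtype.ext
  rw [hc, hc1, one_smul]
  rfl

end Cfsg.Agent.Lib.Helper91_Sp4Theta
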