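import Mathlib
import Cfsg.Agent.Lib.Helper91_Sp4Theta
import Cfsg.Agent.S0765

/-!
# Six transvections whose conjugates give all transvections of `Sp(4,4)`

helper91.  A subgroup of `Perm (Fin 86)` containing the images of six base transvections
under `theta` contains the whole image of `theta`: the set of vectors `w` with
`theta (T_w)` in the subgroup is closed under `(u, x) ↦ T_u x`, and a certificate shows that
the closure of the six base vectors is everything.
-/

set_option autoImplicit false

namespace Cfsg.Agent.Lib.Helper91_Sp4Closure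

open Cfsg.Agent.Lib.Helper91_K4 Cfsg.Agent.Lib.Helper91_Sp4Pts Cfsg.Agent.Lib.Helper91_Sp4Theta Matrix
  Cfsg.Agent.Lib.Helper13_Symp Cfsg.Agent.Lib.Helper13_SympTrans

/-- codes of the six base vectors -/
def baseCodes : List ℕ := [64, 17, 96, 51, 115, 183]

/-- the certificate: triples `(u, x, y)` of codes with `y = T_u x` -/
def cert : List (ℕ × ℕ × ℕ) := [(64, 183, 247), (17, 96, 66), (96, 17, 161), (96, 51, 83), (96, 115, 19), (96, 66, 146), (51, 66, 113), (51, 161, 176), (51, 19, 32), (51, 146, 131), (115, 183, 196), (115, 247, 132), (115, 66, 49), (115, 161, 48), (115, 146, 3), (115, 113, 2), (115, 176, 33), (115, 131, 18), (183, 19, 164), (183, 32, 151), (183, 49, 134), (183, 48, 233), (183, 3, 218), (183, 2, 181), (183, 33, 248), (183, 18, 203), (64, 164, 228), (64, 151, 215), (64, 134, 198), (64, 233, 105), (64, 218, 90), (64, 181, 245), (64, 248, 120), (64, 203, 75), (96, 113, 193), (96, 131, 227), (96, 49, 129), (96, 3, 99), (96, 2, 210), (96, 33, 145), (96, 18, 194), (96, 134, 54), (96, 218, 186), (96, 181, 101), (96, 248, 72), (96, 203, 27),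 (96, 198, 118), (96, 90, 58), (96, 245, 37), (96, 120, 200), (96, 75, 155), (51, 129, 163), (51, 99, 65), (51, 210, 195), (51, 194, 241), (51, 54, 20), (51, 186, 152), (51, 101, 116), (51, 27, 40), (51, 118, 84), (51, 58, 24), (51, 37, 52), (51, 155, 168), (115, 193, 35), (115, 227, 1), (115, 210, 67), (115, 194, 177), (115, 54, 167), (115, 186, 201), (115, 101, 135), (115, 72, 217), (115, 27, 249), (115, 118, 231), (115, 58, 73), (115, 37, 199), (115, 200, 89), (115, 155, 121), (115, 195, 82), (115, 241, 130), (115, 20, 133), (115, 152, 235), (115, 116, 150), (115, 40, 202), (115, 84, 197), (115, 24, 107), (115, 52, 214), (115, 168, 74), (183, 35, 77), (183, 1, 111), (183, 67, 45), (183, 177, 223), (183, 135, 94), (183, 249, 78), (183, 231, 62), (183, 73, 254), (183, 199, 169), (183, 89, 128), (183, 121, 23), (183, 82, 60), (183, 130, 236), (183, 150, 79), (183, 202, 125), (183, 197, 28), (183, 107, 220), (183, 214, 184), (183, 74, 36), (247, 35, 141), (247, 1, 175), (247, 67, 237), (247, 177, 31), (247, 135, 41), (247, 249, 87), (247, 199, 158), (247, 121,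 142), (247, 82, 252), (247, 130, 44), (247, 150, 56), (247, 202, 100), (247, 214, 143), (247, 74, 189), (66, 83, 208), (66, 19, 144), (66, 176, 242), (66, 32, 225), (66, 48, 114), (66, 33, 224), (66, 164, 39), (66, 151, 86), (66, 233, 171), (66, 248, 57), (66, 228, 103), (66, 215, 22), (66, 105, 43), (66, 120, 185), (66, 227, 34), (66, 99, 162), (66, 210, 81), (66, 186, 123), (66, 101, 230), (66, 58, 251), (66, 37, 166), (66, 163, 98), (66, 241, 179), (66, 20, 213), (66, 40, 106), (66, 84, 149), (66, 168, 234), (66, 35, 226), (66, 177, 243), (66, 82, 209), (66, 77, 140), (66, 223, 157), (66, 60, 191), (66, 141, 76), (66, 31, 93), (66, 252, 127), (161, 163, 240), (161, 241, 80), (161, 20, 71), (161, 40, 137), (161, 84, 7), (161, 168, 9), (161, 35, 112), (161, 177, 16), (161, 167, 6), (161, 201, 104), (161, 135, 212), (161, 249, 11), (161, 231, 70), (161, 73, 232), (161, 199, 148), (161, 121, 139), (161, 82, 160), (161, 77, 30), (161, 223, 126), (161, 94, 13), (161, 78, 188), (161, 62, 159), (161, 254, 95), (161, 169, 250), (161, 23, 229), (161, 60, 206), (161,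 141, 222), (161, 31, 190), (161, 41, 122), (161, 87, 165), (161, 158, 205), (161, 142, 124), (161, 252, 14), (83, 167, 85), (83, 201, 59), (83, 135, 38), (83, 249, 170), (83, 231, 21), (83, 73, 187), (83, 199, 102), (83, 121, 42), (83, 94, 255), (83, 78, 29), (83, 62, 204), (83, 254, 12), (83, 169, 8), (83, 23, 68), (83, 41, 136), (83, 87, 4), (83, 158, 63), (83, 142, 221), (83, 6, 244), (83, 104, 154), (83, 212, 117), (83, 11, 88), (83, 70, 180), (83, 232, 26), (83, 148, 53), (83, 139, 216), (83, 13, 172), (83, 188, 239), (83, 159, 109), (83, 95, 173), (83, 250, 91), (83, 229, 182), (83, 122, 219), (83, 165, 246), (83, 205, 108), (83, 124, 47), (19, 28, 46), (19, 220, 238), (19, 184, 153), (19, 36, 55), (19, 56, 25), (19, 100, 119), (19, 86, 69), (19, 171, 138), (19, 22, 5), (19, 43, 10), (146, 65, 211), (146, 195, 178), (146, 1, 147), (146, 67, 50), (146, 130, 97), (146, 111, 253), (146, 45, 92), (146, 236, 15), (146, 175, 61), (146, 237, 156), (146, 44, 207), (32, 126, 110), (32, 190, 174), (196, 76, 192)]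

/-- run the certificate, extending the list of known codes -/
def runCert : List (ℕ × ℕ × ℕ) → List ℕ → Option (List ℕ)
  | [], k => some k
  | (u, x, y) :: r, k =>
    if u ∈ k ∧ x ∈ k ∧ code (tv (dec u) (dec x)) = y then runCert r (y :: k) else none

theorem runCert_sound (P : V → Prop) (hP : ∀ u x, P u → P x → P (tv u x)) :
    ∀ (c : List (ℕ × ℕ × ℕ)) (k K : List ℕ), (∀ n ∈ k, P (dec n)) → runCert c k = some K →
      ∀ n ∈ K, P (dec n) := by
  intro c
  induction c with
  | nil =>
    intro k K hk h
    simp only [runCert, Option.some.injEq] at h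
    subst h
    exact hk
  | cons t r ih =>
    obtain ⟨u, x, y⟩ := t
    intro k K hk h
    simp only [runCert] at h
    split_ifs at h with hc
    obtain ⟨hu, hx, hy⟩ := hc
    refine ih (y :: k) K ?_ h
    intro n hn
    rcases List.mem_cons.mp hn with rfl | hn
    · rw [← hy, dec_code]
      exact hP _ _ (hk u hu) (hk x hx)
    · exact hk n hn

/-- the final check: every nonzero code is reached -/
def finalOK : Bool :=
  match runCert cert baseCodes with
  | some K => (List.range 256).all (fun n => n == 0 || K.contains n)
  | none => false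

theorem finalOK_true : finalOK = true := by decide +kernel

theorem dec_zero : dec 0 = (0 : V) := by
  funext x
  rcases x with i | i <;> fin_cases i <;> rfl

theorem all_of_base (P : V → Prop) (h0 : P 0) (hb : ∀ n ∈ baseCodes, P (dec n))
    (hP : ∀ u x, P u → P x → P (tv u x)) : ∀ v : V, P v := by
  intro v
  have hf := finalOK_true
  unfold finalOK at hf
  split at hf
  · next K hK =>
    have hall := runCert_sound P hP cert baseCodes K hb hK
    rw [List.all_eq_true] at hf
    have h1 := hf (code v) (List.mem_range.mpr (code_lt v))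
    rw [Bool.or_eq_true] at h1
    rcases h1 with h1 | h1
    · have : code v = 0 := by simpa using h1
      rw [← dec_code v, this, dec_zero]
      exact h0
    · rw [← dec_code v]
      exact hall _ (by simpa using h1)
  · exact absurd hf (by simp)

/-- a subgroup containing the six base transvections contains the image of `theta` -/
theorem theta_range_le (R : Subgroup (Equiv.Perm (Fin 86)))
    (hb : ∀ n ∈ baseCodes, theta (transv 2 (dec n) 1) ∈ R) : theta.range ≤ R := by
  have hall : ∀ v : V, theta (transv 2 v 1) ∈ R := by
    apply all_of_base (fun v => theta (transv 2 v 1) ∈ R)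
    · show theta (transv 2 (0 : V) 1) ∈ R
      rw [transv_zero, map_one]
      exact R.one_mem
    · exact hb
    · intro u x hu hx
      show theta (transv 2 (tv u x) 1) ∈ R
      rw [← transv_mulVec_tv, ← transv_conj, map_mul, map_mul, map_inv]
      exact R.mul_mem (R.mul_mem hu hx) (R.inv_mem hu)
  rw [MonoidHom.range_eq_map, ← Cfsg.Agent.S0765.result (F := K4) 2, MonoidHom.map_closure,
    Subgroup.closure_le]
  rintro _ ⟨A, ⟨w, c, hA⟩, rfl⟩
  have hA' : A = transv 2 w c := Subtype.ext hA
  obtain ⟨w', hw'⟩ := transv_eq_one_coeff w c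
  rw [hA', hw']
  exact hall w'

end Cfsg.Agent.Lib.Helper91_Sp4Closure
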