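import Mathlib
import Cfsg.Agent.Lib.Helper91_HeBlocks
import Cfsg.Agent.Lib.Helper91_Sp4Closure
import Cfsg.Agent.S0245
import Cfsg.Agent.S0269

/-!
# The stabiliser in the Held group on 2058 points has an index-two subgroup `Sp(4,4)`

helper91.  Core statement: any group `G` of order `1958400` mapping into `Perm (Fin 2058)`
with image in the closure of the seven generator permutations and hitting each of them has a
normal subgroup of index two isomorphic to `Matrix.symplecticGroup (Fin 2) K4`.
-/

set_option autoImplicit false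
set_option linter.constructorNameAsVariable false

namespace Cfsg.Agent.Lib.Helper91_HeSp44

open Cfsg.Spor Cfsg.Agent.Lib.Helper28_CosetPerm Cfsg.Agent.Lib.Helper28_S1683
  Cfsg.Agent.Lib.Helper91_BlockAction Cfsg.Agent.Lib.Helper91_HeBlocks
  Cfsg.Agent.Lib.Helper91_K4 Cfsg.Agent.Lib.Helper91_Sp4Pts Cfsg.Agent.Lib.Helper91_Sp4Theta
  Cfsg.Agent.Lib.Helper91_Sp4Closure Cfsg.Agent.Lib.Helper13_SympTrans Equiv

/-- the permutation of `Fin 2058` of a word -/
noncomputable def wp (u : List (He.Gen × Bool)) : Perm (Fin 2058) :=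
  FreeGroup.lift (perm hv) (FreeGroup.mk u)

theorem wp_mem (u : List (He.Gen × Bool)) (p : Perm (Fin 86)) (t : ℕ) (hp : ∀ j, p j = tf t j)
    (h : chkAll u t = true) : wp u ∈ PS blk :=
  ⟨p, fun x => by rw [hp]; exact blk_lift u t h x⟩

theorem rho_wp (u : List (He.Gen × Bool)) (p : Perm (Fin 86)) (t : ℕ) (hp : ∀ j, p j = tf t j)
    (h : chkAll u t = true) (hm : wp u ∈ PS blk) : rho blk_surj ⟨wp u, hm⟩ = p :=
  rho_eq blk_surj _ p (fun x => by rw [hp]; exact blk_lift u t h x)

/-! ### the six base identities -/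

theorem base0 : theta (transv 2 (dec 64) 1) = pA := by
  apply Equiv.ext; intro i; rw [theta_transv]; revert i; decide

theorem base1 : theta (transv 2 (dec 17) 1) = pC := by
  apply Equiv.ext; intro i; rw [theta_transv]; revert i; decide

theorem base2 : theta (transv 2 (dec 96) 1) = pD * pA := by
  apply Equiv.ext; intro i; rw [theta_transv]; revert i; decide

theorem base3 : theta (transv 2 (dec 51) 1) = pE * pA := by
  apply Equiv.ext; intro i; rw [theta_transv]; revert i; decide

theorem base4 : theta (transv 2 (dec 115) 1) = pF * pA := by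
  apply Equiv.ext; intro i; rw [theta_transv]; revert i; decide

theorem base5 : theta (transv 2 (dec 183) 1) = pR⁻¹ * pA := by
  apply Equiv.ext; intro i; rw [theta_transv]; revert i; decide

/-! ### the sign of `pT` -/

theorem sign_prod_swaps (l : List (Fin 86 × Fin 86)) (h : ∀ p ∈ l, p.1 ≠ p.2) :
    Perm.sign (l.map (fun p => swap p.1 p.2)).prod = (-1) ^ l.length := by
  induction l with
  | nil => simp
  | cons p r ih =>
    rw [List.map_cons, List.prod_cons, map_mul, Perm.sign_swap (h p List.mem_cons_self),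
      ih (fun q hq => h q (List.mem_cons_of_mem _ hq)), List.length_cons, pow_succ, mul_comm]

/-- the 35 transpositions of `pT` -/
def swapsT : List (Fin 86 × Fin 86) := [(2, 3), (5, 6), (9, 18), (10, 17), (11, 19), (12, 20), (13, 14), (21, 33), (22, 36), (23, 35), (24, 34), (26, 28), (30, 32), (37, 84), (38, 81), (39, 82), (40, 83), (41, 76), (42, 73), (43, 74), (44, 75), (45, 80), (46, 77), (47, 78), (48, 79), (49, 72), (50, 69), (51, 70), (52, 71), (53, 67), (54, 66), (55, 65), (56, 68), (57, 59), (61, 63)]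

theorem pT_eq : pT = (swapsT.map (fun p => swap p.1 p.2)).prod := by
  apply Equiv.ext
  decide +kernel

set_option maxRecDepth 100000 in
theorem swapsT_ne : ∀ p ∈ swapsT, p.1 ≠ p.2 := by decide

theorem sign_pT : Perm.sign pT = -1 := by
  rw [pT_eq, sign_prod_swaps _ swapsT_ne]
  decide

/-! ### the core theorem -/

/-- the seven generators of the stabiliser, as in the statements -/
abbrev S7 : Set (FreeGroup He.Gen) :=
  {He.a, He.c, He.d, He.e, He.f, (He.a * He.b) ^ 2, (He.b * He.c * He.d * He.e) ^ 7}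

theorem card_sp : Nat.card (Matrix.symplecticGroup (Fin 2) K4) = 979200 := by
  rw [Cfsg.Agent.S0245.result (F := K4) (q := 4) K4.card 2]
  norm_num [Finset.prod_range_succ]

theorem perfect_sp : commutator (Matrix.symplecticGroup (Fin 2) K4) = ⊤ :=
  Cfsg.Agent.S0269.result (F := K4) 2 (Or.inr (Or.inl ⟨rfl, by rw [K4.card]; norm_num⟩))

theorem core {G : Type*} [Group G] (ι : G →* Perm (Fin 2058))
    (h1 : ∀ g, ι g ∈ Subgroup.closure (⇑(FreeGroup.lift (perm hv)) '' S7))
    (h2 : ∀ s ∈ S7, ∃ g, ι g = FreeGroup.lift (perm hv) s)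
    (hcard : Nat.card G = 1958400) :
    ∃ N : Subgroup G, N.Normal ∧ N.index = 2 ∧
      Nonempty (N ≃* Matrix.symplecticGroup (Fin 2) K4) := by
  have : Finite G := Nat.finite_of_card_ne_zero (by rw [hcard]; norm_num)
  -- the seven generators as words
  have eA : (He.a : FreeGroup He.Gen) = FreeGroup.mk uA := by decide
  have eC : (He.c : FreeGroup He.Gen) = FreeGroup.mk uC := by decide
  have eD : (He.d : FreeGroup He.Gen) = FreeGroup.mk uD := by decide
  have eE : (He.e : FreeGroup He.Gen) = FreeGroup.mk uE := by decide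
  have eF : (He.f : FreeGroup He.Gen) = FreeGroup.mk uF := by decide
  have eT : ((He.a * He.b) ^ 2 : FreeGroup He.Gen) = FreeGroup.mk uT := by decide
  have eR : ((He.b * He.c * He.d * He.e) ^ 7 : FreeGroup He.Gen) = FreeGroup.mk uR := by decide
  have mA := wp_mem uA pA tA (fun _ => rfl) chkA
  have mC := wp_mem uC pC tC (fun _ => rfl) chkC
  have mD := wp_mem uD pD tD (fun _ => rfl) chkD
  have mE := wp_mem uE pE tE (fun _ => rfl) chkE
  have mF := wp_mem uF pF tF (fun _ => rfl) chkF
  have mT := wp_mem uT pT tT (fun _ => rfl) chkT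
  have mR := wp_mem uR pR tR (fun _ => rfl) chkR
  have hK : Subgroup.closure (⇑(FreeGroup.lift (perm hv)) '' S7) ≤ PS blk := by
    rw [Subgroup.closure_le]
    rintro _ ⟨s, hs, rfl⟩
    simp only [Set.mem_insert_iff, Set.mem_singleton_iff] at hs
    rcases hs with rfl | rfl | rfl | rfl | rfl | rfl | rfl
    · rw [eA]; exact mA
    · rw [eC]; exact mC
    · rw [eD]; exact mD
    · rw [eE]; exact mE
    · rw [eF]; exact mF
    · rw [eT]; exact mT
    · rw [eR]; exact mR
  let ι' : G →* PS blk := ι.codRestrict (PS blk) (fun g => hK (h1 g))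
  let ρ : G →* Perm (Fin 86) := (rho blk_surj).comp ι'
  -- values of `ρ` at the generators
  have hval : ∀ (s : FreeGroup He.Gen) (u : List (He.Gen × Bool)) (p : Perm (Fin 86)) (t : ℕ),
      s ∈ S7 → s = FreeGroup.mk u → (∀ j, p j = tf t j) → chkAll u t = true → p ∈ ρ.range := by
    intro s u p t hs hsu hp hc
    obtain ⟨g, hg⟩ := h2 s hs
    refine ⟨g, ?_⟩
    have hm := wp_mem u p t hp hc
    have : ι' g = ⟨wp u, hm⟩ := Subtype.ext (by rw [MonoidHom.codRestrict_apply]; simp only; rw [hg, hsu]; rfl)
    show rho blk_surj (ι' g) = p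
    rw [this]
    exact rho_wp u p t hp hc hm
  have rA : pA ∈ ρ.range := hval He.a uA pA tA (by simp) eA (fun _ => rfl) chkA
  have rC : pC ∈ ρ.range := hval He.c uC pC tC (by simp) eC (fun _ => rfl) chkC
  have rD : pD ∈ ρ.range := hval He.d uD pD tD (by simp) eD (fun _ => rfl) chkD
  have rE : pE ∈ ρ.range := hval He.e uE pE tE (by simp) eE (fun _ => rfl) chkE
  have rF : pF ∈ ρ.range := hval He.f uF pF tF (by simp) eF (fun _ => rfl) chkF
  have rT : pT ∈ ρ.range := hval _ uT pT tT (by simp) eT (fun _ => rfl) chkT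
  have rR : pR ∈ ρ.range := hval _ uR pR tR (by simp) eR (fun _ => rfl) chkR
  have hle : theta.range ≤ ρ.range := by
    apply theta_range_le
    intro n hn
    simp only [baseCodes, List.mem_cons, List.not_mem_nil, or_false] at hn
    rcases hn with rfl | rfl | rfl | rfl | rfl | rfl
    · rw [base0]; exact rA
    · rw [base1]; exact rC
    · rw [base2]; exact ρ.range.mul_mem rD rA
    · rw [base3]; exact ρ.range.mul_mem rE rA
    · rw [base4]; exact ρ.range.mul_mem rF rA
    · rw [base5]; exact ρ.range.mul_mem (ρ.range.inv_mem rR) rA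
  obtain ⟨g₀, hg₀⟩ := rT
  exact index_two_of_common_action ρ theta theta_injective hle perfect_sp g₀
    (by rw [hg₀]; exact sign_pT) (by rw [hcard, card_sp])

end Cfsg.Agent.Lib.Helper91_HeSp44
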