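import Mathlib
import Cfsg.Agent.Lib.Helper91_HeSp44
import Cfsg.Agent.S1683
import Cfsg.Prelude.Def_Sporadic

/-!
# The two statements on `S4(4):2 < He`, from `IsHe He`

helper91.  Given that the presented Held group is simple of order `4030387200` (S1695), the
subgroup generated by `a, c, d, e, f, (ab)^2, (bcde)^7` and the stabiliser of a point in the
permutation group on 2058 points both have a normal subgroup of index two isomorphic to
`Matrix.symplecticGroup (Fin 2) K4`.
-/

set_option autoImplicit false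
set_option linter.constructorNameAsVariable false

namespace Cfsg.Agent.Lib.Helper91_HeFinal

open Cfsg.Spor Cfsg.Agent.Lib.Helper28_CosetPerm Cfsg.Agent.Lib.Helper28_S1683
  Cfsg.Agent.Lib.Helper91_HeBlocks Cfsg.Agent.Lib.Helper91_HeSp44
  Cfsg.Agent.Lib.Helper91_K4 Equiv

/-- the relators of the presentation -/
abbrev rels : Set (FreeGroup He.Gen) := coxRelators He.edges ∪ {r | r ∈ He.extra}

theorem hrel : ∀ r ∈ rels, FreeGroup.lift (perm hv) r = 1 := verified.hrel

theorem hsub : ∀ s ∈ S7, FreeGroup.lift (perm hv) s 0 = 0 := verified.hsub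

theorem htrans : ∀ x : Fin 2058, ∃ g : FreeGroup He.Gen, FreeGroup.lift (perm hv) g 0 = x :=
  verified.htrans

/-- the permutation representation on 2058 points -/
noncomputable def psiHe : He →* Perm (Fin 2058) := psi (perm hv) hrel

theorem psiHe_mk (w : FreeGroup He.Gen) :
    psiHe (PresentedGroup.mk rels w) = FreeGroup.lift (perm hv) w := rfl

/-- the subgroup of the statements -/
abbrev HS : Subgroup He := (Subgroup.closure S7).map (PresentedGroup.mk rels)

theorem index_HS : HS.index = 2058 := Cfsg.Agent.S1683.result.1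

theorem psiHe_mem_closure (y : He) (hy : y ∈ HS) :
    psiHe y ∈ Subgroup.closure (⇑(FreeGroup.lift (perm hv)) '' S7) := by
  obtain ⟨x, hx, rfl⟩ := hy
  rw [psiHe_mk, ← MonoidHom.map_closure]
  exact Subgroup.mem_map_of_mem _ hx

theorem s1682 (hHe : Cfsg.IsHe He) :
    ∃ (N : Subgroup HS) (K : Type) (_ : Field K) (_ : Fintype K), N.Normal ∧ N.index = 2 ∧
      Fintype.card K = 4 ∧ Nonempty (N ≃* Matrix.symplecticGroup (Fin 2) K) := by
  have hcard : Nat.card HS = 1958400 := by
    have h := HS.card_mul_index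
    rw [index_HS, hHe.2] at h
    exact Nat.eq_of_mul_eq_mul_right (by norm_num : 0 < 2058) (h.trans (by norm_num))
  obtain ⟨N, hN, hi, hiso⟩ := core (psiHe.comp HS.subtype)
    (fun g => psiHe_mem_closure g.1 g.2)
    (fun s hs => ⟨⟨PresentedGroup.mk rels s, Subgroup.mem_map_of_mem _ (Subgroup.subset_closure hs)⟩, rfl⟩)
    hcard
  exact ⟨N, K4, inferInstance, inferInstance, hN, hi, K4.card, hiso⟩

theorem psiHe_injective (hHe : Cfsg.IsHe He) : Function.Injective psiHe := by
  have := hHe.1
  rw [← MonoidHom.ker_eq_bot_iff]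
  rcases Subgroup.Normal.eq_bot_or_eq_top (inferInstance : psiHe.ker.Normal) with h | h
  · exact h
  · exfalso
    obtain ⟨g, hg⟩ := htrans 1
    have h1 : PresentedGroup.mk rels g ∈ psiHe.ker := h ▸ Subgroup.mem_top _
    rw [MonoidHom.mem_ker, psiHe_mk] at h1
    rw [h1] at hg
    exact absurd hg (by decide)

theorem isHe_range (hHe : Cfsg.IsHe He) : Cfsg.IsHe psiHe.range := by
  have := hHe.1
  have hinj := psiHe_injective hHe
  have e : He ≃* psiHe.range := MonoidHom.ofInjective hinj
  have hc : Nat.card psiHe.range = 4030387200 := by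
    rw [← hHe.2]
    exact Nat.card_congr e.symm.toEquiv
  have hnt : Nontrivial psiHe.range := by
    have h1 : 1 < Nat.card psiHe.range := by rw [hc]; norm_num
    have : Finite psiHe.range := Nat.finite_of_card_ne_zero (by rw [hc]; norm_num)
    exact Finite.one_lt_card_iff_nontrivial.mp h1
  exact ⟨IsSimpleGroup.isSimpleGroup_of_surjective e.toMonoidHom e.surjective, hc⟩

theorem pretransitive_range : MulAction.IsPretransitive psiHe.range (Fin 2058) := by
  refine ⟨fun x y => ?_⟩
  obtain ⟨gx, hx⟩ := htrans x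
  obtain ⟨gy, hy⟩ := htrans y
  refine ⟨⟨psiHe (PresentedGroup.mk rels (gy * gx⁻¹)), ⟨_, rfl⟩⟩, ?_⟩
  show psiHe (PresentedGroup.mk rels (gy * gx⁻¹)) x = y
  rw [psiHe_mk, map_mul, map_inv, Perm.mul_apply, ← hx, Perm.inv_def, Equiv.symm_apply_apply, hy]

theorem mem_HS_of_fix (y : He) (h : psiHe y 0 = 0) : y ∈ HS := by
  have hidx := index_HS
  have heq := eq_stabilizer (perm hv) hrel S7 hsub htrans (by rw [hidx]; norm_num) (le_of_eq hidx)
  show y ∈ (Subgroup.closure S7).map (PresentedGroup.mk rels)
  rw [heq]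
  let _ := act (perm hv) hrel
  rw [MulAction.mem_stabilizer_iff]
  exact h

theorem s0462 (hHe : Cfsg.IsHe He) :
    ∃ H : Subgroup (Equiv.Perm (Fin 2058)), Cfsg.IsHe H ∧ MulAction.IsPretransitive H (Fin 2058) ∧
      ∃ (F : Type) (_ : Field F) (_ : Fintype F), Fintype.card F = 4 ∧
        ∃ N : Subgroup (MulAction.stabilizer H (0 : Fin 2058)), N.index = 2 ∧
          Nonempty (N ≃* Matrix.symplecticGroup (Fin 2) F) := by
  refine ⟨psiHe.range, isHe_range hHe, pretransitive_range, K4, inferInstance, inferInstance,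
    K4.card, ?_⟩
  have := pretransitive_range
  have hHc := (isHe_range hHe).2
  have hidx : (MulAction.stabilizer psiHe.range (0 : Fin 2058)).index = 2058 := by
    rw [MulAction.index_stabilizer_of_transitive, Nat.card_eq_fintype_card, Fintype.card_fin]
  have hcard : Nat.card (MulAction.stabilizer psiHe.range (0 : Fin 2058)) = 1958400 := by
    have h := (MulAction.stabilizer psiHe.range (0 : Fin 2058)).card_mul_index
    rw [hidx, hHc] at h
    exact Nat.eq_of_mul_eq_mul_right (by norm_num : 0 < 2058) (h.trans (by norm_num))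
  obtain ⟨N, _, hi, hiso⟩ := core
    (psiHe.range.subtype.comp (MulAction.stabilizer psiHe.range (0 : Fin 2058)).subtype)
    (by
      rintro ⟨⟨σ, y, rfl⟩, hfix⟩
      have hfix' : psiHe y 0 = 0 := hfix
      exact psiHe_mem_closure y (mem_HS_of_fix y hfix'))
    (fun s hs => ⟨⟨⟨psiHe (PresentedGroup.mk rels s), ⟨_, rfl⟩⟩, hsub s hs⟩, rfl⟩)
    hcard
  exact ⟨N, hi, hiso⟩

end Cfsg.Agent.Lib.Helper91_HeFinal
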