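import Mathlib

/-!
# Helper91_IsoSpec

A finite solvable group whose set of element orders is `{1, 2, 3, 4, 5, 6, 9, 12}` (the set of
element orders of `PSp(4,3)`), following the idea of Zavarnitsine's group of order `3^24 * 20`.

Over a field `K` with 81 elements, `AG K` is the group `1 + J` of a graded nilpotent associative
algebra `J = K² ⊕ K³ ⊕ K` (`J⁴ = 0`), written in coordinates `(x, y; p, q, r; u)`.  Its cube map is
`a ^ 3 = (0, …, 0, kap x y)` with `kap x y = x¹² y²⁷ - x³⁶ y³`, which vanishes on the fixed points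
of every involution of the Frobenius group `F20` (acting through a fifth root of unity and the
Frobenius map), while `F20`'s elements of order five act without fixed points.  The semidirect
product `HG D = AG K ⋊ F20` then has exactly the element orders `1, 2, 3, 4, 5, 6, 9, 12`.

Main result: `exists_solvable_spectrum`.
-/

set_option autoImplicit false
set_option linter.unusedSimpArgs false
set_option linter.unusedSectionVars false
set_option linter.unusedVariables false

namespace Cfsg.Agent.Lib.Helper91_IsoSpec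

/-- Carrier of the algebra group `1 + J`, `J = K² ⊕ K³ ⊕ K`. -/
@[ext] structure AG (K : Type) where
  x : K
  y : K
  p : K
  q : K
  r : K
  u : K

section grp

variable {K : Type} [Field K] [CharP K 3]

theorem expChar3 : ExpChar K 3 := ExpChar.prime (by norm_num)

attribute [local instance] expChar3

/-- Frobenius. -/
noncomputable abbrev Fr : K →+* K := frobenius K 3

theorem Fr_def (t : K) : Fr t = t ^ 3 := rfl

noncomputable instance : Mul (AG K) :=
  ⟨fun a b => ⟨a.x + b.x, a.y + b.y,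
    a.p + b.p + Fr a.x * Fr (Fr b.x),
    a.q + b.q + Fr a.y * Fr (Fr b.x),
    a.r + b.r + Fr (Fr a.x) * Fr (Fr (Fr b.y)),
    a.u + b.u + (Fr a.x * b.r - Fr a.y * Fr b.p)
      + (a.p * Fr (Fr (Fr b.y)) - a.q * Fr (Fr (Fr b.x)))⟩⟩

instance : One (AG K) := ⟨⟨0, 0, 0, 0, 0, 0⟩⟩

noncomputable instance : Inv (AG K) :=
  ⟨fun a => ⟨-a.x, -a.y,
    -a.p + Fr a.x * Fr (Fr a.x),
    -a.q + Fr a.y * Fr (Fr a.x),
    -a.r + Fr (Fr a.x) * Fr (Fr (Fr a.y)),
    -a.u + Fr a.x * a.r - Fr a.y * Fr a.p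
      - (-a.p + Fr a.x * Fr (Fr a.x)) * Fr (Fr (Fr a.y))
      + (-a.q + Fr a.y * Fr (Fr a.x)) * Fr (Fr (Fr a.x))⟩⟩

theorem mul_def (a b : AG K) : a * b = ⟨a.x + b.x, a.y + b.y,
    a.p + b.p + Fr a.x * Fr (Fr b.x),
    a.q + b.q + Fr a.y * Fr (Fr b.x),
    a.r + b.r + Fr (Fr a.x) * Fr (Fr (Fr b.y)),
    a.u + b.u + (Fr a.x * b.r - Fr a.y * Fr b.p)
      + (a.p * Fr (Fr (Fr b.y)) - a.q * Fr (Fr (Fr b.x)))⟩ := rfl

theorem one_def : (1 : AG K) = ⟨0, 0, 0, 0, 0, 0⟩ := rfl

theorem inv_def (a : AG K) : a⁻¹ = ⟨-a.x, -a.y,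
    -a.p + Fr a.x * Fr (Fr a.x),
    -a.q + Fr a.y * Fr (Fr a.x),
    -a.r + Fr (Fr a.x) * Fr (Fr (Fr a.y)),
    -a.u + Fr a.x * a.r - Fr a.y * Fr a.p
      - (-a.p + Fr a.x * Fr (Fr a.x)) * Fr (Fr (Fr a.y))
      + (-a.q + Fr a.y * Fr (Fr a.x)) * Fr (Fr (Fr a.x))⟩ := rfl

noncomputable instance : Group (AG K) where
  mul_assoc a b c := by
    simp only [mul_def]
    ext <;> simp only [map_add, map_mul, map_sub] <;> ring
  one_mul a := by
    simp only [mul_def, one_def]
    ext <;> simp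
  mul_one a := by
    simp only [mul_def, one_def]
    ext <;> simp
  inv_mul_cancel a := by
    simp only [mul_def, one_def, inv_def]
    ext <;> simp only [map_add, map_mul, map_sub, map_neg] <;> ring


theorem three_eq_zero : (3 : K) = 0 := by
  have := CharP.cast_eq_zero K 3
  exact_mod_cast this

/-- The cubic map. -/
noncomputable def kap (X Y : K) : K :=
  Fr X * Fr (Fr X) * Fr (Fr (Fr Y)) - Fr Y * Fr (Fr X) * Fr (Fr (Fr X))

theorem pow_three_eq (a : AG K) : a ^ 3 = ⟨0, 0, 0, 0, 0, kap a.x a.y⟩ := by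
  have h3 : (3 : K) = 0 := three_eq_zero
  rw [pow_succ, pow_succ, pow_one]
  simp only [mul_def, kap]
  ext <;> simp only [map_add, map_mul, map_sub]
  · linear_combination a.x * h3
  · linear_combination a.y * h3
  · linear_combination (a.p + Fr a.x * Fr (Fr a.x)) * h3
  · linear_combination (a.q + Fr a.y * Fr (Fr a.x)) * h3
  · linear_combination (a.r + Fr (Fr a.x) * Fr (Fr (Fr a.y))) * h3
  · linear_combination (a.u + Fr a.x * a.r - Fr a.y * Fr a.p + a.p * Fr (Fr (Fr a.y))
      - a.q * Fr (Fr (Fr a.x))) * h3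

theorem kap_zero : kap (0 : K) 0 = 0 := by simp [kap]

theorem pow_nine_eq (a : AG K) : a ^ 9 = 1 := by
  rw [show 9 = 3 * 3 by norm_num, pow_mul, pow_three_eq, pow_three_eq]
  simp only [kap_zero]
  rfl


/-! ### Automorphisms -/

/-- The grading automorphism attached to a unit `e`. -/
noncomputable def scal (e : Kˣ) : AG K ≃* AG K where
  toFun a := ⟨e * a.x, e * a.y, e ^ 12 * a.p, e ^ 12 * a.q, e ^ 36 * a.r, e ^ 39 * a.u⟩
  invFun a := ⟨(e⁻¹ : Kˣ) * a.x, (e⁻¹ : Kˣ) * a.y, (e⁻¹ : Kˣ) ^ 12 * a.p, (e⁻¹ : Kˣ) ^ 12 * a.q,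
    (e⁻¹ : Kˣ) ^ 36 * a.r, (e⁻¹ : Kˣ) ^ 39 * a.u⟩
  left_inv a := by
    ext <;> simp only [← mul_assoc, ← mul_pow, Units.inv_mul, one_pow, one_mul]
  right_inv a := by
    ext <;> simp only [← mul_assoc, ← mul_pow, Units.mul_inv, one_pow, one_mul]
  map_mul' a b := by
    simp only [mul_def]
    ext <;> simp only [map_add, map_mul, map_sub, map_pow, Fr_def] <;> ring

theorem scal_apply (e : Kˣ) (a : AG K) :
    scal e a = ⟨e * a.x, e * a.y, e ^ 12 * a.p, e ^ 12 * a.q, e ^ 36 * a.r, e ^ 39 * a.u⟩ := rfl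

/-- `e ↦ scal e` as a homomorphism. -/
noncomputable def scalHom : Kˣ →* MulAut (AG K) where
  toFun := scal
  map_one' := by
    ext a <;> simp [scal_apply]
  map_mul' e f := by
    ext a <;> simp only [MulAut.mul_apply, scal_apply, Units.val_mul] <;> ring

theorem scalHom_apply (e : Kˣ) (a : AG K) :
    scalHom e a = ⟨e * a.x, e * a.y, e ^ 12 * a.p, e ^ 12 * a.q, e ^ 36 * a.r, e ^ 39 * a.u⟩ := rfl

end grp

section fin

variable {K : Type} [Field K] [CharP K 3]

/-- The Frobenius automorphism of `AG K` (needs `x ^ 81 = x`). -/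
noncomputable def frob (h81 : ∀ t : K, t ^ 81 = t) : AG K ≃* AG K where
  toFun a := ⟨Fr a.x, Fr a.y, Fr a.p, Fr a.q, Fr a.r, Fr a.u⟩
  invFun a := ⟨Fr (Fr (Fr a.x)), Fr (Fr (Fr a.y)), Fr (Fr (Fr a.p)), Fr (Fr (Fr a.q)),
    Fr (Fr (Fr a.r)), Fr (Fr (Fr a.u))⟩
  left_inv a := by
    have h : ∀ t : K, Fr (Fr (Fr (Fr t))) = t := fun t => by
      simp only [Fr_def]; rw [← pow_mul, ← pow_mul, ← pow_mul]; exact h81 t
    ext <;> simp only [h]
  right_inv a := by
    have h : ∀ t : K, Fr (Fr (Fr (Fr t))) = t := fun t => by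
      simp only [Fr_def]; rw [← pow_mul, ← pow_mul, ← pow_mul]; exact h81 t
    ext <;> simp only [h]
  map_mul' a b := by
    simp only [mul_def]
    ext <;> simp only [map_add, map_mul, map_sub]


theorem frob_apply (h81 : ∀ t : K, t ^ 81 = t) (a : AG K) :
    frob h81 a = ⟨Fr a.x, Fr a.y, Fr a.p, Fr a.q, Fr a.r, Fr a.u⟩ := rfl

theorem Fr_four (h81 : ∀ t : K, t ^ 81 = t) (t : K) : Fr (Fr (Fr (Fr t))) = t := by
  simp only [Fr_def]; rw [← pow_mul, ← pow_mul, ← pow_mul]; exact h81 t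

theorem frob_pow_apply (h81 : ∀ t : K, t ^ 81 = t) (n : ℕ) (a : AG K) :
    ((frob h81 : MulAut (AG K)) ^ n) a =
      ⟨Fr^[n] a.x, Fr^[n] a.y, Fr^[n] a.p, Fr^[n] a.q, Fr^[n] a.r, Fr^[n] a.u⟩ := by
  induction n generalizing a with
  | zero => rfl
  | succ n ih =>
    rw [pow_succ, MulAut.mul_apply, ih, frob_apply]
    simp only [Function.iterate_succ, Function.comp]

theorem frob_pow_four (h81 : ∀ t : K, t ^ 81 = t) : (frob h81 : MulAut (AG K)) ^ 4 = 1 := by
  ext a <;> rw [frob_pow_apply] <;>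
    simp only [Function.iterate_succ, Function.iterate_zero, Function.comp, id, Fr_four h81,
      MulAut.one_apply]

theorem frob_mul_scal (h81 : ∀ t : K, t ^ 81 = t) (e : Kˣ) :
    (frob h81 : MulAut (AG K)) * scalHom e = scalHom (e ^ 3) * frob h81 := by
  ext a <;> simp only [MulAut.mul_apply, scalHom_apply,
    frob_apply, Fr_def, Units.val_pow_eq_pow_val] <;> ring

theorem frob_pow_mul_scal (h81 : ∀ t : K, t ^ 81 = t) (n : ℕ) (e : Kˣ) :
    (frob h81 : MulAut (AG K)) ^ n * scalHom e = scalHom (e ^ 3 ^ n) * frob h81 ^ n := by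
  induction n generalizing e with
  | zero => simp
  | succ n ih =>
    rw [pow_succ, mul_assoc, frob_mul_scal, ← mul_assoc, ih, mul_assoc, ← pow_mul, ← pow_succ']

end fin

/-! ### The Frobenius group of order 20 -/

/-- The Frobenius group of order 20; `(i, j)` stands for `b ^ i * c ^ j`. -/
structure F20 where
  i : ZMod 5
  j : ZMod 4
deriving DecidableEq, Fintype

namespace F20

/-- `3 ^ j` in `ZMod 5`. -/
def tw : ZMod 4 → ZMod 5 := ![1, 3, 4, 2]

instance : Mul F20 := ⟨fun g h => ⟨g.i + tw g.j * h.i, g.j + h.j⟩⟩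
instance : One F20 := ⟨⟨0, 0⟩⟩
instance : Inv F20 := ⟨fun g => ⟨-(tw (-g.j) * g.i), -g.j⟩⟩

theorem mul_def (g h : F20) : g * h = ⟨g.i + tw g.j * h.i, g.j + h.j⟩ := rfl
theorem one_def : (1 : F20) = ⟨0, 0⟩ := rfl

instance : Group F20 :=
  Group.ofLeftAxioms (by decide +kernel) (by decide +kernel) (by decide +kernel)

end F20

section rho

variable {K : Type} [Field K] [CharP K 3]

/-- Data: every element satisfies `t ^ 81 = t`, and a unit of order five. -/
structure Dat (K : Type) [Field K] where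
  ζ : Kˣ
  hζ : orderOf ζ = 5
  h81 : ∀ t : K, t ^ 81 = t

theorem Dat.pow_five (D : Dat K) : D.ζ ^ 5 = 1 := by
  rw [← D.hζ]; exact pow_orderOf_eq_one _

/-- The action of `F20` on `AG K`. -/
noncomputable def rho (D : Dat K) : F20 →* MulAut (AG K) where
  toFun g := scalHom (D.ζ ^ g.i.val) * (frob D.h81 : MulAut (AG K)) ^ g.j.val
  map_one' := by
    simp [F20.one_def]
  map_mul' g h := by
    have e1 : ∀ i i' : ZMod 5, ∀ j : ZMod 4,
        (i + F20.tw j * i').val % 5 = (i.val + i'.val * 3 ^ j.val) % 5 := by decide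
    have e2 : ∀ j j' : ZMod 4, (j + j').val % 4 = (j.val + j'.val) % 4 := by decide
    have hz : D.ζ ^ (g.i + F20.tw g.j * h.i).val
        = D.ζ ^ g.i.val * (D.ζ ^ h.i.val) ^ 3 ^ g.j.val := by
      rw [← pow_mul, ← pow_add, pow_eq_pow_mod _ D.pow_five, e1, ← pow_eq_pow_mod _ D.pow_five]
    have hf : (frob D.h81 : MulAut (AG K)) ^ (g.j + h.j).val
        = frob D.h81 ^ g.j.val * frob D.h81 ^ h.j.val := by
      rw [← pow_add, pow_eq_pow_mod _ (frob_pow_four D.h81), e2,
        ← pow_eq_pow_mod _ (frob_pow_four D.h81)]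
    show scalHom (D.ζ ^ (g.i + F20.tw g.j * h.i).val) * frob D.h81 ^ (g.j + h.j).val = _
    rw [hz, hf, map_mul, mul_assoc, mul_assoc, ← mul_assoc (frob D.h81 ^ g.j.val),
      frob_pow_mul_scal, mul_assoc]

theorem rho_apply (D : Dat K) (g : F20) (a : AG K) :
    rho D g a = scalHom (D.ζ ^ g.i.val) (((frob D.h81 : MulAut (AG K)) ^ g.j.val) a) := rfl

theorem rho_x (D : Dat K) (g : F20) (a : AG K) :
    (rho D g a).x = ((D.ζ ^ g.i.val : Kˣ) : K) * Fr^[g.j.val] a.x := by
  rw [rho_apply, frob_pow_apply, scalHom_apply]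

theorem rho_y (D : Dat K) (g : F20) (a : AG K) :
    (rho D g a).y = ((D.ζ ^ g.i.val : Kˣ) : K) * Fr^[g.j.val] a.y := by
  rw [rho_apply, frob_pow_apply, scalHom_apply]

/-- The group `3^24 : (5 : 4)`. -/
abbrev HG (D : Dat K) := AG K ⋊[rho D] F20

end rho

section orders

variable {K : Type} [Field K] [CharP K 3]

theorem mulAut_pow_apply {A : Type*} [Group A] (f : MulAut A) (n : ℕ) (a : A) :
    (f ^ n) a = (⇑f)^[n] a := by
  induction n generalizing a with
  | zero => rfl
  | succ n ih => rw [pow_succ, MulAut.mul_apply, ih, Function.iterate_succ_apply]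

theorem F20_cases : ∀ g : F20, g = 1 ∨ (g.j = 0 ∧ g.i ≠ 0 ∧ g ^ 5 = 1) ∨
    (g ^ 4 = 1 ∧ (g.j.val = 1 ∨ g.j.val = 2 ∨ g.j.val = 3)) := by decide +kernel

variable (D : Dat K)

theorem pow_eq (h : HG D) (n : ℕ) :
    h ^ n = ⟨((List.range n).map (fun k => (⇑(rho D h.right))^[k] h.left)).prod, h.right ^ n⟩ := by
  induction n with
  | zero => rfl
  | succ n ih =>
    rw [pow_succ, ih]
    apply SemidirectProduct.ext
    · rw [SemidirectProduct.mul_left, List.range_succ, List.map_append, List.prod_append]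
      simp only [List.map_cons, List.map_nil, List.prod_cons, List.prod_nil, mul_one]
      rw [map_pow, mulAut_pow_apply]
    · rw [SemidirectProduct.mul_right, pow_succ]

theorem kap_eq_zero (δ X Y : K) (hδ : δ ≠ 0) (hX : δ * X ^ 9 = X) (hY : δ * Y ^ 9 = Y) :
    kap X Y = 0 := by
  have e1 : δ ^ 4 * kap X Y
      = X ^ 3 * (δ * X ^ 9) * (δ * Y ^ 9) ^ 3 - Y ^ 3 * (δ * X ^ 9) * (δ * X ^ 9) ^ 3 := by
    simp only [kap, Fr_def]; ring
  rw [hX, hY] at e1
  have e2 : δ ^ 4 * kap X Y = 0 := by rw [e1]; ring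
  rcases mul_eq_zero.1 e2 with h | h
  · exact absurd (pow_eq_zero_iff (by norm_num) |>.1 h) hδ
  · exact h


instance [Finite K] : Finite (AG K) :=
  Finite.of_injective (fun a : AG K => (a.x, a.y, a.p, a.q, a.r, a.u)) (by
    intro a b h
    simp only [Prod.mk.injEq] at h
    obtain ⟨h1, h2, h3, h4, h5, h6⟩ := h
    exact AG.ext h1 h2 h3 h4 h5 h6)

theorem mul_x (a b : AG K) : (a * b).x = a.x + b.x := rfl
theorem mul_y (a b : AG K) : (a * b).y = a.y + b.y := rfl

theorem pow_nine_of_right (h : HG D) (hg : h.right = 1) : h ^ 9 = 1 := by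
  have e : h = SemidirectProduct.inl h.left := by
    apply SemidirectProduct.ext
    · rfl
    · rw [hg]; rfl
  rw [e, ← map_pow, pow_nine_eq, map_one]

theorem fix_zero (i : ZMod 5) (hi : i ≠ 0) (w : ℕ) (hw : ¬ 5 ∣ w) (t : K)
    (h : (((D.ζ ^ i.val : Kˣ) : K) ^ w) * t = t) : t = 0 := by
  have hne : ((D.ζ ^ i.val : Kˣ) : K) ^ w ≠ 1 := by
    intro h1
    have h2 : (D.ζ ^ i.val) ^ w = 1 := by
      apply Units.ext
      rw [Units.val_pow_eq_pow_val, h1, Units.val_one]
    rw [← pow_mul, ← orderOf_dvd_iff_pow_eq_one, D.hζ] at h2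
    rcases (Nat.Prime.dvd_mul (by norm_num)).1 h2 with h3 | h3
    · have h4 : i.val < 5 := ZMod.val_lt i
      have h5 : i.val ≠ 0 := by
        intro h6; exact hi ((ZMod.val_eq_zero i).1 h6)
      have := Nat.le_of_dvd (Nat.pos_of_ne_zero h5) h3
      omega
    · exact hw h3
  have h2 : (((D.ζ ^ i.val : Kˣ) : K) ^ w - 1) * t = 0 := by linear_combination h
  rcases mul_eq_zero.1 h2 with h3 | h3
  · exact absurd (sub_eq_zero.1 h3) hne
  · exact h3

theorem pow_five_of_right [Finite K] (h : HG D) (hj : h.right.j = 0) (hi : h.right.i ≠ 0)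
    (h5 : h.right ^ 5 = 1) : h ^ 5 = 1 := by
  have hfpf : MonoidHom.FixedPointFree (rho D h.right) := by
    intro a ha
    rw [rho_apply, hj] at ha
    simp only [ZMod.val_zero, pow_zero, MulAut.one_apply, scalHom_apply] at ha
    have hx := congrArg AG.x ha
    have hy := congrArg AG.y ha
    have hp := congrArg AG.p ha
    have hq := congrArg AG.q ha
    have hr := congrArg AG.r ha
    have hu := congrArg AG.u ha
    simp only at hx hy hp hq hr hu
    apply AG.ext
    · exact fix_zero D _ hi 1 (by norm_num) _ (by rw [pow_one]; exact hx)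
    · exact fix_zero D _ hi 1 (by norm_num) _ (by rw [pow_one]; exact hy)
    · exact fix_zero D _ hi 12 (by norm_num) _ hp
    · exact fix_zero D _ hi 12 (by norm_num) _ hq
    · exact fix_zero D _ hi 36 (by norm_num) _ hr
    · exact fix_zero D _ hi 39 (by norm_num) _ hu
  have hid : (⇑(rho D h.right))^[5] = id := by
    funext a
    rw [← mulAut_pow_apply, ← map_pow, h5, map_one]
    rfl
  rw [pow_eq]
  apply SemidirectProduct.ext
  · exact hfpf.prod_pow_eq_one hid h.left
  · exact h5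


theorem delta_exists (e X : K) (h81 : ∀ t : K, t ^ 81 = t) (n : ℕ)
    (hn : n = 1 ∨ n = 2 ∨ n = 3) (hX : e * Fr^[n] X = X) :
    (e ^ 4 * X ^ 9 = X ∧ n = 1) ∨ (e * X ^ 9 = X ∧ n = 2) ∨ (e ^ 28 * X ^ 9 = X ∧ n = 3) := by
  rcases hn with rfl | rfl | rfl
  · left
    simp only [Function.iterate_succ, Function.iterate_zero, Function.comp, id, Fr_def] at hX
    refine ⟨?_, rfl⟩
    calc e ^ 4 * X ^ 9 = e * (e * X ^ 3) ^ 3 := by ring
      _ = X := by rw [hX, hX]
  · right; left
    simp only [Function.iterate_succ, Function.iterate_zero, Function.comp, id, Fr_def] at hX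
    refine ⟨?_, rfl⟩
    calc e * X ^ 9 = e * (X ^ 3) ^ 3 := by ring
      _ = X := hX
  · right; right
    simp only [Function.iterate_succ, Function.iterate_zero, Function.comp, id, Fr_def] at hX
    refine ⟨?_, rfl⟩
    have h27 : e * X ^ 27 = X := by
      calc e * X ^ 27 = e * ((X ^ 3) ^ 3) ^ 3 := by ring
        _ = X := hX
    calc e ^ 28 * X ^ 9 = e ^ 28 * (X ^ 81) ^ 9 := by rw [h81]
      _ = e * (e * X ^ 27) ^ 27 := by ring
      _ = X := by rw [h27, h27]


theorem kap_zero_of_fixed (e X Y : K) (he : e ≠ 0) (h81 : ∀ t : K, t ^ 81 = t) (n : ℕ)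
    (hn : n = 1 ∨ n = 2 ∨ n = 3) (hX : e * Fr^[n] X = X) (hY : e * Fr^[n] Y = Y) :
    kap X Y = 0 := by
  rcases delta_exists e X h81 n hn hX with ⟨h1, rfl⟩ | ⟨h1, rfl⟩ | ⟨h1, rfl⟩
  · rcases delta_exists e Y h81 1 hn hY with ⟨h2, _⟩ | ⟨_, h3⟩ | ⟨_, h3⟩
    · exact kap_eq_zero _ X Y (pow_ne_zero _ he) h1 h2
    · omega
    · omega
  · rcases delta_exists e Y h81 2 hn hY with ⟨_, h3⟩ | ⟨h2, _⟩ | ⟨_, h3⟩
    · omega
    · exact kap_eq_zero _ X Y he h1 h2
    · omega
  · rcases delta_exists e Y h81 3 hn hY with ⟨_, h3⟩ | ⟨_, h3⟩ | ⟨h2, _⟩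
    · omega
    · omega
    · exact kap_eq_zero _ X Y (pow_ne_zero _ he) h1 h2

theorem pow_twelve_of_right (h : HG D) (h4 : h.right ^ 4 = 1)
    (hj : h.right.j.val = 1 ∨ h.right.j.val = 2 ∨ h.right.j.val = 3) : h ^ 12 = 1 := by
  have hr : (h ^ 4).right = 1 := by
    rw [pow_eq]; exact h4
  have e4 : h ^ 4 = SemidirectProduct.inl (h ^ 4).left := by
    apply SemidirectProduct.ext
    · rfl
    · rw [hr]; rfl
  have hc : h * h ^ 4 = h ^ 4 * h := (pow_succ' h 4).symm.trans (pow_succ h 4)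
  have hl := congrArg SemidirectProduct.left hc
  rw [SemidirectProduct.mul_left, SemidirectProduct.mul_left, hr, map_one, MulAut.one_apply] at hl
  have hx := congrArg AG.x hl
  have hy := congrArg AG.y hl
  rw [mul_x, mul_x, rho_x] at hx
  rw [mul_y, mul_y, rho_y] at hy
  have hx' : ((D.ζ ^ h.right.i.val : Kˣ) : K) * Fr^[h.right.j.val] (h ^ 4).left.x
      = (h ^ 4).left.x := by linear_combination hx
  have hy' : ((D.ζ ^ h.right.i.val : Kˣ) : K) * Fr^[h.right.j.val] (h ^ 4).left.y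
      = (h ^ 4).left.y := by linear_combination hy
  have hk := kap_zero_of_fixed _ _ _ (Units.ne_zero _) D.h81 _ hj hx' hy'
  rw [show 12 = 4 * 3 by norm_num, pow_mul, e4, ← map_pow, pow_three_eq, hk]
  exact map_one _

theorem pow_cases [Finite K] (h : HG D) : h ^ 9 = 1 ∨ h ^ 5 = 1 ∨ h ^ 12 = 1 := by
  rcases F20_cases h.right with h1 | ⟨hj, hi, h5⟩ | ⟨h4, hj⟩
  · exact Or.inl (pow_nine_of_right D h h1)
  · exact Or.inr (Or.inl (pow_five_of_right D h hj hi h5))
  · exact Or.inr (Or.inr (pow_twelve_of_right D h h4 hj))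

theorem orderOf_mem [Finite K] (h : HG D) :
    orderOf h ∈ ({1, 2, 3, 4, 5, 6, 9, 12} : Set ℕ) := by
  have key : ∀ m : ℕ, (m ∣ 9 ∨ m ∣ 5 ∨ m ∣ 12) → m ∈ ({1, 2, 3, 4, 5, 6, 9, 12} : Set ℕ) := by
    intro m hm
    have hle : m ≤ 12 := by
      rcases hm with hm | hm | hm
      · exact (Nat.le_of_dvd (by norm_num) hm).trans (by norm_num)
      · exact (Nat.le_of_dvd (by norm_num) hm).trans (by norm_num)
      · exact Nat.le_of_dvd (by norm_num) hm
    interval_cases m <;> simp_all <;> omega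
  apply key
  rcases pow_cases D h with h1 | h1 | h1
  · exact Or.inl (orderOf_dvd_of_pow_eq_one h1)
  · exact Or.inr (Or.inl (orderOf_dvd_of_pow_eq_one h1))
  · exact Or.inr (Or.inr (orderOf_dvd_of_pow_eq_one h1))


/-! ### Elements of orders 5, 9, 12 -/

theorem orderOf_five : orderOf (SemidirectProduct.inr (⟨1, 0⟩ : F20) : HG D) = 5 := by
  rw [orderOf_injective _ SemidirectProduct.inr_injective]
  haveI : Fact (Nat.Prime 5) := ⟨by norm_num⟩
  exact orderOf_eq_prime (by decide +kernel) (by decide +kernel)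

/-- An element of order three fixed by the Frobenius. -/
def a1 : AG K := ⟨1, 0, 0, 0, 0, 0⟩

theorem orderOf_a1 : orderOf (a1 : AG K) = 3 := by
  haveI : Fact (Nat.Prime 3) := ⟨by norm_num⟩
  apply orderOf_eq_prime
  · rw [pow_three_eq]
    simp [a1, kap, one_def]
  · intro h
    have := congrArg AG.x h
    simp [a1, one_def] at this

theorem rho_c_a1 : rho D (⟨0, 1⟩ : F20) (a1 : AG K) = a1 := by
  rw [rho_apply]
  have h1 : (1 : ZMod 4).val = 1 := rfl
  simp only [ZMod.val_zero, pow_zero, h1, pow_one, frob_apply, a1, map_one,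
    map_zero, MulAut.one_apply]

theorem orderOf_twelve :
    orderOf (SemidirectProduct.inl (a1 : AG K) * SemidirectProduct.inr (⟨0, 1⟩ : F20) : HG D)
      = 12 := by
  have h3 : orderOf (SemidirectProduct.inl (a1 : AG K) : HG D) = 3 := by
    rw [orderOf_injective _ SemidirectProduct.inl_injective]; exact orderOf_a1
  have h4 : orderOf (SemidirectProduct.inr (⟨0, 1⟩ : F20) : HG D) = 4 := by
    rw [orderOf_injective _ SemidirectProduct.inr_injective]
    haveI : Fact (Nat.Prime 2) := ⟨by norm_num⟩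
    exact orderOf_eq_prime_pow (p := 2) (n := 1) (by decide +kernel) (by decide +kernel)
  have hc : Commute (SemidirectProduct.inl (a1 : AG K) : HG D)
      (SemidirectProduct.inr (⟨0, 1⟩ : F20)) := by
    have h := SemidirectProduct.inl_aut (φ := rho D) (⟨0, 1⟩ : F20) (a1 : AG K)
    rw [rho_c_a1, map_inv] at h
    exact (mul_inv_eq_iff_eq_mul.1 h.symm).symm
  rw [hc.orderOf_mul_eq_mul_orderOf_of_coprime (by rw [h3, h4]; norm_num), h3, h4]


theorem orderOf_nine (ω : K) (hω : ω ^ 9 ≠ ω) :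
    orderOf (SemidirectProduct.inl (⟨1, ω, 0, 0, 0, 0⟩ : AG K) : HG D) = 9 := by
  rw [orderOf_injective _ SemidirectProduct.inl_injective]
  haveI : Fact (Nat.Prime 3) := ⟨by norm_num⟩
  apply orderOf_eq_prime_pow (p := 3) (n := 1)
  · rw [pow_one, pow_three_eq]
    intro h
    have h1 := congrArg AG.u h
    simp only [kap, map_one, one_mul, mul_one, one_def] at h1
    have h2 : Fr (ω ^ 9) = Fr ω := by
      simp only [Fr_def] at h1 ⊢
      linear_combination h1
    exact hω ((Fr : K →+* K).injective h2)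
  · exact pow_nine_eq _

theorem range_orderOf [Finite K] (ω : K) (hω : ω ^ 9 ≠ ω) :
    Set.range (orderOf : HG D → ℕ) = {1, 2, 3, 4, 5, 6, 9, 12} := by
  apply Set.Subset.antisymm
  · rintro _ ⟨h, rfl⟩
    exact orderOf_mem D h
  · have h12 := orderOf_twelve D
    have hdiv : ∀ n : ℕ, n ∣ 12 → n ∈ Set.range (orderOf : HG D → ℕ) := by
      intro n hn
      refine ⟨_, orderOf_pow_orderOf_div (x := (SemidirectProduct.inl (a1 : AG K) *
        SemidirectProduct.inr (⟨0, 1⟩ : F20) : HG D)) (by rw [h12]; norm_num) (by rw [h12]; exact hn)⟩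
    intro n hn
    simp only [Set.mem_insert_iff, Set.mem_singleton_iff] at hn
    rcases hn with rfl | rfl | rfl | rfl | rfl | rfl | rfl | rfl
    · exact hdiv 1 (by norm_num)
    · exact hdiv 2 (by norm_num)
    · exact hdiv 3 (by norm_num)
    · exact hdiv 4 (by norm_num)
    · exact ⟨_, orderOf_five D⟩
    · exact hdiv 6 (by norm_num)
    · exact ⟨_, orderOf_nine D ω hω⟩
    · exact hdiv 12 (by norm_num)

/-! ### Solvability -/

theorem isPGroup_AG : IsPGroup 3 (AG K) := fun a => ⟨2, by norm_num [pow_nine_eq]⟩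

instance isSolvable_AG [Finite K] : Group.IsSolvable (AG K) := by
  haveI : Fact (Nat.Prime 3) := ⟨by norm_num⟩
  haveI := (isPGroup_AG (K := K)).isNilpotent
  infer_instance

/-- Projection of `F20` to its cyclic quotient. -/
def F20.proj : F20 →* Multiplicative (ZMod 4) where
  toFun g := Multiplicative.ofAdd g.j
  map_one' := rfl
  map_mul' _ _ := rfl

/-- The normal subgroup of order five. -/
def F20.incl : Multiplicative (ZMod 5) →* F20 where
  toFun i := ⟨Multiplicative.toAdd i, 0⟩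
  map_one' := rfl
  map_mul' := by decide +kernel

instance : Group.IsSolvable F20 := by
  refine Group.isSolvable_of_ker_le_range F20.incl F20.proj ?_
  intro g hg
  rw [MonoidHom.mem_ker] at hg
  have hj : g.j = 0 := hg
  refine ⟨Multiplicative.ofAdd g.i, ?_⟩
  show (⟨g.i, 0⟩ : F20) = g
  rw [← hj]

instance isSolvable_HG [Finite K] : Group.IsSolvable (HG D) :=
  Group.isSolvable_of_ker_le_range (SemidirectProduct.inl : AG K →* HG D) SemidirectProduct.rightHom
    (le_of_eq SemidirectProduct.range_inl_eq_ker_rightHom.symm)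

end orders

section final

theorem exists_dat (K : Type) [Field K] [Finite K] (hK : Nat.card K = 81) :
    ∃ (_ : Dat K) (ω : K), ω ^ 9 ≠ ω := by
  classical
  haveI := Fintype.ofFinite K
  have hcard : Fintype.card K = 81 := by rw [← Nat.card_eq_fintype_card, hK]
  have h81 : ∀ t : K, t ^ 81 = t := fun t => by rw [← hcard]; exact FiniteField.pow_card t
  obtain ⟨γ, hγ⟩ := IsCyclic.exists_ofOrder_eq_natCard (α := Kˣ)
  have hu : Nat.card Kˣ = 80 := by rw [Nat.card_eq_fintype_card, Fintype.card_units, hcard]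
  rw [hu] at hγ
  refine ⟨⟨γ ^ 16, ?_, h81⟩, (γ : K), ?_⟩
  · have h := orderOf_pow_orderOf_div (x := γ) (n := 5) (by rw [hγ]; norm_num)
      (by rw [hγ]; norm_num)
    rw [hγ] at h
    exact h
  · intro h
    have h8 : γ ^ 8 = 1 := by
      apply Units.ext
      rw [Units.val_pow_eq_pow_val, Units.val_one]
      have h0 : (γ : K) * ((γ : K) ^ 8 - 1) = 0 := by linear_combination h
      rcases mul_eq_zero.1 h0 with h1 | h1
      · exact absurd h1 (Units.ne_zero γ)
      · exact sub_eq_zero.1 h1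
    have := orderOf_dvd_of_pow_eq_one h8
    rw [hγ] at this
    omega

/-- A finite solvable group whose set of element orders is `{1, 2, 3, 4, 5, 6, 9, 12}`. -/
theorem exists_solvable_spectrum :
    ∃ (H : Type) (_ : Group H) (_ : Fintype H), Group.IsSolvable H ∧
      Set.range (orderOf : H → ℕ) = {1, 2, 3, 4, 5, 6, 9, 12} := by
  haveI : Fact (Nat.Prime 3) := ⟨by norm_num⟩
  obtain ⟨D, ω, hω⟩ := exists_dat (GaloisField 3 4) (GaloisField.card 3 4 (by norm_num))
  haveI : Finite (HG D) := Finite.of_equiv _ SemidirectProduct.equivProd.symm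
  exact ⟨HG D, inferInstance, Fintype.ofFinite _, isSolvable_HG D, range_orderOf D ω hω⟩

end final

end Cfsg.Agent.Lib.Helper91_IsoSpec
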