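import Mathlib

set_option autoImplicit false

namespace Cfsg.Agent.Lib.Helper91_J3Field

/-- the facts about the field with four elements that are used -/
structure F4Setup (F : Type) [Field F] (ω : F) : Prop where
  two : (2 : F) = 0
  sq : ω ^ 2 = ω + 1
  ne0 : ω ≠ 0
  ne1 : ω ≠ 1
  surj : ∀ x : F, x = 0 ∨ x = 1 ∨ x = ω ∨ x = ω + 1

section
variable {F : Type} [Field F] {ω : F}

theorem two_of_card [Fintype F] (hF : Fintype.card F = 4) : (2 : F) = 0 := by
  have h := Nat.cast_card_eq_zero F
  rw [hF] at h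
  have h4 : (2 : F) * 2 = 0 := by
    have : ((4 : ℕ) : F) = 2 * 2 := by norm_num
    rw [← this]; exact h
  rcases mul_self_eq_zero.mp h4 with h2
  exact h2

theorem add_self' (h2 : (2 : F) = 0) (x : F) : x + x = 0 := by
  have : x + x = 2 * x := by ring
  rw [this, h2, zero_mul]

theorem neg_eq' (h2 : (2 : F) = 0) (x : F) : -x = x := by
  have := add_self' h2 x
  exact neg_eq_of_add_eq_zero_left this

theorem setup_of_card [Fintype F] (hF : Fintype.card F = 4) (hω : ω ^ 2 + ω + 1 = 0) :
    F4Setup F ω := by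
  have h2 := two_of_card hF
  have hsq : ω ^ 2 = ω + 1 := by
    have e : ω ^ 2 = -(ω + 1) := by linear_combination hω
    rw [e, neg_eq' h2]
  have hne0 : ω ≠ 0 := by
    rintro rfl
    have : (1 : F) = 0 := by simpa using hω
    exact one_ne_zero this
  have hne1 : ω ≠ 1 := by
    rintro rfl
    have h3 : (1 : F) + 1 + 1 = 0 := by simpa using hω
    have : (1 : F) + 1 = 0 := add_self' h2 1
    rw [this, zero_add] at h3
    exact one_ne_zero h3
  refine ⟨h2, hsq, hne0, hne1, ?_⟩
  -- the four elements are distinct, so they exhaust the field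
  classical
  let f : Fin 4 → F := ![0, 1, ω, ω + 1]
  have hinj : Function.Injective f := by
    have h01 : (0 : F) ≠ 1 := zero_ne_one
    have hw1 : ω + 1 ≠ 0 := by
      intro h
      have : ω = -1 := eq_neg_of_add_eq_zero_left h
      rw [neg_eq' h2] at this
      exact hne1 this
    have hw2 : ω + 1 ≠ 1 := by
      intro h
      exact hne0 (by simpa using h)
    have hw3 : ω + 1 ≠ ω := by
      intro h
      have : (1 : F) = 0 := by simpa using h
      exact one_ne_zero this
    intro a b hab
    fin_cases a <;> fin_cases b <;> simp [f] at hab ⊢ <;>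
      first
        | exact absurd hab h01
        | exact absurd hab.symm h01
        | exact absurd hab hne0
        | exact absurd hab.symm hne0
        | exact absurd hab hne1
        | exact absurd hab.symm hne1
        | exact absurd hab hw1
        | exact absurd hab.symm hw1
        | exact absurd hab hw2
        | exact absurd hab.symm hw2
        | exact absurd hab hw3
        | exact absurd hab.symm hw3
  have hbij : Function.Bijective f := by
    rw [Fintype.bijective_iff_injective_and_card]
    exact ⟨hinj, by rw [hF]; rfl⟩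
  intro x
  obtain ⟨a, rfl⟩ := hbij.2 x
  fin_cases a <;> simp [f]

end

/-! ### codes `0,1,2,3` for `0,1,ω,ω+1` -/

/-- multiplication of codes, from a packed table -/
def mulc (a b : ℕ) : ℕ := 2625168384 / 4 ^ (4 * a + b) % 4

section
variable {F : Type} [Field F]

/-- the field element of a code -/
def cd (ω : F) (k : ℕ) : F :=
  (if k % 2 = 1 then 1 else 0) + (if k / 2 % 2 = 1 then ω else 0)

variable {ω : F}

@[simp] theorem cd_zero : cd ω 0 = 0 := by simp [cd]
@[simp] theorem cd_one : cd ω 1 = 1 := by simp [cd]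
@[simp] theorem cd_two : cd ω 2 = ω := by simp [cd]
@[simp] theorem cd_three : cd ω 3 = ω + 1 := by simp [cd, add_comm]

theorem cd_xor (S : F4Setup F ω) {a b : ℕ} (ha : a < 4) (hb : b < 4) :
    cd ω (a ^^^ b) = cd ω a + cd ω b := by
  have h1 : (1 : F) + 1 = 0 := add_self' S.two 1
  have hw : ω + ω = 0 := add_self' S.two ω
  interval_cases a <;> interval_cases b
  · show cd ω 0 = cd ω 0 + cd ω 0
    simp only [cd_zero, cd_one, cd_two, cd_three] <;> linear_combination (0 : F) * h1 + (0 : F) * hw
  · show cd ω 1 = cd ω 0 + cd ω 1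
    simp only [cd_zero, cd_one, cd_two, cd_three] <;> linear_combination (0 : F) * h1 + (0 : F) * hw
  · show cd ω 2 = cd ω 0 + cd ω 2
    simp only [cd_zero, cd_one, cd_two, cd_three] <;> linear_combination (0 : F) * h1 + (0 : F) * hw
  · show cd ω 3 = cd ω 0 + cd ω 3
    simp only [cd_zero, cd_one, cd_two, cd_three] <;> linear_combination (0 : F) * h1 + (0 : F) * hw
  · show cd ω 1 = cd ω 1 + cd ω 0
    simp only [cd_zero, cd_one, cd_two, cd_three] <;> linear_combination (0 : F) * h1 + (0 : F) * hw
  · show cd ω 0 = cd ω 1 + cd ω 1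
    simp only [cd_zero, cd_one, cd_two, cd_three] <;> linear_combination (-1 : F) * h1 + (0 : F) * hw
  · show cd ω 3 = cd ω 1 + cd ω 2
    simp only [cd_zero, cd_one, cd_two, cd_three] <;> linear_combination (0 : F) * h1 + (0 : F) * hw
  · show cd ω 2 = cd ω 1 + cd ω 3
    simp only [cd_zero, cd_one, cd_two, cd_three] <;> linear_combination (-1 : F) * h1 + (0 : F) * hw
  · show cd ω 2 = cd ω 2 + cd ω 0
    simp only [cd_zero, cd_one, cd_two, cd_three] <;> linear_combination (0 : F) * h1 + (0 : F) * hw
  · show cd ω 3 = cd ω 2 + cd ω 1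
    simp only [cd_zero, cd_one, cd_two, cd_three] <;> linear_combination (0 : F) * h1 + (0 : F) * hw
  · show cd ω 0 = cd ω 2 + cd ω 2
    simp only [cd_zero, cd_one, cd_two, cd_three] <;> linear_combination (0 : F) * h1 + (-1 : F) * hw
  · show cd ω 1 = cd ω 2 + cd ω 3
    simp only [cd_zero, cd_one, cd_two, cd_three] <;> linear_combination (0 : F) * h1 + (-1 : F) * hw
  · show cd ω 3 = cd ω 3 + cd ω 0
    simp only [cd_zero, cd_one, cd_two, cd_three] <;> linear_combination (0 : F) * h1 + (0 : F) * hw
  · show cd ω 2 = cd ω 3 + cd ω 1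
    simp only [cd_zero, cd_one, cd_two, cd_three] <;> linear_combination (-1 : F) * h1 + (0 : F) * hw
  · show cd ω 1 = cd ω 3 + cd ω 2
    simp only [cd_zero, cd_one, cd_two, cd_three] <;> linear_combination (0 : F) * h1 + (-1 : F) * hw
  · show cd ω 0 = cd ω 3 + cd ω 3
    simp only [cd_zero, cd_one, cd_two, cd_three] <;> linear_combination (-1 : F) * h1 + (-1 : F) * hw

theorem cd_mul (S : F4Setup F ω) {a b : ℕ} (ha : a < 4) (hb : b < 4) :
    cd ω (mulc a b) = cd ω a * cd ω b := by
  have h1 : (1 : F) + 1 = 0 := add_self' S.two 1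
  have hw : ω + ω = 0 := add_self' S.two ω
  have hs := S.sq
  interval_cases a <;> interval_cases b
  · show cd ω 0 = cd ω 0 * cd ω 0
    simp only [cd_zero, cd_one, cd_two, cd_three] <;> linear_combination (0 : F) * hs + (0 : F) * h1 + (0 : F) * hw
  · show cd ω 0 = cd ω 0 * cd ω 1
    simp only [cd_zero, cd_one, cd_two, cd_three] <;> linear_combination (0 : F) * hs + (0 : F) * h1 + (0 : F) * hw
  · show cd ω 0 = cd ω 0 * cd ω 2
    simp only [cd_zero, cd_one, cd_two, cd_three] <;> linear_combination (0 : F) * hs + (0 : F) * h1 + (0 : F) * hw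
  · show cd ω 0 = cd ω 0 * cd ω 3
    simp only [cd_zero, cd_one, cd_two, cd_three] <;> linear_combination (0 : F) * hs + (0 : F) * h1 + (0 : F) * hw
  · show cd ω 0 = cd ω 1 * cd ω 0
    simp only [cd_zero, cd_one, cd_two, cd_three] <;> linear_combination (0 : F) * hs + (0 : F) * h1 + (0 : F) * hw
  · show cd ω 1 = cd ω 1 * cd ω 1
    simp only [cd_zero, cd_one, cd_two, cd_three] <;> linear_combination (0 : F) * hs + (0 : F) * h1 + (0 : F) * hw
  · show cd ω 2 = cd ω 1 * cd ω 2
    simp only [cd_zero, cd_one, cd_two, cd_three] <;> linear_combination (0 : F) * hs + (0 : F) * h1 + (0 : F) * hw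
  · show cd ω 3 = cd ω 1 * cd ω 3
    simp only [cd_zero, cd_one, cd_two, cd_three] <;> linear_combination (0 : F) * hs + (0 : F) * h1 + (0 : F) * hw
  · show cd ω 0 = cd ω 2 * cd ω 0
    simp only [cd_zero, cd_one, cd_two, cd_three] <;> linear_combination (0 : F) * hs + (0 : F) * h1 + (0 : F) * hw
  · show cd ω 2 = cd ω 2 * cd ω 1
    simp only [cd_zero, cd_one, cd_two, cd_three] <;> linear_combination (0 : F) * hs + (0 : F) * h1 + (0 : F) * hw
  · show cd ω 3 = cd ω 2 * cd ω 2
    simp only [cd_zero, cd_one, cd_two, cd_three] <;> linear_combination (-1 : F) * hs + (0 : F) * h1 + (0 : F) * hw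
  · show cd ω 1 = cd ω 2 * cd ω 3
    simp only [cd_zero, cd_one, cd_two, cd_three] <;> linear_combination (-1 : F) * hs + (0 : F) * h1 + (-1 : F) * hw
  · show cd ω 0 = cd ω 3 * cd ω 0
    simp only [cd_zero, cd_one, cd_two, cd_three] <;> linear_combination (0 : F) * hs + (0 : F) * h1 + (0 : F) * hw
  · show cd ω 3 = cd ω 3 * cd ω 1
    simp only [cd_zero, cd_one, cd_two, cd_three] <;> linear_combination (0 : F) * hs + (0 : F) * h1 + (0 : F) * hw
  · show cd ω 1 = cd ω 3 * cd ω 2
    simp only [cd_zero, cd_one, cd_two, cd_three] <;> linear_combination (-1 : F) * hs + (0 : F) * h1 + (-1 : F) * hw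
  · show cd ω 2 = cd ω 3 * cd ω 3
    simp only [cd_zero, cd_one, cd_two, cd_three] <;> linear_combination (-1 : F) * hs + (-1 : F) * h1 + (-1 : F) * hw

theorem mulc_lt (a b : ℕ) : mulc a b < 4 := Nat.mod_lt _ (by norm_num)

theorem cd_surj (S : F4Setup F ω) (x : F) : ∃ k, k < 4 ∧ cd ω k = x := by
  rcases S.surj x with h | h | h | h
  · exact ⟨0, by norm_num, by rw [h, cd_zero]⟩
  · exact ⟨1, by norm_num, by rw [h, cd_one]⟩
  · exact ⟨2, by norm_num, by rw [h, cd_two]⟩
  · exact ⟨3, by norm_num, by rw [h, cd_three]⟩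

theorem omega_add_one_ne_zero (S : F4Setup F ω) : ω + 1 ≠ 0 := by
  intro h
  have : ω = -1 := eq_neg_of_add_eq_zero_left h
  rw [neg_eq' S.two] at this
  exact S.ne1 this

theorem cd_eq_zero (S : F4Setup F ω) {k : ℕ} (hk : k < 4) : cd ω k = 0 ↔ k = 0 := by
  interval_cases k
  · simp
  · simp
  · simp [S.ne0]
  · simp [omega_add_one_ne_zero S]

theorem cd_inj (S : F4Setup F ω) {a b : ℕ} (ha : a < 4) (hb : b < 4) (h : cd ω a = cd ω b) :
    a = b := by
  have hx : cd ω (a ^^^ b) = 0 := by
    rw [cd_xor S ha hb, h]; exact add_self' S.two _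
  have hlt : a ^^^ b < 4 := by
    interval_cases a <;> interval_cases b <;> decide
  have := (cd_eq_zero S hlt).mp hx
  interval_cases a <;> interval_cases b <;> first | rfl | (exfalso; revert this; decide)

theorem cd_cube (S : F4Setup F ω) {k : ℕ} (hk : k < 4) :
    cd ω k ^ 3 = if k = 0 then 0 else 1 := by
  have h1 : (1 : F) + 1 = 0 := add_self' S.two 1
  have hw : ω + ω = 0 := add_self' S.two ω
  have hs := S.sq
  interval_cases k
  · simp
  · simp
  · simp only [cd_two]
    rw [if_neg (by norm_num)]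
    linear_combination (ω + 1) * hs + hw
  · simp only [cd_three]
    rw [if_neg (by norm_num)]
    linear_combination (ω + 4) * hs + 4 * hw + 2 * h1

end

end Cfsg.Agent.Lib.Helper91_J3Field
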