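import Cfsg.Agent.Lib.Helper91_J3Vec

set_option autoImplicit false

namespace Cfsg.Agent.Lib.Helper91_J3Gens

open Cfsg.Spor Cfsg.Agent.Lib.Helper91_J3Field Cfsg.Agent.Lib.Helper91_J3Vec Matrix

/-! ### packed data -/

def litA10 : ℕ := 4384509093386421165625551902025140478076903227393
def tabA10 : Tab := ⟨14701351547417115009508383062398395378349380418091401279189039700300443333669320271392553110797354166080101017661135169260212552147478223388240009601587045357993481825810045899177477061150421248867257293847354661788881743520189310953151875729728240399180181183486560344408759221996705220381304575631366765133847984120238372708382920288023871488,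
  313628965944656250149577712599480344303969936006773737887695725696828891101362019299764130044401279463181404131762080349799353095749154957091201707339578447907858198177676637386025178879763789755964492835395249745542001470897762480459002695613592574278585119487096703636157576378294509108065933935703840211219305970301786047042731944122116997120,
  40144489410127839567147584901613035677792028149742576240437297539644256911872896121634772070587959390896710022933665523624976194749757352037158300708700278316202282594902711056450635214002892337574957725074268890873158656558990217368657945662540860335451328587911831383161395513085611582112198542804527052732826915735013338926582508419763662749696⟩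
def litE0 : ℕ := 4384509093385091938897418795306285688242013470721
def tabE0 : Tab := ⟨5367159523545095619781629710839555135388333076330027397315398812189402738969950962793328475569020983645005918593527197639299913563489611452839206731179800668596058903108202057372323221078301204901353522513802935942686754813452755399832854482165848041634518230409532513001156772239392072447316321872025360457363735513422749347514288453707890688,
  612323110708560870620814844565730709120808767663518098704312852427120467953068185928756859799175453491502426629465755196596700718078195535284091534025725718699705228422873000807456330207585069963686965175547051414722097021544949870509089539439110836703929556787453390734793951696197742766711090946665359564980761868164537546541620131825576837120,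
  39188679085347895719732150052206765383731761130465158317076022555335709948996363899440439027147229023456155304285808332582188845957004514258181858177646445996781134619063872051677205133285444477675965771235011290542214209378876791712581730524103093549051491634397017007026812908556655537069509820586583012158768759562530402978663688436836917575680⟩
def litD10 : ℕ := 68507932806049809378162248674094173677418450944
def tabD10 : Tab := ⟨940886499034695360608536515993497304214360346757849681868098540819228373354836497369123399091030666629126465130312650832653603337438606296847360614501570902911582836851842937547358531913626959927504466806230698354488431585292115901001720046702607385547531595743139862042160590207789134104403492840407472968566270983695255853336506898433527775232,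
  37277025620352628226754839521314806864063224440767025639917126130478179151773096316276691662801846790419087642350301302478239243697056516078282891267740018326096345524472584994371479567350035556050442663763986568738838708971874214195065482489843719011011622238049555209312371077161517259826738745544199605261517504686347793618320746783787395842048,
  14701351547417115009508383062398395378349380418091401279189039700300443333669320271392553110797354166080101017661135169260212552147478223388240009601587045357993481825810045899177477061150421248867257293847354661788881743520189310953151875729728240399180181183486560344408759221996705220381304575631366765133847984120238372708382920288023871488⟩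
def litBg : ℕ := 91343852673796106327422337631537158769732485121
def tabBg : Tab := ⟨12187421169878917601152131316493618810969569650498228360277736442403183558260418346912961882763247074745266173127156334104104915037598586139502618665515610182623292895805359193332936744182772144236707513009091107680831967613969909957902424507782072004265327126518565572400689520248864829007665711991525310393608440064731553784036548464331901370368,
  3057881079134056776570808491608094431766038825012382713836861629910414299113276239964951585683217525940414021721008885990294809314469605099780457415686042067335338539985861649972711286872957903319226152795455477504377149117291121694316555438305132716891827299251991055391734095707961400512053934255525122086927631603139211820520988608281442254848,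
  45926966676134802474284898931739873682110564033804322085349676272563690242670938571539562646907297115485759512685932280278347595579368677653137478378291314649916833318139119818925566201952997787025467448003768809749733716894775858391901231749961303755384087294032141343036104191606549261321926950520497348847432274065060901386959295615099939586048⟩
def litC10 : ℕ := 1832593093529640241284613252804085390638190690305
def tabC10 : Tab := ⟨14701351547417115009713948635084060755758579871246769283298762779677005527826786422858485697573506232237369188177920744024318935625635195720013201153800371039224621356769495340689749809271197362848501212766647351067505356486835951762401001558670697502715118049611218261591693086914920638714873881745285262148137247576271351374827295810408153088,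
  60230737208452684797442322662781193593253706900708129881282575435769199627151908957511954214258505265319045860251260276812234361564295132299728211487712751790638077352741045461689634450862035415426811473693696968880266362523733756253195925096748104297145794196216855112108801214538312187328220201777844896016227534361106100936846005737165352337408,
  954887769266877079110897850491391141608342687233772568150601236896629788619078111893370359656902713917246843925670093507628991594292433572180195083839032042723012661836919667369294420596988894967382289139130291612327595405139094588058432092833145187010931419103238993268740064420878018845976328412696121651583958919068146955415274420660251656192⟩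
def litS2 : ℕ := 2923006062257614111262135807453561611937608892418
def tabS2 : Tab := ⟨4900452592885253908587151759366880379749530250105839654495245714012951423458781551558814531943769991612209439558782505465614892121080546204550026677180913248560284346526197459156643419996309214936945200553050777274093772982777538757171917118962383973102892491985885994314962130910851704813530217745372503300301655785965406985042686626908078080,
  313628965944656250149577712599480344303969936006773737887695725696828891101362019299764130044401279463181404131762080349799353095749154957091201707339578447907858198177676637386025178879763789755964492835395249745542001470897762480459002695613592574278585119487096703636157576378294509108065933935703840211219305970301786047042731944122116997120,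
  20072253820458000009572973606366742035454075904433519224812526444597049030487169235184904322841681885643609864432773142387158598127945917253836909269733020666102924683371304792705611448304882544381727541465295983714688094137456798749376172519269924753829447647174189032714084888210848582916219771885045773518035582099314307010734844423815487815680⟩
def litS3 : ℕ := 4384509093386421166893203711180342417906413338627
def tabS3 : Tab := ⟨9800900734894492081823140845120370038523444372495746152450512094639711160125218779695989275045888523168142095442789434478753953796327478524696850758960028885791572899146169691516268362793674887103261163348210178435829750136472221037270006265268764730334797018533161958779637576436916890164110972364386487483600321224368490948872682719668862976,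
  627257647033247493236681014087703682465500439839727753756832774056941514248014001900543313602936865482761094108338523806640253042964958625580598448573441848690660665545354860257041175218795192774608714454285451419893104008734222146385280400977200942741427009186122365361896804891962680970503102231320735198950420558359583420727851694058807230464,
  40144489410127839567147584901613035677792028149742576240437297539644256911872896121634772070587959390896710022933665523624976194749757352037158300708700278316202282594902711056450635214002892337574957725074268890873158656558990217368657945662540860335451328587911831383161395513085611582112198542804527052732826915735013338926582508419763662749696⟩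

def wordTbl : List (List (ℕ × List ℕ)) :=
 [  [(1, []),
   (1, [2, 2, 2]),
   (1, [2, 2, 2, 2, 2, 2]),
   (1, [0]),
   (1, [0, 2, 2, 2]),
   (1, [0, 2, 2, 2, 2, 2, 2]),
   (1, [0, 0]),
   (1, [0, 0, 2, 2, 2]),
   (1, [0, 0, 2, 2, 2, 2, 2, 2])],
   [(1, [1]),
   (2, [1, 2, 2, 2]),
   (2, [1, 2, 2, 2, 2, 2, 2]),
   (2, [0, 1]),
   (2, [2, 1, 2, 2]),
   (2, [2, 1, 2, 2, 2, 2, 2]),
   (2, [0, 0, 1]),
   (2, [2, 2, 1, 2]),
   (2, [2, 2, 1, 2, 2, 2, 2])],
   [(1, []),
   (1, [3, 3, 3, 3, 3, 3, 2, 3, 3]),
   (1, [3, 3, 2, 3, 3, 3, 3, 3, 3]),
   (1, [2]),
   (1, [3, 2, 3, 3, 3, 3, 3, 3, 3]),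
   (1, [3, 3, 3, 2, 3, 3, 3, 3, 3]),
   (1, [2, 2, 2, 2, 2, 2, 2, 2]),
   (1, [3, 3, 3, 3, 3, 3, 3, 2, 3]),
   (1, [3, 3, 3, 3, 3, 2, 3, 3, 3])],
   [(1, []),
   (1, [3, 3, 3, 3, 3, 3]),
   (1, [3, 3]),
   (1, []),
   (1, [3]),
   (1, [3, 3, 3]),
   (1, [3, 3, 3, 3]),
   (1, [3, 3, 3, 3, 3, 3, 3]),
   (1, [3, 3, 3, 3, 3])],
   [(1, []),
   (1, [3, 3, 3, 3, 3, 3, 4]),
   (1, [3, 3, 4]),
   (1, [4]),
   (1, [3, 4]),
   (1, [3, 3, 3, 4]),
   (1, [3, 3, 3, 3, 4]),
   (1, [3, 3, 3, 3, 3, 3, 3, 4]),
   (1, [3, 3, 3, 3, 3, 4])]]

/-! ### the code tables of the five families -/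

/-- the coordinate at a position -/
def un (i : ℕ) : F9 := (((i / 3 : ℕ) : ZMod 3), ((i % 3 : ℕ) : ZMod 3))

theorem un_ix (z : F9) : un (ix z) = z := by
  revert z
  apply forall_F9 <;> rfl

def lift (c : F9 → F9 → ℕ) : ℕ → ℕ → ℕ := fun i j => c (un i) (un j)

def cA (Z : F9) : F9 → F9 → ℕ := fun w z =>
  if w = z then 1 + (Z.1 * z.1 + Z.2 * z.2).val else 0

def cE (Z : F9) : F9 → F9 → ℕ := fun w z =>
  if w = z then 1 + ((Z.1 - z.1) ^ 2 + (Z.2 - z.2) ^ 2).val else 0

def cLam (Z z : F9) : ℕ :=
  if z = 0 then 1
  else if F9.div Z z = F9.I - F9.one then 2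
  else if F9.div Z z = -F9.I - F9.one then 3
  else 1

def cD (Z : F9) : F9 → F9 → ℕ := fun w z => if w = z + Z then cLam Z z else 0

def cB (Z : F9) : F9 → F9 → ℕ := fun w z => if w = F9.mul Z z then 1 else 0

def cC (Z : F9) : F9 → F9 → ℕ := fun w z =>
  if z = 0 then (if w = 0 then 1 else 0)
  else if w = -F9.div Z z ∨ w = F9.mul F9.I (F9.div Z z) ∨ w = -F9.mul F9.I (F9.div Z z) then 1
  else 0

/-- the code table of the generator of family `fam` at `Z` -/
def cG (fam : ℕ) (Z : F9) : F9 → F9 → ℕ :=
  match fam with
  | 0 => cA Z
  | 1 => cE Z
  | 2 => cD Z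
  | 3 => cB Z
  | _ => cC Z

theorem cLam_lt (Z z : F9) : cLam Z z < 4 := by
  unfold cLam
  split_ifs <;> norm_num

theorem cG_lt (fam : ℕ) (Z w z : F9) : cG fam Z w z < 4 := by
  have hv : ∀ a : ZMod 3, 1 + a.val < 4 := fun a => by have := ZMod.val_lt a; omega
  unfold cG
  split
  · unfold cA; split_ifs
    · exact hv _
    · norm_num
  · unfold cE; split_ifs
    · exact hv _
    · norm_num
  · unfold cD; split_ifs
    · exact cLam_lt _ _
    · norm_num
  · unfold cB; split_ifs <;> norm_num
  · unfold cC; split_ifs <;> norm_num

theorem lift_lt (fam : ℕ) (Z : F9) (i j : ℕ) : lift (cG fam Z) i j < 4 := cG_lt _ _ _ _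

section
variable {F : Type} [Field F] {ω : F}

theorem cdM_lift (c : F9 → F9 → ℕ) : cdM ω (lift c) = Matrix.of fun w z => cd ω (c w z) := by
  ext w z
  show cd ω (c (un (ix w)) (un (ix z))) = cd ω (c w z)
  rw [un_ix, un_ix]

theorem cd_one_add (S : F4Setup F ω) (k : ZMod 3) : cd ω (1 + k.val) = ω ^ k.val := by
  fin_cases k
  · show cd ω 1 = ω ^ 0
    simp
  · show cd ω 2 = ω ^ 1
    simp
  · show cd ω 3 = ω ^ 2
    rw [cd_three, S.sq]

theorem j3A_eq (S : F4Setup F ω) (Z : F9) : j3A F ω Z = cdM ω (lift (cA Z)) := by
  rw [cdM_lift]
  ext w z
  unfold j3A cA omegaPow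
  rw [Matrix.diagonal_apply]
  show _ = cd ω _
  by_cases h : w = z
  · rw [if_pos h, if_pos h, cd_one_add S]
    rw [h]
  · rw [if_neg h, if_neg h, cd_zero]

theorem j3E_eq (S : F4Setup F ω) (Z : F9) : j3E F ω Z = cdM ω (lift (cE Z)) := by
  rw [cdM_lift]
  ext w z
  unfold j3E cE omegaPow
  rw [Matrix.diagonal_apply]
  show _ = cd ω _
  by_cases h : w = z
  · rw [if_pos h, if_pos h, cd_one_add S]
    rw [h]
  · rw [if_neg h, if_neg h, cd_zero]

theorem cd_cLam (S : F4Setup F ω) (Z z : F9) : cd ω (cLam Z z) = j3Lam F ω Z z := by
  unfold cLam j3Lam
  split_ifs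
  · exact cd_one
  · exact cd_two
  · rw [cd_three, S.sq]
  · exact cd_one

theorem j3D_eq (S : F4Setup F ω) (Z : F9) : j3D F ω Z = cdM ω (lift (cD Z)) := by
  rw [cdM_lift]
  ext w z
  unfold j3D cD
  show (if w = z + Z then j3Lam F ω Z z else 0) = cd ω _
  by_cases h : w = z + Z
  · rw [if_pos h, if_pos h, cd_cLam S]
  · rw [if_neg h, if_neg h, cd_zero]

theorem j3B_eq (Z : F9) : j3B F Z = cdM ω (lift (cB Z)) := by
  rw [cdM_lift]
  ext w z
  unfold j3B cB
  show (if w = F9.mul Z z then (1 : F) else 0) = cd ω _
  by_cases h : w = F9.mul Z z
  · rw [if_pos h, if_pos h, cd_one]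
  · rw [if_neg h, if_neg h, cd_zero]

theorem j3C_eq (Z : F9) : j3C F Z = cdM ω (lift (cC Z)) := by
  rw [cdM_lift]
  ext w z
  unfold j3C cC
  show (if z = 0 then (if w = 0 then (1 : F) else 0)
    else if w = -F9.div Z z ∨ w = F9.mul F9.I (F9.div Z z) ∨ w = -F9.mul F9.I (F9.div Z z) then 1
    else 0) = cd ω _
  split_ifs <;> simp

/-- the generator matrix of family `fam` at `Z` -/
def gM (ω : F) (fam : ℕ) (Z : F9) : Matrix F9 F9 F :=
  match fam with
  | 0 => j3A F ω Z
  | 1 => j3E F ω Z
  | 2 => j3D F ω Z
  | 3 => j3B F Z
  | _ => j3C F Z

theorem gM_eq (S : F4Setup F ω) (fam : ℕ) (Z : F9) : gM ω fam Z = cdM ω (lift (cG fam Z)) := by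
  unfold gM cG
  split
  · exact j3A_eq S Z
  · exact j3E_eq S Z
  · exact j3D_eq S Z
  · exact j3B_eq Z
  · exact j3C_eq Z

end

/-! ### the five chosen generators -/

def litM (M : ℕ) : ℕ → ℕ → ℕ := fun i j => M / 4 ^ (9 * i + j) % 4

theorem litM_lt (M i j : ℕ) : litM M i j < 4 := Nat.mod_lt _ (by norm_num)

def eqLit (c : F9 → F9 → ℕ) (M : ℕ) : Bool :=
  (List.range 9).all fun i => (List.range 9).all fun j => lift c i j == litM M i j

section
variable {F : Type} [Field F] {ω : F}

theorem cdM_congr {m m' : ℕ → ℕ → ℕ} (h : ∀ i j, i < 9 → j < 9 → m i j = m' i j) :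
    cdM ω m = cdM ω m' := by
  ext w z
  show cd ω (m (ix w) (ix z)) = cd ω (m' (ix w) (ix z))
  rw [h _ _ (ix_lt w) (ix_lt z)]

theorem cdM_eqLit {c : F9 → F9 → ℕ} {M : ℕ} (h : eqLit c M = true) :
    cdM ω (lift c) = cdM ω (litM M) := by
  apply cdM_congr
  intro i j hi hj
  unfold eqLit at h
  rw [List.all_eq_true] at h
  have := h i (List.mem_range.mpr hi)
  rw [List.all_eq_true] at this
  have := this j (List.mem_range.mpr hj)
  exact beq_iff_eq.mp this

end

/-- family and parameter of the chosen generators -/
def Tfam : ℕ → ℕ × F9
  | 1 => (1, (0, 0))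
  | 2 => (2, (1, 0))
  | 3 => (3, (1, 1))
  | 4 => (4, (1, 0))
  | _ => (0, (1, 0))

def Tlit : ℕ → ℕ
  | 1 => litE0
  | 2 => litD10
  | 3 => litBg
  | 4 => litC10
  | _ => litA10

def Ttab : ℕ → Tab
  | 1 => tabE0
  | 2 => tabD10
  | 3 => tabBg
  | 4 => tabC10
  | _ => tabA10

/-- apply chosen generator `k` to a packed vector -/
def appT (k n : ℕ) : ℕ := appFast (Ttab k) n

theorem appT_lt (k n : ℕ) : appT k n < 262144 := appFast_lt _ _

theorem T_eqLit : ∀ k, k < 5 → eqLit (cG (Tfam k).1 (Tfam k).2) (Tlit k) = true := by
  decide +kernel

theorem T_tblOK : ∀ k, k < 5 → tblOK (litM (Tlit k)) (Ttab k) = true := by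
  decide +kernel

theorem T_red (k : ℕ) : ∃ k', k' < 5 ∧ Tfam k = Tfam k' ∧ Tlit k = Tlit k' ∧ Ttab k = Ttab k' := by
  by_cases h : k < 5
  · exact ⟨k, h, rfl, rfl, rfl⟩
  · refine ⟨0, by norm_num, ?_, ?_, ?_⟩
    · unfold Tfam; split <;> first | rfl | omega
    · unfold Tlit; split <;> first | rfl | omega
    · unfold Ttab; split <;> first | rfl | omega

section
variable {F : Type} [Field F]

/-- chosen generator `k` as a matrix -/
def Tm (ω : F) (k : ℕ) : Matrix F9 F9 F := gM ω (Tfam k).1 (Tfam k).2

variable {ω : F}

theorem Tm_eq (S : F4Setup F ω) (k : ℕ) : Tm ω k = cdM ω (litM (Tlit k)) := by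
  obtain ⟨k', hk', e1, e2, _⟩ := T_red k
  unfold Tm
  rw [e1, e2, gM_eq S, cdM_eqLit (T_eqLit k' hk')]

theorem appT_spec (S : F4Setup F ω) (k n : ℕ) (hn : n < 262144) :
    Tm ω k *ᵥ dec ω n = dec ω (appT k n) := by
  obtain ⟨k', hk', e1, e2, e3⟩ := T_red k
  rw [Tm_eq S]
  unfold appT
  rw [e2, e3]
  exact appFast_spec S (fun i j _ _ => litM_lt _ _ _) (T_tblOK k' hk') n hn

end

/-! ### scalars -/

def sApp (s n : ℕ) : ℕ :=
  match s with
  | 2 => appFast tabS2 n
  | 3 => appFast tabS3 n
  | _ => n

theorem S_tblOK : tblOK (litM litS2) tabS2 = true ∧ tblOK (litM litS3) tabS3 = true := by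
  decide +kernel

def cS (s : ℕ) : ℕ → ℕ → ℕ := fun i j => if i = j then s else 0

theorem S_lit' : (∀ i, i < 9 → ∀ j, j < 9 → litM litS2 i j = cS 2 i j) ∧
    (∀ i, i < 9 → ∀ j, j < 9 → litM litS3 i j = cS 3 i j) := by
  decide +kernel

theorem S_lit : (∀ i j, i < 9 → j < 9 → litM litS2 i j = cS 2 i j) ∧
    (∀ i j, i < 9 → j < 9 → litM litS3 i j = cS 3 i j) :=
  ⟨fun i j hi hj => S_lit'.1 i hi j hj, fun i j hi hj => S_lit'.2 i hi j hj⟩

section
variable {F : Type} [Field F] {ω : F}

theorem cdM_cS (s : ℕ) : cdM ω (cS s) = cd ω s • (1 : Matrix F9 F9 F) := by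
  ext w z
  show cd ω (if ix w = ix z then s else 0) = cd ω s * (1 : Matrix F9 F9 F) w z
  by_cases h : w = z
  · rw [h, if_pos rfl, Matrix.one_apply_eq, mul_one]
  · rw [if_neg (fun e => h (ix_inj e)), Matrix.one_apply_ne h, mul_zero, cd_zero]

theorem sApp_lt {s n : ℕ} (hn : n < 262144) : sApp s n < 262144 := by
  unfold sApp
  split
  · exact appFast_lt _ _
  · exact appFast_lt _ _
  · exact hn

theorem sApp_spec (S : F4Setup F ω) {s : ℕ} (hs : s = 1 ∨ s = 2 ∨ s = 3) (n : ℕ)
    (hn : n < 262144) : dec ω (sApp s n) = cd ω s • dec ω n := by
  rcases hs with rfl | rfl | rfl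
  · show dec ω n = cd ω 1 • dec ω n
    rw [cd_one, one_smul]
  · show dec ω (appFast tabS2 n) = _
    rw [← appFast_spec S (fun i j _ _ => litM_lt _ _ _) S_tblOK.1 n hn, cdM_congr S_lit.1,
      cdM_cS, Matrix.smul_mulVec, Matrix.one_mulVec]
  · show dec ω (appFast tabS3 n) = _
    rw [← appFast_spec S (fun i j _ _ => litM_lt _ _ _) S_tblOK.2 n hn, cdM_congr S_lit.2,
      cdM_cS, Matrix.smul_mulVec, Matrix.one_mulVec]

end

/-! ### words in the chosen generators -/

def wordApp (w : List ℕ) (n : ℕ) : ℕ := w.foldr (fun k acc => appT k acc) n

theorem wordApp_lt (w : List ℕ) {n : ℕ} (hn : n < 262144) : wordApp w n < 262144 := by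
  cases w with
  | nil => exact hn
  | cons k w => exact appT_lt _ _

section
variable {F : Type} [Field F] {ω : F}

theorem wordApp_spec (S : F4Setup F ω) (w : List ℕ) (n : ℕ) (hn : n < 262144) :
    (w.map (Tm ω)).prod *ᵥ dec ω n = dec ω (wordApp w n) := by
  induction w with
  | nil => simp [wordApp]
  | cons k w ih =>
    rw [List.map_cons, List.prod_cons, ← Matrix.mulVec_mulVec, ih]
    exact appT_spec S k _ (wordApp_lt w hn)

end

/-- the unit vector at position `j` -/
theorem dig_unit : ∀ i, i < 9 → ∀ j, j < 9 → dig (4 ^ j) i = if i = j then 1 else 0 := by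
  decide +kernel

section
variable {F : Type} [Field F] {ω : F}

theorem single_eq_dec (z : F9) : (Pi.single z (1 : F) : F9 → F) = dec ω (4 ^ ix z) := by
  funext w
  show _ = cd ω (dig (4 ^ ix z) (ix w))
  rw [dig_unit _ (ix_lt w) _ (ix_lt z)]
  by_cases h : w = z
  · rw [h, if_pos rfl, Pi.single_eq_same, cd_one]
  · rw [if_neg (fun e => h (ix_inj e)), Pi.single_eq_of_ne h, cd_zero]

end

theorem pow4_lt {j : ℕ} (hj : j < 9) : 4 ^ j < 262144 := by
  interval_cases j <;> norm_num

/-- column `j` of a code table -/
def colc (m : ℕ → ℕ → ℕ) (j : ℕ) : ℕ :=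
  m 0 j + 4 * m 1 j + 16 * m 2 j + 64 * m 3 j + 256 * m 4 j + 1024 * m 5 j + 4096 * m 6 j +
    16384 * m 7 j + 65536 * m 8 j

theorem dig_colc {m : ℕ → ℕ → ℕ} (hm : ∀ i j, m i j < 4) (j : ℕ) {i : ℕ} (hi : i < 9) :
    dig (colc m j) i = m i j := by
  have h0 := hm 0 j; have h1 := hm 1 j; have h2 := hm 2 j; have h3 := hm 3 j
  have h4 := hm 4 j; have h5 := hm 5 j; have h6 := hm 6 j; have h7 := hm 7 j
  have h8 := hm 8 j
  unfold colc dig
  interval_cases i <;> norm_num <;> omega

section
variable {F : Type} [Field F] {ω : F}

theorem cdM_single {m : ℕ → ℕ → ℕ} (hm : ∀ i j, m i j < 4) (z : F9) :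
    cdM ω m *ᵥ Pi.single z 1 = dec ω (colc m (ix z)) := by
  rw [Matrix.mulVec_single_one]
  funext w
  show cd ω (m (ix w) (ix z)) = cd ω (dig (colc m (ix z)) (ix w))
  rw [dig_colc hm _ (ix_lt w)]

end

/-- the generator of family `fam` at `Z` is `s` times the word `w` -/
def genOK (fam : ℕ) (Z : F9) (sw : ℕ × List ℕ) : Bool :=
  (sw.1 == 1 || sw.1 == 2 || sw.1 == 3) &&
  (List.range 9).all fun j => colc (lift (cG fam Z)) j == sApp sw.1 (wordApp sw.2 (4 ^ j))

section
variable {F : Type} [Field F] {ω : F}

theorem gen_decomp (S : F4Setup F ω) {fam : ℕ} {Z : F9} {sw : ℕ × List ℕ}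
    (h : genOK fam Z sw = true) :
    (sw.1 = 1 ∨ sw.1 = 2 ∨ sw.1 = 3) ∧ gM ω fam Z = cd ω sw.1 • (sw.2.map (Tm ω)).prod := by
  unfold genOK at h
  rw [Bool.and_eq_true, List.all_eq_true] at h
  have hs : sw.1 = 1 ∨ sw.1 = 2 ∨ sw.1 = 3 := by
    have := h.1
    rw [Bool.or_eq_true, Bool.or_eq_true, beq_iff_eq, beq_iff_eq, beq_iff_eq] at this
    rcases this with (h1 | h2) | h3
    · exact Or.inl h1
    · exact Or.inr (Or.inl h2)
    · exact Or.inr (Or.inr h3)
  refine ⟨hs, ?_⟩
  apply Matrix.ext_of_mulVec_single
  intro z
  rw [gM_eq S, cdM_single (lift_lt fam Z), Matrix.smul_mulVec, single_eq_dec (ω := ω),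
    wordApp_spec S _ _ (pow4_lt (ix_lt z)), ← sApp_spec S hs _ (wordApp_lt _ (pow4_lt (ix_lt z)))]
  have := h.2 (ix z) (List.mem_range.mpr (ix_lt z))
  rw [beq_iff_eq.mp this]

end

/-- all parameters -/
def allZ : List F9 := [(0, 0), (0, 1), (0, 2), (1, 0), (1, 1), (1, 2), (2, 0), (2, 1), (2, 2)]

theorem mem_allZ (Z : F9) : Z ∈ allZ := by
  revert Z
  apply forall_F9 <;> decide

def wordOf (fam : ℕ) (Z : F9) : ℕ × List ℕ := (wordTbl.getD fam []).getD (ix Z) (1, [])

def wordsOK : Bool :=
  (List.range 5).all fun fam => allZ.all fun Z =>
    !(decide (fam < 3) || decide (Z ≠ 0)) || genOK fam Z (wordOf fam Z)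

theorem wordsOK_true : wordsOK = true := by
  decide +kernel

theorem words_ok {fam : ℕ} (hf : fam < 5) (Z : F9) (h : fam < 3 ∨ Z ≠ 0) :
    genOK fam Z (wordOf fam Z) = true := by
  have := wordsOK_true
  unfold wordsOK at this
  rw [List.all_eq_true] at this
  have := this fam (List.mem_range.mpr hf)
  rw [List.all_eq_true] at this
  have := this Z (mem_allZ Z)
  rw [Bool.or_eq_true] at this
  rcases this with h1 | h1
  · exfalso
    rw [Bool.not_eq_true', Bool.or_eq_false_iff, decide_eq_false_iff_not,
      decide_eq_false_iff_not] at h1
    rcases h with h | h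
    · exact h1.1 h
    · exact h1.2 h
  · exact h1

end Cfsg.Agent.Lib.Helper91_J3Gens
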