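import Cfsg.Agent.Lib.Helper91_J3Orb

set_option autoImplicit false

namespace Cfsg.Agent.Lib.Helper91_J3Main

open Cfsg.Spor Cfsg.Agent.Lib.Helper91_J3Field Cfsg.Agent.Lib.Helper91_J3Vec
  Cfsg.Agent.Lib.Helper91_J3Gens Cfsg.Agent.Lib.Helper91_J3Orb Matrix

/-! ### lists without repetition -/

theorem eq_of_mem_flatMap {α β : Type} {f : α → List β} :
    ∀ {l : List α}, (l.flatMap f).Nodup → ∀ {a b : α} {x : β}, a ∈ l → b ∈ l → x ∈ f a → x ∈ f b →
      a = b := by
  intro l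
  induction l with
  | nil => intro _ a b x ha; cases ha
  | cons c l ih =>
    intro h a b x ha hb hxa hxb
    rw [List.flatMap_cons, List.nodup_append] at h
    obtain ⟨_, h2, h3⟩ := h
    rcases List.mem_cons.mp ha with rfl | ha'
    · rcases List.mem_cons.mp hb with rfl | hb'
      · rfl
      · exact absurd rfl (h3 x hxa x (List.mem_flatMap.mpr ⟨b, hb', hxb⟩))
    · rcases List.mem_cons.mp hb with rfl | hb'
      · exact absurd rfl (h3 x hxb x (List.mem_flatMap.mpr ⟨a, ha', hxa⟩))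
      · exact ih h2 ha' hb' hxa hxb

theorem nodup_of_flatMap {α β : Type} {f : α → List β} (g : α → β) (hg : ∀ a, g a ∈ f a) :
    ∀ {l : List α}, (l.flatMap f).Nodup → l.Nodup := by
  intro l
  induction l with
  | nil => intro _; exact List.nodup_nil
  | cons c l ih =>
    intro h
    rw [List.flatMap_cons, List.nodup_append] at h
    obtain ⟨_, h2, h3⟩ := h
    rw [List.nodup_cons]
    refine ⟨fun hc => ?_, ih h2⟩
    exact absurd rfl (h3 (g c) (hg c) (g c) (List.mem_flatMap.mpr ⟨c, hc, hg c⟩))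

theorem self_mem_tri (v : ℕ) : v ∈ tri v := by unfold tri; simp

/-! ### the first part: counting the images of a line -/

section
variable {F : Type} [Field F] {ω : F}

theorem part1 [Finite F] (S : F4Setup F ω) {P fuel N B : ℕ} {vis : List ℕ}
    (hrun : run fuel P [1] [1] = some vis) (hlen : vis.length = N)
    (hB : mk3chk vis 0 = some B) (hroot : B.testBit 1 = true) (hc : closedChk B vis = true) :
    {L : Submodule F (F9 → F) | ∃ g ∈ threeJ3 F ω,
      L = F ∙ ((g : Matrix F9 F9 F) *ᵥ (Pi.single (0 : F9) (1 : F) : F9 → F))}.ncard = N := by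
  have hroot0 : ∀ x ∈ [1], x < 262144 ∧ Reach ω 1 x := by
    intro x hx
    rw [List.mem_singleton] at hx
    subst hx
    exact ⟨by norm_num, Reach.refl _⟩
  have hreach := run_reach S 1 fuel P [1] [1] vis hroot0 hroot0 hrun
  have hlt : ∀ v ∈ vis, v < 262144 := fun v hv => (hreach v hv).1
  obtain ⟨spec1, _, spec3⟩ := mk3chk_spec vis 0 B hB
  have hsingle : (Pi.single (0 : F9) (1 : F) : F9 → F) = dec ω 1 := by
    have := single_eq_dec (ω := ω) (0 : F9)
    rw [this]
    rfl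
  have h1mem : dec ω 1 ∈ LineSet ω vis := by
    rcases (spec1 1).mp hroot with h | h
    · simp at h
    · exact mem_lineSet_of_mem_tri S hlt h
  have hset : {L : Submodule F (F9 → F) | ∃ g ∈ threeJ3 F ω,
      L = F ∙ ((g : Matrix F9 F9 F) *ᵥ (Pi.single (0 : F9) (1 : F) : F9 → F))} =
      (fun v => F ∙ dec ω v) '' {v | v ∈ vis} := by
    ext L
    constructor
    · rintro ⟨g, hg, rfl⟩
      rw [hsingle]
      obtain ⟨v, hv, c, hc0, e⟩ := lineSet_group S hlt hB hc hg _ h1mem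
      refine ⟨v, hv, ?_⟩
      show F ∙ dec ω v = _
      rw [e, Submodule.span_singleton_smul_eq (IsUnit.mk0 c hc0)]
    · rintro ⟨v, hv, rfl⟩
      obtain ⟨g, hg, e⟩ := (hreach v hv).2
      refine ⟨g, hg, ?_⟩
      show F ∙ dec ω v = _
      rw [hsingle, e]
  have hinj : Set.InjOn (fun v => F ∙ dec ω v) {v | v ∈ vis} := by
    intro v hv v' hv' e
    have e' : F ∙ dec ω v = F ∙ dec ω v' := e
    rw [Submodule.span_singleton_eq_span_singleton] at e'
    obtain ⟨z, hz⟩ := e'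
    obtain ⟨s, hs4, hs⟩ := cd_surj S (z : F)
    have hs0 : s ≠ 0 := by
      rintro rfl
      rw [cd_zero] at hs
      exact z.ne_zero hs.symm
    have hs' : s = 1 ∨ s = 2 ∨ s = 3 := by omega
    have e2 : dec ω (sApp s v) = dec ω v' := by
      rw [sApp_spec S hs' v (hlt v hv), hs, ← hz]
      rfl
    have e3 := dec_inj S (sApp_lt (hlt v hv)) (hlt v' hv') e2
    have hmem : v' ∈ tri v := by
      rw [← e3]
      unfold tri
      rcases hs' with rfl | rfl | rfl
      · show sApp 1 v ∈ _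
        simp [sApp]
      · simp
      · simp
    exact eq_of_mem_flatMap spec3 hv hv' hmem (self_mem_tri v')
  classical
  rw [hset, hinj.ncard_image]
  have hnd : vis.Nodup := nodup_of_flatMap (f := tri) id self_mem_tri spec3
  rw [← List.coe_toFinset, Set.ncard_coe_finset, List.toFinset_card_of_nodup hnd, hlen]

end

/-! ### the second part: transitivity on isotropic lines -/

def cnt3 (x : ℕ) : ℕ :=
  (if x % 4 = 0 then 0 else 1) + (if x / 4 % 4 = 0 then 0 else 1) +
    (if x / 16 % 4 = 0 then 0 else 1)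

/-- every nonzero isotropic vector has its bit set -/
def enumChk (B : ℕ) : Bool :=
  (List.range 64).all fun a => (List.range 64).all fun b => (List.range 64).all fun c =>
    B.testBit (c + 64 * b + 4096 * a) || (c + 64 * b + 4096 * a == 0) ||
      ((cnt3 a + cnt3 b + cnt3 c) % 2 == 1)

section
variable {F : Type} [Field F] {ω : F}

theorem cast_odd (S : F4Setup F ω) {k : ℕ} (hk : k % 2 = 1) : ((k : ℕ) : F) = 1 := by
  have : k = 2 * (k / 2) + 1 := by omega
  rw [this]
  push_cast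
  rw [S.two, zero_mul, zero_add]

theorem cube_dig (S : F4Setup F ω) (n i : ℕ) :
    cd ω (dig n i) ^ 3 = (((if dig n i = 0 then 0 else 1 : ℕ)) : F) := by
  rw [cd_cube S (dig_lt n i)]
  split_ifs <;> simp

theorem iso_cnt (S : F4Setup F ω) {a b c : ℕ} (ha : a < 64) (hb : b < 64) (hc : c < 64) :
    ∑ z, dec ω (c + 64 * b + 4096 * a) z ^ 3 = ((cnt3 a + cnt3 b + cnt3 c : ℕ) : F) := by
  rw [sum_F9]
  show cd ω (dig _ (ix (0, 0))) ^ 3 + cd ω (dig _ (ix (0, 1))) ^ 3 + cd ω (dig _ (ix (0, 2))) ^ 3 +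
    cd ω (dig _ (ix (1, 0))) ^ 3 + cd ω (dig _ (ix (1, 1))) ^ 3 + cd ω (dig _ (ix (1, 2))) ^ 3 +
    cd ω (dig _ (ix (2, 0))) ^ 3 + cd ω (dig _ (ix (2, 1))) ^ 3 + cd ω (dig _ (ix (2, 2))) ^ 3 = _
  simp only [ix_00, ix_01, ix_02, ix_10, ix_11, ix_12, ix_20, ix_21, ix_22, cube_dig S]
  have e0 : dig (c + 64 * b + 4096 * a) 0 = c % 4 := by unfold dig; norm_num <;> omega
  have e1 : dig (c + 64 * b + 4096 * a) 1 = c / 4 % 4 := by unfold dig; norm_num <;> omega
  have e2 : dig (c + 64 * b + 4096 * a) 2 = c / 16 % 4 := by unfold dig; norm_num <;> omega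
  have e3 : dig (c + 64 * b + 4096 * a) 3 = b % 4 := by unfold dig; norm_num <;> omega
  have e4 : dig (c + 64 * b + 4096 * a) 4 = b / 4 % 4 := by unfold dig; norm_num <;> omega
  have e5 : dig (c + 64 * b + 4096 * a) 5 = b / 16 % 4 := by unfold dig; norm_num <;> omega
  have e6 : dig (c + 64 * b + 4096 * a) 6 = a % 4 := by unfold dig; norm_num <;> omega
  have e7 : dig (c + 64 * b + 4096 * a) 7 = a / 4 % 4 := by unfold dig; norm_num <;> omega
  have e8 : dig (c + 64 * b + 4096 * a) 8 = a / 16 % 4 := by unfold dig; norm_num <;> omega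
  rw [e0, e1, e2, e3, e4, e5, e6, e7, e8]
  unfold cnt3
  push_cast
  ring

theorem part2_key (S : F4Setup F ω) {P fuel r B : ℕ} {vis : List ℕ} (hr : r < 262144)
    (hrun : run fuel P [r] [r] = some vis) (hB : mk3chk vis 0 = some B)
    (he : enumChk B = true) (v : F9 → F) (hv : v ≠ 0) (hiso : ∑ z, v z ^ 3 = 0) :
    ∃ g ∈ threeJ3 F ω, ∃ c : F, c ≠ 0 ∧ (g : Matrix F9 F9 F) *ᵥ dec ω r = c • v := by
  have hroot0 : ∀ x ∈ [r], x < 262144 ∧ Reach ω r x := by
    intro x hx
    rw [List.mem_singleton] at hx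
    subst hx
    exact ⟨hr, Reach.refl _⟩
  have hreach := run_reach S r fuel P [r] [r] vis hroot0 hroot0 hrun
  have hlt : ∀ v ∈ vis, v < 262144 := fun v hv => (hreach v hv).1
  obtain ⟨spec1, _, _⟩ := mk3chk_spec vis 0 B hB
  obtain ⟨n, hn, rfl⟩ := dec_surj S v
  have hn0 : n ≠ 0 := by
    rintro rfl
    exact hv dec_zero
  -- split `n` into its three blocks
  have hsplit : n = n % 64 + 64 * (n / 64 % 64) + 4096 * (n / 4096) := by omega
  unfold enumChk at he
  rw [List.all_eq_true] at he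
  have h1 := he (n / 4096) (List.mem_range.mpr (by omega))
  rw [List.all_eq_true] at h1
  have h2 := h1 (n / 64 % 64) (List.mem_range.mpr (Nat.mod_lt _ (by norm_num)))
  rw [List.all_eq_true] at h2
  have h3 := h2 (n % 64) (List.mem_range.mpr (Nat.mod_lt _ (by norm_num)))
  rw [← hsplit, Bool.or_eq_true, Bool.or_eq_true, beq_iff_eq, beq_iff_eq] at h3
  have hbit : B.testBit n = true := by
    rcases h3 with (h | h) | h
    · exact h
    · exact absurd h hn0
    · exfalso
      have hc := iso_cnt (ω := ω) S (a := n / 4096) (b := n / 64 % 64) (c := n % 64) (by omega)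
        (Nat.mod_lt _ (by norm_num)) (Nat.mod_lt _ (by norm_num))
      rw [← hsplit, hiso, cast_odd S h] at hc
      exact zero_ne_one hc
  rcases (spec1 n).mp hbit with h | h
  · simp at h
  · obtain ⟨a, ha, c, hc0, e⟩ := mem_lineSet_of_mem_tri S hlt h
    obtain ⟨g, hg, eg⟩ := (hreach a ha).2
    refine ⟨g, hg, c⁻¹, inv_ne_zero hc0, ?_⟩
    rw [eg, e, smul_smul, inv_mul_cancel₀ hc0, one_smul]

theorem part2 (S : F4Setup F ω) {P fuel r B : ℕ} {vis : List ℕ} (hr : r < 262144)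
    (hrun : run fuel P [r] [r] = some vis) (hB : mk3chk vis 0 = some B)
    (he : enumChk B = true) (v w : F9 → F) (hv : v ≠ 0) (hw : w ≠ 0)
    (hvi : ∑ z, v z ^ 3 = 0) (hwi : ∑ z, w z ^ 3 = 0) :
    ∃ g ∈ threeJ3 F ω, ∃ c : F, c ≠ 0 ∧ (g : Matrix F9 F9 F) *ᵥ v = c • w := by
  obtain ⟨g1, hg1, c1, hc1, e1⟩ := part2_key S hr hrun hB he v hv hvi
  obtain ⟨g2, hg2, c2, hc2, e2⟩ := part2_key S hr hrun hB he w hw hwi
  refine ⟨g2 * g1⁻¹, Subgroup.mul_mem _ hg2 (Subgroup.inv_mem _ hg1), c1⁻¹ * c2,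
    mul_ne_zero (inv_ne_zero hc1) hc2, ?_⟩
  have hv' : v = c1⁻¹ • ((g1 : Matrix F9 F9 F) *ᵥ dec ω r) := by
    rw [e1, smul_smul, inv_mul_cancel₀ hc1, one_smul]
  have hinv : ((g1⁻¹ : GL F9 F) : Matrix F9 F9 F) *ᵥ ((g1 : Matrix F9 F9 F) *ᵥ dec ω r) = dec ω r := by
    rw [Matrix.mulVec_mulVec, ← Units.val_mul, inv_mul_cancel]
    simp
  rw [Matrix.GeneralLinearGroup.coe_mul, ← Matrix.mulVec_mulVec]
  conv_lhs => rw [hv']
  rw [Matrix.mulVec_smul, hinv, Matrix.mulVec_smul, e2, smul_smul]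

end

end Cfsg.Agent.Lib.Helper91_J3Main
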