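import Cfsg.Agent.Lib.Helper91_J3Gens

set_option autoImplicit false

namespace Cfsg.Agent.Lib.Helper91_J3Orb

open Cfsg.Spor Cfsg.Agent.Lib.Helper91_J3Field Cfsg.Agent.Lib.Helper91_J3Vec
  Cfsg.Agent.Lib.Helper91_J3Gens Matrix

/-! ### the chosen generators lie in the group -/

def Tord : ℕ → ℕ
  | 1 => 3
  | 2 => 9
  | 3 => 8
  | 4 => 2
  | _ => 3

theorem T_ord_ok : ∀ k, k < 5 → ∀ j, j < 9 → wordApp (List.replicate (Tord k) k) (4 ^ j) = 4 ^ j := by
  decide +kernel

section
variable {F : Type} [Field F] {ω : F}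

theorem Tm_red (k : ℕ) : ∃ k', k' < 5 ∧ Tm ω k = Tm ω k' := by
  obtain ⟨k', hk', e1, _, _⟩ := T_red k
  exact ⟨k', hk', by unfold Tm; rw [e1]⟩

theorem Tm_pow (S : F4Setup F ω) {k : ℕ} (hk : k < 5) : Tm ω k ^ Tord k = 1 := by
  apply Matrix.ext_of_mulVec_single
  intro z
  rw [← List.prod_replicate, ← List.map_replicate (f := Tm ω), single_eq_dec (ω := ω),
    wordApp_spec S _ _ (pow4_lt (ix_lt z)), T_ord_ok k hk _ (ix_lt z), Matrix.one_mulVec]

theorem Tord_pos (k : ℕ) : 0 < Tord k := by
  unfold Tord; split <;> norm_num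

theorem Tm_mem_gens (k : ℕ) : Tm ω k ∈ j3Gens F ω := by
  obtain ⟨k', hk', e⟩ := Tm_red (ω := ω) k
  rw [e]
  unfold j3Gens
  interval_cases k'
  · exact Or.inl (Or.inl (Or.inl (Or.inl ⟨(1, 0), rfl⟩)))
  · exact Or.inl (Or.inl (Or.inl (Or.inr ⟨(0, 0), rfl⟩)))
  · exact Or.inl (Or.inl (Or.inr ⟨(1, 0), rfl⟩))
  · exact Or.inl (Or.inr ⟨(1, 1), by decide, rfl⟩)
  · exact Or.inr ⟨(1, 0), by decide, rfl⟩

theorem Tm_in_group (S : F4Setup F ω) (k : ℕ) :
    ∃ g ∈ threeJ3 F ω, (g : Matrix F9 F9 F) = Tm ω k := by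
  obtain ⟨k', hk', e⟩ := Tm_red (ω := ω) k
  have hp := Tm_pow S hk'
  have hpos := Tord_pos k'
  obtain ⟨n, hn⟩ : ∃ n, Tord k' = n + 1 := ⟨Tord k' - 1, by omega⟩
  rw [hn] at hp
  let g : GL F9 F := ⟨Tm ω k', Tm ω k' ^ n, by rw [← pow_succ', hp], by rw [← pow_succ, hp]⟩
  refine ⟨g, Subgroup.subset_closure ?_, e.symm⟩
  show Tm ω k' ∈ j3Gens F ω
  exact Tm_mem_gens k'

/-- `y` is the image of `x` under an element of the group -/
def Reach (ω : F) (x y : ℕ) : Prop :=
  ∃ g ∈ threeJ3 F ω, (g : Matrix F9 F9 F) *ᵥ dec ω x = dec ω y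

theorem Reach.refl (x : ℕ) : Reach ω x x :=
  ⟨1, Subgroup.one_mem _, by rw [Matrix.GeneralLinearGroup.coe_one, Matrix.one_mulVec]⟩

theorem Reach.trans {x y z : ℕ} (h1 : Reach ω x y) (h2 : Reach ω y z) : Reach ω x z := by
  obtain ⟨g, hg, e1⟩ := h1
  obtain ⟨f, hf, e2⟩ := h2
  refine ⟨f * g, Subgroup.mul_mem _ hf hg, ?_⟩
  rw [Matrix.GeneralLinearGroup.coe_mul, ← Matrix.mulVec_mulVec, e1, e2]

theorem reach_appT (S : F4Setup F ω) (k : ℕ) {x : ℕ} (hx : x < 262144) :
    Reach ω x (appT k x) := by
  obtain ⟨g, hg, e⟩ := Tm_in_group S k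
  exact ⟨g, hg, by rw [e, appT_spec S k x hx]⟩

end

/-! ### the traversal -/

/-- the traversal: digit `0` pops the stack, digit `k+1` applies generator `k` to the top of the
stack, pushes the result and records it -/
def run : ℕ → ℕ → List ℕ → List ℕ → Option (List ℕ)
  | 0, _, _, acc => some acc
  | f + 1, P, st, acc =>
    if P = 0 then some acc
    else
      match P % 8 with
      | 0 => run f (P / 8) st.tail acc
      | k + 1 =>
        match st with
        | [] => none
        | top :: rest =>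
          match appT k top with
          | 0 => none
          | m + 1 => run f (P / 8) ((m + 1) :: top :: rest) ((m + 1) :: acc)

section
variable {F : Type} [Field F] {ω : F}

theorem run_reach (S : F4Setup F ω) (root : ℕ) :
    ∀ (f P : ℕ) (st acc vis : List ℕ), (∀ x ∈ st, x < 262144 ∧ Reach ω root x) →
      (∀ x ∈ acc, x < 262144 ∧ Reach ω root x) → run f P st acc = some vis →
      ∀ x ∈ vis, x < 262144 ∧ Reach ω root x := by
  intro f
  induction f with
  | zero =>
    intro P st acc vis _ hacc h x hx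
    unfold run at h
    cases h
    exact hacc x hx
  | succ f ih =>
    intro P st acc vis hst hacc h x hx
    unfold run at h
    by_cases hP : P = 0
    · rw [if_pos hP] at h
      cases h
      exact hacc x hx
    · rw [if_neg hP] at h
      split at h
      · exact ih _ _ _ _ (fun y hy => hst y (List.mem_of_mem_tail hy)) hacc h x hx
      · rename_i k _
        split at h
        · cases h
        · rename_i top rest
          split at h
          · cases h
          · rename_i m hm
            have htop := hst top List.mem_cons_self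
            have hnew : m + 1 < 262144 ∧ Reach ω root (m + 1) := by
              have hm' : appT k top = m + 1 := hm
              rw [← hm']
              exact ⟨appT_lt _ _, htop.2.trans (reach_appT S k htop.1)⟩
            refine ih _ _ _ _ ?_ ?_ h x hx
            · intro y hy
              rcases List.mem_cons.mp hy with rfl | hy
              · exact hnew
              · exact hst y hy
            · intro y hy
              rcases List.mem_cons.mp hy with rfl | hy
              · exact hnew
              · exact hacc y hy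

end

/-! ### bit sets -/

def setNew (B v : ℕ) : Option ℕ := if B.testBit v then none else some (B ||| 2 ^ v)

theorem setNew_some {B v B' : ℕ} (h : setNew B v = some B') :
    B.testBit v = false ∧ ∀ n, B'.testBit n = (B.testBit n || decide (v = n)) := by
  unfold setNew at h
  by_cases hb : B.testBit v = true
  · rw [if_pos hb] at h; cases h
  · rw [if_neg hb] at h
    cases h
    refine ⟨by simpa using hb, fun n => ?_⟩
    rw [Nat.testBit_or, Nat.testBit_two_pow]

/-- the three multiples of a vector -/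
def tri (v : ℕ) : List ℕ := [v, sApp 2 v, sApp 3 v]

def mk3chk : List ℕ → ℕ → Option ℕ
  | [], B => some B
  | v :: vs, B =>
    (setNew B v).bind fun B1 => (setNew B1 (sApp 2 v)).bind fun B2 =>
      (setNew B2 (sApp 3 v)).bind fun B3 => mk3chk vs B3

theorem mk3chk_spec : ∀ (vs : List ℕ) (B B' : ℕ), mk3chk vs B = some B' →
    (∀ n, B'.testBit n = true ↔ (B.testBit n = true ∨ n ∈ vs.flatMap tri)) ∧
    (∀ n ∈ vs.flatMap tri, B.testBit n = false) ∧ (vs.flatMap tri).Nodup := by
  intro vs
  induction vs with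
  | nil =>
    intro B B' h
    unfold mk3chk at h
    cases h
    simp
  | cons v vs ih =>
    intro B B' h
    unfold mk3chk at h
    rcases h1 : setNew B v with _ | B1
    · rw [h1] at h; cases h
    rw [h1, Option.bind_some] at h
    rcases h2 : setNew B1 (sApp 2 v) with _ | B2
    · rw [h2] at h; cases h
    rw [h2, Option.bind_some] at h
    rcases h3 : setNew B2 (sApp 3 v) with _ | B3
    · rw [h3] at h; cases h
    rw [h3, Option.bind_some] at h
    obtain ⟨a1, b1⟩ := setNew_some h1
    obtain ⟨a2, b2⟩ := setNew_some h2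
    obtain ⟨a3, b3⟩ := setNew_some h3
    obtain ⟨i1, i2, i3⟩ := ih B3 B' h
    have hB3 : ∀ n, B3.testBit n = true ↔ (B.testBit n = true ∨ n ∈ tri v) := by
      intro n
      rw [b3, b2, b1]
      unfold tri
      simp only [Bool.or_eq_true, decide_eq_true_eq, List.mem_cons, List.not_mem_nil, or_false]
      constructor
      · rintro (((h | h) | h) | h)
        · exact Or.inl h
        · exact Or.inr (Or.inl h.symm)
        · exact Or.inr (Or.inr (Or.inl h.symm))
        · exact Or.inr (Or.inr (Or.inr h.symm))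
      · rintro (h | h | h | h)
        · exact Or.inl (Or.inl (Or.inl h))
        · exact Or.inl (Or.inl (Or.inr h.symm))
        · exact Or.inl (Or.inr h.symm)
        · exact Or.inr h.symm
    have hfalse : ∀ n, B3.testBit n = false → B.testBit n = false ∧ n ∉ tri v := by
      intro n hn
      have := (hB3 n).not
      rw [hn] at this
      simp only [Bool.false_eq_true, not_false_eq_true, not_or, true_iff] at this
      exact ⟨by simpa using this.1, this.2⟩
    rw [List.flatMap_cons]
    refine ⟨?_, ?_, ?_⟩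
    · intro n
      rw [i1 n, hB3 n, List.mem_append, or_assoc]
    · intro n hn
      rcases List.mem_append.mp hn with hn | hn
      · unfold tri at hn
        simp only [List.mem_cons, List.not_mem_nil, or_false] at hn
        rcases hn with rfl | rfl | rfl
        · exact a1
        · have := a2; rw [b1] at this
          simp only [Bool.or_eq_false_iff] at this
          exact this.1
        · have := a3; rw [b2, b1] at this
          simp only [Bool.or_eq_false_iff] at this
          exact this.1.1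
      · exact (hfalse n (i2 n hn)).1
    · rw [List.nodup_append]
      refine ⟨?_, i3, ?_⟩
      · unfold tri
        have e12 : v ≠ sApp 2 v := by
          intro e
          have := a2; rw [b1, ← e] at this
          simp at this
        have e13 : v ≠ sApp 3 v := by
          intro e
          have := a3; rw [b2, b1, ← e] at this
          simp at this
        have e23 : sApp 2 v ≠ sApp 3 v := by
          intro e
          have := a3; rw [b2, ← e] at this
          simp at this
        simp only [List.nodup_cons, List.mem_cons, List.not_mem_nil, or_false, not_or,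
          not_false_eq_true, List.nodup_nil, and_true]
        exact ⟨⟨e12, e13⟩, e23⟩
      · intro a ha b hb e
        subst e
        exact (hfalse a (i2 a hb)).2 ha

/-- the set of all nonzero multiples of the vectors of a list -/
def LineSet {F : Type} [Field F] (ω : F) (vis : List ℕ) : Set (F9 → F) :=
  {y | ∃ v ∈ vis, ∃ c : F, c ≠ 0 ∧ y = c • dec ω v}

section
variable {F : Type} [Field F] {ω : F}

theorem cd_ne_zero (S : F4Setup F ω) {s : ℕ} (hs : s = 1 ∨ s = 2 ∨ s = 3) : cd ω s ≠ 0 := by
  intro h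
  have : s < 4 := by omega
  have := (cd_eq_zero S this).mp h
  omega

theorem mem_lineSet_of_mem_tri (S : F4Setup F ω) {vis : List ℕ} (hlt : ∀ v ∈ vis, v < 262144)
    {n : ℕ} (h : n ∈ vis.flatMap tri) : dec ω n ∈ LineSet ω vis := by
  rw [List.mem_flatMap] at h
  obtain ⟨v, hv, hn⟩ := h
  unfold tri at hn
  simp only [List.mem_cons, List.not_mem_nil, or_false] at hn
  rcases hn with rfl | rfl | rfl
  · exact ⟨n, hv, 1, one_ne_zero, by rw [one_smul]⟩
  · exact ⟨v, hv, cd ω 2, cd_ne_zero S (by norm_num),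
      sApp_spec S (by norm_num) v (hlt v hv)⟩
  · exact ⟨v, hv, cd ω 3, cd_ne_zero S (by norm_num),
      sApp_spec S (by norm_num) v (hlt v hv)⟩

theorem lineSet_smul {vis : List ℕ} {y : F9 → F} (hy : y ∈ LineSet ω vis) {c : F} (hc : c ≠ 0) :
    c • y ∈ LineSet ω vis := by
  obtain ⟨v, hv, c', hc', rfl⟩ := hy
  exact ⟨v, hv, c * c', mul_ne_zero hc hc', by rw [smul_smul]⟩

/-- the check that the bit set is closed under the chosen generators -/
def closedChk (B : ℕ) (vis : List ℕ) : Bool :=
  vis.all fun v => (List.range 5).all fun k => B.testBit (appT k v)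

theorem lineSet_Tm (S : F4Setup F ω) {vis : List ℕ} {B : ℕ} (hlt : ∀ v ∈ vis, v < 262144)
    (hB : mk3chk vis 0 = some B) (hc : closedChk B vis = true) (k : ℕ) {y : F9 → F}
    (hy : y ∈ LineSet ω vis) : Tm ω k *ᵥ y ∈ LineSet ω vis := by
  obtain ⟨k', hk', e⟩ := Tm_red (ω := ω) k
  rw [e]
  obtain ⟨v, hv, c, hc0, rfl⟩ := hy
  rw [Matrix.mulVec_smul, appT_spec S k' v (hlt v hv)]
  apply lineSet_smul _ hc0
  unfold closedChk at hc
  rw [List.all_eq_true] at hc
  have := hc v hv
  rw [List.all_eq_true] at this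
  have hbit := this k' (List.mem_range.mpr hk')
  have := ((mk3chk_spec vis 0 B hB).1 _).mp hbit
  rcases this with h0 | h1
  · simp at h0
  · exact mem_lineSet_of_mem_tri S hlt h1

theorem lineSet_word (S : F4Setup F ω) {vis : List ℕ} {B : ℕ} (hlt : ∀ v ∈ vis, v < 262144)
    (hB : mk3chk vis 0 = some B) (hc : closedChk B vis = true) (w : List ℕ) {y : F9 → F}
    (hy : y ∈ LineSet ω vis) : (w.map (Tm ω)).prod *ᵥ y ∈ LineSet ω vis := by
  induction w with
  | nil => simpa using hy
  | cons k w ih =>
    rw [List.map_cons, List.prod_cons, ← Matrix.mulVec_mulVec]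
    exact lineSet_Tm S hlt hB hc k ih

theorem gens_decomp (S : F4Setup F ω) {M : Matrix F9 F9 F} (hM : M ∈ j3Gens F ω) :
    ∃ (s : ℕ) (w : List ℕ), (s = 1 ∨ s = 2 ∨ s = 3) ∧ M = cd ω s • (w.map (Tm ω)).prod := by
  have key : ∀ fam, fam < 5 → ∀ Z : F9, (fam < 3 ∨ Z ≠ 0) →
      ∃ (s : ℕ) (w : List ℕ), (s = 1 ∨ s = 2 ∨ s = 3) ∧ gM ω fam Z = cd ω s • (w.map (Tm ω)).prod := by
    intro fam hf Z hZ
    obtain ⟨h1, h2⟩ := gen_decomp S (words_ok hf Z hZ)
    exact ⟨_, _, h1, h2⟩
  unfold j3Gens at hM
  rcases hM with (((⟨Z, rfl⟩ | ⟨Z, rfl⟩) | ⟨Z, rfl⟩) | ⟨Z, hZ, rfl⟩) | ⟨Z, hZ, rfl⟩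
  · exact key 0 (by norm_num) Z (Or.inl (by norm_num))
  · exact key 1 (by norm_num) Z (Or.inl (by norm_num))
  · exact key 2 (by norm_num) Z (Or.inl (by norm_num))
  · exact key 3 (by norm_num) Z (Or.inr hZ)
  · exact key 4 (by norm_num) Z (Or.inr hZ)

theorem lineSet_group [Finite F] (S : F4Setup F ω) {vis : List ℕ} {B : ℕ}
    (hlt : ∀ v ∈ vis, v < 262144) (hB : mk3chk vis 0 = some B) (hc : closedChk B vis = true)
    {g : GL F9 F} (hg : g ∈ threeJ3 F ω) :
    ∀ y ∈ LineSet ω vis, (g : Matrix F9 F9 F) *ᵥ y ∈ LineSet ω vis := by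
  unfold threeJ3 at hg
  induction hg using Subgroup.closure_induction with
  | mem x hx =>
    intro y hy
    obtain ⟨s, w, hs, e⟩ := gens_decomp S hx
    rw [e, Matrix.smul_mulVec]
    exact lineSet_smul (lineSet_word S hlt hB hc w hy) (cd_ne_zero S hs)
  | one =>
    intro y hy
    rwa [Matrix.GeneralLinearGroup.coe_one, Matrix.one_mulVec]
  | mul x z _ _ hx hz =>
    intro y hy
    rw [Matrix.GeneralLinearGroup.coe_mul, ← Matrix.mulVec_mulVec]
    exact hx _ (hz _ hy)
  | inv x _ hx =>
    intro y hy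
    have hfin : (LineSet ω vis).Finite := Set.toFinite _
    have hmaps : Set.MapsTo (fun y => (x : Matrix F9 F9 F) *ᵥ y) (LineSet ω vis) (LineSet ω vis) :=
      fun y hy => hx y hy
    have hinj : Set.InjOn (fun y => (x : Matrix F9 F9 F) *ᵥ y) (LineSet ω vis) := by
      intro a _ b _ hab
      have : (x⁻¹ : GL F9 F).1 *ᵥ ((x : Matrix F9 F9 F) *ᵥ a) =
          (x⁻¹ : GL F9 F).1 *ᵥ ((x : Matrix F9 F9 F) *ᵥ b) := by
        show (x⁻¹ : GL F9 F).1 *ᵥ ((fun y => (x : Matrix F9 F9 F) *ᵥ y) a) = _
        rw [hab]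
      rw [Matrix.mulVec_mulVec, Matrix.mulVec_mulVec, ← Units.val_mul, inv_mul_cancel] at this
      simpa using this
    obtain ⟨y', hy', e⟩ := ((hfin.injOn_iff_bijOn_of_mapsTo hmaps).mp hinj).surjOn hy
    have e' : (x : Matrix F9 F9 F) *ᵥ y' = y := e
    rw [← e', Matrix.mulVec_mulVec, ← Units.val_mul, inv_mul_cancel]
    simpa using hy'

end

end Cfsg.Agent.Lib.Helper91_J3Orb
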