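import Cfsg.Prelude.Def_Spor_J3
import Cfsg.Agent.Lib.Helper91_J3Field

set_option autoImplicit false

namespace Cfsg.Agent.Lib.Helper91_J3Vec

open Cfsg.Spor Cfsg.Agent.Lib.Helper91_J3Field Matrix

/-- position of a coordinate -/
def ix (z : F9) : ℕ := 3 * z.1.val + z.2.val

/-- digit `i` in base four -/
def dig (n i : ℕ) : ℕ := n / 4 ^ i % 4

theorem dig_lt (n i : ℕ) : dig n i < 4 := Nat.mod_lt _ (by norm_num)

theorem dig_xor (a b i : ℕ) : dig (a ^^^ b) i = dig a i ^^^ dig b i := by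
  unfold dig
  have h4 : (4 : ℕ) ^ i = 2 ^ (2 * i) := by rw [pow_mul]; norm_num
  have h : (4 : ℕ) = 2 ^ 2 := by norm_num
  rw [h4, ← Nat.shiftRight_eq_div_pow, ← Nat.shiftRight_eq_div_pow, ← Nat.shiftRight_eq_div_pow,
    Nat.shiftRight_xor_distrib]
  conv_lhs => rw [h]
  rw [Nat.xor_mod_two_pow]

theorem ix_lt (z : F9) : ix z < 9 := by
  obtain ⟨x, y⟩ := z
  have hx := ZMod.val_lt x
  have hy := ZMod.val_lt y
  unfold ix
  simp only
  omega

theorem ix_inj {w z : F9} (h : ix w = ix z) : w = z := by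
  obtain ⟨x, y⟩ := w
  obtain ⟨x', y'⟩ := z
  have hx := ZMod.val_lt x
  have hy := ZMod.val_lt y
  have hx' := ZMod.val_lt x'
  have hy' := ZMod.val_lt y'
  unfold ix at h
  simp only at h
  have h1 : x.val = x'.val := by omega
  have h2 : y.val = y'.val := by omega
  rw [ZMod.val_injective 3 h1, ZMod.val_injective 3 h2]

section
variable {F : Type} [Field F]

/-- the vector of a packed number -/
def dec (ω : F) (n : ℕ) : F9 → F := fun z => cd ω (dig n (ix z))

variable {ω : F}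

theorem dec_xor (S : F4Setup F ω) (a b : ℕ) : dec ω (a ^^^ b) = dec ω a + dec ω b := by
  funext z
  show cd ω (dig (a ^^^ b) (ix z)) = cd ω (dig a (ix z)) + cd ω (dig b (ix z))
  rw [dig_xor, cd_xor S (dig_lt _ _) (dig_lt _ _)]

theorem dec_zero : dec ω 0 = 0 := by
  funext z
  show cd ω (dig 0 (ix z)) = 0
  unfold dig
  simp

end

/-- the nine coordinates -/
theorem sum_F9 {M : Type} [AddCommMonoid M] (f : F9 → M) :
    ∑ z, f z = f (0, 0) + f (0, 1) + f (0, 2) + f (1, 0) + f (1, 1) + f (1, 2) + f (2, 0) +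
      f (2, 1) + f (2, 2) := by
  rw [Fintype.sum_prod_type]
  have h3 : ∀ g : ZMod 3 → M, ∑ x, g x = g 0 + g 1 + g 2 := fun g => Fin.sum_univ_three g
  rw [h3]
  simp only [h3]
  abel

theorem forall_F9 {p : F9 → Prop} (h0 : p (0, 0)) (h1 : p (0, 1)) (h2 : p (0, 2)) (h3 : p (1, 0))
    (h4 : p (1, 1)) (h5 : p (1, 2)) (h6 : p (2, 0)) (h7 : p (2, 1)) (h8 : p (2, 2)) :
    ∀ z, p z := by
  rintro ⟨x, y⟩
  fin_cases x <;> fin_cases y <;> assumption

@[simp] theorem ix_00 : ix (0, 0) = 0 := rfl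
@[simp] theorem ix_01 : ix (0, 1) = 1 := rfl
@[simp] theorem ix_02 : ix (0, 2) = 2 := rfl
@[simp] theorem ix_10 : ix (1, 0) = 3 := rfl
@[simp] theorem ix_11 : ix (1, 1) = 4 := rfl
@[simp] theorem ix_12 : ix (1, 2) = 5 := rfl
@[simp] theorem ix_20 : ix (2, 0) = 6 := rfl
@[simp] theorem ix_21 : ix (2, 1) = 7 := rfl
@[simp] theorem ix_22 : ix (2, 2) = 8 := rfl

section
variable {F : Type} [Field F] {ω : F}

theorem dec_surj (S : F4Setup F ω) (v : F9 → F) : ∃ n, n < 262144 ∧ dec ω n = v := by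
  choose k hk hkv using fun z => cd_surj S (v z)
  refine ⟨k (0, 0) + 4 * k (0, 1) + 16 * k (0, 2) + 64 * k (1, 0) + 256 * k (1, 1) +
    1024 * k (1, 2) + 4096 * k (2, 0) + 16384 * k (2, 1) + 65536 * k (2, 2), ?_, ?_⟩
  · have h0 := hk (0, 0); have h1 := hk (0, 1); have h2 := hk (0, 2); have h3 := hk (1, 0)
    have h4 := hk (1, 1); have h5 := hk (1, 2); have h6 := hk (2, 0); have h7 := hk (2, 1)
    have h8 := hk (2, 2)
    omega
  · have h0 := hk (0, 0); have h1 := hk (0, 1); have h2 := hk (0, 2); have h3 := hk (1, 0)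
    have h4 := hk (1, 1); have h5 := hk (1, 2); have h6 := hk (2, 0); have h7 := hk (2, 1)
    have h8 := hk (2, 2)
    funext z
    rw [← hkv z]
    show cd ω (dig _ (ix z)) = cd ω (k z)
    congr 1
    revert z
    apply forall_F9 <;> simp only [ix_00, ix_01, ix_02, ix_10, ix_11, ix_12, ix_20, ix_21, ix_22] <;>
      unfold dig <;> norm_num <;> omega

theorem dig_eq_of_dec_eq (S : F4Setup F ω) {a b : ℕ} (h : dec ω a = dec ω b) (z : F9) :
    dig a (ix z) = dig b (ix z) :=
  cd_inj S (dig_lt _ _) (dig_lt _ _) (congrFun h z)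

theorem eq_of_digs {a b : ℕ} (ha : a < 262144) (hb : b < 262144)
    (h : ∀ i, i < 9 → dig a i = dig b i) : a = b := by
  have h0 := h 0 (by norm_num); have h1 := h 1 (by norm_num); have h2 := h 2 (by norm_num)
  have h3 := h 3 (by norm_num); have h4 := h 4 (by norm_num); have h5 := h 5 (by norm_num)
  have h6 := h 6 (by norm_num); have h7 := h 7 (by norm_num); have h8 := h 8 (by norm_num)
  unfold dig at h0 h1 h2 h3 h4 h5 h6 h7 h8
  norm_num at h0 h1 h2 h3 h4 h5 h6 h7 h8
  omega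

theorem dec_inj (S : F4Setup F ω) {a b : ℕ} (ha : a < 262144) (hb : b < 262144)
    (h : dec ω a = dec ω b) : a = b := by
  apply eq_of_digs ha hb
  intro i hi
  have e := dig_eq_of_dec_eq S h
  interval_cases i
  · exact e (0, 0)
  · exact e (0, 1)
  · exact e (0, 2)
  · exact e (1, 0)
  · exact e (1, 1)
  · exact e (1, 2)
  · exact e (2, 0)
  · exact e (2, 1)
  · exact e (2, 2)

theorem dec_eq_zero (S : F4Setup F ω) {a : ℕ} (ha : a < 262144) (h : dec ω a = 0) : a = 0 := by
  apply dec_inj S ha (by norm_num)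
  rw [h, dec_zero]

end

/-! ### coded matrices -/

/-- exclusive or of `f 0, …, f (k-1)` -/
def xors (f : ℕ → ℕ) : ℕ → ℕ
  | 0 => 0
  | k + 1 => xors f k ^^^ f k

theorem xor_lt4 {a b : ℕ} (ha : a < 4) (hb : b < 4) : a ^^^ b < 4 :=
  Nat.xor_lt_two_pow (n := 2) ha hb

theorem xors_lt {f : ℕ → ℕ} (hf : ∀ j, f j < 4) : ∀ k, xors f k < 4
  | 0 => by norm_num [xors]
  | k + 1 => xor_lt4 (xors_lt hf k) (hf k)

/-- a row of the product of a coded matrix with a packed vector -/
def rowc (m : ℕ → ℕ → ℕ) (n i : ℕ) : ℕ := xors (fun j => mulc (m i j) (dig n j)) 9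

theorem rowc_lt (m : ℕ → ℕ → ℕ) (n i : ℕ) : rowc m n i < 4 := xors_lt (fun _ => mulc_lt _ _) 9

/-- the product of a coded matrix with a packed vector, digit by digit -/
def slowApp (m : ℕ → ℕ → ℕ) (n : ℕ) : ℕ :=
  rowc m n 0 + 4 * rowc m n 1 + 16 * rowc m n 2 + 64 * rowc m n 3 + 256 * rowc m n 4 +
    1024 * rowc m n 5 + 4096 * rowc m n 6 + 16384 * rowc m n 7 + 65536 * rowc m n 8

theorem slowApp_lt (m : ℕ → ℕ → ℕ) (n : ℕ) : slowApp m n < 262144 := by
  have h0 := rowc_lt m n 0; have h1 := rowc_lt m n 1; have h2 := rowc_lt m n 2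
  have h3 := rowc_lt m n 3; have h4 := rowc_lt m n 4; have h5 := rowc_lt m n 5
  have h6 := rowc_lt m n 6; have h7 := rowc_lt m n 7; have h8 := rowc_lt m n 8
  unfold slowApp
  omega

theorem dig_slowApp (m : ℕ → ℕ → ℕ) (n : ℕ) {i : ℕ} (hi : i < 9) :
    dig (slowApp m n) i = rowc m n i := by
  have h0 := rowc_lt m n 0; have h1 := rowc_lt m n 1; have h2 := rowc_lt m n 2
  have h3 := rowc_lt m n 3; have h4 := rowc_lt m n 4; have h5 := rowc_lt m n 5
  have h6 := rowc_lt m n 6; have h7 := rowc_lt m n 7; have h8 := rowc_lt m n 8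
  unfold slowApp dig
  interval_cases i <;> norm_num <;> omega

section
variable {F : Type} [Field F]

/-- the matrix of a table of codes -/
def cdM (ω : F) (m : ℕ → ℕ → ℕ) : Matrix F9 F9 F := Matrix.of fun w z => cd ω (m (ix w) (ix z))

variable {ω : F}

theorem cd_xors (S : F4Setup F ω) {f : ℕ → ℕ} (hf : ∀ j, f j < 4) :
    ∀ k, cd ω (xors f k) = ∑ j ∈ Finset.range k, cd ω (f j)
  | 0 => by simp [xors]
  | k + 1 => by
    rw [Finset.sum_range_succ, ← cd_xors S hf k]
    exact cd_xor S (xors_lt hf k) (hf k)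

theorem cdM_mulVec (S : F4Setup F ω) {m : ℕ → ℕ → ℕ} (hm : ∀ i j, i < 9 → j < 9 → m i j < 4)
    (n : ℕ) : cdM ω m *ᵥ dec ω n = dec ω (slowApp m n) := by
  funext w
  show ∑ z, cdM ω m w z * dec ω n z = cd ω (dig (slowApp m n) (ix w))
  rw [dig_slowApp m n (ix_lt w)]
  unfold rowc
  rw [cd_xors S (fun _ => mulc_lt _ _)]
  have e : ∀ z : F9, cdM ω m w z * dec ω n z = cd ω (mulc (m (ix w) (ix z)) (dig n (ix z))) := by
    intro z
    rw [cd_mul S (hm _ _ (ix_lt w) (ix_lt z)) (dig_lt _ _)]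
    rfl
  rw [Finset.sum_congr rfl (fun z _ => e z), sum_F9]
  simp only [ix_00, ix_01, ix_02, ix_10, ix_11, ix_12, ix_20, ix_21, ix_22]
  simp only [Finset.sum_range_succ, Finset.sum_range_zero, zero_add]

theorem slowApp_xor (S : F4Setup F ω) {m : ℕ → ℕ → ℕ} (hm : ∀ i j, i < 9 → j < 9 → m i j < 4)
    (a b : ℕ) : slowApp m (a ^^^ b) = slowApp m a ^^^ slowApp m b := by
  apply dec_inj S (slowApp_lt _ _) (Nat.xor_lt_two_pow (n := 18) (slowApp_lt _ _) (slowApp_lt _ _))
  rw [← cdM_mulVec S hm, dec_xor S, dec_xor S, Matrix.mulVec_add, cdM_mulVec S hm,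
    cdM_mulVec S hm]

end

/-! ### fast application by tables -/

/-- entry `x` of a packed table of 18-bit numbers -/
def look (T x : ℕ) : ℕ := T / 262144 ^ x % 262144

theorem look_lt (T x : ℕ) : look T x < 262144 := Nat.mod_lt _ (by norm_num)

/-- three tables, one for each block of three coordinates -/
structure Tab where
  t0 : ℕ
  t1 : ℕ
  t2 : ℕ

def appFast (T : Tab) (n : ℕ) : ℕ :=
  look T.t0 (n % 64) ^^^ look T.t1 (n / 64 % 64) ^^^ look T.t2 (n / 4096)

theorem appFast_lt (T : Tab) (n : ℕ) : appFast T n < 262144 :=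
  Nat.xor_lt_two_pow (n := 18) (Nat.xor_lt_two_pow (n := 18) (look_lt _ _) (look_lt _ _))
    (look_lt _ _)

/-- the tables agree with the coded matrix -/
def tblOK (m : ℕ → ℕ → ℕ) (T : Tab) : Bool :=
  (List.range 64).all fun x =>
    look T.t0 x == slowApp m x && look T.t1 x == slowApp m (64 * x) &&
      look T.t2 x == slowApp m (4096 * x)

section
variable {F : Type} [Field F] {ω : F}

theorem dec_split (S : F4Setup F ω) (n : ℕ) (hn : n < 262144) :
    dec ω n = dec ω (n % 64) + dec ω (64 * (n / 64 % 64)) + dec ω (4096 * (n / 4096)) := by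
  funext z
  show cd ω (dig n (ix z)) = cd ω (dig (n % 64) (ix z)) + cd ω (dig (64 * (n / 64 % 64)) (ix z)) +
    cd ω (dig (4096 * (n / 4096)) (ix z))
  revert z
  apply forall_F9 <;> simp only [ix_00, ix_01, ix_02, ix_10, ix_11, ix_12, ix_20, ix_21, ix_22]
  · have e1 : dig (n % 64) 0 = dig n 0 := by unfold dig; norm_num <;> omega
    have e2 : dig (64 * (n / 64 % 64)) 0 = 0 := by unfold dig; norm_num <;> omega
    have e3 : dig (4096 * (n / 4096)) 0 = 0 := by unfold dig; norm_num <;> omega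
    rw [e1, e2, e3]; simp
  · have e1 : dig (n % 64) 1 = dig n 1 := by unfold dig; norm_num <;> omega
    have e2 : dig (64 * (n / 64 % 64)) 1 = 0 := by unfold dig; norm_num <;> omega
    have e3 : dig (4096 * (n / 4096)) 1 = 0 := by unfold dig; norm_num <;> omega
    rw [e1, e2, e3]; simp
  · have e1 : dig (n % 64) 2 = dig n 2 := by unfold dig; norm_num <;> omega
    have e2 : dig (64 * (n / 64 % 64)) 2 = 0 := by unfold dig; norm_num <;> omega
    have e3 : dig (4096 * (n / 4096)) 2 = 0 := by unfold dig; norm_num <;> omega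
    rw [e1, e2, e3]; simp
  · have e1 : dig (n % 64) 3 = 0 := by unfold dig; norm_num <;> omega
    have e2 : dig (64 * (n / 64 % 64)) 3 = dig n 3 := by unfold dig; norm_num <;> omega
    have e3 : dig (4096 * (n / 4096)) 3 = 0 := by unfold dig; norm_num <;> omega
    rw [e1, e2, e3]; simp
  · have e1 : dig (n % 64) 4 = 0 := by unfold dig; norm_num <;> omega
    have e2 : dig (64 * (n / 64 % 64)) 4 = dig n 4 := by unfold dig; norm_num <;> omega
    have e3 : dig (4096 * (n / 4096)) 4 = 0 := by unfold dig; norm_num <;> omega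
    rw [e1, e2, e3]; simp
  · have e1 : dig (n % 64) 5 = 0 := by unfold dig; norm_num <;> omega
    have e2 : dig (64 * (n / 64 % 64)) 5 = dig n 5 := by unfold dig; norm_num <;> omega
    have e3 : dig (4096 * (n / 4096)) 5 = 0 := by unfold dig; norm_num <;> omega
    rw [e1, e2, e3]; simp
  · have e1 : dig (n % 64) 6 = 0 := by unfold dig; norm_num <;> omega
    have e2 : dig (64 * (n / 64 % 64)) 6 = 0 := by unfold dig; norm_num <;> omega
    have e3 : dig (4096 * (n / 4096)) 6 = dig n 6 := by unfold dig; norm_num <;> omega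
    rw [e1, e2, e3]; simp
  · have e1 : dig (n % 64) 7 = 0 := by unfold dig; norm_num <;> omega
    have e2 : dig (64 * (n / 64 % 64)) 7 = 0 := by unfold dig; norm_num <;> omega
    have e3 : dig (4096 * (n / 4096)) 7 = dig n 7 := by unfold dig; norm_num <;> omega
    rw [e1, e2, e3]; simp
  · have e1 : dig (n % 64) 8 = 0 := by unfold dig; norm_num <;> omega
    have e2 : dig (64 * (n / 64 % 64)) 8 = 0 := by unfold dig; norm_num <;> omega
    have e3 : dig (4096 * (n / 4096)) 8 = dig n 8 := by unfold dig; norm_num <;> omega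
    rw [e1, e2, e3]; simp

theorem appFast_spec (S : F4Setup F ω) {m : ℕ → ℕ → ℕ} (hm : ∀ i j, i < 9 → j < 9 → m i j < 4)
    {T : Tab} (hT : tblOK m T = true) (n : ℕ) (hn : n < 262144) :
    cdM ω m *ᵥ dec ω n = dec ω (appFast T n) := by
  unfold tblOK at hT
  rw [List.all_eq_true] at hT
  have key : ∀ x, x < 64 → look T.t0 x = slowApp m x ∧ look T.t1 x = slowApp m (64 * x) ∧
      look T.t2 x = slowApp m (4096 * x) := by
    intro x hx
    have := hT x (List.mem_range.mpr hx)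
    rw [Bool.and_eq_true, Bool.and_eq_true, beq_iff_eq, beq_iff_eq, beq_iff_eq] at this
    exact ⟨this.1.1, this.1.2, this.2⟩
  have k0 := (key (n % 64) (Nat.mod_lt _ (by norm_num))).1
  have k1 := (key (n / 64 % 64) (Nat.mod_lt _ (by norm_num))).2.1
  have k2 := (key (n / 4096) (by omega)).2.2
  unfold appFast
  rw [dec_xor S, dec_xor S, k0, k1, k2, ← cdM_mulVec S hm, ← cdM_mulVec S hm, ← cdM_mulVec S hm,
    ← Matrix.mulVec_add, ← Matrix.mulVec_add, ← dec_split S n hn]

end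

end Cfsg.Agent.Lib.Helper91_J3Vec
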