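import Cfsg.Agent.Lib.Helper91_LeechWord
import Cfsg.Agent.Lib.Helper26_GolaySets
import Cfsg.Agent.S0394

set_option autoImplicit false
open Cfsg

namespace Cfsg.Agent.Lib.Helper91_LeechEnum

open Cfsg.Agent.Lib.Helper7_M24 Cfsg.Agent.Lib.Helper7_Bits
  Cfsg.Agent.Lib.Helper7_Xi Cfsg.Agent.Lib.Helper91_LeechWord
open Cfsg.Agent.S0394 (sgn fO famA famB famO)

theorem idx_eq_enc (p : GolayPt) : Cfsg.Agent.Lib.Helper26_Golay.idx p = enc p := by
  cases p <;> rfl

/-! ### sums over `range n` with a few modified terms -/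

theorem sum_one (n i : ℕ) (hi : i < n) (g : ℕ → ℕ) (A : ℕ) :
    (∑ k ∈ Finset.range n, if k = i then A else g k) + g i = (∑ k ∈ Finset.range n, g k) + A := by
  have hi' : i ∈ Finset.range n := Finset.mem_range.mpr hi
  rw [← Finset.add_sum_erase _ _ hi', ← Finset.add_sum_erase (Finset.range n) g hi', if_pos rfl]
  have : ∑ k ∈ (Finset.range n).erase i, (if k = i then A else g k) =
      ∑ k ∈ (Finset.range n).erase i, g k := by
    apply Finset.sum_congr rfl
    intro k hk
    rw [if_neg (Finset.ne_of_mem_erase hk)]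
  rw [this]
  omega

theorem sum_two (n i j : ℕ) (hi : i < n) (hj : j < n) (hij : i ≠ j) (g : ℕ → ℕ) (A B : ℕ) :
    (∑ k ∈ Finset.range n, if k = i then A else if k = j then B else g k) + g i + g j =
      (∑ k ∈ Finset.range n, g k) + A + B := by
  have h1 := sum_one n i hi (fun k => if k = j then B else g k) A
  have h2 := sum_one n j hj g B
  simp only [if_neg hij] at h1
  omega

theorem sum_mod (n : ℕ) (b : ℕ → Bool) (h g : ℕ → ℕ) :
    (∑ k ∈ Finset.range n, if b k = true then h k else g k) +
        ∑ k ∈ (Finset.range n).filter (fun k => b k = true), g k =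
      (∑ k ∈ Finset.range n, g k) + ∑ k ∈ (Finset.range n).filter (fun k => b k = true), h k := by
  rw [Finset.sum_ite, ← Finset.sum_filter_add_sum_filter_not (Finset.range n) (fun k => b k = true) g]
  omega

theorem list_filter_sum (n : ℕ) (b : ℕ → Bool) (f : ℕ → ℕ) :
    (((List.range n).filter b).map f).sum = ∑ k ∈ (Finset.range n).filter (fun k => b k = true), f k := by
  rw [← List.sum_toFinset f ((List.nodup_range).filter _)]
  apply Finset.sum_congr _ (fun _ _ => rfl)
  ext k
  simp

/-! ### weights -/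

/-- code of a coefficient between `-4` and `4` -/
def code (a : ℤ) : ℕ := (a + 4).toNat

/-- the weighted sum of a vector given as a list -/
def wsum (W : ℕ → ℕ → ℕ) (l : List ℤ) : ℕ := ∑ k ∈ Finset.range 24, W (code (l.getD k 0)) k

theorem wsum_map (W : ℕ → ℕ → ℕ) (F : ℕ → ℤ) :
    wsum W ((List.range 24).map F) = ∑ k ∈ Finset.range 24, W (code (F k)) k := by
  rw [wsum]
  refine Finset.sum_congr (Eq.refl (Finset.range 24)) ?_
  intro k hk
  rw [getD_map_range F 0 24 k (Finset.mem_range.mp hk)]

/-! ### shape `(±4, ±4, 0^22)` -/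

def vecA (i j : ℕ) (si sj : Bool) : List ℤ :=
  (List.range 24).map fun k =>
    if k = i then (if si then -4 else 4) else if k = j then (if sj then -4 else 4) else 0

def chkA (W : ℕ → ℕ → ℕ) (Z T : ℕ) (P : List ℤ → Bool) : Bool :=
  (List.range 24).all fun i => (List.range 24).all fun j => i == j ||
    ([false, true].all fun si => [false, true].all fun sj =>
      (Z + W (if si then 0 else 8) i + W (if sj then 0 else 8) j != T + W 4 i + W 4 j) ||
        P (vecA i j si sj))

theorem wsum_vecA (W : ℕ → ℕ → ℕ) (i j : ℕ) (hi : i < 24) (hj : j < 24) (hij : i ≠ j)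
    (si sj : Bool) :
    wsum W (vecA i j si sj) + W 4 i + W 4 j =
      (∑ k ∈ Finset.range 24, W 4 k) + W (if si then 0 else 8) i + W (if sj then 0 else 8) j := by
  unfold vecA
  rw [wsum_map]
  have e : (∑ k ∈ Finset.range 24, W (code (if k = i then (if si = true then (-4 : ℤ) else 4) else
        if k = j then (if sj = true then (-4 : ℤ) else 4) else 0)) k) =
      ∑ k ∈ Finset.range 24, (if k = i then W (if si then 0 else 8) i else
        if k = j then W (if sj then 0 else 8) j else W 4 k) := by
    apply Finset.sum_congr rfl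
    intro k _
    by_cases h1 : k = i
    · rw [if_pos h1, if_pos h1, h1]; cases si <;> rfl
    · rw [if_neg h1, if_neg h1]
      by_cases h2 : k = j
      · rw [if_pos h2, if_pos h2, h2]; cases sj <;> rfl
      · rw [if_neg h2, if_neg h2]; rfl
  rw [e]
  exact sum_two 24 i j hi hj hij (fun k => W 4 k) _ _

theorem chkA_spec {W : ℕ → ℕ → ℕ} {Z T : ℕ} {P : List ℤ → Bool}
    (hZ : Z = ∑ k ∈ Finset.range 24, W 4 k) (h : chkA W Z T P = true) (i j : ℕ) (hi : i < 24)
    (hj : j < 24) (hij : i ≠ j) (si sj : Bool) (hw : wsum W (vecA i j si sj) = T) :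
    P (vecA i j si sj) = true := by
  unfold chkA at h
  rw [List.all_eq_true] at h
  have h1 := h i (List.mem_range.mpr hi)
  rw [List.all_eq_true] at h1
  have h2 := h1 j (List.mem_range.mpr hj)
  rw [Bool.or_eq_true, beq_iff_eq] at h2
  rcases h2 with h2 | h2
  · exact absurd h2 hij
  · rw [List.all_eq_true] at h2
    have h3 := h2 si (by cases si <;> simp)
    rw [List.all_eq_true] at h3
    have h4 := h3 sj (by cases sj <;> simp)
    rw [Bool.or_eq_true, bne_iff_ne] at h4
    rcases h4 with h4 | h4
    · exfalso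
      apply h4
      have := wsum_vecA W i j hi hj hij si sj
      rw [hw, ← hZ] at this
      omega
    · exact h4

theorem vecL_vecA (a b : GolayPt) (hab : a ≠ b) (N : Finset GolayPt) :
    sgn 4 {a, b} N = vecL (vecA (enc a) (enc b) (decide (a ∈ N)) (decide (b ∈ N))) := by
  funext p
  unfold vecA
  rw [vecL_map_range]
  unfold sgn
  by_cases hpa : p = a
  · subst hpa
    rw [if_pos rfl, if_pos (Finset.mem_insert_self _ _)]
    by_cases hn : p ∈ N
    · rw [if_pos hn, decide_eq_true hn]; rfl
    · rw [if_neg hn, decide_eq_false hn]; rfl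
  · rw [if_neg (fun e => hpa (enc_injective e))]
    by_cases hpb : p = b
    · subst hpb
      rw [if_pos rfl, if_pos (by simp)]
      by_cases hn : p ∈ N
      · rw [if_pos hn, decide_eq_true hn]; rfl
      · rw [if_neg hn, decide_eq_false hn]; rfl
    · rw [if_neg (fun e => hpb (enc_injective e)), if_neg (by simp [hpa, hpb])]

/-- all entries between `-4` and `4` -/
def Small (l : List ℤ) : Prop := ∀ k < 24, -4 ≤ l.getD k 0 ∧ l.getD k 0 ≤ 4

theorem small_map (F : ℕ → ℤ) (h : ∀ k, -4 ≤ F k ∧ F k ≤ 4) : Small ((List.range 24).map F) := by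
  intro k hk
  rw [getD_map_range F 0 24 k hk]
  exact h k

theorem small_vecA (i j : ℕ) (si sj : Bool) : Small (vecA i j si sj) := by
  apply small_map
  intro k
  cases si <;> cases sj <;> split_ifs <;> simp


/-! ### shape `(±2^8, 0^16)` -/

def bitsOf (o : ℕ) : List ℕ := (List.range 24).filter fun i => o.testBit i

def vecB (o : ℕ) (s : List ℕ) : List ℤ :=
  (List.range 24).map fun k => if o.testBit k then (if s.contains k then -2 else 2) else 0

theorem vecB_congr (o : ℕ) (s s' : List ℕ) (h : ∀ k, k ∈ s ↔ k ∈ s') : vecB o s = vecB o s' := by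
  unfold vecB
  apply List.map_congr_left
  intro k _
  have : s.contains k = s'.contains k := by
    rw [Bool.eq_iff_iff, List.contains_iff_mem, List.contains_iff_mem]
    exact h k
  rw [this]

/-- recursion over the points of an octad; the sign of the last point is forced by parity -/
def goB (leaf : ℕ → List ℕ → Bool) : List (ℕ × ℕ × ℕ) → ℕ → Bool → List ℕ → Bool
  | [], acc, par, s => par || leaf acc s
  | [(j, wp, wn)], acc, par, s => if par then leaf (acc + wn) (j :: s) else leaf (acc + wp) s
  | (j, wp, wn) :: r :: rest, acc, par, s =>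
      goB leaf (r :: rest) (acc + wp) par s && goB leaf (r :: rest) (acc + wn) (!par) (j :: s)

def accum (tr : List (ℕ × ℕ × ℕ)) (χ : ℕ → Bool) : ℕ :=
  (tr.map fun r => if χ r.1 then r.2.2 else r.2.1).sum

def negs (tr : List (ℕ × ℕ × ℕ)) (χ : ℕ → Bool) : List ℕ := (tr.filter fun r => χ r.1).map (·.1)

theorem par_succ (n : ℕ) : ((n + 1) % 2 == 1) = !(n % 2 == 1) := by
  rcases Nat.mod_two_eq_zero_or_one n with h | h
  · have : (n + 1) % 2 = 1 := by omega
    rw [this, h]; rfl
  · have : (n + 1) % 2 = 0 := by omega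
    rw [this, h]; rfl

theorem goB_spec (leaf : ℕ → List ℕ → Bool) :
    ∀ (tr : List (ℕ × ℕ × ℕ)) (acc : ℕ) (par : Bool) (s : List ℕ),
      goB leaf tr acc par s = true → ∀ χ : ℕ → Bool, par = ((negs tr χ).length % 2 == 1) →
      leaf (acc + accum tr χ) ((negs tr χ).reverse ++ s) = true := by
  intro tr
  induction tr with
  | nil =>
    intro acc par s h χ hp
    unfold goB at h
    have : par = false := by rw [hp]; rfl
    rw [this, Bool.false_or] at h
    exact h
  | cons r tr ih =>
    obtain ⟨j, wp, wn⟩ := r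
    intro acc par s h χ hp
    cases tr with
    | nil =>
      unfold goB at h
      by_cases hj : χ j = true
      · have e1 : negs [(j, wp, wn)] χ = [j] := by simp [negs, hj]
        have e2 : accum [(j, wp, wn)] χ = wn := by simp [accum, hj]
        rw [e1] at hp
        have : par = true := by rw [hp]; rfl
        rw [this, if_pos rfl] at h
        rw [e1, e2]
        exact h
      · have e1 : negs [(j, wp, wn)] χ = [] := by simp [negs, hj]
        have e2 : accum [(j, wp, wn)] χ = wp := by simp [accum, hj]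
        rw [e1] at hp
        have : par = false := by rw [hp]; rfl
        rw [this] at h
        rw [e1, e2]
        simpa using h
    | cons r' rest =>
      unfold goB at h
      rw [Bool.and_eq_true] at h
      by_cases hj : χ j = true
      · have e1 : negs ((j, wp, wn) :: r' :: rest) χ = j :: negs (r' :: rest) χ := by
          simp [negs, hj]
        have e2 : accum ((j, wp, wn) :: r' :: rest) χ = wn + accum (r' :: rest) χ := by
          simp [accum, hj]
        rw [e1, List.length_cons, par_succ] at hp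
        have hp' : (!par) = ((negs (r' :: rest) χ).length % 2 == 1) := by
          rw [hp, Bool.not_not]
        have := ih (acc + wn) (!par) (j :: s) h.2 χ hp'
        rw [e1, e2, List.reverse_cons, List.append_assoc, List.singleton_append, ← Nat.add_assoc]
        exact this
      · have e1 : negs ((j, wp, wn) :: r' :: rest) χ = negs (r' :: rest) χ := by
          simp [negs, hj]
        have e2 : accum ((j, wp, wn) :: r' :: rest) χ = wp + accum (r' :: rest) χ := by
          simp [accum, hj]
        rw [e1] at hp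
        have := ih (acc + wp) par s h.1 χ hp
        rw [e1, e2, ← Nat.add_assoc]
        exact this

def chkB (W : ℕ → ℕ → ℕ) (Z T : ℕ) (P : List ℤ → Bool) : Bool :=
  Cfsg.Agent.Lib.Helper26_Golay.octList.all fun o =>
    goB (fun acc s => acc != T + ((bitsOf o).map fun j => W 4 j).sum || P (vecB o s))
      ((bitsOf o).map fun j => (j, W 6 j, W 2 j)) Z false []

theorem negs_map (L : List ℕ) (a b : ℕ → ℕ) (χ : ℕ → Bool) :
    negs (L.map fun j => (j, a j, b j)) χ = L.filter χ := by
  unfold negs
  rw [List.filter_map, List.map_map]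
  have : ((fun x : ℕ × ℕ × ℕ => x.1) ∘ fun j => (j, a j, b j)) = id := rfl
  rw [this, List.map_id]
  rfl

theorem accum_map (L : List ℕ) (a b : ℕ → ℕ) (χ : ℕ → Bool) :
    accum (L.map fun j => (j, a j, b j)) χ = (L.map fun j => if χ j then b j else a j).sum := by
  unfold accum
  rw [List.map_map]
  rfl

theorem wsum_vecB (W : ℕ → ℕ → ℕ) (o : ℕ) (χ : ℕ → Bool) :
    wsum W (vecB o ((bitsOf o).filter χ)) + ((bitsOf o).map fun j => W 4 j).sum =
      (∑ k ∈ Finset.range 24, W 4 k) +
        accum ((bitsOf o).map fun j => (j, W 6 j, W 2 j)) χ := by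
  unfold vecB
  rw [wsum_map, accum_map]
  unfold bitsOf
  rw [list_filter_sum, list_filter_sum]
  have e : (∑ k ∈ Finset.range 24, W (code (if o.testBit k = true then
        (if ((List.range 24).filter (fun i => o.testBit i) |>.filter χ).contains k = true
          then (-2 : ℤ) else 2) else 0)) k) =
      ∑ k ∈ Finset.range 24, (if o.testBit k = true then (if χ k = true then W 2 k else W 6 k)
        else W 4 k) := by
    apply Finset.sum_congr rfl
    intro k hk
    rw [Finset.mem_range] at hk
    by_cases hb : o.testBit k = true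
    · rw [if_pos hb, if_pos hb]
      by_cases hc : χ k = true
      · have : ((List.range 24).filter (fun i => o.testBit i) |>.filter χ).contains k = true := by
          rw [List.contains_iff_mem, List.mem_filter, List.mem_filter, List.mem_range]
          exact ⟨⟨hk, hb⟩, hc⟩
        rw [if_pos this, if_pos hc]; rfl
      · have : ¬ ((List.range 24).filter (fun i => o.testBit i) |>.filter χ).contains k = true := by
          rw [List.contains_iff_mem, List.mem_filter]
          exact fun hh => hc hh.2
        rw [if_neg this, if_neg hc]; rfl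
    · rw [if_neg hb, if_neg hb]; rfl
  rw [e]
  exact sum_mod 24 (fun k => o.testBit k) (fun k => if χ k = true then W 2 k else W 6 k)
    (fun k => W 4 k)

theorem chkB_spec {W : ℕ → ℕ → ℕ} {Z T : ℕ} {P : List ℤ → Bool}
    (hZ : Z = ∑ k ∈ Finset.range 24, W 4 k) (h : chkB W Z T P = true) (o : ℕ)
    (ho : o ∈ Cfsg.Agent.Lib.Helper26_Golay.octList) (χ : ℕ → Bool)
    (heven : ((bitsOf o).filter χ).length % 2 = 0)
    (hw : wsum W (vecB o ((bitsOf o).filter χ)) = T) :
    P (vecB o ((bitsOf o).filter χ)) = true := by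
  unfold chkB at h
  rw [List.all_eq_true] at h
  have h1 := goB_spec _ _ _ _ _ (h o ho) χ (by rw [negs_map, heven]; rfl)
  rw [negs_map, Bool.or_eq_true, bne_iff_ne] at h1
  rcases h1 with h1 | h1
  · exfalso
    apply h1
    have := wsum_vecB W o χ
    rw [hw, ← hZ] at this
    omega
  · have e : vecB o (((bitsOf o).filter χ).reverse ++ []) = vecB o ((bitsOf o).filter χ) := by
      apply vecB_congr
      intro k
      rw [List.append_nil, List.mem_reverse]
    rw [e] at h1
    exact h1

theorem small_vecB (o : ℕ) (s : List ℕ) : Small (vecB o s) := by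
  apply small_map
  intro k
  split_ifs <;> simp

/-! ### shape `(∓3, ±1^23)` -/

def vecO (i c : ℕ) : List ℤ :=
  (List.range 24).map fun k =>
    (if c.testBit k then 1 else -1) + (if k = i then (if c.testBit i then -4 else 4) else 0)

def chkO1 (W : ℕ → ℕ → ℕ) (T : ℕ) (P : List ℤ → Bool) (c D : ℕ) : Bool :=
  (List.range 24).all fun i =>
    (D + W (if c.testBit i then 1 else 7) i != T + W (if c.testBit i then 5 else 3) i) ||
      P (vecO i c)

def chkO (W : ℕ → ℕ → ℕ) (M T : ℕ) (P : List ℤ → Bool) : Bool :=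
  Cfsg.Agent.Lib.Helper26_Golay.codeList.all fun c =>
    (fun D => decide (T + M < D) || decide (D + M < T) || chkO1 W T P c D)
      (((List.range 24).map fun j => W (if c.testBit j then 5 else 3) j).sum)

theorem wsum_vecO (W : ℕ → ℕ → ℕ) (i c : ℕ) (hi : i < 24) :
    wsum W (vecO i c) + W (if c.testBit i then 5 else 3) i =
      ((List.range 24).map fun j => W (if c.testBit j then 5 else 3) j).sum +
        W (if c.testBit i then 1 else 7) i := by
  unfold vecO
  rw [wsum_map, list_sum_map_range]
  have e : (∑ k ∈ Finset.range 24, W (code ((if c.testBit k = true then (1 : ℤ) else -1) +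
        (if k = i then (if c.testBit i = true then (-4 : ℤ) else 4) else 0))) k) =
      ∑ k ∈ Finset.range 24, (if k = i then W (if c.testBit i then 1 else 7) i
        else W (if c.testBit k then 5 else 3) k) := by
    apply Finset.sum_congr rfl
    intro k _
    by_cases h1 : k = i
    · rw [if_pos h1, if_pos h1, h1]
      by_cases hb : c.testBit i = true
      · rw [if_pos hb, if_pos hb, if_pos hb]; rfl
      · rw [if_neg hb, if_neg hb, if_neg hb]; rfl
    · rw [if_neg h1, if_neg h1]
      by_cases hb : c.testBit k = true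
      · rw [if_pos hb, if_pos hb]; rfl
      · rw [if_neg hb, if_neg hb]; rfl
  rw [e]
  exact sum_one 24 i hi (fun k => W (if c.testBit k then 5 else 3) k) _

theorem chkO_spec {W : ℕ → ℕ → ℕ} {M T : ℕ} {P : List ℤ → Bool}
    (hM : ∀ c k, c < 9 → k < 24 → W c k ≤ M) (h : chkO W M T P = true) (c : ℕ)
    (hc : c ∈ Cfsg.Agent.Lib.Helper26_Golay.codeList) (i : ℕ) (hi : i < 24)
    (hw : wsum W (vecO i c) = T) : P (vecO i c) = true := by
  unfold chkO at h
  rw [List.all_eq_true] at h
  have h1 := h c hc
  have key := wsum_vecO W i c hi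
  rw [hw] at key
  have b1 : W (if c.testBit i then 5 else 3) i ≤ M := hM _ _ (by split_ifs <;> omega) hi
  have b2 : W (if c.testBit i then 1 else 7) i ≤ M := hM _ _ (by split_ifs <;> omega) hi
  simp only [Bool.or_eq_true, decide_eq_true_eq] at h1
  rcases h1 with (h1 | h1) | h1
  · omega
  · omega
  · unfold chkO1 at h1
    rw [List.all_eq_true] at h1
    have h2 := h1 i (List.mem_range.mpr hi)
    rw [Bool.or_eq_true, bne_iff_ne] at h2
    rcases h2 with h2 | h2
    · exact absurd key.symm h2
    · exact h2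

theorem small_vecO (i c : ℕ) : Small (vecO i c) := by
  apply small_map
  intro k
  by_cases h1 : k = i
  · subst h1
    rw [if_pos rfl]
    split_ifs <;> simp
  · rw [if_neg h1]
    split_ifs <;> simp


/-! ### the test over all 196560 minimal vectors -/

theorem card_eq_length_filter (N : Finset GolayPt) :
    N.card = ((List.range 24).filter fun i => decide (dec i ∈ N)).length := by
  have h1 : N.card = ∑ p : GolayPt, if p ∈ N then 1 else 0 := by
    rw [Finset.sum_ite_mem, Finset.univ_inter, Finset.sum_const, smul_eq_mul, mul_one]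
  rw [h1, sum_golayPt, ← list_sum_map_range, ← List.countP_eq_length_filter]
  induction (List.range 24) with
  | nil => rfl
  | cons a t ih =>
    rw [List.map_cons, List.sum_cons, List.countP_cons, ih]
    by_cases h : dec a ∈ N
    · rw [if_pos h, decide_eq_true h]; simp; omega
    · rw [if_neg h, decide_eq_false h]; simp

theorem vecL_vecB (S N : Finset GolayPt) (hN : N ⊆ S) :
    sgn 2 S N = vecL (vecB (Cfsg.Agent.Lib.Helper26_Golay.enc S)
      ((bitsOf (Cfsg.Agent.Lib.Helper26_Golay.enc S)).filter fun k => decide (dec k ∈ N))) ∧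
    ((bitsOf (Cfsg.Agent.Lib.Helper26_Golay.enc S)).filter fun k => decide (dec k ∈ N)).length =
      N.card := by
  set o := Cfsg.Agent.Lib.Helper26_Golay.enc S with ho_def
  have hbit : ∀ p : GolayPt, o.testBit (enc p) = true ↔ p ∈ S := by
    intro p
    rw [← idx_eq_enc]
    exact Cfsg.Agent.Lib.Helper26_Golay.testBit_enc_idx S p
  set s := (bitsOf o).filter fun i => decide (dec i ∈ N) with hs_def
  have hs_mem : ∀ p : GolayPt, enc p ∈ s ↔ p ∈ N := by
    intro p
    rw [hs_def, List.mem_filter, decide_eq_true_eq, dec_enc]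
    unfold bitsOf
    rw [List.mem_filter, List.mem_range]
    constructor
    · exact fun hh => hh.2
    · exact fun hh => ⟨⟨enc_lt p, (hbit p).mpr (hN hh)⟩, hh⟩
  constructor
  · funext p
    unfold vecB
    rw [vecL_map_range]
    unfold sgn
    by_cases hp : p ∈ S
    · rw [if_pos hp, if_pos ((hbit p).mpr hp)]
      by_cases hn : p ∈ N
      · rw [if_pos hn, if_pos (by rw [List.contains_iff_mem]; exact (hs_mem p).mpr hn)]
      · rw [if_neg hn,
          if_neg (by rw [List.contains_iff_mem]; exact fun hh => hn ((hs_mem p).mp hh))]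
    · rw [if_neg hp, if_neg (fun hh => hp ((hbit p).mp hh))]
  · rw [card_eq_length_filter, hs_def]
    unfold bitsOf
    rw [List.filter_filter]
    refine congrArg List.length ?_
    apply List.filter_congr
    intro i hi
    rw [List.mem_range] at hi
    by_cases hn : dec i ∈ N
    · have := (hbit (dec i)).mpr (hN hn)
      rw [enc_dec i hi] at this
      simp [hn, this]
    · simp [hn]

theorem vecL_vecO (i : GolayPt) (u : GolayPt → ZMod 2) :
    fO i u = vecL (vecO (enc i) (Cfsg.Agent.Lib.Helper26_Golay.enc (support₂ u))) := by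
  set c := Cfsg.Agent.Lib.Helper26_Golay.enc (support₂ u) with hc_def
  have hbit : ∀ p : GolayPt, u p = 1 ↔ c.testBit (enc p) = true := by
    intro p
    rw [← idx_eq_enc, ← Cfsg.Agent.Lib.Helper26_Golay.wordOf_eq_one_iff, hc_def,
      Cfsg.Agent.Lib.Helper26_Golay.wordOf_enc_support₂]
  funext p
  unfold vecO
  rw [vecL_map_range]
  unfold fO
  congr 1
  · by_cases hp : u p = 1
    · rw [if_pos hp, if_pos ((hbit p).mp hp)]
    · rw [if_neg hp, if_neg (fun hh => hp ((hbit p).mpr hh))]
  · by_cases hpi : p = i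
    · subst hpi
      rw [if_pos rfl, if_pos rfl]
      by_cases hp : u p = 1
      · rw [if_pos hp, if_pos ((hbit p).mp hp)]
      · rw [if_neg hp, if_neg (fun hh => hp ((hbit p).mpr hh))]
    · rw [if_neg hpi, if_neg (fun e => hpi (enc_injective e))]

def checkMinW (W : ℕ → ℕ → ℕ) (Z M T : ℕ) (P : List ℤ → Bool) : Bool :=
  chkA W Z T P && chkB W Z T P && chkO W M T P

theorem checkMinW_sound {W : ℕ → ℕ → ℕ} {Z M T : ℕ} {P : List ℤ → Bool}
    (hZ : Z = ∑ k ∈ Finset.range 24, W 4 k) (hM : ∀ c k, c < 9 → k < 24 → W c k ≤ M)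
    (h : checkMinW W Z M T P = true) (x : GolayPt → ℤ) (hx : x ∈ leechLattice)
    (hn : sqNorm x = 32) (hC : ∀ l, Small l → x = vecL l → wsum W l = T) :
    ∃ l, P l = true ∧ x = vecL l := by
  unfold checkMinW at h
  rw [Bool.and_eq_true, Bool.and_eq_true] at h
  have hmem : x ∈ {x : GolayPt → ℤ | x ∈ leechLattice ∧ sqNorm x = 32} := ⟨hx, hn⟩
  rw [Cfsg.Agent.S0394.set_eq] at hmem
  rcases hmem with (hA | hB) | hO
  · obtain ⟨S, N, hS, hN, rfl⟩ := hA
    obtain ⟨a, b, hab, rfl⟩ := Finset.card_eq_two.mp hS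
    have e := vecL_vecA a b hab N
    exact ⟨_, chkA_spec hZ h.1.1 _ _ (enc_lt a) (enc_lt b) (fun e => hab (enc_injective e)) _ _
      (hC _ (small_vecA _ _ _ _) e), e⟩
  · obtain ⟨S, N, hS, hN, hE, rfl⟩ := hB
    have ho := (Cfsg.Agent.Lib.Helper26_Golay.mem_octads_iff S).mp hS
    obtain ⟨e, hlen⟩ := vecL_vecB S N hN
    refine ⟨_, chkB_spec hZ h.1.2 _ ho _ ?_ (hC _ (small_vecB _ _) e), e⟩
    rw [hlen]
    obtain ⟨k, hk⟩ := hE
    omega
  · obtain ⟨i, u, hu, rfl⟩ := hO
    have hc := (Cfsg.Agent.Lib.Helper26_Golay.mem_golayCode_iff u).mp hu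
    have hmem := (Cfsg.Agent.Lib.Helper26_Golay.mem_codeList_iff _).mpr hc
    have e := vecL_vecO i u
    exact ⟨_, chkO_spec hM h.2 _ hmem _ (enc_lt i) (hC _ (small_vecO _ _) e), e⟩


/-! ### weights from inner product conditions -/

/-- the combined coefficient at position `k` of a list of conditions `(b, t)`:
`dotInt b x = t` -/
def betaL : List (List ℤ × ℤ) → ℕ → ℤ
  | [], _ => 0
  | (b, _) :: cs, k => b.getD k 0 + 65536 * betaL cs k

/-- the combined target -/
def tgtL : List (List ℤ × ℤ) → ℤ
  | [] => 0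
  | (_, t) :: cs => t + 65536 * tgtL cs

/-- the conditions hold for `x` -/
def CondsOn (cs : List (List ℤ × ℤ)) (x : GolayPt → ℤ) : Prop :=
  ∀ bt ∈ cs, dotInt (vecL bt.1) x = bt.2

theorem dotInt_vecL (a b : List ℤ) :
    dotInt (vecL a) (vecL b) = ∑ k ∈ Finset.range 24, a.getD k 0 * b.getD k 0 := by
  unfold dotInt
  rw [sum_golayPt]
  apply Finset.sum_congr rfl
  intro k hk
  rw [Finset.mem_range] at hk
  rw [vecL_dec a k hk, vecL_dec b k hk]

theorem beta_sum (cs : List (List ℤ × ℤ)) (l : List ℤ) (h : CondsOn cs (vecL l)) :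
    ∑ k ∈ Finset.range 24, betaL cs k * l.getD k 0 = tgtL cs := by
  induction cs with
  | nil => simp [betaL, tgtL]
  | cons bt cs ih =>
    obtain ⟨b, t⟩ := bt
    have h1 : dotInt (vecL b) (vecL l) = t := h (b, t) List.mem_cons_self
    have h2 := ih (fun bt hbt => h bt (List.mem_cons_of_mem _ hbt))
    rw [dotInt_vecL] at h1
    unfold betaL tgtL
    rw [← h1, ← h2, Finset.mul_sum, ← Finset.sum_add_distrib]
    apply Finset.sum_congr rfl
    intro k _
    ring

/-- the table of weights fits the conditions -/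
def tableOK (cs : List (List ℤ × ℤ)) (OFF : ℤ) (W : ℕ → ℕ → ℕ) (Z M T : ℕ) : Bool :=
  ((List.range 9).all fun c => (List.range 24).all fun k =>
    ((W c k : ℤ) == OFF + ((c : ℤ) - 4) * betaL cs k) && decide (W c k ≤ M)) &&
  ((T : ℤ) == 24 * OFF + tgtL cs) && (Z == ((List.range 24).map fun k => W 4 k).sum)

theorem tableOK_spec {cs : List (List ℤ × ℤ)} {OFF : ℤ} {W : ℕ → ℕ → ℕ} {Z M T : ℕ}
    (h : tableOK cs OFF W Z M T = true) :
    (∀ c k, c < 9 → k < 24 → (W c k : ℤ) = OFF + ((c : ℤ) - 4) * betaL cs k ∧ W c k ≤ M) ∧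
    (T : ℤ) = 24 * OFF + tgtL cs ∧ Z = ∑ k ∈ Finset.range 24, W 4 k := by
  unfold tableOK at h
  rw [Bool.and_eq_true, Bool.and_eq_true, beq_iff_eq, beq_iff_eq, List.all_eq_true] at h
  refine ⟨fun c k hc hk => ?_, h.1.2, ?_⟩
  · have h1 := h.1.1 c (List.mem_range.mpr hc)
    rw [List.all_eq_true] at h1
    have h2 := h1 k (List.mem_range.mpr hk)
    rw [Bool.and_eq_true, beq_iff_eq, decide_eq_true_eq] at h2
    exact h2
  · rw [h.2, list_sum_map_range]

theorem code_cast (a : ℤ) (h1 : -4 ≤ a) (h2 : a ≤ 4) : ((code a : ℕ) : ℤ) - 4 = a ∧ code a < 9 := by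
  unfold code
  constructor <;> omega

theorem wsum_eq_T {cs : List (List ℤ × ℤ)} {OFF : ℤ} {W : ℕ → ℕ → ℕ} {Z M T : ℕ}
    (h : tableOK cs OFF W Z M T = true) (l : List ℤ) (hs : Small l) (hc : CondsOn cs (vecL l)) :
    wsum W l = T := by
  obtain ⟨hW, hT, _⟩ := tableOK_spec h
  have key : ((wsum W l : ℕ) : ℤ) = (T : ℤ) := by
    rw [wsum, Nat.cast_sum, hT, ← beta_sum cs l hc]
    have : ∀ k ∈ Finset.range 24, ((W (code (l.getD k 0)) k : ℕ) : ℤ) =
        OFF + betaL cs k * l.getD k 0 := by
      intro k hk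
      rw [Finset.mem_range] at hk
      obtain ⟨e1, e2⟩ := code_cast _ (hs k hk).1 (hs k hk).2
      rw [(hW _ k e2 hk).1, e1, mul_comm]
    rw [Finset.sum_congr rfl this, Finset.sum_add_distrib, Finset.sum_const, Finset.card_range]
    simp
  exact_mod_cast key

/-- Soundness of the search: every minimal vector satisfying the conditions passes `P`. -/
theorem enum_sound {cs : List (List ℤ × ℤ)} {OFF : ℤ} {W : ℕ → ℕ → ℕ} {Z M T : ℕ}
    {P : List ℤ → Bool} (hT : tableOK cs OFF W Z M T = true)
    (h : checkMinW W Z M T P = true) (x : GolayPt → ℤ) (hx : x ∈ leechLattice)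
    (hn : sqNorm x = 32) (hc : CondsOn cs x) : ∃ l, P l = true ∧ x = vecL l := by
  obtain ⟨hW, _, hZ⟩ := tableOK_spec hT
  apply checkMinW_sound hZ (fun c k hc hk => (hW c k hc hk).2) h x hx hn
  intro l hs hl
  rw [hl] at hc
  exact wsum_eq_T hT l hs hc

end Cfsg.Agent.Lib.Helper91_LeechEnum
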