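import Cfsg.Agent.Lib.Helper91_LeechLevel

set_option autoImplicit false
open Cfsg

namespace Cfsg.Agent.Lib.Helper91_LeechGlue

open Cfsg.Agent.Lib.Helper7_Xi Cfsg.Agent.Lib.Helper91_LeechWord Cfsg.Agent.Lib.Helper91_LeechOrb
  Cfsg.Agent.Lib.Helper91_LeechEnum Cfsg.Agent.Lib.Helper91_LeechLevel
  Cfsg.Agent.Lib.Helper26_Leech

theorem sqNorm_sub' (a b : GolayPt → ℤ) :
    sqNorm (a - b) = sqNorm a + sqNorm b - 2 * dotInt a b := by
  unfold sqNorm dotInt
  rw [Finset.mul_sum, ← Finset.sum_add_distrib, ← Finset.sum_sub_distrib]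
  apply Finset.sum_congr rfl
  intro i _
  simp only [Pi.sub_apply]
  ring

theorem dotInt_comm (a b : GolayPt → ℤ) : dotInt a b = dotInt b a := by
  unfold dotInt
  apply Finset.sum_congr rfl
  intro i _
  ring

/-- the lattice vector of a list, given membership -/
def mkL (l : List ℤ) (h : vecL l ∈ leechLattice) : leechLattice := ⟨vecL l, h⟩

/-- From `Conn` to an element of `Co0` acting on lattice vectors. -/
theorem exists_of_conn {B : List (List ℤ)} {x y : List ℤ} (h : Conn B x y) :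
    ∃ g : Co0, (∀ b ∈ B, ∀ hb : vecL b ∈ leechLattice, g • (⟨vecL b, hb⟩ : leechLattice) =
      ⟨vecL b, hb⟩) ∧ ∀ (hx : vecL x ∈ leechLattice) (hy : vecL y ∈ leechLattice),
        g • (⟨vecL x, hx⟩ : leechLattice) = ⟨vecL y, hy⟩ := by
  obtain ⟨g, hg, hgB, ⟨hx0, e⟩⟩ := h
  refine ⟨⟨g, hg⟩, fun b hb hb' => ?_, fun hx hy => ?_⟩
  · obtain ⟨_, eb⟩ := hgB b hb
    exact Subtype.ext eb
  · exact Subtype.ext e

/-- transport of the orbit statement: two minimal vectors satisfying the conditions relative to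
the base vectors are conjugate under the stabiliser of the base vectors -/
theorem levelOK_trans {B : List (List ℤ)} {cs : List (List ℤ × ℤ)} {gens : List (List Letter)}
    {root : List ℤ} {prog : List ℕ} {OFF : ℤ} {W : ℕ → ℕ → ℕ} {Z M T : ℕ}
    (L : LevelOK B cs gens root prog OFF W Z M T) (x y : leechLattice)
    (hx : sqNorm (x : GolayPt → ℤ) = 32) (hcx : CondsOn cs (x : GolayPt → ℤ))
    (hy : sqNorm (y : GolayPt → ℤ) = 32) (hcy : CondsOn cs (y : GolayPt → ℤ)) :
    ∃ g : Co0, (∀ b ∈ B, ∀ hb : vecL b ∈ leechLattice, g • (⟨vecL b, hb⟩ : leechLattice) =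
      ⟨vecL b, hb⟩) ∧ g • x = y := by
  obtain ⟨l, _, e, hl⟩ := L.conn x.1 x.2 hx hcx
  obtain ⟨l', _, e', hl'⟩ := L.conn y.1 y.2 hy hcy
  obtain ⟨g, hgB, hg⟩ := exists_of_conn (hl.symm.trans hl')
  refine ⟨g, hgB, ?_⟩
  have hxm : vecL l ∈ leechLattice := by rw [← e]; exact x.2
  have hym : vecL l' ∈ leechLattice := by rw [← e']; exact y.2
  have := hg hxm hym
  have ex : x = ⟨vecL l, hxm⟩ := Subtype.ext e
  have ey : y = ⟨vecL l', hym⟩ := Subtype.ext e'
  rw [ex, ey]
  exact this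

theorem smul_def' (g : Co0) (v : leechLattice) : g • v = (g : Equiv.Perm leechLattice) v := rfl

theorem sqNorm_smul (g : Co0) (v : leechLattice) :
    sqNorm ((g • v : leechLattice) : GolayPt → ℤ) = sqNorm (v : GolayPt → ℤ) := g.2.2 v

theorem dotInt_smul (g : Co0) (v w : leechLattice) :
    dotInt ((g • v : leechLattice) : GolayPt → ℤ) ((g • w : leechLattice) : GolayPt → ℤ) =
      dotInt (v : GolayPt → ℤ) (w : GolayPt → ℤ) := dotInt_co0 g.1 g.2 v w

/-- transport of cardinalities along an element of `Co0` -/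
theorem ncard_smul (g : Co0) (Q : leechLattice → Prop) :
    {v : leechLattice | Q v}.ncard = {v : leechLattice | Q (g⁻¹ • v)}.ncard := by
  have : {v : leechLattice | Q (g⁻¹ • v)} = (fun v => g • v) '' {v : leechLattice | Q v} := by
    ext v
    constructor
    · intro hv
      exact ⟨g⁻¹ • v, hv, smul_inv_smul g v⟩
    · rintro ⟨w, hw, rfl⟩
      show Q (g⁻¹ • g • w)
      rw [inv_smul_smul]
      exact hw
  rw [this, Set.ncard_image_of_injective _ (MulAction.injective g)]

end Cfsg.Agent.Lib.Helper91_LeechGlue
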