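import Cfsg.Agent.Lib.Helper91_LeechOrb
import Cfsg.Agent.Lib.Helper91_LeechEnum

set_option autoImplicit false
open Cfsg

namespace Cfsg.Agent.Lib.Helper91_LeechLevel

open Cfsg.Agent.Lib.Helper7_M24 Cfsg.Agent.Lib.Helper7_Bits Cfsg.Agent.Lib.Helper7_Xi
  Cfsg.Agent.Lib.Helper91_LeechWord Cfsg.Agent.Lib.Helper91_LeechOrb
  Cfsg.Agent.Lib.Helper91_LeechEnum Cfsg.Agent.Lib.Helper26_Leech

/-- the vectors reached by the traversal -/
def orbitL (gens : List (List Letter)) (root : List ℤ) (prog : List ℕ) : List (List ℤ) :=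
  run gens prog [root] [root]

/-- membership test in the traversal list, through a search tree -/
def inOrbit (T : List (List ℤ)) (l : List ℤ) : Bool := (build T).contains (key l) l

theorem vecL_injective_of_length {l l' : List ℤ} (h : l.length = 24) (h' : l'.length = 24)
    (e : vecL l = vecL l') : l = l' := by
  apply List.ext_getElem (by rw [h, h'])
  intro k hk hk'
  have hk24 : k < 24 := by omega
  have := congrFun e (dec k)
  rw [vecL_dec l k hk24, vecL_dec l' k hk24, List.getD_eq_getElem _ _ hk,
    List.getD_eq_getElem _ _ hk'] at this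
  exact this

/-- All the data of one level pass the tests. -/
structure LevelOK (B : List (List ℤ)) (cs : List (List ℤ × ℤ)) (gens : List (List Letter))
    (root : List ℤ) (prog : List ℕ) (OFF : ℤ) (W : ℕ → ℕ → ℕ) (Z M T : ℕ) : Prop where
  hB : ∀ b ∈ B, vecL b ∈ leechLattice
  hroot : vecL root ∈ leechLattice
  hg : gens.all (stabW B) = true
  hT : tableOK cs OFF W Z M T = true
  hE : checkMinW W Z M T (inOrbit (orbitL gens root prog)) = true

theorem conn_of_mem_orbitL {B : List (List ℤ)} {gens : List (List Letter)} {root : List ℤ}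
    {prog : List ℕ} (hB : ∀ b ∈ B, vecL b ∈ leechLattice) (hroot : vecL root ∈ leechLattice)
    (hg : gens.all (stabW B) = true) (l : List ℤ) (hl : l ∈ orbitL gens root prog) :
    Conn B root l := by
  rw [List.all_eq_true] at hg
  have h0 : ∀ x ∈ [root], Conn B root x := by
    intro x hx
    rw [List.mem_singleton] at hx
    rw [hx]; exact Conn.refl hB hroot
  exact run_conn hB hg root prog [root] [root] h0 h0 l hl

/-- every minimal vector satisfying the conditions is in the orbit of the root under the joint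
stabiliser of the base vectors -/
theorem LevelOK.conn {B : List (List ℤ)} {cs : List (List ℤ × ℤ)} {gens : List (List Letter)}
    {root : List ℤ} {prog : List ℕ} {OFF : ℤ} {W : ℕ → ℕ → ℕ} {Z M T : ℕ}
    (L : LevelOK B cs gens root prog OFF W Z M T) (x : GolayPt → ℤ) (hx : x ∈ leechLattice)
    (hn : sqNorm x = 32) (hc : CondsOn cs x) :
    ∃ l ∈ orbitL gens root prog, x = vecL l ∧ Conn B root l := by
  obtain ⟨l, hl, e⟩ := enum_sound L.hT L.hE x hx hn hc
  have hmem : l ∈ orbitL gens root prog := mem_of_contains _ _ hl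
  exact ⟨l, hmem, e, conn_of_mem_orbitL L.hB L.hroot L.hg l hmem⟩

/-- the conditions are preserved along `Conn` when their vectors are among the base vectors -/
theorem conds_of_conn {B : List (List ℤ)} {cs : List (List ℤ × ℤ)}
    (hcs : ∀ bt ∈ cs, bt.1 ∈ B) {x y : List ℤ} (h : Conn B x y)
    (hn : sqNorm (vecL x) = 32) (hc : CondsOn cs (vecL x)) :
    sqNorm (vecL y) = 32 ∧ CondsOn cs (vecL y) := by
  obtain ⟨g, hg, hgB, ⟨hx, e⟩⟩ := h
  constructor
  · rw [← e, hg.2 ⟨vecL x, hx⟩]; exact hn
  · intro bt hbt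
    obtain ⟨hb, eb⟩ := hgB bt.1 (hcs bt hbt)
    have := dotInt_co0 g hg ⟨vecL bt.1, hb⟩ ⟨vecL x, hx⟩
    rw [eb, e] at this
    rw [this]
    exact hc bt hbt

/-- the number of minimal vectors satisfying the conditions -/
theorem LevelOK.count {B : List (List ℤ)} {cs : List (List ℤ × ℤ)} {gens : List (List Letter)}
    {root : List ℤ} {prog : List ℕ} {OFF : ℤ} {W : ℕ → ℕ → ℕ} {Z M T : ℕ}
    (L : LevelOK B cs gens root prog OFF W Z M T) (hcs : ∀ bt ∈ cs, bt.1 ∈ B)
    (hn : sqNorm (vecL root) = 32) (hc : CondsOn cs (vecL root))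
    (hlen : (orbitL gens root prog).all (fun l => l.length == 24) = true)
    (hnd : strictB ((build (orbitL gens root prog)).toList.map Prod.fst) = true) :
    {x : leechLattice | sqNorm (x : GolayPt → ℤ) = 32 ∧ CondsOn cs (x : GolayPt → ℤ)}.ncard =
      (orbitL gens root prog).length := by
  set T := orbitL gens root prog with hT_def
  have hnodup : T.Nodup := nodup_of_build T hnd
  rw [List.all_eq_true] at hlen
  have himg : (Subtype.val '' {x : leechLattice | sqNorm (x : GolayPt → ℤ) = 32 ∧
      CondsOn cs (x : GolayPt → ℤ)}) = vecL '' (↑T.toFinset : Set (List ℤ)) := by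
    ext x
    constructor
    · rintro ⟨v, ⟨h1, h2⟩, rfl⟩
      obtain ⟨l, hl, e, _⟩ := L.conn v.1 v.2 h1 h2
      exact ⟨l, by simpa using hl, e.symm⟩
    · rintro ⟨l, hl, rfl⟩
      have hl' : l ∈ T := by simpa using hl
      have hconn := conn_of_mem_orbitL L.hB L.hroot L.hg l hl'
      have hmem : vecL l ∈ leechLattice := by
        obtain ⟨g, _, _, hm⟩ := hconn
        exact hm.mem_right
      obtain ⟨h1, h2⟩ := conds_of_conn hcs hconn hn hc
      exact ⟨⟨vecL l, hmem⟩, ⟨h1, h2⟩, rfl⟩
  have h1 := Set.ncard_image_of_injective {x : leechLattice | sqNorm (x : GolayPt → ℤ) = 32 ∧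
      CondsOn cs (x : GolayPt → ℤ)} Subtype.val_injective
  have hinj : Set.InjOn vecL (↑T.toFinset : Set (List ℤ)) := by
    intro l hl l' hl' e
    have hl1 : l ∈ T := by simpa using hl
    have hl2 : l' ∈ T := by simpa using hl'
    have := hlen l hl1
    have := hlen l' hl2
    rw [beq_iff_eq] at *
    exact vecL_injective_of_length (by assumption) (by assumption) e
  rw [← h1, himg, hinj.ncard_image, Set.ncard_coe_finset,
    List.toFinset_card_of_nodup hnodup]
end Cfsg.Agent.Lib.Helper91_LeechLevel
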