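import Cfsg.Agent.Lib.Helper91_LeechWord

set_option autoImplicit false
open Cfsg

namespace Cfsg.Agent.Lib.Helper91_LeechOrb

open Cfsg.Agent.Lib.Helper7_M24 Cfsg.Agent.Lib.Helper7_Bits Cfsg.Agent.Lib.Helper7_Perm
  Cfsg.Agent.Lib.Helper7_Xi Cfsg.Agent.Lib.Helper92_Monomial Cfsg.Agent.Lib.Helper91_LeechWord

/-- `g` maps the lattice vector with list `x` to the one with list `y` -/
def Maps (g : Equiv.Perm leechLattice) (x y : List ℤ) : Prop :=
  ∃ h : vecL x ∈ leechLattice, ((g ⟨vecL x, h⟩ : leechLattice) : GolayPt → ℤ) = vecL y

theorem Maps.mem_left {g : Equiv.Perm leechLattice} {x y : List ℤ} (h : Maps g x y) :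
    vecL x ∈ leechLattice := h.1

theorem Maps.mem_right {g : Equiv.Perm leechLattice} {x y : List ℤ} (h : Maps g x y) :
    vecL y ∈ leechLattice := by
  obtain ⟨hx, e⟩ := h
  rw [← e]; exact (g ⟨vecL x, hx⟩).2

theorem Maps.one {x : List ℤ} (h : vecL x ∈ leechLattice) : Maps 1 x x := ⟨h, rfl⟩

theorem Maps.mul {f g : Equiv.Perm leechLattice} {x y z : List ℤ} (h1 : Maps g x y)
    (h2 : Maps f y z) : Maps (f * g) x z := by
  obtain ⟨hx, e1⟩ := h1
  obtain ⟨hy, e2⟩ := h2
  refine ⟨hx, ?_⟩
  have e : g ⟨vecL x, hx⟩ = ⟨vecL y, hy⟩ := Subtype.ext e1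
  show ((f (g ⟨vecL x, hx⟩) : leechLattice) : GolayPt → ℤ) = vecL z
  rw [e, e2]

theorem Maps.inv {g : Equiv.Perm leechLattice} {x y : List ℤ} (h : Maps g x y) :
    Maps g⁻¹ y x := by
  have hy := h.mem_right
  obtain ⟨hx, e1⟩ := h
  refine ⟨hy, ?_⟩
  have e : g ⟨vecL x, hx⟩ = ⟨vecL y, hy⟩ := Subtype.ext e1
  rw [← e]
  show ((g⁻¹ (g ⟨vecL x, hx⟩) : leechLattice) : GolayPt → ℤ) = vecL x
  rw [Equiv.Perm.inv_def, Equiv.symm_apply_apply]

/-- `x` and `y` are in one orbit of the joint stabiliser of the vectors of `B` -/
def Conn (B : List (List ℤ)) (x y : List ℤ) : Prop :=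
  ∃ g ∈ Co0, (∀ b ∈ B, Maps g b b) ∧ Maps g x y

theorem Conn.refl {B : List (List ℤ)} (hB : ∀ b ∈ B, vecL b ∈ leechLattice) {x : List ℤ}
    (h : vecL x ∈ leechLattice) : Conn B x x :=
  ⟨1, Co0.one_mem, fun b hb => Maps.one (hB b hb), Maps.one h⟩

theorem Conn.trans {B : List (List ℤ)} {x y z : List ℤ} (h1 : Conn B x y) (h2 : Conn B y z) :
    Conn B x z := by
  obtain ⟨g, hg, hgB, hgx⟩ := h1
  obtain ⟨f, hf, hfB, hfy⟩ := h2
  exact ⟨f * g, Co0.mul_mem hf hg, fun b hb => (hgB b hb).mul (hfB b hb), hgx.mul hfy⟩

theorem Conn.symm {B : List (List ℤ)} {x y : List ℤ} (h : Conn B x y) : Conn B y x := by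
  obtain ⟨g, hg, hgB, hgx⟩ := h
  exact ⟨g⁻¹, Co0.inv_mem hg, fun b hb => (hgB b hb).inv, hgx.inv⟩

/-- a word is valid and fixes the base vectors -/
def stabW (B : List (List ℤ)) (w : List Letter) : Bool :=
  okW w && B.all fun b => appW w b == b

theorem conn_of_stabW {B : List (List ℤ)} (hB : ∀ b ∈ B, vecL b ∈ leechLattice) {w : List Letter}
    (hw : stabW B w = true) {x : List ℤ} (hx : vecL x ∈ leechLattice) : Conn B x (appW w x) := by
  unfold stabW at hw
  rw [Bool.and_eq_true, List.all_eq_true] at hw
  obtain ⟨g, hg, hgl⟩ := word_sound w hw.1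
  refine ⟨g, hg, fun b hb => ⟨hB b hb, ?_⟩, ⟨hx, hgl x hx⟩⟩
  rw [hgl b (hB b hb)]
  have := hw.2 b hb
  rw [beq_iff_eq] at this
  rw [this]

/-- the traversal: instruction `0` pops the stack, instruction `k+1` applies generator `k` to the
top of the stack, pushes the result and records it -/
def run (gens : List (List Letter)) : List ℕ → List (List ℤ) → List (List ℤ) → List (List ℤ)
  | [], _, acc => acc
  | 0 :: is, st, acc => run gens is st.tail acc
  | (_ + 1) :: is, [], acc => run gens is [] acc
  | (k + 1) :: is, top :: rest, acc =>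
      run gens is (appW (gens.getD k []) top :: top :: rest) (appW (gens.getD k []) top :: acc)

theorem run_conn {B : List (List ℤ)} (hB : ∀ b ∈ B, vecL b ∈ leechLattice)
    {gens : List (List Letter)} (hg : ∀ w ∈ gens, stabW B w = true) (root : List ℤ) :
    ∀ (prog : List ℕ) (st acc : List (List ℤ)), (∀ x ∈ st, Conn B root x) →
      (∀ x ∈ acc, Conn B root x) → ∀ x ∈ run gens prog st acc, Conn B root x := by
  intro prog
  induction prog with
  | nil => intro st acc _ hacc x hx; exact hacc x hx
  | cons i is ih =>
    intro st acc hst hacc x hx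
    cases i with
    | zero =>
      unfold run at hx
      exact ih st.tail acc (fun y hy => hst y (List.mem_of_mem_tail hy)) hacc x hx
    | succ k =>
      cases st with
      | nil =>
        unfold run at hx
        exact ih [] acc hst hacc x hx
      | cons top rest =>
        unfold run at hx
        have htop : Conn B root top := hst top List.mem_cons_self
        have hnew : Conn B root (appW (gens.getD k []) top) := by
          have hmem : vecL top ∈ leechLattice := by
            obtain ⟨g, _, _, hm⟩ := htop
            exact hm.mem_right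
          by_cases hk : k < gens.length
          · have : gens.getD k [] ∈ gens := by
              rw [List.getD_eq_getElem _ _ hk]; exact List.getElem_mem hk
            exact htop.trans (conn_of_stabW hB (hg _ this) hmem)
          · rw [List.getD_eq_default _ _ (by omega)]
            exact htop
        refine ih _ _ ?_ ?_ x hx
        · intro y hy
          rcases List.mem_cons.mp hy with rfl | hy
          · exact hnew
          · exact hst y hy
        · intro y hy
          rcases List.mem_cons.mp hy with rfl | hy
          · exact hnew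
          · exact hacc y hy

/-! ### a search tree keyed by numbers -/

/-- a key for a list of small integers -/
def key (l : List ℤ) : ℕ := l.foldl (fun acc a => acc * 16 + (a + 8).toNat) 0

inductive BT where
  | leaf : BT
  | node (l : BT) (k : ℕ) (v : List ℤ) (r : BT) : BT

def BT.insert : BT → ℕ → List ℤ → BT
  | .leaf, k, v => .node .leaf k v .leaf
  | .node l k' v' r, k, v =>
      if k < k' then .node (l.insert k v) k' v' r else .node l k' v' (r.insert k v)

def BT.contains : BT → ℕ → List ℤ → Bool
  | .leaf, _, _ => false
  | .node l k' v' r, k, v =>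
      if k < k' then l.contains k v else if k' < k then r.contains k v else v == v'

def BT.toList : BT → List (ℕ × List ℤ)
  | .leaf => []
  | .node l k v r => l.toList ++ (k, v) :: r.toList

theorem BT.insert_perm (t : BT) (k : ℕ) (v : List ℤ) :
    (t.insert k v).toList.Perm ((k, v) :: t.toList) := by
  induction t with
  | leaf => exact List.Perm.refl _
  | node l k' v' r ihl ihr =>
    unfold BT.insert
    by_cases h : k < k'
    · rw [if_pos h]
      show ((l.insert k v).toList ++ (k', v') :: r.toList).Perm ((k, v) :: (l.toList ++ (k', v') :: r.toList))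
      exact (List.Perm.append_right _ ihl)
    · rw [if_neg h]
      show (l.toList ++ (k', v') :: (r.insert k v).toList).Perm ((k, v) :: (l.toList ++ (k', v') :: r.toList))
      have h1 : (l.toList ++ (k', v') :: (r.insert k v).toList).Perm
          (l.toList ++ (k', v') :: (k, v) :: r.toList) :=
        List.Perm.append_left _ (List.Perm.cons _ ihr)
      refine h1.trans ?_
      have h2 : (l.toList ++ (k', v') :: (k, v) :: r.toList).Perm
          (l.toList ++ (k, v) :: (k', v') :: r.toList) :=
        List.Perm.append_left _ (List.Perm.swap _ _ _)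
      exact h2.trans List.perm_middle

theorem BT.contains_sound (t : BT) (k : ℕ) (v : List ℤ) (h : t.contains k v = true) :
    v ∈ t.toList.map Prod.snd := by
  induction t with
  | leaf => simp [BT.contains] at h
  | node l k' v' r ihl ihr =>
    unfold BT.contains at h
    show v ∈ (l.toList ++ (k', v') :: r.toList).map Prod.snd
    rw [List.map_append, List.map_cons, List.mem_append, List.mem_cons]
    by_cases h1 : k < k'
    · rw [if_pos h1] at h; exact Or.inl (ihl h)
    · rw [if_neg h1] at h
      by_cases h2 : k' < k
      · rw [if_pos h2] at h; exact Or.inr (Or.inr (ihr h))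
      · rw [if_neg h2, beq_iff_eq] at h; exact Or.inr (Or.inl h)

/-- the tree of a list of vectors -/
def build (L : List (List ℤ)) : BT := L.foldl (fun t v => t.insert (key v) v) .leaf

theorem foldl_insert_perm (L : List (List ℤ)) (t : BT) :
    (L.foldl (fun t v => t.insert (key v) v) t).toList.Perm
      (L.reverse.map (fun v => (key v, v)) ++ t.toList) := by
  induction L generalizing t with
  | nil => exact List.Perm.refl _
  | cons a L ih =>
    rw [List.foldl_cons, List.reverse_cons, List.map_append, List.append_assoc]
    refine (ih _).trans (List.Perm.append_left _ ?_)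
    exact BT.insert_perm t (key a) a

theorem build_perm (L : List (List ℤ)) :
    (build L).toList.Perm (L.map fun v => (key v, v)) := by
  have := foldl_insert_perm L .leaf
  rw [show BT.leaf.toList = [] from rfl, List.append_nil] at this
  exact this.trans ((List.reverse_perm L).map _)

theorem mem_of_contains (L : List (List ℤ)) (v : List ℤ)
    (h : (build L).contains (key v) v = true) : v ∈ L := by
  have h1 := BT.contains_sound _ _ _ h
  have h2 := ((build_perm L).map Prod.snd).mem_iff.mp h1
  rw [List.map_map] at h2
  simpa using h2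

/-- strictly increasing -/
def strictB : List ℕ → Bool
  | a :: b :: t => decide (a < b) && strictB (b :: t)
  | _ => true

theorem nodup_of_strictB : ∀ l : List ℕ, strictB l = true → l.Nodup := by
  intro l h
  have hc : l.IsChain (· < ·) := by
    induction l with
    | nil => exact List.isChain_nil
    | cons a t ih =>
      cases t with
      | nil => exact List.isChain_singleton a
      | cons b t =>
        unfold strictB at h
        rw [Bool.and_eq_true, decide_eq_true_eq] at h
        exact List.isChain_cons_cons.mpr ⟨h.1, ih h.2⟩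
  rw [List.isChain_iff_pairwise] at hc
  exact hc.imp (fun h => Nat.ne_of_lt h)

theorem nodup_of_build (L : List (List ℤ))
    (h : strictB ((build L).toList.map Prod.fst) = true) : L.Nodup := by
  have h1 := nodup_of_strictB _ h
  have h2 : (L.map key).Nodup := by
    have := ((build_perm L).map Prod.fst).nodup_iff.mp h1
    rw [List.map_map] at this
    exact this
  exact List.Nodup.of_map key h2

end Cfsg.Agent.Lib.Helper91_LeechOrb
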