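import Cfsg.Agent.Lib.Helper7_Xi
import Cfsg.Agent.Lib.Helper7_Perm
import Cfsg.Agent.Lib.Helper92_Monomial
import Cfsg.Agent.Lib.Helper26_LeechDot

set_option autoImplicit false
open Cfsg

namespace Cfsg.Agent.Lib.Helper91_LeechWord

open Cfsg.Agent.Lib.Helper7_M24 Cfsg.Agent.Lib.Helper7_Bits Cfsg.Agent.Lib.Helper7_Perm
  Cfsg.Agent.Lib.Helper7_Xi Cfsg.Agent.Lib.Helper92_Monomial

theorem getD_map_range {α : Type*} (F : ℕ → α) (d : α) (n k : ℕ) (hk : k < n) :
    ((List.range n).map F).getD k d = F k := by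
  rw [List.getD_eq_getElem?_getD, List.getElem?_map, List.getElem?_range hk]
  rfl

theorem vecL_map_range (F : ℕ → ℤ) (p : GolayPt) : vecL ((List.range 24).map F) p = F (enc p) :=
  getD_map_range F 0 24 (enc p) (enc_lt p)

theorem vecL_dec (l : List ℤ) (k : ℕ) (hk : k < 24) : vecL l (dec k) = l.getD k 0 := by
  unfold vecL
  rw [enc_dec k hk]

theorem sum_golayPt {M : Type*} [AddCommMonoid M] (F : GolayPt → M) :
    ∑ q : GolayPt, F q = ∑ i ∈ Finset.range 24, F (dec i) := by
  have h : (Finset.univ : Finset GolayPt) = (Finset.range 24).image dec := by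
    ext p
    simp only [Finset.mem_univ, Finset.mem_image, Finset.mem_range, true_iff]
    exact ⟨enc p, enc_lt p, dec_enc p⟩
  rw [h, Finset.sum_image]
  intro a ha b hb hab
  rw [Finset.mem_coe, Finset.mem_range] at ha hb
  rw [← enc_dec a ha, ← enc_dec b hb, hab]

theorem list_sum_map_range {M : Type*} [AddCommMonoid M] (F : ℕ → M) (n : ℕ) :
    ((List.range n).map F).sum = ∑ i ∈ Finset.range n, F i := by
  induction n with
  | zero => simp
  | succ n ih => rw [List.range_succ, List.map_append, List.sum_append, ih, Finset.sum_range_succ]; simp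

/-- the signed permutation with inverse table `t'` and sign mask `m`, on lists -/
def monoL (t' : List ℕ) (m : ℕ) (l : List ℤ) : List ℤ :=
  (List.range 24).map fun i =>
    if m.testBit i then - l.getD (t'.getD i 0) 0 else l.getD (t'.getD i 0) 0

theorem vecL_monoL (t t' : List ℕ) (h : checkInv t t' = true) (h' : checkInv t' t = true) (m : ℕ)
    (l : List ℤ) :
    vecL (monoL t' m l) = signedPerm (listPerm t t' h h') (support₂ (toWord m)) (vecL l) := by
  funext p
  unfold monoL
  rw [vecL_map_range]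
  unfold signedPerm
  rw [listPerm_symm_apply, vecL_dec _ _ (checkInv_spec h' (enc p) (enc_lt p)).1]
  by_cases hb : m.testBit (enc p) = true
  · rw [if_pos hb, if_pos ((mem_support₂_toWord m p).mpr hb)]
  · rw [if_neg hb, if_neg (fun hc => hb ((mem_support₂_toWord m p).mp hc))]

/-- signs of the twenty-four points in the definition of `xi` -/
def sgL : List ℤ := tetL.map fun t => if t = 0 then -1 else 1

theorem sg_eq (p : GolayPt) : sg p = sgL.getD (enc p) 0 := by
  revert p; decide

/-- signed sum over one tetrad -/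
def tsum (l : List ℤ) (t : ℕ) : ℤ :=
  ((List.range 24).map fun j => if tetL.getD j 0 = t then sgL.getD j 0 * l.getD j 0 else 0).sum

/-- `xi` on lists -/
def xiL (l : List ℤ) : List ℤ :=
  (List.range 24).map fun i =>
    (2 * sgL.getD i 0 * l.getD i 0 - tsum l (tetL.getD i 0)) / 2

theorem mulVec_A (x : GolayPt → ℤ) (p : GolayPt) :
    A.mulVec x p = 2 * sg p * x p - ∑ q, if tet q = tet p then sg q * x q else 0 := by
  unfold Matrix.mulVec dotProduct A
  simp only [sub_mul, Finset.sum_sub_distrib, ite_mul, zero_mul]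
  rw [Finset.sum_ite_eq Finset.univ p (fun q => 2 * sg p * x q), if_pos (Finset.mem_univ p)]

theorem vecL_xiL (l : List ℤ) : vecL (xiL l) = xiF (vecL l) := by
  funext p
  unfold xiL
  rw [vecL_map_range]
  unfold xiF half
  rw [xi2_apply, mulVec_A, sum_golayPt, sg_eq]
  unfold tsum
  rw [list_sum_map_range]
  congr 2


/-! ### letters and words -/

/-- a letter: a signed permutation (table, inverse table, sign mask) or `xi` -/
inductive Letter where
  | mono (t t' : List ℕ) (m : ℕ) : Letter
  | xi : Letter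

/-- validity of a letter -/
def Letter.ok : Letter → Bool
  | .mono t t' m => checkM24 t t' && inCode m
  | .xi => true

/-- action of a letter on lists -/
def Letter.app : Letter → List ℤ → List ℤ
  | .mono _ t' m, l => monoL t' m l
  | .xi, l => xiL l

/-- action of a word (the last letter acts first) -/
def appW : List Letter → List ℤ → List ℤ
  | [], l => l
  | a :: w, l => a.app (appW w l)

/-- validity of a word -/
def okW (w : List Letter) : Bool := w.all Letter.ok

theorem letter_sound (a : Letter) (ha : a.ok = true) :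
    ∃ g ∈ Co0, ∀ (l : List ℤ) (h : vecL l ∈ leechLattice),
      ((g ⟨vecL l, h⟩ : leechLattice) : GolayPt → ℤ) = vecL (a.app l) := by
  cases a with
  | mono t t' m =>
    unfold Letter.ok checkM24 at ha
    rw [Bool.and_eq_true, Bool.and_eq_true, Bool.and_eq_true] at ha
    obtain ⟨⟨⟨h1, h2⟩, h3⟩, h4⟩ := ha
    refine ⟨monoPerm (listPerm t t' h1 h2) (listPerm_mem_M24 t t' h1 h2 h3) (toWord m)
      (toWord_mem_of_inCode h4), monoPerm_mem_Co0 _ _ _ _, fun l h => ?_⟩
    rw [monoPerm_apply]
    exact (vecL_monoL t t' h1 h2 m l).symm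
  | xi =>
    refine ⟨Cfsg.Agent.Lib.Helper7_Xi.xi, xi_mem_Co0, fun l h => ?_⟩
    rw [xi_coe]
    exact (vecL_xiL l).symm

theorem word_sound (w : List Letter) (hw : okW w = true) :
    ∃ g ∈ Co0, ∀ (l : List ℤ) (h : vecL l ∈ leechLattice),
      ((g ⟨vecL l, h⟩ : leechLattice) : GolayPt → ℤ) = vecL (appW w l) := by
  induction w with
  | nil => exact ⟨1, Co0.one_mem, fun l h => rfl⟩
  | cons a w ih =>
    unfold okW at hw ih
    rw [List.all_cons, Bool.and_eq_true] at hw
    obtain ⟨g, hg, hgl⟩ := ih hw.2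
    obtain ⟨f, hf, hfl⟩ := letter_sound a hw.1
    refine ⟨f * g, Co0.mul_mem hf hg, fun l h => ?_⟩
    have h2 : vecL (appW w l) ∈ leechLattice := by
      rw [← hgl l h]; exact (g ⟨vecL l, h⟩).2
    have e : g ⟨vecL l, h⟩ = ⟨vecL (appW w l), h2⟩ := Subtype.ext (hgl l h)
    show ((f (g ⟨vecL l, h⟩) : leechLattice) : GolayPt → ℤ) = vecL (a.app (appW w l))
    rw [e, hfl]

end Cfsg.Agent.Lib.Helper91_LeechWord
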