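import Mathlib
import Cfsg.Agent.Lib.Helper91_M24Stab3

/-!
Lookup lemmas for orbit forests on the 2576 dodecads.
-/

set_option autoImplicit false
open Cfsg
open scoped Pointwise
open Cfsg.Agent.Lib.Helper26_Golay
open Cfsg.Agent.Lib.Helper91_M24Stab

namespace Cfsg.Agent.Lib.Helper91_M24Dod

/-- Lookup in a forest on the 2576 dodecads: two dodecads with the same root are related by `H`. -/
theorem exists_map_of_dodForest (H : Subgroup (Equiv.Perm GolayPt)) (TT r : ℕ)
    (hg : GensIn H TT r) (P G D R : ℕ)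
    (hf : forestCheck (maskStepOk TT r) dodAt P G D R 2576 = true)
    (z' z'' : Finset GolayPt) (j1 j2 : ℕ) (hj1 : j1 < 2576) (hj2 : j2 < 2576)
    (h1 : dodAt j1 = enc z') (h2 : dodAt j2 = enc z'') (hroot : get16 R j1 = get16 R j2) :
    ∃ g ∈ H, g • z' = z'' := by
  have m1 := (mask_forest H TT r hg dodAt P G D R 2576 hf j1 hj1).2.2
  have m2 := (mask_forest H TT r hg dodAt P G D R 2576 hf j2 hj2).2.2
  rw [hroot] at m1
  have m3 : MaskRel H (enc z') (enc z'') := by
    rw [← h1, ← h2]
    exact maskRel_trans (maskRel_symm (dodAt_lt _) m1) m2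
  exact exists_of_maskRel m3

/-- A dodecad is `dec (dodAt j)` for some index `j`. -/
theorem exists_index_of_mem_dodecads {z : Finset GolayPt} (hz : z ∈ dodecads) :
    ∃ j < 2576, dodAt j = enc z := by
  rw [mem_dodecads_iff] at hz
  obtain ⟨j, hj, hjo⟩ := List.mem_map.mp hz
  rw [List.mem_range] at hj
  exact ⟨j, hj, hjo⟩

end Cfsg.Agent.Lib.Helper91_M24Dod
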