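import Mathlib
import Cfsg.Agent.Lib.Helper44_StdForms
import Cfsg.Agent.Lib.Helper44_Refl

/-!
# The action of `O⁻(6,3)` on the 112 singular points, concretely

helper91.  Vectors of `(ZMod 3)^6` are functions `(Fin 2 ⊕ Fin 2) ⊕ Fin 2 → ZMod 3`, coded by
numbers below `3^6`.  The 112 singular points of `quadFormMinus 2 (ZMod 3) 0 1` (and the zero
vector as the 113th "point") are listed in a packed table; `nrm` sends a singular vector to the
index of its point and all other vectors to `112`.  Isometries act on `Fin 113` by
`i ↦ nrm (g *ᵥ pt i)`.  The order of the points is the one matching the 112 lattice vectors of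
`Helper91_Co3L3a`.
-/

set_option autoImplicit false

namespace Cfsg.Agent.Lib.Helper91_O6mPts

open Matrix Cfsg.Agent.Lib.Helper44_StdForms Cfsg.Agent.Lib.Helper44_Refl
  Cfsg.Agent.Lib.Helper44_Orth

/-- the index type of the coordinates -/
abbrev I6 : Type := (Fin 2 ⊕ Fin 2) ⊕ Fin 2

/-- the space -/
abbrev V6 : Type := I6 → ZMod 3

/-- a vector from its six coordinates -/
def mkV (a0 a1 a2 a3 a4 a5 : ZMod 3) : V6 :=
  Sum.elim (Sum.elim ![a0, a2] ![a1, a3]) ![a4, a5]

theorem mkV_eta (v : V6) :
    mkV (v (Sum.inl (Sum.inl 0))) (v (Sum.inl (Sum.inr 0))) (v (Sum.inl (Sum.inl 1)))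
      (v (Sum.inl (Sum.inr 1))) (v (Sum.inr 0)) (v (Sum.inr 1)) = v := by
  funext x
  rcases x with (i | i) | i
  · fin_cases i <;> rfl
  · fin_cases i <;> rfl
  · fin_cases i <;> rfl

/-- the code of a vector, a number below `3^6` -/
def code (v : V6) : ℕ :=
  (v (Sum.inl (Sum.inl 0))).val + 3 * (v (Sum.inl (Sum.inr 0))).val
    + 9 * (v (Sum.inl (Sum.inl 1))).val + 27 * (v (Sum.inl (Sum.inr 1))).val
    + 81 * (v (Sum.inr 0)).val + 243 * (v (Sum.inr 1)).val

/-- the `i`-th base-3 digit of `n` as an element of `ZMod 3` -/
def dg (n i : ℕ) : ZMod 3 := (⟨n / 3 ^ i % 3, Nat.mod_lt _ (by norm_num)⟩ : Fin 3)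

/-- the vector with a given code -/
def dec (n : ℕ) : V6 := mkV (dg n 0) (dg n 1) (dg n 2) (dg n 3) (dg n 4) (dg n 5)

theorem code_lt (v : V6) : code v < 729 := by
  unfold code
  have h := fun x => ZMod.val_lt (v x)
  have h0 := h (Sum.inl (Sum.inl 0))
  have h1 := h (Sum.inl (Sum.inr 0))
  have h2 := h (Sum.inl (Sum.inl 1))
  have h3 := h (Sum.inl (Sum.inr 1))
  have h4 := h (Sum.inr 0)
  have h5 := h (Sum.inr 1)
  omega

theorem dec_code (v : V6) : dec (code v) = v := by
  have h := fun x => ZMod.val_lt (v x)
  have h0 := h (Sum.inl (Sum.inl 0))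
  have h1 := h (Sum.inl (Sum.inr 0))
  have h2 := h (Sum.inl (Sum.inl 1))
  have h3 := h (Sum.inl (Sum.inr 1))
  have h4 := h (Sum.inr 0)
  have h5 := h (Sum.inr 1)
  have e : ∀ (k : ZMod 3) (m : ℕ), m % 3 = k.val →
      ((⟨m % 3, Nat.mod_lt _ (by norm_num)⟩ : Fin 3) : ZMod 3) = k := by
    intro k m hm
    apply Fin.ext
    exact hm
  conv_rhs => rw [← mkV_eta v]
  unfold dec dg code
  congr 1
  · apply e; norm_num; omega
  · apply e; norm_num; omega
  · apply e; norm_num; omega
  · apply e; norm_num; omega
  · apply e; norm_num; omega
  · apply e; norm_num; omega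

/-- the quadratic form, written out -/
def q6 (v : V6) : ZMod 3 :=
  v (Sum.inl (Sum.inl 0)) * v (Sum.inl (Sum.inr 0)) + v (Sum.inl (Sum.inl 1)) * v (Sum.inl (Sum.inr 1))
    + v (Sum.inr 0) * v (Sum.inr 0) + v (Sum.inr 1) * v (Sum.inr 1)

theorem quadFormMinus_eq (v : V6) : Cfsg.quadFormMinus 2 (ZMod 3) 0 1 v = q6 v := by
  simp only [Cfsg.quadFormMinus, Fin.sum_univ_two, q6]
  ring

/-- the bundled form -/
abbrev Q6 : QuadraticForm (ZMod 3) V6 := qfMinus 2 (ZMod 3) 0 1

theorem Q6_apply (v : V6) : Q6 v = q6 v := by
  rw [show Q6 v = (⇑(qfMinus 2 (ZMod 3) 0 1)) v from rfl, coe_qfMinus, quadFormMinus_eq]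

/-- packed table of the codes of the 112 singular points (entry 112 is the zero vector) -/
def ptTab : ℕ := 19025704440123498181463011160099854217565722648479439583742866287378773935229299591706283633717853720455424574890545906814244950962219743276842078806711910225168545686006205488343869577930665896793627863454953126320292481310771515844830945653343429073585546157401338733576713175667835811676923591356599226259724004255477816573617622035

/-- packed table: code of a vector to the index of its point (112 for nonsingular or zero) -/
def nrmTab : ℕ := 1263202617241537599234166054113971294102811468307600592961577534288904325241744346434547500257787147622523464823083193548648833277604404894935659335067427856099966308330102358296289108628433720628961697439874288383057542564963566051787157159792793558301229649260252633745532154204340945439324359945360607511790753723832593643873937019709782088800937711937133267778105394783709042781785727891568676278597532740998396876209133300399469546005865290137006373860954477072349774023970336451020419030493943114506387079669680087908384628182139289496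852567066161822298768868740461099023564072010453402303953844971753322372468592833276990828384451963966100124378235447839467943856620359890610073689168081595168901516128183275274263613168764349457492427175861660987745540383545058538348596073633280548813902088390866381834952522362147018991324867369192556570351062240026716599542805038087561943309217483457415906642556587928355754884534541968845090448191543860260312014749783216623088549523333500645250138553168030143413236131149763241124832122694813564318057053664372704725300657601567007878377900552379978666138277635485767485218092912706526625393301341087459584557034196251692356852094383659941927746452160363206728068457295951170516477111448376597191653105742533345239290808525623107947341369871286023272239654359394641389326492543122869223797954773561987977538510251441396928779227290392305939690199849395758438068914661498339941279151538810566165935177092341991596241449254390580475304749189046609897194782796447602976238793528586793712875504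

/-- the normalised vector spanning the `i`-th point -/
def pt (i : Fin 113) : V6 := dec (ptTab / 1024 ^ i.val % 1024)

/-- the index of the point spanned by a vector -/
def nrm (v : V6) : Fin 113 := Fin.ofNat 113 (nrmTab / 128 ^ code v % 128)

theorem nrm_pt : ∀ i : Fin 113, nrm (pt i) = i := by decide +kernel

theorem q6_pt : ∀ i : Fin 113, q6 (pt i) = 0 := by decide +kernel

set_option maxRecDepth 100000 in
theorem nrm_smul_mkV : ∀ s a0 a1 a2 a3 a4 a5 : ZMod 3, s ≠ 0 →
    nrm (s • mkV a0 a1 a2 a3 a4 a5) = nrm (mkV a0 a1 a2 a3 a4 a5) := by
  decide +kernel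

set_option maxRecDepth 100000 in
theorem pt_nrm_mkV : ∀ a0 a1 a2 a3 a4 a5 : ZMod 3, q6 (mkV a0 a1 a2 a3 a4 a5) = 0 →
    ∃ s : ZMod 3, s ≠ 0 ∧ pt (nrm (mkV a0 a1 a2 a3 a4 a5)) = s • mkV a0 a1 a2 a3 a4 a5 := by
  decide +kernel

theorem nrm_smul (s : ZMod 3) (v : V6) (hs : s ≠ 0) : nrm (s • v) = nrm v := by
  rw [← mkV_eta v]
  exact nrm_smul_mkV s _ _ _ _ _ _ hs

theorem pt_nrm (v : V6) (hv : q6 v = 0) : ∃ s : ZMod 3, s ≠ 0 ∧ pt (nrm v) = s • v := by
  rw [← mkV_eta v] at hv ⊢
  exact pt_nrm_mkV _ _ _ _ _ _ hv

theorem dec_zero : dec 0 = (0 : V6) := by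
  funext x
  rcases x with (i | i) | i
  · fin_cases i <;> rfl
  · fin_cases i <;> rfl
  · fin_cases i <;> rfl

end Cfsg.Agent.Lib.Helper91_O6mPts
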