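import Mathlib
import Cfsg.Agent.Lib.Helper91_O6mPts
import Cfsg.Agent.Lib.Helper44_Spinor

/-!
# The permutation representation of `O⁻(6,3)` on `Fin 113`, and reflections

helper91.  `phi : isometryGroup (ZMod 3) Q6 →* Perm (Fin 113)`, its values on products of two
reflections in vectors of norm `-1`, and the conjugation formula.
-/

set_option autoImplicit false

namespace Cfsg.Agent.Lib.Helper91_O6mTheta

open Matrix Cfsg.Agent.Lib.Helper44_StdForms Cfsg.Agent.Lib.Helper44_Refl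
  Cfsg.Agent.Lib.Helper44_Orth Cfsg.Agent.Lib.Helper44_Spinor Cfsg.Agent.Lib.Helper91_O6mPts

/-- the matrices -/
abbrev M6 : Type := Matrix I6 I6 (ZMod 3)

/-- the isometry group -/
abbrev O6 : Type := ↥(Cfsg.isometryGroup (ZMod 3) (⇑Q6))

/-- the matrix of an isometry -/
def mat (g : O6) : M6 := ((g : Matrix.GeneralLinearGroup I6 (ZMod 3)) : M6)

theorem mat_mul (g h : O6) : mat (g * h) = mat g * mat h := rfl

theorem mat_one : mat 1 = 1 := rfl

theorem q6_mat (g : O6) (v : V6) : q6 (mat g *ᵥ v) = q6 v := by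
  have h := (mem_isometryGroup_iff (⇑Q6) g.1).mp g.2 v
  rw [Q6_apply, Q6_apply] at h
  exact h

/-- the action of a matrix on the 113 "points" -/
def actM (A : M6) (i : Fin 113) : Fin 113 := nrm (A *ᵥ pt i)

theorem actM_one : actM 1 = id := by
  funext i
  simp only [actM, Matrix.one_mulVec, nrm_pt, id]

theorem actM_mul (A : M6) (g : O6) : actM (A * mat g) = actM A ∘ actM (mat g) := by
  funext i
  simp only [actM, Function.comp]
  have hq : q6 (mat g *ᵥ pt i) = 0 := by rw [q6_mat, q6_pt]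
  obtain ⟨s, hs, h⟩ := pt_nrm (mat g *ᵥ pt i) hq
  rw [h, Matrix.mulVec_smul, nrm_smul _ _ hs, Matrix.mulVec_mulVec]

/-- the action as a monoid homomorphism into the endomorphisms of `Fin 113` -/
def phiEnd : O6 →* Function.End (Fin 113) where
  toFun g := actM (mat g)
  map_one' := actM_one
  map_mul' g h := actM_mul (mat g) h

/-- the permutation representation of the isometry group -/
def phi : O6 →* Equiv.Perm (Fin 113) := MonoidHom.toHomPerm phiEnd

theorem phi_apply (g : O6) (i : Fin 113) : phi g i = nrm (mat g *ᵥ pt i) := rfl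

/-- the polar form, written out -/
def pol6 (v x : V6) : ZMod 3 := q6 (v + x) - q6 v - q6 x

theorem polar_eq (v x : V6) : QuadraticMap.polar (⇑Q6) v x = pol6 v x := by
  simp only [QuadraticMap.polar, Q6_apply, pol6]

/-- the reflection in a vector of norm `-1` -/
def rf (v x : V6) : V6 := x + pol6 v x • v

theorem reflectionMatrix_mulVec_rf (v x : V6) (hv : q6 v = -1) :
    Cfsg.reflectionMatrix (⇑Q6) v *ᵥ x = rf v x := by
  rw [reflectionMatrix_mulVec, Q6_apply, hv, polar_eq, rf]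
  have : ((-1 : ZMod 3))⁻¹ = -1 := inv_neg_one
  rw [this, neg_one_mul, neg_smul, sub_neg_eq_add]

theorem Q6_ne_zero {v : V6} (hv : q6 v = -1) : Q6 v ≠ 0 := by
  rw [Q6_apply, hv]; decide

theorem mat_reflT (v : V6) (hv : q6 v = -1) : mat (reflT Q6 v) = Cfsg.reflectionMatrix (⇑Q6) v := by
  rw [mat, reflT_coe Q6 v (Q6_ne_zero hv)]

theorem phi_rr (u v : V6) (hu : q6 u = -1) (hv : q6 v = -1) (i : Fin 113) :
    phi (reflT Q6 u * reflT Q6 v) i = nrm (rf u (rf v (pt i))) := by
  rw [phi_apply, mat_mul, mat_reflT u hu, mat_reflT v hv, ← Matrix.mulVec_mulVec,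
    reflectionMatrix_mulVec_rf v _ hv, reflectionMatrix_mulVec_rf u _ hu]

theorem reflT_mul_self (v : V6) (hv : q6 v = -1) : reflT Q6 v * reflT Q6 v = 1 := by
  rw [reflT_of_ne Q6 v (Q6_ne_zero hv)]
  exact refl_mul_self Q6 v _

theorem reflT_inv (v : V6) (hv : q6 v = -1) : (reflT Q6 v)⁻¹ = reflT Q6 v :=
  inv_eq_of_mul_eq_one_left (reflT_mul_self v hv)

/-- conjugating a reflection -/
theorem reflT_conj (g : O6) (v : V6) (hv : q6 v = -1) :
    g * reflT Q6 v * g⁻¹ = reflT Q6 (mat g *ᵥ v) := by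
  have hgv : q6 (mat g *ᵥ v) = -1 := by rw [q6_mat, hv]
  apply Subtype.ext
  apply Units.ext
  show mat g * mat (reflT Q6 v) * mat g⁻¹ = mat (reflT Q6 (mat g *ᵥ v))
  rw [mat_reflT v hv, mat_reflT _ hgv]
  exact conj_reflectionMatrix Q6 g v

theorem reflT_neg (v : V6) (hv : q6 v = -1) : reflT Q6 (-v) = reflT Q6 v := by
  have hnv : q6 (-v) = -1 := by
    rw [← hv, ← Q6_apply, ← Q6_apply, QuadraticMap.map_neg]
  apply Subtype.ext
  apply Units.ext
  show mat (reflT Q6 (-v)) = mat (reflT Q6 v)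
  rw [mat_reflT v hv, mat_reflT _ hnv, reflectionMatrix_neg]

theorem mat_rr_mulVec (v w x : V6) (hv : q6 v = -1) (hw : q6 w = -1) :
    mat (reflT Q6 v * reflT Q6 w) *ᵥ x = rf v (rf w x) := by
  rw [mat_mul, mat_reflT v hv, mat_reflT w hw, ← Matrix.mulVec_mulVec,
    reflectionMatrix_mulVec_rf w _ hw, reflectionMatrix_mulVec_rf v _ hv]

end Cfsg.Agent.Lib.Helper91_O6mTheta
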