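import Mathlib
import Cfsg.Agent.Lib.Helper91_O6mTheta

/-!
# Six reflections whose conjugates give all reflections of norm `-1` in `O⁻(6,3)`

helper91.  A subgroup `R` of `Perm (Fin 113)` containing `phi (r_{u₀} r_v)` for the six base
vectors `v` contains `phi (r_u r_v)` for all vectors `u`, `v` of norm `-1`.
-/

set_option autoImplicit false

namespace Cfsg.Agent.Lib.Helper91_O6mClosure

open Matrix Cfsg.Agent.Lib.Helper44_StdForms Cfsg.Agent.Lib.Helper44_Refl
  Cfsg.Agent.Lib.Helper44_Orth Cfsg.Agent.Lib.Helper44_Spinor Cfsg.Agent.Lib.Helper91_O6mPts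
  Cfsg.Agent.Lib.Helper91_O6mTheta

/-- code of the first base vector -/
def c0 : ℕ := 568

/-- codes of the six base vectors -/
def baseCodes : List ℕ := [568, 435, 373, 343, 675, 40]

/-- the certificate: `(v, w, x, y)` with `y = r_v r_w x` -/
def cert : List (ℕ × ℕ × ℕ × ℕ) := [(568, 435, 373, 212), (568, 435, 40, 416), (568, 373, 343, 282), (568, 373, 675, 644), (568, 373, 40, 666), (568, 343, 675, 46), (568, 343, 40, 608), (568, 675, 40, 311), (435, 373, 343, 689), (435, 373, 675, 76), (435, 373, 40, 321), (435, 343, 40, 577), (435, 675, 40, 280), (373, 343, 675, 654), (373, 675, 40, 715), (343, 373, 675, 705), (343, 373, 40, 326), (343, 675, 40, 59), (675, 373, 343, 14), (212, 568, 46, 89), (212, 568, 311, 573), (212, 568, 280, 119), (568, 212, 280, 462), (212, 568, 705, 429), (568, 212, 705, 198), (212, 568, 59, 512), (568, 212, 59, 281), (212, 568, 14, 521), (568, 212, 14, 317), (212, 435, 326, 224), (212, 435, 59, 663), (343, 212, 311, 624), (343, 212, 280, 149), (212, 343, 715, 117),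 (343, 212, 715, 260), (343, 212, 59, 433), (212, 675, 326, 528), (675, 212, 326, 704), (675, 212, 59, 414), (212, 40, 654, 725), (212, 40, 14, 85), (212, 416, 46, 401), (416, 212, 46, 672), (212, 416, 654, 237), (416, 212, 654, 98), (212, 416, 715, 156), (212, 416, 705, 7), (416, 212, 705, 353), (212, 416, 59, 330), (416, 212, 59, 676), (212, 416, 14, 570), (666, 212, 654, 348), (666, 212, 14, 459), (46, 212, 416, 278), (46, 212, 321, 432), (46, 212, 577, 596), (46, 212, 280, 446), (46, 212, 715, 638), (212, 311, 705, 305), (212, 311, 326, 634), (212, 577, 654, 107), (212, 280, 326, 197), (280, 212, 326, 154), (280, 212, 59, 569), (280, 212, 14, 325), (715, 212, 326, 66), (705, 212, 416, 588), (705, 212, 311, 578), (59, 212, 416, 265), (59, 212, 321, 472), (59, 212, 14, 131), (14, 212, 280, 476), (416, 568, 14, 23), (416, 568, 512, 494), (568, 416, 433, 47), (416, 568, 704, 315), (416, 568, 414, 405), (568, 416, 414, 423), (568, 416, 330, 339), (568, 416, 446, 48), (416, 568, 638, 465), (568,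 416, 638, 61), (416, 568, 305, 159), (568, 416, 305, 727), (416, 568, 634, 482), (568, 416, 569, 587), (416, 568, 131, 274), (568, 416, 131, 678), (416, 435, 131, 668), (416, 373, 569, 143), (675, 416, 59, 94), (675, 416, 117, 379), (675, 416, 433, 344), (675, 416, 414, 236), (675, 416, 725, 490), (416, 675, 330, 708), (675, 416, 569, 558), (675, 416, 66, 536), (675, 416, 131, 220), (212, 416, 131, 335), (282, 416, 414, 395), (282, 416, 638, 657), (282, 416, 305, 324), (282, 416, 578, 240), (282, 416, 131, 556), (46, 416, 433, 63), (46, 416, 414, 622), (46, 416, 569, 461), (46, 416, 66, 417), (76, 416, 131, 269), (416, 280, 131, 554), (654, 416, 433, 701), (654, 416, 305, 561), (654, 416, 66, 155), (715, 416, 131, 179), (705, 416, 305, 426), (59, 416, 325, 381), (89, 416, 433, 133), (89, 416, 66, 316), (89, 416, 131, 351)]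

/-- run the certificate, extending the list of known codes -/
def runCert : List (ℕ × ℕ × ℕ × ℕ) → List ℕ → Option (List ℕ)
  | [], k => some k
  | (v, w, x, y) :: r, k =>
    if v ∈ k ∧ w ∈ k ∧ x ∈ k ∧ code (rf (dec v) (rf (dec w) (dec x))) = y then
      runCert r (y :: k) else none

theorem runCert_sound (P : V6 → Prop) (hP : ∀ v w x, P v → P w → P x → P (rf v (rf w x))) :
    ∀ (c : List (ℕ × ℕ × ℕ × ℕ)) (k K : List ℕ), (∀ n ∈ k, P (dec n)) → runCert c k = some K →
      ∀ n ∈ K, P (dec n) := by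
  intro c
  induction c with
  | nil =>
    intro k K hk h
    simp only [runCert, Option.some.injEq] at h
    subst h
    exact hk
  | cons t r ih =>
    obtain ⟨v, w, x, y⟩ := t
    intro k K hk h
    simp only [runCert] at h
    split_ifs at h with hc
    obtain ⟨hv, hw, hx, hy⟩ := hc
    refine ih (y :: k) K ?_ h
    intro n hn
    rcases List.mem_cons.mp hn with rfl | hn
    · rw [← hy, dec_code]
      exact hP _ _ _ (hk v hv) (hk w hw) (hk x hx)
    · exact hk n hn

/-- the code of the negative -/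
def negCode (n : ℕ) : ℕ := code (-(dec n))

/-- the final check: every vector of norm `-1` is reached up to sign -/
def finalOK : Bool :=
  match runCert cert baseCodes with
  | some K => (List.range 729).all
      (fun n => !(decide (q6 (dec n) = -1)) || K.contains n || K.contains (negCode n))
  | none => false

theorem finalOK_true : finalOK = true := by decide +kernel

theorem all_of_base (P : V6 → Prop) (hb : ∀ n ∈ baseCodes, P (dec n))
    (hP : ∀ v w x, P v → P w → P x → P (rf v (rf w x))) (hN : ∀ x, P (-x) → P x) :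
    ∀ x : V6, q6 x = -1 → P x := by
  intro x hx
  have hf := finalOK_true
  unfold finalOK at hf
  split at hf
  · next K hK =>
    have hall := runCert_sound P hP cert baseCodes K hb hK
    rw [List.all_eq_true] at hf
    have h1 := hf (code x) (List.mem_range.mpr (code_lt x))
    rw [dec_code] at h1
    simp only [Bool.or_eq_true, Bool.not_eq_true', decide_eq_false_iff_not, List.contains_iff_mem] at h1
    rcases h1 with (h1 | h1) | h1
    · exact absurd hx h1
    · have := hall _ h1
      rwa [dec_code] at this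
    · have := hall _ h1
      rw [negCode, dec_code, dec_code] at this
      exact hN x this
  · exact absurd hf (by simp)

theorem q6_base : ∀ n ∈ baseCodes, q6 (dec n) = -1 := by decide

theorem q6_rf (v x : V6) (hv : q6 v = -1) : q6 (rf v x) = q6 x := by
  have h := q6_mat (reflT Q6 v) x
  rwa [mat_reflT v hv, reflectionMatrix_mulVec_rf v x hv] at h

theorem conj_formula {G : Type*} [Group G] (a v w x : G) (ha : a * a = 1) (hv : v * v = 1)
    (hw : w * w = 1) :
    a * (v * w * x * (v * w)⁻¹) = (a * v) * (a * w)⁻¹ * (a * x) * (a * w)⁻¹ * (a * v) := by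
  have hai : a⁻¹ = a := inv_eq_of_mul_eq_one_left ha
  have hvi : v⁻¹ = v := inv_eq_of_mul_eq_one_left hv
  have hwi : w⁻¹ = w := inv_eq_of_mul_eq_one_left hw
  have c : ∀ y : G, a * (a * y) = y := fun y => by rw [← mul_assoc, ha, one_mul]
  rw [_root_.mul_inv_rev, _root_.mul_inv_rev, hai, hvi, hwi]
  simp only [mul_assoc, c]

theorem good_step (R : Subgroup (Equiv.Perm (Fin 113))) (u₀ v w x : V6) (h0 : q6 u₀ = -1)
    (hv : q6 v = -1) (hw : q6 w = -1) (hx : q6 x = -1)
    (gv : phi (reflT Q6 u₀ * reflT Q6 v) ∈ R) (gw : phi (reflT Q6 u₀ * reflT Q6 w) ∈ R)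
    (gx : phi (reflT Q6 u₀ * reflT Q6 x) ∈ R) :
    phi (reflT Q6 u₀ * reflT Q6 (rf v (rf w x))) ∈ R := by
  have e : reflT Q6 u₀ * reflT Q6 (rf v (rf w x))
      = (reflT Q6 u₀ * reflT Q6 v) * (reflT Q6 u₀ * reflT Q6 w)⁻¹
        * (reflT Q6 u₀ * reflT Q6 x) * (reflT Q6 u₀ * reflT Q6 w)⁻¹
        * (reflT Q6 u₀ * reflT Q6 v) := by
    rw [← mat_rr_mulVec v w x hv hw, ← reflT_conj _ x hx]
    exact conj_formula _ _ _ _ (reflT_mul_self _ h0) (reflT_mul_self _ hv) (reflT_mul_self _ hw)
  rw [e, map_mul, map_mul, map_mul, map_mul, map_inv]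
  exact R.mul_mem (R.mul_mem (R.mul_mem (R.mul_mem gv (R.inv_mem gw)) gx) (R.inv_mem gw)) gv

/-- the property propagated along the certificate -/
def GoodP (R : Subgroup (Equiv.Perm (Fin 113))) (u₀ x : V6) : Prop :=
  q6 x = -1 ∧ phi (reflT Q6 u₀ * reflT Q6 x) ∈ R

theorem goodP_step (R : Subgroup (Equiv.Perm (Fin 113))) (u₀ : V6) (h0 : q6 u₀ = -1) (v w x : V6)
    (gv : GoodP R u₀ v) (gw : GoodP R u₀ w) (gx : GoodP R u₀ x) : GoodP R u₀ (rf v (rf w x)) :=
  ⟨by rw [q6_rf _ _ gv.1, q6_rf _ _ gw.1, gx.1],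
    good_step R u₀ v w x h0 gv.1 gw.1 gx.1 gv.2 gw.2 gx.2⟩

theorem goodP_neg (R : Subgroup (Equiv.Perm (Fin 113))) (u₀ : V6) (x : V6)
    (g : GoodP R u₀ (-x)) : GoodP R u₀ x := by
  have hx' : q6 x = -1 := by
    have := g.1
    rwa [← Q6_apply, QuadraticMap.map_neg, Q6_apply] at this
  refine ⟨hx', ?_⟩
  have := g.2
  rwa [reflT_neg x hx'] at this

/-- a subgroup containing the images of `r_{u₀} r_v` for the base vectors contains the images
of all `r_u r_v` with `u`, `v` of norm `-1` -/
theorem phi_rr_mem' (R : Subgroup (Equiv.Perm (Fin 113))) (u₀ : V6) (h0 : q6 u₀ = -1)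
    (hb : ∀ n ∈ baseCodes, phi (reflT Q6 u₀ * reflT Q6 (dec n)) ∈ R) :
    ∀ u v : V6, q6 u = -1 → q6 v = -1 → phi (reflT Q6 u * reflT Q6 v) ∈ R := by
  have hall : ∀ x : V6, q6 x = -1 → GoodP R u₀ x :=
    all_of_base (GoodP R u₀) (fun n hn => ⟨q6_base n hn, hb n hn⟩) (goodP_step R u₀ h0)
      (goodP_neg R u₀)
  intro u v hu hv
  have e : reflT Q6 u * reflT Q6 v
      = (reflT Q6 u₀ * reflT Q6 u)⁻¹ * (reflT Q6 u₀ * reflT Q6 v) := by
    rw [_root_.mul_inv_rev, reflT_inv u hu, reflT_inv _ h0, mul_assoc, ← mul_assoc (reflT Q6 u₀),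
      reflT_mul_self _ h0, one_mul]
  rw [e, map_mul, map_inv]
  exact R.mul_mem (R.inv_mem (hall u hu).2) (hall v hv).2

end Cfsg.Agent.Lib.Helper91_O6mClosure
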