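import Cfsg.Agent.Lib.Helper91_McLStab
import Cfsg.Agent.Lib.Helper91_O6mClosure

/-!
# The check matching a word in `Co0` with a product of two reflections of `O⁻(6,3)`

helper91.
-/

set_option autoImplicit false
open Cfsg

namespace Cfsg.Agent.Lib.Helper91_McLCheck

open Cfsg.Agent.Lib.Helper7_Xi Cfsg.Agent.Lib.Helper91_LeechWord Cfsg.Agent.Lib.Helper91_LeechOrb
  Cfsg.Agent.Lib.Helper91_LeechGlue Cfsg.Agent.Lib.Helper91_Co3L1 Cfsg.Agent.Lib.Helper91_Co3L2
  Cfsg.Agent.Lib.Helper91_Co3L3 Cfsg.Agent.Lib.Helper91_McLStab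
  Cfsg.Agent.Lib.Helper44_Refl Cfsg.Agent.Lib.Helper44_Spinor Cfsg.Agent.Lib.Helper91_O6mPts Cfsg.Agent.Lib.Helper91_O6mTheta
  Cfsg.Agent.Lib.Helper91_O6mClosure

/-- the check for one word on a range of indices: it acts on the 112 vectors as the product of
the reflections in the vectors with codes `568` and `n` acts on the points -/
def checkChunk (n : ℕ) (w : List Letter) (lo len : ℕ) : Bool :=
  (List.range' lo len).all fun k =>
    nrm (rf (dec 568) (rf (dec n) (pt (Fin.ofNat 113 k)))) ==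
      ix (vecL (appW w (ptV (Fin.ofNat 113 k))))

theorem q6_c0 : q6 (dec 568) = -1 := q6_base 568 (by decide)

theorem mem_of_check (n : ℕ) (w : List Letter) (hn : q6 (dec n) = -1)
    (hs : stabW [U0, root1, root2] w = true)
    (h1 : checkChunk n w 0 29 = true) (h2 : checkChunk n w 29 29 = true)
    (h3 : checkChunk n w 58 29 = true) (h4 : checkChunk n w 87 26 = true) :
    phi (reflT Q6 (dec 568) * reflT Q6 (dec n)) ∈ rho.range := by
  unfold checkChunk at h1 h2 h3 h4
  rw [List.all_eq_true] at h1 h2 h3 h4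
  obtain ⟨g, hg⟩ := rho_word w hs
  refine ⟨g, Equiv.ext fun i => ?_⟩
  rw [hg i, phi_rr _ _ q6_c0 hn i]
  have hi : Fin.ofNat 113 i.val = i := Fin.ext (Nat.mod_eq_of_lt i.2)
  have hlt := i.2
  have key : ∀ lo len : ℕ, (∀ k ∈ List.range' lo len,
      (nrm (rf (dec 568) (rf (dec n) (pt (Fin.ofNat 113 k)))) ==
        ix (vecL (appW w (ptV (Fin.ofNat 113 k))))) = true) → lo ≤ i.val → i.val < lo + len →
      ix (vecL (appW w (ptV i))) = nrm (rf (dec 568) (rf (dec n) (pt i))) := by
    intro lo len h hlo hhi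
    have := h i.val (List.mem_range'_1.mpr ⟨hlo, hhi⟩)
    rw [hi] at this
    exact (beq_iff_eq.mp this).symm
  by_cases c1 : i.val < 29
  · exact key 0 29 h1 (Nat.zero_le _) (by omega)
  by_cases c2 : i.val < 58
  · exact key 29 29 h2 (by omega) (by omega)
  by_cases c3 : i.val < 87
  · exact key 58 29 h3 (by omega) (by omega)
  · exact key 87 26 h4 (by omega) (by omega)

end Cfsg.Agent.Lib.Helper91_McLCheck
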