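import Cfsg.Agent.Lib.Helper91_McLCheck

/-!
# A word of `Co0` acting as the product of the reflections with codes `568` and `373`

helper91.
-/

set_option autoImplicit false
open Cfsg

namespace Cfsg.Agent.Lib.Helper91_McLWord2

open Cfsg.Agent.Lib.Helper7_Xi Cfsg.Agent.Lib.Helper91_LeechWord Cfsg.Agent.Lib.Helper91_LeechOrb
  Cfsg.Agent.Lib.Helper91_LeechGlue Cfsg.Agent.Lib.Helper91_Co3L1 Cfsg.Agent.Lib.Helper91_Co3L2
  Cfsg.Agent.Lib.Helper91_Co3L3 Cfsg.Agent.Lib.Helper91_McLStab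
  Cfsg.Agent.Lib.Helper44_Refl Cfsg.Agent.Lib.Helper44_Spinor Cfsg.Agent.Lib.Helper91_O6mPts Cfsg.Agent.Lib.Helper91_O6mTheta
  Cfsg.Agent.Lib.Helper91_O6mClosure
  Cfsg.Agent.Lib.Helper91_McLCheck

/-- the word -/
def w : List Letter := [.mono [0,1,5,7,10,15,13,9,20,3,14,22,6,12,4,2,16,8,18,11,17,21,19,23] [0,1,15,9,14,2,12,3,17,7,4,19,13,6,10,5,16,20,18,22,8,21,11,23] 0, .xi, .mono [0,1,2,20,12,18,4,17,7,8,22,6,19,9,3,5,16,13,23,11,10,15,14,21] [0,1,2,14,6,15,11,8,9,13,20,19,4,17,22,21,16,7,5,12,3,23,10,18] 0, .xi, .mono [0,1,5,7,10,15,13,9,20,3,14,22,6,12,4,2,16,8,18,11,17,21,19,23] [0,1,15,9,14,2,12,3,17,7,4,19,13,6,10,5,16,20,18,22,8,21,11,23] 0, .xi, .mono [0,1,2,20,12,18,4,17,7,8,22,6,19,9,3,5,16,13,23,11,10,15,14,21] [0,1,2,14,6,15,11,8,9,13,20,19,4,17,22,21,16,7,5,12,3,23,10,18] 0, .xi]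

set_option maxRecDepth 100000 in
theorem stab : stabW [U0, root1, root2] w = true := by decide +kernel

set_option maxRecDepth 100000 in
theorem check1 : checkChunk 373 w 0 29 = true := by decide +kernel

set_option maxRecDepth 100000 in
theorem check2 : checkChunk 373 w 29 29 = true := by decide +kernel

set_option maxRecDepth 100000 in
theorem check3 : checkChunk 373 w 58 29 = true := by decide +kernel

set_option maxRecDepth 100000 in
theorem check4 : checkChunk 373 w 87 26 = true := by decide +kernel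

theorem mem : phi (reflT Q6 (dec 568) * reflT Q6 (dec 373)) ∈ rho.range :=
  mem_of_check 373 w (q6_base 373 (by decide)) stab check1 check2 check3 check4

end Cfsg.Agent.Lib.Helper91_McLWord2
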