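import Cfsg.Agent.Lib.Helper91_McLCheck

/-!
# A word of `Co0` acting as the product of the reflections with codes `568` and `40`

helper91.
-/

set_option autoImplicit false
open Cfsg

namespace Cfsg.Agent.Lib.Helper91_McLWord5

open Cfsg.Agent.Lib.Helper7_Xi Cfsg.Agent.Lib.Helper91_LeechWord Cfsg.Agent.Lib.Helper91_LeechOrb
  Cfsg.Agent.Lib.Helper91_LeechGlue Cfsg.Agent.Lib.Helper91_Co3L1 Cfsg.Agent.Lib.Helper91_Co3L2
  Cfsg.Agent.Lib.Helper91_Co3L3 Cfsg.Agent.Lib.Helper91_McLStab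
  Cfsg.Agent.Lib.Helper44_Refl Cfsg.Agent.Lib.Helper44_Spinor Cfsg.Agent.Lib.Helper91_O6mPts Cfsg.Agent.Lib.Helper91_O6mTheta
  Cfsg.Agent.Lib.Helper91_O6mClosure
  Cfsg.Agent.Lib.Helper91_McLCheck

/-- the word -/
def w : List Letter := [.mono [0,1,20,12,16,7,22,18,3,2,15,19,4,21,14,9,8,13,11,5,10,6,17,23] [0,1,9,8,12,19,21,5,16,15,20,18,3,17,14,10,4,22,7,11,2,13,6,23] 0, .mono [0,1,20,2,8,15,3,4,5,13,14,18,6,17,9,7,16,10,22,11,12,19,21,23] [0,1,3,6,7,8,12,15,4,14,17,19,20,9,10,5,16,13,11,21,2,22,18,23] 0, .xi, .mono [0,1,2,14,6,15,11,8,9,13,20,19,4,17,22,21,16,7,5,12,3,23,10,18] [0,1,2,20,12,18,4,17,7,8,22,6,19,9,3,5,16,13,23,11,10,15,14,21] 0, .xi, .mono [0,1,20,12,16,7,22,18,3,2,15,19,4,21,14,9,8,13,11,5,10,6,17,23] [0,1,9,8,12,19,21,5,16,15,20,18,3,17,14,10,4,22,7,11,2,13,6,23] 0, .mono [0,1,20,12,16,7,22,18,3,2,15,19,4,21,14,9,8,13,11,5,10,6,17,23] [0,1,9,8,12,19,21,5,16,15,20,18,3,17,14,10,4,22,7,11,2,13,6,23]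 0, .xi, .mono [0,1,2,3,13,6,23,20,16,5,18,14,21,7,22,19,8,11,12,15,4,10,17,9] [0,1,2,3,20,9,5,13,16,23,21,17,18,4,11,19,8,22,10,15,7,12,14,6] 0, .xi]

set_option maxRecDepth 100000 in
theorem stab : stabW [U0, root1, root2] w = true := by decide +kernel

set_option maxRecDepth 100000 in
theorem check1 : checkChunk 40 w 0 29 = true := by decide +kernel

set_option maxRecDepth 100000 in
theorem check2 : checkChunk 40 w 29 29 = true := by decide +kernel

set_option maxRecDepth 100000 in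
theorem check3 : checkChunk 40 w 58 29 = true := by decide +kernel

set_option maxRecDepth 100000 in
theorem check4 : checkChunk 40 w 87 26 = true := by decide +kernel

theorem mem : phi (reflT Q6 (dec 568) * reflT Q6 (dec 40)) ∈ rho.range :=
  mem_of_check 40 w (q6_base 40 (by decide)) stab check1 check2 check3 check4

end Cfsg.Agent.Lib.Helper91_McLWord5
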