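import Mathlib
import Cfsg.Agent.Lib.Helper91_O6mClosure
import Cfsg.Agent.Lib.Helper91_BlockAction3
import Cfsg.Agent.S0303
import Cfsg.Agent.S0280
import Cfsg.Agent.S0283

/-!
# `PΩ⁻(6,3) ≃ PSU(4,3)` through the action on the 112 singular points

helper91.  The subgroup `NN` of `O⁻(6,3)` generated by the products of two reflections in vectors
of norm `-1` lies in `Ω`, maps onto the simple group `PΩ⁻(6,3)` with central kernel, and acts on
the 112 singular points.  A finite group of order at most `3265920` acting on `Fin 113` so that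
its image contains the images of five base products is isomorphic to `PSU(4,3)`.
-/

set_option autoImplicit false

namespace Cfsg.Agent.Lib.Helper91_O6mOmega

open scoped commutatorElement

open Module Matrix Cfsg.Agent.Lib.Helper44_StdForms Cfsg.Agent.Lib.Helper44_Refl
  Cfsg.Agent.Lib.Helper44_Orth Cfsg.Agent.Lib.Helper44_Spinor Cfsg.Agent.Lib.Helper91_O6mPts
  Cfsg.Agent.Lib.Helper91_O6mTheta Cfsg.Agent.Lib.Helper91_O6mClosure
  Cfsg.Agent.Lib.Helper91_BlockAction3

/-- `Ω⁻(6,3)` -/
abbrev Om : Subgroup O6 := Cfsg.Omega (ZMod 3) (⇑Q6)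

/-- `PΩ⁻(6,3)` -/
abbrev PO : Type := Cfsg.POmega (ZMod 3) (⇑Q6)

/-- products of two reflections in vectors of norm `-1` -/
def gens : Set O6 := {g | ∃ u v : V6, q6 u = -1 ∧ q6 v = -1 ∧ g = reflT Q6 u * reflT Q6 v}

/-- the subgroup they generate -/
def NN : Subgroup O6 := Subgroup.closure gens

theorem gens_conj (g x : O6) (hx : x ∈ gens) : g * x * g⁻¹ ∈ gens := by
  obtain ⟨u, v, hu, hv, rfl⟩ := hx
  refine ⟨mat g *ᵥ u, mat g *ᵥ v, by rw [q6_mat, hu], by rw [q6_mat, hv], ?_⟩
  rw [← reflT_conj g u hu, ← reflT_conj g v hv]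
  group

theorem NN_normal : NN.Normal := by
  constructor
  intro n hn g
  have h : NN ≤ NN.comap (MulAut.conj g).toMonoidHom := by
    rw [NN, Subgroup.closure_le]
    intro x hx
    exact Subgroup.subset_closure (gens_conj g x hx)
  exact h hn

theorem two_ne_zero3 : (2 : ZMod 3) ≠ 0 := by decide

theorem gens_le_Om : gens ⊆ (Om : Set O6) := by
  rintro _ ⟨u, v, hu, hv, rfl⟩
  have hu' := Q6_ne_zero hu
  have hv' := Q6_ne_zero hv
  obtain ⟨h, hh⟩ := exists_conj_refl Q6 two_ne_zero3 hu' hv'
    (by rw [Q6_apply, Q6_apply, hu, hv])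
  rw [reflT_of_ne Q6 u hu', reflT_of_ne Q6 v hv', ← hh]
  have e : refl Q6 u hu' * (h * refl Q6 u hu' * h⁻¹) = ⁅refl Q6 u hu', h⁆ := by
    have hinv : (refl Q6 u hu')⁻¹ = refl Q6 u hu' :=
      inv_eq_of_mul_eq_one_left (refl_mul_self Q6 u hu')
    rw [commutatorElement_def, hinv]
    group
  rw [e]
  exact Subgroup.commutator_mem_commutator (Subgroup.mem_top _) (Subgroup.mem_top _)

theorem NN_le_Om : NN ≤ Om := by
  rw [NN, Subgroup.closure_le]
  exact gens_le_Om

/-- the first witness -/
noncomputable def wa : NN := ⟨reflT Q6 (dec 568) * reflT Q6 (dec 435),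
  Subgroup.subset_closure ⟨dec 568, dec 435, by decide +kernel, by decide +kernel, rfl⟩⟩

/-- the second witness -/
noncomputable def wb : NN := ⟨reflT Q6 (dec 568) * reflT Q6 (dec 373),
  Subgroup.subset_closure ⟨dec 568, dec 373, by decide +kernel, by decide +kernel, rfl⟩⟩

/-- the restriction of `phi` to `NN` -/
def phiNN : NN →* Equiv.Perm (Fin 113) := phi.comp NN.subtype

theorem phiNN_noncomm : phiNN wa * phiNN wb ≠ phiNN wb * phiNN wa := by
  intro h
  have h1 := congrArg (fun σ : Equiv.Perm (Fin 113) => σ 1) h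
  simp only [Equiv.Perm.mul_apply] at h1
  have ea : ∀ i, phiNN wa i = nrm (rf (dec 568) (rf (dec 435) (pt i))) :=
    fun i => phi_rr _ _ (by decide +kernel) (by decide +kernel) i
  have eb : ∀ i, phiNN wb i = nrm (rf (dec 568) (rf (dec 373) (pt i))) :=
    fun i => phi_rr _ _ (by decide +kernel) (by decide +kernel) i
  rw [ea, eb, eb, ea] at h1
  revert h1
  decide +kernel

/-- the map onto `PΩ⁻(6,3)` -/
def psi : NN →* PO := (QuotientGroup.mk' (Subgroup.center Om)).comp (Subgroup.inclusion NN_le_Om)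

theorem psi_ker_central (n : NN) (hn : n ∈ psi.ker) (m : NN) : n * m = m * n := by
  rw [MonoidHom.mem_ker] at hn
  have h1 : Subgroup.inclusion NN_le_Om n ∈ Subgroup.center Om := by
    rw [← QuotientGroup.eq_one_iff]
    exact hn
  have h2 := (Subgroup.mem_center_iff.mp h1 (Subgroup.inclusion NN_le_Om m)).symm
  apply Subtype.ext
  have h3 := congrArg (fun x : Om => (x : O6)) h2
  exact h3

theorem psi_range_normal : psi.range.Normal := by
  constructor
  rintro _ ⟨n, rfl⟩ t
  obtain ⟨g, rfl⟩ := QuotientGroup.mk_surjective t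
  have hm : (g : O6) * (n : O6) * (g : O6)⁻¹ ∈ NN := NN_normal.conj_mem n n.2 g
  refine ⟨⟨_, hm⟩, ?_⟩
  show ((QuotientGroup.mk (Subgroup.inclusion NN_le_Om ⟨_, hm⟩) : PO)) =
    (QuotientGroup.mk g : PO) * (QuotientGroup.mk (Subgroup.inclusion NN_le_Om n) : PO)
      * (QuotientGroup.mk g : PO)⁻¹
  rw [← QuotientGroup.mk_inv, ← QuotientGroup.mk_mul, ← QuotientGroup.mk_mul]
  rfl

theorem psi_wa_ne_one : psi wa ≠ 1 := by
  intro h
  have h1 : wa ∈ psi.ker := h
  have h2 := psi_ker_central wa h1 wb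
  apply phiNN_noncomm
  rw [← map_mul, ← map_mul, h2]

section
variable (F : Type) [Field F] [Fintype F]

theorem nonempty_equiv (hF : Fintype.card F = 9) : Nonempty (PO ≃* Cfsg.PSU 4 F 3) := by
  have h := Cfsg.Agent.S0303.result (F := ZMod 3) (K := F) (q := 3) (by decide)
    (by rw [hF]; norm_num) 0 1 (by decide)
  rwa [← coe_qfMinus] at h

theorem simple_PSU (hF : Fintype.card F = 9) : IsSimpleGroup (Cfsg.PSU 4 F 3) :=
  Cfsg.Agent.S0283.result (F := F) (q := 3) (by rw [hF]; norm_num) 4 (by norm_num) (by norm_num)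

theorem card_PSU (hF : Fintype.card F = 9) : Nat.card (Cfsg.PSU 4 F 3) = 3265920 := by
  have h := Cfsg.Agent.S0280.result (F := F) (q := 3) (by rw [hF]; norm_num) 4 (by norm_num)
  norm_num [Finset.prod_range_succ] at h
  omega

theorem simple_PO (hF : Fintype.card F = 9) : IsSimpleGroup PO := by
  obtain ⟨e⟩ := nonempty_equiv F hF
  have := simple_PSU F hF
  exact e.isSimpleGroup

theorem card_PO (hF : Fintype.card F = 9) : Nat.card PO = 3265920 := by
  obtain ⟨e⟩ := nonempty_equiv F hF
  rw [Nat.card_congr e.toEquiv, card_PSU F hF]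

theorem psi_surjective (hF : Fintype.card F = 9) : Function.Surjective psi := by
  have := simple_PO F hF
  rw [← MonoidHom.range_eq_top]
  rcases psi_range_normal.eq_bot_or_eq_top with h | h
  · exfalso
    apply psi_wa_ne_one
    have : psi wa ∈ psi.range := ⟨wa, rfl⟩
    rw [h, Subgroup.mem_bot] at this
    exact this
  · exact h

end

/-- a subgroup containing the images of the base elements contains `phi (NN)` -/
theorem phiNN_range_le (R : Subgroup (Equiv.Perm (Fin 113)))
    (hb : ∀ n ∈ baseCodes, phi (reflT Q6 (dec c0) * reflT Q6 (dec n)) ∈ R) : phiNN.range ≤ R := by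
  have h1 : NN ≤ R.comap phi := by
    rw [NN, Subgroup.closure_le]
    rintro _ ⟨u, v, hu, hv, rfl⟩
    exact phi_rr_mem' R (dec c0) (q6_base c0 (by decide)) hb u v hu hv
  rintro _ ⟨g, rfl⟩
  exact h1 g.2

/-- the identification: a finite group of order at most `3265920` acting on `Fin 113` with an
image containing the images of the base elements is isomorphic to `PSU(4,3)` -/
theorem iso_of_action {G : Type*} [Group G] [Finite G] (F : Type) [Field F] [Fintype F]
    (hF : Fintype.card F = 9) (ρ : G →* Equiv.Perm (Fin 113))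
    (hb : ∀ n ∈ baseCodes, phi (reflT Q6 (dec c0) * reflT Q6 (dec n)) ∈ ρ.range)
    (hcard : Nat.card G ≤ 3265920) : Nonempty (G ≃* Cfsg.PSU 4 F 3) := by
  have := simple_PO F hF
  have hfin : Finite NN := inferInstance
  obtain ⟨e⟩ := iso_of_common_action_quot ρ psi (psi_surjective F hF) psi_ker_central phiNN wa wb
    phiNN_noncomm (phiNN_range_le ρ.range hb) (by rw [card_PO F hF]; exact hcard)
  obtain ⟨e'⟩ := nonempty_equiv F hF
  exact ⟨e.trans e'⟩

end Cfsg.Agent.Lib.Helper91_O6mOmega
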