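import Cfsg.Agent.Lib.Helper91_McLWord1
import Cfsg.Agent.Lib.Helper91_McLWord2
import Cfsg.Agent.Lib.Helper91_McLWord3
import Cfsg.Agent.Lib.Helper91_McLWord4
import Cfsg.Agent.Lib.Helper91_McLWord5
import Cfsg.Agent.Lib.Helper91_O6mOmega
import Cfsg.Agent.S1581

/-!
# The stabiliser of a point of the 275 in the McLaughlin group is `PSU(4,3)`

helper91.  The stabiliser `HH` of the standard triple acts on the 112 vectors as `PΩ⁻(6,3)` acts
on the 112 singular points: five words in `Co0` fixing the triple act as the five base products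
of reflections.  With the orders (S0404, S1580; S0280, S0303) this gives `HH ≃* PSU(4,3)`.
-/

set_option autoImplicit false
open Cfsg

namespace Cfsg.Agent.Lib.Helper91_McLFinal

open Cfsg.Agent.Lib.Helper7_Xi Cfsg.Agent.Lib.Helper91_LeechWord Cfsg.Agent.Lib.Helper91_LeechOrb
  Cfsg.Agent.Lib.Helper91_LeechGlue Cfsg.Agent.Lib.Helper91_Co3L1 Cfsg.Agent.Lib.Helper91_Co3L2
  Cfsg.Agent.Lib.Helper91_Co3L3 Cfsg.Agent.Lib.Helper91_McLStab
  Cfsg.Agent.Lib.Helper44_Refl Cfsg.Agent.Lib.Helper44_Spinor Cfsg.Agent.Lib.Helper91_O6mPts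
  Cfsg.Agent.Lib.Helper91_O6mTheta Cfsg.Agent.Lib.Helper91_O6mClosure
  Cfsg.Agent.Lib.Helper91_O6mOmega Cfsg.Agent.Lib.Helper91_McLCheck

theorem base_mem : ∀ n ∈ baseCodes, phi (reflT Q6 (dec c0) * reflT Q6 (dec n)) ∈ rho.range := by
  intro n hn
  show phi (reflT Q6 (dec 568) * reflT Q6 (dec n)) ∈ rho.range
  simp only [baseCodes, List.mem_cons, List.not_mem_nil, or_false] at hn
  rcases hn with rfl | rfl | rfl | rfl | rfl | rfl
  · rw [reflT_mul_self _ q6_c0, map_one]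
    exact rho.range.one_mem
  · exact Cfsg.Agent.Lib.Helper91_McLWord1.mem
  · exact Cfsg.Agent.Lib.Helper91_McLWord2.mem
  · exact Cfsg.Agent.Lib.Helper91_McLWord3.mem
  · exact Cfsg.Agent.Lib.Helper91_McLWord4.mem
  · exact Cfsg.Agent.Lib.Helper91_McLWord5.mem

theorem HH_iso (F : Type) [Field F] [Fintype F] (hF : Fintype.card F = 9) :
    Nonempty (HH ≃* Cfsg.PSU 4 F 3) :=
  iso_of_action F hF rho base_mem (le_of_eq card_HH)

/-- conjugating a joint stabiliser of three points -/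
theorem conj_stab3 {G α : Type*} [Group G] [MulAction G α] (g : G) (a b c : α) :
    Nonempty (↥(MulAction.stabilizer G a ⊓ MulAction.stabilizer G b ⊓ MulAction.stabilizer G c) ≃*
      ↥(MulAction.stabilizer G (g • a) ⊓ MulAction.stabilizer G (g • b) ⊓
        MulAction.stabilizer G (g • c))) := by
  have e : (MulAction.stabilizer G a ⊓ MulAction.stabilizer G b ⊓ MulAction.stabilizer G c).map
      (MulAut.conj g).toMonoidHom =
      MulAction.stabilizer G (g • a) ⊓ MulAction.stabilizer G (g • b) ⊓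
        MulAction.stabilizer G (g • c) := by
    ext k
    simp only [Subgroup.mem_map, Subgroup.mem_inf, MulAction.mem_stabilizer_iff,
      MulEquiv.coe_toMonoidHom, MulAut.conj_apply]
    constructor
    · rintro ⟨h, ⟨⟨ha, hb⟩, hc⟩, rfl⟩
      refine ⟨⟨?_, ?_⟩, ?_⟩
      · rw [mul_smul, mul_smul, inv_smul_smul, ha]
      · rw [mul_smul, mul_smul, inv_smul_smul, hb]
      · rw [mul_smul, mul_smul, inv_smul_smul, hc]
    · rintro ⟨⟨ha, hb⟩, hc⟩
      refine ⟨g⁻¹ * k * g, ⟨⟨?_, ?_⟩, ?_⟩, by group⟩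
      · rw [mul_smul, mul_smul, ha, inv_smul_smul]
      · rw [mul_smul, mul_smul, hb, inv_smul_smul]
      · rw [mul_smul, mul_smul, hc, inv_smul_smul]
  exact ⟨((MulAut.conj g).subgroupMap _).trans (MulEquiv.subgroupCongr e)⟩

open Cfsg.Agent.S1581 in
theorem s1582 (u v x : leechLattice) (hu : sqNorm (u : GolayPt → ℤ) = 48)
    (hv : sqNorm (v : GolayPt → ℤ) = 32 ∧ sqNorm ((u - v) : GolayPt → ℤ) = 32)
    (hx : x ∈ {x : leechLattice | sqNorm (x : GolayPt → ℤ) = 32 ∧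
      sqNorm ((u - x) : GolayPt → ℤ) = 32 ∧ dotInt (v : GolayPt → ℤ) (x : GolayPt → ℤ) = 16})
    (F : Type) [Field F] [Fintype F] (hF : Fintype.card F = 9) :
    Nonempty (↥(MulAction.stabilizer Co0 u ⊓ MulAction.stabilizer Co0 v ⊓
      MulAction.stabilizer Co0 x) ≃* Cfsg.PSU 4 F 3) := by
  have hd : dotInt (u : GolayPt → ℤ) (v : GolayPt → ℤ) = 24 := by
    have := sqNorm_sub' (u : GolayPt → ℤ) (v : GolayPt → ℤ)
    rw [hu, hv.1, hv.2] at this
    omega
  rw [set_eq u v hu] at hx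
  obtain ⟨g, hgu, hgv, hgx⟩ := triple_std u v x hu hv.1 hd hx.1 hx.2.1 hx.2.2
  obtain ⟨e1⟩ := conj_stab3 g u v x
  rw [hgu, hgv, hgx] at e1
  obtain ⟨e2⟩ := HH_iso F hF
  exact ⟨e1.trans e2⟩

end Cfsg.Agent.Lib.Helper91_McLFinal
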