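import Cfsg.Agent.Lib.Helper91_Co3L3Thm
import Cfsg.Agent.S0404

/-!
# The stabiliser of the standard triple `(u0, v0, x0)` in `Co0`: order and action on 112 vectors

helper91.  `HH` is the joint stabiliser of `u0 = (1^23, 5)`, `v0 = (4, 0^22, 4)`,
`x0 = (0, 4, 0^21, 4)`.  Its order is `898128000 / 275 = 3265920` (S0404 and the transitivity on
the 275 vectors), and it acts on the 112 minimal vectors `y` with `y·u0 = 24`, `y·v0 = 16`,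
`y·x0 = 8`, listed in `T112`; `rho : HH →* Perm (Fin 113)` (the point `112` is the zero vector).
-/

set_option autoImplicit false
open Cfsg

namespace Cfsg.Agent.Lib.Helper91_McLStab

open Cfsg.Agent.Lib.Helper7_Bits Cfsg.Agent.Lib.Helper7_Xi Cfsg.Agent.Lib.Helper91_LeechWord
  Cfsg.Agent.Lib.Helper91_LeechOrb
  Cfsg.Agent.Lib.Helper91_LeechEnum Cfsg.Agent.Lib.Helper91_LeechLevel
  Cfsg.Agent.Lib.Helper91_LeechGlue Cfsg.Agent.Lib.Helper91_Co3L1 Cfsg.Agent.Lib.Helper91_Co3L2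
  Cfsg.Agent.Lib.Helper91_Co3L3a Cfsg.Agent.Lib.Helper91_Co3L3

/-- the stabiliser of the standard pair -/
abbrev MM : Subgroup Co0 := MulAction.stabilizer Co0 U0v ⊓ MulAction.stabilizer Co0 V0v

/-- the stabiliser of the standard triple -/
abbrev HH : Subgroup Co0 :=
  MulAction.stabilizer Co0 U0v ⊓ MulAction.stabilizer Co0 V0v ⊓ MulAction.stabilizer Co0 X0v

/-! ### the order -/

theorem smul_add' (g : Co0) (a b : leechLattice) : g • (a + b) = g • a + g • b := g.2.1 a b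

theorem smul_zero' (g : Co0) : g • (0 : leechLattice) = 0 := by
  have h := smul_add' g 0 0
  rw [add_zero] at h
  exact left_eq_add.mp h

theorem smul_sub' (g : Co0) (a b : leechLattice) : g • (a - b) = g • a - g • b := by
  have h := smul_add' g (a - b) b
  rw [sub_add_cancel] at h
  rw [h, add_sub_cancel_right]

theorem diff_norm : sqNorm ((U0v - V0v : leechLattice) : GolayPt → ℤ) = 32 := by
  show sqNorm (vecL U0 - vecL root1) = 32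
  decide +kernel

theorem diff_dot :
    dotInt (V0v : GolayPt → ℤ) ((U0v - V0v : leechLattice) : GolayPt → ℤ) = -8 := by
  show dotInt (vecL root1) (vecL U0 - vecL root1) = -8
  decide +kernel

theorem MM_eq : MulAction.stabilizer Co0 V0v ⊓ MulAction.stabilizer Co0 (U0v - V0v) = MM := by
  ext g
  simp only [Subgroup.mem_inf, MulAction.mem_stabilizer_iff]
  constructor
  · rintro ⟨h1, h2⟩
    rw [smul_sub', h1] at h2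
    exact ⟨sub_left_injective h2, h1⟩
  · rintro ⟨h1, h2⟩
    exact ⟨h2, by rw [smul_sub', h1, h2]⟩

theorem card_MM : Nat.card MM = 898128000 := by
  have h := (Cfsg.Agent.S0404.result V0v (U0v - V0v) root1_norm diff_norm diff_dot).2
  rw [MM_eq] at h
  exact h

theorem smul_mem_Sstd (g : MM) (y : leechLattice) (hy : y ∈ Sstd) : (g : Co0) • y ∈ Sstd := by
  obtain ⟨h1, h2, h3⟩ := hy
  have hU : (g : Co0) • U0v = U0v := (Subgroup.mem_inf.mp g.2).1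
  have hV : (g : Co0) • V0v = V0v := (Subgroup.mem_inf.mp g.2).2
  refine ⟨by rw [sqNorm_smul]; exact h1, ?_, ?_⟩
  · have := dotInt_smul (g : Co0) U0v y
    rw [hU] at this
    exact this.trans h2
  · have := dotInt_smul (g : Co0) V0v y
    rw [hV] at this
    exact this.trans h3

theorem orbit_eq : MulAction.orbit MM X0v = Sstd := by
  ext y
  constructor
  · rintro ⟨g, rfl⟩
    exact smul_mem_Sstd g X0v X0v_mem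
  · intro hy
    obtain ⟨g, hU, hV, hg⟩ := trans2 X0v y root2_norm root2_dotU root2_dotV hy.1 hy.2.1 hy.2.2
    exact ⟨⟨g, Subgroup.mem_inf.mpr ⟨hU, hV⟩⟩, hg⟩

/-- the stabiliser of `x0` in `MM` is `HH` -/
def stabEquiv : HH ≃ MulAction.stabilizer MM X0v where
  toFun h := ⟨⟨h.1, (Subgroup.mem_inf.mp h.2).1⟩, (Subgroup.mem_inf.mp h.2).2⟩
  invFun k := ⟨k.1.1, Subgroup.mem_inf.mpr ⟨k.1.2, k.2⟩⟩
  left_inv _ := rfl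
  right_inv _ := rfl

theorem card_HH : Nat.card HH = 3265920 := by
  rw [Nat.card_congr stabEquiv]
  have h1 := MulAction.index_stabilizer MM X0v
  rw [orbit_eq, card_Sstd] at h1
  have h2 := Subgroup.card_mul_index (MulAction.stabilizer MM X0v)
  rw [h1, card_MM] at h2
  exact Nat.eq_of_mul_eq_mul_right (by norm_num : 0 < 275) (h2.trans (by norm_num))

instance : Finite HH := Nat.finite_of_card_ne_zero (by rw [card_HH]; norm_num)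

/-! ### the 112 vectors -/

/-- the list of the 112 vectors -/
def T112 : List (List ℤ) := [
  [1,-1,1,1,1,1,-1,1,1,1,1,1,-1,-1,1,1,-1,1,-1,1,1,-1,1,3],
  [1,-1,1,-1,1,-1,1,1,-1,1,1,1,1,1,1,1,1,1,-1,-1,1,-1,1,3],
  [1,-1,1,1,1,-1,1,-1,1,-1,1,1,1,1,1,1,1,-1,1,-1,-1,1,1,3],
  [1,-1,-1,1,1,-1,1,1,1,1,1,-1,1,1,1,-1,1,1,1,-1,1,1,-1,3],
  [1,-1,1,1,-1,1,1,1,1,1,1,1,1,1,-1,-1,1,-1,1,1,-1,1,-1,3],
  [2,0,2,2,2,0,0,0,2,2,0,0,0,0,0,0,0,0,0,0,0,2,0,2],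
  [1,-1,1,1,1,1,-1,1,-1,1,1,1,-1,1,1,-1,1,1,1,-1,-1,1,1,3],
  [2,0,2,0,0,0,2,0,2,0,0,0,0,0,0,2,0,2,0,0,0,0,2,2],
  [1,-1,1,1,1,1,-1,-1,1,-1,1,1,1,-1,1,-1,1,1,1,1,1,1,-1,3],
  [1,-1,-1,-1,1,1,1,1,1,-1,1,1,-1,-1,1,1,1,1,1,-1,1,1,1,3],
  [2,0,0,0,0,0,2,2,0,0,2,0,2,0,0,2,0,0,2,0,0,0,0,2],
  [2,0,0,2,0,2,0,2,0,0,2,0,0,0,0,0,0,0,0,0,2,2,0,2],
  [2,0,0,0,2,0,2,0,0,0,0,0,0,2,0,2,0,0,0,0,2,2,0,2],
  [2,0,0,2,2,2,0,0,0,0,0,0,2,2,0,0,0,0,2,0,0,0,0,2],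
  [2,0,0,0,0,2,0,0,0,0,0,2,2,0,0,2,0,2,0,0,2,0,0,2],
  [1,-1,1,1,1,1,1,1,1,-1,-1,1,1,-1,-1,1,-1,-1,1,1,1,1,1,3],
  [1,-1,1,1,1,1,1,-1,-1,1,1,-1,1,-1,1,1,-1,1,1,-1,1,1,1,3],
  [1,-1,1,1,-1,-1,-1,1,1,1,1,1,1,-1,-1,1,1,1,1,-1,1,1,1,3],
  [1,-1,1,-1,1,1,1,1,-1,-1,1,-1,1,1,1,-1,1,-1,1,1,1,1,1,3],
  [1,-1,1,1,1,-1,1,1,1,-1,1,1,-1,1,-1,-1,1,1,-1,1,1,1,1,3],
  [1,-1,1,-1,1,-1,-1,-1,1,1,1,-1,-1,1,1,1,1,1,1,1,1,1,1,3],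
  [1,-1,1,1,1,1,1,1,1,-1,1,-1,-1,1,1,1,-1,1,1,1,-1,1,-1,3],
  [1,-1,-1,-1,-1,1,-1,1,1,1,1,1,1,1,1,-1,1,1,-1,1,1,1,1,3],
  [1,-1,-1,-1,1,1,1,-1,-1,1,1,1,1,1,1,1,1,1,1,1,-1,1,-1,3],
  [1,-1,-1,1,1,-1,-1,1,-1,-1,1,1,1,1,1,1,-1,1,1,1,1,1,1,3],
  [1,-1,1,1,1,1,1,-1,-1,-1,-1,1,-1,1,1,1,1,1,1,1,1,-1,1,3],
  [1,-1,1,-1,1,-1,1,1,1,1,1,1,1,-1,1,-1,-1,1,1,1,-1,1,1,3],
  [2,0,2,0,0,0,0,0,0,0,0,2,0,0,2,0,0,0,0,0,2,2,2,2],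
  [2,0,0,0,2,0,0,0,0,2,0,2,0,0,0,2,0,0,2,0,0,0,2,2],
  [2,0,0,2,0,0,2,0,0,0,0,2,0,0,0,0,0,2,2,0,0,2,0,2],
  [2,0,0,0,0,0,0,2,2,0,0,0,0,2,0,0,0,0,2,0,0,2,2,2],
  [1,-1,-1,1,1,1,-1,1,1,1,-1,1,-1,1,-1,1,1,1,1,1,1,1,-1,3],
  [2,0,2,0,0,0,0,2,2,0,2,0,0,0,2,0,2,0,0,0,0,0,0,2],
  [2,0,0,0,2,2,0,0,0,2,0,0,0,0,2,0,2,0,0,0,2,0,0,2],
  [1,-1,1,1,1,-1,1,1,-1,1,1,1,-1,-1,1,1,1,-1,1,1,1,1,-1,3],
  [2,0,2,2,0,0,2,0,0,0,0,0,2,0,0,0,2,0,0,0,2,0,0,2],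
  [2,0,0,0,0,0,0,0,2,2,0,0,2,2,0,2,2,0,0,0,0,0,0,2],
  [2,0,0,0,0,2,2,2,0,0,0,0,0,2,0,0,2,2,0,0,0,0,0,2],
  [2,0,0,0,2,2,0,0,0,0,0,0,0,0,0,0,0,2,0,2,0,2,2,2],
  [1,-1,-1,1,1,-1,1,-1,1,1,-1,1,1,-1,1,1,1,1,-1,1,1,1,1,3],
  [2,0,2,2,0,0,0,2,0,0,0,2,0,2,0,2,0,0,0,0,0,0,0,2],
  [2,0,0,0,0,2,0,0,2,2,2,0,0,0,0,0,0,2,2,0,0,0,0,2],
  [2,0,0,0,0,0,0,2,0,0,0,0,0,0,0,2,2,0,0,2,2,0,2,2],
  [2,0,0,0,0,0,2,0,0,0,0,2,2,2,0,0,0,0,0,2,0,0,2,2],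
  [1,-1,-1,1,1,1,1,-1,1,1,1,1,-1,1,1,-1,-1,-1,1,1,1,1,1,3],
  [2,0,0,2,0,0,0,0,0,2,2,2,2,0,2,0,0,0,0,0,0,0,0,2],
  [2,0,0,2,2,0,2,2,0,0,0,0,0,0,2,0,0,0,0,0,0,0,2,2],
  [2,0,0,2,0,2,0,0,2,0,0,2,0,0,0,0,2,0,0,0,0,0,2,2],
  [2,0,0,0,2,0,2,0,2,0,0,0,0,0,0,0,2,0,2,2,0,0,0,2],
  [1,-1,1,-1,1,1,1,1,1,1,1,-1,1,-1,-1,1,1,1,-1,1,1,1,-1,3],
  [1,-1,1,1,1,1,-1,1,1,-1,-1,-1,1,1,1,1,1,1,-1,-1,1,1,1,3],
  [1,-1,1,1,1,1,1,1,1,1,1,-1,-1,1,-1,1,1,-1,1,-1,1,-1,1,3],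
  [1,-1,1,1,-1,1,1,-1,1,1,1,1,-1,1,1,1,1,1,-1,-1,1,1,-1,3],
  [1,-1,1,1,-1,1,-1,1,-1,1,1,-1,1,1,1,1,1,1,1,1,1,-1,-1,3],
  [1,-1,1,1,-1,1,1,1,-1,-1,1,1,1,-1,1,1,1,1,-1,1,-1,1,1,3],
  [1,-1,1,1,-1,1,1,1,1,1,-1,-1,-1,-1,1,-1,1,1,1,1,1,1,1,3],
  [1,-1,1,-1,1,1,1,1,1,1,-1,1,-1,1,1,1,1,-1,-1,1,-1,1,1,3],
  [2,0,2,0,0,2,0,0,2,0,0,0,0,2,0,0,0,0,0,2,2,0,0,2],
  [2,0,2,0,0,0,0,0,0,2,0,2,0,0,0,0,2,2,0,2,0,0,0,2],
  [1,-1,1,1,-1,1,-1,-1,1,1,-1,1,1,1,1,1,-1,1,1,1,-1,1,1,3],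
  [1,-1,-1,1,-1,-1,1,1,1,1,1,1,-1,1,1,1,1,1,1,1,-1,-1,1,3],
  [2,0,0,2,0,2,2,0,0,2,0,0,0,0,0,2,0,0,0,2,0,0,0,2],
  [2,0,0,0,0,0,0,0,2,0,2,2,0,0,0,2,0,0,0,2,0,2,0,2],
  [2,0,0,0,0,0,0,0,0,0,2,2,0,2,0,0,2,0,2,0,2,0,0,2],
  [2,0,0,2,0,0,0,0,2,0,0,0,0,0,2,2,0,0,2,0,2,0,0,2],
  [2,0,0,0,2,0,0,2,0,0,0,2,2,0,0,0,2,0,0,0,0,2,0,2],
  [2,0,0,2,0,0,0,2,2,0,0,0,2,0,0,0,0,2,0,2,0,0,0,2],
  [2,0,2,0,2,0,0,0,0,0,0,0,2,0,2,2,0,0,0,2,0,0,0,2],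
  [2,0,0,0,0,0,2,2,2,2,0,2,0,0,0,0,0,0,0,0,2,0,0,2],
  [1,-1,1,-1,-1,1,1,1,-1,1,1,1,-1,1,-1,1,-1,1,1,1,1,1,1,3],
  [2,0,2,0,0,2,0,2,0,2,0,0,2,0,0,0,0,0,0,0,0,0,2,2],
  [2,0,2,0,0,0,2,0,0,2,0,0,0,2,2,0,0,0,2,0,0,0,0,2],
  [2,0,0,2,0,0,0,0,0,2,0,0,0,2,0,0,0,2,0,0,2,0,2,2],
  [1,-1,1,-1,1,1,1,-1,1,1,-1,1,1,1,-1,-1,1,1,1,-1,1,1,1,3],
  [1,-1,-1,1,-1,1,1,-1,1,-1,1,-1,1,1,-1,1,1,1,1,1,1,1,1,3],
  [1,-1,1,1,1,-1,1,1,-1,1,-1,-1,1,1,-1,1,1,1,1,1,-1,1,1,3],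
  [2,0,2,2,0,0,0,0,0,0,2,0,0,0,0,0,0,0,2,2,0,0,2,2],
  [2,0,0,0,0,2,0,2,0,0,0,2,0,0,2,0,0,0,2,2,0,0,0,2],
  [1,-1,-1,1,1,1,1,1,1,-1,1,1,1,1,1,1,1,-1,-1,1,1,-1,-1,3],
  [1,-1,1,1,-1,-1,1,1,1,1,1,-1,1,1,1,1,-1,-1,-1,1,1,1,1,3],
  [1,-1,1,1,1,-1,-1,1,1,1,-1,1,1,1,1,-1,1,-1,1,1,1,-1,1,3],
  [1,-1,1,1,1,1,-1,-1,-1,1,1,1,1,1,-1,1,1,-1,-1,1,1,1,1,3],
  [1,-1,1,-1,-1,-1,1,1,1,-1,-1,1,1,1,1,1,1,1,1,1,1,1,-1,3],
  [1,-1,1,-1,1,1,-1,1,1,-1,1,1,1,1,-1,1,1,1,1,1,-1,-1,1,3],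
  [1,-1,-1,1,1,1,1,1,-1,1,1,1,1,-1,-1,-1,1,1,1,1,1,-1,1,3],
  [2,0,0,2,2,0,0,0,0,0,2,0,0,0,0,2,2,2,0,0,0,0,0,2],
  [2,0,0,0,2,0,0,0,2,0,2,0,2,0,0,0,0,0,0,0,2,0,2,2],
  [2,0,2,0,2,0,0,2,0,0,0,0,0,0,0,0,0,2,2,0,2,0,0,2],
  [2,0,2,0,0,0,0,0,0,0,2,0,2,2,0,0,0,2,0,0,0,2,0,2],
  [2,0,0,0,0,2,0,0,0,0,2,0,0,2,2,2,0,0,0,0,0,0,2,2],
  [2,0,0,0,0,0,2,0,0,0,2,0,0,0,2,0,0,2,0,2,2,0,0,2],
  [1,-1,1,1,1,-1,1,-1,1,1,1,1,1,1,-1,1,-1,1,1,1,1,-1,-1,3],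
  [1,-1,1,1,-1,1,1,1,1,-1,1,1,1,1,1,-1,-1,1,1,-1,1,-1,1,3],
  [1,-1,1,-1,1,1,-1,1,1,1,1,1,1,1,1,1,-1,-1,1,-1,1,1,-1,3],
  [1,-1,-1,-1,1,1,1,1,1,1,-1,-1,1,1,1,1,-1,1,1,1,1,-1,1,3],
  [1,-1,1,-1,-1,1,1,-1,1,1,1,1,1,-1,1,1,1,-1,1,1,1,-1,1,3],
  [1,-1,-1,1,-1,1,1,1,-1,1,-1,1,1,1,1,1,1,-1,1,-1,1,1,1,3],
  [2,0,0,0,0,0,0,2,0,2,0,0,0,0,2,2,0,2,0,0,0,2,0,2],
  [1,-1,1,1,1,1,1,-1,1,1,1,-1,1,1,1,-1,1,1,-1,1,-1,-1,1,3],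
  [2,0,2,0,0,2,0,0,0,0,0,0,0,0,0,2,2,0,2,0,0,2,0,2],
  [2,0,0,0,2,0,0,2,0,2,2,0,0,2,0,0,0,0,0,2,0,0,0,2],
  [1,-1,1,1,1,1,1,1,-1,1,-1,1,1,1,1,-1,-1,1,-1,1,1,1,-1,3],
  [1,-1,-1,1,1,1,1,1,1,1,1,1,1,1,-1,1,-1,1,-1,-1,-1,1,1,3],
  [2,0,2,0,2,2,2,0,0,0,2,2,0,0,0,0,0,0,0,0,0,0,0,2],
  [2,0,0,0,0,0,0,0,0,2,0,0,2,0,0,0,0,0,2,2,2,2,0,2],
  [1,-1,1,1,1,1,1,1,1,1,-1,1,1,-1,1,1,1,1,1,-1,-1,-1,-1,3],
  [1,-1,-1,1,1,1,-1,1,1,1,1,-1,1,-1,1,1,1,-1,1,1,-1,1,1,3],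
  [2,0,0,0,0,0,2,0,0,2,2,0,0,0,0,0,2,0,0,0,0,2,2,2],
  [2,0,0,0,0,2,2,0,2,0,0,0,2,0,2,0,0,0,0,0,0,2,0,2],
  [2,0,0,2,0,0,0,0,0,0,0,0,0,2,2,0,2,0,0,2,0,2,0,2],
  [2,0,0,0,2,0,0,0,2,0,0,2,0,2,2,0,0,2,0,0,0,0,0,2],
  [2,0,0,0,0,0,0,0,0,0,0,0,2,0,2,0,2,2,2,0,0,0,2,2]]

set_option maxRecDepth 100000 in
theorem T112_eq : T112 = orbitL gens3a root3a prog3a := by decide +kernel

/-- the list of coordinates of a vector -/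
def toL (x : GolayPt → ℤ) : List ℤ := (List.range 24).map fun k => x (dec k)

theorem vecL_toL (x : GolayPt → ℤ) : vecL (toL x) = x := by
  funext p
  unfold toL
  rw [vecL_map_range, dec_enc]

theorem toL_vecL (l : List ℤ) (h : l.length = 24) : toL (vecL l) = l := by
  apply vecL_injective_of_length _ h
  · exact vecL_toL _
  · simp [toL]

/-- the index of a list in the table (`112` if absent) -/
def ixL (l : List ℤ) : Fin 113 := Fin.ofNat 113 (T112.idxOf l)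

/-- the index of a vector -/
def ix (x : GolayPt → ℤ) : Fin 113 := ixL (toL x)

/-- the list with a given index -/
def ptV (i : Fin 113) : List ℤ := T112.getD i.val []

theorem T112_len : T112.length = 112 := by rw [T112_eq]; exact orbit3a_len

theorem vecL_nil : vecL [] = 0 := by
  funext p
  rfl

theorem ptV_mem_or (i : Fin 113) : ptV i ∈ T112 ∨ ptV i = [] := by
  unfold ptV
  by_cases h : i.val < T112.length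
  · left
    rw [List.getD_eq_getElem _ _ h]
    exact List.getElem_mem h
  · right
    rw [List.getD_eq_default _ _ (not_lt.mp h)]

theorem conn_T112 (l : List ℤ) (hl : l ∈ T112) : Conn [U0, root1, root2] root3a l :=
  conn_of_mem_orbitL level3a.hB level3a.hroot level3a.hg l (T112_eq ▸ hl)

theorem ptV_mem (i : Fin 113) : vecL (ptV i) ∈ leechLattice := by
  rcases ptV_mem_or i with h | h
  · obtain ⟨g, _, _, hm⟩ := conn_T112 _ h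
    exact hm.mem_right
  · rw [h, vecL_nil]
    exact leechLattice.zero_mem

/-- the lattice vector with a given index -/
def ptLat (i : Fin 113) : leechLattice := ⟨vecL (ptV i), ptV_mem i⟩

theorem ptLat_val (i : Fin 113) : ((ptLat i : leechLattice) : GolayPt → ℤ) = vecL (ptV i) := rfl

/-- the vectors of the table, and zero -/
def Good (y : leechLattice) : Prop :=
  (sqNorm (y : GolayPt → ℤ) = 32 ∧
    CondsOn [(U0, 24), (root1, 16), (root2, 8)] (y : GolayPt → ℤ)) ∨ y = 0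

theorem good_ptLat (i : Fin 113) : Good (ptLat i) := by
  rcases ptV_mem_or i with h | h
  · left
    exact conds_of_conn (by simp) (conn_T112 _ h) root3a_norm ((conds3_iff 8 _).mpr root3a_dots)
  · right
    apply Subtype.ext
    rw [ptLat_val, h, vecL_nil]
    rfl

theorem good_smul (h : HH) (y : leechLattice) (hy : Good y) : Good ((h : Co0) • y) := by
  rcases hy with ⟨h1, h2⟩ | rfl
  · left
    have hU : (h : Co0) • U0v = U0v := (Subgroup.mem_inf.mp (Subgroup.mem_inf.mp h.2).1).1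
    have hV : (h : Co0) • V0v = V0v := (Subgroup.mem_inf.mp (Subgroup.mem_inf.mp h.2).1).2
    have hX : (h : Co0) • X0v = X0v := (Subgroup.mem_inf.mp h.2).2
    rw [conds3_iff] at h2 ⊢
    refine ⟨by rw [sqNorm_smul]; exact h1, ?_, ?_, ?_⟩
    · have := dotInt_smul (h : Co0) U0v y
      rw [hU] at this
      exact this.trans h2.1
    · have := dotInt_smul (h : Co0) V0v y
      rw [hV] at this
      exact this.trans h2.2.1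
    · have := dotInt_smul (h : Co0) X0v y
      rw [hX] at this
      exact this.trans h2.2.2
  · right
    exact smul_zero' _

set_option maxRecDepth 100000 in
theorem ix_zero : ix (0 : GolayPt → ℤ) = 112 := by decide +kernel

set_option maxRecDepth 100000 in
theorem ptV_last : ptV 112 = [] := by decide +kernel

theorem idxOf_lt_of_mem {l : List ℤ} (hl : l ∈ T112) : T112.idxOf l < 112 := by
  rw [← T112_len]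
  exact List.idxOf_lt_length_of_mem hl

theorem ptLat_ix (y : leechLattice) (hy : Good y) : ptLat (ix (y : GolayPt → ℤ)) = y := by
  rcases hy with ⟨h1, h2⟩ | rfl
  · obtain ⟨l, hl, e, _⟩ := level3a.conn y.1 y.2 h1 h2
    have hl' : l ∈ T112 := T112_eq ▸ hl
    have hlen : l.length = 24 := by
      have := List.all_eq_true.mp orbit3a_len24 l hl
      exact beq_iff_eq.mp this
    apply Subtype.ext
    rw [ptLat_val]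
    have e' : (y : GolayPt → ℤ) = vecL l := e
    rw [e']
    unfold ix
    rw [toL_vecL l hlen]
    unfold ptV ixL
    have hlt := idxOf_lt_of_mem hl'
    have hv : (Fin.ofNat 113 (T112.idxOf l)).val = T112.idxOf l := by
      show T112.idxOf l % 113 = T112.idxOf l
      exact Nat.mod_eq_of_lt (by omega)
    rw [hv, List.getD_eq_getElem _ _ (by rw [T112_len]; exact hlt), List.getElem_idxOf]
  · apply Subtype.ext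
    rw [ptLat_val]
    have e0 : (((0 : leechLattice) : GolayPt → ℤ)) = 0 := rfl
    rw [e0, ix_zero, ptV_last, vecL_nil]

set_option maxRecDepth 100000 in
theorem ix_ptLat : ∀ i : Fin 113, ix (vecL (ptV i)) = i := by decide +kernel

/-- the action of `HH` on the indices -/
def actH (h : HH) (i : Fin 113) : Fin 113 := ix (((h : Co0) • ptLat i : leechLattice) : GolayPt → ℤ)

theorem smul_ptLat (h : HH) (i : Fin 113) : (h : Co0) • ptLat i = ptLat (actH h i) :=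
  (ptLat_ix _ (good_smul h _ (good_ptLat i))).symm

/-- the action as a monoid homomorphism into the endomorphisms of `Fin 113` -/
def rhoEnd : HH →* Function.End (Fin 113) where
  toFun h := actH h
  map_one' := by
    funext i
    show ix (((1 : Co0) • ptLat i : leechLattice) : GolayPt → ℤ) = i
    rw [one_smul]
    exact ix_ptLat i
  map_mul' h h' := by
    funext i
    show ix ((((h * h' : HH) : Co0) • ptLat i : leechLattice) : GolayPt → ℤ) = actH h (actH h' i)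
    rw [Subgroup.coe_mul, mul_smul, smul_ptLat h' i]
    rfl

/-- the permutation representation of `HH` -/
def rho : HH →* Equiv.Perm (Fin 113) := MonoidHom.toHomPerm rhoEnd

theorem rho_apply (h : HH) (i : Fin 113) :
    rho h i = ix (((h : Co0) • ptLat i : leechLattice) : GolayPt → ℤ) := rfl

/-- elements of `HH` from words -/
theorem rho_word (w : List Letter) (hw : stabW [U0, root1, root2] w = true) :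
    ∃ h : HH, ∀ i : Fin 113, rho h i = ix (vecL (appW w (ptV i))) := by
  unfold stabW at hw
  rw [Bool.and_eq_true, List.all_eq_true] at hw
  obtain ⟨g, hg, hgl⟩ := word_sound w hw.1
  have fix : ∀ b ∈ [U0, root1, root2], ∀ hb : vecL b ∈ leechLattice,
      (⟨g, hg⟩ : Co0) • (⟨vecL b, hb⟩ : leechLattice) = ⟨vecL b, hb⟩ := by
    intro b hb hbm
    apply Subtype.ext
    show ((g ⟨vecL b, hbm⟩ : leechLattice) : GolayPt → ℤ) = vecL b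
    rw [hgl b hbm]
    have := hw.2 b hb
    rw [beq_iff_eq] at this
    rw [this]
  have hU : (⟨g, hg⟩ : Co0) • U0v = U0v := fix U0 (by simp) U0_mem
  have hV : (⟨g, hg⟩ : Co0) • V0v = V0v := fix root1 (by simp) root1_mem
  have hX : (⟨g, hg⟩ : Co0) • X0v = X0v := fix root2 (by simp) root2_mem
  refine ⟨⟨⟨g, hg⟩, Subgroup.mem_inf.mpr ⟨Subgroup.mem_inf.mpr ⟨hU, hV⟩, hX⟩⟩, fun i => ?_⟩
  rw [rho_apply]
  congr 1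
  exact hgl (ptV i) (ptV_mem i)

end Cfsg.Agent.Lib.Helper91_McLStab
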