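import Cfsg.Agent.Lib.Helper91_McLCheck

/-!
# A word of `Co0` acting as the product of the reflections with codes `568` and `435`

helper91.
-/

set_option autoImplicit false
open Cfsg

namespace Cfsg.Agent.Lib.Helper91_McLWord1

open Cfsg.Agent.Lib.Helper7_Xi Cfsg.Agent.Lib.Helper91_LeechWord Cfsg.Agent.Lib.Helper91_LeechOrb
  Cfsg.Agent.Lib.Helper91_LeechGlue Cfsg.Agent.Lib.Helper91_Co3L1 Cfsg.Agent.Lib.Helper91_Co3L2
  Cfsg.Agent.Lib.Helper91_Co3L3 Cfsg.Agent.Lib.Helper91_McLStab
  Cfsg.Agent.Lib.Helper44_Refl Cfsg.Agent.Lib.Helper44_Spinor Cfsg.Agent.Lib.Helper91_O6mPts Cfsg.Agent.Lib.Helper91_O6mTheta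
  Cfsg.Agent.Lib.Helper91_O6mClosure
  Cfsg.Agent.Lib.Helper91_McLCheck

/-- the word -/
def w : List Letter := [.xi, .mono [0,1,2,3,13,6,23,20,16,5,18,14,21,7,22,19,8,11,12,15,4,10,17,9] [0,1,2,3,20,9,5,13,16,23,21,17,18,4,11,19,8,22,10,15,7,12,14,6] 0, .xi, .xi, .mono [0,1,2,3,13,6,23,20,16,5,18,14,21,7,22,19,8,11,12,15,4,10,17,9] [0,1,2,3,20,9,5,13,16,23,21,17,18,4,11,19,8,22,10,15,7,12,14,6] 0, .xi]

set_option maxRecDepth 100000 in
theorem stab : stabW [U0, root1, root2] w = true := by decide +kernel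

set_option maxRecDepth 100000 in
theorem check1 : checkChunk 435 w 0 29 = true := by decide +kernel

set_option maxRecDepth 100000 in
theorem check2 : checkChunk 435 w 29 29 = true := by decide +kernel

set_option maxRecDepth 100000 in
theorem check3 : checkChunk 435 w 58 29 = true := by decide +kernel

set_option maxRecDepth 100000 in
theorem check4 : checkChunk 435 w 87 26 = true := by decide +kernel

theorem mem : phi (reflT Q6 (dec 568) * reflT Q6 (dec 435)) ∈ rho.range :=
  mem_of_check 435 w (q6_base 435 (by decide)) stab check1 check2 check3 check4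

end Cfsg.Agent.Lib.Helper91_McLWord1
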