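import Mathlib
import Cfsg.Agent.Lib.Helper95_OPDefs
import Cfsg.Agent.Lib.Helper95_OPBasic
import Cfsg.Agent.Lib.Helper40_QuadIso
import Cfsg.Agent.Lib.Helper44_StdForms
import Cfsg.Agent.Lib.Helper14_POmegaSimple
import Cfsg.Agent.Lib.Helper5_QuadCount

/-!
# S2345 package OP-BRPLUS (architect helper95): the standard plus form `qfPlus m F` is `IsPlus` of rank `m`
(level-set counts).
-/

set_option autoImplicit false

namespace Cfsg.Agent.Lib.Helper91_OP_BRPLUS

open Module Cfsg.Agent.Lib.Helper94_OrthSmall Cfsg.Agent.Lib.Helper44_QuadClass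
  Cfsg.Agent.Lib.Helper14_OmegaSimple Cfsg.Agent.Lib.Helper38_MIODefs
  Cfsg.Agent.Lib.Helper95_OPDefs Cfsg.Agent.Lib.Helper95_OPBasic

universe u

variable {F : Type u} [Field F] [Fintype F]

open Cfsg.Agent.Lib.Helper40_QuadIso Cfsg.Agent.Lib.Helper44_StdForms

omit [Fintype F] in
/-- the level sets of the plus form are those of the dot product -/
theorem card_level_qfPlus (m : ℕ) (c : F) :
    Nat.card {w : Fin m ⊕ Fin m → F // qfPlus m F w = c} =
      Nat.card {p : (Fin m → F) × (Fin m → F) // p.1 ⬝ᵥ p.2 = c} := by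
  refine Nat.card_congr (Equiv.subtypeEquiv (Equiv.sumArrowEquivProdArrow (Fin m) (Fin m) F) ?_)
  intro w
  have : qfPlus m F w = Cfsg.quadFormPlus m F w := by rw [← coe_qfPlus]
  rw [this]
  rfl

theorem isPlus_qfPlus (m : ℕ) (hm : 1 ≤ m) : IsPlus (qfPlus m F) m := by
  classical
  set q := Fintype.card F with hq
  have hq1 : 1 ≤ q := Fintype.card_pos
  set A := q ^ m with hA
  set B := q ^ (m - 1) with hB
  have hA1 : 1 ≤ A := Nat.one_le_pow _ _ hq1
  have hB1 : 1 ≤ B := Nat.one_le_pow _ _ hq1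
  have hAB : q ^ (2 * m - 1) = A * B := by
    rw [hA, hB, ← pow_add]
    congr 1
    omega
  have hsub : (A - 1) * B = A * B - B := by
    rw [Nat.sub_mul, one_mul]
  have hle : B ≤ A * B := Nat.le_mul_of_pos_left B hA1
  refine ⟨Cfsg.Agent.Lib.Helper14_POmegaSimple.nondegenerate_qfPlus m, ?_, ?_, ?_⟩
  · rw [Module.finrank_fintype_fun_eq_card, Fintype.card_sum, Fintype.card_fin]
    ring
  · rw [card_level_qfPlus, Cfsg.Agent.Lib.Helper5_QuadCount.card_pairs m 0, if_pos rfl, ← hq,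
      ← hA, ← hB, hAB, hsub]
    omega
  · intro c hc
    rw [card_level_qfPlus, Cfsg.Agent.Lib.Helper5_QuadCount.card_pairs m c, if_neg hc, ← hq,
      ← hA, ← hB, hAB, hsub, zero_add]

end Cfsg.Agent.Lib.Helper91_OP_BRPLUS
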