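import Mathlib

/-!
# S2345 package OP-TRSCAL (architect helper95): trace of an operator that is scalar on the blocks
of an internal direct sum.
-/

set_option autoImplicit false

namespace Cfsg.Agent.Lib.Helper91_OP_TRSCAL

open Module

theorem trace_eq_sum_of_scalar {X : Type*} [AddCommGroup X] [Module ℂ X] [FiniteDimensional ℂ X]
    {ι : Type*} [Fintype ι] [DecidableEq ι] (S : ι → Submodule ℂ X) (hint : DirectSum.IsInternal S)
    (A : Module.End ℂ X) (c : ι → ℂ) (hA : ∀ i, ∀ x ∈ S i, A x = c i • x) :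
    LinearMap.trace ℂ X A = ∑ i, (finrank ℂ (S i) : ℂ) * c i := by
  have hf : ∀ i, Set.MapsTo A (S i) (S i) := by
    intro i x hx
    rw [hA i x hx]
    exact (S i).smul_mem _ hx
  rw [LinearMap.trace_eq_sum_trace_restrict hint hf]
  refine Finset.sum_congr rfl (fun i _ => ?_)
  have h1 : A.restrict (hf i) = c i • (LinearMap.id : ↥(S i) →ₗ[ℂ] ↥(S i)) := by
    apply LinearMap.ext
    intro x
    apply Subtype.ext
    show A (x : X) = c i • (x : X)
    exact hA i x x.2
  rw [h1, map_smul, LinearMap.trace_id, smul_eq_mul, mul_comm]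

end Cfsg.Agent.Lib.Helper91_OP_TRSCAL
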