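import Mathlib
import Cfsg.Prelude.Def_Classical
import Cfsg.Agent.S0246
import Cfsg.Agent.Lib.Helper61_PSpTools

/-!
# Helper91_PSp43Spec

The set of element orders of `PSp(4,3)` is `{1, 2, 3, 4, 5, 6, 9, 12}` (`range_orderOf`).

Upper bound: the characteristic polynomial of a symplectic `4 × 4` matrix over `ZMod 3` is
self-reciprocal, `X⁴ + aX³ + bX² + aX + 1`; for each of the nine possibilities it divides one of
`X¹² ∓ 1`, `X⁹ ∓ 1`, `X⁵ ∓ 1`, so by Cayley-Hamilton a power `A ^ N`, `N ∈ {12, 9, 5}`, is `± 1`.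
Lower bound: explicit matrices of projective orders 5, 9, 12.
-/

set_option autoImplicit false
set_option linter.unusedSimpArgs false

namespace Cfsg.Agent.Lib.Helper91_PSp43Spec

open Matrix Polynomial

/-- `4 × 4` matrices over the field with three elements. -/
abbrev M4 := Matrix (Fin 2 ⊕ Fin 2) (Fin 2 ⊕ Fin 2) (ZMod 3)

abbrev Sp43 := Matrix.symplecticGroup (Fin 2) (ZMod 3)

theorem charpoly_reverse (A : M4) (hA : A ∈ Matrix.symplecticGroup (Fin 2) (ZMod 3)) :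
    A.charpoly.reverse = A.charpoly := by
  have hinv : A⁻¹ = -J (Fin 2) (ZMod 3) * Aᵀ * J (Fin 2) (ZMod 3) :=
    SymplecticGroup.inv_eq_symplectic_inv A hA
  have h1 : A⁻¹.charpoly = A.charpoly := by
    rw [hinv, charpoly_mul_comm, ← mul_assoc, mul_neg, Matrix.J_squared, neg_neg, one_mul,
      charpoly_transpose]
  have hdet : A.det = 1 := SymplecticGroup.det_eq_one hA
  have hu : IsUnit A := by
    rw [Matrix.isUnit_iff_isUnit_det, hdet]; exact isUnit_one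
  have h2 := charpoly_inv A hu
  rw [hdet, Ring.inverse_one, map_one, mul_one] at h2
  have hc : Fintype.card (Fin 2 ⊕ Fin 2) = 4 := by decide
  rw [hc] at h2
  rw [reverse_charpoly, ← h1, h2]
  norm_num


theorem charpoly_shape (A : M4) (hA : A ∈ Matrix.symplecticGroup (Fin 2) (ZMod 3)) :
    ∃ a b : ZMod 3, A.charpoly = X ^ 4 + C a * X ^ 3 + C b * X ^ 2 + C a * X + 1 := by
  have hdeg : A.charpoly.natDegree = 4 := by
    rw [charpoly_natDegree_eq_dim]; decide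
  have hmon : A.charpoly.coeff 4 = 1 := by
    have := (charpoly_monic A).coeff_natDegree
    rwa [hdeg] at this
  have hrev := charpoly_reverse A hA
  have h0 : A.charpoly.coeff 0 = 1 := by
    have := congrArg (fun p => coeff p 0) hrev
    simp only [coeff_reverse, hdeg] at this
    rw [← this, show revAt 4 0 = 4 from by decide, hmon]
  have h1 : A.charpoly.coeff 1 = A.charpoly.coeff 3 := by
    have := congrArg (fun p => coeff p 1) hrev
    simp only [coeff_reverse, hdeg] at this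
    rw [← this, show revAt 4 1 = 3 from by decide]
  refine ⟨A.charpoly.coeff 3, A.charpoly.coeff 2, ?_⟩
  conv_lhs => rw [A.charpoly.as_sum_range' 5 (by rw [hdeg]; norm_num)]
  simp only [Finset.sum_range_succ, Finset.sum_range_zero, zero_add, h0, h1, hmon,
    ← C_mul_X_pow_eq_monomial, map_one, pow_zero, pow_one, mul_one, one_mul]
  ring


theorem three_eq_zero : (3 : (ZMod 3)[X]) = 0 := by
  have h : ((3 : ℕ) : (ZMod 3)[X]) = 0 := CharP.cast_eq_zero _ 3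
  exact_mod_cast h

theorem pid_0_0 :
    (X ^ 4 + C (0 : ZMod 3) * X ^ 3 + C (0 : ZMod 3) * X ^ 2 + C (0 : ZMod 3) * X + 1 : (ZMod 3)[X])
      * (1 + 2 * X ^ 4 + X ^ 8) = X ^ 12 + 1 := by
  have h3 : (3 : (ZMod 3)[X]) = 0 := three_eq_zero
  simp only [map_zero, map_one, map_ofNat]
  linear_combination (X ^ 4 + X ^ 8) * h3

theorem pid_0_1 :
    (X ^ 4 + C (0 : ZMod 3) * X ^ 3 + C (1 : ZMod 3) * X ^ 2 + C (0 : ZMod 3) * X + 1 : (ZMod 3)[X])
      * (2 + X ^ 2 + 2 * X ^ 6 + X ^ 8) = X ^ 12 - 1 := by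
  have h3 : (3 : (ZMod 3)[X]) = 0 := three_eq_zero
  simp only [map_zero, map_one, map_ofNat]
  linear_combination (1 + X ^ 2 + X ^ 4 + X ^ 6 + X ^ 8 + X ^ 10) * h3

theorem pid_0_2 :
    (X ^ 4 + C (0 : ZMod 3) * X ^ 3 + C (2 : ZMod 3) * X ^ 2 + C (0 : ZMod 3) * X + 1 : (ZMod 3)[X])
      * (2 + 2 * X ^ 2 + X ^ 6 + X ^ 8) = X ^ 12 - 1 := by
  have h3 : (3 : (ZMod 3)[X]) = 0 := three_eq_zero
  simp only [map_zero, map_one, map_ofNat]
  linear_combination (1 + 2 * X ^ 2 + 2 * X ^ 4 + X ^ 6 + X ^ 8 + X ^ 10) * h3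

theorem pid_1_0 :
    (X ^ 4 + C (1 : ZMod 3) * X ^ 3 + C (0 : ZMod 3) * X ^ 2 + C (1 : ZMod 3) * X + 1 : (ZMod 3)[X])
      * (1 + 2 * X + X ^ 2 + X ^ 3 + 2 * X ^ 4 + X ^ 5) = X ^ 9 + 1 := by
  have h3 : (3 : (ZMod 3)[X]) = 0 := three_eq_zero
  simp only [map_zero, map_one, map_ofNat]
  linear_combination (X + X ^ 2 + X ^ 3 + 2 * X ^ 4 + 2 * X ^ 5 + X ^ 6 + X ^ 7 + X ^ 8) * h3

theorem pid_1_1 :
    (X ^ 4 + C (1 : ZMod 3) * X ^ 3 + C (1 : ZMod 3) * X ^ 2 + C (1 : ZMod 3) * X + 1 : (ZMod 3)[X])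
      * (2 + X) = X ^ 5 - 1 := by
  have h3 : (3 : (ZMod 3)[X]) = 0 := three_eq_zero
  simp only [map_zero, map_one, map_ofNat]
  linear_combination (1 + X + X ^ 2 + X ^ 3 + X ^ 4) * h3

theorem pid_1_2 :
    (X ^ 4 + C (1 : ZMod 3) * X ^ 3 + C (2 : ZMod 3) * X ^ 2 + C (1 : ZMod 3) * X + 1 : (ZMod 3)[X])
      * (2 + X + X ^ 2 + X ^ 3 + 2 * X ^ 5 + 2 * X ^ 6 + 2 * X ^ 7 + X ^ 8) = X ^ 12 - 1 := by
  have h3 : (3 : (ZMod 3)[X]) = 0 := three_eq_zero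
  simp only [map_zero, map_one, map_ofNat]
  linear_combination (1 + X + 2 * X ^ 2 + 2 * X ^ 3 + 2 * X ^ 4 + 2 * X ^ 5 + 2 * X ^ 6 + 3 * X ^ 7 + 3 * X ^ 8 + 3 * X ^ 9 + 2 * X ^ 10 + X ^ 11) * h3

theorem pid_2_0 :
    (X ^ 4 + C (2 : ZMod 3) * X ^ 3 + C (0 : ZMod 3) * X ^ 2 + C (2 : ZMod 3) * X + 1 : (ZMod 3)[X])
      * (2 + 2 * X + 2 * X ^ 2 + X ^ 3 + X ^ 4 + X ^ 5) = X ^ 9 - 1 := by
  have h3 : (3 : (ZMod 3)[X]) = 0 := three_eq_zero
  simp only [map_zero, map_one, map_ofNat]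
  linear_combination (1 + 2 * X + 2 * X ^ 2 + 3 * X ^ 3 + 3 * X ^ 4 + 3 * X ^ 5 + 2 * X ^ 6 + X ^ 7 + X ^ 8) * h3

theorem pid_2_1 :
    (X ^ 4 + C (2 : ZMod 3) * X ^ 3 + C (1 : ZMod 3) * X ^ 2 + C (2 : ZMod 3) * X + 1 : (ZMod 3)[X])
      * (1 + X) = X ^ 5 + 1 := by
  have h3 : (3 : (ZMod 3)[X]) = 0 := three_eq_zero
  simp only [map_zero, map_one, map_ofNat]
  linear_combination (X + X ^ 2 + X ^ 3 + X ^ 4) * h3

theorem pid_2_2 :
    (X ^ 4 + C (2 : ZMod 3) * X ^ 3 + C (2 : ZMod 3) * X ^ 2 + C (2 : ZMod 3) * X + 1 : (ZMod 3)[X])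
      * (2 + 2 * X + X ^ 2 + 2 * X ^ 3 + X ^ 5 + 2 * X ^ 6 + X ^ 7 + X ^ 8) = X ^ 12 - 1 := by
  have h3 : (3 : (ZMod 3)[X]) = 0 := three_eq_zero
  simp only [map_zero, map_one, map_ofNat]
  linear_combination (1 + 2 * X + 3 * X ^ 2 + 4 * X ^ 3 + 4 * X ^ 4 + 3 * X ^ 5 + 3 * X ^ 6 + 3 * X ^ 7 + 3 * X ^ 8 + 3 * X ^ 9 + 2 * X ^ 10 + X ^ 11) * h3

theorem fin_pos (A : M4) (r q : (ZMod 3)[X]) (N : ℕ) (hr : aeval A r = 0)
    (hid : r * q = X ^ N - 1) : A ^ N = 1 := by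
  have := congrArg (aeval A) hid
  rw [map_mul, hr, zero_mul, map_sub, map_pow, aeval_X, map_one] at this
  exact sub_eq_zero.1 this.symm

theorem fin_neg (A : M4) (r q : (ZMod 3)[X]) (N : ℕ) (hr : aeval A r = 0)
    (hid : r * q = X ^ N + 1) : A ^ N = -1 := by
  have := congrArg (aeval A) hid
  rw [map_mul, hr, zero_mul, map_add, map_pow, aeval_X, map_one] at this
  exact eq_neg_of_add_eq_zero_left this.symm

theorem pow_cases (A : M4) (hA : A ∈ Matrix.symplecticGroup (Fin 2) (ZMod 3)) :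
    A ^ 12 = 1 ∨ A ^ 12 = -1 ∨ A ^ 9 = 1 ∨ A ^ 9 = -1 ∨ A ^ 5 = 1 ∨ A ^ 5 = -1 := by
  obtain ⟨a, b, hχ⟩ := charpoly_shape A hA
  have hCH := aeval_self_charpoly A
  rw [hχ] at hCH
  have h012 : ∀ t : ZMod 3, t = 0 ∨ t = 1 ∨ t = 2 := by decide
  have ha := h012 a
  have hb := h012 b
  rcases ha with rfl | rfl | rfl <;> rcases hb with rfl | rfl | rfl
  · exact Or.inr (Or.inl (fin_neg A _ _ 12 hCH pid_0_0))
  · exact Or.inl (fin_pos A _ _ 12 hCH pid_0_1)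
  · exact Or.inl (fin_pos A _ _ 12 hCH pid_0_2)
  · exact Or.inr (Or.inr (Or.inr (Or.inl (fin_neg A _ _ 9 hCH pid_1_0))))
  · exact Or.inr (Or.inr (Or.inr (Or.inr (Or.inl (fin_pos A _ _ 5 hCH pid_1_1)))))
  · exact Or.inl (fin_pos A _ _ 12 hCH pid_1_2)
  · exact Or.inr (Or.inr (Or.inl (fin_pos A _ _ 9 hCH pid_2_0)))
  · exact Or.inr (Or.inr (Or.inr (Or.inr (Or.inr (fin_neg A _ _ 5 hCH pid_2_1)))))
  · exact Or.inl (fin_pos A _ _ 12 hCH pid_2_2)


/-- `PSp(4,3)`. -/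
abbrev P43 := Cfsg.PSp 2 (ZMod 3)

theorem mk_pow_eq_one_iff (g : Sp43) (m : ℕ) :
    (QuotientGroup.mk g : P43) ^ m = 1 ↔ (g.1 ^ m = 1 ∨ g.1 ^ m = -1) := by
  rw [← QuotientGroup.mk_pow, QuotientGroup.eq_one_iff]
  constructor
  · intro h
    have := Cfsg.Agent.S0246.center_eq_one_or_neg_one 2 (by norm_num) (g ^ m) h
    rwa [SubmonoidClass.coe_pow] at this
  · intro h
    have h1 : (QuotientGroup.mk (g ^ m) : P43) = QuotientGroup.mk (1 : Sp43) := by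
      apply Cfsg.Agent.Lib.Helper61_PSpTools.mk_eq_of_pm
      rw [SubmonoidClass.coe_pow]
      rcases h with h | h
      · left; rw [h]; rfl
      · right; rw [h]; rfl
    exact (QuotientGroup.eq_one_iff _).1 (h1.trans (QuotientGroup.mk_one _))

theorem orderOf_mem (x : P43) : orderOf x ∈ ({1, 2, 3, 4, 5, 6, 9, 12} : Set ℕ) := by
  have key : ∀ m : ℕ, (m ∣ 9 ∨ m ∣ 5 ∨ m ∣ 12) → m ∈ ({1, 2, 3, 4, 5, 6, 9, 12} : Set ℕ) := by
    intro m hm
    have hle : m ≤ 12 := by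
      rcases hm with hm | hm | hm
      · exact (Nat.le_of_dvd (by norm_num) hm).trans (by norm_num)
      · exact (Nat.le_of_dvd (by norm_num) hm).trans (by norm_num)
      · exact Nat.le_of_dvd (by norm_num) hm
    interval_cases m <;> simp_all <;> omega
  apply key
  obtain ⟨g, rfl⟩ := QuotientGroup.mk_surjective x
  rcases pow_cases g.1 g.2 with h | h | h | h | h | h
  · exact Or.inr (Or.inr (orderOf_dvd_of_pow_eq_one ((mk_pow_eq_one_iff g 12).2 (Or.inl h))))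
  · exact Or.inr (Or.inr (orderOf_dvd_of_pow_eq_one ((mk_pow_eq_one_iff g 12).2 (Or.inr h))))
  · exact Or.inl (orderOf_dvd_of_pow_eq_one ((mk_pow_eq_one_iff g 9).2 (Or.inl h)))
  · exact Or.inl (orderOf_dvd_of_pow_eq_one ((mk_pow_eq_one_iff g 9).2 (Or.inr h)))
  · exact Or.inr (Or.inl (orderOf_dvd_of_pow_eq_one ((mk_pow_eq_one_iff g 5).2 (Or.inl h))))
  · exact Or.inr (Or.inl (orderOf_dvd_of_pow_eq_one ((mk_pow_eq_one_iff g 5).2 (Or.inr h))))

/-! ### Elements of projective orders 5, 9, 12 -/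

def m5 : M4 := fromBlocks !![0, 2; 0, 0] !![0, 0; 1, 0] !![0, 2; 2, 2] !![1, 2; 0, 0]
def m9 : M4 := fromBlocks !![0, 0; 0, 0] !![0, 2; 2, 0] !![0, 1; 1, 0] !![1, 1; 0, 1]
def m12 : M4 := fromBlocks !![1, 0; 0, 0] !![0, 0; 0, 2] !![2, 0; 0, 1] !![1, 0; 0, 0]

theorem m5_mem : m5 ∈ Matrix.symplecticGroup (Fin 2) (ZMod 3) := by
  rw [SymplecticGroup.mem_iff]; decide +kernel
theorem m9_mem : m9 ∈ Matrix.symplecticGroup (Fin 2) (ZMod 3) := by
  rw [SymplecticGroup.mem_iff]; decide +kernel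
theorem m12_mem : m12 ∈ Matrix.symplecticGroup (Fin 2) (ZMod 3) := by
  rw [SymplecticGroup.mem_iff]; decide +kernel

theorem orderOf_m5 : orderOf (QuotientGroup.mk (⟨m5, m5_mem⟩ : Sp43) : P43) = 5 := by
  haveI : Fact (Nat.Prime 5) := ⟨by norm_num⟩
  apply orderOf_eq_prime
  · rw [mk_pow_eq_one_iff]; decide +kernel
  · intro h
    have := (mk_pow_eq_one_iff ⟨m5, m5_mem⟩ 1).1 (by rw [pow_one]; exact h)
    revert this; decide +kernel

theorem orderOf_m9 : orderOf (QuotientGroup.mk (⟨m9, m9_mem⟩ : Sp43) : P43) = 9 := by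
  haveI : Fact (Nat.Prime 3) := ⟨by norm_num⟩
  apply orderOf_eq_prime_pow (p := 3) (n := 1)
  · rw [mk_pow_eq_one_iff]; decide +kernel
  · rw [mk_pow_eq_one_iff]; decide +kernel

theorem orderOf_m12 : orderOf (QuotientGroup.mk (⟨m12, m12_mem⟩ : Sp43) : P43) = 12 := by
  apply orderOf_eq_of_pow_and_pow_div_prime (by norm_num)
  · rw [mk_pow_eq_one_iff]; decide +kernel
  · intro p hp hd
    have hle : p ≤ 12 := Nat.le_of_dvd (by norm_num) hd
    rw [Ne, mk_pow_eq_one_iff]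
    interval_cases p
    all_goals first
      | (exfalso; revert hp; decide)
      | (exfalso; revert hd; decide)
      | decide +kernel

theorem range_orderOf : Set.range (orderOf : P43 → ℕ) = {1, 2, 3, 4, 5, 6, 9, 12} := by
  apply Set.Subset.antisymm
  · rintro _ ⟨x, rfl⟩
    exact orderOf_mem x
  · have h12 := orderOf_m12
    have hdiv : ∀ n : ℕ, n ∣ 12 → n ∈ Set.range (orderOf : P43 → ℕ) := by
      intro n hn
      refine ⟨_, orderOf_pow_orderOf_div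
        (x := (QuotientGroup.mk (⟨m12, m12_mem⟩ : Sp43) : P43)) (by rw [h12]; norm_num)
        (by rw [h12]; exact hn)⟩
    intro n hn
    simp only [Set.mem_insert_iff, Set.mem_singleton_iff] at hn
    rcases hn with rfl | rfl | rfl | rfl | rfl | rfl | rfl | rfl
    · exact hdiv 1 (by norm_num)
    · exact hdiv 2 (by norm_num)
    · exact hdiv 3 (by norm_num)
    · exact hdiv 4 (by norm_num)
    · exact ⟨_, orderOf_m5⟩
    · exact hdiv 6 (by norm_num)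
    · exact ⟨_, orderOf_m9⟩
    · exact hdiv 12 (by norm_num)

end Cfsg.Agent.Lib.Helper91_PSp43Spec
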