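/-
S4613 family POM (family architect helper86), package XLEL (helper91): the long root elements `lx (e_i) (e_k) t` (`i < k`)
and `lx (e_i) (f_k) t` (`i ≠ k`) are block unitriangular, i.e. lie in `UUb`.
-/
import Mathlib
import Cfsg.Agent.Lib.Helper86_PomDefs

set_option autoImplicit false
set_option linter.unusedSectionVars false
set_option linter.unusedVariables false

namespace Cfsg.Agent.Lib.Helper91_Pom_XLEL

open Matrix Cfsg Cfsg.Agent.Lib.Helper68_MatGrp Cfsg.Agent.Lib.Helper22_BlkGrp Cfsg.Agent.Lib.Helper22_StOmDefs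
open Cfsg.Agent.Lib.Helper86_PomDefs Cfsg.Agent.Lib.Helper68_AutU
open Cfsg.Agent.Lib.Helper5_OmegaCenter (eichO eichMat)

variable {m : ℕ} {F : Type*} [Field F] [Fintype F] {A B : F} [Fact (Aniso A B)]

theorem h91_lxOK_ie_jf {i k : Fin m} (hik : i ≠ k) : LxOK (ie i : I m) (jf k) :=
  ⟨not_isPl_ie i, not_isPl_jf k, fun e => ie_ne_jf i k e.symm,
    fun e => hik (jf_injective (by rw [op_ie] at e; exact e)).symm⟩

/-- a matrix `1 + single a c t - single a' c' t` whose two off-diagonal entries sit at places of strictly increasing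
height is block unitriangular -/
theorem h91_isBU_lxM (a c a' c' : I m) (t : F) (h1 : ht m a < ht m c) (h2 : ht m a' < ht m c') :
    IsBU ((1 : Matrix (I m) (I m) F) + single a c t - single a' c' t) := by
  constructor
  · intro x y hxy
    have hne : x ≠ y := fun h => by rw [h] at hxy; exact lt_irrefl _ hxy
    have e1 : (single a c t : Matrix (I m) (I m) F) x y = 0 := by
      rw [Matrix.single_apply, if_neg]
      rintro ⟨rfl, rfl⟩
      omega
    have e2 : (single a' c' t : Matrix (I m) (I m) F) x y = 0 := by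
      rw [Matrix.single_apply, if_neg]
      rintro ⟨rfl, rfl⟩
      omega
    rw [Matrix.sub_apply, Matrix.add_apply, e1, e2, Matrix.one_apply_ne hne, add_zero, sub_zero]
  · intro x y hxy
    have e1 : (single a c t : Matrix (I m) (I m) F) x y = 0 := by
      rw [Matrix.single_apply, if_neg]
      rintro ⟨rfl, rfl⟩
      omega
    have e2 : (single a' c' t : Matrix (I m) (I m) F) x y = 0 := by
      rw [Matrix.single_apply, if_neg]
      rintro ⟨rfl, rfl⟩
      omega
    rw [Matrix.sub_apply, Matrix.add_apply, e1, e2, Matrix.one_apply, add_zero, sub_zero]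

/-- XLEL (S). -/
theorem lx_ee_mem (i k : Fin m) (hlt : i < k) (t : F) : lx A B (ie i) (ie k) t ∈ UUb m F A B := by
  rw [mem_UUb, lx_val (lxOK_ie (ne_of_lt hlt))]
  unfold lxM
  have hlt' : i.val < k.val := hlt
  have hk := k.2
  apply h91_isBU_lxM
  · rw [ht_ie, ht_ie]; exact hlt'
  · rw [op_ie, op_ie, ht_jf, ht_jf]; omega

theorem lx_ef_mem (i k : Fin m) (hik : i ≠ k) (t : F) : lx A B (ie i) (jf k) t ∈ UUb m F A B := by
  rw [mem_UUb, lx_val (h91_lxOK_ie_jf hik)]
  unfold lxM
  have hi := i.2
  have hk := k.2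
  apply h91_isBU_lxM
  · rw [ht_ie, ht_jf]; omega
  · rw [op_jf, op_ie, ht_ie, ht_jf]; omega

end Cfsg.Agent.Lib.Helper91_Pom_XLEL
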