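import Mathlib
import Cfsg.Agent.Lib.Helper94_Q2Defs
import Cfsg.Agent.Lib.Helper91_Q2_T1Baux
import Cfsg.Agent.Lib.Helper73_Q2_REFL2

/-!
helper91: Q2 package T1B (architect helper94), verbatim.
-/

set_option autoImplicit false
set_option linter.unusedSectionVars false
set_option linter.unusedVariables false

namespace Cfsg.Agent.Lib.Helper91_Q2_T1B

open Module Cfsg.Agent.Lib.Helper94_Symp Cfsg.Agent.Lib.Helper94_OrthSmall
  Cfsg.Agent.Lib.Helper94_OrthSiegel Cfsg.Agent.Lib.Helper94_OrthNondeg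
  Cfsg.Agent.Lib.Helper29_ODDefs Cfsg.Agent.Lib.Helper94_Q2Defs

variable {F : Type*} [Field F] [Finite F] {a b : F} [Fact (∀ r : F, r ^ 2 ≠ a + b * r)] {t : ℕ}
  {S M L : Subgroup (MV a b t ≃ₗ[F] MV a b t)}

/-- **Q2-T1B** [S] REFL2 + BLREFL; refl_apply twice with mB y n = 0 = mB y n'. -/
theorem T1B (hS : IsDStab (mD a b t) S) {y : MV a b t} {l l' : Fin t} (hll' : l ≠ l')
    {n n' : MV a b t} (hn : n ∈ mD a b t l) (hn' : n' ∈ mD a b t l')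
    (hQ : mQ a b t n = mQ a b t n') (hn0 : mQ a b t n ≠ 0) (hn0' : mQ a b t n' ≠ 0)
    (h1 : mB a b t y n = 0) (h2 : mB a b t y n' = 0) :
    mrefl a b t hn0 * mrefl a b t hn0' ∈ S ⊓ mOm a b t ∧
      (mrefl a b t hn0 * mrefl a b t hn0') y = y :=
  Cfsg.Agent.Lib.Helper91_Q2_T1Baux.T1B_of
    (fun hlm _ _ hx hy hQ' hx' hy' => Cfsg.Agent.Lib.Helper73_Q2_REFL2.REFL2 hlm hx hy hQ' hx' hy')
    hS hll' hn hn' hQ hn0 hn0' h1 h2

end Cfsg.Agent.Lib.Helper91_Q2_T1B
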