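import Mathlib
import Cfsg.Agent.Lib.Helper40_GLClassDefs
import Cfsg.Agent.Lib.Helper40_SLClassDefs
import Cfsg.Agent.Lib.Helper40_PSLClassDefs

/-!
# S2480 package KERSUM (architect helper40): the kernel of `a •` on a finite direct sum of cyclic
`F[X]`-modules has dimension the sum of the dimensions of the kernels on the summands.
-/

set_option autoImplicit false

namespace Cfsg.Agent.Lib.Helper91_S2480_KERSUM

open Polynomial DirectSum Cfsg.Agent.Lib.Helper40_GLClassDefs Cfsg.Agent.Lib.Helper40_SLClassDefs
  Cfsg.Agent.Lib.Helper40_PSLClassDefs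

universe u v

/-- general form: the kernel of `a •` on a finite direct sum is the product of the kernels -/
noncomputable def kerEquiv {F : Type u} [Field F] (ι : Type u) [Fintype ι] [DecidableEq ι]
    (M : ι → Type u) [∀ i, AddCommGroup (M i)] [∀ i, Module F[X] (M i)] [∀ i, Module F (M i)]
    [∀ i, SMulCommClass F[X] F (M i)] (a : F[X]) :
    LinearMap.ker (DistribSMul.toLinearMap F (⨁ i, M i) a) ≃ₗ[F]
      (∀ i, LinearMap.ker (DistribSMul.toLinearMap F (M i) a)) where
  toFun x i := ⟨(x : ⨁ i, M i) i, by
    have hx : a • (x : ⨁ i, M i) = 0 := x.2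
    rw [LinearMap.mem_ker]
    show a • ((x : ⨁ i, M i) i) = 0
    have := congrArg (fun y : ⨁ i, M i => y i) hx
    exact this⟩
  map_add' x y := by
    funext i
    apply Subtype.ext
    rfl
  map_smul' c x := by
    funext i
    apply Subtype.ext
    rfl
  invFun f := ⟨(DirectSum.linearEquivFunOnFintype F ι M).symm (fun i => (f i : M i)), by
    rw [LinearMap.mem_ker]
    show a • (DirectSum.linearEquivFunOnFintype F ι M).symm (fun i => (f i : M i)) = 0
    apply DFinsupp.ext
    intro i
    have h1 : (a • (DirectSum.linearEquivFunOnFintype F ι M).symm (fun i => (f i : M i))) i =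
        a • (((DirectSum.linearEquivFunOnFintype F ι M).symm (fun i => (f i : M i))) i) := rfl
    have h2 : ((DirectSum.linearEquivFunOnFintype F ι M).symm (fun i => (f i : M i))) i =
        (f i : M i) :=
      congrFun ((DirectSum.linearEquivFunOnFintype F ι M).apply_symm_apply
        (fun i => (f i : M i))) i
    rw [h1, h2]
    exact (f i).2⟩
  left_inv x := by
    apply Subtype.ext
    show (DirectSum.linearEquivFunOnFintype F ι M).symm (fun i => (x : ⨁ i, M i) i) = x
    exact (DirectSum.linearEquivFunOnFintype F ι M).symm_apply_apply (x : ⨁ i, M i)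
  right_inv f := by
    funext i
    apply Subtype.ext
    exact congrFun ((DirectSum.linearEquivFunOnFintype F ι M).apply_symm_apply
      (fun i => (f i : M i))) i

theorem kersum {F : Type u} [Field F] (ι : Type u) [Fintype ι] [DecidableEq ι]
    (p : ι → F[X]) (e : ι → ℕ) (hp : ∀ i, (p i).Monic) (a : F[X]) :
    Module.finrank F (LinearMap.ker
      (DistribSMul.toLinearMap F (⨁ i, F[X] ⧸ Submodule.span F[X] {p i ^ e i}) a)) =
      ∑ i, Module.finrank F (LinearMap.ker
        (DistribSMul.toLinearMap F (F[X] ⧸ Submodule.span F[X] {p i ^ e i}) a)) := by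
  have hfin : ∀ i, Module.Finite F (F[X] ⧸ Submodule.span F[X] {p i ^ e i}) :=
    fun i => ((hp i).pow (e i)).finite_quotient
  rw [LinearEquiv.finrank_eq
    (kerEquiv ι (fun i => F[X] ⧸ Submodule.span F[X] {p i ^ e i}) a),
    Module.finrank_pi_fintype]

end Cfsg.Agent.Lib.Helper91_S2480_KERSUM
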