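import Mathlib
import Cfsg.Agent.Lib.Helper66_S96Rank
import Cfsg.Agent.Lib.Helper81_UceA

set_option autoImplicit false
set_option linter.unusedVariables false
set_option linter.unusedSimpArgs false

/-!
Market `s96_packages` (architect helper66, S2097), package D_L1_SWAP: (L1) for two orthogonal roots with
disjoint supports over the field with three elements, from the Weyl element
`WD XS a (ng d) 1 * WD XS c (ng e) 1` which swaps the two root groups without signs.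
-/

namespace Cfsg.Agent.Lib.Helper66_S96

open Cfsg.Agent.Lib.Helper5_SteinbergA Cfsg.Agent.Lib.Helper66_S92 Cfsg.Agent.Lib.Helper81_UceA

theorem h91_three_eq_zero {K : Type*} [Field K] (hK : Nat.card K = 3) : (1 : K) + 1 + 1 = 0 := by
  have : Finite K := Nat.finite_of_card_ne_zero (by omega)
  let _ := Fintype.ofFinite K
  have h1 : Fintype.card K = 3 := by rw [← Nat.card_eq_fintype_card]; exact hK
  have h2 := Nat.cast_card_eq_zero K
  rw [h1] at h2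
  have : ((3 : ℕ) : K) = 1 + 1 + 1 := by norm_num
  rw [← this]; exact h2

theorem h91_cases {K : Type*} [Field K] (hK : Nat.card K = 3) (t : K) :
    t = 0 ∨ t = 1 ∨ t = -1 := by
  have : Finite K := Nat.finite_of_card_ne_zero (by omega)
  let _ := Fintype.ofFinite K
  have h1 : Fintype.card K = 3 := by rw [← Nat.card_eq_fintype_card]; exact hK
  by_cases ht : t = 0
  · left; exact ht
  · right
    have h2 := FiniteField.pow_card_sub_one_eq_one t ht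
    rw [h1] at h2
    have h3 : (t - 1) * (t + 1) = 0 := by
      have : (t - 1) * (t + 1) = t ^ (3 - 1) - 1 := by ring
      rw [this, h2, sub_self]
    rcases mul_eq_zero.mp h3 with h4 | h4
    · left; exact sub_eq_zero.mp h4
    · right; exact eq_neg_of_add_eq_zero_left h4

theorem h91_swap_conj {K : Type*} [Field K] {ι : Type*} [DecidableEq ι] {S : Type*} [Group S]
    {XS : ι ⊕ ι → ι ⊕ ι → K → S} (C : WCalcD XS)
    (a c d e : ι ⊕ ι) (h1 : c ≠ a) (h2 : c ≠ ng a) (h3 : d ≠ a) (h4 : d ≠ ng a)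
    (h5 : d ≠ c) (h6 : d ≠ ng c) (h7 : e ≠ a) (h8 : e ≠ ng a) (h9 : e ≠ c) (h10 : e ≠ ng c)
    (h11 : e ≠ d) (h12 : e ≠ ng d) (t : K) :
    (WD XS a (ng d) 1 * WD XS c (ng e) 1) * XS a c t * (WD XS a (ng d) 1 * WD XS c (ng e) 1)⁻¹
      = XS d e t ∧
    (WD XS a (ng d) 1 * WD XS c (ng e) 1) * XS d e t * (WD XS a (ng d) 1 * WD XS c (ng e) 1)⁻¹
      = XS a c t := by
  have f_ca1 : c ≠ a := h1
  have f_ca2 : a ≠ c := h1.symm
  have f_ca3 : c ≠ ng a := h2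
  have f_ca4 : ng a ≠ c := h2.symm
  have f_ca5 : ng c ≠ a := fun hh => h2 ((ng_eq_iff c a).1 hh)
  have f_ca6 : a ≠ ng c := fun hh => f_ca5 hh.symm
  have f_ca7 : ng c ≠ ng a := fun hh => h1 (ng_injective hh)
  have f_ca8 : ng a ≠ ng c := fun hh => f_ca7 hh.symm
  have f_da1 : d ≠ a := h3
  have f_da2 : a ≠ d := h3.symm
  have f_da3 : d ≠ ng a := h4
  have f_da4 : ng a ≠ d := h4.symm
  have f_da5 : ng d ≠ a := fun hh => h4 ((ng_eq_iff d a).1 hh)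
  have f_da6 : a ≠ ng d := fun hh => f_da5 hh.symm
  have f_da7 : ng d ≠ ng a := fun hh => h3 (ng_injective hh)
  have f_da8 : ng a ≠ ng d := fun hh => f_da7 hh.symm
  have f_dc1 : d ≠ c := h5
  have f_dc2 : c ≠ d := h5.symm
  have f_dc3 : d ≠ ng c := h6
  have f_dc4 : ng c ≠ d := h6.symm
  have f_dc5 : ng d ≠ c := fun hh => h6 ((ng_eq_iff d c).1 hh)
  have f_dc6 : c ≠ ng d := fun hh => f_dc5 hh.symm
  have f_dc7 : ng d ≠ ng c := fun hh => h5 (ng_injective hh)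
  have f_dc8 : ng c ≠ ng d := fun hh => f_dc7 hh.symm
  have f_ea1 : e ≠ a := h7
  have f_ea2 : a ≠ e := h7.symm
  have f_ea3 : e ≠ ng a := h8
  have f_ea4 : ng a ≠ e := h8.symm
  have f_ea5 : ng e ≠ a := fun hh => h8 ((ng_eq_iff e a).1 hh)
  have f_ea6 : a ≠ ng e := fun hh => f_ea5 hh.symm
  have f_ea7 : ng e ≠ ng a := fun hh => h7 (ng_injective hh)
  have f_ea8 : ng a ≠ ng e := fun hh => f_ea7 hh.symm
  have f_ec1 : e ≠ c := h9
  have f_ec2 : c ≠ e := h9.symm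
  have f_ec3 : e ≠ ng c := h10
  have f_ec4 : ng c ≠ e := h10.symm
  have f_ec5 : ng e ≠ c := fun hh => h10 ((ng_eq_iff e c).1 hh)
  have f_ec6 : c ≠ ng e := fun hh => f_ec5 hh.symm
  have f_ec7 : ng e ≠ ng c := fun hh => h9 (ng_injective hh)
  have f_ec8 : ng c ≠ ng e := fun hh => f_ec7 hh.symm
  have f_ed1 : e ≠ d := h11
  have f_ed2 : d ≠ e := h11.symm
  have f_ed3 : e ≠ ng d := h12
  have f_ed4 : ng d ≠ e := h12.symm
  have f_ed5 : ng e ≠ d := fun hh => h12 ((ng_eq_iff e d).1 hh)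
  have f_ed6 : d ≠ ng e := fun hh => f_ed5 hh.symm
  have f_ed7 : ng e ≠ ng d := fun hh => h11 (ng_injective hh)
  have f_ed8 : ng d ≠ ng e := fun hh => f_ed7 hh.symm
  have g1 := C.wd_conj c (ng e) f_ec5 f_ec7 1 one_ne_zero a c t
  have g2 := C.wd_conj a (ng d) f_da5 f_da7 1 one_ne_zero a e (-t)
  have g3 := C.wd_conj c (ng e) f_ec5 f_ec7 1 one_ne_zero d e t
  have g4 := C.wd_conj a (ng d) f_da5 f_da7 1 one_ne_zero d c t
  have n1 : ∀ p : ι ⊕ ι, ng p ≠ p := ng_ne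
  have n2 : ∀ p : ι ⊕ ι, p ≠ ng p := ne_ng
  simp only [sgD, muD, ng_ng, f_ca1, f_ca2, f_ca3, f_ca4, f_ca5, f_ca6, f_ca7, f_ca8, f_da1, f_da2, f_da3, f_da4, f_da5, f_da6, f_da7, f_da8, f_dc1, f_dc2, f_dc3, f_dc4, f_dc5, f_dc6, f_dc7, f_dc8, f_ea1, f_ea2, f_ea3, f_ea4, f_ea5, f_ea6, f_ea7, f_ea8, f_ec1, f_ec2, f_ec3, f_ec4, f_ec5, f_ec6, f_ec7, f_ec8, f_ed1, f_ed2, f_ed3, f_ed4, f_ed5, f_ed6, f_ed7, f_ed8, n1, n2, if_true, if_false, inv_one,
    mul_one, one_mul, neg_mul, mul_neg, neg_neg] at g1 g2 g3 g4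
  constructor
  · calc (WD XS a (ng d) 1 * WD XS c (ng e) 1) * XS a c t * (WD XS a (ng d) 1 * WD XS c (ng e) 1)⁻¹
        = WD XS a (ng d) 1 * (WD XS c (ng e) 1 * XS a c t * (WD XS c (ng e) 1)⁻¹) *
          (WD XS a (ng d) 1)⁻¹ := by group
      _ = XS d e t := by rw [g1, g2]
  · calc (WD XS a (ng d) 1 * WD XS c (ng e) 1) * XS d e t * (WD XS a (ng d) 1 * WD XS c (ng e) 1)⁻¹
        = WD XS a (ng d) 1 * (WD XS c (ng e) 1 * XS d e t * (WD XS c (ng e) 1)⁻¹) *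
          (WD XS a (ng d) 1)⁻¹ := by group
      _ = XS a c t := by rw [g3, g4]

/-- the commutator of lifts of `XS a c 1` and `XS d e 1` is trivial -/
theorem h91_comm_one {K : Type*} [Field K] (hK : Nat.card K = 3) {ι : Type*} [DecidableEq ι]
    {E S : Type*} [Group E] [Group S] {π : E →* S} (hπ : CExt π)
    {XS : ι ⊕ ι → ι ⊕ ι → K → S} (h : DStAB XS) (C : WCalcD XS)
    (a c d e : ι ⊕ ι) (h1 : c ≠ a) (h2 : c ≠ ng a) (h3 : d ≠ a) (h4 : d ≠ ng a)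
    (h5 : d ≠ c) (h6 : d ≠ ng c) (h7 : e ≠ a) (h8 : e ≠ ng a) (h9 : e ≠ c) (h10 : e ≠ ng c)
    (h11 : e ≠ d) (h12 : e ≠ ng d)
    (x1 y1 : E) (hx1 : π x1 = XS a c 1) (hy1 : π y1 = XS d e 1) : x1 * y1 = y1 * x1 := by
  obtain ⟨hn1, hn2⟩ := h91_swap_conj C a c d e h1 h2 h3 h4 h5 h6 h7 h8 h9 h10 h11 h12 1
  obtain ⟨m, hm⟩ := hπ.surj (WD XS a (ng d) 1 * WD XS c (ng e) 1)
  have hcomS : XS a c 1 * XS d e 1 = XS d e 1 * XS a c 1 := h.comm a c d e 1 1 h4 h6 h8 h10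
  obtain ⟨κ, hκ⟩ : ∃ κ : E, κ = x1 * y1 * x1⁻¹ * y1⁻¹ := ⟨_, rfl⟩
  have hκ1 : π κ = 1 := by
    rw [hκ, map_mul, map_mul, map_mul, map_inv, map_inv, hx1, hy1, hcomS]
    group
  have hκc : ∀ g, κ * g = g * κ := fun g => hπ.comm_of_ker hκ1 g
  -- (i) `κ = κ⁻¹`
  have e1 : π (m * x1 * m⁻¹) = π y1 := by
    rw [map_mul, map_mul, map_inv, hm, hx1, hy1]; exact hn1
  have e2 : π (m * y1 * m⁻¹) = π x1 := by
    rw [map_mul, map_mul, map_inv, hm, hx1, hy1]; exact hn2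
  have e3 := hπ.commutator_eq e1 e2
  have e4 : m * x1 * m⁻¹ * (m * y1 * m⁻¹) * (m * x1 * m⁻¹)⁻¹ * (m * y1 * m⁻¹)⁻¹ = m * κ * m⁻¹ := by
    rw [hκ]; group
  have e5 : m * κ * m⁻¹ = κ := by
    rw [← hκc m]; group
  have e6 : y1 * x1 * y1⁻¹ * x1⁻¹ = κ⁻¹ := by rw [hκ]; group
  have hsq : κ = κ⁻¹ := by rw [← e6, ← e3, e4, e5]
  have hsq' : κ * κ = 1 := by
    nth_rewrite 2 [hsq]; exact mul_inv_cancel κ
  -- (ii) `κ ^ 3 = 1`
  have hx3 : π (x1 * x1 * x1) = 1 := by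
    rw [map_mul, map_mul, hx1, h.add, h.add, h91_three_eq_zero hK, h.X_zero]
  have hc3 := hπ.comm_of_ker hx3 y1
  have hxy : x1 * y1 = κ * y1 * x1 := by rw [hκ]; group
  have hk3 : x1 * x1 * x1 * y1 = κ * κ * κ * (y1 * (x1 * x1 * x1)) := by
    calc x1 * x1 * x1 * y1 = x1 * x1 * (x1 * y1) := by group
      _ = x1 * x1 * (κ * y1 * x1) := by rw [hxy]
      _ = x1 * (x1 * κ) * y1 * x1 := by group
      _ = x1 * (κ * x1) * y1 * x1 := by rw [hκc x1]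
      _ = (x1 * κ) * (x1 * y1) * x1 := by group
      _ = (κ * x1) * (κ * y1 * x1) * x1 := by rw [hκc x1, hxy]
      _ = κ * (x1 * κ) * y1 * x1 * x1 := by group
      _ = κ * (κ * x1) * y1 * x1 * x1 := by rw [hκc x1]
      _ = κ * κ * (x1 * y1) * x1 * x1 := by group
      _ = κ * κ * (κ * y1 * x1) * x1 * x1 := by rw [hxy]
      _ = κ * κ * κ * (y1 * (x1 * x1 * x1)) := by group
  rw [hc3] at hk3
  have hk3' : κ * κ * κ = 1 := by
    have := mul_eq_right.mp hk3.symm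
    exact this
  have hκe : κ = 1 := by
    rw [hsq', one_mul] at hk3'
    exact hk3'
  rw [hxy, hκe, one_mul]

theorem h91_lift_form {K : Type*} [Field K] (hK : Nat.card K = 3) {ι : Type*}
    {E S : Type*} [Group E] [Group S] {π : E →* S} (hπ : CExt π)
    {XS : ι ⊕ ι → ι ⊕ ι → K → S} (h : DStAB XS) (a c : ι ⊕ ι)
    (x1 : E) (hx1 : π x1 = XS a c 1) (x : E) (t : K) (hx : π x = XS a c t) :
    ∃ x0 z : E, (x0 = 1 ∨ x0 = x1 ∨ x0 = x1⁻¹) ∧ π z = 1 ∧ x = x0 * z := by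
  rcases h91_cases hK t with rfl | rfl | rfl
  · refine ⟨1, x, Or.inl rfl, ?_, (one_mul x).symm⟩
    rw [hx, h.X_zero]
  · obtain ⟨z, hz, hxz⟩ := hπ.exists_mul_of_eq (a := x1) (a' := x) (by rw [hx, hx1])
    exact ⟨x1, z, Or.inr (Or.inl rfl), hz, hxz⟩
  · obtain ⟨z, hz, hxz⟩ := hπ.exists_mul_of_eq (a := x1⁻¹) (a' := x)
      (by rw [hx, map_inv, hx1, h.X_inv])
    exact ⟨x1⁻¹, z, Or.inr (Or.inr rfl), hz, hxz⟩

/-! ## D_L1_SWAP : (L1) for disjoint supports from the Weyl element swapping the two roots, `|K| = 3` -/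

theorem lift_comm_of_three {K : Type*} [Field K] (hK : Nat.card K = 3) {ι : Type*} [DecidableEq ι]
    {E S : Type*} [Group E] [Group S] {π : E →* S} (hπ : CExt π)
    {XS : ι ⊕ ι → ι ⊕ ι → K → S} (h : DStAB XS) (C : WCalcD XS)
    (a c d e : ι ⊕ ι) (h1 : c ≠ a) (h2 : c ≠ ng a) (h3 : d ≠ a) (h4 : d ≠ ng a)
    (h5 : d ≠ c) (h6 : d ≠ ng c) (h7 : e ≠ a) (h8 : e ≠ ng a) (h9 : e ≠ c) (h10 : e ≠ ng c)
    (h11 : e ≠ d) (h12 : e ≠ ng d)
    (x y : E) (t u : K) (hx : π x = XS a c t) (hy : π y = XS d e u) : x * y = y * x := by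
  obtain ⟨x1, hx1⟩ := hπ.surj (XS a c 1)
  obtain ⟨y1, hy1⟩ := hπ.surj (XS d e 1)
  have hc1 : Commute x1 y1 :=
    h91_comm_one hK hπ h C a c d e h1 h2 h3 h4 h5 h6 h7 h8 h9 h10 h11 h12 x1 y1 hx1 hy1
  obtain ⟨x0, z, hx0, hz, rfl⟩ := h91_lift_form hK hπ h a c x1 hx1 x t hx
  obtain ⟨y0, w, hy0, hw, rfl⟩ := h91_lift_form hK hπ h d e y1 hy1 y u hy
  have hc0 : Commute x0 y0 := by
    rcases hx0 with rfl | rfl | rfl <;> rcases hy0 with rfl | rfl | rfl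
    · exact Commute.one_left _
    · exact Commute.one_left _
    · exact Commute.one_left _
    · exact Commute.one_right _
    · exact hc1
    · exact hc1.inv_right
    · exact Commute.one_right _
    · exact hc1.inv_left
    · exact hc1.inv_inv
  exact Commute.mul_left (Commute.mul_right hc0 (hπ.commute_of_ker hw x0).symm)
    (hπ.commute_of_ker hz (y0 * w))

end Cfsg.Agent.Lib.Helper66_S96
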