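import Mathlib
import Cfsg.Agent.Lib.Helper97_SpTensBasic

set_option autoImplicit false
set_option linter.unusedSectionVars false
set_option linter.unusedVariables false

/-!
# SP3 package DIM2 (architect helper97): for `m = 1` a 3-dimensional subspace of `V` meets the fixed space of
`1 ⊗ r_y` non-trivially.
-/

namespace Cfsg.Agent.Lib.Helper91_SP3_DIM2

open Matrix Module
open Cfsg.Agent.Lib.Helper98_ExtDefs Cfsg.Agent.Lib.Helper97_TensDefs
  Cfsg.Agent.Lib.Helper97_SpTensDefs Cfsg.Agent.Lib.Helper97_SpTensBasic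

variable {F : Type*} [Field F] [Fintype F] {m : ℕ}

local notation "V" => Matrix (Fin m ⊕ Fin m) (Fin 3) F

/-- the action of `1 ⊗ r_y` -/
theorem mul_refl_transpose (X : V) (y : Fin 3 → F) :
    X * (refl y)ᵀ = X - (2 / be y y) • vecMulVec (X *ᵥ (S0 F *ᵥ y)) y := by
  unfold Cfsg.Agent.Lib.Helper97_SpTensDefs.refl
  rw [transpose_sub, transpose_one, transpose_smul, transpose_vecMulVec, Matrix.mul_sub,
    Matrix.mul_one, Matrix.mul_smul, mul_vecMulVec]

/-- contraction with a fixed vector of `B`, as a linear map `V → A` -/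
def mulVecL (w : Fin 3 → F) : V →ₗ[F] (Fin m ⊕ Fin m → F) where
  toFun X := X *ᵥ w
  map_add' X Y := add_mulVec X Y w
  map_smul' c X := by rw [smul_mulVec, RingHom.id_apply]

theorem exists_fixed_of_refl (h2 : (2 : F) ≠ 0) (hm : m = 1) (L : Submodule F V)
    (hL : finrank F ↥L = 3) (y : Fin 3 → F) (hy : be y y ≠ 0) :
    ∃ X ∈ L, X ≠ 0 ∧ X * (refl y)ᵀ = X := by
  subst hm
  set φ : Matrix (Fin 1 ⊕ Fin 1) (Fin 3) F →ₗ[F] (Fin 1 ⊕ Fin 1 → F) := mulVecL (S0 F *ᵥ y) with hφ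
  have hV : finrank F (Matrix (Fin 1 ⊕ Fin 1) (Fin 3) F) = 6 := by
    rw [Module.finrank_matrix]
    simp
  have hA : finrank F (Fin 1 ⊕ Fin 1 → F) = 2 := by
    rw [Module.finrank_fintype_fun_eq_card]
    simp
  have hrk := LinearMap.finrank_range_add_finrank_ker φ
  have hr : finrank F ↥(LinearMap.range φ) ≤ 2 := by
    rw [← hA]
    exact Submodule.finrank_le _
  have hk : 4 ≤ finrank F ↥(LinearMap.ker φ) := by
    rw [hV] at hrk
    omega
  have hsup := Submodule.finrank_sup_add_finrank_inf_eq L (LinearMap.ker φ)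
  have hle : finrank F ↥(L ⊔ LinearMap.ker φ) ≤ 6 := by
    rw [← hV]
    exact Submodule.finrank_le _
  have hpos : 1 ≤ finrank F ↥(L ⊓ LinearMap.ker φ) := by
    rw [hL] at hsup
    omega
  have hne : L ⊓ LinearMap.ker φ ≠ ⊥ := by
    intro h0
    rw [h0, finrank_bot] at hpos
    omega
  obtain ⟨X, hX, hX0⟩ := Submodule.exists_mem_ne_zero_of_ne_bot hne
  refine ⟨X, hX.1, hX0, ?_⟩
  have hker : X *ᵥ (S0 F *ᵥ y) = 0 := LinearMap.mem_ker.mp hX.2
  rw [mul_refl_transpose, hker]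
  have : vecMulVec (0 : Fin 1 ⊕ Fin 1 → F) y = 0 := by
    ext i k
    simp [vecMulVec_apply]
  rw [this, smul_zero, sub_zero]

end Cfsg.Agent.Lib.Helper91_SP3_DIM2
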