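import Mathlib
import Cfsg.Agent.Lib.Helper97_SpTensBasic

set_option autoImplicit false
set_option linter.unusedSectionVars false
set_option linter.unusedVariables false

/-!
# SP3 package PGEOM (architect helper97): geometry of two members of the orbit meeting maximally.
-/

namespace Cfsg.Agent.Lib.Helper91_SP3_PGEOM

open Matrix Module
open Cfsg.Agent.Lib.Helper98_ExtDefs Cfsg.Agent.Lib.Helper97_TensDefs
  Cfsg.Agent.Lib.Helper97_SpTensDefs Cfsg.Agent.Lib.Helper97_SpTensBasic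

variable {F : Type*} [Field F] [Fintype F] {m : ℕ}

local notation "V" => Matrix (Fin m ⊕ Fin m) (Fin 3) F

/-- `E = g N_x g⁻¹` vanishes on `g l_x` -/
theorem cN_eq_zero_of_mem (g : V ≃ₗ[F] V) (x : Fin m ⊕ Fin m → F) {X : V}
    (hX : X ∈ (bfib x).map g.toLinearMap) : cN m g x X = 0 := by
  obtain ⟨Y, hY, rfl⟩ := hX
  rw [cN_apply]
  have h1 : g.symm (g.toLinearMap Y) = Y := g.symm_apply_apply Y
  rw [h1, nA_eq_zero_of_ctr (ctr_eq_zero_of_mem_bfib hY), map_zero]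

/-- the root element `1 + g N_x g⁻¹` of `M` -/
theorem exists_root_conj {M : Subgroup (V ≃ₗ[F] V)} (hK : KronSp m M) {g : V ≃ₗ[F] V}
    (hg : g ∈ M) (x : Fin m ⊕ Fin m → F) :
    ∃ r ∈ M, ∀ X : V, r X = X + cN m g x X := by
  obtain ⟨k, hk, hkx⟩ := hasMap_root hK x 1
  have hkx' : ∀ Y : V, k Y = Y + nA m x Y := by
    intro Y
    have e : k Y = Y + (1 : F) • nA m x Y := hkx Y
    rw [e, one_smul]
  refine ⟨g * k * g⁻¹, M.mul_mem (M.mul_mem hg hk) (M.inv_mem hg), fun X => ?_⟩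
  show g (k (g⁻¹ X)) = X + cN m g x X
  have h1 : g⁻¹ X = g.symm X := rfl
  rw [hkx', map_add, h1, g.apply_symm_apply, cN_apply]

/-- one half of `pair_geom` -/
theorem pair_geom_half (M : Subgroup (V ≃ₗ[F] V)) (hK : KronSp m M)
    (hfpf : FPF m M) (g₁ g₂ : V ≃ₗ[F] V) (hg₁ : g₁ ∈ M) (hg₂ : g₂ ∈ M)
    (x₁ x₂ : Fin m ⊕ Fin m → F) (hx₁ : x₁ ≠ 0) (hx₂ : x₂ ≠ 0)
    (hne : (bfib x₁).map g₁.toLinearMap ≠ (bfib x₂).map g₂.toLinearMap)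
    (hmeet : (bfib x₁).map g₁.toLinearMap ⊓ (bfib x₂).map g₂.toLinearMap ≠ ⊥)
    (hmax : ∀ t ∈ BOrb M, ∀ t' ∈ BOrb M, t ≠ t' →
      finrank F ↥(t ⊓ t') ≤ finrank F ↥((bfib x₁).map g₁.toLinearMap ⊓ (bfib x₂).map g₂.toLinearMap)) :
    ∀ X ∈ (bfib x₂).map g₂.toLinearMap, cN m g₁ x₁ X ∈ (bfib x₂).map g₂.toLinearMap →
      X ∈ (bfib x₁).map g₁.toLinearMap := by
  set t₁ := (bfib x₁).map g₁.toLinearMap with ht₁
  set t₂ := (bfib x₂).map g₂.toLinearMap with ht₂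
  obtain ⟨r, hrM, hr⟩ := exists_root_conj hK hg₁ x₁
  -- `r t₂` is in the orbit
  have hrt₂ : t₂.map r.toLinearMap ∈ BOrb M := by
    rw [ht₂, ← map_mul_bfib]
    exact map_mem_BOrb (M.mul_mem hrM hg₂) hx₂
  have ht₂orb : t₂ ∈ BOrb M := map_mem_BOrb hg₂ hx₂
  -- `r t₂ ≠ t₂`
  have hrne : t₂ ≠ t₂.map r.toLinearMap := by
    intro heq
    have hstab : ∀ X ∈ t₂, X + (1 : F) • cN m g₁ x₁ X ∈ t₂ := by
      intro X hX
      rw [one_smul, ← hr X, heq]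
      exact ⟨X, hX, rfl⟩
    obtain ⟨x', hx', hx'eq⟩ := hfpf g₁ hg₁ g₂ hg₂ x₁ x₂ hx₁ hx₂ 1 one_ne_zero hstab
    have hbne : bfib x₁ ≠ bfib x' := by
      intro hb
      apply hne
      rw [ht₁, ht₂, hx'eq, hb]
    have hbot := bfib_inf_bfib hx₁ hbne
    apply hmeet
    rw [ht₁, ht₂, hx'eq, ← Submodule.map_inf _ g₁.injective, hbot, Submodule.map_bot]
  have hle1 := hmax t₂ ht₂orb _ hrt₂ hrne
  -- the subspace `K`
  set K : Submodule F V := t₂ ⊓ t₂.comap (cN m g₁ x₁) with hK'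
  have hinfK : t₁ ⊓ t₂ ≤ K := by
    rintro X ⟨hX1, hX2⟩
    refine ⟨hX2, ?_⟩
    show cN m g₁ x₁ X ∈ t₂
    rw [cN_eq_zero_of_mem g₁ x₁ hX1]
    exact t₂.zero_mem
  have hrK : K.map r.toLinearMap ≤ t₂ ⊓ t₂.map r.toLinearMap := by
    rintro _ ⟨X, ⟨hX2, hXE⟩, rfl⟩
    refine ⟨?_, ⟨X, hX2, rfl⟩⟩
    show r X ∈ t₂
    rw [hr X]
    exact t₂.add_mem hX2 hXE
  have hfinK : finrank F ↥(K.map r.toLinearMap) = finrank F ↥K :=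
    LinearEquiv.finrank_map_eq r K
  have hle2 : finrank F ↥K ≤ finrank F ↥(t₁ ⊓ t₂) := by
    rw [← hfinK]
    exact (Submodule.finrank_mono hrK).trans hle1
  have hKeq : t₁ ⊓ t₂ = K := Submodule.eq_of_le_of_finrank_le hinfK hle2
  intro X hX2 hXE
  have hXK : X ∈ K := ⟨hX2, hXE⟩
  rw [← hKeq] at hXK
  exact hXK.1

theorem pair_geom (h2 : (2 : F) ≠ 0) (M : Subgroup (V ≃ₗ[F] V)) (hSp : MSp m M) (hK : KronSp m M)
    (hfpf : FPF m M) (g₁ g₂ : V ≃ₗ[F] V) (hg₁ : g₁ ∈ M) (hg₂ : g₂ ∈ M)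
    (x₁ x₂ : Fin m ⊕ Fin m → F) (hx₁ : x₁ ≠ 0) (hx₂ : x₂ ≠ 0)
    (hne : (bfib x₁).map g₁.toLinearMap ≠ (bfib x₂).map g₂.toLinearMap)
    (hmeet : (bfib x₁).map g₁.toLinearMap ⊓ (bfib x₂).map g₂.toLinearMap ≠ ⊥)
    (hmax : ∀ t ∈ BOrb M, ∀ t' ∈ BOrb M, t ≠ t' →
      finrank F ↥(t ⊓ t') ≤ finrank F ↥((bfib x₁).map g₁.toLinearMap ⊓ (bfib x₂).map g₂.toLinearMap)) :
    (∀ X ∈ (bfib x₂).map g₂.toLinearMap, cN m g₁ x₁ X ∈ (bfib x₂).map g₂.toLinearMap →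
      X ∈ (bfib x₁).map g₁.toLinearMap) ∧
    (∀ X ∈ (bfib x₁).map g₁.toLinearMap, cN m g₂ x₂ X ∈ (bfib x₁).map g₁.toLinearMap →
      X ∈ (bfib x₂).map g₂.toLinearMap) := by
  refine ⟨pair_geom_half M hK hfpf g₁ g₂ hg₁ hg₂ x₁ x₂ hx₁ hx₂ hne hmeet hmax,
    pair_geom_half M hK hfpf g₂ g₁ hg₂ hg₁ x₂ x₁ hx₂ hx₁ hne.symm ?_ ?_⟩
  · rw [inf_comm]; exact hmeet
  · rw [inf_comm]; exact hmax

end Cfsg.Agent.Lib.Helper91_SP3_PGEOM
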