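import Mathlib
import Cfsg.Agent.Lib.Helper97_SpTensBasic

set_option autoImplicit false
set_option linter.unusedSectionVars false
set_option linter.unusedVariables false

/-!
# SP3 package USUB (architect helper97): the operators `T` with `1 + zT x T ∈ M` form a subspace,
stable under `O(B)`-conjugation, containing `1`.
-/

namespace Cfsg.Agent.Lib.Helper91_SP3_USUB

open Matrix Module
open Cfsg.Agent.Lib.Helper98_ExtDefs Cfsg.Agent.Lib.Helper97_TensDefs
  Cfsg.Agent.Lib.Helper97_SpTensDefs Cfsg.Agent.Lib.Helper97_SpTensBasic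
  Cfsg.Agent.Lib.Helper13_Symp Cfsg.Agent.Lib.Helper13_SympTrans

variable {F : Type*} [Field F] [Fintype F] {m : ℕ}

local notation "V" => Matrix (Fin m ⊕ Fin m) (Fin 3) F

/-- every element of a finite field is a sum of two squares -/
theorem exists_sq_add_sq (a : F) : ∃ s t : F, a = s * s + t * t := by
  classical
  rcases Nat.mod_two_eq_zero_or_one (Fintype.card F) with h | h
  · have h2 : ringChar F = 2 := FiniteField.even_card_iff_char_two.mpr h
    obtain ⟨s, hs⟩ := FiniteField.isSquare_of_char_two h2 a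
    exact ⟨s, 0, by rw [hs]; ring⟩
  · let f : Polynomial F := Polynomial.X ^ 2
    let g : Polynomial F := Polynomial.X ^ 2 - Polynomial.C a
    obtain ⟨s, t, hst⟩ : ∃ s t, f.eval s + g.eval t = 0 :=
      FiniteField.exists_root_sum_quadratic (Polynomial.degree_X_pow 2)
        (Polynomial.degree_X_pow_sub_C (by decide) _) h
    refine ⟨s, t, ?_⟩
    simp only [f, g, Polynomial.eval_C, Polynomial.eval_X, Polynomial.eval_pow,
      Polynomial.eval_sub] at hst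
    linear_combination -hst

theorem vecMulVec_zero_right (x : Fin m ⊕ Fin m → F) : vecMulVec x (0 : Fin 3 → F) = 0 := by
  ext i k
  simp [vecMulVec_apply]

theorem zT_zT (x : Fin m ⊕ Fin m → F) (T T' : Matrix (Fin 3) (Fin 3) F) (X : V) :
    zT m x T (zT m x T' X) = 0 := by
  rw [zT_apply, zT_apply, ctr_self, mulVec_zero, vecMulVec_zero_right]

theorem zT_add_apply (x : Fin m ⊕ Fin m → F) (T T' : Matrix (Fin 3) (Fin 3) F) (X : V) :
    zT m x (T + T') X = zT m x T X + zT m x T' X := by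
  rw [zT_apply, zT_apply, zT_apply, add_mulVec, vecMulVec_add]

theorem zT_zero_apply (x : Fin m ⊕ Fin m → F) (X : V) :
    zT m x (0 : Matrix (Fin 3) (Fin 3) F) X = 0 := by
  rw [zT_apply, zero_mulVec, vecMulVec_zero_right]

theorem colv_mul (P : Matrix (Fin m ⊕ Fin m) (Fin m ⊕ Fin m) F) (Y : V) (k : Fin 3) :
    colv (P * Y) k = P *ᵥ colv Y k := by
  funext i
  simp [colv, Matrix.mul_apply, mulVec, dotProduct]

theorem S0_transpose : (S0 F)ᵀ = S0 F := by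
  ext i j
  fin_cases i <;> fin_cases j <;> simp [S0]

theorem S0_mul_S0 : S0 F * S0 F = 1 := by
  ext i j
  fin_cases i <;> fin_cases j <;> simp [S0, Matrix.mul_apply, Fin.sum_univ_three]

/-- the predicate `1 + zT x T ∈ M` -/
def HM (M : Subgroup (V ≃ₗ[F] V)) (x : Fin m ⊕ Fin m → F) (T : Matrix (Fin 3) (Fin 3) F) : Prop :=
  HasMap M (fun X => X + zT m x T X)

theorem HM_zero (M : Subgroup (V ≃ₗ[F] V)) (x : Fin m ⊕ Fin m → F) : HM M x 0 :=
  ⟨1, M.one_mem, fun X => by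
    show X = X + zT m x 0 X
    rw [zT_zero_apply, add_zero]⟩

theorem HM_add {M : Subgroup (V ≃ₗ[F] V)} {x : Fin m ⊕ Fin m → F}
    {T T' : Matrix (Fin 3) (Fin 3) F} (h : HM M x T) (h' : HM M x T') : HM M x (T + T') := by
  obtain ⟨g, hg, hgx⟩ := h
  obtain ⟨g', hg', hgx'⟩ := h'
  refine ⟨g * g', M.mul_mem hg hg', fun X => ?_⟩
  have e1 : g' X = X + zT m x T' X := hgx' X
  have e2 : g (X + zT m x T' X) = (X + zT m x T' X) + zT m x T (X + zT m x T' X) := hgx _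
  show g (g' X) = X + zT m x (T + T') X
  rw [e1, e2, map_add, zT_zT, zT_add_apply]
  abel

/-- conjugation by `P ⊗ 1`, `P x = λ x` -/
theorem HM_sq_smul {M : Subgroup (V ≃ₗ[F] V)} (hK : KronSp m M) {x : Fin m ⊕ Fin m → F}
    (hx : x ≠ 0) {T : Matrix (Fin 3) (Fin 3) F} (h : HM M x T) {lam : F} (hlam : lam ≠ 0) :
    HM M x ((lam * lam) • T) := by
  obtain ⟨h0, hh0, hhx⟩ := h
  have hhx' : ∀ Y : V, h0 Y = Y + zT m x T Y := hhx
  obtain ⟨A, -, hA⟩ := exists_transv_map m x (lam • x) hx (smul_ne_zero hlam hx)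
  have hQ : (1 : Matrix (Fin 3) (Fin 3) F)ᵀ * S0 F * 1 = S0 F := by
    rw [transpose_one, Matrix.one_mul, Matrix.mul_one]
  obtain ⟨g, hg, hgx⟩ := hK (A : Matrix (Fin m ⊕ Fin m) (Fin m ⊕ Fin m) F) 1 A.2 hQ
  have hgx' : ∀ Y : V, g Y = (A : Matrix (Fin m ⊕ Fin m) (Fin m ⊕ Fin m) F) * Y := by
    intro Y
    have e : g Y = (A : Matrix (Fin m ⊕ Fin m) (Fin m ⊕ Fin m) F) * Y *
        (1 : Matrix (Fin 3) (Fin 3) F)ᵀ := hgx Y
    rw [e, transpose_one, Matrix.mul_one]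
  refine ⟨g * h0 * g⁻¹, M.mul_mem (M.mul_mem hg hh0) (M.inv_mem hg), fun X => ?_⟩
  set Y : V := g⁻¹ X with hY
  have hgY : g Y = X := by
    rw [hY, ← LinearEquiv.mul_apply, mul_inv_cancel]
    rfl
  have hPY : (A : Matrix (Fin m ⊕ Fin m) (Fin m ⊕ Fin m) F) * Y = X := by rw [← hgx', hgY]
  have hctr : ctr m x Y = lam • ctr m x X := by
    funext k
    rw [ctr_apply, Pi.smul_apply, ctr_apply, smul_eq_mul, ← hPY, colv_mul,
      ← sympForm_smul_right, ← hA, sympForm_mulVec_mulVec_of_mem m A.2]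
  show g (h0 (g⁻¹ X)) = X + zT m x ((lam * lam) • T) X
  rw [← hY, hhx', map_add, hgY, hgx', zT_apply, zT_apply, mul_vecMulVec, hA, hctr, mulVec_smul,
    smul_vecMulVec, vecMulVec_smul, smul_smul, smul_mulVec, vecMulVec_smul]

theorem HM_smul {M : Subgroup (V ≃ₗ[F] V)} (hK : KronSp m M) {x : Fin m ⊕ Fin m → F}
    (hx : x ≠ 0) {T : Matrix (Fin 3) (Fin 3) F} (h : HM M x T) (c : F) : HM M x (c • T) := by
  obtain ⟨s, t, hst⟩ := exists_sq_add_sq c
  have hs : HM M x ((s * s) • T) := by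
    by_cases hs0 : s = 0
    · rw [hs0, mul_zero, zero_smul]; exact HM_zero M x
    · exact HM_sq_smul hK hx h hs0
  have ht : HM M x ((t * t) • T) := by
    by_cases ht0 : t = 0
    · rw [ht0, mul_zero, zero_smul]; exact HM_zero M x
    · exact HM_sq_smul hK hx h ht0
  rw [hst, add_smul]
  exact HM_add hs ht

theorem HM_one {M : Subgroup (V ≃ₗ[F] V)} (hK : KronSp m M) (x : Fin m ⊕ Fin m → F) :
    HM M x 1 := by
  obtain ⟨g, hg, hgx⟩ := hasMap_root hK x 1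
  refine ⟨g, hg, fun X => ?_⟩
  have e : g X = X + (1 : F) • nA m x X := hgx X
  show g X = X + zT m x 1 X
  rw [e, one_smul, zT_one]

/-- conjugation by `1 ⊗ Q` -/
theorem HM_conj {M : Subgroup (V ≃ₗ[F] V)} (hK : KronSp m M) {x : Fin m ⊕ Fin m → F}
    {T : Matrix (Fin 3) (Fin 3) F} (h : HM M x T) {Q : Matrix (Fin 3) (Fin 3) F}
    (hQ : Qᵀ * S0 F * Q = S0 F) : HM M x (Q * T * (S0 F * Qᵀ * S0 F)) := by
  obtain ⟨h0, hh0, hhx⟩ := h
  have hhx' : ∀ Y : V, h0 Y = Y + zT m x T Y := hhx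
  have h1 : (1 : Matrix (Fin m ⊕ Fin m) (Fin m ⊕ Fin m) F) ∈ Matrix.symplecticGroup (Fin m) F :=
    (Matrix.symplecticGroup (Fin m) F).one_mem
  obtain ⟨g, hg, hgx⟩ := hK 1 Q h1 hQ
  have hgx' : ∀ Y : V, g Y = Y * Qᵀ := by
    intro Y
    have e : g Y = (1 : Matrix (Fin m ⊕ Fin m) (Fin m ⊕ Fin m) F) * Y * Qᵀ := hgx Y
    rw [e, Matrix.one_mul]
  refine ⟨g * h0 * g⁻¹, M.mul_mem (M.mul_mem hg hh0) (M.inv_mem hg), fun X => ?_⟩
  set Y : V := g⁻¹ X with hY
  have hgY : g Y = X := by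
    rw [hY, ← LinearEquiv.mul_apply, mul_inv_cancel]
    rfl
  have hYQ : Y * Qᵀ = X := by rw [← hgx', hgY]
  have hinv : S0 F * Qᵀ * S0 F * Q = 1 := by
    rw [Matrix.mul_assoc (S0 F * Qᵀ), Matrix.mul_assoc (S0 F), ← Matrix.mul_assoc Qᵀ, hQ, S0_mul_S0]
  have hctrX : ctr m x X = Q *ᵥ ctr m x Y := by
    funext k
    have hc := colv_kron (1 : Matrix (Fin m ⊕ Fin m) (Fin m ⊕ Fin m) F) Q Y k
    rw [Matrix.one_mul, hYQ, Matrix.one_mulVec] at hc
    rw [ctr_apply, hc]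
    simp only [sympForm_add_left, sympForm_smul_left, Matrix.mulVec, dotProduct,
      Fin.sum_univ_three, ctr_apply]
  have hctr : ctr m x Y = (S0 F * Qᵀ * S0 F) *ᵥ ctr m x X := by
    rw [hctrX, Matrix.mulVec_mulVec, hinv, Matrix.one_mulVec]
  show g (h0 (g⁻¹ X)) = X + zT m x (Q * T * (S0 F * Qᵀ * S0 F)) X
  rw [← hY, hhx', map_add, hgY, hgx', zT_apply, zT_apply, vecMulVec_mul, vecMul_transpose, hctr,
    Matrix.mulVec_mulVec, Matrix.mulVec_mulVec, Matrix.mul_assoc]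

theorem zset_submodule (h2 : (2 : F) ≠ 0) (M : Subgroup (V ≃ₗ[F] V)) (hK : KronSp m M)
    (x : Fin m ⊕ Fin m → F) (hx : x ≠ 0) :
    ∃ U : Submodule F (Matrix (Fin 3) (Fin 3) F),
      (∀ T, T ∈ U ↔ ((S0 F * T)ᵀ = S0 F * T ∧ HasMap M (fun X => X + zT m x T X))) ∧
      (1 : Matrix (Fin 3) (Fin 3) F) ∈ U ∧
      (∀ Q : Matrix (Fin 3) (Fin 3) F, Qᵀ * S0 F * Q = S0 F → ∀ T ∈ U,
        Q * T * (S0 F * Qᵀ * S0 F) ∈ U) := by
  let U : Submodule F (Matrix (Fin 3) (Fin 3) F) :=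
    { carrier := {T | (S0 F * T)ᵀ = S0 F * T ∧ HM M x T}
      add_mem' := by
        rintro T T' ⟨hs, hm⟩ ⟨hs', hm'⟩
        refine ⟨?_, HM_add hm hm'⟩
        rw [Matrix.mul_add, transpose_add, hs, hs']
      zero_mem' := by
        refine ⟨?_, HM_zero M x⟩
        rw [Matrix.mul_zero, transpose_zero]
      smul_mem' := by
        rintro c T ⟨hs, hm⟩
        refine ⟨?_, HM_smul hK hx hm c⟩
        rw [Matrix.mul_smul, transpose_smul, hs] }
  refine ⟨U, fun T => Iff.rfl, ?_, ?_⟩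
  · refine ⟨?_, HM_one hK x⟩
    rw [Matrix.mul_one, S0_transpose]
  · rintro Q hQ T ⟨hs, hm⟩
    refine ⟨?_, HM_conj hK hm hQ⟩
    have hTt : Tᵀ = S0 F * T * S0 F := by
      have e1 : Tᵀ * S0 F = S0 F * T := by
        rw [← hs, transpose_mul, S0_transpose]
      calc Tᵀ = Tᵀ * (S0 F * S0 F) := by rw [S0_mul_S0, Matrix.mul_one]
        _ = Tᵀ * S0 F * S0 F := by rw [Matrix.mul_assoc]
        _ = S0 F * T * S0 F := by rw [e1]
    simp only [transpose_mul, transpose_transpose, S0_transpose, hTt, Matrix.mul_assoc]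
    rw [← Matrix.mul_assoc (S0 F) (S0 F), S0_mul_S0, Matrix.one_mul]

end Cfsg.Agent.Lib.Helper91_SP3_USUB
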