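import Mathlib
import Cfsg.Agent.Lib.Helper97_SpTensBasic

set_option autoImplicit false
set_option linter.unusedSectionVars false
set_option linter.unusedVariables false

/-!
# SP3 package ZFORM (architect helper97): shape of the elements of `Z(l_x)`.
-/

namespace Cfsg.Agent.Lib.Helper91_SP3_ZFORM

open Matrix Module
open Cfsg.Agent.Lib.Helper98_ExtDefs Cfsg.Agent.Lib.Helper97_TensDefs
  Cfsg.Agent.Lib.Helper97_SpTensDefs Cfsg.Agent.Lib.Helper97_SpTensBasic
  Cfsg.Agent.Lib.Helper13_Symp Cfsg.Agent.Lib.Helper13_SympTrans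

variable {F : Type*} [Field F] [Fintype F] {m : ℕ}

local notation "V" => Matrix (Fin m ⊕ Fin m) (Fin 3) F

/-- `b ↦ x' ⊗ b` as a linear map -/
def vmvL (x' : Fin m ⊕ Fin m → F) : (Fin 3 → F) →ₗ[F] V where
  toFun b := vecMulVec x' b
  map_add' b b' := vecMulVec_add x' b b'
  map_smul' c b := by rw [vecMulVec_smul, RingHom.id_apply]

/-- the `i`-th row, as a linear map -/
def rowL (i : Fin m ⊕ Fin m) : V →ₗ[F] (Fin 3 → F) where
  toFun X := X i
  map_add' X Y := rfl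
  map_smul' c X := rfl

/-- a partner `x'` with `sympForm x' x = 1` -/
theorem exists_partner {x : Fin m ⊕ Fin m → F} (hx : x ≠ 0) :
    ∃ x' : Fin m ⊕ Fin m → F, Cfsg.sympForm m F x' x = 1 := by
  obtain ⟨w, hw⟩ := exists_sympForm_ne_zero m hx
  have hw' : Cfsg.sympForm m F w x ≠ 0 := by
    rw [sympForm_swap]
    exact neg_ne_zero.mpr hw
  refine ⟨(Cfsg.sympForm m F w x)⁻¹ • w, ?_⟩
  rw [sympForm_smul_left, inv_mul_cancel₀ hw']

theorem zrad_form (h2 : (2 : F) ≠ 0) (M : Subgroup (V ≃ₗ[F] V)) (hSp : MSp m M)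
    (x : Fin m ⊕ Fin m → F) (hx : x ≠ 0) (N : V →ₗ[F] V) (hN : N ∈ ZRad m M x) :
    ∃ T : Matrix (Fin 3) (Fin 3) F, (S0 F * T)ᵀ = S0 F * T ∧ N = zT m x T := by
  obtain ⟨hN1, hN2, g, hgM, hg0⟩ := hN
  have hg : ∀ X : V, g X = X + N X := hg0
  obtain ⟨x', hx'⟩ := exists_partner hx
  obtain ⟨i₀, hi₀⟩ : ∃ i, x i ≠ 0 := by
    by_contra hcon
    push Not at hcon
    exact hx (funext hcon)
  -- the operator `T`
  set ρ : (Fin 3 → F) →ₗ[F] (Fin 3 → F) := (x i₀)⁻¹ • (rowL i₀ ∘ₗ N ∘ₗ vmvL x') with hρ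
  set T : Matrix (Fin 3) (Fin 3) F := LinearMap.toMatrix' ρ with hT
  have hTb : ∀ b : Fin 3 → F, T *ᵥ b = ρ b := by
    intro b
    rw [hT, ← Matrix.toLin'_apply, Matrix.toLin'_toMatrix']
  have hA : ∀ b : Fin 3 → F, N (vecMulVec x' b) = vecMulVec x (T *ᵥ b) := by
    intro b
    obtain ⟨y, hy⟩ := hN1 (vecMulVec x' b)
    have h1 : ρ b = y := by
      show (x i₀)⁻¹ • (N (vecMulVec x' b)) i₀ = y
      rw [hy]
      funext k
      simp only [Pi.smul_apply, vecMulVec_apply, smul_eq_mul]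
      rw [← mul_assoc, inv_mul_cancel₀ hi₀, one_mul]
    rw [hTb, h1, hy]
  have hNX : ∀ X : V, N X = zT m x T X := by
    intro X
    have h0 : ctr m x (X - vecMulVec x' (ctr m x X)) = 0 := by
      rw [ctr_sub, ctr_vecMulVec, hx', one_smul, sub_self]
    have h1 := hN2 _ h0
    rw [map_sub, sub_eq_zero] at h1
    rw [h1, hA, zT_apply]
  refine ⟨T, ?_, LinearMap.ext hNX⟩
  -- symmetry
  have hsym : ∀ u v : Fin 3 → F, be u (T *ᵥ v) = be (T *ᵥ u) v := by
    intro u v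
    have h1 := hSp g hgM (vecMulVec x' u) (vecMulVec x' v)
    rw [hg, hg, hA, hA, tf_add_left, tf_add_right, tf_add_right, tf_vecMulVec, tf_vecMulVec,
      tf_vecMulVec, tf_vecMulVec, sympForm_self m x', sympForm_self m x, hx', sympForm_swap m x x', hx'] at h1
    linear_combination h1
  have hentry : ∀ i j : Fin 3, (S0 F * T) i j = be (Pi.single i 1) (T *ᵥ Pi.single j 1) := by
    intro i j
    rw [be_eq_dotProduct, single_one_dotProduct, Matrix.mulVec_mulVec, Matrix.mulVec_single_one]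
    rfl
  ext i j
  rw [Matrix.transpose_apply, hentry, hentry, hsym, be_comm]

end Cfsg.Agent.Lib.Helper91_SP3_ZFORM
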