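import Cfsg.Agent.Lib.Helper91_Sims_FF4parts
import Cfsg.Agent.Lib.Helper86_Sims_SFF1
import Cfsg.Agent.Lib.Helper27_Sims_CT
import Cfsg.Agent.Lib.Helper27_Sims_COP
import Cfsg.Agent.Lib.Helper10_Sims_STWO

/-!
# More pieces for the Sims package S-FF4 (`struct_a`): the element `d` of order 3 (paper 3.5, 3.6).

* `exists_three_closure`: `t ∈ T_ay \ K_a`, `d0 ∈ G_a` of order 3: the closure of the three conjugates of `t` under
  `d0` contains an element of order 3.
* `exists_d`: there is `d ∈ G_a` of order 3 with `|V_a : C_{V_a}(d)| = 4`.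
-/

set_option autoImplicit false

namespace Cfsg.Agent.Lib.Helper91_Sims_FF4d

open MulAction Cfsg.Agent.Lib.Helper13_SimsDefs Cfsg.Agent.Lib.Helper91_Sims_FF4parts

section generic
variable {G : Type*} [Group G]

/-- `g` normalises the closure of a set which it maps into the closure -/
theorem nrm_closure {g : G} {S : Set G} (h : ∀ s ∈ S, g * s * g⁻¹ ∈ Subgroup.closure S) :
    Nrm g (Subgroup.closure S) := by
  intro x hx
  induction hx using Subgroup.closure_induction with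
  | mem s hs => exact h s hs
  | one => simp
  | mul x y _ _ hx hy =>
    have e : g * (x * y) * g⁻¹ = (g * x * g⁻¹) * (g * y * g⁻¹) := by group
    rw [e]; exact Subgroup.mul_mem _ hx hy
  | inv x _ hx =>
    have e : g * x⁻¹ * g⁻¹ = (g * x * g⁻¹)⁻¹ := by group
    rw [e]; exact Subgroup.inv_mem _ hx

/-- a subgroup of a group of order `3 * 2 ^ k` which is not a 2-group contains an element of order 3 -/
theorem exists_order_three [Finite G] (S Q : Subgroup G) (hQS : Q ≤ S) (k : ℕ)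
    (hS : Nat.card S = 3 * 2 ^ k) (hQ : ¬ IsPGroup 2 Q) : ∃ d ∈ Q, orderOf d = 3 := by
  have : Fact (Nat.Prime 3) := ⟨Nat.prime_three⟩
  have hdvd : Nat.card Q ∣ 3 * 2 ^ k := by
    rw [← hS]; exact Subgroup.card_dvd_of_le hQS
  have h3 : 3 ∣ Nat.card Q := by
    by_contra h3
    apply hQ
    have hcop : Nat.Coprime (Nat.card Q) 3 :=
      (Nat.coprime_comm.1 ((Nat.Prime.coprime_iff_not_dvd Nat.prime_three).2 h3))
    have h2 : Nat.card Q ∣ 2 ^ k := hcop.dvd_of_dvd_mul_left hdvd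
    obtain ⟨j, -, hj⟩ := (Nat.dvd_prime_pow Nat.prime_two).1 h2
    exact IsPGroup.of_card hj
  obtain ⟨x, hx⟩ := exists_prime_orderOf_dvd_card' 3 h3
  exact ⟨x, x.2, by rw [Subgroup.orderOf_coe]; exact hx⟩

theorem not_mem_of_order_three {K : Subgroup G} (hK : IsPGroup 2 K) {d : G} (hd3 : orderOf d = 3) :
    d ∉ K := by
  intro h
  obtain ⟨k, hk⟩ := hK ⟨d, h⟩
  have hk' : d ^ 2 ^ k = 1 := by
    have := congrArg Subtype.val hk
    simpa using this
  have h3 : 3 ∣ 2 ^ k := by rw [← hd3]; exact orderOf_dvd_of_pow_eq_one hk'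
  have := Nat.Prime.dvd_of_dvd_pow Nat.prime_three h3
  omega

end generic

section PartS
variable {G Ω : Type*} [Group G] [MulAction G Ω] {a b : Ω}

theorem card_stab_eq (H : Hyp G a b) {y : Ω} (hy : Adj G a b a y) :
    ∃ k, Nat.card (stabilizer G a) = 3 * 2 ^ k ∧ Nat.card (Tst G a y) = 2 ^ k := by
  have hfin := H.fin
  obtain ⟨k, hk⟩ := (Cfsg.Agent.Lib.Helper10_Sims_STWO.two_group H hy).exists_card_eq
  exact ⟨k, by rw [Cfsg.Agent.Lib.Helper91_Sims_ARC.card_stab H hy, hk], hk⟩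

/-- an element of order 3 of `G_a` -/
theorem exists_d0 (H : Hyp G a b) : ∃ d0 ∈ stabilizer G a, orderOf d0 = 3 := by
  have hfin := H.fin
  have hab : Adj G a b a b := Or.inl Cfsg.Agent.Lib.Helper91_Sims_ARC.arc_ab
  obtain ⟨k, hk, -⟩ := card_stab_eq H hab
  apply exists_order_three (stabilizer G a) (stabilizer G a) le_rfl k hk
  intro h2
  obtain ⟨j, hj⟩ := h2.exists_card_eq
  rw [hk] at hj
  have h3 : 3 ∣ 2 ^ j := ⟨2 ^ k, hj.symm⟩
  have := Nat.Prime.dvd_of_dvd_pow Nat.prime_three h3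
  omega

/-- paper 3.5, second part: the closure of the conjugates of `t` under `d0` contains an element of order 3 -/
theorem exists_three_closure (H : Hyp G a b) (hS : ¬ A3case G a b) {y : Ω} (hy : Adj G a b a y)
    (t : G) (ht : t ∈ Tst G a y) (htK : t ∉ Kst G a b a) (d0 : G) (hd0 : d0 ∈ stabilizer G a)
    (hd3 : orderOf d0 = 3) :
    ∃ d ∈ Subgroup.closure ({t, d0 * t * d0⁻¹, d0 * (d0 * t * d0⁻¹) * d0⁻¹} : Set G),
      d ∈ stabilizer G a ∧ orderOf d = 3 := by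
  have hfin := H.fin
  set Hc := Subgroup.closure ({t, d0 * t * d0⁻¹, d0 * (d0 * t * d0⁻¹) * d0⁻¹} : Set G) with hHc
  have h2 : ∀ x y, Adj G a b x y → IsPGroup 2 (Tst G x y) :=
    fun _ _ h => Cfsg.Agent.Lib.Helper10_Sims_STWO.two_group H h
  obtain ⟨k, hk, hkT⟩ := card_stab_eq H hy
  have htS : t ∈ stabilizer G a := ht.1
  have hd0i : d0⁻¹ ∈ stabilizer G a := (stabilizer G a).inv_mem hd0
  have ht2S : d0 * t * d0⁻¹ ∈ stabilizer G a :=
    (stabilizer G a).mul_mem ((stabilizer G a).mul_mem hd0 htS) hd0i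
  have ht3S : d0 * (d0 * t * d0⁻¹) * d0⁻¹ ∈ stabilizer G a :=
    (stabilizer G a).mul_mem ((stabilizer G a).mul_mem hd0 ht2S) hd0i
  have hHcS : Hc ≤ stabilizer G a := by
    rw [hHc, Subgroup.closure_le]
    intro s hs
    rcases hs with rfl | rfl | rfl
    · exact htS
    · exact ht2S
    · exact ht3S
  have hd03 : d0 ^ 3 = 1 := by rw [← hd3]; exact pow_orderOf_eq_one d0
  -- `d0` normalises `Hc`
  have hnH : Nrm d0 Hc := by
    rw [hHc]
    apply nrm_closure
    intro s hs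
    rcases hs with rfl | rfl | rfl
    · exact Subgroup.subset_closure (by simp)
    · exact Subgroup.subset_closure (by simp)
    · have e : d0 * (d0 * (d0 * t * d0⁻¹) * d0⁻¹) * d0⁻¹ = t := by
        have h111 : d0 * d0 * d0 = 1 := by rw [← pow_three', hd03]
        calc d0 * (d0 * (d0 * t * d0⁻¹) * d0⁻¹) * d0⁻¹
            = (d0 * d0 * d0) * t * (d0 * d0 * d0)⁻¹ := by group
          _ = t := by rw [h111, one_mul, inv_one, mul_one]
      rw [e]
      exact Subgroup.subset_closure (by simp)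
  by_contra hcon
  -- so `Hc` is a 2-group
  have hH2 : IsPGroup 2 Hc := by
    by_contra hH2
    obtain ⟨d, hd, hd3'⟩ := exists_order_three (stabilizer G a) Hc hHcS k hk hH2
    exact hcon ⟨d, hd, hHcS hd, hd3'⟩
  have hKT : Kst G a b a ≤ Tst G a y := Cfsg.Agent.Lib.Helper12_Sims_BEQUIV.Kst_le_Tst hy
  have hK2 : IsPGroup 2 (Kst G a b a) := (h2 a y hy).to_le hKT
  have hKn : stabilizer G a ≤ Subgroup.normalizer (Kst G a b a : Set G) :=
    Cfsg.Agent.Lib.Helper12_Sims_SK.le_normalizer_of_nrm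
      (Cfsg.Agent.Lib.Helper12_Sims_BEQUIV.Kst_normal a)
  have hP2 : IsPGroup 2 (Kst G a b a ⊔ Hc : Subgroup G) :=
    IsPGroup.to_sup_of_normal_left' hK2 hH2 (hHcS.trans hKn)
  have hPS : Kst G a b a ⊔ Hc ≤ stabilizer G a :=
    sup_le (Cfsg.Agent.Lib.Helper12_Sims_BEQUIV.Kst_le_stab a) hHcS
  have hidx := Cfsg.Agent.Lib.Helper12_Sims_SK.K_index H hS hy
  have hTP : Tst G a y ≤ Kst G a b a ⊔ Hc := by
    rw [← sup_zpowers_of_index_two _ _ hKT hidx t ht htK]
    apply sup_le_sup_left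
    rw [Subgroup.zpowers_le]
    exact Subgroup.subset_closure (by simp)
  -- `P = K_a Hc` is normal in `G_a`
  have hnP : Nrm d0 (Kst G a b a ⊔ Hc : Subgroup G) :=
    Cfsg.Agent.Lib.Helper12_Sims_SK.nrm_sup
      (Cfsg.Agent.Lib.Helper12_Sims_BEQUIV.Kst_normal a d0 hd0) hnH
  have hgen : Tst G a y ⊔ Subgroup.zpowers d0 = stabilizer G a :=
    Cfsg.Agent.Lib.Helper86_Sims_SFF1.sup_zpowers_eq (stabilizer G a) (Tst G a y) inf_le_left
      (h2 a y hy) (Cfsg.Agent.Lib.Helper91_Sims_ARC.card_stab H hy) d0 hd0 hd3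
  have hSN : stabilizer G a ≤ Subgroup.normalizer ((Kst G a b a ⊔ Hc : Subgroup G) : Set G) := by
    rw [← hgen]
    apply sup_le
    · exact hTP.trans Subgroup.le_normalizer
    · rw [Subgroup.zpowers_le]
      exact Cfsg.Agent.Lib.Helper27_Sims_CT.mem_normalizer_of_nrm _ d0 hnP
  have hPn : ∀ g ∈ stabilizer G a, Nrm g (Kst G a b a ⊔ Hc : Subgroup G) := by
    intro g hg p hp
    have := hSN hg
    rw [Subgroup.mem_normalizer_iff] at this
    exact (this p).1 hp
  have hle := Cfsg.Agent.Lib.Helper12_Sims_SK.normal_two_le H hS h2 hy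
    (Kst G a b a ⊔ Hc) hPS hPn hP2
  have hle2 : Nat.card (Tst G a y) ≤ Nat.card (Kst G a b a ⊔ Hc : Subgroup G) :=
    Subgroup.card_le_of_le hTP
  have hpos : 0 < Nat.card (Kst G a b a ⊔ Hc : Subgroup G) := Nat.card_pos
  omega

/-- conjugating the data of `transvection_data` by an element of `G_a` -/
theorem conj_mem_Tst {y : Ω} {t g : G} (ht : t ∈ Tst G a y) (hg : g ∈ stabilizer G a) :
    g * t * g⁻¹ ∈ Tst G a (g • y) := by
  have h1 := Cfsg.Agent.Lib.Helper12_Sims_BEQUIV.Tst_smul g a y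
  rw [mem_stabilizer_iff.1 hg] at h1
  rw [h1]
  exact Cfsg.Agent.Lib.Helper12_Sims_BEQUIV.conj_mem_cj ht

theorem conj_not_mem_Kst {t g : G} (htK : t ∉ Kst G a b a) (hg : g ∈ stabilizer G a) :
    g * t * g⁻¹ ∉ Kst G a b a := by
  intro h
  apply htK
  have := Cfsg.Agent.Lib.Helper12_Sims_BEQUIV.Kst_normal (a := a) (b := b) a g⁻¹
    ((stabilizer G a).inv_mem hg) _ h
  have e : g⁻¹ * (g * t * g⁻¹) * g⁻¹⁻¹ = t := by group
  rwa [e] at this

theorem adj_smul_stab {y : Ω} {g : G} (hy : Adj G a b a y) (hg : g ∈ stabilizer G a) :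
    Adj G a b a (g • y) := by
  have := Cfsg.Agent.Lib.Helper91_Sims_ARC.adj_smul g hy
  rwa [mem_stabilizer_iff.1 hg] at this

/-- paper 3.6, first step: an element `d` of order 3 of `G_a` with `|V_a : C_{V_a}(d)| = 4` -/
theorem exists_d (H : Hyp G a b) (hS : ¬ A3case G a b) (hc : Constrained G a b) :
    ∃ d ∈ stabilizer G a, orderOf d = 3 ∧
      Nat.card (Vst G a b a) = 4 * Nat.card (CentIn (Vst G a b a) (Subgroup.zpowers d)) := by
  have hfin := H.fin
  have hab : Adj G a b a b := Or.inl Cfsg.Agent.Lib.Helper91_Sims_ARC.arc_ab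
  obtain ⟨t, ht, htK⟩ := exists_not_mem_Kst H hS hab
  obtain ⟨d0, hd0, hd03⟩ := exists_d0 H
  obtain ⟨d, hdc, hdS, hd3⟩ := exists_three_closure H hS hab t ht htK d0 hd0 hd03
  refine ⟨d, hdS, hd3, ?_⟩
  -- the three transvections
  have hy2 := adj_smul_stab hab hd0
  have ht2 := conj_mem_Tst ht hd0
  have ht2K := conj_not_mem_Kst htK hd0
  have hy3 := adj_smul_stab hy2 hd0
  have ht3 := conj_mem_Tst ht2 hd0
  have ht3K := conj_not_mem_Kst ht2K hd0
  obtain ⟨r1, -, -, -, hr1, -⟩ := transvection_data H hS hc hab t ht htK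
  obtain ⟨r2, -, -, -, hr2, -⟩ := transvection_data H hS hc hy2 _ ht2 ht2K
  obtain ⟨r3, -, -, -, hr3, -⟩ := transvection_data H hS hc hy3 _ ht3 ht3K
  have hV2 : IsPGroup 2 (Vst G a b a) := by
    intro v
    refine ⟨1, ?_⟩
    apply Subtype.ext
    have := Cfsg.Agent.Lib.Helper12_Sims_BEQUIV.Vst_sq (G := G) (a := a) (b := b) a v v.2
    simpa using this
  have hVn := Cfsg.Agent.Lib.Helper12_Sims_BEQUIV.Vst_normal (G := G) (a := a) (b := b) a
  rcases Cfsg.Agent.Lib.Helper27_Sims_CT.ct (Vst G a b a) hV2 t (d0 * t * d0⁻¹)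
      (d0 * (d0 * t * d0⁻¹) * d0⁻¹) d (hVn _ ht.1) (hVn _ ht2.1) (hVn _ ht3.1) ⟨r1, hr1⟩ ⟨r2, hr2⟩
      ⟨r3, hr3⟩ hdc hd3 with h | h
  · -- `d` centralises `V_a`: impossible by S-FF1
    exfalso
    have hCV : CentIn (Vst G a b a) (Subgroup.zpowers d) = Vst G a b a :=
      Subgroup.eq_of_le_of_card_ge inf_le_left (le_of_eq h)
    have hdK : d ∈ Kst G a b a := by
      apply Cfsg.Agent.Lib.Helper86_Sims_SFF1.cent_a H hS hc d hdS
      intro v hv
      rw [← hCV, Cfsg.Agent.Lib.Helper86_Sims_SFF3.mem_CentIn_zpowers] at hv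
      exact hv.2
    have hK2 : IsPGroup 2 (Kst G a b a) :=
      (Cfsg.Agent.Lib.Helper10_Sims_STWO.two_group H hab).to_le
        (Cfsg.Agent.Lib.Helper12_Sims_BEQUIV.Kst_le_Tst hab)
    exact not_mem_of_order_three hK2 hd3 hdK
  · exact h

end PartS

end Cfsg.Agent.Lib.Helper91_Sims_FF4d
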