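import Cfsg.Agent.Lib.Helper13_SimsDefs
import Cfsg.Agent.Lib.Helper91_Sims_BASE
import Cfsg.Agent.Lib.Helper91_Sims_ARC
import Cfsg.Agent.Lib.Helper12_Sims_BEQUIV
import Cfsg.Agent.Lib.Helper12_Sims_SK
import Cfsg.Agent.Lib.Helper86_Sims_SFF3

/-!
# Pieces for the Sims package S-FF4 (`struct_a`), architect helper13, package owner helper25.

* `comm_image`: a transvection `t` on an elementary abelian 2-group `V`: the commutators `[t,v]` are `1` or `r`.
* `struct_item4`: item 4 of `struct_a`: `|R_ay| = 2` and `|V_a| = 2 |Z_ay|` for every neighbour `y` of `a`.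
-/

set_option autoImplicit false

namespace Cfsg.Agent.Lib.Helper91_Sims_FF4parts

open MulAction Cfsg.Agent.Lib.Helper13_SimsDefs

section generic
variable {G : Type*} [Group G]

theorem mem_CentIn_iff (V K : Subgroup G) (v : G) :
    v ∈ CentIn V K ↔ v ∈ V ∧ ∀ k ∈ K, k * v = v * k := by
  unfold CentIn
  rw [Subgroup.mem_inf, Subgroup.mem_centralizer_iff]
  rfl

theorem comm_mem {V : Subgroup G} {t v : G} (ht : Nrm t V) (hv : v ∈ V) : comm t v ∈ V :=
  V.mul_mem (ht v hv) (V.inv_mem hv)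

/-- `v ↦ [t,v]` is multiplicative on an abelian group normalised by `t` -/
theorem comm_mul {V : Subgroup G} (hVc : ∀ v ∈ V, ∀ w ∈ V, v * w = w * v) {t : G} (ht : Nrm t V)
    {v w : G} (hv : v ∈ V) (hw : w ∈ V) : comm t (v * w) = comm t v * comm t w := by
  have h1 : v⁻¹ * (t * w * t⁻¹ * w⁻¹) = (t * w * t⁻¹ * w⁻¹) * v⁻¹ :=
    hVc _ (V.inv_mem hv) _ (V.mul_mem (ht w hw) (V.inv_mem hw))
  unfold Cfsg.Agent.Lib.Helper13_SimsDefs.comm
  calc t * (v * w) * t⁻¹ * (v * w)⁻¹ = t * v * t⁻¹ * ((t * w * t⁻¹ * w⁻¹) * v⁻¹) := by group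
    _ = t * v * t⁻¹ * (v⁻¹ * (t * w * t⁻¹ * w⁻¹)) := by rw [h1]
    _ = t * v * t⁻¹ * v⁻¹ * (t * w * t⁻¹ * w⁻¹) := by group

theorem comm_eq_one_iff {t v : G} : comm t v = 1 ↔ t * v = v * t := by
  unfold Cfsg.Agent.Lib.Helper13_SimsDefs.comm
  constructor
  · intro h
    calc t * v = (t * v * t⁻¹ * v⁻¹) * (v * t) := by group
      _ = v * t := by rw [h, one_mul]
  · intro h
    calc t * v * t⁻¹ * v⁻¹ = (t * v) * t⁻¹ * v⁻¹ := by group
      _ = (v * t) * t⁻¹ * v⁻¹ := by rw [h]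
      _ = 1 := by group

/-- a transvection on an elementary abelian 2-group: the commutators `[t,v]`, `v ∈ V`, are `1` or `r`. -/
theorem comm_image [Finite G] (V : Subgroup G) (hV2 : ∀ v ∈ V, v ^ 2 = 1)
    (hVc : ∀ v ∈ V, ∀ w ∈ V, v * w = w * v) (t : G) (ht : Nrm t V)
    (hidx : Nat.card V = 2 * Nat.card (CentIn V (Subgroup.zpowers t))) :
    ∃ r, r ≠ 1 ∧ r ∈ V ∧ r ^ 2 = 1 ∧ (∀ v ∈ V, comm t v = 1 ∨ comm t v = r) ∧
      ∃ v ∈ V, comm t v = r := by
  set C := CentIn V (Subgroup.zpowers t) with hC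
  have hCV : C ≤ V := inf_le_left
  have hmemC : ∀ v, v ∈ C ↔ v ∈ V ∧ t * v = v * t :=
    fun v => Cfsg.Agent.Lib.Helper86_Sims_SFF3.mem_CentIn_zpowers V t v
  have hidx2 : (C.subgroupOf V).index = 2 := by
    have h1 := Subgroup.card_mul_index (C.subgroupOf V)
    rw [Nat.card_congr (Subgroup.subgroupOfEquivOfLe hCV).toEquiv, hidx, mul_comm] at h1
    have hpos : 0 < Nat.card C := Nat.card_pos
    exact Nat.eq_of_mul_eq_mul_right hpos h1
  -- an element outside `C`
  have hex : ∃ v0 ∈ V, v0 ∉ C := by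
    by_contra hcon
    have hVC : V ≤ C := by
      intro v hv
      by_contra hvC
      exact hcon ⟨v, hv, hvC⟩
    have heq : C = V := le_antisymm hCV hVC
    have hpos : 0 < Nat.card V := Nat.card_pos
    rw [heq] at hidx
    omega
  obtain ⟨v0, hv0, hv0C⟩ := hex
  refine ⟨comm t v0, ?_, comm_mem ht hv0, hV2 _ (comm_mem ht hv0), ?_, ⟨v0, hv0, rfl⟩⟩
  · intro h1
    apply hv0C
    rw [hmemC]
    exact ⟨hv0, comm_eq_one_iff.1 h1⟩
  · intro v hv
    by_cases hvC : v ∈ C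
    · left
      exact comm_eq_one_iff.2 ((hmemC v).1 hvC).2
    · right
      have hmul : v0⁻¹ * v ∈ C := by
        have := Subgroup.mul_mem_iff_of_index_two hidx2 (a := (⟨v0⁻¹, V.inv_mem hv0⟩ : ↥V))
          (b := (⟨v, hv⟩ : ↥V))
        rw [Subgroup.mem_subgroupOf, Subgroup.mem_subgroupOf, Subgroup.mem_subgroupOf] at this
        apply this.mpr
        constructor
        · intro h
          exfalso
          apply hv0C
          have h' : (v0⁻¹)⁻¹ ∈ C := C.inv_mem h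
          rwa [inv_inv] at h'
        · intro h
          exact absurd h hvC
      have h1 : comm t (v0⁻¹ * v) = 1 := comm_eq_one_iff.2 ((hmemC _).1 hmul).2
      have h2 : comm t (v0 * (v0⁻¹ * v)) = comm t v0 * comm t (v0⁻¹ * v) :=
        comm_mul hVc ht hv0 (V.mul_mem (V.inv_mem hv0) hv)
      rw [h1, mul_one, mul_inv_cancel_left] at h2
      exact h2

/-- a subgroup of index 2 and an element outside it generate -/
theorem sup_zpowers_of_index_two [Finite G] (T K : Subgroup G) (hKT : K ≤ T)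
    (hidx : Nat.card T = 2 * Nat.card K) (t : G) (ht : t ∈ T) (htK : t ∉ K) :
    K ⊔ Subgroup.zpowers t = T := by
  have hle : K ⊔ Subgroup.zpowers t ≤ T := sup_le hKT (by rwa [Subgroup.zpowers_le])
  obtain ⟨m, hm⟩ : Nat.card K ∣ Nat.card ↥(K ⊔ Subgroup.zpowers t) :=
    Subgroup.card_dvd_of_le le_sup_left
  have h2 : Nat.card ↥(K ⊔ Subgroup.zpowers t) ∣ Nat.card T := Subgroup.card_dvd_of_le hle
  have hpos : 0 < Nat.card K := Nat.card_pos
  have hm2 : m ∣ 2 := by
    rw [hm, hidx, mul_comm 2] at h2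
    exact Nat.dvd_of_mul_dvd_mul_left hpos h2
  rcases (Nat.dvd_prime Nat.prime_two).1 hm2 with rfl | rfl
  · exfalso
    apply htK
    have e1 : K = K ⊔ Subgroup.zpowers t :=
      Subgroup.eq_of_le_of_card_ge le_sup_left (by rw [hm, mul_one])
    rw [e1]
    exact (le_sup_right : Subgroup.zpowers t ≤ _) (Subgroup.mem_zpowers t)
  · exact Subgroup.eq_of_le_of_card_ge hle (by rw [hm, hidx, mul_comm])

/-- `C_V(T) = C_V(t)` if `T = K<t>` and `K` centralises `V` -/
theorem CentIn_eq_of_sup (V K T : Subgroup G) (t : G) (hKt : K ⊔ Subgroup.zpowers t = T)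
    (hVc : ∀ v ∈ V, ∀ k ∈ K, k * v = v * k) :
    CentIn V T = CentIn V (Subgroup.zpowers t) := by
  apply le_antisymm
  · intro v hv
    obtain ⟨hv1, hv2⟩ := (mem_CentIn_iff _ _ v).1 hv
    refine (mem_CentIn_iff _ _ v).2 ⟨hv1, fun s hs => hv2 s ?_⟩
    rw [← hKt]
    exact (le_sup_right : Subgroup.zpowers t ≤ _) hs
  · intro v hv
    obtain ⟨hv1, h2⟩ := (mem_CentIn_iff _ _ v).1 hv
    have hsub : T ≤ Subgroup.centralizer ({v} : Set G) := by
      rw [← hKt]
      refine sup_le ?_ ?_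
      · intro k hk
        rw [Subgroup.mem_centralizer_iff]
        intro w hw
        rw [Set.mem_singleton_iff] at hw
        rw [hw]
        exact (hVc v hv1 k hk).symm
      · intro s hs
        rw [Subgroup.mem_centralizer_iff]
        intro w hw
        rw [Set.mem_singleton_iff] at hw
        rw [hw]
        exact (h2 s hs).symm
    refine (mem_CentIn_iff _ _ v).2 ⟨hv1, fun s hs => ?_⟩
    have := hsub hs
    rw [Subgroup.mem_centralizer_iff] at this
    exact (this v rfl).symm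

/-- `[V,T] = <r>` if `T = K ∪ Kt`, `K` centralises `V` and the commutators `[t,v]` are `1` or `r` -/
theorem CommSub_eq_zpowers [Finite G] (V K T : Subgroup G) (hKT : K ≤ T)
    (hidx : Nat.card T = 2 * Nat.card K) (hVc : ∀ v ∈ V, ∀ k ∈ K, k * v = v * k) (t : G)
    (ht : t ∈ T) (htK : t ∉ K) (htV : Nrm t V) (r : G)
    (hr : ∀ v ∈ V, comm t v = 1 ∨ comm t v = r) (hex : ∃ v ∈ V, comm t v = r) :
    CommSub T V = Subgroup.zpowers r := by
  have hidx2 : (K.subgroupOf T).index = 2 := by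
    have h1 := Subgroup.card_mul_index (K.subgroupOf T)
    rw [Nat.card_congr (Subgroup.subgroupOfEquivOfLe hKT).toEquiv, hidx, mul_comm] at h1
    have hpos : 0 < Nat.card K := Nat.card_pos
    exact Nat.eq_of_mul_eq_mul_right hpos h1
  apply le_antisymm
  · unfold CommSub
    rw [Subgroup.closure_le]
    rintro c ⟨g, hg, v, hv, rfl⟩
    show comm g v ∈ Subgroup.zpowers r
    by_cases hgK : g ∈ K
    · have : comm g v = 1 := comm_eq_one_iff.2 (hVc v hv g hgK)
      rw [this]; exact Subgroup.one_mem _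
    · -- `g = k t` with `k ∈ K`
      have hk : g * t⁻¹ ∈ K := by
        have := Subgroup.mul_mem_iff_of_index_two hidx2 (a := (⟨g, hg⟩ : ↥T))
          (b := (⟨t⁻¹, T.inv_mem ht⟩ : ↥T))
        rw [Subgroup.mem_subgroupOf, Subgroup.mem_subgroupOf, Subgroup.mem_subgroupOf] at this
        apply this.mpr
        constructor
        · intro h; exact absurd h hgK
        · intro h
          exfalso
          apply htK
          have h' : (t⁻¹)⁻¹ ∈ K := K.inv_mem h
          rwa [inv_inv] at h'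
      have h1 : (g * t⁻¹) * (t * v * t⁻¹) = (t * v * t⁻¹) * (g * t⁻¹) :=
        hVc _ (htV v hv) _ hk
      have h2 : comm g v = comm t v := by
        unfold Cfsg.Agent.Lib.Helper13_SimsDefs.comm
        calc g * v * g⁻¹ * v⁻¹ = ((g * t⁻¹) * (t * v * t⁻¹)) * (g * t⁻¹)⁻¹ * v⁻¹ := by group
          _ = ((t * v * t⁻¹) * (g * t⁻¹)) * (g * t⁻¹)⁻¹ * v⁻¹ := by rw [h1]
          _ = t * v * t⁻¹ * v⁻¹ := by group
      rw [h2]
      rcases hr v hv with h | h
      · rw [h]; exact Subgroup.one_mem _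
      · rw [h]; exact Subgroup.mem_zpowers r
  · rw [Subgroup.zpowers_le]
    obtain ⟨v, hv, hvr⟩ := hex
    rw [← hvr]
    exact Subgroup.subset_closure ⟨t, ht, v, hv, rfl⟩

theorem card_zpowers_two {r : G} (hr1 : r ≠ 1) (hr2 : r ^ 2 = 1) :
    Nat.card (Subgroup.zpowers r) = 2 := by
  rw [Nat.card_zpowers]
  exact orderOf_eq_prime hr2 hr1

end generic

section PartS
variable {G Ω : Type*} [Group G] [MulAction G Ω] {a b : Ω}

theorem Vst_mul_comm (x : Ω) : ∀ v ∈ Vst G a b x, ∀ w ∈ Vst G a b x, v * w = w * v :=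
  fun v hv w hw => (Cfsg.Agent.Lib.Helper12_Sims_BEQUIV.Vst_comm x v hv w
    (Cfsg.Agent.Lib.Helper12_Sims_BEQUIV.Vst_le_Kst x hw)).symm

/-- an element of `T_ay` outside `K_a` -/
theorem exists_not_mem_Kst (H : Hyp G a b) (hS : ¬ A3case G a b) {y : Ω} (hy : Adj G a b a y) :
    ∃ t ∈ Tst G a y, t ∉ Kst G a b a := by
  have hfin := H.fin
  have hidx := Cfsg.Agent.Lib.Helper12_Sims_SK.K_index H hS hy
  have hKT : Kst G a b a ≤ Tst G a y := Cfsg.Agent.Lib.Helper12_Sims_BEQUIV.Kst_le_Tst hy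
  by_contra hcon
  have hTK : Tst G a y ≤ Kst G a b a := by
    intro t ht
    by_contra htK
    exact hcon ⟨t, ht, htK⟩
  have heq : Kst G a b a = Tst G a y := le_antisymm hKT hTK
  have hpos : 0 < Nat.card (Kst G a b a) := Nat.card_pos
  rw [heq] at hidx hpos
  omega

/-- for `t ∈ T_ay \ K_a`: the data of the transvection `t` on `V_a` -/
theorem transvection_data (H : Hyp G a b) (hS : ¬ A3case G a b) (hc : Constrained G a b) {y : Ω}
    (hy : Adj G a b a y) (t : G) (ht : t ∈ Tst G a y) (htK : t ∉ Kst G a b a) :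
    ∃ r, r ≠ 1 ∧ r ∈ Vst G a b a ∧ r ^ 2 = 1 ∧
      (∀ v ∈ Vst G a b a, comm t v = 1 ∨ comm t v = r) ∧ (∃ v ∈ Vst G a b a, comm t v = r) ∧
      Rst G a b a y = Subgroup.zpowers r ∧
      Zst G a b a y = CentIn (Vst G a b a) (Subgroup.zpowers t) := by
  have hfin := H.fin
  have hidx := Cfsg.Agent.Lib.Helper12_Sims_SK.K_index H hS hy
  have hKT : Kst G a b a ≤ Tst G a y := Cfsg.Agent.Lib.Helper12_Sims_BEQUIV.Kst_le_Tst hy
  have hT := Cfsg.Agent.Lib.Helper86_Sims_SFF3.transvection H hS hc y hy t ht htK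
  have htV : Nrm t (Vst G a b a) :=
    Cfsg.Agent.Lib.Helper12_Sims_BEQUIV.Vst_normal a t ht.1
  obtain ⟨r, hr1, hrV, hr2, hr, hex⟩ := comm_image (Vst G a b a)
    (Cfsg.Agent.Lib.Helper12_Sims_BEQUIV.Vst_sq a) (Vst_mul_comm a) t htV hT
  refine ⟨r, hr1, hrV, hr2, hr, hex, ?_, ?_⟩
  · exact CommSub_eq_zpowers (Vst G a b a) (Kst G a b a) (Tst G a y) hKT hidx
      (Cfsg.Agent.Lib.Helper12_Sims_BEQUIV.Vst_comm a) t ht htK htV r hr hex
  · exact CentIn_eq_of_sup (Vst G a b a) (Kst G a b a) (Tst G a y) t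
      (sup_zpowers_of_index_two _ _ hKT hidx t ht htK)
      (Cfsg.Agent.Lib.Helper12_Sims_BEQUIV.Vst_comm a)

/-- item 4 of `struct_a` -/
theorem struct_item4 (H : Hyp G a b) (hS : ¬ A3case G a b) (hc : Constrained G a b) (y : Ω)
    (hy : Adj G a b a y) :
    Nat.card (Rst G a b a y) = 2 ∧
      Nat.card (Vst G a b a) = 2 * Nat.card (Zst G a b a y) := by
  obtain ⟨t, ht, htK⟩ := exists_not_mem_Kst H hS hy
  obtain ⟨r, hr1, -, hr2, -, -, hR, hZ⟩ := transvection_data H hS hc hy t ht htK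
  refine ⟨?_, ?_⟩
  · rw [hR]; exact card_zpowers_two hr1 hr2
  · rw [hZ]; exact Cfsg.Agent.Lib.Helper86_Sims_SFF3.transvection H hS hc y hy t ht htK

end PartS

end Cfsg.Agent.Lib.Helper91_Sims_FF4parts
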