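import Cfsg.Agent.Lib.Helper13_SimsDefs
import Cfsg.Agent.Lib.Helper91_Sims_JCONJ
import Cfsg.Agent.Lib.Helper91_Sims_BASE
import Cfsg.Agent.Lib.Helper91_Sims_ARC
import Cfsg.Agent.Lib.Helper12_Sims_BEQUIV

/-!
# Sims package S-FF5 (architect helper13): `C_{V_a}(T) = Ω₁ Z(T) = C_{V_b}(T)` and `|Z'_a| ≤ 2`.

`zsymm_ab_aux` takes the statement of S-FF4 (`struct_a`) as an explicit hypothesis.
-/

set_option autoImplicit false

namespace Cfsg.Agent.Lib.Helper91_Sims_FF5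

open MulAction Cfsg.Agent.Lib.Helper13_SimsDefs

section PartS
variable {G Ω : Type*} [Group G] [MulAction G Ω] {a b : Ω}

/-- the constrained hypothesis holds at every vertex -/
theorem constrained_at (H : Hyp G a b) (hc : Constrained G a b) (x : Ω) :
    ∀ g ∈ stabilizer G x, (∀ k ∈ Kst G a b x, g * k = k * g) → g ∈ Kst G a b x := by
  obtain ⟨n, rfl⟩ := Cfsg.Agent.Lib.Helper91_Sims_BASE.trans H a x
  intro g hg hcomm
  rw [Cfsg.Agent.Lib.Helper12_Sims_BEQUIV.stab_smul, Cfsg.Agent.Lib.Helper12_Sims_BEQUIV.mem_cj] at hg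
  rw [Cfsg.Agent.Lib.Helper12_Sims_BEQUIV.Kst_smul, Cfsg.Agent.Lib.Helper12_Sims_BEQUIV.mem_cj]
  apply hc _ hg
  intro k hk
  have hk' : n * k * n⁻¹ ∈ Kst G a b (n • a) := by
    rw [Cfsg.Agent.Lib.Helper12_Sims_BEQUIV.Kst_smul]
    exact Cfsg.Agent.Lib.Helper12_Sims_BEQUIV.conj_mem_cj hk
  have h1 := hcomm _ hk'
  calc n⁻¹ * g * n * k = n⁻¹ * (g * (n * k * n⁻¹)) * n := by group
    _ = n⁻¹ * ((n * k * n⁻¹) * g) * n := by rw [h1]
    _ = k * (n⁻¹ * g * n) := by group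

/-- `C_{V_x}(T_xy) = Ω₁ Z(T_xy)` for adjacent `x, y`, when `x` is constrained. -/
theorem Zst_eq_Om1Z {x y : Ω}
    (hcx : ∀ g ∈ stabilizer G x, (∀ k ∈ Kst G a b x, g * k = k * g) → g ∈ Kst G a b x)
    (h : Adj G a b x y) : Zst G a b x y = Om1Z (Tst G x y) := by
  have hKT : Kst G a b x ≤ Tst G x y := Cfsg.Agent.Lib.Helper12_Sims_BEQUIV.Kst_le_Tst h
  ext z
  constructor
  · intro hz
    have hz' : z ∈ Vst G a b x ⊓ Subgroup.centralizer (Tst G x y : Set G) := hz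
    rw [Subgroup.mem_inf, Subgroup.mem_centralizer_iff] at hz'
    obtain ⟨hzV, hzc⟩ := hz'
    have hzV' : z ∈ Kst G a b x ∧ (∀ h ∈ Kst G a b x, h * z = z * h) ∧ z ^ 2 = 1 := hzV
    exact ⟨hKT hzV'.1, fun t ht => hzc t ht, hzV'.2.2⟩
  · intro hz
    have hz' : z ∈ Tst G x y ∧ (∀ h ∈ Tst G x y, h * z = z * h) ∧ z ^ 2 = 1 := hz
    obtain ⟨hzT, hzc, hz2⟩ := hz'
    have hzK : z ∈ Kst G a b x := by
      apply hcx z hzT.1
      intro k hk
      exact (hzc k (hKT hk)).symm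
    show z ∈ Vst G a b x ⊓ Subgroup.centralizer (Tst G x y : Set G)
    rw [Subgroup.mem_inf, Subgroup.mem_centralizer_iff]
    refine ⟨?_, fun t ht => hzc t ht⟩
    show z ∈ Kst G a b x ∧ (∀ h ∈ Kst G a b x, h * z = z * h) ∧ z ^ 2 = 1
    exact ⟨hzK, fun k hk => hzc k (hKT hk), hz2⟩

theorem Zst_symm (H : Hyp G a b) (hc : Constrained G a b) {x y : Ω} (h : Adj G a b x y) :
    Zst G a b x y = Zst G a b y x := by
  rw [Zst_eq_Om1Z (constrained_at H hc x) h,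
    Zst_eq_Om1Z (constrained_at H hc y) (Cfsg.Agent.Lib.Helper91_Sims_ARC.adj_symm h),
    Cfsg.Agent.Lib.Helper91_Sims_ARC.Tst_comm]

theorem Zpr_le_Zst (x y : Ω) : Zpr G a b x ≤ Zst G a b x y := by
  intro z hz
  have hz' : z ∈ Vst G a b x ⊓ Subgroup.centralizer (stabilizer G x : Set G) := hz
  rw [Subgroup.mem_inf, Subgroup.mem_centralizer_iff] at hz'
  show z ∈ Vst G a b x ⊓ Subgroup.centralizer (Tst G x y : Set G)
  rw [Subgroup.mem_inf, Subgroup.mem_centralizer_iff]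
  exact ⟨hz'.1, fun t ht => hz'.2 t ht.1⟩

theorem Zpr_comm {x : Ω} {z g : G} (hz : z ∈ Zpr G a b x) (hg : g ∈ stabilizer G x) :
    g * z = z * g := by
  have hz' : z ∈ Vst G a b x ⊓ Subgroup.centralizer (stabilizer G x : Set G) := hz
  rw [Subgroup.mem_inf, Subgroup.mem_centralizer_iff] at hz'
  exact hz'.2 g hg

theorem Zpr_le_Kst (x : Ω) : Zpr G a b x ≤ Kst G a b x := by
  intro z hz
  have hz' : z ∈ Vst G a b x ⊓ Subgroup.centralizer (stabilizer G x : Set G) := hz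
  exact Cfsg.Agent.Lib.Helper12_Sims_BEQUIV.Vst_le_Kst x hz'.1

/-- `Z'_x ∩ Z'_y = 1` for adjacent `x, y`. -/
theorem Zpr_inf_eq_bot (H : Hyp G a b) {x y : Ω} (h : Adj G a b x y) :
    Zpr G a b x ⊓ Zpr G a b y = ⊥ := by
  apply Cfsg.Agent.Lib.Helper91_Sims_BASE.normal_both H (Cfsg.Agent.Lib.Helper91_Sims_ARC.adj_ne H h)
  · intro z hz
    exact Cfsg.Agent.Lib.Helper12_Sims_BEQUIV.Kst_le_Tst h (Zpr_le_Kst x hz.1)
  · intro g hg z hz
    have e : g * z * g⁻¹ = z := by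
      rw [Zpr_comm hz.1 hg]; group
    rw [e]; exact hz
  · intro g hg z hz
    have e : g * z * g⁻¹ = z := by
      rw [Zpr_comm hz.2 hg]; group
    rw [e]; exact hz

/-- two subgroups with trivial intersection inside a finite subgroup -/
theorem card_mul_card_le {A B C : Subgroup G} [Finite G] (hA : A ≤ C) (hB : B ≤ C)
    (hAB : A ⊓ B = ⊥) : Nat.card A * Nat.card B ≤ Nat.card C := by
  rw [← Nat.card_prod]
  have hinj := Subgroup.mul_injective_of_disjoint (disjoint_iff.mpr hAB)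
  let f : A × B → C := fun p => ⟨(p.1 : G) * (p.2 : G), C.mul_mem (hA p.1.2) (hB p.2.2)⟩
  apply Nat.card_le_card_of_injective f
  intro p q hpq
  apply hinj
  exact congrArg Subtype.val hpq

theorem card_Zpr_all (H : Hyp G a b) (x y : Ω) :
    Nat.card (Zpr G a b x) = Nat.card (Zpr G a b y) := by
  obtain ⟨n, rfl⟩ := Cfsg.Agent.Lib.Helper91_Sims_BASE.trans H y x
  rw [Cfsg.Agent.Lib.Helper12_Sims_BEQUIV.Zpr_smul, Cfsg.Agent.Lib.Helper91_Sims_JCONJ.card_cj]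

theorem zsymm_ab_aux (H : Hyp G a b) (hc : Constrained G a b)
    (hstruct : Nat.card (Nst G a b a) = 4 ∧
      (∀ d ∈ stabilizer G a, orderOf d = 3 → ∀ v ∈ Nst G a b a, d * v = v * d → v = 1) ∧
      Nat.card (Vst G a b a) = Nat.card (Zpr G a b a) * 4 ∧
      (∀ y, Adj G a b a y → Nat.card (Rst G a b a y) = 2 ∧
        Nat.card (Vst G a b a) = 2 * Nat.card (Zst G a b a y))) :
    Zst G a b a b = Zst G a b b a ∧ Nat.card (Zpr G a b a) ≤ 2 := by
  have hab : Adj G a b a b := Or.inl Cfsg.Agent.Lib.Helper91_Sims_ARC.arc_ab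
  have hsymm := Zst_symm H hc hab
  refine ⟨hsymm, ?_⟩
  obtain ⟨-, -, hV, hRZ⟩ := hstruct
  have hZ := (hRZ b hab).2
  have := H.fin
  have h1 : Nat.card (Zpr G a b a) * Nat.card (Zpr G a b b) ≤ Nat.card (Zst G a b a b) := by
    apply card_mul_card_le (Zpr_le_Zst a b) _ (Zpr_inf_eq_bot H hab)
    rw [hsymm]
    exact Zpr_le_Zst b a
  rw [card_Zpr_all H b a] at h1
  have hpos : 0 < Nat.card (Zpr G a b a) := Nat.card_pos
  have h2 : Nat.card (Zst G a b a b) = 2 * Nat.card (Zpr G a b a) := by omega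
  rw [h2] at h1
  nlinarith

end PartS

end Cfsg.Agent.Lib.Helper91_Sims_FF5
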