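import Cfsg.Agent.Lib.Helper91_Sims_FF5
import Cfsg.Agent.Lib.Helper25_Sims_SFF4

/-!
# Sims package S-FF5 (architect helper13): `zsymm_ab`, verbatim.
-/

set_option autoImplicit false

namespace Cfsg.Agent.Lib.Helper91_Sims_SFF5

open MulAction Cfsg.Agent.Lib.Helper13_SimsDefs

section PartS
variable {G Ω : Type*} [Group G] [MulAction G Ω] {a b : Ω}

/-- S-FF5 (paper 3.1, 3.6): `C_{V_a}(T) = Ω₁Z(T) = C_{V_b}(T)` and `|Z'_a| ≤ 2`. -/
theorem zsymm_ab (H : Hyp G a b) (hS : ¬ A3case G a b) (hc : Constrained G a b) :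
    Zst G a b a b = Zst G a b b a ∧ Nat.card (Zpr G a b a) ≤ 2 :=
  Cfsg.Agent.Lib.Helper91_Sims_FF5.zsymm_ab_aux H hc
    (Cfsg.Agent.Lib.Helper25_Sims_SFF4.struct_a H hS hc)

end PartS

end Cfsg.Agent.Lib.Helper91_Sims_SFF5
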