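import Cfsg.Agent.Lib.Helper91_Sims_FF7
import Cfsg.Agent.Lib.Helper91_Sims_SFF5
import Cfsg.Agent.Lib.Helper25_Sims_SFF4
import Cfsg.Agent.Lib.Helper42_Sims_SFF6
import Cfsg.Agent.Lib.Helper86_Sims_SFF1
import Cfsg.Agent.Lib.Helper12_Sims_SK
import Cfsg.Agent.Lib.Helper10_Sims_STWO

/-!
# Sims package S-FF7 (architect helper13): the interface `FF`, verbatim.
-/

set_option autoImplicit false

namespace Cfsg.Agent.Lib.Helper91_Sims_SFF7

open MulAction Cfsg.Agent.Lib.Helper13_SimsDefs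

section PartS
variable {G Ω : Type*} [Group G] [MulAction G Ω] {a b : Ω}

/-- S-FF7: assembly of the interface (transport along `G`, both orientations). -/
theorem ff (H : Hyp G a b) (hS : ¬ A3case G a b) (hc : Constrained G a b) : FF G a b :=
  Cfsg.Agent.Lib.Helper91_Sims_FF7.ff_aux H Cfsg.Agent.Lib.Helper91_Sims_FF7.eqv
    (fun h => Cfsg.Agent.Lib.Helper10_Sims_STWO.two_group H h)
    (fun h => Cfsg.Agent.Lib.Helper12_Sims_SK.K_index H hS h)
    (Cfsg.Agent.Lib.Helper86_Sims_SFF1.cent_a H hS hc)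
    (Cfsg.Agent.Lib.Helper25_Sims_SFF4.struct_a H hS hc)
    (Cfsg.Agent.Lib.Helper91_Sims_SFF5.zsymm_ab H hS hc)
    (fun y y' hy hy' hR => Cfsg.Agent.Lib.Helper42_Sims_SFF6.g3_a H hS hc y y' hy hy' hR)

end PartS

end Cfsg.Agent.Lib.Helper91_Sims_SFF7
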