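import Mathlib
import Cfsg.Prelude.Def_Solvable
import Cfsg.Prelude.Def_CaseTheorems
import Cfsg.Agent.Lib.Helper84_TutteDefs
import Cfsg.Agent.Lib.Helper84_TutteAPI

/-!
# S4385 package ID-K (architect helper84): `K = XX 1 (s-2)` is the normal subgroup `Q0` of index 2 in `P`.
-/

set_option autoImplicit false

open scoped commutatorElement
open Cfsg.Agent.Lib.Helper84_TutteDefs

namespace Cfsg.Agent.Lib.Helper91_Tutte_IDK

variable {G : Type*} [Group G] {H : Subgroup G} {g x0 : G} {s lam : ℕ}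

/-- a normal 2-subgroup of `S` lies in every 2-subgroup of odd index of `S` -/
theorem normal_two_le_of_odd [Finite G] (S T C : Subgroup G) (hT : T ≤ S) (hC : C ≤ S)
    (h2 : IsPGroup 2 T) (hodd : ¬ 2 ∣ T.relIndex S) (hC2 : IsPGroup 2 C)
    (hn : ∀ u ∈ S, cj u C = C) : C ≤ T := by
  have hTN : T ≤ Subgroup.normalizer (C : Set G) := by
    intro t ht
    rw [Subgroup.mem_normalizer_iff]
    intro x
    have h1 := hn t (hT ht)
    constructor
    · intro hx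
      rw [← h1]
      exact conj_mem_cj hx
    · intro hx
      rw [← h1, mem_cj] at hx
      have e : t⁻¹ * (t * x * t⁻¹) * t = x := by group
      rwa [e] at hx
  have hD2 : IsPGroup 2 (C ⊔ T : Subgroup G) := IsPGroup.to_sup_of_normal_left' hC2 h2 hTN
  have hDS : C ⊔ T ≤ S := sup_le hC hT
  obtain ⟨m, hm⟩ := hD2.exists_card_eq
  obtain ⟨k, hk⟩ := h2.exists_card_eq
  have h1 : Nat.card (C ⊔ T : Subgroup G) ∣ Nat.card S := Subgroup.card_dvd_of_le hDS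
  rw [← card_mul_relIndex' hT, hm, hk] at h1
  have hcop : Nat.Coprime (2 ^ m) (T.relIndex S) := by
    apply Nat.Coprime.pow_left
    exact (Nat.Prime.coprime_iff_not_dvd Nat.prime_two).2 hodd
  have h3 : 2 ^ m ∣ 2 ^ k := hcop.dvd_of_dvd_mul_right h1
  have hle : Nat.card (C ⊔ T : Subgroup G) ≤ Nat.card T := by
    rw [hm, hk]; exact Nat.le_of_dvd (by positivity) h3
  have : T = C ⊔ T := Subgroup.eq_of_le_of_card_ge le_sup_right hle
  rw [this]; exact le_sup_left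

/-- ID-K (M), paper (3.0). -/
theorem K_eq [Finite G] (h : TSys H g x0 s) (Q0 : Subgroup G) (hP : XX g x0 0 ((s : ℤ) - 2) = H ⊓ cj g H)
    (hQ0P : Q0 ≤ H ⊓ cj g H) (hQ2 : Q0.relIndex (H ⊓ cj g H) = 2) (hQn : ∀ u ∈ H, cj u Q0 = Q0)
    (hsyl : ¬ 2 ∣ (H ⊓ cj g H).relIndex H) : XX g x0 1 ((s : ℤ) - 2) = Q0 := by
  obtain ⟨m, rfl⟩ : ∃ m, s = m + 2 := ⟨s - 2, by have := h.two_le; omega⟩
  have e2 : ((m + 2 : ℕ) : ℤ) - 2 = m := by push_cast; ring
  have e1 : ((m + 2 : ℕ) : ℤ) - 1 = m + 1 := by push_cast; ring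
  rw [e2] at hP ⊢
  -- the orders
  have cP : Nat.card (XX g x0 0 (m : ℤ)) = 2 ^ (m + 1) := by
    have := h.card_XX (i := 0) (j := (m : ℤ)) (by omega) (by push_cast; omega)
    have e : ((m : ℤ) + 1 - 0).toNat = m + 1 := by omega
    rw [this, e]
  have cP' : Nat.card (XX g x0 1 ((m : ℤ) + 1)) = 2 ^ (m + 1) := by
    have := h.card_XX (i := 1) (j := (m : ℤ) + 1) (by omega) (by push_cast; omega)
    have e : ((m : ℤ) + 1 + 1 - 1).toNat = m + 1 := by omega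
    rw [this, e]
  have cK : Nat.card (XX g x0 1 (m : ℤ)) = 2 ^ m := by
    have := h.card_XX (i := 1) (j := (m : ℤ)) (by omega) (by push_cast; omega)
    have e : ((m : ℤ) + 1 - 1).toNat = m := by omega
    rw [this, e]
  have hPH : XX g x0 0 (m : ℤ) ≤ H := by rw [hP]; exact inf_le_left
  have hP'H : XX g x0 1 ((m : ℤ) + 1) ≤ H := by
    apply h.XX_le_H (by omega)
    rw [e1]
  have h2P : IsPGroup 2 (XX g x0 0 (m : ℤ)) := IsPGroup.of_card cP
  have h2P' : IsPGroup 2 (XX g x0 1 ((m : ℤ) + 1)) := IsPGroup.of_card cP'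
  -- `P'` has odd index in `H`
  have hodd' : ¬ 2 ∣ (XX g x0 1 ((m : ℤ) + 1)).relIndex H := by
    have h1 := card_mul_relIndex' hPH
    have h2 := card_mul_relIndex' hP'H
    rw [cP] at h1
    rw [cP', ← h1] at h2
    have h3 : (XX g x0 1 ((m : ℤ) + 1)).relIndex H = (XX g x0 0 (m : ℤ)).relIndex H :=
      Nat.eq_of_mul_eq_mul_left (by positivity) h2
    rw [h3, hP]
    exact hsyl
  -- `Q0 ≤ P'`
  have hQ0P0 : Q0 ≤ XX g x0 0 (m : ℤ) := by rw [hP]; exact hQ0P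
  have h2Q : IsPGroup 2 Q0 := h2P.to_le hQ0P0
  have hQ0P' : Q0 ≤ XX g x0 1 ((m : ℤ) + 1) :=
    normal_two_le_of_odd H _ Q0 hP'H (hQ0P0.trans hPH) h2P' hodd' h2Q hQn
  -- `|Q0| = 2^m`
  have cQ : Nat.card Q0 = 2 ^ m := by
    have h1 := card_mul_relIndex' hQ0P
    rw [hQ2, ← hP, cP, pow_succ] at h1
    exact Nat.eq_of_mul_eq_mul_right (by norm_num) h1
  -- `P ⊓ P'` is a proper subgroup of `P`
  have hne : ¬ XX g x0 0 (m : ℤ) ≤ XX g x0 1 ((m : ℤ) + 1) := by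
    intro hle
    have heq : XX g x0 0 (m : ℤ) = XX g x0 1 ((m : ℤ) + 1) :=
      Subgroup.eq_of_le_of_card_ge hle (by rw [cP, cP'])
    apply h.not2
    have htop := h.top
    rw [e1, XX_succ_left (by omega : (0 : ℤ) ≤ (m : ℤ) + 1)] at htop
    have hx0 : Subgroup.zpowers (xs g x0 0) ≤ XX g x0 0 (m : ℤ) := by
      rw [Subgroup.zpowers_le]
      exact xs_mem_XX le_rfl (by omega)
    have hH : H = XX g x0 0 (m : ℤ) := by
      rw [← htop, zero_add, ← heq]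
      exact sup_eq_right.2 hx0
    rw [hH]
    exact h2P
  have cI : Nat.card (XX g x0 0 (m : ℤ) ⊓ XX g x0 1 ((m : ℤ) + 1) : Subgroup G) ≤ 2 ^ m := by
    have hdvd : Nat.card (XX g x0 0 (m : ℤ) ⊓ XX g x0 1 ((m : ℤ) + 1) : Subgroup G) ∣ 2 ^ (m + 1) := by
      rw [← cP]
      exact Subgroup.card_dvd_of_le inf_le_left
    obtain ⟨j, hj, hcj⟩ := (Nat.dvd_prime_pow Nat.prime_two).1 hdvd
    have hjm : j ≠ m + 1 := by
      intro hjm
      apply hne
      have : XX g x0 0 (m : ℤ) ⊓ XX g x0 1 ((m : ℤ) + 1) = XX g x0 0 (m : ℤ) :=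
        Subgroup.eq_of_le_of_card_ge inf_le_left (by rw [cP, hcj, hjm])
      rw [← this]
      exact inf_le_right
    rw [hcj]
    exact Nat.pow_le_pow_right (by norm_num) (by omega)
  have hKI : XX g x0 1 (m : ℤ) ≤ XX g x0 0 (m : ℤ) ⊓ XX g x0 1 ((m : ℤ) + 1) :=
    le_inf (XX_mono (by omega) le_rfl) (XX_mono le_rfl (by omega))
  have hQI : Q0 ≤ XX g x0 0 (m : ℤ) ⊓ XX g x0 1 ((m : ℤ) + 1) := le_inf hQ0P0 hQ0P'
  have eK : XX g x0 1 (m : ℤ) = XX g x0 0 (m : ℤ) ⊓ XX g x0 1 ((m : ℤ) + 1) :=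
    Subgroup.eq_of_le_of_card_ge hKI (by rw [cK]; exact cI)
  have eQ : Q0 = XX g x0 0 (m : ℤ) ⊓ XX g x0 1 ((m : ℤ) + 1) :=
    Subgroup.eq_of_le_of_card_ge hQI (by rw [cQ]; exact cI)
  rw [eK, ← eQ]

end Cfsg.Agent.Lib.Helper91_Tutte_IDK
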