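import Cfsg.Agent.Lib.Helper91_U3Leech
import Cfsg.Agent.Lib.Helper91_BlockAction3
import Cfsg.Agent.Lib.Helper61_SUTransfer
import Cfsg.Agent.Lib.Helper26_CfgHS352
import Cfsg.Agent.Lib.Helper26_HSPair
import Cfsg.Agent.Lib.Helper26_VecTransfer
import Cfsg.Agent.S0405
import Cfsg.Agent.S0280
import Cfsg.Agent.S0283

/-!
# The Higman-Sims group on 352 vectors; the point stabiliser is `PSU(3,5)`

helper91.  For two vectors `v, w` of type 3 with `v·w = -32` the 352 minimal vectors `x` with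
`v·x = 16`, `w·x = -24` form one orbit of the joint stabiliser (helper26's configuration
`CfgHS352`), so the stabiliser `KS` of the standard triple has order `44352000 / 352 = 126000`
(S0405).  Three words act on 126 pairs of vectors as three matrices of `SU(3,5)` act on the
isotropic points; the three base transvections of the closure certificate are words in these
matrices, so the image of `SU(3,5)` lies in the image of `H1 ≤ KS`; the common-action lemma gives
`H1 ≃* PSU(3,5)`, and `H1 = KS` by orders.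
-/

set_option autoImplicit false
open Cfsg

namespace Cfsg.Agent.Lib.Helper91_U3Final

open Cfsg.Agent.Lib.Helper7_Xi Cfsg.Agent.Lib.Helper91_LeechWord Cfsg.Agent.Lib.Helper91_LeechOrb
  Cfsg.Agent.Lib.Helper91_LeechGlue Cfsg.Agent.Lib.Helper91_FamAct
  Cfsg.Agent.Lib.Helper91_U3Data Cfsg.Agent.Lib.Helper91_U3Leech Cfsg.Agent.Lib.Helper91_K25
  Cfsg.Agent.Lib.Helper91_U3Pts Cfsg.Agent.Lib.Helper91_U3Theta Cfsg.Agent.Lib.Helper91_U3Closure
  Cfsg.Agent.Lib.Helper91_BlockAction3 Matrix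

/-! ### elements of `SU(3,5)` from matrices -/

/-- column orthonormality -/
def Cols (M : M3) : Prop :=
  ∀ i j : Fin 3, M 0 i * K25.cj (M 0 j) + M 1 i * K25.cj (M 1 j) + M 2 i * K25.cj (M 2 j) =
    if i = j then 1 else 0

instance (M : M3) : Decidable (Cols M) := by
  unfold Cols; infer_instance

theorem cj_add : ∀ x y : K25, K25.cj (x + y) = K25.cj x + K25.cj y := by decide +kernel

theorem cj_mul : ∀ x y : K25, K25.cj (x * y) = K25.cj x * K25.cj y := by decide +kernel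

theorem mem_SU_of_cols (g : SpecialLinearGroup (Fin 3) K25) (H : Cols g.1) :
    g ∈ Cfsg.SU 3 K25 5 := by
  rw [Cfsg.Agent.Lib.Helper61_SUTransfer.mem_SU_iff]
  intro u v
  generalize g.1 = M at H
  have h00 := H 0 0
  have h01 := H 0 1
  have h02 := H 0 2
  have h10 := H 1 0
  have h11 := H 1 1
  have h12 := H 1 2
  have h20 := H 2 0
  have h21 := H 2 1
  have h22 := H 2 2
  simp only [Fin.isValue, if_true, Fin.reduceEq, if_false] at h00 h01 h02 h10 h11 h12 h20 h21 h22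
  unfold Cfsg.hermForm
  simp only [Matrix.mulVec, dotProduct, Fin.sum_univ_three, K25.pow_five, cj_add, cj_mul]
  linear_combination (u 0 * K25.cj (v 0)) * h00 + (u 0 * K25.cj (v 1)) * h01 +
    (u 0 * K25.cj (v 2)) * h02 + (u 1 * K25.cj (v 0)) * h10 + (u 1 * K25.cj (v 1)) * h11 +
    (u 1 * K25.cj (v 2)) * h12 + (u 2 * K25.cj (v 0)) * h20 + (u 2 * K25.cj (v 1)) * h21 +
    (u 2 * K25.cj (v 2)) * h22

/-- the determinant of a `3 × 3` matrix, written out -/
def det3 (M : M3) : K25 :=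
  M 0 0 * M 1 1 * M 2 2 - M 0 0 * M 1 2 * M 2 1 - M 0 1 * M 1 0 * M 2 2 + M 0 1 * M 1 2 * M 2 0 +
    M 0 2 * M 1 0 * M 2 1 - M 0 2 * M 1 1 * M 2 0

theorem det3_eq (M : M3) : M.det = det3 M := Matrix.det_fin_three M

/-- an element of `SU(3,5)` from a matrix -/
def mkSU3 (M : M3) (hdet : det3 M = 1) (H : Cols M) : SU3 :=
  ⟨⟨M, by rw [det3_eq]; exact hdet⟩, mem_SU_of_cols _ H⟩

theorem toM_mkSU3 (M : M3) (hdet : det3 M = 1) (H : Cols M) : toM (mkSU3 M hdet H) = M := rfl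

/-- the matrix matching the first word -/
def M0 : M3 := !![⟨15⟩, ⟨20⟩, ⟨18⟩; ⟨20⟩, ⟨24⟩, ⟨9⟩; ⟨17⟩, ⟨3⟩, ⟨17⟩]

/-- the matrix matching the second word -/
def M1 : M3 := !![⟨14⟩, ⟨7⟩, ⟨18⟩; ⟨1⟩, ⟨18⟩, ⟨2⟩; ⟨7⟩, ⟨5⟩, ⟨17⟩]

/-- the matrix matching the third word -/
def M2 : M3 := !![⟨5⟩, ⟨9⟩, ⟨3⟩; ⟨6⟩, ⟨19⟩, ⟨9⟩; ⟨6⟩, ⟨6⟩, ⟨5⟩]

theorem M0_facts : det3 M0 = 1 ∧ Cols M0 := by decide +kernel

theorem M1_facts : det3 M1 = 1 ∧ Cols M1 := by decide +kernel

theorem M2_facts : det3 M2 = 1 ∧ Cols M2 := by decide +kernel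

/-- the three elements of `SU(3,5)` -/
def A0 : SU3 := mkSU3 M0 M0_facts.1 M0_facts.2

def A1 : SU3 := mkSU3 M1 M1_facts.1 M1_facts.2

def A2 : SU3 := mkSU3 M2 M2_facts.1 M2_facts.2

theorem toM_A0 : toM A0 = M0 := rfl

theorem toM_A1 : toM A1 = M1 := rfl

theorem toM_A2 : toM A2 = M2 := rfl

/-! ### the three words -/

theorem ok0 : stabW [VL, WL, XL] W0 = true := by decide +kernel

theorem ok1 : stabW [VL, WL, XL] W1 = true := by decide +kernel

theorem ok2 : stabW [VL, WL, XL] W2 = true := by decide +kernel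

theorem cA0 : chkA W0 SG0 TA 0 = true := by decide +kernel

theorem cA1 : chkA W1 SG1 TA 0 = true := by decide +kernel

theorem cA2 : chkA W2 SG2 TA 0 = true := by decide +kernel

theorem cQ0 : chkQ SG0 M0 252 = true := by decide +kernel

theorem cQ1 : chkQ SG1 M1 252 = true := by decide +kernel

theorem cQ2 : chkQ SG2 M2 252 = true := by decide +kernel

theorem gen0 : thetaX A0 ∈ rho.range := by
  obtain ⟨h, hh⟩ := gen_exists W0 SG0 A0 ok0 cA0 cQ0
  exact ⟨h, hh⟩

theorem gen1 : thetaX A1 ∈ rho.range := by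
  obtain ⟨h, hh⟩ := gen_exists W1 SG1 A1 ok1 cA1 cQ1
  exact ⟨h, hh⟩

theorem gen2 : thetaX A2 ∈ rho.range := by
  obtain ⟨h, hh⟩ := gen_exists W2 SG2 A2 ok2 cA2 cQ2
  exact ⟨h, hh⟩

/-! ### the base transvections -/

/-- the image of the `p`-th isotropic point under the transvection with centre `v` -/
def tauN (v : V) (p : ℕ) : ℕ := (nrm (tv v (pt (Fin.ofNat 652 p)))).val

theorem thetaX_T_val (v : V) (hv : hf v v = 0) (p : Fin 126) :
    (thetaX (T v hv) p).val = tauN v p.val := by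
  have h := thetaX_spec (T v hv) p
  rw [theta_T] at h
  have h2 := congrArg Fin.val h
  have e : iota p = Fin.ofNat 652 p.val := by
    apply Fin.ext
    rw [Fin.val_ofNat, Nat.mod_eq_of_lt (lt_trans p.2 (by norm_num))]
    rfl
  rw [e] at h2
  exact h2

theorem iso0 : hf (dec 3366) (dec 3366) = 0 := by decide +kernel

theorem iso1 : hf (dec 1126) (dec 1126) = 0 := by decide +kernel

theorem iso2 : hf (dec 1545) (dec 1545) = 0 := by decide +kernel

theorem chk0 : ∀ p : Fin 126, tauN (dec 3366) p.val = act3 M2 (act3 M2 p.val) := by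
  decide +kernel

theorem chk1 : ∀ p : Fin 126, tauN (dec 1126) p.val =
    act3 M0 (act3 M0 (act3 M0 (act3 M2 (act3 M2 (act3 M0 p.val))))) := by
  decide +kernel

theorem chk2 : ∀ p : Fin 126, tauN (dec 1545) p.val =
    act3 M0 (act3 M0 (act3 M2 (act3 M2 (act3 M0 (act3 M0 p.val))))) := by
  decide +kernel

theorem eq0 : thetaX (T (dec 3366) iso0) = thetaX A2 * thetaX A2 := by
  ext p
  rw [thetaX_T_val]
  simp only [Equiv.Perm.mul_apply, thetaX_val, toM_A2]
  exact chk0 p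

theorem eq1 : thetaX (T (dec 1126) iso1) =
    thetaX A0 * thetaX A0 * thetaX A0 * thetaX A2 * thetaX A2 * thetaX A0 := by
  ext p
  rw [thetaX_T_val]
  simp only [Equiv.Perm.mul_apply, thetaX_val, toM_A0, toM_A2]
  exact chk1 p

theorem eq2 : thetaX (T (dec 1545) iso2) =
    thetaX A0 * thetaX A0 * thetaX A2 * thetaX A2 * thetaX A0 * thetaX A0 := by
  ext p
  rw [thetaX_T_val]
  simp only [Equiv.Perm.mul_apply, thetaX_val, toM_A0, toM_A2]
  exact chk2 p

theorem base_mem : ∀ n ∈ baseCodes, ∃ h : hf (dec n) (dec n) = 0,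
    thetaX (T (dec n) h) ∈ rho.range := by
  intro n hn
  simp only [baseCodes, List.mem_cons, List.not_mem_nil, or_false] at hn
  rcases hn with rfl | rfl | rfl
  · refine ⟨iso0, ?_⟩
    rw [eq0]
    exact mul_mem gen2 gen2
  · refine ⟨iso1, ?_⟩
    rw [eq1]
    exact mul_mem (mul_mem (mul_mem (mul_mem (mul_mem gen0 gen0) gen0) gen2) gen2) gen0
  · refine ⟨iso2, ?_⟩
    rw [eq2]
    exact mul_mem (mul_mem (mul_mem (mul_mem (mul_mem gen0 gen0) gen2) gen2) gen0) gen0

theorem tau_ne : tauN (dec 3366) (tauN (dec 1126) 0) ≠ tauN (dec 1126) (tauN (dec 3366) 0) := by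
  decide +kernel

theorem noncomm : thetaX (T (dec 3366) iso0) * thetaX (T (dec 1126) iso1) ≠
    thetaX (T (dec 1126) iso1) * thetaX (T (dec 3366) iso0) := by
  intro h
  have h1 := congrArg (fun σ : Equiv.Perm (Fin 126) => (σ 0).val) h
  simp only [Equiv.Perm.mul_apply] at h1
  rw [thetaX_T_val, thetaX_T_val, thetaX_T_val, thetaX_T_val] at h1
  exact tau_ne h1

/-! ### the 352 vectors -/

/-- the 352 vectors attached to a pair -/
def S352 (v w : leechLattice) : Set leechLattice :=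
  {x : leechLattice | sqNorm (x : GolayPt → ℤ) = 32 ∧
    dotInt (v : GolayPt → ℤ) (x : GolayPt → ℤ) = 16 ∧
    dotInt (w : GolayPt → ℤ) (x : GolayPt → ℤ) = -24}

theorem con1_k : Cfsg.Agent.Lib.Helper26_CfgHS352.con1.k = 16 := by decide +kernel

theorem con2_k : Cfsg.Agent.Lib.Helper26_CfgHS352.con2.k = -24 := by decide +kernel

theorem part13 (v w : leechLattice) (hv : sqNorm (v : GolayPt → ℤ) = 48)
    (hw : sqNorm (w : GolayPt → ℤ) = 48)
    (hvw : dotInt (v : GolayPt → ℤ) (w : GolayPt → ℤ) = -32) :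
    (S352 v w).ncard = 352 ∧ ∀ x ∈ S352 v w, ∀ x' ∈ S352 v w,
      ∃ g : Co0, g • v = v ∧ g • w = w ∧ g • x = x' := by
  obtain ⟨h, h1, h2⟩ := Cfsg.Agent.Lib.Helper26_HSPair.to_std v w hv hw hvw
  have := Cfsg.Agent.Lib.Helper26_VecCode.apply_two Cfsg.Agent.Lib.Helper26_CfgHS352.con1
    Cfsg.Agent.Lib.Helper26_CfgHS352.con2 352 Cfsg.Agent.Lib.Helper26_CfgHS352.std h.1 h.2 v w h1 h2
  rw [con1_k, con2_k] at this
  exact this

theorem part2 (v w : leechLattice) (hw : sqNorm (w : GolayPt → ℤ) = 48)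
    (hvw : dotInt (v : GolayPt → ℤ) (w : GolayPt → ℤ) = -32) :
    ∀ x ∈ S352 v w, -w - x ∈ S352 v w := by
  intro x hx
  obtain ⟨h1, h2, h3⟩ := hx
  have e : ((-w - x : leechLattice) : GolayPt → ℤ) =
      -((w : GolayPt → ℤ) + (x : GolayPt → ℤ)) := by
    rw [neg_add']
    rfl
  refine ⟨?_, ?_, ?_⟩
  · rw [e, Cfsg.Agent.Lib.Helper26_HSPair.norm_neg_add, hw, h1, h3]
    norm_num
  · rw [e, Cfsg.Agent.Lib.Helper26_HSPair.dot_neg_add, hvw, h2]
    norm_num
  · rw [e, Cfsg.Agent.Lib.Helper26_HSPair.dot_neg_add, Cfsg.Agent.Lib.Helper26_HSPair.dot_self, hw,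
      h3]
    norm_num

/-! ### the order of the stabiliser -/

theorem vS_norm : sqNorm (vS : GolayPt → ℤ) = 48 := by
  show sqNorm (vecL VL) = 48
  decide +kernel

theorem wS_norm : sqNorm (wS : GolayPt → ℤ) = 48 := by
  show sqNorm (vecL WL) = 48
  decide +kernel

theorem vwS_dot : dotInt (vS : GolayPt → ℤ) (wS : GolayPt → ℤ) = -32 := by
  show dotInt (vecL VL) (vecL WL) = -32
  decide +kernel

theorem xS_mem : xS ∈ S352 vS wS := by
  refine ⟨?_, ?_, ?_⟩
  · show sqNorm (vecL XL) = 32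
    decide +kernel
  · show dotInt (vecL VL) (vecL XL) = 16
    decide +kernel
  · show dotInt (vecL WL) (vecL XL) = -24
    decide +kernel

/-- the stabiliser of the standard pair -/
abbrev HSp : Subgroup Co0 := MulAction.stabilizer Co0 vS ⊓ MulAction.stabilizer Co0 wS

theorem card_HSp : Nat.card HSp = 44352000 :=
  (Cfsg.Agent.S0405.result vS wS vS_norm wS_norm vwS_dot).2

theorem orbit_eq : MulAction.orbit HSp xS = S352 vS wS := by
  ext y
  constructor
  · rintro ⟨g, rfl⟩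
    have hV : (g : Co0) • vS = vS := (Subgroup.mem_inf.mp g.2).1
    have hW : (g : Co0) • wS = wS := (Subgroup.mem_inf.mp g.2).2
    obtain ⟨h1, h2, h3⟩ := xS_mem
    refine ⟨?_, ?_, ?_⟩
    · show sqNorm (((g : Co0) • xS : leechLattice) : GolayPt → ℤ) = 32
      rw [sqNorm_smul]; exact h1
    · show dotInt (vS : GolayPt → ℤ) (((g : Co0) • xS : leechLattice) : GolayPt → ℤ) = 16
      have := dotInt_smul (g : Co0) vS xS
      rw [hV] at this
      exact this.trans h2
    · show dotInt (wS : GolayPt → ℤ) (((g : Co0) • xS : leechLattice) : GolayPt → ℤ) = -24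
      have := dotInt_smul (g : Co0) wS xS
      rw [hW] at this
      exact this.trans h3
  · intro hy
    obtain ⟨g, hg1, hg2, hg3⟩ := (part13 vS wS vS_norm wS_norm vwS_dot).2 xS xS_mem y hy
    exact ⟨⟨g, Subgroup.mem_inf.mpr ⟨hg1, hg2⟩⟩, hg3⟩

/-- the stabiliser of `xS` in `HSp` is `KS` -/
def stabEquiv : KS ≃ MulAction.stabilizer HSp xS where
  toFun h := ⟨⟨h.1, (Subgroup.mem_inf.mp h.2).1⟩, (Subgroup.mem_inf.mp h.2).2⟩
  invFun k := ⟨k.1.1, Subgroup.mem_inf.mpr ⟨k.1.2, k.2⟩⟩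
  left_inv _ := rfl
  right_inv _ := rfl

theorem card_KS : Nat.card KS = 126000 := by
  rw [Nat.card_congr stabEquiv]
  have h1 := MulAction.index_stabilizer HSp xS
  rw [orbit_eq, (part13 vS wS vS_norm wS_norm vwS_dot).1] at h1
  have h2 := Subgroup.card_mul_index (MulAction.stabilizer HSp xS)
  rw [h1, card_HSp] at h2
  exact Nat.eq_of_mul_eq_mul_right (by norm_num : 0 < 352) (h2.trans (by norm_num))

instance : Finite KS := Nat.finite_of_card_ne_zero (by rw [card_KS]; norm_num)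

/-! ### the unitary group -/

theorem card_PSU : Nat.card (Cfsg.PSU 3 K25 5) = 126000 := by
  have h := Cfsg.Agent.S0280.result (F := K25) cardK25 3 (by norm_num)
  have hg : Nat.gcd 3 (5 + 1) = 3 := by decide
  rw [hg] at h
  have hp : ∏ i ∈ Finset.range 3, (if Even i then 5 ^ (i + 1) + 1 else 5 ^ (i + 1) - 1) =
      6 * 24 * 126 := by
    simp only [Finset.prod_range_succ, Finset.prod_range_zero]
    norm_num [Nat.even_iff]
  rw [hp] at h
  have h2 : 3 * ((5 + 1) * Nat.card (Cfsg.PSU 3 K25 5)) = 3 * ((5 + 1) * 126000) := by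
    rw [h]; norm_num
  exact Nat.eq_of_mul_eq_mul_left (by norm_num) (Nat.eq_of_mul_eq_mul_left (by norm_num) h2)

theorem simple_PSU : IsSimpleGroup (Cfsg.PSU 3 K25 5) :=
  Cfsg.Agent.S0283.result (F := K25) cardK25 3 (by norm_num) (by norm_num)

/-! ### the identification -/

theorem H1_iso : Nonempty (↥H1 ≃* Cfsg.PSU 3 K25 5) := by
  have := simple_PSU
  have hfin : Finite ↥H1 := inferInstance
  have hfinN : Finite SU3 := inferInstance
  have hc : ∀ n ∈ (QuotientGroup.mk' (Subgroup.center SU3)).ker, ∀ m : SU3, n * m = m * n := by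
    intro n hn m
    rw [QuotientGroup.ker_mk'] at hn
    exact (Subgroup.mem_center_iff.mp hn m).symm
  have hcard : Nat.card ↥H1 ≤ Nat.card (Cfsg.PSU 3 K25 5) := by
    rw [card_PSU, ← card_KS]
    exact (Subgroup.card_le_card_group H1).trans (Subgroup.card_le_card_group H0)
  exact iso_of_common_action_quot rho (QuotientGroup.mk' (Subgroup.center SU3))
    (QuotientGroup.mk'_surjective _) hc thetaX _ _ noncomm (thetaX_range_le rho.range base_mem) hcard

theorem KS_iso : Nonempty (↥KS ≃* Cfsg.PSU 3 K25 5) := by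
  obtain ⟨e⟩ := H1_iso
  have hc1 : Nat.card ↥H1 = 126000 := by rw [Nat.card_congr e.toEquiv, card_PSU]
  let ι : ↥H1 →* ↥KS := H0.subtype.comp H1.subtype
  have hinj : Function.Injective ι :=
    (Subgroup.subtype_injective H0).comp (Subgroup.subtype_injective H1)
  have hbij : Function.Bijective ι :=
    hinj.bijective_of_nat_card_le (by rw [hc1, card_KS])
  exact ⟨(MulEquiv.ofBijective ι hbij).symm.trans e⟩

/-! ### an arbitrary triple -/

/-- conjugating a joint stabiliser of three points -/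
theorem conj_stab3 {G α : Type*} [Group G] [MulAction G α] (g : G) (a b c : α) :
    Nonempty (↥(MulAction.stabilizer G a ⊓ MulAction.stabilizer G b ⊓ MulAction.stabilizer G c) ≃*
      ↥(MulAction.stabilizer G (g • a) ⊓ MulAction.stabilizer G (g • b) ⊓
        MulAction.stabilizer G (g • c))) := by
  have e : (MulAction.stabilizer G a ⊓ MulAction.stabilizer G b ⊓ MulAction.stabilizer G c).map
      (MulAut.conj g).toMonoidHom =
      MulAction.stabilizer G (g • a) ⊓ MulAction.stabilizer G (g • b) ⊓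
        MulAction.stabilizer G (g • c) := by
    ext k
    simp only [Subgroup.mem_map, Subgroup.mem_inf, MulAction.mem_stabilizer_iff,
      MulEquiv.coe_toMonoidHom, MulAut.conj_apply]
    constructor
    · rintro ⟨h, ⟨⟨ha, hb⟩, hc⟩, rfl⟩
      refine ⟨⟨?_, ?_⟩, ?_⟩
      · rw [mul_smul, mul_smul, inv_smul_smul, ha]
      · rw [mul_smul, mul_smul, inv_smul_smul, hb]
      · rw [mul_smul, mul_smul, inv_smul_smul, hc]
    · rintro ⟨⟨ha, hb⟩, hc⟩
      refine ⟨g⁻¹ * k * g, ⟨⟨?_, ?_⟩, ?_⟩, by group⟩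
      · rw [mul_smul, mul_smul, ha, inv_smul_smul]
      · rw [mul_smul, mul_smul, hb, inv_smul_smul]
      · rw [mul_smul, mul_smul, hc, inv_smul_smul]
  exact ⟨((MulAut.conj g).subgroupMap _).trans (MulEquiv.subgroupCongr e)⟩

theorem triple_std (v w x : leechLattice) (hv : sqNorm (v : GolayPt → ℤ) = 48)
    (hw : sqNorm (w : GolayPt → ℤ) = 48)
    (hvw : dotInt (v : GolayPt → ℤ) (w : GolayPt → ℤ) = -32) (hx : x ∈ S352 v w) :
    ∃ g : Co0, g • vS = v ∧ g • wS = w ∧ g • xS = x := by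
  obtain ⟨h, h1, h2⟩ := Cfsg.Agent.Lib.Helper26_HSPair.pair_trans vS wS v w vS_norm wS_norm
    vwS_dot hv hw hvw
  have h1' : h • vS = v := h1
  have h2' : h • wS = w := h2
  obtain ⟨hx1, hx2, hx3⟩ := hx
  have hx' : h⁻¹ • x ∈ S352 vS wS := by
    refine ⟨?_, ?_, ?_⟩
    · show sqNorm ((h⁻¹ • x : leechLattice) : GolayPt → ℤ) = 32
      rw [sqNorm_smul]; exact hx1
    · show dotInt (vS : GolayPt → ℤ) ((h⁻¹ • x : leechLattice) : GolayPt → ℤ) = 16
      have := dotInt_smul h⁻¹ v x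
      rw [← h1', inv_smul_smul] at this
      rw [this, h1']
      exact hx2
    · show dotInt (wS : GolayPt → ℤ) ((h⁻¹ • x : leechLattice) : GolayPt → ℤ) = -24
      have := dotInt_smul h⁻¹ w x
      rw [← h2', inv_smul_smul] at this
      rw [this, h2']
      exact hx3
  obtain ⟨g, hg1, hg2, hg3⟩ := (part13 vS wS vS_norm wS_norm vwS_dot).2 xS xS_mem _ hx'
  refine ⟨h * g, ?_, ?_, ?_⟩
  · rw [mul_smul, hg1, h1']
  · rw [mul_smul, hg2, h2']
  · rw [mul_smul, hg3, smul_inv_smul]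

theorem part4 (v w : leechLattice) (hv : sqNorm (v : GolayPt → ℤ) = 48)
    (hw : sqNorm (w : GolayPt → ℤ) = 48)
    (hvw : dotInt (v : GolayPt → ℤ) (w : GolayPt → ℤ) = -32)
    (F : Type) [Field F] [Fintype F] (hF : Fintype.card F = 25) :
    ∀ x ∈ S352 v w, Nonempty (↥(MulAction.stabilizer Co0 v ⊓ MulAction.stabilizer Co0 w ⊓
      MulAction.stabilizer Co0 x) ≃* Cfsg.PSU 3 F 5) := by
  intro x hx
  obtain ⟨g, hgv, hgw, hgx⟩ := triple_std v w x hv hw hvw hx
  obtain ⟨e1⟩ := conj_stab3 g vS wS xS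
  rw [hgv, hgw, hgx] at e1
  obtain ⟨e2⟩ := KS_iso
  have e3 : K25 ≃+* F := FiniteField.ringEquivOfCardEq (by rw [K25.card, hF])
  exact ⟨e1.symm.trans (e2.trans (Cfsg.Agent.Lib.Helper61_SUTransfer.psuEquiv e3))⟩

end Cfsg.Agent.Lib.Helper91_U3Final
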