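import Mathlib
import Cfsg.Agent.Lib.Helper91_U3Pts
import Cfsg.Agent.Lib.Helper28_CommonAct
import Cfsg.Agent.Lib.Helper14_PSUKer

/-!
# The permutation representation of `SU(3,5)` on the points of `PG(2,25)`

helper91, after helper28's `Helper28_U6Theta`.  `theta : SU 3 K25 5 →* Perm (Fin 652)`, its
restriction `thetaX` to the 126 isotropic points, the transvections `T v` and the conjugation
formula.
-/

set_option autoImplicit false

namespace Cfsg.Agent.Lib.Helper91_U3Theta

open Cfsg.Agent.Lib.Helper91_K25 Cfsg.Agent.Lib.Helper91_U3Pts Cfsg.Agent.Lib.Helper28_CommonAct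
  Matrix Cfsg.Agent.Lib.Helper13_Herm Cfsg.Agent.Lib.Helper5_GUOrder
  Cfsg.Agent.Lib.Helper5_SUCenter Cfsg.Agent.Lib.Helper14_PSUKer

/-- the matrices -/
abbrev M3 : Type := Matrix (Fin 3) (Fin 3) K25

/-- the special unitary group -/
abbrev SU3 : Type := ↥(Cfsg.SU 3 K25 5)

theorem cardK25 : Fintype.card K25 = 5 ^ 2 := by rw [K25.card]; norm_num

/-- the action of a matrix on the 652 "points" -/
def actM (A : M3) (i : Fin 652) : Fin 652 := nrm (A *ᵥ pt i)

theorem actM_one : actM 1 = id := by
  funext i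
  simp only [actM, Matrix.one_mulVec, nrm_pt, id]

theorem actM_mul (A B : M3) : actM (A * B) = actM A ∘ actM B := by
  funext i
  simp only [actM, Function.comp]
  obtain ⟨s, hs, h⟩ := pt_nrm (B *ᵥ pt i)
  rw [h, Matrix.mulVec_smul, nrm_smul _ _ hs, Matrix.mulVec_mulVec]

/-- the action as a monoid homomorphism into the endomorphisms of `Fin 652` -/
def thetaEnd : M3 →* Function.End (Fin 652) where
  toFun := actM
  map_one' := actM_one
  map_mul' := actM_mul

/-- the underlying matrix -/
def toM : SU3 →* M3 := (Cfsg.slToMat 3 K25).comp (Cfsg.SU 3 K25 5).subtype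

/-- the permutation representation of the special unitary group -/
def theta : SU3 →* Equiv.Perm (Fin 652) := MonoidHom.toHomPerm (thetaEnd.comp toM)

theorem theta_apply (A : SU3) (i : Fin 652) : theta A i = nrm (toM A *ᵥ pt i) := rfl

/-- the hermitian form, written out -/
def hf (x v : V) : K25 :=
  x 0 * K25.cj (v 0) + x 1 * K25.cj (v 1) + x 2 * K25.cj (v 2)

theorem hermForm_eq_hf (x v : V) : Cfsg.hermForm 3 K25 5 x v = hf x v := by
  unfold Cfsg.hermForm hf
  simp only [Fin.sum_univ_three, K25.pow_five]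

/-- the scalar of the transvections: `s`, of trace zero -/
def c0 : K25 := ⟨5⟩

/-- the transvection map -/
def tv (u x : V) : V := x + (c0 * hf x u) • u

theorem toM_preserves (A : SU3) (x y : V) : hf (toM A *ᵥ x) (toM A *ᵥ y) = hf x y := by
  rw [← hermForm_eq_hf, ← hermForm_eq_hf]
  exact A.2 x y

theorem toM_injective (A : SU3) (x : V) (h : toM A *ᵥ x = 0) : x = 0 := by
  have : toM A⁻¹ *ᵥ (toM A *ᵥ x) = x := by
    rw [Matrix.mulVec_mulVec, ← map_mul, inv_mul_cancel, map_one, Matrix.one_mulVec]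
  rw [← this, h, Matrix.mulVec_zero]

/-- the transvection with centre `v` -/
def T (v : V) (hv : hf v v = 0) : SU3 :=
  tvSU cardK25 v c0 (by rw [hermForm_eq_hf]; exact hv) (by decide +kernel)

theorem toM_T (v : V) (hv : hf v v = 0) : toM (T v hv) = Cfsg.unitaryTransvection 3 5 v c0 := rfl

theorem T_mulVec (v : V) (hv : hf v v = 0) (x : V) : toM (T v hv) *ᵥ x = tv v x := by
  rw [toM_T, unitaryTransvection_mulVec, hermForm_eq_hf]
  rfl

theorem theta_T (v : V) (hv : hf v v = 0) (i : Fin 652) :
    theta (T v hv) i = nrm (tv v (pt i)) := by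
  rw [theta_apply, T_mulVec]

theorem hf_tv (u x : V) (hu : hf u u = 0) (hx : hf x x = 0) : hf (tv u x) (tv u x) = 0 := by
  rw [← T_mulVec u hu, toM_preserves]
  exact hx

theorem ext_toM (A B : SU3) (h : toM A = toM B) : A = B := by
  apply Subtype.ext
  apply Subtype.ext
  exact h

/-- conjugating a transvection by a transvection -/
theorem T_conj (u x : V) (hu : hf u u = 0) (hx : hf x x = 0) :
    T u hu * T x hx * (T u hu)⁻¹ = T (tv u x) (hf_tv u x hu hx) := by
  rw [mul_inv_eq_iff_eq_mul]
  apply ext_toM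
  apply Matrix.mulVec_injective
  funext y
  show toM (T u hu * T x hx) *ᵥ y = toM (T (tv u x) (hf_tv u x hu hx) * T u hu) *ᵥ y
  rw [map_mul, map_mul, ← Matrix.mulVec_mulVec, ← Matrix.mulVec_mulVec, T_mulVec, T_mulVec,
    T_mulVec, T_mulVec]
  have h1 : tv u (tv x y) = tv u y + (c0 * hf y x) • tv u x := by
    rw [← T_mulVec u hu, ← T_mulVec u hu, ← T_mulVec u hu]
    show toM (T u hu) *ᵥ (y + (c0 * hf y x) • x) = _
    rw [Matrix.mulVec_add, Matrix.mulVec_smul]
  rw [h1]
  show _ = tv u y + (c0 * hf (tv u y) (tv u x)) • tv u x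
  rw [← T_mulVec u hu y, ← T_mulVec u hu x, toM_preserves]

/-! ### the restriction to the isotropic points -/

/-- inclusion of the isotropic indices -/
def iota (i : Fin 126) : Fin 652 := Fin.castLE (by norm_num) i

theorem iota_injective : Function.Injective iota := Fin.castLE_injective (by norm_num)

set_option maxRecDepth 100000 in
theorem pt_iso : ∀ i : Fin 652, i.val < 126 → hf (pt i) (pt i) = 0 ∧ pt i ≠ 0 := by
  decide +kernel

set_option maxRecDepth 100000 in
theorem iso_nrm_mkV : ∀ a b c : K25,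
    hf (mkV a b c) (mkV a b c) = 0 → mkV a b c ≠ 0 →
      (nrm (mkV a b c)).val < 126 := by
  decide +kernel

theorem iso_nrm (v : V) (h0 : hf v v = 0) (hne : v ≠ 0) : (nrm v).val < 126 := by
  rw [← mkV_eta v] at h0 hne ⊢
  exact iso_nrm_mkV _ _ _ h0 hne

theorem theta_inv (A : SU3) (i : Fin 126) : ∃ j : Fin 126, theta A (iota i) = iota j := by
  obtain ⟨h1, h2⟩ := pt_iso (iota i) i.2
  have h3 : hf (toM A *ᵥ pt (iota i)) (toM A *ᵥ pt (iota i)) = 0 := by
    rw [toM_preserves]; exact h1
  have h4 : toM A *ᵥ pt (iota i) ≠ 0 := fun h => h2 (toM_injective A _ h)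
  exact ⟨⟨_, iso_nrm _ h3 h4⟩, Fin.ext rfl⟩

/-- the action on the 126 isotropic points -/
noncomputable def thetaX : SU3 →* Equiv.Perm (Fin 126) :=
  restr theta iota iota_injective theta_inv

theorem thetaX_spec (A : SU3) (i : Fin 126) : iota (thetaX A i) = theta A (iota i) :=
  restr_spec theta iota iota_injective theta_inv A i

end Cfsg.Agent.Lib.Helper91_U3Theta
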