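import Mathlib
import Cfsg.Agent.Lib.Helper91_U3Theta

/-!
# The kernel of the action of `SU(3,5)` on the 126 isotropic points is the centre

helper91, after helper28's `Helper28_U6Theta.thetaX_ker`.
-/

set_option autoImplicit false

namespace Cfsg.Agent.Lib.Helper91_U3Ker

open Cfsg.Agent.Lib.Helper91_K25 Cfsg.Agent.Lib.Helper91_U3Pts Cfsg.Agent.Lib.Helper91_U3Theta
  Cfsg.Agent.Lib.Helper28_CommonAct Matrix Cfsg.Agent.Lib.Helper13_Herm
  Cfsg.Agent.Lib.Helper5_GUOrder Cfsg.Agent.Lib.Helper5_SUCenter Cfsg.Agent.Lib.Helper14_PSUKer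

/-- the kernel of the action on the isotropic points is the centre -/
theorem thetaX_ker : thetaX.ker = Subgroup.center SU3 := by
  ext A
  constructor
  · intro hA
    have hfix : ∀ i : Fin 126, nrm (toM A *ᵥ pt (iota i)) = iota i := by
      intro i
      rw [← theta_apply, ← thetaX_spec, MonoidHom.mem_ker.mp hA]
      rfl
    have hiso : ∀ v : V, Cfsg.hermForm 3 K25 5 v v = 0 → ∃ l : K25, toM A *ᵥ v = l • v := by
      intro v hv
      rw [hermForm_eq_hf] at hv
      by_cases h0 : v = 0
      · exact ⟨0, by rw [h0, Matrix.mulVec_zero, smul_zero]⟩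
      · have hlt := iso_nrm v hv h0
        obtain ⟨s, hs, hpt⟩ := pt_nrm v
        have hi : iota ⟨(nrm v).val, hlt⟩ = nrm v := Fin.ext rfl
        obtain ⟨s', hs', hpt'⟩ := pt_nrm (toM A *ᵥ pt (iota ⟨(nrm v).val, hlt⟩))
        rw [hfix, hi, hpt, Matrix.mulVec_smul] at hpt'
        -- hpt' : s • v = s' • s • (A v)
        refine ⟨s'⁻¹, ?_⟩
        have h1 : s • v = s • (s' • (toM A *ᵥ v)) := by rw [hpt', smul_comm]
        have h2 : v = s' • (toM A *ᵥ v) := smul_right_injective V hs h1
        rw [eq_comm, inv_smul_eq_iff₀ hs']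
        exact h2
    obtain ⟨r, hr⟩ := scalar_of_iso cardK25 (by norm_num) (toM A) hiso
    rw [Subgroup.mem_center_iff]
    intro B
    apply ext_toM
    rw [map_mul, map_mul, hr]
    simp
  · intro hA
    have hsc : toM A = (toM A) 0 0 • (1 : M3) := center_eq_smul cardK25 A hA 0
    rw [MonoidHom.mem_ker]
    ext i
    have hne : (toM A) 0 0 ≠ 0 := by
      intro h0
      obtain ⟨-, h2⟩ := pt_iso (iota i) i.2
      apply h2
      apply toM_injective A
      rw [hsc, h0, zero_smul, Matrix.zero_mulVec]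
    have : iota (thetaX A i) = iota i := by
      rw [thetaX_spec, theta_apply, hsc, Matrix.smul_mulVec, Matrix.one_mulVec,
        nrm_smul _ _ hne, nrm_pt]
    rw [iota_injective this]
    rfl

end Cfsg.Agent.Lib.Helper91_U3Ker
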