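import Cfsg.Agent.Lib.Helper91_XiFast
import Cfsg.Agent.Lib.Helper91_FamAct
import Cfsg.Agent.Lib.Helper91_LeechGlue
import Cfsg.Agent.Lib.Helper91_U3Data
import Cfsg.Agent.Lib.Helper91_U3Closure

/-!
# The stabiliser of three Leech vectors acting on 252 vectors and on 126 pairs

helper91.  `KS` is the joint stabiliser in `Co0` of `vS`, `wS` (helper26's standard pair of
vectors of type 3) and `xS`, one of the 352 vectors.  The subgroup `H0` of `KS` permuting the
252 listed vectors acts on `Fin 252`; the subgroup `H1` whose action permutes the 126 fibres of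
the index table (the pairs `{r, v - r}`) acts on `Fin 126`.  A word fixing the base vectors whose
action on the 252 vectors is given by a table compatible with the fibres and with a unitary
matrix on the 126 isotropic points of `K25^3` gives an element of `H1` acting as that matrix.
-/

set_option autoImplicit false
open Cfsg

namespace Cfsg.Agent.Lib.Helper91_U3Leech

open Cfsg.Agent.Lib.Helper7_Xi Cfsg.Agent.Lib.Helper91_LeechWord Cfsg.Agent.Lib.Helper91_LeechOrb
  Cfsg.Agent.Lib.Helper91_LeechGlue Cfsg.Agent.Lib.Helper91_XiFast Cfsg.Agent.Lib.Helper91_FamAct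
  Cfsg.Agent.Lib.Helper91_U3Data Cfsg.Agent.Lib.Helper91_K25 Cfsg.Agent.Lib.Helper91_U3Pts
  Cfsg.Agent.Lib.Helper91_U3Theta Cfsg.Agent.Lib.Helper91_U3Closure
  Cfsg.Agent.Lib.Helper7_M24 Cfsg.Agent.Lib.Helper7_Bits

/-! ### the base vectors and the 252 vectors -/

theorem VL_mem : vecL VL ∈ leechLattice := mem_of_cert _ 8996447 (by decide +kernel)

theorem WL_mem : vecL WL ∈ leechLattice := mem_of_cert _ 6455896 (by decide +kernel)

theorem XL_mem : vecL XL ∈ leechLattice := mem_of_cert _ 10321319 (by decide +kernel)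

theorem A0L_mem : vecL A0L ∈ leechLattice := mem_of_cert _ 8464984 (by decide +kernel)

/-- the first base vector -/
def vS : leechLattice := ⟨vecL VL, VL_mem⟩

/-- the second base vector -/
def wS : leechLattice := ⟨vecL WL, WL_mem⟩

/-- the third base vector -/
def xS : leechLattice := ⟨vecL XL, XL_mem⟩

theorem hB : ∀ b ∈ [VL, WL, XL], vecL b ∈ leechLattice := by
  intro b hb
  simp only [List.mem_cons, List.not_mem_nil, or_false] at hb
  rcases hb with rfl | rfl | rfl
  · exact VL_mem
  · exact WL_mem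
  · exact XL_mem

theorem gensA_ok : gensA.all (stabW [VL, WL, XL]) = true := by decide +kernel

theorem TA_eq : TA = run gensA progA [A0L] [A0L] := by decide +kernel

theorem TA_len : TA.length = 252 := by
  unfold TA
  rw [List.length_map]
  decide +kernel

theorem TA_len24 (l : List ℤ) (hl : l ∈ TA) : l.length = 24 := by
  unfold TA at hl
  obtain ⟨k, _, rfl⟩ := List.mem_map.mp hl
  unfold unkey
  rw [List.length_map, List.length_range]

theorem conn_TA (l : List ℤ) (hl : l ∈ TA) : Conn [VL, WL, XL] A0L l := by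
  rw [TA_eq] at hl
  have hg : ∀ w ∈ gensA, stabW [VL, WL, XL] w = true := by
    have := gensA_ok
    rw [List.all_eq_true] at this
    exact this
  have h0 : Conn [VL, WL, XL] A0L A0L := Conn.refl hB A0L_mem
  refine run_conn hB hg A0L progA [A0L] [A0L] ?_ ?_ l hl
  · intro x hx
    rw [List.mem_singleton] at hx
    rw [hx]; exact h0
  · intro x hx
    rw [List.mem_singleton] at hx
    rw [hx]; exact h0

theorem TA_nodup : TA.Nodup := nodup_of_build TA (by decide +kernel)

/-- the `i`-th vector, as a list -/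
def ptV (i : Fin 252) : List ℤ := TA.getD i.val []

theorem ptV_eq (i : Fin 252) : ptV i = TA[i.val]'(by rw [TA_len]; exact i.2) := by
  unfold ptV
  rw [List.getD_eq_getElem _ _ (by rw [TA_len]; exact i.2)]

theorem ptV_mem_TA (i : Fin 252) : ptV i ∈ TA := by
  rw [ptV_eq]
  exact List.getElem_mem _

theorem ptV_mem (i : Fin 252) : vecL (ptV i) ∈ leechLattice := by
  obtain ⟨g, _, _, hm⟩ := conn_TA _ (ptV_mem_TA i)
  exact hm.mem_right

/-- the `i`-th vector -/
def ptA (i : Fin 252) : leechLattice := ⟨vecL (ptV i), ptV_mem i⟩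

/-- the list of coordinates of a vector -/
def toL (x : GolayPt → ℤ) : List ℤ := (List.range 24).map fun k => x (dec k)

theorem toL_vecL (l : List ℤ) (h : l.length = 24) : toL (vecL l) = l := by
  apply List.ext_getElem
  · unfold toL
    rw [List.length_map, List.length_range, h]
  · intro k h1 h2
    unfold toL at h1 ⊢
    rw [List.length_map, List.length_range] at h1
    rw [List.getElem_map, List.getElem_range, vecL_dec l k h1, List.getD_eq_getElem _ _ h2]

theorem ptA_injective : Function.Injective ptA := by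
  intro i j hij
  have h1 : vecL (ptV i) = vecL (ptV j) := congrArg Subtype.val hij
  have h2 : ptV i = ptV j := by
    rw [← toL_vecL (ptV i) (TA_len24 _ (ptV_mem_TA i)), ← toL_vecL (ptV j) (TA_len24 _ (ptV_mem_TA j)),
      h1]
  rw [ptV_eq, ptV_eq] at h2
  exact Fin.ext ((List.Nodup.getElem_inj_iff TA_nodup).mp h2)

/-! ### the stabiliser and its action on the 252 vectors -/

/-- the joint stabiliser of the three base vectors -/
abbrev KS : Subgroup Co0 :=
  MulAction.stabilizer Co0 vS ⊓ MulAction.stabilizer Co0 wS ⊓ MulAction.stabilizer Co0 xS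

/-- the elements of `KS` permuting the 252 vectors -/
abbrev H0 : Subgroup ↥KS := famStab ptA ptA_injective

/-- the action on the 252 vectors -/
noncomputable abbrev rhoA : ↥H0 →* Equiv.Perm (Fin 252) := famHom ptA ptA_injective

/-- a valid word fixing the base vectors gives an element of `KS` -/
theorem word_elem (w : List Letter) (hw : stabW [VL, WL, XL] w = true) :
    ∃ g : ↥KS, ∀ (l : List ℤ) (h : vecL l ∈ leechLattice),
      ((g • (⟨vecL l, h⟩ : leechLattice) : leechLattice) : GolayPt → ℤ) = vecL (appW w l) := by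
  unfold stabW at hw
  rw [Bool.and_eq_true, List.all_eq_true] at hw
  obtain ⟨g, hg, hgl⟩ := word_sound w hw.1
  have hfix : ∀ b ∈ [VL, WL, XL], ∀ hb : vecL b ∈ leechLattice,
      (⟨g, hg⟩ : Co0) • (⟨vecL b, hb⟩ : leechLattice) = ⟨vecL b, hb⟩ := by
    intro b hb hb'
    apply Subtype.ext
    show ((g ⟨vecL b, hb'⟩ : leechLattice) : GolayPt → ℤ) = vecL b
    rw [hgl b hb']
    have := hw.2 b hb
    rw [beq_iff_eq] at this
    rw [this]
  refine ⟨⟨⟨g, hg⟩, Subgroup.mem_inf.mpr ⟨Subgroup.mem_inf.mpr ⟨?_, ?_⟩, ?_⟩⟩, fun l h => hgl l h⟩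
  · exact hfix VL (by simp) VL_mem
  · exact hfix WL (by simp) WL_mem
  · exact hfix XL (by simp) XL_mem

/-- an entry of a packed table, ten bits per entry -/
def sigma (sg i : ℕ) : ℕ := (sg >>> (10 * i)) &&& 1023

/-- the word `w` maps the vectors of the list, numbered from `i`, as the table says -/
def chkA (w : List Letter) (sg : ℕ) : List (List ℤ) → ℕ → Bool
  | [], _ => true
  | x :: xs, i =>
    (appQ w x == TA.getD (sigma sg i) []) && decide (sigma sg i < 252) && chkA w sg xs (i + 1)

theorem chkA_sound (w : List Letter) (sg : ℕ) : ∀ (L : List (List ℤ)) (i0 : ℕ),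
    chkA w sg L i0 = true → ∀ (j : ℕ) (hj : j < L.length),
      appW w L[j] = TA.getD (sigma sg (i0 + j)) [] ∧ sigma sg (i0 + j) < 252 := by
  intro L
  induction L with
  | nil => intro i0 _ j hj; exact absurd hj (Nat.not_lt_zero _)
  | cons x xs ih =>
    intro i0 h j hj
    unfold chkA at h
    rw [Bool.and_eq_true, Bool.and_eq_true, beq_iff_eq, decide_eq_true_eq] at h
    obtain ⟨⟨h1, h2⟩, h3⟩ := h
    cases j with
    | zero =>
      rw [appQ_eq] at h1
      exact ⟨h1, h2⟩
    | succ j =>
      have := ih (i0 + 1) h3 j (Nat.lt_of_succ_lt_succ hj)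
      rw [show i0 + 1 + j = i0 + (j + 1) by omega] at this
      exact this

/-- the table as a map of indices -/
def sigF (sg : ℕ) (i : Fin 252) : Fin 252 := Fin.ofNat 252 (sigma sg i.val)

theorem word_maps (w : List Letter) (sg : ℕ) (hw : stabW [VL, WL, XL] w = true)
    (hA : chkA w sg TA 0 = true) :
    ∃ g : ↥KS, ∀ i : Fin 252, g • ptA i = ptA (sigF sg i) := by
  obtain ⟨g, hg⟩ := word_elem w hw
  refine ⟨g, fun i => ?_⟩
  apply Subtype.ext
  have h1 := hg (ptV i) (ptV_mem i)
  have h2 := chkA_sound w sg TA 0 hA i.val (by rw [TA_len]; exact i.2)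
  rw [Nat.zero_add] at h2
  show ((g • (⟨vecL (ptV i), ptV_mem i⟩ : leechLattice) : leechLattice) : GolayPt → ℤ) =
    vecL (ptV (sigF sg i))
  rw [h1, ptV_eq i, h2.1]
  unfold ptV sigF
  rw [Fin.val_ofNat, Nat.mod_eq_of_lt h2.2]

/-! ### the fibres -/

open scoped Pointwise

/-- the index of the isotropic point attached to the `a`-th vector -/
def pidx (a : ℕ) : ℕ := (PIT >>> (7 * a)) &&& 127

/-- the `p`-th fibre, a set of two of the 252 vectors -/
def quad (p : Fin 126) : Finset (Fin 252) :=
  Finset.univ.filter fun a : Fin 252 => pidx a.val = p.val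

theorem mem_quad (p : Fin 126) (a : Fin 252) : a ∈ quad p ↔ pidx a.val = p.val := by
  unfold quad
  rw [Finset.mem_filter]
  exact ⟨fun h => h.2, fun h => ⟨Finset.mem_univ a, h⟩⟩

theorem quad_nonempty : ∀ p : Fin 126, ∃ a : Fin 252, pidx a.val = p.val := by decide +kernel

theorem quad_injective : Function.Injective quad := by
  intro p q h
  obtain ⟨a, ha⟩ := quad_nonempty p
  have h1 : a ∈ quad p := (mem_quad p a).mpr ha
  rw [h] at h1
  have h2 := (mem_quad q a).mp h1
  exact Fin.ext (ha.symm.trans h2)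

/-- the permutations of the 252 vectors permuting the fibres -/
abbrev RQ : Subgroup (Equiv.Perm (Fin 252)) := famStab quad quad_injective

/-- the action on the fibres -/
noncomputable abbrev actQ : ↥RQ →* Equiv.Perm (Fin 126) := famHom quad quad_injective

/-- the elements of `H0` whose action permutes the fibres -/
noncomputable abbrev H1 : Subgroup ↥H0 := RQ.comap rhoA

/-- the action on the 126 fibres -/
noncomputable def rho : ↥H1 →* Equiv.Perm (Fin 126) :=
  actQ.comp ((rhoA.comp H1.subtype).codRestrict RQ fun x => x.2)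

/-! ### matching a word with a unitary matrix -/

/-- the product of a matrix and a vector, written out -/
def mv3 (M : M3) (x : V) : V :=
  mkV (M 0 0 * x 0 + M 0 1 * x 1 + M 0 2 * x 2) (M 1 0 * x 0 + M 1 1 * x 1 + M 1 2 * x 2)
    (M 2 0 * x 0 + M 2 1 * x 1 + M 2 2 * x 2)

theorem mulVec_eq_mv3 (M : M3) (x : V) : M.mulVec x = mv3 M x := by
  funext i
  fin_cases i <;> simp [Matrix.mulVec, dotProduct, Fin.sum_univ_three, mv3, mkV]

/-- the image of the `p`-th isotropic point under a matrix -/
def act3 (M : M3) (p : ℕ) : ℕ := (nrm (mv3 M (pt (Fin.ofNat 652 p)))).val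

theorem thetaX_val (A : SU3) (p : Fin 126) : (thetaX A p).val = act3 (toM A) p.val := by
  have h := thetaX_spec A p
  rw [theta_apply, mulVec_eq_mv3] at h
  have h2 := congrArg Fin.val h
  have e : iota p = Fin.ofNat 652 p.val := by
    apply Fin.ext
    rw [Fin.val_ofNat, Nat.mod_eq_of_lt (lt_trans p.2 (by norm_num))]
    rfl
  rw [e] at h2
  exact h2

/-- the table maps the fibre over `p` into the fibre over the image of `p` under the matrix -/
def chkQ (sg : ℕ) (M : M3) : ℕ → Bool
  | 0 => true
  | a + 1 => (pidx (sigma sg a) == act3 M (pidx a)) && chkQ sg M a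

theorem chkQ_sound (sg : ℕ) (M : M3) : ∀ n, chkQ sg M n = true → ∀ a < n,
    pidx (sigma sg a) = act3 M (pidx a) := by
  intro n
  induction n with
  | zero => intro _ a ha; exact absurd ha (Nat.not_lt_zero _)
  | succ n ih =>
    intro h a ha
    unfold chkQ at h
    rw [Bool.and_eq_true, beq_iff_eq] at h
    rcases Nat.lt_succ_iff_lt_or_eq.mp ha with h1 | rfl
    · exact ih h.2 a h1
    · exact h.1

/-- a valid word fixing the base vectors, acting on the 252 vectors by a table compatible with
the fibres and the unitary matrix `A`, gives an element of `H1` acting on the fibres as `A` acts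
on the isotropic points -/
theorem gen_exists (w : List Letter) (sg : ℕ) (A : SU3)
    (hw : stabW [VL, WL, XL] w = true) (hA : chkA w sg TA 0 = true)
    (hQ : chkQ sg (toM A) 252 = true) : ∃ h : ↥H1, rho h = thetaX A := by
  obtain ⟨g, hg⟩ := word_maps w sg hw hA
  have hg0 : g ∈ H0 := fun i => ⟨sigF sg i, hg i⟩
  have hσ : ∀ i, rhoA ⟨g, hg0⟩ i = sigF sg i :=
    famHom_eq ptA ptA_injective ⟨g, hg0⟩ (sigF sg) hg
  have hval : ∀ a : Fin 252, (sigF sg a).val = sigma sg a.val := by
    intro a
    have h2 := chkA_sound w sg TA 0 hA a.val (by rw [TA_len]; exact a.2)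
    rw [Nat.zero_add] at h2
    unfold sigF
    rw [Fin.val_ofNat, Nat.mod_eq_of_lt h2.2]
  have hmaps : ∀ p : Fin 126, ∀ a ∈ quad p,
      (rhoA ⟨g, hg0⟩) a ∈ quad (thetaX A p) := by
    intro p a ha
    rw [mem_quad] at ha ⊢
    rw [hσ a, thetaX_val, hval, chkQ_sound sg (toM A) 252 hQ a.val a.2, ha]
  have himg := image_eq_of_maps (rhoA ⟨g, hg0⟩) (thetaX A) quad hmaps
  have hsm : ∀ p, (rhoA ⟨g, hg0⟩) • quad p = quad (thetaX A p) := by
    intro p
    rw [← himg p]
    ext b
    rw [Finset.mem_smul_finset, Finset.mem_image]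
    constructor
    · rintro ⟨a, ha, rfl⟩
      exact ⟨a, ha, rfl⟩
    · rintro ⟨a, ha, rfl⟩
      exact ⟨a, ha, rfl⟩
  have hg1 : rhoA ⟨g, hg0⟩ ∈ RQ := fun p => ⟨_, hsm p⟩
  refine ⟨⟨⟨g, hg0⟩, hg1⟩, ?_⟩
  ext p
  show ((actQ ⟨rhoA ⟨g, hg0⟩, hg1⟩) p).val = (thetaX A p).val
  rw [famHom_eq quad quad_injective ⟨rhoA ⟨g, hg0⟩, hg1⟩ (thetaX A) hsm p]

end Cfsg.Agent.Lib.Helper91_U3Leech
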