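import Cfsg.Agent.Lib.Helper91_U3Final
import Cfsg.Agent.Lib.Helper91_U3Ker

/-!
# `SU(3,5)` is 2-transitive on the 126 isotropic points

helper91.  Orbit certificates: the three matrices of `Helper91_U3Final` move point 0 to every
point; two matrices fixing point 0 move point 1 to every other point.
-/

set_option autoImplicit false

namespace Cfsg.Agent.Lib.Helper91_U3Trans

open Cfsg.Agent.Lib.Helper91_K25 Cfsg.Agent.Lib.Helper91_U3Pts Cfsg.Agent.Lib.Helper91_U3Theta
  Cfsg.Agent.Lib.Helper91_U3Leech Cfsg.Agent.Lib.Helper91_U3Final Matrix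

/-- one step of an orbit certificate: if `k` is known, its image under generator `g` becomes known -/
def stepR (F : ℕ → ℕ → ℕ) (R : ℕ) (s : ℕ × ℕ) : ℕ :=
  cond (R.testBit s.1) (R ||| 2 ^ F s.2 s.1) R

/-- run an orbit certificate -/
def runR (F : ℕ → ℕ → ℕ) (steps : List (ℕ × ℕ)) (R : ℕ) : ℕ := steps.foldl (stepR F) R

theorem runR_inv (F : ℕ → ℕ → ℕ) (P : ℕ → Prop) (hP : ∀ g k, P k → P (F g k)) :
    ∀ (steps : List (ℕ × ℕ)) (R : ℕ), (∀ n, R.testBit n = true → P n) →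
      ∀ n, (runR F steps R).testBit n = true → P n := by
  intro steps
  induction steps with
  | nil => intro R hR n hn; exact hR n hn
  | cons s rest ih =>
    intro R hR n hn
    have e : runR F (s :: rest) R = runR F rest (stepR F R s) := rfl
    rw [e] at hn
    refine ih (stepR F R s) ?_ n hn
    intro m hm
    unfold stepR at hm
    cases hc : R.testBit s.1 with
    | false =>
      rw [hc] at hm
      exact hR m hm
    | true =>
      rw [hc] at hm
      simp only [cond_true] at hm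
      rw [Nat.testBit_or, Nat.testBit_two_pow, Bool.or_eq_true, decide_eq_true_eq] at hm
      rcases hm with hm | hm
      · exact hR m hm
      · rw [← hm]
        exact hP _ _ (hR _ hc)

/-- first generator of the unipotent radical of the stabiliser of point 0 -/
def Mq1 : M3 := !![⟨23⟩, ⟨19⟩, ⟨4⟩; ⟨19⟩, ⟨9⟩, ⟨3⟩; ⟨1⟩, ⟨2⟩, ⟨1⟩]

/-- second generator of the unipotent radical of the stabiliser of point 0 -/
def Mq2 : M3 := !![⟨0⟩, ⟨3⟩, ⟨15⟩; ⟨3⟩, ⟨2⟩, ⟨5⟩; ⟨15⟩, ⟨5⟩, ⟨1⟩]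

theorem Mq1_facts : det3 Mq1 = 1 ∧ Cols Mq1 := by decide +kernel

theorem Mq2_facts : det3 Mq2 = 1 ∧ Cols Mq2 := by decide +kernel

def Aq1 : SU3 := mkSU3 Mq1 Mq1_facts.1 Mq1_facts.2

def Aq2 : SU3 := mkSU3 Mq2 Mq2_facts.1 Mq2_facts.2

/-- the three generators acting on point indices -/
def F3 (g k : ℕ) : ℕ := if g = 0 then act3 M0 k else if g = 1 then act3 M1 k else act3 M2 k

/-- the two unipotent generators acting on point indices -/
def F2 (g k : ℕ) : ℕ := if g = 0 then act3 Mq1 k else act3 Mq2 k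

/-- orbit certificate for point 0 under the three generators -/
def steps3 : List (ℕ × ℕ) := [(0, 0), (0, 1), (0, 2), (122, 0), (122, 1), (122, 2), (81, 0), (81, 1), (81, 2), (11, 0), (11, 1), (11, 2), (50, 0), (50, 1), (50, 2), (3, 0), (3, 1), (3, 2), (48, 1), (47, 0), (47, 2), (34, 0), (34, 1), (34, 2), (21, 0), (21, 1), (21, 2), (65, 0), (65, 1), (64, 0), (64, 1), (64, 2), (23, 1), (23, 2), (44, 1), (44, 2), (104, 0), (104, 1), (104, 2), (101, 0), (101, 1), (33, 0), (33, 2), (30, 0), (30, 1), (30, 2), (18, 0), (19, 2), (20, 0), (20, 1), (20, 2), (6, 1), (6, 2), (56, 0), (124, 0), (124, 2), (46, 2), (74, 0), (74, 1), (49, 1), (49, 2), (35, 1), (35, 2), (45, 0), (45, 1), (45, 2), (103, 0), (103, 2), (102, 0), (102, 2), (113, 0), (113, 1), (63, 1), (63, 2), (68, 0), (68, 1), (68, 2), (99, 0), (69, 0), (69, 2), (123, 1), (29, 0), (29, 1), (29, 2), (53, 0), (12, 1), (97, 0), (97, 1), (72, 1), (120, 0), (120, 2), (43, 0), (89, 1), (32, 2),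 (91, 1), (88, 0), (88, 2), (80, 1), (66, 0), (66, 2), (15, 2), (39, 0), (17, 1), (17, 2), (94, 0), (94, 2), (54, 2), (115, 1), (96, 2), (8, 2), (107, 1), (5, 1), (5, 2), (86, 2), (67, 1), (22, 0), (36, 0), (36, 2), (118, 0), (118, 1), (27, 2), (119, 1), (28, 1), (4, 1), (7, 1)]

/-- orbit certificate for point 1 under the two unipotent generators -/
def steps2 : List (ℕ × ℕ) := [(1, 0), (1, 1), (44, 0), (44, 1), (104, 0), (104, 1), (101, 0), (101, 1), (19, 0), (19, 1), (115, 0), (115, 1), (105, 0), (105, 1), (85, 0), (85, 1), (112, 0), (112, 1), (54, 0), (54, 1), (28, 0), (28, 1), (100, 0), (88, 0), (88, 1), (25, 0), (25, 1), (23, 0), (23, 1), (48, 1), (122, 0), (122, 1), (29, 0), (29, 1), (80, 0), (80, 1), (30, 0), (67, 0), (67, 1), (37, 0), (37, 1), (71, 0), (71, 1), (84, 0), (109, 0), (109, 1), (60, 1), (110, 1), (22, 0), (7, 0), (7, 1), (95, 0), (95, 1), (98, 0), (98, 1), (47, 0), (21, 0), (21, 1), (75, 0), (75, 1), (92, 0), (92, 1),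 (51, 0), (50, 0), (50, 1), (11, 1), (45, 1), (77, 0), (99, 1), (32, 1), (17, 1), (59, 1), (97, 0), (97, 1), (42, 0), (42, 1), (31, 0), (18, 0), (18, 1), (83, 0), (83, 1), (91, 0), (91, 1), (41, 0), (113, 0), (113, 1), (49, 1), (16, 1), (82, 0), (34, 1), (125, 1), (118, 1), (72, 1), (69, 0), (38, 0), (38, 1), (93, 0), (93, 1), (55, 0), (55, 1), (46, 0), (20, 0), (20, 1), (124, 1), (64, 1), (102, 0), (52, 1), (116, 1), (111, 1), (36, 1), (40, 0), (114, 0), (114, 1), (57, 1), (65, 1), (76, 0), (63, 1), (9, 1), (39, 1), (81, 1), (61, 1), (119, 1), (117, 1), (62, 1)]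

theorem run3 : runR F3 steps3 1 = 2 ^ 126 - 1 := by decide +kernel

theorem run2 : runR F2 steps2 2 = 2 ^ 126 - 2 := by decide +kernel

theorem fix_q : act3 Mq1 0 = 0 ∧ act3 Mq2 0 = 0 := by decide +kernel

theorem trans0 (j : Fin 126) : ∃ A : SU3, thetaX A 0 = j := by
  have key := runR_inv F3 (fun n => ∃ A : SU3, (thetaX A 0).val = n) (by
    rintro g k ⟨A, hA⟩
    unfold F3
    split_ifs
    · exact ⟨A0 * A, by rw [map_mul, Equiv.Perm.mul_apply, thetaX_val, hA]; rfl⟩
    · exact ⟨A1 * A, by rw [map_mul, Equiv.Perm.mul_apply, thetaX_val, hA]; rfl⟩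
    · exact ⟨A2 * A, by rw [map_mul, Equiv.Perm.mul_apply, thetaX_val, hA]; rfl⟩) steps3 1 (by
    intro n hn
    have : n = 0 := by
      by_contra h
      have : (1 : ℕ).testBit n = false := by
        rw [show (1 : ℕ) = 2 ^ 0 by norm_num, Nat.testBit_two_pow]
        exact decide_eq_false (fun h0 => h h0.symm)
      rw [this] at hn
      exact Bool.false_ne_true hn
    subst this
    exact ⟨1, by rw [map_one]; rfl⟩) j.val (by
    rw [run3, Nat.testBit_two_pow_sub_one]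
    exact decide_eq_true j.2)
  obtain ⟨A, hA⟩ := key
  exact ⟨A, Fin.ext hA⟩

theorem stab0 (j : Fin 126) (hj : j ≠ 0) : ∃ A : SU3, thetaX A 0 = 0 ∧ thetaX A 1 = j := by
  have hq1 : thetaX Aq1 0 = 0 := Fin.ext (by rw [thetaX_val]; exact fix_q.1)
  have hq2 : thetaX Aq2 0 = 0 := Fin.ext (by rw [thetaX_val]; exact fix_q.2)
  have key := runR_inv F2 (fun n => ∃ A : SU3, thetaX A 0 = 0 ∧ (thetaX A 1).val = n) (by
    rintro g k ⟨A, hA0, hA⟩
    unfold F2
    split_ifs
    · refine ⟨Aq1 * A, by rw [map_mul, Equiv.Perm.mul_apply, hA0, hq1], ?_⟩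
      rw [map_mul, Equiv.Perm.mul_apply, thetaX_val, hA]; rfl
    · refine ⟨Aq2 * A, by rw [map_mul, Equiv.Perm.mul_apply, hA0, hq2], ?_⟩
      rw [map_mul, Equiv.Perm.mul_apply, thetaX_val, hA]; rfl) steps2 2 (by
    intro n hn
    have : n = 1 := by
      by_contra h
      have : (2 : ℕ).testBit n = false := by
        rw [show (2 : ℕ) = 2 ^ 1 by norm_num, Nat.testBit_two_pow]
        exact decide_eq_false (fun h0 => h h0.symm)
      rw [this] at hn
      exact Bool.false_ne_true hn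
    subst this
    exact ⟨1, by simp, by simp⟩) j.val (by
    rw [run2]
    have h1 : (2 ^ 126 - 2 : ℕ) = 2 * (2 ^ 125 - 1) := by norm_num
    have hj0 : j.val ≠ 0 := fun h => hj (Fin.ext h)
    obtain ⟨m, hm⟩ := Nat.exists_eq_succ_of_ne_zero hj0
    rw [h1, hm, Nat.testBit_succ, Nat.mul_div_cancel_left _ (by norm_num : 0 < 2),
      Nat.testBit_two_pow_sub_one]
    exact decide_eq_true (by have := j.2; omega))
  obtain ⟨A, hA0, hA⟩ := key
  exact ⟨A, hA0, Fin.ext hA⟩

theorem perm_apply_inv (f : Equiv.Perm (Fin 126)) (x : Fin 126) : f (f⁻¹ x) = x :=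
  f.apply_symm_apply x

theorem perm_inv_apply (f : Equiv.Perm (Fin 126)) (x : Fin 126) : f⁻¹ (f x) = x :=
  f.symm_apply_apply x

/-- `SU(3,5)` is 2-transitive on the 126 isotropic points -/
theorem two_trans (i j k l : Fin 126) (hij : i ≠ j) (hkl : k ≠ l) :
    ∃ A : SU3, thetaX A i = k ∧ thetaX A j = l := by
  have aux : ∀ a b : Fin 126, a ≠ b → ∃ A : SU3, thetaX A 0 = a ∧ thetaX A 1 = b := by
    intro a b hab
    obtain ⟨A, hA⟩ := trans0 a
    have hb : (thetaX A)⁻¹ b ≠ 0 := by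
      intro h
      apply hab
      rw [← hA, ← h, perm_apply_inv]
    obtain ⟨B, hB0, hB1⟩ := stab0 _ hb
    refine ⟨A * B, ?_, ?_⟩
    · rw [map_mul, Equiv.Perm.mul_apply, hB0, hA]
    · rw [map_mul, Equiv.Perm.mul_apply, hB1, perm_apply_inv]
  obtain ⟨A, hA0, hA1⟩ := aux i j hij
  obtain ⟨B, hB0, hB1⟩ := aux k l hkl
  refine ⟨B * A⁻¹, ?_, ?_⟩
  · rw [map_mul, map_inv, Equiv.Perm.mul_apply, ← hA0, perm_inv_apply, hB0]
  · rw [map_mul, map_inv, Equiv.Perm.mul_apply, ← hA1, perm_inv_apply, hB1]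

end Cfsg.Agent.Lib.Helper91_U3Trans
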