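import Cfsg.Agent.Lib.Helper91_U6Gen3

/-!
# The word number 4 for the stabiliser of a 222-triangle

helper91.  Word `W4` fixes the base vectors, acts on the 891 vectors by the table `SG4`, and
on the 693 quads as the unitary transvection with centre `dec 2829` acts on the isotropic points.
-/

set_option autoImplicit false

namespace Cfsg.Agent.Lib.Helper91_U6Gen4

open Cfsg.Agent.Lib.Helper91_LeechOrb Cfsg.Agent.Lib.Helper91_U6Data
  Cfsg.Agent.Lib.Helper91_U6Leech Cfsg.Agent.Lib.Helper28_U6Pts Cfsg.Agent.Lib.Helper28_U6Theta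

theorem ok : stabW [V0L, W0L] W4 = true := by decide +kernel

theorem cA : chkA W4 SG4 TA 0 = true := by decide +kernel

theorem iso : hf (dec 2829) (dec 2829) = 0 := by decide

theorem cQ : chkQ SG4 (dec 2829) 693 = true := by decide +kernel

theorem mem : ∃ h : hf (dec 2829) (dec 2829) = 0, thetaX (T (dec 2829) h) ∈ rho.range := by
  obtain ⟨h, hh⟩ := gen_exists W4 SG4 (dec 2829) iso ok cA cQ
  exact ⟨iso, h, hh⟩

end Cfsg.Agent.Lib.Helper91_U6Gen4
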