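import Cfsg.Agent.Lib.Helper91_U6Gen0
import Cfsg.Agent.Lib.Helper91_U6Gen1
import Cfsg.Agent.Lib.Helper91_U6Gen2
import Cfsg.Agent.Lib.Helper91_U6Gen3
import Cfsg.Agent.Lib.Helper91_U6Gen4
import Cfsg.Agent.Lib.Helper91_U6Gen5
import Cfsg.Agent.Lib.Helper91_U6Gen6
import Cfsg.Agent.Lib.Helper91_U6Gen7
import Cfsg.Agent.Lib.Helper91_BlockAction3
import Cfsg.Agent.Lib.Helper61_SUTransfer
import Cfsg.Agent.S0400
import Cfsg.Agent.S0402
import Cfsg.Agent.S1573
import Cfsg.Agent.S1574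
import Cfsg.Agent.S0280
import Cfsg.Agent.S0283

/-!
# The stabiliser of a 222-triangle in the Leech lattice is `PSU(6,2)`

helper91.  The joint stabiliser `HS` of `v0, w0` has order `|Co2| / 4600 = |PSU(6,2)|`
(S0402, S1573, S1574).  Eight words act on the 693 quads as the eight base transvections of
helper28's closure certificate act on the isotropic points, so the image of `SU(6,2)` on the
693 points lies in the image of `H1 ≤ HS`; the common-action lemma gives `H1 ≃* PSU(6,2)`, and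
`H1 = HS` by orders.  Every 222-triangle is conjugate to the standard one (S0400, S1574).
-/

set_option autoImplicit false
open Cfsg

namespace Cfsg.Agent.Lib.Helper91_U6Final

open Cfsg.Agent.Lib.Helper7_Xi Cfsg.Agent.Lib.Helper91_LeechWord Cfsg.Agent.Lib.Helper91_LeechOrb
  Cfsg.Agent.Lib.Helper91_LeechGlue Cfsg.Agent.Lib.Helper91_FamAct
  Cfsg.Agent.Lib.Helper91_U6Data Cfsg.Agent.Lib.Helper91_U6Leech Cfsg.Agent.Lib.Helper91_K4
  Cfsg.Agent.Lib.Helper28_U6Pts Cfsg.Agent.Lib.Helper28_U6Theta Cfsg.Agent.Lib.Helper28_U6Closure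
  Cfsg.Agent.Lib.Helper91_BlockAction3

/-! ### the order of the stabiliser -/

theorem v0_norm : sqNorm (v0 : GolayPt → ℤ) = 32 := by
  show sqNorm (vecL V0L) = 32
  decide +kernel

theorem w0_norm : sqNorm (w0 : GolayPt → ℤ) = 32 := by
  show sqNorm (vecL W0L) = 32
  decide +kernel

theorem v0w0_dot : dotInt (v0 : GolayPt → ℤ) (w0 : GolayPt → ℤ) = -16 := by
  show dotInt (vecL V0L) (vecL W0L) = -16
  decide +kernel

/-- the stabiliser of `v0` -/
abbrev MS : Subgroup Co0 := MulAction.stabilizer Co0 v0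

theorem card_MS : Nat.card MS = 42305421312000 := (Cfsg.Agent.S0402.result v0 v0_norm).2

/-- the minimal vectors of inner product `-16` with `v0` -/
def S16 : Set leechLattice :=
  {w : leechLattice | sqNorm (w : GolayPt → ℤ) = 32 ∧
    dotInt (v0 : GolayPt → ℤ) (w : GolayPt → ℤ) = -16}

theorem card_S16 : S16.ncard = 4600 := by
  have h := (Cfsg.Agent.S1573.result (v0 : GolayPt → ℤ) v0.2 v0_norm).1
  have himg : (Subtype.val '' S16 : Set (GolayPt → ℤ)) =
      {w : GolayPt → ℤ | w ∈ leechLattice ∧ sqNorm w = 32 ∧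
        dotInt (v0 : GolayPt → ℤ) w = -16} := by
    ext x
    constructor
    · rintro ⟨y, hy, rfl⟩
      exact ⟨y.2, hy.1, hy.2⟩
    · rintro ⟨h1, h2, h3⟩
      exact ⟨⟨x, h1⟩, ⟨h2, h3⟩, rfl⟩
  rw [← himg, Set.ncard_image_of_injective _ Subtype.val_injective] at h
  exact h

theorem orbit_eq : MulAction.orbit MS w0 = S16 := by
  ext y
  constructor
  · rintro ⟨g, rfl⟩
    have hV : (g : Co0) • v0 = v0 := g.2
    refine ⟨?_, ?_⟩
    · show sqNorm (((g : Co0) • w0 : leechLattice) : GolayPt → ℤ) = 32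
      rw [sqNorm_smul]; exact w0_norm
    · show dotInt (v0 : GolayPt → ℤ) (((g : Co0) • w0 : leechLattice) : GolayPt → ℤ) = -16
      have := dotInt_smul (g : Co0) v0 w0
      rw [hV] at this
      exact this.trans v0w0_dot
  · intro hy
    obtain ⟨g, hg1, hg2⟩ := Cfsg.Agent.S1574.result v0 w0 y v0_norm w0_norm hy.1 v0w0_dot hy.2
    exact ⟨⟨g, hg1⟩, hg2⟩

/-- the stabiliser of `w0` in `MS` is `HS` -/
def stabEquiv : HS ≃ MulAction.stabilizer MS w0 where
  toFun h := ⟨⟨h.1, (Subgroup.mem_inf.mp h.2).1⟩, (Subgroup.mem_inf.mp h.2).2⟩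
  invFun k := ⟨k.1.1, Subgroup.mem_inf.mpr ⟨k.1.2, k.2⟩⟩
  left_inv _ := rfl
  right_inv _ := rfl

theorem card_HS : Nat.card HS = 9196830720 := by
  rw [Nat.card_congr stabEquiv]
  have h1 := MulAction.index_stabilizer MS w0
  rw [orbit_eq, card_S16] at h1
  have h2 := Subgroup.card_mul_index (MulAction.stabilizer MS w0)
  rw [h1, card_MS] at h2
  exact Nat.eq_of_mul_eq_mul_right (by norm_num : 0 < 4600) (h2.trans (by norm_num))

instance : Finite HS := Nat.finite_of_card_ne_zero (by rw [card_HS]; norm_num)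

/-! ### the unitary group -/

theorem card_PSU : Nat.card (Cfsg.PSU 6 K4 2) = 9196830720 := by
  have h := Cfsg.Agent.S0280.result (F := K4) cardK4 6 (by norm_num)
  have hg : Nat.gcd 6 (2 + 1) = 3 := by decide
  rw [hg] at h
  have hp : ∏ i ∈ Finset.range 6, (if Even i then 2 ^ (i + 1) + 1 else 2 ^ (i + 1) - 1) =
      3 * 3 * 9 * 15 * 33 * 63 := by
    simp only [Finset.prod_range_succ, Finset.prod_range_zero]
    norm_num [Nat.even_iff]
  rw [hp] at h
  have h2 : 3 * ((2 + 1) * Nat.card (Cfsg.PSU 6 K4 2)) = 3 * ((2 + 1) * 9196830720) := by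
    rw [h]; norm_num
  exact Nat.eq_of_mul_eq_mul_left (by norm_num) (Nat.eq_of_mul_eq_mul_left (by norm_num) h2)

theorem simple_PSU : IsSimpleGroup (Cfsg.PSU 6 K4 2) :=
  Cfsg.Agent.S0283.result (F := K4) cardK4 6 (by norm_num) (by norm_num)

/-! ### the identification -/

theorem base_mem : ∀ n ∈ baseCodes, ∃ h : hf (dec n) (dec n) = 0,
    thetaX (T (dec n) h) ∈ rho.range := by
  intro n hn
  simp only [baseCodes, List.mem_cons, List.not_mem_nil, or_false] at hn
  rcases hn with rfl | rfl | rfl | rfl | rfl | rfl | rfl | rfl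
  · exact Cfsg.Agent.Lib.Helper91_U6Gen0.mem
  · exact Cfsg.Agent.Lib.Helper91_U6Gen1.mem
  · exact Cfsg.Agent.Lib.Helper91_U6Gen2.mem
  · exact Cfsg.Agent.Lib.Helper91_U6Gen3.mem
  · exact Cfsg.Agent.Lib.Helper91_U6Gen4.mem
  · exact Cfsg.Agent.Lib.Helper91_U6Gen5.mem
  · exact Cfsg.Agent.Lib.Helper91_U6Gen6.mem
  · exact Cfsg.Agent.Lib.Helper91_U6Gen7.mem

theorem tau_ne : tauN (dec 2031) (tauN (dec 3005) 0) ≠ tauN (dec 3005) (tauN (dec 2031) 0) := by
  decide +kernel

theorem noncomm : thetaX (T (dec 2031) Cfsg.Agent.Lib.Helper91_U6Gen0.iso) *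
    thetaX (T (dec 3005) Cfsg.Agent.Lib.Helper91_U6Gen1.iso) ≠
    thetaX (T (dec 3005) Cfsg.Agent.Lib.Helper91_U6Gen1.iso) *
      thetaX (T (dec 2031) Cfsg.Agent.Lib.Helper91_U6Gen0.iso) := by
  intro h
  have h1 := congrArg (fun σ : Equiv.Perm (Fin 693) => (σ 0).val) h
  simp only [Equiv.Perm.mul_apply] at h1
  rw [thetaX_T_val, thetaX_T_val, thetaX_T_val, thetaX_T_val] at h1
  exact tau_ne h1

theorem H1_iso : Nonempty (↥H1 ≃* Cfsg.PSU 6 K4 2) := by
  have := simple_PSU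
  have hfin : Finite ↥H1 := inferInstance
  have hfinN : Finite SU6 := inferInstance
  have hc : ∀ n ∈ (QuotientGroup.mk' (Subgroup.center SU6)).ker, ∀ m : SU6, n * m = m * n := by
    intro n hn m
    rw [QuotientGroup.ker_mk'] at hn
    exact (Subgroup.mem_center_iff.mp hn m).symm
  have hcard : Nat.card ↥H1 ≤ Nat.card (Cfsg.PSU 6 K4 2) := by
    rw [card_PSU, ← card_HS]
    exact (Subgroup.card_le_card_group H1).trans (Subgroup.card_le_card_group H0)
  exact iso_of_common_action_quot rho (QuotientGroup.mk' (Subgroup.center SU6))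
    (QuotientGroup.mk'_surjective _) hc thetaX _ _ noncomm (thetaX_range_le rho.range base_mem) hcard

theorem HS_iso : Nonempty (↥HS ≃* Cfsg.PSU 6 K4 2) := by
  obtain ⟨e⟩ := H1_iso
  have hc1 : Nat.card ↥H1 = 9196830720 := by rw [Nat.card_congr e.toEquiv, card_PSU]
  let ι : ↥H1 →* ↥HS := H0.subtype.comp H1.subtype
  have hinj : Function.Injective ι :=
    (Subgroup.subtype_injective H0).comp (Subgroup.subtype_injective H1)
  have hbij : Function.Bijective ι :=
    hinj.bijective_of_nat_card_le (by rw [hc1, card_HS])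
  exact ⟨(MulEquiv.ofBijective ι hbij).symm.trans e⟩

/-! ### an arbitrary 222-triangle -/

/-- conjugating a joint stabiliser of two points -/
theorem conj_stab2 {G α : Type*} [Group G] [MulAction G α] (g : G) (a b : α) :
    Nonempty (↥(MulAction.stabilizer G a ⊓ MulAction.stabilizer G b) ≃*
      ↥(MulAction.stabilizer G (g • a) ⊓ MulAction.stabilizer G (g • b))) := by
  have e : (MulAction.stabilizer G a ⊓ MulAction.stabilizer G b).map
      (MulAut.conj g).toMonoidHom =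
      MulAction.stabilizer G (g • a) ⊓ MulAction.stabilizer G (g • b) := by
    ext k
    simp only [Subgroup.mem_map, Subgroup.mem_inf, MulAction.mem_stabilizer_iff,
      MulEquiv.coe_toMonoidHom, MulAut.conj_apply]
    constructor
    · rintro ⟨h, ⟨ha, hb⟩, rfl⟩
      refine ⟨?_, ?_⟩
      · rw [mul_smul, mul_smul, inv_smul_smul, ha]
      · rw [mul_smul, mul_smul, inv_smul_smul, hb]
    · rintro ⟨ha, hb⟩
      refine ⟨g⁻¹ * k * g, ⟨?_, ?_⟩, by group⟩
      · rw [mul_smul, mul_smul, ha, inv_smul_smul]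
      · rw [mul_smul, mul_smul, hb, inv_smul_smul]
  exact ⟨((MulAut.conj g).subgroupMap _).trans (MulEquiv.subgroupCongr e)⟩

theorem pair_std (v w : leechLattice) (hv : sqNorm (v : GolayPt → ℤ) = 32)
    (hw : sqNorm (w : GolayPt → ℤ) = 32)
    (hd : dotInt (v : GolayPt → ℤ) (w : GolayPt → ℤ) = -16) :
    ∃ g : Co0, g • v0 = v ∧ g • w0 = w := by
  obtain ⟨g1, hg1⟩ := Cfsg.Agent.S0400.result v0 v v0_norm hv
  have hw' : sqNorm ((g1⁻¹ • w : leechLattice) : GolayPt → ℤ) = 32 := by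
    rw [sqNorm_smul]; exact hw
  have hd' : dotInt (v0 : GolayPt → ℤ) ((g1⁻¹ • w : leechLattice) : GolayPt → ℤ) = -16 := by
    have := dotInt_smul g1⁻¹ v w
    rw [← hg1, inv_smul_smul] at this
    rw [this, hg1]
    exact hd
  obtain ⟨g2, hg2, hg3⟩ := Cfsg.Agent.S1574.result v0 w0 (g1⁻¹ • w) v0_norm w0_norm hw' v0w0_dot hd'
  refine ⟨g1 * g2, ?_, ?_⟩
  · rw [mul_smul, hg2, hg1]
  · rw [mul_smul, hg3, smul_inv_smul]

theorem s1577 (v w : leechLattice) (hv : sqNorm (v : GolayPt → ℤ) = 32)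
    (hw : sqNorm (w : GolayPt → ℤ) = 32)
    (hd : dotInt (v : GolayPt → ℤ) (w : GolayPt → ℤ) = -16)
    (F : Type) [Field F] [Fintype F] (hF : Fintype.card F = 4) :
    Nonempty (↥(MulAction.stabilizer Co0 v ⊓ MulAction.stabilizer Co0 w) ≃* Cfsg.PSU 6 F 2) := by
  obtain ⟨g, hgv, hgw⟩ := pair_std v w hv hw hd
  obtain ⟨e1⟩ := conj_stab2 g v0 w0
  rw [hgv, hgw] at e1
  obtain ⟨e2⟩ := HS_iso
  have e3 : K4 ≃+* F := FiniteField.ringEquivOfCardEq (by rw [K4.card, hF])
  exact ⟨e1.symm.trans (e2.trans (Cfsg.Agent.Lib.Helper61_SUTransfer.psuEquiv e3))⟩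

end Cfsg.Agent.Lib.Helper91_U6Final
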