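import Cfsg.Agent.Lib.Helper91_XiFast
import Cfsg.Agent.Lib.Helper91_FamAct
import Cfsg.Agent.Lib.Helper91_LeechGlue
import Cfsg.Agent.Lib.Helper91_U6Data
import Cfsg.Agent.Lib.Helper28_U6Closure

/-!
# The stabiliser of a 222-triangle acting on 891 vectors and on 693 quads

helper91.  `HS` is the joint stabiliser in `Co0` of `v0 = (4,4,0^22)` and `w0 = (-4,0,4,0^21)`.
The subgroup `H0` of `HS` permuting the 891 listed vectors acts on `Fin 891`; the subgroup `H1`
whose action permutes the 693 listed quads acts on `Fin 693`.  A word fixing the base vectors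
whose action on the 891 vectors is given by a table compatible with the quads and with a unitary
transvection on the 693 isotropic points gives an element of `H1` acting as that transvection.
-/

set_option autoImplicit false
open Cfsg

namespace Cfsg.Agent.Lib.Helper91_U6Leech

open Cfsg.Agent.Lib.Helper7_Xi Cfsg.Agent.Lib.Helper91_LeechWord Cfsg.Agent.Lib.Helper91_LeechOrb
  Cfsg.Agent.Lib.Helper91_LeechGlue Cfsg.Agent.Lib.Helper91_XiFast Cfsg.Agent.Lib.Helper91_FamAct
  Cfsg.Agent.Lib.Helper91_U6Data Cfsg.Agent.Lib.Helper91_K4 Cfsg.Agent.Lib.Helper28_U6Pts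
  Cfsg.Agent.Lib.Helper28_U6Theta Cfsg.Agent.Lib.Helper28_U6Closure
  Cfsg.Agent.Lib.Helper7_M24 Cfsg.Agent.Lib.Helper7_Bits

/-! ### the base vectors and the 891 vectors -/

theorem V0L_mem : vecL V0L ∈ leechLattice := mem_of_cert _ 0 (by decide +kernel)

theorem W0L_mem : vecL W0L ∈ leechLattice := mem_of_cert _ 0 (by decide +kernel)

theorem A0L_mem : vecL A0L ∈ leechLattice := mem_of_cert _ 0 (by decide +kernel)

/-- the first base vector -/
def v0 : leechLattice := ⟨vecL V0L, V0L_mem⟩

/-- the second base vector -/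
def w0 : leechLattice := ⟨vecL W0L, W0L_mem⟩

theorem hB : ∀ b ∈ [V0L, W0L], vecL b ∈ leechLattice := by
  intro b hb
  simp only [List.mem_cons, List.not_mem_nil, or_false] at hb
  rcases hb with rfl | rfl
  · exact V0L_mem
  · exact W0L_mem

theorem gensA_ok : gensA.all (stabW [V0L, W0L]) = true := by decide +kernel

theorem TA_eq : TA = run gensA progA [A0L] [A0L] := by decide +kernel

theorem TA_len : TA.length = 891 := by
  unfold TA
  rw [List.length_map]
  decide +kernel

theorem TA_len24 (l : List ℤ) (hl : l ∈ TA) : l.length = 24 := by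
  unfold TA at hl
  obtain ⟨k, _, rfl⟩ := List.mem_map.mp hl
  unfold unkey
  rw [List.length_map, List.length_range]

theorem conn_TA (l : List ℤ) (hl : l ∈ TA) : Conn [V0L, W0L] A0L l := by
  rw [TA_eq] at hl
  have hg : ∀ w ∈ gensA, stabW [V0L, W0L] w = true := by
    have := gensA_ok
    rw [List.all_eq_true] at this
    exact this
  have h0 : Conn [V0L, W0L] A0L A0L := Conn.refl hB A0L_mem
  refine run_conn hB hg A0L progA [A0L] [A0L] ?_ ?_ l hl
  · intro x hx
    rw [List.mem_singleton] at hx
    rw [hx]; exact h0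
  · intro x hx
    rw [List.mem_singleton] at hx
    rw [hx]; exact h0

theorem TA_nodup : TA.Nodup := nodup_of_build TA (by decide +kernel)

/-- the `i`-th vector, as a list -/
def ptV (i : Fin 891) : List ℤ := TA.getD i.val []

theorem ptV_eq (i : Fin 891) : ptV i = TA[i.val]'(by rw [TA_len]; exact i.2) := by
  unfold ptV
  rw [List.getD_eq_getElem _ _ (by rw [TA_len]; exact i.2)]

theorem ptV_mem_TA (i : Fin 891) : ptV i ∈ TA := by
  rw [ptV_eq]
  exact List.getElem_mem _

theorem ptV_mem (i : Fin 891) : vecL (ptV i) ∈ leechLattice := by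
  obtain ⟨g, _, _, hm⟩ := conn_TA _ (ptV_mem_TA i)
  exact hm.mem_right

/-- the `i`-th vector -/
def ptA (i : Fin 891) : leechLattice := ⟨vecL (ptV i), ptV_mem i⟩

/-- the list of coordinates of a vector -/
def toL (x : GolayPt → ℤ) : List ℤ := (List.range 24).map fun k => x (dec k)

theorem toL_vecL (l : List ℤ) (h : l.length = 24) : toL (vecL l) = l := by
  apply List.ext_getElem
  · unfold toL
    rw [List.length_map, List.length_range, h]
  · intro k h1 h2
    unfold toL at h1 ⊢
    rw [List.length_map, List.length_range] at h1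
    rw [List.getElem_map, List.getElem_range, vecL_dec l k h1, List.getD_eq_getElem _ _ h2]

theorem ptA_injective : Function.Injective ptA := by
  intro i j hij
  have h1 : vecL (ptV i) = vecL (ptV j) := congrArg Subtype.val hij
  have h2 : ptV i = ptV j := by
    rw [← toL_vecL (ptV i) (TA_len24 _ (ptV_mem_TA i)), ← toL_vecL (ptV j) (TA_len24 _ (ptV_mem_TA j)),
      h1]
  rw [ptV_eq, ptV_eq] at h2
  exact Fin.ext ((List.Nodup.getElem_inj_iff TA_nodup).mp h2)

/-! ### the stabiliser and its action on the 891 vectors -/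

/-- the joint stabiliser of the two base vectors -/
abbrev HS : Subgroup Co0 := MulAction.stabilizer Co0 v0 ⊓ MulAction.stabilizer Co0 w0

/-- the elements of `HS` permuting the 891 vectors -/
abbrev H0 : Subgroup ↥HS := famStab ptA ptA_injective

/-- the action on the 891 vectors -/
noncomputable abbrev rhoA : ↥H0 →* Equiv.Perm (Fin 891) := famHom ptA ptA_injective

/-- a valid word fixing the base vectors gives an element of `HS` -/
theorem word_elem (w : List Letter) (hw : stabW [V0L, W0L] w = true) :
    ∃ g : ↥HS, ∀ (l : List ℤ) (h : vecL l ∈ leechLattice),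
      ((g • (⟨vecL l, h⟩ : leechLattice) : leechLattice) : GolayPt → ℤ) = vecL (appW w l) := by
  unfold stabW at hw
  rw [Bool.and_eq_true, List.all_eq_true] at hw
  obtain ⟨g, hg, hgl⟩ := word_sound w hw.1
  have hfix : ∀ b ∈ [V0L, W0L], ∀ hb : vecL b ∈ leechLattice,
      (⟨g, hg⟩ : Co0) • (⟨vecL b, hb⟩ : leechLattice) = ⟨vecL b, hb⟩ := by
    intro b hb hb'
    apply Subtype.ext
    show ((g ⟨vecL b, hb'⟩ : leechLattice) : GolayPt → ℤ) = vecL b
    rw [hgl b hb']
    have := hw.2 b hb
    rw [beq_iff_eq] at this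
    rw [this]
  refine ⟨⟨⟨g, hg⟩, Subgroup.mem_inf.mpr ⟨?_, ?_⟩⟩, fun l h => hgl l h⟩
  · exact hfix V0L (by simp) V0L_mem
  · exact hfix W0L (by simp) W0L_mem

/-- an entry of a packed table, ten bits per entry -/
def sigma (sg i : ℕ) : ℕ := (sg >>> (10 * i)) &&& 1023

/-- the word `w` maps the vectors of the list, numbered from `i`, as the table says -/
def chkA (w : List Letter) (sg : ℕ) : List (List ℤ) → ℕ → Bool
  | [], _ => true
  | x :: xs, i =>
    (appQ w x == TA.getD (sigma sg i) []) && decide (sigma sg i < 891) && chkA w sg xs (i + 1)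

theorem chkA_sound (w : List Letter) (sg : ℕ) : ∀ (L : List (List ℤ)) (i0 : ℕ),
    chkA w sg L i0 = true → ∀ (j : ℕ) (hj : j < L.length),
      appW w L[j] = TA.getD (sigma sg (i0 + j)) [] ∧ sigma sg (i0 + j) < 891 := by
  intro L
  induction L with
  | nil => intro i0 _ j hj; exact absurd hj (Nat.not_lt_zero _)
  | cons x xs ih =>
    intro i0 h j hj
    unfold chkA at h
    rw [Bool.and_eq_true, Bool.and_eq_true, beq_iff_eq, decide_eq_true_eq] at h
    obtain ⟨⟨h1, h2⟩, h3⟩ := h
    cases j with
    | zero =>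
      rw [appQ_eq] at h1
      exact ⟨h1, h2⟩
    | succ j =>
      have := ih (i0 + 1) h3 j (Nat.lt_of_succ_lt_succ hj)
      rw [show i0 + 1 + j = i0 + (j + 1) by omega] at this
      exact this

/-- the table as a map of indices -/
def sigF (sg : ℕ) (i : Fin 891) : Fin 891 := Fin.ofNat 891 (sigma sg i.val)

theorem word_maps (w : List Letter) (sg : ℕ) (hw : stabW [V0L, W0L] w = true)
    (hA : chkA w sg TA 0 = true) :
    ∃ g : ↥HS, ∀ i : Fin 891, g • ptA i = ptA (sigF sg i) := by
  obtain ⟨g, hg⟩ := word_elem w hw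
  refine ⟨g, fun i => ?_⟩
  apply Subtype.ext
  have h1 := hg (ptV i) (ptV_mem i)
  have h2 := chkA_sound w sg TA 0 hA i.val (by rw [TA_len]; exact i.2)
  rw [Nat.zero_add] at h2
  show ((g • (⟨vecL (ptV i), ptV_mem i⟩ : leechLattice) : leechLattice) : GolayPt → ℤ) =
    vecL (ptV (sigF sg i))
  rw [h1, ptV_eq i, h2.1]
  unfold ptV sigF
  rw [Fin.val_ofNat, Nat.mod_eq_of_lt h2.2]

/-! ### the quads -/

open scoped Pointwise

/-- the `p`-th quad, a set of 27 of the 891 vectors -/
def quad (p : Fin 693) : Finset (Fin 891) :=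
  Finset.univ.filter fun a : Fin 891 => (QM.getD p.val 0).testBit a.val = true

theorem mem_quad (p : Fin 693) (a : Fin 891) :
    a ∈ quad p ↔ (QM.getD p.val 0).testBit a.val = true := by
  unfold quad
  rw [Finset.mem_filter]
  exact ⟨fun h => h.2, fun h => ⟨Finset.mem_univ a, h⟩⟩

theorem QM_len : QM.length = 693 := by decide +kernel

set_option exponentiation.threshold 1000 in
theorem QM_lt : QM.all (fun m => decide (m < 2 ^ 891)) = true := by decide +kernel

theorem QM_nodup : QM.Nodup := by
  have h : (QM.map fun m : ℕ => [(m : ℤ)]).Nodup := nodup_of_build _ (by decide +kernel)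
  exact List.Nodup.of_map _ h

theorem quad_injective : Function.Injective quad := by
  intro p q h
  have hp : p.val < QM.length := by rw [QM_len]; exact p.2
  have hq : q.val < QM.length := by rw [QM_len]; exact q.2
  have hlt : ∀ r : Fin 693, QM.getD r.val 0 < 2 ^ 891 := by
    intro r
    have hr : r.val < QM.length := by rw [QM_len]; exact r.2
    have := QM_lt
    rw [List.all_eq_true] at this
    have := this _ (List.getElem_mem hr)
    rw [decide_eq_true_eq] at this
    rw [List.getD_eq_getElem _ _ hr]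
    exact this
  have e : QM.getD p.val 0 = QM.getD q.val 0 := by
    apply Nat.eq_of_testBit_eq
    intro i
    by_cases hi : i < 891
    · have h1 := mem_quad p ⟨i, hi⟩
      have h2 := mem_quad q ⟨i, hi⟩
      rw [h] at h1
      have h3 := h1.symm.trans h2
      exact Bool.eq_iff_iff.mpr h3
    · have hpow : (2 : ℕ) ^ 891 ≤ 2 ^ i := Nat.pow_le_pow_right (by norm_num) (by omega)
      rw [Nat.testBit_lt_two_pow (lt_of_lt_of_le (hlt p) hpow),
        Nat.testBit_lt_two_pow (lt_of_lt_of_le (hlt q) hpow)]
  rw [List.getD_eq_getElem _ _ hp, List.getD_eq_getElem _ _ hq] at e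
  exact Fin.ext ((List.Nodup.getElem_inj_iff QM_nodup).mp e)

/-- the permutations of the 891 vectors permuting the quads -/
abbrev RQ : Subgroup (Equiv.Perm (Fin 891)) := famStab quad quad_injective

/-- the action on the quads -/
noncomputable abbrev actQ : ↥RQ →* Equiv.Perm (Fin 693) := famHom quad quad_injective

/-- the elements of `H0` whose action permutes the quads -/
noncomputable abbrev H1 : Subgroup ↥H0 := RQ.comap rhoA

/-- the action on the 693 quads -/
noncomputable def rho : ↥H1 →* Equiv.Perm (Fin 693) :=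
  actQ.comp ((rhoA.comp H1.subtype).codRestrict RQ fun x => x.2)

/-! ### matching a word with a unitary transvection -/

/-- the image of the `p`-th isotropic point under the transvection with centre `v` -/
def tauN (v : V) (p : ℕ) : ℕ := (nrm (tv v (pt (Fin.ofNat 1366 p)))).val

theorem thetaX_T_val (v : V) (hv : hf v v = 0) (p : Fin 693) :
    (thetaX (T v hv) p).val = tauN v p.val := by
  have h := thetaX_spec (T v hv) p
  rw [theta_T] at h
  have h2 := congrArg Fin.val h
  have e : iota p = Fin.ofNat 1366 p.val := by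
    apply Fin.ext
    rw [Fin.val_ofNat, Nat.mod_eq_of_lt (lt_trans p.2 (by norm_num))]
    rfl
  rw [e] at h2
  exact h2

/-- the `j`-th member of a packed quad -/
def member (qp j : ℕ) : ℕ := (qp >>> (10 * j)) &&& 1023

/-- the bit mask of the first `n` members of a packed quad -/
def orMask (qp : ℕ) : ℕ → ℕ
  | 0 => 0
  | j + 1 => orMask qp j ||| 2 ^ member qp j

theorem orMask_sound (qp : ℕ) : ∀ n a, (orMask qp n).testBit a = true →
    ∃ j < n, member qp j = a := by
  intro n
  induction n with
  | zero => intro a h; simp [orMask] at h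
  | succ n ih =>
    intro a h
    unfold orMask at h
    rw [Nat.testBit_or, Bool.or_eq_true] at h
    rcases h with h | h
    · obtain ⟨j, hj, e⟩ := ih a h
      exact ⟨j, Nat.lt_succ_of_lt hj, e⟩
    · rw [Nat.testBit_two_pow, decide_eq_true_eq] at h
      exact ⟨n, Nat.lt_succ_self n, h⟩

/-- the packed quads agree with the masks -/
def chkP : ℕ → Bool
  | 0 => true
  | p + 1 => (strict (QP.getD p 0) fun qp => QM.getD p 0 == orMask qp 27) && chkP p

theorem chkP_sound : ∀ n, chkP n = true → ∀ p < n, QM.getD p 0 = orMask (QP.getD p 0) 27 := by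
  intro n
  induction n with
  | zero => intro _ p hp; exact absurd hp (Nat.not_lt_zero _)
  | succ n ih =>
    intro h p hp
    unfold chkP at h
    rw [Bool.and_eq_true, strict_eq, beq_iff_eq] at h
    rcases Nat.lt_succ_iff_lt_or_eq.mp hp with h1 | rfl
    · exact ih h.2 p h1
    · exact h.1

theorem QP_ok : chkP 693 = true := by decide +kernel

/-- the members of one quad are mapped into another -/
def chkRow (qp m' sg : ℕ) : ℕ → Bool
  | 0 => true
  | j + 1 => m'.testBit (sigma sg (member qp j)) && chkRow qp m' sg j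

theorem chkRow_sound (qp m' sg : ℕ) : ∀ n, chkRow qp m' sg n = true →
    ∀ j < n, m'.testBit (sigma sg (member qp j)) = true := by
  intro n
  induction n with
  | zero => intro _ j hj; exact absurd hj (Nat.not_lt_zero _)
  | succ n ih =>
    intro h j hj
    unfold chkRow at h
    rw [Bool.and_eq_true] at h
    rcases Nat.lt_succ_iff_lt_or_eq.mp hj with h1 | rfl
    · exact ih h.2 j h1
    · exact h.1

/-- the table maps every quad into the quad prescribed by the transvection -/
def chkQ (sg : ℕ) (v : V) : ℕ → Bool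
  | 0 => true
  | p + 1 =>
    (strict (QP.getD p 0) fun qp => strict (QM.getD (tauN v p) 0) fun m' => chkRow qp m' sg 27) &&
      chkQ sg v p

theorem chkQ_sound (sg : ℕ) (v : V) : ∀ n, n ≤ 693 → chkQ sg v n = true → ∀ p < n, ∀ a : ℕ,
    (QM.getD p 0).testBit a = true → (QM.getD (tauN v p) 0).testBit (sigma sg a) = true := by
  intro n
  induction n with
  | zero => intro _ _ p hp; exact absurd hp (Nat.not_lt_zero _)
  | succ n ih =>
    intro hn h p hp a hm
    unfold chkQ at h
    rw [Bool.and_eq_true, strict_eq, strict_eq] at h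
    rcases Nat.lt_succ_iff_lt_or_eq.mp hp with h1 | rfl
    · exact ih (Nat.le_of_succ_le hn) h.2 p h1 a hm
    · rw [chkP_sound 693 QP_ok p (by omega)] at hm
      obtain ⟨j, hj, rfl⟩ := orMask_sound _ 27 a hm
      exact chkRow_sound _ _ _ 27 h.1 j hj

/-- a valid word fixing the base vectors, acting on the 891 vectors by a table compatible with
the quads and the transvection with centre `v`, gives an element of `H1` acting on the quads as
that transvection acts on the isotropic points -/
theorem gen_exists (w : List Letter) (sg : ℕ) (v : V) (hv : hf v v = 0)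
    (hw : stabW [V0L, W0L] w = true) (hA : chkA w sg TA 0 = true)
    (hQ : chkQ sg v 693 = true) : ∃ h : ↥H1, rho h = thetaX (T v hv) := by
  obtain ⟨g, hg⟩ := word_maps w sg hw hA
  have hg0 : g ∈ H0 := fun i => ⟨sigF sg i, hg i⟩
  have hσ : ∀ i, rhoA ⟨g, hg0⟩ i = sigF sg i :=
    famHom_eq ptA ptA_injective ⟨g, hg0⟩ (sigF sg) hg
  have hval : ∀ a : Fin 891, (sigF sg a).val = sigma sg a.val := by
    intro a
    have h2 := chkA_sound w sg TA 0 hA a.val (by rw [TA_len]; exact a.2)
    rw [Nat.zero_add] at h2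
    unfold sigF
    rw [Fin.val_ofNat, Nat.mod_eq_of_lt h2.2]
  have hmaps : ∀ p : Fin 693, ∀ a ∈ quad p,
      (rhoA ⟨g, hg0⟩) a ∈ quad (thetaX (T v hv) p) := by
    intro p a ha
    rw [mem_quad] at ha ⊢
    rw [hσ a, thetaX_T_val, hval]
    exact chkQ_sound sg v 693 (le_refl _) hQ p.val p.2 a.val ha
  have himg := image_eq_of_maps (rhoA ⟨g, hg0⟩) (thetaX (T v hv)) quad hmaps
  have hsm : ∀ p, (rhoA ⟨g, hg0⟩) • quad p = quad (thetaX (T v hv) p) := by
    intro p
    rw [← himg p]
    ext b
    rw [Finset.mem_smul_finset, Finset.mem_image]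
    constructor
    · rintro ⟨a, ha, rfl⟩
      exact ⟨a, ha, rfl⟩
    · rintro ⟨a, ha, rfl⟩
      exact ⟨a, ha, rfl⟩
  have hg1 : rhoA ⟨g, hg0⟩ ∈ RQ := fun p => ⟨_, hsm p⟩
  refine ⟨⟨⟨g, hg0⟩, hg1⟩, ?_⟩
  ext p
  show ((actQ ⟨rhoA ⟨g, hg0⟩, hg1⟩) p).val = (thetaX (T v hv) p).val
  rw [famHom_eq quad quad_injective ⟨rhoA ⟨g, hg0⟩, hg1⟩ (thetaX (T v hv)) hsm p]

end Cfsg.Agent.Lib.Helper91_U6Leech
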