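import Cfsg.Agent.Lib.Helper91_LeechOrb

/-!
# A faster evaluation of `xi` on lists

helper91.  `xiL` of `Helper91_LeechWord` computes each of the twenty-four coordinates with a sum
over all twenty-four positions.  `xiQ` destructures the list once and uses the six tetrad sums;
`appQ` is the corresponding action of words.  Both agree with the originals on all inputs.
-/

set_option autoImplicit false
open Cfsg

namespace Cfsg.Agent.Lib.Helper91_XiFast

open Cfsg.Agent.Lib.Helper7_Xi Cfsg.Agent.Lib.Helper91_LeechWord Cfsg.Agent.Lib.Helper91_LeechOrb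

/-- `xi` on lists of length twenty-four, by tetrads -/
def xiQ : List ℤ → List ℤ
  | [a0, a1, a2, a3, a4, a5, a6, a7, a8, a9, a10, a11, a12, a13, a14, a15, a16, a17, a18, a19,
      a20, a21, a22, a23] =>
    let s0 := -(a0 + a1 + a2 + a23)
    let s1 := a4 + a13 + a16 + a22
    let s2 := a3 + a5 + a14 + a17
    let s3 := a6 + a7 + a19 + a21
    let s4 := a9 + a10 + a15 + a20
    let s5 := a8 + a11 + a12 + a18
    [(-(a0 + a0) - s0) / 2, (-(a1 + a1) - s0) / 2, (-(a2 + a2) - s0) / 2, (a3 + a3 - s2) / 2,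
      (a4 + a4 - s1) / 2, (a5 + a5 - s2) / 2, (a6 + a6 - s3) / 2, (a7 + a7 - s3) / 2,
      (a8 + a8 - s5) / 2, (a9 + a9 - s4) / 2, (a10 + a10 - s4) / 2, (a11 + a11 - s5) / 2,
      (a12 + a12 - s5) / 2, (a13 + a13 - s1) / 2, (a14 + a14 - s2) / 2, (a15 + a15 - s4) / 2,
      (a16 + a16 - s1) / 2, (a17 + a17 - s2) / 2, (a18 + a18 - s5) / 2, (a19 + a19 - s3) / 2,
      (a20 + a20 - s4) / 2, (a21 + a21 - s3) / 2, (a22 + a22 - s1) / 2, (-(a23 + a23) - s0) / 2]
  | l => xiL l

theorem xiQ_eq (l : List ℤ) : xiQ l = xiL l := by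
  unfold xiQ
  split
  · rename_i a0 a1 a2 a3 a4 a5 a6 a7 a8 a9 a10 a11 a12 a13 a14 a15 a16 a17 a18 a19 a20 a21 a22 a23
    simp only [xiL, Cfsg.Agent.Lib.Helper91_LeechWord.tsum, tetL, sgL, List.range, List.range.loop, List.map, List.getD_cons_zero,
      List.getD_cons_succ, List.sum_cons, List.sum_nil]
    norm_num
    refine ⟨?_, ?_, ?_, ?_, ?_, ?_, ?_, ?_, ?_, ?_, ?_, ?_, ?_, ?_, ?_, ?_, ?_, ?_, ?_, ?_, ?_,
      ?_, ?_, ?_⟩ <;> omega
  · rfl

/-- action of a letter, with the fast `xi` -/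
def appLQ : Letter → List ℤ → List ℤ
  | .mono _ t' m, l => monoL t' m l
  | .xi, l => xiQ l

theorem appLQ_eq (a : Letter) (l : List ℤ) : appLQ a l = a.app l := by
  cases a with
  | mono t t' m => rfl
  | xi => exact xiQ_eq l

/-- action of a word, with the fast `xi` -/
def appQ : List Letter → List ℤ → List ℤ
  | [], l => l
  | a :: w, l => appLQ a (appQ w l)

theorem appQ_eq (w : List Letter) (l : List ℤ) : appQ w l = appW w l := by
  induction w with
  | nil => rfl
  | cons a w ih =>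
    show appLQ a (appQ w l) = a.app (appW w l)
    rw [ih, appLQ_eq]

end Cfsg.Agent.Lib.Helper91_XiFast
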