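import Mathlib
import Cfsg.Agent.Lib.Helper32_BBDefs

/-!
Market BB (helper32, S1881), package CENT2a (second seat): for `x ∈ N(J)` and a perfect subgroup
`K ≤ C(x)` covered by `J C(J)`, `K` is covered by `C_J(x) C(J)`.
-/

set_option autoImplicit false

universe u

namespace Cfsg.Agent.Lib.Helper92_BB_CENT2a

open Cfsg Cfsg.Agent.Lib.Helper23_Layer Cfsg.Agent.Lib.Helper32_BBDefs
open scoped commutatorElement

variable {X : Type u} [Group X] [Finite X] {p : ℕ} [Fact p.Prime]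

/-! ### commutator identities -/

theorem comm_left {z a y : X} (hza : Commute z a) (hzy : Commute z y) : ⁅z * a, y⁆ = ⁅a, y⁆ := by
  rw [commutatorElement_def, commutatorElement_def, mul_inv_rev]
  have h : Commute z (a * y * a⁻¹) := (hza.mul_right hzy).mul_right hza.inv_right
  calc z * a * y * (a⁻¹ * z⁻¹) * y⁻¹ = z * (a * y * a⁻¹) * z⁻¹ * y⁻¹ := by group
    _ = (a * y * a⁻¹) * z * z⁻¹ * y⁻¹ := by rw [h.eq]
    _ = a * y * a⁻¹ * y⁻¹ := by group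

theorem comm_right {z a y : X} (hza : Commute z a) (hzy : Commute z y) : ⁅a, z * y⁆ = ⁅a, y⁆ := by
  rw [← commutatorElement_inv (z * y) a, comm_left hzy hza, commutatorElement_inv]

theorem comm_mul_mul {t₁ t₂ c₁ c₂ : X} (h11 : Commute t₁ c₁) (h12 : Commute t₁ c₂)
    (h21 : Commute t₂ c₁) (h22 : Commute t₂ c₂) :
    ⁅t₁ * c₁, t₂ * c₂⁆ = ⁅t₁, t₂⁆ * ⁅c₁, c₂⁆ := by
  rw [commutatorElement_def, commutatorElement_def, commutatorElement_def]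
  have a1 : c₁ * t₂ = t₂ * c₁ := h21.eq.symm
  have a2 : c₂ * t₁⁻¹ = t₁⁻¹ * c₂ := (h12.inv_left).eq.symm
  have a3 : c₁⁻¹ * t₂⁻¹ = t₂⁻¹ * c₁⁻¹ := (h21.inv_left.inv_right).eq.symm
  have a4 : c₁⁻¹ * t₁⁻¹ = t₁⁻¹ * c₁⁻¹ := (h11.inv_left.inv_right).eq.symm
  have a5 : c₂⁻¹ * t₂⁻¹ = t₂⁻¹ * c₂⁻¹ := (h22.inv_left.inv_right).eq.symm
  have a6 : c₁ * t₁⁻¹ = t₁⁻¹ * c₁ := (h11.inv_left).eq.symm
  have a7 : c₂ * t₂⁻¹ = t₂⁻¹ * c₂ := (h22.inv_left).eq.symm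
  have a8 : c₁ * t₂⁻¹ = t₂⁻¹ * c₁ := (h21.inv_left).eq.symm
  calc t₁ * c₁ * (t₂ * c₂) * (t₁ * c₁)⁻¹ * (t₂ * c₂)⁻¹
      = t₁ * (c₁ * t₂) * c₂ * (c₁⁻¹ * t₁⁻¹) * (c₂⁻¹ * t₂⁻¹) := by group
    _ = t₁ * (t₂ * c₁) * c₂ * (t₁⁻¹ * c₁⁻¹) * (t₂⁻¹ * c₂⁻¹) := by rw [a1, a4, a5]
    _ = t₁ * t₂ * c₁ * (c₂ * t₁⁻¹) * (c₁⁻¹ * t₂⁻¹) * c₂⁻¹ := by group
    _ = t₁ * t₂ * c₁ * (t₁⁻¹ * c₂) * (t₂⁻¹ * c₁⁻¹) * c₂⁻¹ := by rw [a2, a3]
    _ = t₁ * t₂ * (c₁ * t₁⁻¹) * (c₂ * t₂⁻¹) * c₁⁻¹ * c₂⁻¹ := by group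
    _ = t₁ * t₂ * (t₁⁻¹ * c₁) * (t₂⁻¹ * c₂) * c₁⁻¹ * c₂⁻¹ := by rw [a6, a7]
    _ = t₁ * t₂ * t₁⁻¹ * (c₁ * t₂⁻¹) * c₂ * c₁⁻¹ * c₂⁻¹ := by group
    _ = t₁ * t₂ * t₁⁻¹ * (t₂⁻¹ * c₁) * c₂ * c₁⁻¹ * c₂⁻¹ := by rw [a8]
    _ = t₁ * t₂ * t₁⁻¹ * t₂⁻¹ * (c₁ * c₂ * c₁⁻¹ * c₂⁻¹) := by group

/-! ### normalisers and centralisers -/

theorem conj_mem_centralizer_of_normalizer {J : Subgroup X} {n c : X}
    (hn : n ∈ Subgroup.normalizer (J : Set X))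
    (hc : c ∈ Subgroup.centralizer (J : Set X)) :
    n * c * n⁻¹ ∈ Subgroup.centralizer (J : Set X) := by
  rw [Subgroup.mem_centralizer_iff] at hc ⊢
  intro s hs
  have h1 : n⁻¹ * s * n ∈ J := by
    have h2 := (Subgroup.mem_normalizer_iff.mp (Subgroup.inv_mem _ hn)) s
    rw [inv_inv] at h2
    exact h2.mp hs
  have h2 := hc _ h1
  calc s * (n * c * n⁻¹) = n * ((n⁻¹ * s * n) * c) * n⁻¹ := by group
    _ = n * (c * (n⁻¹ * s * n)) * n⁻¹ := by rw [h2]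
    _ = n * c * n⁻¹ * s := by group

theorem normalizer_le_normalizer_centralizer' (J : Subgroup X) :
    Subgroup.normalizer (J : Set X) ≤
      Subgroup.normalizer ((Subgroup.centralizer (J : Set X) : Subgroup X) : Set X) := by
  intro n hn
  rw [Subgroup.mem_normalizer_iff]
  intro c
  constructor
  · intro hc
    exact conj_mem_centralizer_of_normalizer hn hc
  · intro hc
    have := conj_mem_centralizer_of_normalizer (Subgroup.inv_mem _ hn) hc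
    have e : n⁻¹ * (n * c * n⁻¹) * n⁻¹⁻¹ = c := by group
    rwa [e] at this

theorem cent2a {J K : Subgroup X} {x : X} (hxJ : x ∈ Subgroup.normalizer (J : Set X))
    (hKx : K ≤ Subgroup.centralizer ({x} : Set X)) (hKperf : ⁅K, K⁆ = K)
    (h : ∀ k ∈ K, ∃ j ∈ J, j⁻¹ * k ∈ Subgroup.centralizer (J : Set X)) :
    ∀ k ∈ K, ∃ j ∈ J ⊓ Subgroup.centralizer ({x} : Set X),
      j⁻¹ * k ∈ Subgroup.centralizer (J : Set X) := by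
  set C : Subgroup X := Subgroup.centralizer (J : Set X) with hC
  have hcm : ∀ c ∈ C, ∀ j ∈ J, Commute c j := fun c hc j hj =>
    ((Subgroup.mem_centralizer_iff.mp hc) j hj).symm
  have hJn : J ≤ Subgroup.normalizer (C : Set X) :=
    Subgroup.le_normalizer.trans (normalizer_le_normalizer_centralizer' J)
  -- the commutator `[x, j]` of a representative `j` is central in `J`
  have hP : ∀ k ∈ K, ∀ j ∈ J, j⁻¹ * k ∈ C → x * j * x⁻¹ * j⁻¹ ∈ J ⊓ C := by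
    intro k hk j hj hc
    have hxk : x * k = k * x := (Subgroup.mem_centralizer_iff.mp (hKx hk)) x (Set.mem_singleton x)
    have hxj : x * j * x⁻¹ ∈ J := ((Subgroup.mem_normalizer_iff.mp hxJ) j).mp hj
    refine ⟨J.mul_mem hxj (J.inv_mem hj), ?_⟩
    set c := j⁻¹ * k with hcdef
    have hxc : x * c⁻¹ * x⁻¹ ∈ C := conj_mem_centralizer_of_normalizer hxJ (C.inv_mem hc)
    have e : x * j * x⁻¹ * j⁻¹ = j * (c * (x * c⁻¹ * x⁻¹)) * j⁻¹ := by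
      have hk' : k = j * c := by rw [hcdef]; group
      have e1 : x * j * x⁻¹ = j * c * (x * c⁻¹ * x⁻¹) := by
        calc x * j * x⁻¹ = (x * k) * c⁻¹ * x⁻¹ := by rw [hk']; group
          _ = (k * x) * c⁻¹ * x⁻¹ := by rw [hxk]
          _ = j * c * (x * c⁻¹ * x⁻¹) := by rw [hk']; group
      rw [e1]
      group
    rw [e]
    exact ((Subgroup.mem_normalizer_iff.mp (hJn hj)) _).mp (C.mul_mem hc hxc)
  -- `K ≤ C_J(x) ⊔ C`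
  have hKle : K ≤ (J ⊓ Subgroup.centralizer ({x} : Set X)) ⊔ C := by
    rw [← hKperf, Subgroup.commutator_le]
    intro k₁ hk₁ k₂ hk₂
    obtain ⟨j₁, hj₁, hc₁⟩ := h k₁ hk₁
    obtain ⟨j₂, hj₂, hc₂⟩ := h k₂ hk₂
    have hz₁ := hP k₁ hk₁ j₁ hj₁ hc₁
    have hz₂ := hP k₂ hk₂ j₂ hj₂ hc₂
    set c₁ := j₁⁻¹ * k₁ with hc₁d
    set c₂ := j₂⁻¹ * k₂ with hc₂d
    set z₁ := x * j₁ * x⁻¹ * j₁⁻¹ with hz₁d
    set z₂ := x * j₂ * x⁻¹ * j₂⁻¹ with hz₂d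
    have hk₁e : k₁ = j₁ * c₁ := by rw [hc₁d]; group
    have hk₂e : k₂ = j₂ * c₂ := by rw [hc₂d]; group
    have e : ⁅k₁, k₂⁆ = ⁅j₁, j₂⁆ * ⁅c₁, c₂⁆ := by
      rw [hk₁e, hk₂e]
      exact comm_mul_mul (hcm c₁ hc₁ j₁ hj₁).symm (hcm c₂ hc₂ j₁ hj₁).symm
        (hcm c₁ hc₁ j₂ hj₂).symm (hcm c₂ hc₂ j₂ hj₂).symm
    -- `[j₁, j₂]` commutes with `x`
    have hw : ⁅j₁, j₂⁆ ∈ J ⊓ Subgroup.centralizer ({x} : Set X) := by
      refine ⟨?_, ?_⟩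
      · rw [commutatorElement_def]
        exact J.mul_mem (J.mul_mem (J.mul_mem hj₁ hj₂) (J.inv_mem hj₁)) (J.inv_mem hj₂)
      · show ⁅j₁, j₂⁆ ∈ Subgroup.centralizer ({x} : Set X)
        rw [Subgroup.mem_centralizer_iff]
        intro y hy
        rw [Set.mem_singleton_iff] at hy
        subst hy
        have e1 : y * j₁ * y⁻¹ = z₁ * j₁ := by rw [hz₁d]; group
        have e2 : y * j₂ * y⁻¹ = z₂ * j₂ := by rw [hz₂d]; group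
        have e3 : y * ⁅j₁, j₂⁆ * y⁻¹ = ⁅y * j₁ * y⁻¹, y * j₂ * y⁻¹⁆ := by
          rw [commutatorElement_def, commutatorElement_def]; group
        have e4 : ⁅z₁ * j₁, z₂ * j₂⁆ = ⁅j₁, j₂⁆ := by
          rw [comm_left (hcm z₁ hz₁.2 j₁ hj₁) (hcm z₁ hz₁.2 (z₂ * j₂) (J.mul_mem hz₂.1 hj₂)),
            comm_right (hcm z₂ hz₂.2 j₁ hj₁) (hcm z₂ hz₂.2 j₂ hj₂)]
        have e5 : y * ⁅j₁, j₂⁆ * y⁻¹ = ⁅j₁, j₂⁆ := by rw [e3, e1, e2, e4]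
        calc y * ⁅j₁, j₂⁆ = (y * ⁅j₁, j₂⁆ * y⁻¹) * y := by group
          _ = ⁅j₁, j₂⁆ * y := by rw [e5]
    rw [e]
    refine Subgroup.mul_mem _ (Subgroup.mem_sup_left hw) (Subgroup.mem_sup_right ?_)
    rw [commutatorElement_def]
    exact C.mul_mem (C.mul_mem (C.mul_mem hc₁ hc₂) (C.inv_mem hc₁)) (C.inv_mem hc₂)
  -- decompose
  intro k hk
  have hk' : k ∈ (((J ⊓ Subgroup.centralizer ({x} : Set X)) ⊔ C : Subgroup X) : Set X) := hKle hk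
  rw [Subgroup.coe_mul_of_left_le_normalizer_right _ C (inf_le_left.trans hJn)] at hk'
  obtain ⟨j, hj, c, hc, rfl⟩ := Set.mem_mul.mp hk'
  refine ⟨j, hj, ?_⟩
  have e : j⁻¹ * (j * c) = c := by group
  rw [e]
  exact hc

end Cfsg.Agent.Lib.Helper92_BB_CENT2a
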