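import Cfsg.Agent.Lib.Helper92_Rep

/-!
Centralisers in the automorphism group of the rank-24 lattice: an element normalising the group
generated by the coordinate permutation `a : x ↦ x + 1` is, up to sign, a coordinate permutation
fixing the extra point; an element commuting with `d : x ↦ 2 x` is, up to sign, a product of a
power of `d` and one of the six elements `1, e, z, ez, ze, eze`.
-/

set_option autoImplicit false
set_option linter.constructorNameAsVariable false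
open Cfsg
open scoped Pointwise

namespace Cfsg.Agent.Lib.Helper92_Co1Cent

open Cfsg.Agent.Lib.Helper7_M24 Cfsg.Agent.Lib.Helper7_Leech Cfsg.Agent.Lib.Helper92_Monomial
  Cfsg.Agent.Lib.Helper92_Co0Order Cfsg.Agent.Lib.Helper7_Mono Cfsg.Agent.Lib.Helper92_FixMono
  Cfsg.Agent.Lib.Helper92_FixLat Cfsg.Agent.Lib.Helper92_ZElt Cfsg.Agent.Lib.Helper92_QuadAut
  Cfsg.Agent.Lib.Helper93_OutM24 Cfsg.Agent.Lib.Helper93_M24Obj Cfsg.Agent.Lib.Helper92_Co3Cent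
  Cfsg.Agent.Lib.Helper92_Co2Cent Cfsg.Agent.Lib.Helper92_Co3Gen Cfsg.Agent.Lib.Helper92_Co2Gen
  Cfsg.Agent.Lib.Helper92_Rep
open Cfsg.Agent.Lib.Helper7_Xi (vecL)
open Cfsg.Agent.S5546 (Lam vec8 e8)
open Cfsg.Spor (vecV vecU vecU' leechU leechU' leechV)
open Cfsg.Agent.S0398 (negElt negElt_mem_center)
open MulAction

/-! ### the negation -/

theorem negElt_smul' (v : Lam) : negElt • v = -v := rfl

theorem negElt_comm (g : ↥Co0) : negElt * g = g * negElt :=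
  (Subgroup.mem_center_iff.mp negElt_mem_center g).symm

theorem negElt_sq : negElt * negElt = 1 := by
  apply ext_elt
  intro v
  rw [mul_smul', negElt_smul', negElt_smul', neg_neg, one_smul]

theorem negElt_inv : negElt⁻¹ = negElt := inv_eq_of_mul_eq_one_left negElt_sq

/-! ### vectors fixed by `a` -/

theorem tableA : ∀ s ∈ Finset.Icc (-5 : ℤ) 5, ∀ t ∈ Finset.Icc (-1 : ℤ) 1,
    s ^ 2 + 23 * t ^ 2 = 32 → (-3 * s + 23 * t) % 8 = 0 →
    (s = -3 ∧ t = 1) ∨ (s = 3 ∧ t = -1) := by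
  decide

theorem arithA2 (s t : ℤ) (hn : s ^ 2 + 23 * t ^ 2 = 32) (hd : (8 : ℤ) ∣ -3 * s + 23 * t) :
    (s = -3 ∧ t = 1) ∨ (s = 3 ∧ t = -1) := by
  have ht : 23 * t ^ 2 ≤ 32 := by nlinarith [sq_nonneg s]
  have ht1 : -1 ≤ t ∧ t ≤ 1 := by constructor <;> nlinarith
  have hs : s ^ 2 ≤ 32 := by nlinarith [sq_nonneg t]
  have hs1 : -5 ≤ s ∧ s ≤ 5 := by constructor <;> nlinarith
  exact tableA s (Finset.mem_Icc.mpr hs1) t (Finset.mem_Icc.mpr ht1) hn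
    (Int.emod_eq_zero_of_dvd hd)

theorem neg_orbFunA (s t : ℤ) : -orbFunA s t = orbFunA (-s) (-t) := by
  funext p
  rcases p with _ | q <;> rfl

/-- The vectors of norm 32 fixed by `a` are `±(-3, 1^23)`. -/
theorem fix_PA_cases (x : Lam) (hfix : PA • x = x) (hn : sqNorm (x : GolayPt → ℤ) = 32) :
    x = RL ∨ x = -RL := by
  have hinv := inv_of_fix_PA x hfix
  rw [sqNorm_a x.1 hinv] at hn
  have hd : (8 : ℤ) ∣ dotInt (RL : GolayPt → ℤ) (x : GolayPt → ℤ) :=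
    eight_dvd_dot _ _ RL.2 x.2
  rw [RL_eqA, dot_orbFunA _ _ x.1 hinv] at hd
  rcases arithA2 _ _ hn (by
    have : -3 * x.1 none + 23 * (1 * x.1 (some 0)) = -3 * x.1 none + 23 * x.1 (some 0) := by ring
    rw [← this]
    exact hd) with ⟨h1, h2⟩ | ⟨h1, h2⟩
  · left
    apply Subtype.ext
    rw [eq_orbFunA x.1 hinv, h1, h2, RL_eqA]
  · right
    apply Subtype.ext
    show x.1 = -(RL : GolayPt → ℤ)
    rw [eq_orbFunA x.1 hinv, h1, h2, RL_eqA, neg_orbFunA]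
    rfl

theorem PA_zpow_fix_RL (k : ℤ) : PA ^ k • RL = RL := by
  have hmem : PA ∈ stabilizer ↥Co0 RL := PA_fix_RL
  exact (stabilizer ↥Co0 RL).zpow_mem hmem k

/-- An element normalising `⟨a⟩` is, up to sign, a coordinate permutation fixing the extra
point. -/
theorem norm_PA_cases (g : ↥Co0) (k : ℤ) (hn : PA * g = g * PA ^ k) :
    ∃ σ : ↥M24, σ.1 none = none ∧ (g = perm σ ∨ g = negElt * perm σ) := by
  set x : Lam := g • RL with hx
  have hfix : PA • x = x := by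
    rw [hx, ← mul_smul', hn, mul_smul', PA_zpow_fix_RL]
  have hnorm : sqNorm (x : GolayPt → ℤ) = 32 := by
    rw [hx, sqNorm_smul, norm_RL]
  rcases fix_PA_cases x hfix hnorm with h | h
  · obtain ⟨σ, hσ, hg⟩ := mono_of_norm_PA g h k hn
    exact ⟨σ, hσ, Or.inl hg⟩
  · have hR : (negElt * g) • RL = RL := by
      rw [mul_smul', ← hx, h, negElt_smul', neg_neg]
    have hn' : PA * (negElt * g) = (negElt * g) * PA ^ k := by
      rw [← mul_assoc, ← negElt_comm, mul_assoc, hn, mul_assoc]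
    obtain ⟨σ, hσ, hg⟩ := mono_of_norm_PA (negElt * g) hR k hn'
    refine ⟨σ, hσ, Or.inr ?_⟩
    rw [← hg, ← mul_assoc, negElt_sq, one_mul]

/-- The centraliser of `a`, up to sign. -/
theorem cent_PA_cases (g : ↥Co0) (hc : g * PA = PA * g) :
    g ∈ Subgroup.zpowers PA ∨ negElt * g ∈ Subgroup.zpowers PA := by
  set x : Lam := g • RL with hx
  have hfix : PA • x = x := by
    rw [hx, ← mul_smul', ← hc, mul_smul', PA_fix_RL]
  have hnorm : sqNorm (x : GolayPt → ℤ) = 32 := by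
    rw [hx, sqNorm_smul, norm_RL]
  rcases fix_PA_cases x hfix hnorm with h | h
  · left
    exact cent_PA2 g h hc
  · right
    have hR : (negElt * g) • RL = RL := by
      rw [mul_smul', ← hx, h, negElt_smul', neg_neg]
    apply cent_PA2 _ hR
    rw [mul_assoc, hc, ← mul_assoc, ← mul_assoc, negElt_comm]

/-! ### vectors fixed by `d` -/

theorem tableD : ∀ s ∈ Finset.Icc (-5 : ℤ) 5, ∀ t ∈ Finset.Icc (-5 : ℤ) 5,
    ∀ u ∈ Finset.Icc (-1 : ℤ) 1, ∀ w ∈ Finset.Icc (-1 : ℤ) 1,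
    s ^ 2 + t ^ 2 + 11 * u ^ 2 + 11 * w ^ 2 = 32 →
    (-3 * s + t + 11 * u + 11 * w) % 8 = 0 → (s + 3 * t - 11 * u + 11 * w) % 8 = 0 →
    (s, t, u, w) ∈ ([(-3, 1, 1, 1), (3, -1, -1, -1), (1, 3, -1, 1), (-1, -3, 1, -1),
      (-3, -1, -1, 1), (3, 1, 1, -1), (1, -3, 1, 1), (-1, 3, -1, -1), (-4, 4, 0, 0),
      (4, -4, 0, 0), (-4, -4, 0, 0), (4, 4, 0, 0)] : List (ℤ × ℤ × ℤ × ℤ)) := by
  decide +kernel

theorem arithD (s t u w : ℤ) (hn : s ^ 2 + t ^ 2 + 11 * u ^ 2 + 11 * w ^ 2 = 32)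
    (h1 : (8 : ℤ) ∣ -3 * s + t + 11 * u + 11 * w) (h2 : (8 : ℤ) ∣ s + 3 * t - 11 * u + 11 * w) :
    (s = -3 ∧ t = 1 ∧ u = 1 ∧ w = 1) ∨ (s = 3 ∧ t = -1 ∧ u = -1 ∧ w = -1) ∨
    (s = 1 ∧ t = 3 ∧ u = -1 ∧ w = 1) ∨ (s = -1 ∧ t = -3 ∧ u = 1 ∧ w = -1) ∨
    (s = -3 ∧ t = -1 ∧ u = -1 ∧ w = 1) ∨ (s = 3 ∧ t = 1 ∧ u = 1 ∧ w = -1) ∨
    (s = 1 ∧ t = -3 ∧ u = 1 ∧ w = 1) ∨ (s = -1 ∧ t = 3 ∧ u = -1 ∧ w = -1) ∨
    (s = -4 ∧ t = 4 ∧ u = 0 ∧ w = 0) ∨ (s = 4 ∧ t = -4 ∧ u = 0 ∧ w = 0) ∨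
    (s = -4 ∧ t = -4 ∧ u = 0 ∧ w = 0) ∨ (s = 4 ∧ t = 4 ∧ u = 0 ∧ w = 0) := by
  obtain ⟨k1, k2, k3, k4, k5, k6, k7, k8⟩ := arith_d s t u w hn
  have := tableD s (Finset.mem_Icc.mpr ⟨k1, k2⟩) t (Finset.mem_Icc.mpr ⟨k3, k4⟩)
    u (Finset.mem_Icc.mpr ⟨k5, k6⟩) w (Finset.mem_Icc.mpr ⟨k7, k8⟩) hn
    (Int.emod_eq_zero_of_dvd h1) (Int.emod_eq_zero_of_dvd h2)
  simp only [List.mem_cons, Prod.mk.injEq, List.not_mem_nil, or_false] at this
  exact this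

theorem neg_orbFun (s t u w : ℤ) : -orbFun s t u w = orbFun (-s) (-t) (-u) (-w) := by
  funext p
  rcases p with _ | q
  · rfl
  · show -(if q = 0 then t else if q ∈ QR then u else w) =
      if q = 0 then -t else if q ∈ QR then -u else -w
    split_ifs <;> rfl

/-! ### the images of `(-3, 1^23)` under the six elements -/

theorem RL_list : (RL : GolayPt → ℤ) =
    vecL [1, 1, 1, 1, 1, 1, 1, 1, 1, 1, 1, 1, 1, 1, 1, 1, 1, 1, 1, 1, 1, 1, 1, -3] := by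
  funext p
  show (-(vecV + vec8 none)) p = _
  revert p
  decide

theorem img_z : ((zE • RL : Lam) : GolayPt → ℤ) = orbFun 1 3 (-1) 1 := R1_eq

theorem img_z_list : ((zE • RL : Lam) : GolayPt → ℤ) =
    vecL [3, -1, -1, -1, -1, 1, -1, 1, -1, -1, 1, 1, -1, -1, 1, 1, -1, 1, -1, 1, 1, 1, 1, 1] :=
  step_Z RL _ _ RL_list (by decide +kernel)

theorem img_e_list : ((EQ • RL : Lam) : GolayPt → ℤ) =
    vecL [-1, -1, -1, -1, -1, 1, -1, 1, -1, -1, 1, 1, -1, -1, 1, 1, -1, 1, -1, 1, 1, 1, 1, -3] :=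
  step_E RL _ _ RL_list (by decide +kernel)

theorem img_ez_list : (((EQ * zE) • RL : Lam) : GolayPt → ℤ) =
    vecL [-3, 1, 1, 1, 1, 1, 1, 1, 1, 1, 1, 1, 1, 1, 1, 1, 1, 1, 1, 1, 1, 1, 1, 1] :=
  step_E (zE • RL) _ _ img_z_list (by decide +kernel)

theorem img_ze_list : (((zE * EQ) • RL : Lam) : GolayPt → ℤ) =
    vecL [4, 0, 0, 0, 0, 0, 0, 0, 0, 0, 0, 0, 0, 0, 0, 0, 0, 0, 0, 0, 0, 0, 0, -4] :=
  step_Z (EQ • RL) _ _ img_e_list (by decide +kernel)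

theorem img_eze_list : (((EQ * zE * EQ) • RL : Lam) : GolayPt → ℤ) =
    vecL [-4, 0, 0, 0, 0, 0, 0, 0, 0, 0, 0, 0, 0, 0, 0, 0, 0, 0, 0, 0, 0, 0, 0, -4] :=
  step_E ((zE * EQ) • RL) _ _ img_ze_list (by decide +kernel)

theorem img_e : ((EQ • RL : Lam) : GolayPt → ℤ) = orbFun (-3) (-1) (-1) 1 := by
  rw [img_e_list]; funext p; revert p; decide

theorem img_ez : (((EQ * zE) • RL : Lam) : GolayPt → ℤ) = orbFun 1 (-3) 1 1 := by
  rw [img_ez_list]; funext p; revert p; decide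

theorem img_ze : (((zE * EQ) • RL : Lam) : GolayPt → ℤ) = orbFun (-4) 4 0 0 := by
  rw [img_ze_list]; funext p; revert p; decide

theorem img_eze : (((EQ * zE * EQ) • RL : Lam) : GolayPt → ℤ) = orbFun (-4) (-4) 0 0 := by
  rw [img_eze_list]; funext p; revert p; decide

/-- The six elements. -/
def IsS6 (t : ↥Co0) : Prop :=
  t = 1 ∨ t = EQ ∨ t = zE ∨ t = EQ * zE ∨ t = zE * EQ ∨ t = EQ * zE * EQ

/-- The vectors of norm 32 fixed by `d` are the images of `(-3, 1^23)` under the six elements and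
their negatives. -/
theorem fix_PD_cases (x : Lam) (hfix : PD • x = x) (hn : sqNorm (x : GolayPt → ℤ) = 32) :
    ∃ t : ↥Co0, IsS6 t ∧ (x = t • RL ∨ x = -(t • RL)) := by
  have hinv := inv_of_fix_PD x hfix
  rw [sqNorm_d x.1 hinv] at hn
  have hd1 : (8 : ℤ) ∣ dotInt (RL : GolayPt → ℤ) (x : GolayPt → ℤ) :=
    eight_dvd_dot _ _ RL.2 x.2
  have hd2 : (8 : ℤ) ∣ dotInt (R1 : GolayPt → ℤ) (x : GolayPt → ℤ) :=
    eight_dvd_dot _ _ R1.2 x.2
  rw [RL_eq, dot_orbFun _ _ _ _ x.1 hinv] at hd1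
  rw [R1_eq, dot_orbFun _ _ _ _ x.1 hinv] at hd2
  have e1 : -3 * x.1 none + 1 * x.1 (some 0) + 11 * (1 * x.1 (some 1)) +
      11 * (1 * x.1 (some 5)) =
      -3 * x.1 none + x.1 (some 0) + 11 * x.1 (some 1) + 11 * x.1 (some 5) := by ring
  have e2 : 1 * x.1 none + 3 * x.1 (some 0) + 11 * (-1 * x.1 (some 1)) +
      11 * (1 * x.1 (some 5)) =
      x.1 none + 3 * x.1 (some 0) - 11 * x.1 (some 1) + 11 * x.1 (some 5) := by ring
  rw [e1] at hd1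
  rw [e2] at hd2
  have key : ∀ (t : ↥Co0) (s' t' u' w' : ℤ), IsS6 t →
      ((t • RL : Lam) : GolayPt → ℤ) = orbFun s' t' u' w' →
      (x.1 none = s' ∧ x.1 (some 0) = t' ∧ x.1 (some 1) = u' ∧ x.1 (some 5) = w') →
      ∃ t : ↥Co0, IsS6 t ∧ (x = t • RL ∨ x = -(t • RL)) := by
    intro t s' t' u' w' ht himg ⟨h1, h2, h3, h4⟩
    refine ⟨t, ht, Or.inl ?_⟩
    apply Subtype.ext
    rw [eq_orbFun x.1 hinv, h1, h2, h3, h4, himg]
  have key' : ∀ (t : ↥Co0) (s' t' u' w' : ℤ), IsS6 t →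
      ((t • RL : Lam) : GolayPt → ℤ) = orbFun s' t' u' w' →
      (x.1 none = -s' ∧ x.1 (some 0) = -t' ∧ x.1 (some 1) = -u' ∧ x.1 (some 5) = -w') →
      ∃ t : ↥Co0, IsS6 t ∧ (x = t • RL ∨ x = -(t • RL)) := by
    intro t s' t' u' w' ht himg ⟨h1, h2, h3, h4⟩
    refine ⟨t, ht, Or.inr ?_⟩
    apply Subtype.ext
    show x.1 = -((t • RL : Lam) : GolayPt → ℤ)
    rw [eq_orbFun x.1 hinv, h1, h2, h3, h4, himg, neg_orbFun]
  have img_one : (((1 : ↥Co0) • RL : Lam) : GolayPt → ℤ) = orbFun (-3) 1 1 1 := by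
    rw [one_smul]; exact RL_eq
  rcases arithD _ _ _ _ hn hd1 hd2 with h | h | h | h | h | h | h | h | h | h | h | h
  · exact key 1 _ _ _ _ (Or.inl rfl) img_one h
  · exact key' 1 _ _ _ _ (Or.inl rfl) img_one h
  · exact key zE _ _ _ _ (Or.inr (Or.inr (Or.inl rfl))) img_z h
  · exact key' zE _ _ _ _ (Or.inr (Or.inr (Or.inl rfl))) img_z h
  · exact key EQ _ _ _ _ (Or.inr (Or.inl rfl)) img_e h
  · exact key' EQ _ _ _ _ (Or.inr (Or.inl rfl)) img_e h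
  · exact key (EQ * zE) _ _ _ _ (Or.inr (Or.inr (Or.inr (Or.inl rfl)))) img_ez h
  · exact key' (EQ * zE) _ _ _ _ (Or.inr (Or.inr (Or.inr (Or.inl rfl)))) img_ez h
  · exact key (zE * EQ) _ _ _ _ (Or.inr (Or.inr (Or.inr (Or.inr (Or.inl rfl))))) img_ze h
  · exact key' (zE * EQ) _ _ _ _ (Or.inr (Or.inr (Or.inr (Or.inr (Or.inl rfl))))) img_ze h
  · exact key (EQ * zE * EQ) _ _ _ _ (Or.inr (Or.inr (Or.inr (Or.inr (Or.inr rfl))))) img_eze h
  · exact key' (EQ * zE * EQ) _ _ _ _ (Or.inr (Or.inr (Or.inr (Or.inr (Or.inr rfl))))) img_eze h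

theorem comm_PD_of_S6 (t : ↥Co0) (ht : IsS6 t) : t * PD = PD * t := by
  rcases ht with rfl | rfl | rfl | rfl | rfl | rfl
  · rw [one_mul, mul_one]
  · exact EQ_PD
  · exact zE_PD
  · rw [mul_assoc, zE_PD, ← mul_assoc, EQ_PD, mul_assoc]
  · rw [mul_assoc, EQ_PD, ← mul_assoc, zE_PD, mul_assoc]
  · rw [mul_assoc, EQ_PD, ← mul_assoc, mul_assoc EQ, zE_PD, ← mul_assoc, EQ_PD, mul_assoc,
      mul_assoc, mul_assoc]

/-- The centraliser of `d`, up to sign. -/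
theorem cent_PD_cases (g : ↥Co0) (hc : g * PD = PD * g) :
    ∃ t : ↥Co0, IsS6 t ∧ ∃ n : ℤ, (g = t * PD ^ n ∨ g = negElt * (t * PD ^ n)) := by
  set x : Lam := g • RL with hx
  have hfix : PD • x = x := by
    rw [hx, ← mul_smul', ← hc, mul_smul', PD_fix_RL]
  have hnorm : sqNorm (x : GolayPt → ℤ) = 32 := by
    rw [hx, sqNorm_smul, norm_RL]
  obtain ⟨t, ht, h⟩ := fix_PD_cases x hfix hnorm
  have htd := comm_PD_of_S6 t ht
  have htd' : t⁻¹ * PD = PD * t⁻¹ := by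
    calc t⁻¹ * PD = t⁻¹ * (PD * t) * t⁻¹ := by group
      _ = t⁻¹ * (t * PD) * t⁻¹ := by rw [htd]
      _ = PD * t⁻¹ := by group
  refine ⟨t, ht, ?_⟩
  rcases h with h | h
  · have hR : (t⁻¹ * g) • RL = RL := by
      rw [mul_smul', ← hx, h, ← mul_smul', inv_mul_cancel, one_smul]
    have hc' : (t⁻¹ * g) * PD = PD * (t⁻¹ * g) := by
      rw [mul_assoc, hc, ← mul_assoc, htd', mul_assoc]
    obtain ⟨n, hn⟩ := Subgroup.mem_zpowers_iff.1 (cent_PD2 _ hR hc')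
    refine ⟨n, Or.inl ?_⟩
    rw [hn]; group
  · have hR : (t⁻¹ * (negElt * g)) • RL = RL := by
      rw [mul_smul', mul_smul', ← hx, h, negElt_smul', neg_neg, ← mul_smul', inv_mul_cancel,
        one_smul]
    have hc' : (t⁻¹ * (negElt * g)) * PD = PD * (t⁻¹ * (negElt * g)) := by
      have e1 : negElt * g * PD = PD * (negElt * g) := by
        rw [mul_assoc, hc, ← mul_assoc, ← mul_assoc, negElt_comm]
      rw [mul_assoc, e1, ← mul_assoc, htd', mul_assoc]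
    obtain ⟨n, hn⟩ := Subgroup.mem_zpowers_iff.1 (cent_PD2 _ hR hc')
    refine ⟨n, Or.inr ?_⟩
    rw [hn]
    calc g = negElt * negElt * g := by rw [negElt_sq, one_mul]
      _ = negElt * (t * (t⁻¹ * (negElt * g))) := by group

end Cfsg.Agent.Lib.Helper92_Co1Cent
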