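import Cfsg.Agent.Lib.Helper92_Co1Cent

/-!
Inequalities in the automorphism group of the rank-24 lattice between words in the coordinate
permutation `a : x ↦ x + 1`, the sign change `e` on the squares and the non-monomial involution
`z`, each checked by evaluating both sides on `(4, 4, 0^22)`:
`z` and `e z e` do not commute (even up to sign) with their conjugates by `a`, and
`(a e z e)^12 ≠ ±1`.  Also `e`, `z` are distinct and non-central.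
-/

set_option autoImplicit false
set_option linter.constructorNameAsVariable false
open Cfsg
open scoped Pointwise

namespace Cfsg.Agent.Lib.Helper92_Co1Neg

open Cfsg.Agent.Lib.Helper7_M24 Cfsg.Agent.Lib.Helper7_Leech Cfsg.Agent.Lib.Helper92_Monomial
  Cfsg.Agent.Lib.Helper92_Co0Order Cfsg.Agent.Lib.Helper7_Mono Cfsg.Agent.Lib.Helper92_FixMono
  Cfsg.Agent.Lib.Helper92_FixLat Cfsg.Agent.Lib.Helper92_ZElt Cfsg.Agent.Lib.Helper92_QuadAut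
  Cfsg.Agent.Lib.Helper93_OutM24 Cfsg.Agent.Lib.Helper93_M24Obj Cfsg.Agent.Lib.Helper92_Co3Cent
  Cfsg.Agent.Lib.Helper92_Co2Cent Cfsg.Agent.Lib.Helper92_Co3Gen Cfsg.Agent.Lib.Helper92_Co2Gen
  Cfsg.Agent.Lib.Helper92_Rep Cfsg.Agent.Lib.Helper92_Co1Cent
open Cfsg.Agent.Lib.Helper7_Xi (vecL)
open Cfsg.Agent.S5546 (Lam vec8 e8)
open Cfsg.Spor (vecV vecU vecU' leechU leechU' leechV)
open Cfsg.Agent.S0398 (negElt)

/-! ### `e` and `z` -/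

theorem EQ_ne : EQ ≠ 1 ∧ EQ ≠ negElt := by
  constructor
  · intro h
    have e := img_e_list
    rw [h, one_smul, RL_list] at e
    have e2 := congrFun e (some 0)
    revert e2
    decide
  · intro h
    have e := img_e_list
    rw [h, negElt_smul'] at e
    have e' : -((RL : Lam) : GolayPt → ℤ) = _ := e
    rw [RL_list] at e'
    have e2 := congrFun e' none
    rw [Pi.neg_apply] at e2
    revert e2
    decide

theorem zE_ne : zE ≠ 1 ∧ zE ≠ negElt := by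
  constructor
  · intro h
    have e := img_z_list
    rw [h, one_smul, RL_list] at e
    have e2 := congrFun e (some 0)
    revert e2
    decide
  · intro h
    have e := img_z_list
    rw [h, negElt_smul'] at e
    have e' : -((RL : Lam) : GolayPt → ℤ) = _ := e
    rw [RL_list] at e'
    have e2 := congrFun e' (some 0)
    rw [Pi.neg_apply] at e2
    revert e2
    decide

theorem EQ_ne_zE : EQ ≠ zE ∧ EQ ≠ negElt * zE := by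
  constructor
  · intro h
    have e := img_e_list
    rw [h, img_z_list] at e
    have e2 := congrFun e (some 0)
    revert e2
    decide
  · intro h
    have e := img_e_list
    rw [h, mul_smul', negElt_smul'] at e
    have e' : -((zE • RL : Lam) : GolayPt → ℤ) = _ := e
    rw [img_z_list] at e'
    have e2 := congrFun e' (some 0)
    rw [Pi.neg_apply] at e2
    revert e2
    decide

/-! ### the chains -/

theorem chain_n1L : ((zE • (PA • (zE • (PA⁻¹ • UL))) : Lam) : GolayPt → ℤ) =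
    vecL [0, 0, 2, 0, 0, 0, 0, 2, 0, 0, 2, 2, 2, 0, 0, 0, 0, 0, 0, 2, 2, 0, 0, 2] := by
  have h0 : ((UL : Lam) : GolayPt → ℤ) = vecL [4, 0, 0, 0, 0, 0, 0, 0, 0, 0, 0, 0, 0, 0, 0, 0, 0, 0, 0, 0, 0, 0, 0, 4] := by
    funext p; revert p; decide
  have h1 := step_Ainv _ _
    [0, 0, 0, 0, 0, 0, 0, 0, 0, 0, 0, 0, 0, 0, 0, 0, 0, 0, 0, 0, 0, 0, 4, 4] h0 (by decide +kernel)
  have h2 := step_Z _ _
    [0, 0, 0, 2, 0, 0, 2, 0, 2, 2, 0, 0, 2, 0, 0, 0, 0, 0, 2, 0, 0, 0, 2, 2] h1 (by decide +kernel)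
  have h3 := step_A _ _
    [2, 0, 0, 0, 2, 0, 0, 2, 0, 2, 2, 0, 0, 2, 0, 0, 0, 0, 0, 2, 0, 0, 0, 2] h2 (by decide +kernel)
  have h4 := step_Z _ _
    [0, 0, 2, 0, 0, 0, 0, 2, 0, 0, 2, 2, 2, 0, 0, 0, 0, 0, 0, 2, 2, 0, 0, 2] h3 (by decide +kernel)
  exact h4

theorem chain_n1R : ((PA • (zE • (PA⁻¹ • (zE • UL))) : Lam) : GolayPt → ℤ) =
    vecL [-1, 1, 1, 1, -1, 1, 1, -1, 1, -1, -1, 1, 1, -1, 1, 1, 1, 1, 1, -1, 1, 1, 1, 3] := by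
  have h0 : ((UL : Lam) : GolayPt → ℤ) = vecL [4, 0, 0, 0, 0, 0, 0, 0, 0, 0, 0, 0, 0, 0, 0, 0, 0, 0, 0, 0, 0, 0, 0, 4] := by
    funext p; revert p; decide
  have h1 := step_Z _ _
    [-3, 1, 1, 1, 1, 1, 1, 1, 1, 1, 1, 1, 1, 1, 1, 1, 1, 1, 1, 1, 1, 1, 1, 1] h0 (by decide +kernel)
  have h2 := step_Ainv _ _
    [1, 1, 1, 1, 1, 1, 1, 1, 1, 1, 1, 1, 1, 1, 1, 1, 1, 1, 1, 1, 1, 1, -3, 1] h1 (by decide +kernel)
  have h3 := step_Z _ _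
    [1, 1, 1, -1, 1, 1, -1, 1, -1, -1, 1, 1, -1, 1, 1, 1, 1, 1, -1, 1, 1, 1, -1, 3] h2 (by decide +kernel)
  have h4 := step_A _ _
    [-1, 1, 1, 1, -1, 1, 1, -1, 1, -1, -1, 1, 1, -1, 1, 1, 1, 1, 1, -1, 1, 1, 1, 3] h3 (by decide +kernel)
  exact h4

theorem chain_n2L : ((EQ • (zE • (EQ • (PA • (EQ • (zE • (EQ • (PA⁻¹ • UL))))))) : Lam) : GolayPt → ℤ) =
    vecL [1, -1, 1, -1, 1, -1, -1, -1, -1, 1, -1, 1, 1, 1, -1, -1, -1, -1, -1, -1, 1, -1, -1, 3] := by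
  have h0 : ((UL : Lam) : GolayPt → ℤ) = vecL [4, 0, 0, 0, 0, 0, 0, 0, 0, 0, 0, 0, 0, 0, 0, 0, 0, 0, 0, 0, 0, 0, 0, 4] := by
    funext p; revert p; decide
  have h1 := step_Ainv _ _
    [0, 0, 0, 0, 0, 0, 0, 0, 0, 0, 0, 0, 0, 0, 0, 0, 0, 0, 0, 0, 0, 0, 4, 4] h0 (by decide +kernel)
  have h2 := step_E _ _
    [0, 0, 0, 0, 0, 0, 0, 0, 0, 0, 0, 0, 0, 0, 0, 0, 0, 0, 0, 0, 0, 0, 4, 4] h1 (by decide +kernel)
  have h3 := step_Z _ _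
    [0, 0, 0, 2, 0, 0, 2, 0, 2, 2, 0, 0, 2, 0, 0, 0, 0, 0, 2, 0, 0, 0, 2, 2] h2 (by decide +kernel)
  have h4 := step_E _ _
    [0, 0, 0, -2, 0, 0, -2, 0, -2, -2, 0, 0, -2, 0, 0, 0, 0, 0, -2, 0, 0, 0, 2, 2] h3 (by decide +kernel)
  have h5 := step_A _ _
    [2, 0, 0, 0, -2, 0, 0, -2, 0, -2, -2, 0, 0, -2, 0, 0, 0, 0, 0, -2, 0, 0, 0, 2] h4 (by decide +kernel)
  have h6 := step_E _ _
    [-2, 0, 0, 0, 2, 0, 0, -2, 0, 2, -2, 0, 0, 2, 0, 0, 0, 0, 0, -2, 0, 0, 0, 2] h5 (by decide +kernel)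
  have h7 := step_Z _ _
    [-1, 1, -1, 1, -1, -1, 1, -1, 1, -1, -1, 1, -1, -1, -1, -1, 1, -1, 1, -1, 1, -1, -1, 3] h6 (by decide +kernel)
  have h8 := step_E _ _
    [1, -1, 1, -1, 1, -1, -1, -1, -1, 1, -1, 1, 1, 1, -1, -1, -1, -1, -1, -1, 1, -1, -1, 3] h7 (by decide +kernel)
  exact h8

theorem chain_n2R : ((PA • (EQ • (zE • (EQ • (PA⁻¹ • (EQ • (zE • (EQ • UL))))))) : Lam) : GolayPt → ℤ) =
    vecL [0, 4, 0, 0, 0, 0, 0, 0, 0, 0, 0, 0, 0, 0, 0, 0, 0, 0, 0, 0, 0, 0, 0, 4] := by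
  have h0 : ((UL : Lam) : GolayPt → ℤ) = vecL [4, 0, 0, 0, 0, 0, 0, 0, 0, 0, 0, 0, 0, 0, 0, 0, 0, 0, 0, 0, 0, 0, 0, 4] := by
    funext p; revert p; decide
  have h1 := step_E _ _
    [-4, 0, 0, 0, 0, 0, 0, 0, 0, 0, 0, 0, 0, 0, 0, 0, 0, 0, 0, 0, 0, 0, 0, 4] h0 (by decide +kernel)
  have h2 := step_Z _ _
    [1, 1, 1, 1, 1, -1, 1, -1, 1, 1, -1, -1, 1, 1, -1, -1, 1, -1, 1, -1, -1, -1, -1, 3] h1 (by decide +kernel)
  have h3 := step_E _ _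
    [-1, -1, -1, -1, -1, -1, -1, -1, -1, -1, -1, -1, -1, -1, -1, -1, -1, -1, -1, -1, -1, -1, -1, 3] h2 (by decide +kernel)
  have h4 := step_Ainv _ _
    [-1, -1, -1, -1, -1, -1, -1, -1, -1, -1, -1, -1, -1, -1, -1, -1, -1, -1, -1, -1, -1, -1, -1, 3] h3 (by decide +kernel)
  have h5 := step_E _ _
    [1, 1, 1, 1, 1, -1, 1, -1, 1, 1, -1, -1, 1, 1, -1, -1, 1, -1, 1, -1, -1, -1, -1, 3] h4 (by decide +kernel)
  have h6 := step_Z _ _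
    [-4, 0, 0, 0, 0, 0, 0, 0, 0, 0, 0, 0, 0, 0, 0, 0, 0, 0, 0, 0, 0, 0, 0, 4] h5 (by decide +kernel)
  have h7 := step_E _ _
    [4, 0, 0, 0, 0, 0, 0, 0, 0, 0, 0, 0, 0, 0, 0, 0, 0, 0, 0, 0, 0, 0, 0, 4] h6 (by decide +kernel)
  have h8 := step_A _ _
    [0, 4, 0, 0, 0, 0, 0, 0, 0, 0, 0, 0, 0, 0, 0, 0, 0, 0, 0, 0, 0, 0, 0, 4] h7 (by decide +kernel)
  exact h8

theorem neg1 : zE * (PA * zE * PA⁻¹) ≠ PA * zE * PA⁻¹ * zE ∧ zE * (PA * zE * PA⁻¹) ≠ negElt * (PA * zE * PA⁻¹ * zE) := by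
  constructor
  · intro h
    have e : (((zE * (PA * zE * PA⁻¹)) • UL : Lam) : GolayPt → ℤ) = (((PA * zE * PA⁻¹ * zE) • UL : Lam) : GolayPt → ℤ) := by rw [h]
    simp only [mul_smul'] at e
    rw [chain_n1L, chain_n1R] at e
    have e2 := congrFun e (some 0)
    revert e2
    decide
  · intro h
    have e : (((zE * (PA * zE * PA⁻¹)) • UL : Lam) : GolayPt → ℤ) = -(((PA * zE * PA⁻¹ * zE) • UL : Lam) : GolayPt → ℤ) := by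
      rw [h, mul_smul', negElt_smul']
      rfl
    simp only [mul_smul'] at e
    rw [chain_n1L, chain_n1R] at e
    have e2 := congrFun e (some 0)
    rw [Pi.neg_apply] at e2
    revert e2
    decide

theorem neg2 : EQ * zE * EQ * (PA * (EQ * zE * EQ) * PA⁻¹) ≠ PA * (EQ * zE * EQ) * PA⁻¹ * (EQ * zE * EQ) ∧ EQ * zE * EQ * (PA * (EQ * zE * EQ) * PA⁻¹) ≠ negElt * (PA * (EQ * zE * EQ) * PA⁻¹ * (EQ * zE * EQ)) := by
  constructor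
  · intro h
    have e : (((EQ * zE * EQ * (PA * (EQ * zE * EQ) * PA⁻¹)) • UL : Lam) : GolayPt → ℤ) = (((PA * (EQ * zE * EQ) * PA⁻¹ * (EQ * zE * EQ)) • UL : Lam) : GolayPt → ℤ) := by rw [h]
    simp only [mul_smul'] at e
    rw [chain_n2L, chain_n2R] at e
    have e2 := congrFun e (some 0)
    revert e2
    decide
  · intro h
    have e : (((EQ * zE * EQ * (PA * (EQ * zE * EQ) * PA⁻¹)) • UL : Lam) : GolayPt → ℤ) = -(((PA * (EQ * zE * EQ) * PA⁻¹ * (EQ * zE * EQ)) • UL : Lam) : GolayPt → ℤ) := by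
      rw [h, mul_smul', negElt_smul']
      rfl
    simp only [mul_smul'] at e
    rw [chain_n2L, chain_n2R] at e
    have e2 := congrFun e (some 0)
    rw [Pi.neg_apply] at e2
    revert e2
    decide

theorem round3 (x : Lam) (l l1 l2 l3 l4 : List ℤ) (hx : (x : GolayPt → ℤ) = vecL l)
    (c1 : EOK l l1) (c2 : ZOK l1 l2) (c3 : EOK l2 l3)
    (c4 : PermOK (Option.map (fun t => t + 1)) l3 l4) :
    (((PA * (EQ * zE * EQ)) • x : Lam) : GolayPt → ℤ) = vecL l4 := by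
  have h1 := step_E x l l1 hx c1
  have h2 := step_Z (EQ • x) l1 l2 h1 c2
  have h3 := step_E (zE • (EQ • x)) l2 l3 h2 c3
  exact step_A (EQ • (zE • (EQ • x))) l3 l4 h3 c4

theorem neg3 : (PA * (EQ * zE * EQ)) ^ 12 ≠ 1 ∧ (PA * (EQ * zE * EQ)) ^ 12 ≠ negElt := by
  set g : ↥Co0 := PA * (EQ * zE * EQ) with hg
  have hU : ((UL : Lam) : GolayPt → ℤ) = vecL [4, 0, 0, 0, 0, 0, 0, 0, 0, 0, 0, 0, 0, 0, 0, 0, 0, 0, 0, 0, 0, 0, 0, 4] := by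
    funext p; revert p; decide
  have k0 : ((g ^ 0 • UL : Lam) : GolayPt → ℤ) = vecL [4, 0, 0, 0, 0, 0, 0, 0, 0, 0, 0, 0, 0, 0, 0, 0, 0, 0, 0, 0, 0, 0, 0, 4] := by
    rw [pow_zero, one_smul]; exact hU
  have k1 : ((g ^ 1 • UL : Lam) : GolayPt → ℤ) = vecL [-1, -1, -1, -1, -1, -1, -1, -1, -1, -1, -1, -1, -1, -1, -1, -1, -1, -1, -1, -1, -1, -1, -1, 3] := by
    rw [show (1 : ℕ) = 0 + 1 from rfl, pow_succ', mul_smul']
    exact round3 _ _ [-4, 0, 0, 0, 0, 0, 0, 0, 0, 0, 0, 0, 0, 0, 0, 0, 0, 0, 0, 0, 0, 0, 0, 4]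
      [1, 1, 1, 1, 1, -1, 1, -1, 1, 1, -1, -1, 1, 1, -1, -1, 1, -1, 1, -1, -1, -1, -1, 3]
      [-1, -1, -1, -1, -1, -1, -1, -1, -1, -1, -1, -1, -1, -1, -1, -1, -1, -1, -1, -1, -1, -1, -1, 3] _ k0
      (by decide +kernel) (by decide +kernel) (by decide +kernel) (by decide +kernel)
  have k2 : ((g ^ 2 • UL : Lam) : GolayPt → ℤ) = vecL [0, 4, 0, 0, 0, 0, 0, 0, 0, 0, 0, 0, 0, 0, 0, 0, 0, 0, 0, 0, 0, 0, 0, 4] := by
    rw [show (2 : ℕ) = 1 + 1 from rfl, pow_succ', mul_smul']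
    exact round3 _ _ [1, 1, 1, 1, 1, -1, 1, -1, 1, 1, -1, -1, 1, 1, -1, -1, 1, -1, 1, -1, -1, -1, -1, 3]
      [-4, 0, 0, 0, 0, 0, 0, 0, 0, 0, 0, 0, 0, 0, 0, 0, 0, 0, 0, 0, 0, 0, 0, 4]
      [4, 0, 0, 0, 0, 0, 0, 0, 0, 0, 0, 0, 0, 0, 0, 0, 0, 0, 0, 0, 0, 0, 0, 4] _ k1
      (by decide +kernel) (by decide +kernel) (by decide +kernel) (by decide +kernel)
  have k3 : ((g ^ 3 • UL : Lam) : GolayPt → ℤ) = vecL [1, 1, -3, -1, -1, -1, -1, -1, 1, -1, -1, 1, 1, -1, -1, -1, -1, -1, 1, -1, -1, -1, -1, 1] := by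
    rw [show (3 : ℕ) = 2 + 1 from rfl, pow_succ', mul_smul']
    exact round3 _ _ [0, -4, 0, 0, 0, 0, 0, 0, 0, 0, 0, 0, 0, 0, 0, 0, 0, 0, 0, 0, 0, 0, 0, 4]
      [-1, 3, 1, 1, 1, -1, 1, 1, 1, 1, 1, 1, 1, 1, -1, -1, 1, 1, 1, -1, -1, -1, 1, 1]
      [1, -3, -1, -1, -1, -1, -1, 1, -1, -1, 1, 1, -1, -1, -1, -1, -1, 1, -1, -1, -1, -1, 1, 1] _ k2
      (by decide +kernel) (by decide +kernel) (by decide +kernel) (by decide +kernel)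
  have k4 : ((g ^ 4 • UL : Lam) : GolayPt → ℤ) = vecL [-2, 2, 0, 2, 0, 0, 0, 0, 0, 0, 0, 0, 2, 0, 0, -2, 0, 0, 0, 0, 0, -2, -2, 2] := by
    rw [show (4 : ℕ) = 3 + 1 from rfl, pow_succ', mul_smul']
    exact round3 _ _ [-1, -1, 3, 1, 1, -1, 1, -1, -1, 1, -1, 1, -1, 1, -1, -1, 1, -1, -1, -1, -1, -1, -1, 1]
      [-2, 0, -2, 0, 0, 0, 0, 0, 0, 0, 0, 2, 0, 0, -2, 0, 0, 0, 0, 0, -2, -2, -2, 2]
      [2, 0, 2, 0, 0, 0, 0, 0, 0, 0, 0, 2, 0, 0, -2, 0, 0, 0, 0, 0, -2, -2, -2, 2] _ k3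
      (by decide +kernel) (by decide +kernel) (by decide +kernel) (by decide +kernel)
  have k5 : ((g ^ 5 • UL : Lam) : GolayPt → ℤ) = vecL [-1, 3, -1, -1, -1, -1, 1, 1, 1, -1, -1, 1, 1, -1, -1, -1, -1, -1, 1, 1, -1, 1, -1, -1] := by
    rw [show (5 : ℕ) = 4 + 1 from rfl, pow_succ', mul_smul']
    exact round3 _ _ [2, -2, 0, -2, 0, 0, 0, 0, 0, 0, 0, 0, -2, 0, 0, -2, 0, 0, 0, 0, 0, -2, -2, 2]
      [-3, 1, 1, 1, 1, 1, -1, 1, 1, 1, 1, 1, 1, 1, -1, -1, 1, 1, -1, -1, 1, -1, -1, -1]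
      [3, -1, -1, -1, -1, 1, 1, 1, -1, -1, 1, 1, -1, -1, -1, -1, -1, 1, 1, -1, 1, -1, -1, -1] _ k4
      (by decide +kernel) (by decide +kernel) (by decide +kernel) (by decide +kernel)
  have k6 : ((g ^ 6 • UL : Lam) : GolayPt → ℤ) = vecL [-1, 1, -1, 1, 1, 1, -1, -1, 1, 1, 1, 1, 3, -1, -1, -1, -1, 1, 1, 1, 1, -1, -1, -1] := by
    rw [show (6 : ℕ) = 5 + 1 from rfl, pow_succ', mul_smul']
    exact round3 _ _ [1, -3, 1, 1, 1, -1, -1, 1, -1, 1, -1, 1, -1, 1, -1, -1, 1, -1, -1, 1, -1, 1, -1, -1]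
      [-1, 1, -1, -1, -1, -1, 1, 1, -1, -1, 1, 3, 1, 1, -1, -1, -1, 1, -1, 1, -1, -1, -1, -1]
      [1, -1, 1, 1, 1, -1, -1, 1, 1, 1, 1, 3, -1, -1, -1, -1, 1, 1, 1, 1, -1, -1, -1, -1] _ k5
      (by decide +kernel) (by decide +kernel) (by decide +kernel) (by decide +kernel)
  have k7 : ((g ^ 7 • UL : Lam) : GolayPt → ℤ) = vecL [-2, 0, 0, 0, 0, 0, 2, 2, 0, 0, -2, 0, 2, 0, 0, -2, 0, 0, 2, 0, 0, 0, 0, -2] := by
    rw [show (7 : ℕ) = 6 + 1 from rfl, pow_succ', mul_smul']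
    exact round3 _ _ [1, -1, 1, -1, -1, 1, 1, -1, -1, -1, 1, 1, -3, 1, -1, -1, 1, 1, -1, 1, 1, -1, -1, -1]
      [0, 0, 0, 0, 0, 2, -2, 0, 0, 2, 0, 2, 0, 0, -2, 0, 0, 2, 0, 0, 0, 0, -2, -2]
      [0, 0, 0, 0, 0, 2, 2, 0, 0, -2, 0, 2, 0, 0, -2, 0, 0, 2, 0, 0, 0, 0, -2, -2] _ k6
      (by decide +kernel) (by decide +kernel) (by decide +kernel) (by decide +kernel)
  have k8 : ((g ^ 8 • UL : Lam) : GolayPt → ℤ) = vecL [-1, 1, 1, 1, 1, 1, 1, -1, 1, -1, 1, -1, 1, -1, -1, 1, -1, 1, 1, 1, 1, 1, -1, -3] := by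
    rw [show (8 : ℕ) = 7 + 1 from rfl, pow_succ', mul_smul']
    exact round3 _ _ [2, 0, 0, 0, 0, 0, -2, 2, 0, 0, -2, 0, -2, 0, 0, -2, 0, 0, -2, 0, 0, 0, 0, -2]
      [-1, -1, -1, -1, -1, 1, 1, 1, 1, -1, -1, 1, 1, 1, 1, -1, -1, 1, -1, 1, 1, -1, -1, -3]
      [1, 1, 1, 1, 1, 1, -1, 1, -1, 1, -1, 1, -1, -1, 1, -1, 1, 1, 1, 1, 1, -1, -1, -3] _ k7
      (by decide +kernel) (by decide +kernel) (by decide +kernel) (by decide +kernel)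
  have k9 : ((g ^ 9 • UL : Lam) : GolayPt → ℤ) = vecL [-1, -1, -1, -1, 1, 1, 1, 1, -1, 1, 1, 1, 1, 1, 1, -1, -1, 1, 1, -1, 1, 1, 1, -3] := by
    rw [show (9 : ℕ) = 8 + 1 from rfl, pow_succ', mul_smul']
    exact round3 _ _ [1, -1, -1, -1, -1, 1, -1, -1, -1, 1, 1, -1, -1, 1, -1, 1, 1, 1, -1, 1, 1, 1, -1, -3]
      [1, 1, 1, -1, -1, 1, -1, -1, -1, -1, 1, 1, -1, -1, -1, -1, -1, 1, 1, 1, 1, 1, -1, -3]
      [-1, -1, -1, 1, 1, 1, 1, -1, 1, 1, 1, 1, 1, 1, -1, -1, 1, 1, -1, 1, 1, 1, -1, -3] _ k8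
      (by decide +kernel) (by decide +kernel) (by decide +kernel) (by decide +kernel)
  have k10 : ((g ^ 10 • UL : Lam) : GolayPt → ℤ) = vecL [0, -2, 2, 2, 2, 0, 2, 0, 0, 0, 0, 0, 0, 0, 0, 2, 0, 0, 2, 0, 0, 0, 0, -2] := by
    rw [show (10 : ℕ) = 9 + 1 from rfl, pow_succ', mul_smul']
    exact round3 _ _ [1, 1, 1, 1, -1, 1, -1, 1, 1, -1, 1, 1, -1, -1, 1, -1, 1, 1, -1, -1, 1, 1, 1, -3]
      [2, -2, -2, -2, 0, 2, 0, 0, 0, 0, 0, 0, 0, 0, 2, 0, 0, 2, 0, 0, 0, 0, 0, -2]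
      [-2, 2, 2, 2, 0, 2, 0, 0, 0, 0, 0, 0, 0, 0, 2, 0, 0, 2, 0, 0, 0, 0, 0, -2] _ k9
      (by decide +kernel) (by decide +kernel) (by decide +kernel) (by decide +kernel)
  have k11 : ((g ^ 11 • UL : Lam) : GolayPt → ℤ) = vecL [-1, -1, 1, -1, -1, -1, 1, -1, -1, 1, 1, -1, -1, 1, 1, 1, -1, 1, -1, -1, 1, 1, 1, -3] := by
    rw [show (11 : ℕ) = 10 + 1 from rfl, pow_succ', mul_smul']
    exact round3 _ _ [0, 2, -2, -2, -2, 0, -2, 0, 0, 0, 0, 0, 0, 0, 0, 2, 0, 0, -2, 0, 0, 0, 0, -2]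
      [1, -1, 1, 1, 1, 1, 1, -1, -1, -1, -1, -1, -1, -1, 1, -1, -1, -1, 1, 1, 1, 1, -1, -3]
      [-1, 1, -1, -1, -1, 1, -1, -1, 1, 1, -1, -1, 1, 1, 1, -1, 1, -1, -1, 1, 1, 1, -1, -3] _ k10
      (by decide +kernel) (by decide +kernel) (by decide +kernel) (by decide +kernel)
  have k12 : ((g ^ 12 • UL : Lam) : GolayPt → ℤ) = vecL [1, -1, 1, 1, 1, 1, -1, 1, -1, 1, 1, 1, -1, 1, 1, 3, 1, 1, 1, -1, -1, 1, 1, -1] := by
    rw [show (12 : ℕ) = 11 + 1 from rfl, pow_succ', mul_smul']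
    exact round3 _ _ [1, 1, -1, 1, 1, -1, -1, -1, 1, -1, 1, -1, 1, -1, 1, 1, 1, 1, 1, -1, 1, 1, 1, -3]
      [1, -1, -1, -1, -1, -1, -1, -1, -1, -1, 1, -1, -1, -1, 3, 1, -1, 1, 1, -1, 1, 1, 1, -1]
      [-1, 1, 1, 1, 1, -1, 1, -1, 1, 1, 1, -1, 1, 1, 3, 1, 1, 1, -1, -1, 1, 1, 1, -1] _ k11
      (by decide +kernel) (by decide +kernel) (by decide +kernel) (by decide +kernel)
  constructor
  · intro h
    rw [h, one_smul, hU] at k12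
    have e2 := congrFun k12 (some 0)
    revert e2
    decide
  · intro h
    rw [h, negElt_smul'] at k12
    have key' : -((UL : Lam) : GolayPt → ℤ) = vecL [1, -1, 1, 1, 1, 1, -1, 1, -1, 1, 1, 1, -1, 1, 1, 3, 1, 1, 1, -1, -1, 1, 1, -1] := k12
    rw [hU] at key'
    have e2 := congrFun key' (some 0)
    rw [Pi.neg_apply] at e2
    revert e2
    decide

end Cfsg.Agent.Lib.Helper92_Co1Neg
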