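import Cfsg.Agent.Lib.Helper92_Co3Cent

/-!
The stabiliser of `(-3, 1^23)` in the automorphism group of the rank-24 lattice: the normaliser of
the group generated by the coordinate permutation `a : x ↦ x + 1` consists of coordinate
permutations, the centraliser of `d : x ↦ 2 x` is `⟨d⟩`, and an involution `w` inverting `d` and
commuting with the cube twist.
-/

set_option autoImplicit false
set_option linter.constructorNameAsVariable false
open Cfsg
open scoped Pointwise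

namespace Cfsg.Agent.Lib.Helper92_Co2Cent

open Cfsg.Agent.Lib.Helper7_M24 Cfsg.Agent.Lib.Helper7_Leech Cfsg.Agent.Lib.Helper92_Monomial
  Cfsg.Agent.Lib.Helper92_Co0Order Cfsg.Agent.Lib.Helper7_Mono Cfsg.Agent.Lib.Helper92_FixMono
  Cfsg.Agent.Lib.Helper92_FixLat Cfsg.Agent.Lib.Helper92_ZElt Cfsg.Agent.Lib.Helper92_QuadAut
  Cfsg.Agent.Lib.Helper93_OutM24 Cfsg.Agent.Lib.Helper93_M24Obj Cfsg.Agent.Lib.Helper92_Co3Cent
open Cfsg.Agent.Lib.Helper26_Golay (idx idx_injective)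
open Cfsg.Agent.S5546 (Lam vec8 e8)
open Cfsg.Spor (vecV vecU vecU' leechU leechU' leechV)

/-! ### inner products of invariant vectors -/

theorem dot_orbFun (s t u w : ℤ) (y : GolayPt → ℤ)
    (hinv : ∀ q : ZMod 23, y (some (2 * q)) = y (some q)) :
    dotInt (orbFun s t u w) y =
      s * y none + t * y (some 0) + 11 * (u * y (some 1)) + 11 * (w * y (some 5)) := by
  unfold dotInt
  rw [Fintype.sum_option]
  have : ∀ q : ZMod 23, orbFun s t u w (some q) * y (some q) =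
      if q = 0 then t * y (some 0) else if q ∈ QR then u * y (some 1) else w * y (some 5) := by
    intro q
    rw [form_d y hinv q]
    show (if q = 0 then t else if q ∈ QR then u else w) * _ = _
    split_ifs <;> rfl
  rw [Finset.sum_congr rfl (fun q _ => this q), sum_form]
  show s * y none + _ = _
  ring

theorem dot_orbFunA (s t : ℤ) (y : GolayPt → ℤ)
    (hinv : ∀ q : ZMod 23, y (some (q + 1)) = y (some q)) :
    dotInt (orbFunA s t) y = s * y none + 23 * (t * y (some 0)) := by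
  unfold dotInt
  rw [Fintype.sum_option]
  have : ∀ q : ZMod 23, orbFunA s t (some q) * y (some q) = t * y (some 0) := by
    intro q
    rw [const_a y hinv q]
    rfl
  rw [Finset.sum_congr rfl (fun q _ => this q), Finset.sum_const, Finset.card_univ, ZMod.card,
    nsmul_eq_mul]
  show s * y none + _ = _
  push_cast
  ring

/-! ### arithmetic -/

theorem tableR1 : ∀ s ∈ Finset.Icc (-5 : ℤ) 5, ∀ t ∈ Finset.Icc (-5 : ℤ) 5,
    ∀ u ∈ Finset.Icc (-1 : ℤ) 1, ∀ w ∈ Finset.Icc (-1 : ℤ) 1,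
    s ^ 2 + t ^ 2 + 11 * u ^ 2 + 11 * w ^ 2 = 32 →
    (-3 * s + t + 11 * u + 11 * w = -16 →
      (s = 4 ∧ t = -4 ∧ u = 0 ∧ w = 0) ∨ (s = -1 ∧ t = 3 ∧ u = -1 ∧ w = -1)) := by
  decide

theorem tableR2 : ∀ s ∈ Finset.Icc (-5 : ℤ) 5, ∀ t ∈ Finset.Icc (-5 : ℤ) 5,
    ∀ u ∈ Finset.Icc (-1 : ℤ) 1, ∀ w ∈ Finset.Icc (-1 : ℤ) 1,
    s ^ 2 + t ^ 2 + 11 * u ^ 2 + 11 * w ^ 2 = 32 →
    (-3 * s + t + 11 * u + 11 * w = -8 ∧ 4 * s - 4 * t = 0 →
      (s = 4 ∧ t = 4 ∧ u = 0 ∧ w = 0)) := by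
  decide

theorem tableR3 : ∀ s ∈ Finset.Icc (-5 : ℤ) 5, ∀ t ∈ Finset.Icc (-5 : ℤ) 5,
    ∀ u ∈ Finset.Icc (-1 : ℤ) 1, ∀ w ∈ Finset.Icc (-1 : ℤ) 1,
    s ^ 2 + t ^ 2 + 11 * u ^ 2 + 11 * w ^ 2 = 32 →
    (s + 3 * t - 11 * u + 11 * w = -8 ∧ 4 * s + 4 * t = 0 →
      (s = 4 ∧ t = -4 ∧ u = 0 ∧ w = 0)) := by
  decide

theorem arithR1 (s t u w : ℤ) (hn : s ^ 2 + t ^ 2 + 11 * u ^ 2 + 11 * w ^ 2 = 32)
    (hd : -3 * s + t + 11 * u + 11 * w = -16) :
    (s = 4 ∧ t = -4 ∧ u = 0 ∧ w = 0) ∨ (s = -1 ∧ t = 3 ∧ u = -1 ∧ w = -1) := by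
  obtain ⟨h1, h2, h3, h4, h5, h6, h7, h8⟩ := arith_d s t u w hn
  exact (tableR1 s (Finset.mem_Icc.mpr ⟨h1, h2⟩) t (Finset.mem_Icc.mpr ⟨h3, h4⟩)
    u (Finset.mem_Icc.mpr ⟨h5, h6⟩) w (Finset.mem_Icc.mpr ⟨h7, h8⟩) hn) hd

theorem arithR2 (s t u w : ℤ) (hn : s ^ 2 + t ^ 2 + 11 * u ^ 2 + 11 * w ^ 2 = 32)
    (hd : -3 * s + t + 11 * u + 11 * w = -8) (hu : 4 * s - 4 * t = 0) :
    s = 4 ∧ t = 4 ∧ u = 0 ∧ w = 0 := by
  obtain ⟨h1, h2, h3, h4, h5, h6, h7, h8⟩ := arith_d s t u w hn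
  exact (tableR2 s (Finset.mem_Icc.mpr ⟨h1, h2⟩) t (Finset.mem_Icc.mpr ⟨h3, h4⟩)
    u (Finset.mem_Icc.mpr ⟨h5, h6⟩) w (Finset.mem_Icc.mpr ⟨h7, h8⟩) hn) ⟨hd, hu⟩

theorem arithR3 (s t u w : ℤ) (hn : s ^ 2 + t ^ 2 + 11 * u ^ 2 + 11 * w ^ 2 = 32)
    (hd : s + 3 * t - 11 * u + 11 * w = -8) (hu : 4 * s + 4 * t = 0) :
    s = 4 ∧ t = -4 ∧ u = 0 ∧ w = 0 := by
  obtain ⟨h1, h2, h3, h4, h5, h6, h7, h8⟩ := arith_d s t u w hn
  exact (tableR3 s (Finset.mem_Icc.mpr ⟨h1, h2⟩) t (Finset.mem_Icc.mpr ⟨h3, h4⟩)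
    u (Finset.mem_Icc.mpr ⟨h5, h6⟩) w (Finset.mem_Icc.mpr ⟨h7, h8⟩) hn) ⟨hd, hu⟩

/-- The invariant vector of norm 64 with inner product `-24` with `(-3, 1^23)`. -/
theorem arithA (s t : ℤ) (hn : s ^ 2 + 23 * t ^ 2 = 64) (hd : -3 * s + 23 * t = -24) :
    s = 8 ∧ t = 0 := by
  have ht : 23 * t ^ 2 ≤ 64 := by nlinarith [sq_nonneg s]
  have ht1 : -1 ≤ t ∧ t ≤ 1 := by constructor <;> nlinarith
  have hs : s ^ 2 ≤ 64 := by nlinarith [sq_nonneg t]
  have hs1 : -8 ≤ s ∧ s ≤ 8 := by constructor <;> nlinarith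
  obtain ⟨h1, h2⟩ := ht1
  obtain ⟨h3, h4⟩ := hs1
  interval_cases t <;> interval_cases s <;> simp_all

/-! ### the vectors -/

theorem RL_eq : (RL : GolayPt → ℤ) = orbFun (-3) 1 1 1 := by
  funext p
  show (-(vecV + vec8 none)) p = orbFun (-3) 1 1 1 p
  revert p
  decide

theorem RL_eqA : (RL : GolayPt → ℤ) = orbFunA (-3) 1 := by
  funext p
  show (-(vecV + vec8 none)) p = orbFunA (-3) 1 p
  revert p
  decide

theorem e8_eqA : vec8 none = orbFunA 8 0 := by
  funext p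
  revert p
  decide

/-- `(1, 3, -1^11, 1^11)`. -/
def R1 : Lam := zE • RL

theorem R1_eq : (R1 : GolayPt → ℤ) = orbFun 1 3 (-1) 1 := by
  apply zE_eq_of
  show ∀ p, ZB.mulVec (-(vecV + vec8 none)) p = 4 * orbFun 1 3 (-1) 1 p
  decide +kernel

theorem VL_eq_neg : VL = -(RL + e8 none) := by
  unfold RL
  abel

theorem e8_zero_eq : e8 (some 0) = UL + -UL' := by
  apply Subtype.ext
  funext p
  show vec8 (some 0) p = vecU p + -vecU' p
  revert p
  decide

theorem norm_e8 : sqNorm ((e8 none : Lam) : GolayPt → ℤ) = 64 := by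
  show sqNorm (vec8 none) = 64
  decide +kernel

theorem dot_RL_e8 : dotInt (RL : GolayPt → ℤ) ((e8 none : Lam) : GolayPt → ℤ) = -24 := by
  show dotInt (-(vecV + vec8 none)) (vec8 none) = -24
  decide +kernel

theorem dot_RL_UL : dotInt (RL : GolayPt → ℤ) (UL : GolayPt → ℤ) = -8 := by
  show dotInt (-(vecV + vec8 none)) vecU = -8
  decide +kernel

theorem dot_RL_UL' : dotInt (RL : GolayPt → ℤ) (UL' : GolayPt → ℤ) = -16 := by
  show dotInt (-(vecV + vec8 none)) vecU' = -16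
  decide +kernel

theorem dot_UL'_UL : dotInt (UL' : GolayPt → ℤ) (UL : GolayPt → ℤ) = 0 := by
  show dotInt vecU' vecU = 0
  decide +kernel

theorem PD_fix_RL : PD • RL = RL := by
  unfold RL
  rw [smul_neg3, smul_add', PD_fix, PD_fix_e8]

theorem PC_fix_RL : PC • RL = RL := by
  unfold RL
  rw [smul_neg3, smul_add', PC_fix, show PC = perm mC from rfl, perm_fix_e8 mC gC_none]

/-! ### the normaliser of `⟨a⟩` -/

theorem zpow_none (σ : Equiv.Perm GolayPt) (h : σ none = none) (k : ℤ) : (σ ^ k) none = none := by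
  have hmem : σ ∈ MulAction.stabilizer (Equiv.Perm GolayPt) (none : GolayPt) := h
  exact (MulAction.stabilizer (Equiv.Perm GolayPt) (none : GolayPt)).zpow_mem hmem k

theorem PA_zpow_fix_e8 (k : ℤ) : PA ^ k • e8 none = e8 none := by
  rw [show PA = perm mA from rfl, ← perm_zpow]
  apply perm_fix_e8
  rw [Subgroup.coe_zpow]
  exact zpow_none gA gA_none k

/-- An automorphism fixing `(-3, 1^23)` and normalising `⟨a⟩` is a coordinate permutation fixing
the extra point. -/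
theorem mono_of_norm_PA (g : ↥Co0) (hR : g • RL = RL) (k : ℤ) (hn : PA * g = g * PA ^ k) :
    ∃ σ : ↥M24, σ.1 none = none ∧ g = perm σ := by
  set x : Lam := g • e8 none with hx
  have hfix : PA • x = x := by
    rw [hx, ← mul_smul', hn, mul_smul', PA_zpow_fix_e8]
  have hinv := inv_of_fix_PA x hfix
  have hnorm : sqNorm (x : GolayPt → ℤ) = 64 := by
    rw [hx, sqNorm_smul, norm_e8]
  have hd : dotInt (RL : GolayPt → ℤ) (x : GolayPt → ℤ) = -24 := by
    have := Cfsg.Agent.S5593.dot_smul g RL (e8 none)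
    rw [hR, dot_RL_e8] at this
    exact this
  rw [sqNorm_a x.1 hinv] at hnorm
  rw [RL_eqA, dot_orbFunA _ _ x.1 hinv] at hd
  obtain ⟨h1, h2⟩ := arithA _ _ hnorm (by rw [← hd]; ring)
  have hx8 : x = e8 none := by
    apply Subtype.ext
    rw [eq_orbFunA x.1 hinv, h1, h2]
    exact e8_eqA.symm
  have hV : g • VL = VL := by
    rw [VL_eq_neg, smul_neg3, smul_add', hR, ← hx, hx8]
  exact mono_of_fix g hx8 hV

/-- The centraliser of `a` in the stabiliser of `(-3, 1^23)`. -/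
theorem cent_PA2 (g : ↥Co0) (hR : g • RL = RL) (hc : g * PA = PA * g) :
    g ∈ Subgroup.zpowers PA := by
  obtain ⟨σ, _, rfl⟩ := mono_of_norm_PA g hR 1 (by rw [zpow_one, hc])
  have hcm : σ * mA = mA * σ := perm_comm hc
  have hcm' : σ.1 * gA = gA * σ.1 := congrArg Subtype.val hcm
  obtain ⟨n, hn⟩ := Subgroup.mem_zpowers_iff.1 (cent_A σ.1 hcm')
  have : σ = mA ^ n := by
    apply Subtype.ext
    rw [Subgroup.coe_zpow]
    exact hn.symm
  rw [this, perm_zpow]
  exact Subgroup.zpow_mem_zpowers PA n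

/-! ### the centraliser of `d` -/

/-- The permutation `x ↦ -1/x`. -/
noncomputable def mB : ↥M24 := ⟨gB, gB_mem⟩
noncomputable def PB : ↥Co0 := perm mB

theorem gB_apply : ∀ p : GolayPt, gB p = projInvFun p := by
  intro p
  apply idx_injective
  rw [gB_rep p]
  revert p
  decide +kernel

theorem perm_e8 (σ : ↥M24) (i : GolayPt) : perm σ • e8 i = e8 (σ.1 i) := by
  apply Subtype.ext
  rw [perm_apply]
  funext j
  rw [permVec_apply]
  show vec8 i (σ.1.symm j) = vec8 (σ.1 i) j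
  unfold vec8
  by_cases h : j = σ.1 i
  · rw [if_pos h, if_pos (by rw [h, Equiv.symm_apply_apply])]
  · rw [if_neg h, if_neg (fun e => h (by rw [← e, Equiv.apply_symm_apply]))]

theorem gB_zero : gB (some 0) = none := by rw [gB_apply]; decide

/-- An automorphism mapping `8 e_∞` to `-8 e_0` and `8 e_0` to `8 e_∞` does not commute
with `d`. -/
theorem no_swap (n : ↥Co0) (hc : n * PD = PD * n) (h0 : n • e8 (some 0) = e8 none)
    (h1 : n • e8 none = -e8 (some 0)) : False := by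
  have hfix : (PB * n) • e8 (some 0) = e8 (some 0) := by
    rw [mul_smul', h0, show PB = perm mB from rfl, perm_e8]
    congr 1
    show gB none = some 0
    rw [gB_apply]; rfl
  have hN : PB * n ∈ N := (mem_N_iff _).mpr (P_of_fix_e8 _ _ hfix)
  have hnN : n ∈ N := by
    have : n = PB⁻¹ * (PB * n) := by group
    rw [this]
    exact N.mul_mem (N.inv_mem (perm_mem_N mB)) hN
  obtain ⟨σ, u, rfl⟩ := exists_of_mem_N hnN
  have e1 : eps u * perm σ * PD = eps u * perm (σ * mD) := by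
    rw [mul_assoc, show PD = perm mD from rfl, ← perm_mul]
  have e2 : PD * (eps u * perm σ) = eps (act mD u) * perm (mD * σ) := by
    rw [← mul_assoc, show PD = perm mD from rfl, perm_mul_eps, mul_assoc, ← perm_mul]
  rw [e1, e2] at hc
  have hcm : σ * mD = mD * σ := (mono_injective hc).1
  have hcm' : σ.1 * gD = gD * σ.1 := congrArg Subtype.val hcm
  obtain ⟨k, hk⟩ := Subgroup.mem_zpowers_iff.1 (cent_D σ.1 σ.2 hcm')
  have hσ : σ.1 none = none := by
    rw [← hk]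
    exact zpow_none gD gD_none k
  have e3 : (((eps u * perm σ) • e8 none : Lam) : GolayPt → ℤ) none =
      ((-e8 (some 0) : Lam) : GolayPt → ℤ) none := by rw [h1]
  rw [mul_smul', perm_fix_e8 σ hσ, eps_apply] at e3
  have e4 : ((-e8 (some 0) : Lam) : GolayPt → ℤ) none = 0 := by
    show -(vec8 (some 0) none) = 0
    decide
  rw [e4] at e3
  unfold signFlip at e3
  have e5 : ((e8 none : Lam) : GolayPt → ℤ) none = 8 := by
    show vec8 none none = 8
    decide
  rw [e5] at e3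
  split_ifs at e3 <;> omega

theorem zE_RL : zE • RL = R1 := rfl

/-- The centraliser of `d` in the stabiliser of `(-3, 1^23)`. -/
theorem cent_PD2 (g : ↥Co0) (hR : g • RL = RL) (hc : g * PD = PD * g) :
    g ∈ Subgroup.zpowers PD := by
  set x' : Lam := g • UL' with hx'
  have hfix' : PD • x' = x' := by
    rw [hx', ← mul_smul', ← hc, mul_smul', PD_fix_UL']
  have hinv' := inv_of_fix_PD x' hfix'
  have hn' : sqNorm (x' : GolayPt → ℤ) = 32 := by
    rw [hx', sqNorm_smul, norm_UL']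
  have hd' : dotInt (RL : GolayPt → ℤ) (x' : GolayPt → ℤ) = -16 := by
    have := Cfsg.Agent.S5593.dot_smul g RL UL'
    rw [hR, dot_RL_UL'] at this
    exact this
  rw [sqNorm_d x'.1 hinv'] at hn'
  rw [RL_eq, dot_orbFun _ _ _ _ x'.1 hinv'] at hd'
  rcases arithR1 _ _ _ _ hn' (by rw [← hd']; ring) with ⟨h1, h2, h3, h4⟩ | ⟨h1, h2, h3, h4⟩
  · -- `g` fixes `(4, -4, 0^22)`
    have hxU' : x' = UL' := by
      apply Subtype.ext
      rw [eq_orbFun x'.1 hinv', h1, h2, h3, h4, orbFun_U']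
      rfl
    set x : Lam := g • UL with hx
    have hfix : PD • x = x := by
      rw [hx, ← mul_smul', ← hc, mul_smul', PD_fix_UL]
    have hinv := inv_of_fix_PD x hfix
    have hn : sqNorm (x : GolayPt → ℤ) = 32 := by
      rw [hx, sqNorm_smul, norm_UL]
    have hd : dotInt (RL : GolayPt → ℤ) (x : GolayPt → ℤ) = -8 := by
      have := Cfsg.Agent.S5593.dot_smul g RL UL
      rw [hR, dot_RL_UL] at this
      exact this
    have hu : dotInt vecU' (x : GolayPt → ℤ) = 0 := by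
      have := Cfsg.Agent.S5593.dot_smul g UL' UL
      rw [← hx', hxU', dot_UL'_UL] at this
      exact this
    rw [sqNorm_d x.1 hinv] at hn
    rw [RL_eq, dot_orbFun _ _ _ _ x.1 hinv] at hd
    rw [dotU' x.1] at hu
    obtain ⟨k1, k2, k3, k4⟩ := arithR2 _ _ _ _ hn (by rw [← hd]; ring) hu
    have hxU : x = UL := by
      apply Subtype.ext
      rw [eq_orbFun x.1 hinv, k1, k2, k3, k4, orbFun_U]
      rfl
    have h8 : g • e8 none = e8 none := by
      rw [e8_eq, smul_add', ← hx, hxU, ← hx', hxU']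
    have hV : g • VL = VL := by
      rw [VL_eq_neg, smul_neg3, smul_add', hR, h8]
    obtain ⟨σ, _, rfl⟩ := mono_of_fix g h8 hV
    have hcm : σ * mD = mD * σ := perm_comm hc
    have hcm' : σ.1 * gD = gD * σ.1 := congrArg Subtype.val hcm
    obtain ⟨n, hn⟩ := Subgroup.mem_zpowers_iff.1 (cent_D σ.1 σ.2 hcm')
    have : σ = mD ^ n := by
      apply Subtype.ext
      rw [Subgroup.coe_zpow]
      exact hn.symm
    rw [this, perm_zpow]
    exact Subgroup.zpow_mem_zpowers PD n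
  · -- the other candidate is excluded
    exfalso
    have hxM : x' = -M3 := by
      apply Subtype.ext
      show x'.1 = -(-(vecV + vecU))
      rw [eq_orbFun x'.1 hinv', h1, h2, h3, h4, neg_neg]
      funext p
      revert p
      decide
    set n : ↥Co0 := zE * g with hn
    have hnc : n * PD = PD * n := by
      rw [hn, mul_assoc, hc, ← mul_assoc, zE_PD, mul_assoc]
    have hnU' : n • UL' = -UL := by
      rw [hn, mul_smul', ← hx', hxM, smul_neg3, zE_M3]
    have hnR : n • RL = R1 := by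
      rw [hn, mul_smul', hR]
      rfl
    set y : Lam := n • UL with hy
    have hfix : PD • y = y := by
      rw [hy, ← mul_smul', ← hnc, mul_smul', PD_fix_UL]
    have hinv := inv_of_fix_PD y hfix
    have hny : sqNorm (y : GolayPt → ℤ) = 32 := by
      rw [hy, sqNorm_smul, norm_UL]
    have hd : dotInt (R1 : GolayPt → ℤ) (y : GolayPt → ℤ) = -8 := by
      have := Cfsg.Agent.S5593.dot_smul n RL UL
      rw [hnR, dot_RL_UL] at this
      exact this
    have hu : dotInt vecU (y : GolayPt → ℤ) = 0 := by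
      have := Cfsg.Agent.S5593.dot_smul n UL' UL
      rw [hnU', dot_UL'_UL] at this
      have e : dotInt ((-UL : Lam) : GolayPt → ℤ) (y : GolayPt → ℤ) =
          -dotInt vecU (y : GolayPt → ℤ) := by
        show dotInt (-vecU) (y : GolayPt → ℤ) = -dotInt vecU (y : GolayPt → ℤ)
        unfold dotInt
        rw [← Finset.sum_neg_distrib]
        apply Finset.sum_congr rfl
        intro i _
        rw [Pi.neg_apply]; ring
      rw [e] at this
      omega
    rw [sqNorm_d y.1 hinv] at hny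
    rw [R1_eq, dot_orbFun _ _ _ _ y.1 hinv] at hd
    rw [dotU y.1] at hu
    obtain ⟨k1, k2, k3, k4⟩ := arithR3 _ _ _ _ hny (by rw [← hd]; ring) hu
    have hyU : y = UL' := by
      apply Subtype.ext
      rw [eq_orbFun y.1 hinv, k1, k2, k3, k4, orbFun_U']
      rfl
    apply no_swap n hnc
    · rw [e8_zero_eq, smul_add', smul_neg3, ← hy, hyU, hnU', neg_neg, e8_eq, add_comm]
    · rw [e8_eq, smul_add', ← hy, hyU, hnU', e8_zero_eq]
      abel

end Cfsg.Agent.Lib.Helper92_Co2Cent
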