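import Cfsg.Agent.Lib.Helper92_Co2Max
import Cfsg.Agent.Lib.Helper7_Code
import Cfsg.Agent.S1576

/-!
A subgroup of the monomial automorphisms fixing `v0 = 4 e_4 - 4 e_13` which is normalised by the
whole stabiliser of `v0` is trivial: its elements map every minimal vector orthogonal to `v0` to
itself or its opposite, which forces the permutation part to fix the 22 other points and the sign
part to be constant on them.
-/

set_option autoImplicit false
set_option linter.constructorNameAsVariable false
open Cfsg
open scoped Pointwise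

namespace Cfsg.Agent.Lib.Helper92_Co2

open Cfsg.Agent.Lib.Helper7_M24 Cfsg.Agent.Lib.Helper7_Leech Cfsg.Agent.Lib.Helper92_Monomial
  Cfsg.Agent.Lib.Helper92_LeechMod2 Cfsg.Agent.Lib.Helper92_Co0Order
  Cfsg.Agent.Lib.Helper92_OrthPairs Cfsg.Agent.Lib.Helper92_MaxN
open Cfsg.Agent.Lib.Helper26_Leech (pa pb pa_ne_pb v0 v0_apply dotInt_v0 v0_mem v0_norm census)
open Cfsg.Agent.Lib.Helper26_Co2 (v0L permVec_v0 signFlip_v0)
open Cfsg.Agent.S5546 (Lam vec8 e8)
open Cfsg.Agent.S0394 (sgn fO famA famB famO)

/-- `-4 e_4 - 4 e_13`, as an element of the lattice. -/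
theorem bmL_eq : ((-bpL : Lam) : GolayPt → ℤ) = bm := by
  rw [bm_eq_neg]; rfl

/-- A monomial automorphism fixing `v0` maps `4 e_4 + 4 e_13` to itself or its opposite. -/
theorem fix_or_neg (g : ↥Co0) (hP : Cfsg.Agent.S1571.P g) (h0 : g • v0L = v0L) :
    g • bpL = bpL ∨ g • bpL = -bpL := by
  obtain ⟨j, s, hs, hjs⟩ := hP (e8 pa) (Cfsg.Agent.S1571.vec8_mem_stdCross pa)
  rw [e8_pa_eq, smul_add', h0] at hjs
  have hjs' : v0 + ((g • bpL : Lam) : GolayPt → ℤ) = Pi.single j s := hjs
  have hd : dotInt v0 ((g • bpL : Lam) : GolayPt → ℤ) = 0 := by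
    have := Cfsg.Agent.S5593.dot_smul g v0L bpL
    rw [h0] at this
    rw [show dotInt v0 ((g • bpL : Lam) : GolayPt → ℤ) =
      dotInt ((v0L : Lam) : GolayPt → ℤ) ((g • bpL : Lam) : GolayPt → ℤ) from rfl, this]
    exact bp_mem_clA1.2.1
  rw [dotInt_v0] at hd
  have ha := congrFun hjs' pa
  have hb := congrFun hjs' pb
  rw [Pi.add_apply, v0_apply, if_pos rfl, if_neg pa_ne_pb] at ha
  rw [Pi.add_apply, v0_apply, if_neg pa_ne_pb.symm, if_pos rfl] at hb
  have hy : ((g • bpL : Lam) : GolayPt → ℤ) = Pi.single j s - v0 := by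
    rw [← hjs']; abel
  by_cases hja : j = pa
  · left
    rw [hja] at ha hb hy
    rw [Pi.single_eq_same] at ha
    rw [Pi.single_eq_of_ne pa_ne_pb.symm] at hb
    have hs8 : s = 8 := by omega
    apply Subtype.ext
    rw [hy, hs8]
    have : (Pi.single pa 8 : GolayPt → ℤ) = ((e8 pa : Lam) : GolayPt → ℤ) :=
      (Cfsg.Agent.S1571.vec8_eq_single pa).symm
    rw [this, e8_pa_eq]
    show v0 + bp - v0 = bp
    abel
  · by_cases hjb : j = pb
    · right
      rw [hjb] at ha hb hy
      rw [Pi.single_eq_of_ne pa_ne_pb] at ha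
      rw [Pi.single_eq_same] at hb
      have hs8 : s = -8 := by omega
      apply Subtype.ext
      rw [bmL_eq, hy, hs8]
      funext i
      rw [Pi.sub_apply, v0_apply]
      by_cases hia : i = pa
      · subst hia
        rw [Pi.single_eq_of_ne pa_ne_pb, if_pos rfl, if_neg pa_ne_pb, bm_pa]
        rfl
      · by_cases hib : i = pb
        · subst hib
          rw [Pi.single_eq_same, if_neg hia, if_pos rfl, bm_pb]
          rfl
        · rw [Pi.single_eq_of_ne hib, if_neg hia, if_neg hib]
          have : bm i = 0 := by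
            apply Cfsg.Agent.S0394.sgn_of_notMem
            rw [Finset.mem_insert, Finset.mem_singleton]
            rintro (h | h)
            · exact hia h
            · exact hib h
          rw [this]
          rfl
    · exfalso
      rw [Pi.single_eq_of_ne (Ne.symm hja)] at ha
      rw [Pi.single_eq_of_ne (Ne.symm hjb)] at hb
      omega

/-- A code word through the first point and off the second. -/
def sepMask : ℕ := 1363324

theorem sepMask_mem : Cfsg.Agent.Lib.Helper7_Bits.toWord sepMask ∈ golayCode :=
  Cfsg.Agent.Lib.Helper7_Bits.toWord_mem_of_inCode (by decide +kernel)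

theorem sepMask_pa : Cfsg.Agent.Lib.Helper7_Bits.toWord sepMask pa = 1 := by decide

theorem sepMask_pb : Cfsg.Agent.Lib.Helper7_Bits.toWord sepMask pb = 0 := by decide

/-- The code is not preserved by the transposition of the two points. -/
theorem no_swap (σ : Equiv.Perm GolayPt) (hσ : σ ∈ M24) (ha : σ pa = pb) (hb : σ pb = pa)
    (hr : ∀ i, i ≠ pa → i ≠ pb → σ i = i) : False := by
  have hsa : σ.symm pa = pb := by rw [Equiv.symm_apply_eq]; exact hb.symm
  have hsb : σ.symm pb = pa := by rw [Equiv.symm_apply_eq]; exact ha.symm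
  have hsr : ∀ i, i ≠ pa → i ≠ pb → σ.symm i = i := by
    intro i h1 h2
    rw [Equiv.symm_apply_eq]
    exact (hr i h1 h2).symm
  set u := Cfsg.Agent.Lib.Helper7_Bits.toWord sepMask with hu
  have hd : u + permWord σ u ∈ golayCode :=
    golayCode.add_mem sepMask_mem (permWord_mem_of_mem_M24 hσ sepMask_mem)
  have hda : (u + permWord σ u) pa = 1 := by
    rw [Pi.add_apply, permWord_apply, hsa, hu, sepMask_pa, sepMask_pb]
    rfl
  have hne : u + permWord σ u ≠ 0 := by
    intro h
    rw [h] at hda
    exact absurd hda (by decide)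
  have h8 := Cfsg.Agent.Lib.Helper7_Code.eight_le_weight _ hd hne
  have hsub : support₂ (u + permWord σ u) ⊆ {pa, pb} := by
    intro i hi
    rw [mem_support₂] at hi
    rw [Finset.mem_insert, Finset.mem_singleton]
    by_contra hcon
    have h1 : i ≠ pa := fun h => hcon (Or.inl h)
    have h2 : i ≠ pb := fun h => hcon (Or.inr h)
    rw [Pi.add_apply, permWord_apply, hsr i h1 h2] at hi
    have : u i + u i = 0 := by
      have : ∀ a : ZMod 2, a + a = 0 := by decide
      exact this _
    rw [this] at hi
    exact absurd hi (by decide)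
  have hle := Finset.card_le_card hsub
  rw [Finset.card_pair pa_ne_pb] at hle
  omega

/-- The lattice vector `4 e_i + 4 e_j`. -/
def pairL (i j : GolayPt) (hij : i ≠ j) : Lam :=
  ⟨sgn 4 {i, j} ∅, famA_sub ⟨{i, j}, ∅, Finset.card_pair hij, Finset.empty_subset _, rfl⟩⟩

theorem pairL_apply_left (i j : GolayPt) (hij : i ≠ j) : (pairL i j hij).1 i = 4 :=
  Cfsg.Agent.S0394.sgn_of_mem_pos (Finset.mem_insert_self _ _) (Finset.notMem_empty _)

theorem pairL_apply_right (i j : GolayPt) (hij : i ≠ j) : (pairL i j hij).1 j = 4 :=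
  Cfsg.Agent.S0394.sgn_of_mem_pos (Finset.mem_insert_of_mem (Finset.mem_singleton_self _))
    (Finset.notMem_empty _)

theorem pairL_apply_other (i j : GolayPt) (hij : i ≠ j) (k : GolayPt) (hki : k ≠ i)
    (hkj : k ≠ j) : (pairL i j hij).1 k = 0 := by
  apply Cfsg.Agent.S0394.sgn_of_notMem
  rw [Finset.mem_insert, Finset.mem_singleton]
  rintro (h | h)
  · exact hki h
  · exact hkj h

theorem pairL_norm (i j : GolayPt) (hij : i ≠ j) : sqNorm ((pairL i j hij : Lam) : GolayPt → ℤ) = 32 :=
  (fam_mem_lattice (Or.inl ⟨{i, j}, ∅, Finset.card_pair hij, Finset.empty_subset _, rfl⟩)).2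

theorem pairL_dot (i j : GolayPt) (hij : i ≠ j) (hia : i ≠ pa) (hib : i ≠ pb) (hja : j ≠ pa)
    (hjb : j ≠ pb) : dotInt v0 ((pairL i j hij : Lam) : GolayPt → ℤ) = 0 := by
  rw [dotInt_v0, pairL_apply_other i j hij pa hia.symm hja.symm,
    pairL_apply_other i j hij pb hib.symm hjb.symm]
  rfl

/-- There are two further points outside any three given ones. -/
theorem exists_two_other (a b i : GolayPt) :
    ∃ j j' : GolayPt, j ≠ a ∧ j ≠ b ∧ j ≠ i ∧ j' ≠ a ∧ j' ≠ b ∧ j' ≠ i ∧ j ≠ j' := by
  have hcard : 1 < (Finset.univ \ ({a, b, i} : Finset GolayPt)).card := by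
    have h3 : ({a, b, i} : Finset GolayPt).card ≤ 3 := Finset.card_le_three
    rw [Finset.card_sdiff_of_subset (Finset.subset_univ _), Finset.card_univ,
      Cfsg.Agent.S0394.card_golayPt]
    omega
  obtain ⟨j, hj, j', hj', hjj'⟩ := Finset.one_lt_card.mp hcard
  rw [Finset.mem_sdiff, Finset.mem_insert, Finset.mem_insert, Finset.mem_singleton] at hj hj'
  refine ⟨j, j', ?_, ?_, ?_, ?_, ?_, ?_, hjj'⟩
  · exact fun h => hj.2 (Or.inl h)
  · exact fun h => hj.2 (Or.inr (Or.inl h))
  · exact fun h => hj.2 (Or.inr (Or.inr h))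
  · exact fun h => hj'.2 (Or.inl h)
  · exact fun h => hj'.2 (Or.inr (Or.inl h))
  · exact fun h => hj'.2 (Or.inr (Or.inr h))

theorem core_trivial (H K : Subgroup ↥Co0) (hH : ∀ g, g ∈ H ↔ Cfsg.Agent.S1571.P g)
    (hK : K ≤ H ⊓ T0) (hnorm : ∀ t ∈ T0, ∀ k ∈ K, t⁻¹ * k * t ∈ K) : K = ⊥ := by
  rw [Subgroup.eq_bot_iff_forall]
  intro k hk
  have hkP : Cfsg.Agent.S1571.P k := (hH k).mp (hK hk).1
  have hk0 : k • v0L = v0L := (hK hk).2
  -- `k` maps every minimal vector orthogonal to `v0` to itself or its opposite
  have hW : ∀ w : Lam, sqNorm (w : GolayPt → ℤ) = 32 → dotInt v0 (w : GolayPt → ℤ) = 0 →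
      k • w = w ∨ k • w = -w := by
    intro w hn hd
    obtain ⟨t, ht0, htw⟩ := Cfsg.Agent.Lib.Helper26_Co2.stab_trans 0 _
      Cfsg.Agent.Lib.Helper26_Co2.census_rep0 v0L bpL w v0_norm
      (fam_mem_lattice (Or.inl bp_famA)).2 hn bp_mem_clA1.2.1 hd
    have htT : t ∈ T0 := ht0
    have hmem := hK (hnorm t htT k hk)
    have hP' : Cfsg.Agent.S1571.P (t⁻¹ * k * t) := (hH _).mp hmem.1
    have h0' : (t⁻¹ * k * t) • v0L = v0L := hmem.2
    rcases fix_or_neg _ hP' h0' with h | h
    · left
      rw [mul_smul, mul_smul, htw, inv_smul_eq_iff, htw] at h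
      exact h
    · right
      rw [mul_smul, mul_smul, htw, inv_smul_eq_iff, smul_neg', htw] at h
      exact h
  -- the monomial form of `k`
  obtain ⟨σ, hσ, u, hu, hform⟩ := Cfsg.Agent.S1571.part1 k hkP
  have hcoord : ∀ (v : Lam) (j : GolayPt), ((k • v : Lam) : GolayPt → ℤ) (σ j) =
      if σ j ∈ support₂ u then -(v : GolayPt → ℤ) j else (v : GolayPt → ℤ) j := by
    intro v j
    have e : ((k • v : Lam) : GolayPt → ℤ) = signedPerm σ (support₂ u) v.1 := hform v
    rw [e, signedPerm_eq]
    by_cases hj : σ j ∈ support₂ u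
    · rw [if_pos hj, signFlip_of_mem hj, permVec_apply, Equiv.symm_apply_apply]
    · rw [if_neg hj, signFlip_of_notMem hj, permVec_apply, Equiv.symm_apply_apply]
  -- images of the points other than the two
  have hin : ∀ i j : GolayPt, ∀ hij : i ≠ j, i ≠ pa → i ≠ pb → j ≠ pa → j ≠ pb →
      (σ i = i ∨ σ i = j) := by
    intro i j hij hia hib hja hjb
    have hc := hcoord (pairL i j hij) i
    rw [pairL_apply_left] at hc
    have hne : ((k • pairL i j hij : Lam) : GolayPt → ℤ) (σ i) ≠ 0 := by
      rw [hc]
      split_ifs <;> decide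
    have hne' : (pairL i j hij).1 (σ i) ≠ 0 := by
      rcases hW (pairL i j hij) (pairL_norm i j hij) (pairL_dot i j hij hia hib hja hjb) with h | h
      · rw [h] at hne
        exact hne
      · rw [h] at hne
        intro h0
        apply hne
        show -(pairL i j hij).1 (σ i) = 0
        rw [h0]
        rfl
    by_contra hcon
    apply hne'
    apply pairL_apply_other
    · exact fun h => hcon (Or.inl h)
    · exact fun h => hcon (Or.inr h)
  have hfixR : ∀ i, i ≠ pa → i ≠ pb → σ i = i := by
    intro i hia hib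
    obtain ⟨j, j', hja, hjb, hji, hj'a, hj'b, hj'i, hjj'⟩ := exists_two_other pa pb i
    rcases hin i j (Ne.symm hji) hia hib hja hjb with h | h
    · exact h
    · rcases hin i j' (Ne.symm hj'i) hia hib hj'a hj'b with h' | h'
      · exact h'
      · exfalso
        exact hjj' (h.symm.trans h')
  -- the signs on the other points are constant
  have hsign : ∀ i j : GolayPt, i ≠ j → i ≠ pa → i ≠ pb → j ≠ pa → j ≠ pb →
      (i ∈ support₂ u ↔ j ∈ support₂ u) := by
    intro i j hij hia hib hja hjb
    have hci := hcoord (pairL i j hij) i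
    have hcj := hcoord (pairL i j hij) j
    rw [hfixR i hia hib, pairL_apply_left] at hci
    rw [hfixR j hja hjb, pairL_apply_right] at hcj
    rcases hW (pairL i j hij) (pairL_norm i j hij) (pairL_dot i j hij hia hib hja hjb) with h | h
    · rw [h, pairL_apply_left] at hci
      rw [h, pairL_apply_right] at hcj
      constructor
      · intro hi
        rw [if_pos hi] at hci
        exact absurd hci (by decide)
      · intro hj
        rw [if_pos hj] at hcj
        exact absurd hcj (by decide)
    · have e1 : ((-pairL i j hij : Lam) : GolayPt → ℤ) i = -4 := by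
        show -(pairL i j hij).1 i = -4
        rw [pairL_apply_left]
      have e2 : ((-pairL i j hij : Lam) : GolayPt → ℤ) j = -4 := by
        show -(pairL i j hij).1 j = -4
        rw [pairL_apply_right]
      rw [h, e1] at hci
      rw [h, e2] at hcj
      constructor
      · intro _
        by_contra hj
        rw [if_neg hj] at hcj
        exact absurd hcj (by decide)
      · intro _
        by_contra hi
        rw [if_neg hi] at hci
        exact absurd hci (by decide)
  -- the image of the first point
  have hpa : σ pa = pa ∨ σ pa = pb := by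
    by_contra hcon
    have h1 : σ pa ≠ pa := fun h => hcon (Or.inl h)
    have h2 : σ pa ≠ pb := fun h => hcon (Or.inr h)
    have := hfixR (σ pa) h1 h2
    exact h1 (σ.injective this)
  have hpb : σ pb = pa ∨ σ pb = pb := by
    by_contra hcon
    have h1 : σ pb ≠ pa := fun h => hcon (Or.inl h)
    have h2 : σ pb ≠ pb := fun h => hcon (Or.inr h)
    have := hfixR (σ pb) h1 h2
    exact h2 (σ.injective this)
  rcases hpa with hpa | hpa
  · -- the permutation is trivial
    have hpb' : σ pb = pb := by
      rcases hpb with h | h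
      · exact absurd (σ.injective (hpa.trans h.symm)) pa_ne_pb
      · exact h
    have hσ1 : ∀ i, σ i = i := by
      intro i
      by_cases hia : i = pa
      · rw [hia]; exact hpa
      · by_cases hib : i = pb
        · rw [hib]; exact hpb'
        · exact hfixR i hia hib
    -- no sign at the two points
    have hka : pa ∉ support₂ u := by
      intro h
      have hc := hcoord v0L pa
      rw [hk0, hpa, if_pos h] at hc
      have : ((v0L : Lam) : GolayPt → ℤ) pa = 4 := by
        show v0 pa = 4
        rw [v0_apply, if_pos rfl, if_neg pa_ne_pb]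
        rfl
      rw [this] at hc
      exact absurd hc (by decide)
    have hkb : pb ∉ support₂ u := by
      intro h
      have hc := hcoord v0L pb
      rw [hk0, hpb', if_pos h] at hc
      have : ((v0L : Lam) : GolayPt → ℤ) pb = -4 := by
        show v0 pb = -4
        rw [v0_apply, if_neg pa_ne_pb.symm, if_pos rfl]
        rfl
      rw [this] at hc
      exact absurd hc (by decide)
    -- the sign part is empty
    have hempty : support₂ u = ∅ := by
      by_contra hne
      obtain ⟨i, hi⟩ := Finset.nonempty_iff_ne_empty.mpr hne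
      have hia : i ≠ pa := fun h => hka (h ▸ hi)
      have hib : i ≠ pb := fun h => hkb (h ▸ hi)
      have hall : ∀ j, j ≠ pa → j ≠ pb → j ∈ support₂ u := by
        intro j hja hjb
        by_cases hij : i = j
        · rw [← hij]; exact hi
        · exact (hsign i j hij hia hib hja hjb).mp hi
      have hcard : (support₂ u).card = 22 := by
        have : support₂ u = Finset.univ \ {pa, pb} := by
          ext j
          rw [Finset.mem_sdiff, Finset.mem_insert, Finset.mem_singleton]
          constructor
          · intro hj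
            refine ⟨Finset.mem_univ j, ?_⟩
            rintro (h | h)
            · exact hka (h ▸ hj)
            · exact hkb (h ▸ hj)
          · rintro ⟨_, hj⟩
            exact hall j (fun h => hj (Or.inl h)) (fun h => hj (Or.inr h))
        rw [this, Finset.card_sdiff_of_subset (Finset.subset_univ _), Finset.card_univ,
          Cfsg.Agent.S0394.card_golayPt, Finset.card_pair pa_ne_pb]
      rcases Cfsg.Agent.Lib.Helper7_Code.weight_mem u hu with h | h | h | h | h <;> omega
    -- conclusion
    apply Subtype.ext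
    apply Equiv.ext
    intro v
    apply Subtype.ext
    show ((k • v : Lam) : GolayPt → ℤ) = v.1
    funext j
    have hc := hcoord v j
    rw [hσ1 j, hempty, if_neg (Finset.notMem_empty _)] at hc
    exact hc
  · -- the permutation would be the transposition of the two points
    exfalso
    have hpb' : σ pb = pa := by
      rcases hpb with h | h
      · exact h
      · exact absurd (σ.injective (hpa.trans h.symm)) pa_ne_pb
    exact no_swap σ hσ hpa hpb' hfixR

end Cfsg.Agent.Lib.Helper92_Co2
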