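import Cfsg.Agent.Lib.Helper92_RankOrbits
import Cfsg.Agent.Lib.Helper26_HSPair
import Cfsg.Agent.S5593
import Cfsg.Agent.S0397

/-!
The stabiliser of a vector of norm `48` in the automorphism group of the rank-24 lattice is simple
of order `495766656000`, given that the stabiliser of a point of its action on the `11178` minimal
vectors with inner product `-16` is simple of order `44352000` and has orbits of sizes `352`,
`1100`, `4125`, `5600` on the other points.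
-/

set_option autoImplicit false
open Cfsg
open scoped Pointwise

namespace Cfsg.Agent.Lib.Helper92_Co3

open Cfsg.Agent.Lib.Helper92_RankSimple Cfsg.Agent.Lib.Helper92_Co0Order
open Cfsg.Agent.S5546 (Lam)
open MulAction

instance finiteCo0'' : Finite ↥Co0 :=
  Nat.finite_of_card_ne_zero (by rw [Cfsg.Agent.S0397.result]; norm_num)

theorem orbit_inf_eq {G0 α : Type*} [Group G0] [MulAction G0 α] (A : Subgroup G0) (x y : α) :
    orbit ↥(A ⊓ stabilizer G0 x) y = orbit ↥(stabilizer ↥A x) y := by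
  ext z
  constructor
  · rintro ⟨g, rfl⟩
    exact ⟨⟨⟨g.1, g.2.1⟩, g.2.2⟩, rfl⟩
  · rintro ⟨g, rfl⟩
    exact ⟨⟨g.1.1, g.1.2, g.2⟩, rfl⟩

theorem smul_neg' (g : ↥Co0) (a : Lam) : g • (-a) = -(g • a) :=
  Cfsg.Agent.Lib.Helper26_HSPair.co0_neg g.1 g.2 a

section main

variable (v x0 : Lam)

/-- The points. -/
def X3 : Set Lam := {x : ↥leechLattice | sqNorm (x : GolayPt → ℤ) = 32 ∧
  dotInt (v : GolayPt → ℤ) (x : GolayPt → ℤ) = -16}

/-- The second vector of the pair attached to a point. -/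
def wOf : Lam := -(v + x0)

theorem fix_w_iff (g : ↥Co0) (hg : g • v = v) : g • wOf v x0 = wOf v x0 ↔ g • x0 = x0 := by
  unfold wOf
  rw [smul_neg', smul_add', hg, neg_inj, add_right_inj]

/-- The stabiliser of the point in the stabiliser of `v`, and the common stabiliser of the pair. -/
def stabEquiv : ↥(stabilizer ↥(stabilizer ↥Co0 v) x0) ≃*
    ↥(stabilizer ↥Co0 v ⊓ stabilizer ↥Co0 (wOf v x0)) where
  toFun h := ⟨h.1.1, h.1.2, (fix_w_iff v x0 h.1.1 h.1.2).mpr h.2⟩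
  invFun h := ⟨⟨h.1, h.2.1⟩, (fix_w_iff v x0 h.1 h.2.1).mp h.2.2⟩
  left_inv _ := rfl
  right_inv _ := rfl
  map_mul' _ _ := rfl

variable (hv : sqNorm (v : GolayPt → ℤ) = 48) (hx0 : x0 ∈ X3 v)

include hv hx0 in
theorem wOf_norm : sqNorm (wOf v x0 : GolayPt → ℤ) = 48 := by
  show sqNorm (-((v : GolayPt → ℤ) + (x0 : GolayPt → ℤ))) = 48
  rw [Cfsg.Agent.Lib.Helper26_HSPair.norm_neg_add, hv, hx0.1, hx0.2]
  norm_num

include hv hx0 in
theorem wOf_dot : dotInt (v : GolayPt → ℤ) (wOf v x0 : GolayPt → ℤ) = -32 := by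
  show dotInt (v : GolayPt → ℤ) (-((v : GolayPt → ℤ) + (x0 : GolayPt → ℤ))) = -32
  rw [Cfsg.Agent.Lib.Helper26_HSPair.dot_neg_add, Cfsg.Agent.Lib.Helper26_HSPair.dot_self, hv,
    hx0.2]
  norm_num

theorem X3_smul (g : ↥(stabilizer ↥Co0 v)) (x : Lam) (hx : x ∈ X3 v) : g • x ∈ X3 v := by
  have hg : (g : ↥Co0) • v = v := g.2
  refine ⟨?_, ?_⟩
  · show sqNorm (((g : ↥Co0) • x : Lam) : GolayPt → ℤ) = 32
    rw [sqNorm_smul]; exact hx.1
  · show dotInt (v : GolayPt → ℤ) (((g : ↥Co0) • x : Lam) : GolayPt → ℤ) = -16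
    have := Cfsg.Agent.S5593.dot_smul (g : ↥Co0) v x
    rw [hg] at this
    rw [this]; exact hx.2

/-- The data on the action. -/
structure Data : Prop where
  card : (X3 v).ncard = 11178
  trans : ∀ x ∈ X3 v, ∀ x' ∈ X3 v, ∃ g : ↥Co0, g • v = v ∧ g • x = x'
  simple : IsSimpleGroup ↥(stabilizer ↥Co0 v ⊓ stabilizer ↥Co0 (wOf v x0))
  cardH : Nat.card ↥(stabilizer ↥Co0 v ⊓ stabilizer ↥Co0 (wOf v x0)) = 44352000
  orbits : ∃ y₁ ∈ X3 v, ∃ y₂ ∈ X3 v, ∃ y₃ ∈ X3 v, ∃ y₄ ∈ X3 v,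
    (orbit ↥(stabilizer ↥Co0 v ⊓ stabilizer ↥Co0 x0) y₁).ncard = 352 ∧
    (orbit ↥(stabilizer ↥Co0 v ⊓ stabilizer ↥Co0 x0) y₂).ncard = 1100 ∧
    (orbit ↥(stabilizer ↥Co0 v ⊓ stabilizer ↥Co0 x0) y₃).ncard = 4125 ∧
    (orbit ↥(stabilizer ↥Co0 v ⊓ stabilizer ↥Co0 x0) y₄).ncard = 5600 ∧
    X3 v = {x0} ∪ orbit ↥(stabilizer ↥Co0 v ⊓ stabilizer ↥Co0 x0) y₁ ∪
      orbit ↥(stabilizer ↥Co0 v ⊓ stabilizer ↥Co0 x0) y₂ ∪
      orbit ↥(stabilizer ↥Co0 v ⊓ stabilizer ↥Co0 x0) y₃ ∪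
      orbit ↥(stabilizer ↥Co0 v ⊓ stabilizer ↥Co0 x0) y₄

variable {v x0}

include hx0 in
theorem orbit3_eq (hD : Data v x0) : orbit ↥(stabilizer ↥Co0 v) x0 = X3 v := by
  ext x
  constructor
  · rintro ⟨g, rfl⟩
    exact X3_smul v g x0 hx0
  · intro hx
    obtain ⟨g, h1, h2⟩ := hD.trans x0 hx0 x hx
    exact ⟨⟨g, h1⟩, h2⟩

theorem arith11178 : ∀ e : Fin 4 → Bool,
    (1 + ∑ i, if e i = true then (![352, 1100, 4125, 5600] : Fin 4 → ℕ) i else 0) ∣ 11178 →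
    (∀ i, e i = true) ∨ (∀ i, e i = false) := by
  decide

include hx0 in
theorem stab_simple (hD : Data v x0) : IsSimpleGroup ↥(stabilizer ↥Co0 v) := by
  have hH : IsSimpleGroup ↥(stabilizer ↥(stabilizer ↥Co0 v) x0) := by
    have := hD.simple
    exact (stabEquiv v x0).isSimpleGroup
  have horb := orbit3_eq hx0 hD
  have hcard : (orbit ↥(stabilizer ↥Co0 v) x0).ncard = 2 * 5589 := by
    rw [horb, hD.card]
  obtain ⟨y₁, m1, y₂, m2, y₃, m3, y₄, m4, h1, h2, h3, h4, hU⟩ := hD.orbits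
  rw [orbit_inf_eq] at h1 h2 h3 h4
  rw [orbit_inf_eq, orbit_inf_eq, orbit_inf_eq, orbit_inf_eq] at hU
  have hs : ∀ i, (orbit ↥(stabilizer ↥(stabilizer ↥Co0 v) x0) ((![y₁, y₂, y₃, y₄] : Fin 4 → Lam) i)).ncard =
      (![352, 1100, 4125, 5600] : Fin 4 → ℕ) i := by
    intro i
    fin_cases i
    · exact h1
    · exact h2
    · exact h3
    · exact h4
  have hs1 : ∀ i, 1 < (![352, 1100, 4125, 5600] : Fin 4 → ℕ) i := by decide
  have hinj : Function.Injective (![352, 1100, 4125, 5600] : Fin 4 → ℕ) := by decide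
  have hcov : orbit ↥(stabilizer ↥Co0 v) x0 ⊆
      ⋃ i, ClO (G := ↥(stabilizer ↥Co0 v)) x0 (![y₁, y₂, y₃, y₄] : Fin 4 → Lam) i := by
    rw [horb, hU]
    intro y hy
    rw [Set.mem_iUnion]
    rcases hy with (((hy | hy) | hy) | hy) | hy
    · exact ⟨none, hy⟩
    · exact ⟨some 0, hy⟩
    · exact ⟨some 1, hy⟩
    · exact ⟨some 2, hy⟩
    · exact ⟨some 3, hy⟩
  apply simple_of_action_two_odd (G := ↥(stabilizer ↥Co0 v)) x0 hH 5589 (by decide) (by norm_num)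
    hcard
  · exact hprim_of_orbits x0 _ _ hs hs1 hinj (2 * 5589) hcard hcov arith11178
  · apply hmove_of_orbits x0 _ _ hs hs1 0
    rw [horb]
    exact m1

include hx0 in
theorem stab_card (hD : Data v x0) : Nat.card ↥(stabilizer ↥Co0 v) = 495766656000 := by
  rw [card_eq_of_action (G := ↥(stabilizer ↥Co0 v)) x0, orbit3_eq hx0 hD, hD.card,
    Nat.card_congr (stabEquiv v x0).toEquiv, hD.cardH]

end main

end Cfsg.Agent.Lib.Helper92_Co3
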