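import Cfsg.Agent.Lib.Helper26_Co2Mono

/-!
Relations on the vectors of the rank-24 lattice that are closed under the monomial automorphisms
fixing the minimal vector `v0 = 4 e_4 - 4 e_13` coordinatewise at the two points: two minimal
vectors of the same shape with the same coordinates at the two points lie in one class.  The
proofs are those of `Helper26_Co2Mono` (helper26), restated for an arbitrary such relation, so
that they apply to the stabiliser of `v0` in any group of automorphisms containing the monomial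
ones.
-/

set_option autoImplicit false
set_option linter.constructorNameAsVariable false
open Cfsg
open scoped Pointwise

namespace Cfsg.Agent.Lib.Helper92_MaxRel2

open Cfsg.Agent.Lib.Helper26_Golay Cfsg.Agent.Lib.Helper26_Leech Cfsg.Agent.Lib.Helper92_Monomial
  Cfsg.Agent.Lib.Helper7_M24 Cfsg.Agent.Lib.Helper26_Co2
open Cfsg.Agent.S0394 (sgn fO famA famB famO)
open Cfsg.Agent.S0400 (permVec_sgn signFlip_sgn sgn_congr mem_smul_iff)

/-- A relation on raw vectors that is an equivalence on lattice vectors and is closed under the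
monomial moves fixing the two points `pa`, `pb` and not changing the signs there. -/
structure StabRel (Rel : (GolayPt → ℤ) → (GolayPt → ℤ) → Prop) : Prop where
  refl : ∀ {x : GolayPt → ℤ}, x ∈ leechLattice → Rel x x
  symm : ∀ {x y : GolayPt → ℤ}, Rel x y → Rel y x
  trans : ∀ {x y z : GolayPt → ℤ}, Rel x y → Rel y z → Rel x z
  mem_right : ∀ {x y : GolayPt → ℤ}, Rel x y → y ∈ leechLattice
  perm : ∀ {x : GolayPt → ℤ}, x ∈ leechLattice → ∀ σ : Equiv.Perm GolayPt, σ ∈ M24 →
    σ pa = pa → σ pb = pb → Rel x (permVec σ x)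
  flip : ∀ {x : GolayPt → ℤ}, x ∈ leechLattice → ∀ u : GolayPt → ZMod 2, u ∈ golayCode →
    u pa = 0 → u pb = 0 → Rel x (signFlip (support₂ u) x)

variable {Rel : (GolayPt → ℤ) → (GolayPt → ℤ) → Prop}

theorem baseB_aux (hR : StabRel Rel) (t : Fin 4) : ∀ n : ℕ, ∀ N N' : Finset GolayPt, (symmDiff N N').card = n →
    N ⊆ BO t.val → N' ⊆ BO t.val → Even N.card → Even N'.card → (pa ∈ N ↔ pa ∈ N') →
    (pb ∈ N ↔ pb ∈ N') → Rel (sgn 2 (BO t.val) N) (sgn 2 (BO t.val) N') := by
  intro n
  induction n using Nat.strong_induction_on with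
  | _ n ih =>
    intro N N' hn hN hN' hE hE' ha hb
    have hmem : sgn 2 (BO t.val) N ∈ leechLattice :=
      (Cfsg.Agent.Lib.Helper7_Leech.mem_leechLattice_iff _).mpr
        (Cfsg.Agent.S0394.sgn_two_mem _ N (BO_mem t) hN hE)
    by_cases h0 : symmDiff N N' = ∅
    · have hNN : N = N' := symmDiff_eq_bot.mp h0
      subst hNN
      exact hR.refl hmem
    · have hDE : Even (symmDiff N N').card := even_card_symmDiff hE hE'
      have hpos : 0 < (symmDiff N N').card :=
        Finset.card_pos.mpr (Finset.nonempty_iff_ne_empty.mpr h0)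
      have h1 : 1 < (symmDiff N N').card := by
        obtain ⟨k, hk⟩ := hDE
        omega
      obtain ⟨x, hx, y, hy, hxy⟩ := Finset.one_lt_card.mp h1
      have hsub : symmDiff N N' ⊆ BO t.val := by
        intro z hz
        rw [Finset.mem_symmDiff] at hz
        rcases hz with ⟨h, _⟩ | ⟨h, _⟩
        · exact hN h
        · exact hN' h
      have hxa : x ≠ pa := fun h => notMem_symmDiff_of_iff ha (h ▸ hx)
      have hxb : x ≠ pb := fun h => notMem_symmDiff_of_iff hb (h ▸ hx)
      have hya : y ≠ pa := fun h => notMem_symmDiff_of_iff ha (h ▸ hy)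
      have hyb : y ≠ pb := fun h => notMem_symmDiff_of_iff hb (h ▸ hy)
      obtain ⟨m, hm, hp⟩ := pair_exists t x y hxy ((mem_BO _ x).mp (hsub hx))
        ((mem_BO _ y).mp (hsub hy)) (idx_ne_of_ne_pa hxa) (idx_ne_of_ne_pb hxb)
        (idx_ne_of_ne_pa hya) (idx_ne_of_ne_pb hyb)
      obtain ⟨hu, hua, hub⟩ := flip_word (List.mem_append_left _ hm)
      have hstep : Rel (sgn 2 (BO t.val) N) (sgn 2 (BO t.val) (symmDiff N {x, y})) := by
        have := hR.flip hmem (wordOf m) hu hua hub
        rw [signFlip_sgn] at this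
        have e : sgn 2 (BO t.val) (symmDiff N (support₂ (wordOf m))) =
            sgn 2 (BO t.val) (symmDiff N {x, y}) := by
          apply sgn_congr
          intro j hj
          have hj' := hp j ((mem_BO _ j).mp hj)
          rw [Finset.mem_symmDiff, Finset.mem_symmDiff, support₂_wordOf, mem_dec, hj',
            Finset.mem_insert, Finset.mem_singleton]
        rwa [e] at this
      have hxyB : ({x, y} : Finset GolayPt) ⊆ BO t.val := by
        intro z hz
        rw [Finset.mem_insert, Finset.mem_singleton] at hz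
        rcases hz with rfl | rfl
        · exact hsub hx
        · exact hsub hy
      have hxyD : ({x, y} : Finset GolayPt) ⊆ symmDiff N N' := by
        intro z hz
        rw [Finset.mem_insert, Finset.mem_singleton] at hz
        rcases hz with rfl | rfl
        · exact hx
        · exact hy
      have hN2 : symmDiff N {x, y} ⊆ BO t.val := by
        intro z hz
        rw [Finset.mem_symmDiff] at hz
        rcases hz with ⟨h, _⟩ | ⟨h, _⟩
        · exact hN h
        · exact hxyB h
      have hE2 : Even (symmDiff N {x, y}).card :=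
        even_card_symmDiff hE (by rw [Finset.card_pair hxy]; exact ⟨1, rfl⟩)
      have hmem_xy : ∀ p : GolayPt, p ≠ x → p ≠ y → (p ∈ symmDiff N {x, y} ↔ p ∈ N) := by
        intro p hpx hpy
        rw [Finset.mem_symmDiff, Finset.mem_insert, Finset.mem_singleton]
        tauto
      have ha2 : pa ∈ symmDiff N {x, y} ↔ pa ∈ N' := by
        rw [hmem_xy pa (Ne.symm hxa) (Ne.symm hya)]; exact ha
      have hb2 : pb ∈ symmDiff N {x, y} ↔ pb ∈ N' := by
        rw [hmem_xy pb (Ne.symm hxb) (Ne.symm hyb)]; exact hb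
      have hcard : (symmDiff (symmDiff N {x, y}) N').card = n - 2 := by
        rw [symmDiff_right_comm, symmDiff_of_ge (show ({x, y} : Finset GolayPt) ≤ symmDiff N N'
          from hxyD), Finset.card_sdiff_of_subset hxyD, Finset.card_pair hxy, hn]
      exact hR.trans hstep (ih (n - 2) (by omega) _ N' hcard hN2 hN' hE2 hE' ha2 hb2)

theorem baseA_aux (hR : StabRel Rel) (t : Fin 4) : ∀ n : ℕ, ∀ N N' : Finset GolayPt, (symmDiff N N').card = n →
    N ⊆ BD t.val → N' ⊆ BD t.val → (pa ∈ N ↔ pa ∈ N') →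
    (pb ∈ N ↔ pb ∈ N') → Rel (sgn 4 (BD t.val) N) (sgn 4 (BD t.val) N') := by
  intro n
  induction n using Nat.strong_induction_on with
  | _ n ih =>
    intro N N' hn hN hN' ha hb
    have hmem : sgn 4 (BD t.val) N ∈ leechLattice :=
      (Cfsg.Agent.Lib.Helper7_Leech.mem_leechLattice_iff _).mpr
        (Cfsg.Agent.S0394.sgn_four_mem _ N (BD_card t) hN)
    by_cases h0 : symmDiff N N' = ∅
    · have hNN : N = N' := symmDiff_eq_bot.mp h0
      subst hNN
      exact hR.refl hmem
    · obtain ⟨x, hx⟩ := Finset.nonempty_iff_ne_empty.mpr h0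
      have hsub : symmDiff N N' ⊆ BD t.val := by
        intro z hz
        rw [Finset.mem_symmDiff] at hz
        rcases hz with ⟨h, _⟩ | ⟨h, _⟩
        · exact hN h
        · exact hN' h
      have hxa : x ≠ pa := fun h => notMem_symmDiff_of_iff ha (h ▸ hx)
      have hxb : x ≠ pb := fun h => notMem_symmDiff_of_iff hb (h ▸ hx)
      obtain ⟨m, hm, hp⟩ := single_exists t x ((mem_BD _ x).mp (hsub hx))
        (idx_ne_of_ne_pa hxa) (idx_ne_of_ne_pb hxb)
      obtain ⟨hu, hua, hub⟩ := flip_word (List.mem_append_right _ hm)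
      have hstep : Rel (sgn 4 (BD t.val) N) (sgn 4 (BD t.val) (symmDiff N {x})) := by
        have := hR.flip hmem (wordOf m) hu hua hub
        rw [signFlip_sgn] at this
        have e : sgn 4 (BD t.val) (symmDiff N (support₂ (wordOf m))) =
            sgn 4 (BD t.val) (symmDiff N {x}) := by
          apply sgn_congr
          intro j hj
          have hj' := hp j ((mem_BD _ j).mp hj)
          rw [Finset.mem_symmDiff, Finset.mem_symmDiff, support₂_wordOf, mem_dec, hj',
            Finset.mem_singleton]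
        rwa [e] at this
      have hxD : ({x} : Finset GolayPt) ⊆ symmDiff N N' := Finset.singleton_subset_iff.mpr hx
      have hN2 : symmDiff N {x} ⊆ BD t.val := by
        intro z hz
        rw [Finset.mem_symmDiff] at hz
        rcases hz with ⟨h, _⟩ | ⟨h, _⟩
        · exact hN h
        · rw [Finset.mem_singleton] at h
          rw [h]; exact hsub hx
      have hmem_x : ∀ p : GolayPt, p ≠ x → (p ∈ symmDiff N {x} ↔ p ∈ N) := by
        intro p hpx
        rw [Finset.mem_symmDiff, Finset.mem_singleton]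
        tauto
      have ha2 : pa ∈ symmDiff N {x} ↔ pa ∈ N' := by
        rw [hmem_x pa (Ne.symm hxa)]; exact ha
      have hb2 : pb ∈ symmDiff N {x} ↔ pb ∈ N' := by
        rw [hmem_x pb (Ne.symm hxb)]; exact hb
      have hpos : 0 < (symmDiff N N').card := Finset.card_pos.mpr ⟨x, hx⟩
      have hcard : (symmDiff (symmDiff N {x}) N').card = n - 1 := by
        rw [symmDiff_right_comm, symmDiff_of_ge (show ({x} : Finset GolayPt) ≤ symmDiff N N'
          from hxD), Finset.card_sdiff_of_subset hxD, Finset.card_singleton, hn]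
      exact hR.trans hstep (ih (n - 1) (by omega) _ N' hcard hN2 hN' ha2 hb2)


/-- Two vectors of shape `(±4, ±4, 0^22)` with the same coordinates at the two points are conjugate
under the stabiliser of `v0`. -/
theorem rel_famA (hR : StabRel Rel) {P N P' N' : Finset GolayPt} (hP : P.card = 2) (hN : N ⊆ P) (hP' : P'.card = 2)
    (hN' : N' ⊆ P') (ha : sgn 4 P N pa = sgn 4 P' N' pa) (hb : sgn 4 P N pb = sgn 4 P' N' pb) :
    Rel (sgn 4 P N) (sgn 4 P' N') := by
  have hmem : sgn 4 P N ∈ leechLattice :=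
    (Cfsg.Agent.Lib.Helper7_Leech.mem_leechLattice_iff _).mpr
      (Cfsg.Agent.S0394.sgn_four_mem P N hP hN)
  have hmem' : sgn 4 P' N' ∈ leechLattice :=
    (Cfsg.Agent.Lib.Helper7_Leech.mem_leechLattice_iff _).mpr
      (Cfsg.Agent.S0394.sgn_four_mem P' N' hP' hN')
  have hinv : inv2 (enc P) = inv2 (enc P') :=
    inv2_eq_of_iff (mem_iff_of_sgn_eq' (by norm_num) ha) (mem_iff_of_sgn_eq' (by norm_num) hb)
  obtain ⟨g, hg, e⟩ := exists_smul_baseD hP
  obtain ⟨g', hg', e'⟩ := exists_smul_baseD hP'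
  rw [← hinv] at e'
  have hgm := (mem_co2H_iff g).mp hg
  have hgm' := (mem_co2H_iff g').mp hg'
  have hginv := (mem_co2H_iff g⁻¹).mp (co2H.inv_mem hg)
  have hginv' := (mem_co2H_iff g'⁻¹).mp (co2H.inv_mem hg')
  obtain ⟨t, ht⟩ : ∃ t : Fin 4, t.val = inv2 (enc P) := ⟨⟨_, inv2_lt _⟩, rfl⟩
  rw [← ht] at e e'
  change g • BD t.val = P at e
  change g' • BD t.val = P' at e'
  have e2 : g⁻¹ • P = BD t.val := by rw [← e, inv_smul_smul]
  have e2' : g'⁻¹ • P' = BD t.val := by rw [← e', inv_smul_smul]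
  have h1 : Rel (sgn 4 P N) (sgn 4 (BD t.val) (g⁻¹ • N)) := by
    have := hR.perm hmem g⁻¹ hginv.1 hginv.2.1 hginv.2.2
    rw [permVec_sgn] at this
    rwa [e2] at this
  have h1' : Rel (sgn 4 P' N') (sgn 4 (BD t.val) (g'⁻¹ • N')) := by
    have := hR.perm hmem' g'⁻¹ hginv'.1 hginv'.2.1 hginv'.2.2
    rw [permVec_sgn] at this
    rwa [e2'] at this
  have hsub : g⁻¹ • N ⊆ BD t.val := by
    rw [← e2]
    exact Finset.smul_finset_subset_smul_finset hN
  have hsub' : g'⁻¹ • N' ⊆ BD t.val := by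
    rw [← e2']
    exact Finset.smul_finset_subset_smul_finset hN'
  have hva : sgn 4 (BD t.val) (g⁻¹ • N) pa = sgn 4 (BD t.val) (g'⁻¹ • N') pa := by
    rw [← e2, ← permVec_sgn, permVec_inv_apply_fixed g _ pa hgm.2.1, e2, ← e2', ← permVec_sgn,
      permVec_inv_apply_fixed g' _ pa hgm'.2.1]
    exact ha
  have hvb : sgn 4 (BD t.val) (g⁻¹ • N) pb = sgn 4 (BD t.val) (g'⁻¹ • N') pb := by
    rw [← e2, ← permVec_sgn, permVec_inv_apply_fixed g _ pb hgm.2.2, e2, ← e2', ← permVec_sgn,
      permVec_inv_apply_fixed g' _ pb hgm'.2.2]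
    exact hb
  have h2 := baseA_aux hR t _ (g⁻¹ • N) (g'⁻¹ • N') rfl hsub hsub'
    (mem_iff_of_sgn_eq (by norm_num) hsub hsub' hva)
    (mem_iff_of_sgn_eq (by norm_num) hsub hsub' hvb)
  exact hR.trans h1 (hR.trans h2 (hR.symm h1'))

/-- Two vectors of shape `(±2^8, 0^16)` with the same coordinates at the two points are conjugate
under the stabiliser of `v0`. -/
theorem rel_famB (hR : StabRel Rel) {P N P' N' : Finset GolayPt} (hP : P ∈ octads) (hN : N ⊆ P) (hE : Even N.card)
    (hP' : P' ∈ octads) (hN' : N' ⊆ P') (hE' : Even N'.card)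
    (ha : sgn 2 P N pa = sgn 2 P' N' pa) (hb : sgn 2 P N pb = sgn 2 P' N' pb) :
    Rel (sgn 2 P N) (sgn 2 P' N') := by
  have hmem : sgn 2 P N ∈ leechLattice :=
    (Cfsg.Agent.Lib.Helper7_Leech.mem_leechLattice_iff _).mpr
      (Cfsg.Agent.S0394.sgn_two_mem P N hP hN hE)
  have hmem' : sgn 2 P' N' ∈ leechLattice :=
    (Cfsg.Agent.Lib.Helper7_Leech.mem_leechLattice_iff _).mpr
      (Cfsg.Agent.S0394.sgn_two_mem P' N' hP' hN' hE')
  have hinv : inv2 (enc P) = inv2 (enc P') :=
    inv2_eq_of_iff (mem_iff_of_sgn_eq' (by norm_num) ha) (mem_iff_of_sgn_eq' (by norm_num) hb)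
  obtain ⟨g, hg, e⟩ := exists_smul_baseO hP
  obtain ⟨g', hg', e'⟩ := exists_smul_baseO hP'
  rw [← hinv] at e'
  have hgm := (mem_co2H_iff g).mp hg
  have hgm' := (mem_co2H_iff g').mp hg'
  have hginv := (mem_co2H_iff g⁻¹).mp (co2H.inv_mem hg)
  have hginv' := (mem_co2H_iff g'⁻¹).mp (co2H.inv_mem hg')
  obtain ⟨t, ht⟩ : ∃ t : Fin 4, t.val = inv2 (enc P) := ⟨⟨_, inv2_lt _⟩, rfl⟩
  rw [← ht] at e e'
  change g • BO t.val = P at e
  change g' • BO t.val = P' at e'
  have e2 : g⁻¹ • P = BO t.val := by rw [← e, inv_smul_smul]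
  have e2' : g'⁻¹ • P' = BO t.val := by rw [← e', inv_smul_smul]
  have h1 : Rel (sgn 2 P N) (sgn 2 (BO t.val) (g⁻¹ • N)) := by
    have := hR.perm hmem g⁻¹ hginv.1 hginv.2.1 hginv.2.2
    rw [permVec_sgn] at this
    rwa [e2] at this
  have h1' : Rel (sgn 2 P' N') (sgn 2 (BO t.val) (g'⁻¹ • N')) := by
    have := hR.perm hmem' g'⁻¹ hginv'.1 hginv'.2.1 hginv'.2.2
    rw [permVec_sgn] at this
    rwa [e2'] at this
  have hsub : g⁻¹ • N ⊆ BO t.val := by
    rw [← e2]
    exact Finset.smul_finset_subset_smul_finset hN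
  have hsub' : g'⁻¹ • N' ⊆ BO t.val := by
    rw [← e2']
    exact Finset.smul_finset_subset_smul_finset hN'
  have hva : sgn 2 (BO t.val) (g⁻¹ • N) pa = sgn 2 (BO t.val) (g'⁻¹ • N') pa := by
    rw [← e2, ← permVec_sgn, permVec_inv_apply_fixed g _ pa hgm.2.1, e2, ← e2', ← permVec_sgn,
      permVec_inv_apply_fixed g' _ pa hgm'.2.1]
    exact ha
  have hvb : sgn 2 (BO t.val) (g⁻¹ • N) pb = sgn 2 (BO t.val) (g'⁻¹ • N') pb := by
    rw [← e2, ← permVec_sgn, permVec_inv_apply_fixed g _ pb hgm.2.2, e2, ← e2', ← permVec_sgn,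
      permVec_inv_apply_fixed g' _ pb hgm'.2.2]
    exact hb
  have h2 := baseB_aux hR t _ (g⁻¹ • N) (g'⁻¹ • N') rfl hsub hsub'
    (by rw [Finset.card_smul_finset]; exact hE) (by rw [Finset.card_smul_finset]; exact hE')
    (mem_iff_of_sgn_eq (by norm_num) hsub hsub' hva)
    (mem_iff_of_sgn_eq (by norm_num) hsub hsub' hvb)
  exact hR.trans h1 (hR.trans h2 (hR.symm h1'))


/-! ### The odd vectors -/

/-- Two odd minimal vectors with the same coordinates at the two points are conjugate under the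
stabiliser of `v0`. -/
theorem rel_famO (hR : StabRel Rel) {i i' : GolayPt} {u u' : GolayPt → ZMod 2} (hu : u ∈ golayCode)
    (hu' : u' ∈ golayCode) (ha : fO i u pa = fO i' u' pa) (hb : fO i u pb = fO i' u' pb) :
    Rel (fO i u) (fO i' u') := by
  have hmem : fO i u ∈ leechLattice := Cfsg.Agent.S0400.fO_mem_lattice i u hu
  obtain ⟨hia, hua⟩ := fO_val_iff ha
  obtain ⟨hib, hub⟩ := fO_val_iff hb
  -- a permutation in `M22` taking `i` to `i'`
  have hσ : ∃ σ ∈ co2H, σ i = i' := by
    by_cases h1 : i = pa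
    · exact ⟨1, co2H.one_mem, by rw [Equiv.Perm.one_apply, h1]; exact hia.mp h1.symm⟩
    · by_cases h2 : i = pb
      · exact ⟨1, co2H.one_mem, by rw [Equiv.Perm.one_apply, h2]; exact hib.mp h2.symm⟩
      · have h1' : i' ≠ pa := fun h => h1 (hia.mpr h.symm).symm
        have h2' : i' ≠ pb := fun h => h2 (hib.mpr h.symm).symm
        exact exists_co2H_point h1 h2 h1' h2'
  obtain ⟨σ, hσH, hσi⟩ := hσ
  have hσm := (mem_co2H_iff σ).mp hσH
  have hσinv := (mem_co2H_iff σ⁻¹).mp (co2H.inv_mem hσH)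
  have h1 : Rel (fO i u) (fO i' (permWord σ u)) := by
    have := hR.perm hmem σ hσm.1 hσm.2.1 hσm.2.2
    rwa [permVec_fO, hσi] at this
  have hw : permWord σ u ∈ golayCode := permWord_mem_of_mem_M24 hσm.1 hu
  have hwa : permWord σ u pa = u pa := by
    rw [permWord_apply]
    have : σ.symm pa = pa := hσinv.2.1
    rw [this]
  have hwb : permWord σ u pb = u pb := by
    rw [permWord_apply]
    have : σ.symm pb = pb := hσinv.2.2
    rw [this]
  have h2 : Rel (fO i' (permWord σ u)) (fO i' u') := by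
    have hc : permWord σ u + u' ∈ golayCode := golayCode.add_mem hw hu'
    have := hR.flip (hR.mem_right h1) (permWord σ u + u') hc
      (by rw [Pi.add_apply, hwa, hua, zmod2_add_self])
      (by rw [Pi.add_apply, hwb, hub, zmod2_add_self])
    rw [signFlip_fO_add] at this
    have e : permWord σ u + (permWord σ u + u') = u' := by
      funext j
      rw [Pi.add_apply, Pi.add_apply, ← add_assoc, zmod2_add_self, zero_add]
    rwa [e] at this
  exact hR.trans h1 h2


end Cfsg.Agent.Lib.Helper92_MaxRel2
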