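import Cfsg.Agent.Lib.Helper92_MaxRel
import Cfsg.Agent.Lib.Helper92_MaxRel2
import Cfsg.Agent.Lib.Helper92_OrthPairs
import Cfsg.Agent.S5593

/-!
Orbit relations of a group `K` of automorphisms of the rank-24 lattice that contains the
stabiliser of the standard cross (the monomial group), and a counting lemma for sets that are
unions of classes.
-/

set_option autoImplicit false
open Cfsg
open scoped Pointwise

namespace Cfsg.Agent.Lib.Helper92_MaxN

open Cfsg.Agent.Lib.Helper7_M24 Cfsg.Agent.Lib.Helper7_Leech Cfsg.Agent.Lib.Helper92_Monomial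
  Cfsg.Agent.Lib.Helper92_LeechMod2 Cfsg.Agent.Lib.Helper92_Co0Order
  Cfsg.Agent.Lib.Helper92_OrthPairs
open Cfsg.Agent.Lib.Helper26_Leech (pa pb v0 v0_mem v0_norm census)
open Cfsg.Agent.Lib.Helper26_Co2 (v0L permVec_v0 signFlip_v0)
open Cfsg.Agent.Lib.Helper92_MaxRel (MonoRel)
open Cfsg.Agent.Lib.Helper92_MaxRel2 (StabRel)
open Cfsg.Agent.S5546 (Lam vec8 e8)

/-! ### monomial automorphisms -/

/-- A monomial automorphism, as an element of the automorphism group. -/
def mono (σ : Equiv.Perm GolayPt) (hσ : σ ∈ M24) (u : GolayPt → ZMod 2) (hu : u ∈ golayCode) :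
    ↥Co0 := ⟨monoPerm σ hσ u hu, monoPerm_mem_Co0 σ hσ u hu⟩

theorem mono_apply (σ : Equiv.Perm GolayPt) (hσ : σ ∈ M24) (u : GolayPt → ZMod 2)
    (hu : u ∈ golayCode) (v : Lam) :
    ((mono σ hσ u hu • v : Lam) : GolayPt → ℤ) = signFlip (support₂ u) (permVec σ v.1) := rfl

/-- Monomial automorphisms preserve the standard cross. -/
theorem mono_P (σ : Equiv.Perm GolayPt) (hσ : σ ∈ M24) (u : GolayPt → ZMod 2)
    (hu : u ∈ golayCode) : Cfsg.Agent.S1571.P (mono σ hσ u hu) := by
  rintro v ⟨i, s, hs, hv⟩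
  show signedPerm σ (support₂ u) v.1 ∈ stdCross
  rw [hv, signedPerm_single]
  refine ⟨σ i, _, ?_, rfl⟩
  by_cases h : σ i ∈ support₂ u
  · rw [if_pos h]
    rcases hs with rfl | rfl
    · right; rfl
    · left; rfl
  · rw [if_neg h]; exact hs

/-! ### the orbit relations of a group containing the monomial group -/

section rel

variable (K : Subgroup ↥Co0)

/-- The orbit relation of `K`, on raw vectors. -/
def RK (x y : GolayPt → ℤ) : Prop :=
  ∃ g : ↥Co0, g ∈ K ∧ ∃ hx : x ∈ leechLattice, ((g • (⟨x, hx⟩ : Lam) : Lam) : GolayPt → ℤ) = y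

/-- The orbit relation of the stabiliser of `v0` in `K`, on raw vectors. -/
def RsK (x y : GolayPt → ℤ) : Prop :=
  ∃ g : ↥Co0, g ∈ K ∧ g • v0L = v0L ∧ ∃ hx : x ∈ leechLattice,
    ((g • (⟨x, hx⟩ : Lam) : Lam) : GolayPt → ℤ) = y

variable {K}

theorem RK.refl {x : GolayPt → ℤ} (hx : x ∈ leechLattice) : RK K x x :=
  ⟨1, K.one_mem, hx, by rw [one_smul]⟩

theorem RK.trans {x y z : GolayPt → ℤ} (h1 : RK K x y) (h2 : RK K y z) : RK K x z := by
  obtain ⟨g, hg, hx, rfl⟩ := h1
  obtain ⟨h, hh, hy, rfl⟩ := h2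
  exact ⟨h * g, K.mul_mem hh hg, hx, by rw [mul_smul]⟩

theorem RK.symm {x y : GolayPt → ℤ} (h : RK K x y) : RK K y x := by
  obtain ⟨g, hg, hx, rfl⟩ := h
  refine ⟨g⁻¹, K.inv_mem hg, (g • (⟨x, hx⟩ : Lam)).2, ?_⟩
  show ((g⁻¹ • (g • (⟨x, hx⟩ : Lam)) : Lam) : GolayPt → ℤ) = x
  rw [inv_smul_smul]

theorem RK.mem_right {x y : GolayPt → ℤ} (h : RK K x y) : y ∈ leechLattice := by
  obtain ⟨g, _, hx, rfl⟩ := h
  exact (g • (⟨x, hx⟩ : Lam)).2

theorem RK.mem_left {x y : GolayPt → ℤ} (h : RK K x y) : x ∈ leechLattice := by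
  obtain ⟨g, _, hx, _⟩ := h
  exact hx

theorem RK.sqNorm_eq {x y : GolayPt → ℤ} (h : RK K x y) : sqNorm y = sqNorm x := by
  obtain ⟨g, _, hx, rfl⟩ := h
  exact sqNorm_smul g ⟨x, hx⟩

theorem RsK.refl {x : GolayPt → ℤ} (hx : x ∈ leechLattice) : RsK K x x :=
  ⟨1, K.one_mem, one_smul _ _, hx, by rw [one_smul]⟩

theorem RsK.trans {x y z : GolayPt → ℤ} (h1 : RsK K x y) (h2 : RsK K y z) : RsK K x z := by
  obtain ⟨g, hg, hg0, hx, rfl⟩ := h1
  obtain ⟨h, hh, hh0, hy, rfl⟩ := h2
  exact ⟨h * g, K.mul_mem hh hg, by rw [mul_smul, hg0, hh0], hx, by rw [mul_smul]⟩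

theorem RsK.symm {x y : GolayPt → ℤ} (h : RsK K x y) : RsK K y x := by
  obtain ⟨g, hg, hg0, hx, rfl⟩ := h
  refine ⟨g⁻¹, K.inv_mem hg, ?_, (g • (⟨x, hx⟩ : Lam)).2, ?_⟩
  · rw [inv_smul_eq_iff, hg0]
  · show ((g⁻¹ • (g • (⟨x, hx⟩ : Lam)) : Lam) : GolayPt → ℤ) = x
    rw [inv_smul_smul]

theorem RsK.mem_right {x y : GolayPt → ℤ} (h : RsK K x y) : y ∈ leechLattice := by
  obtain ⟨g, _, _, hx, rfl⟩ := h
  exact (g • (⟨x, hx⟩ : Lam)).2

theorem RsK.mem_left {x y : GolayPt → ℤ} (h : RsK K x y) : x ∈ leechLattice := by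
  obtain ⟨g, _, _, hx, _⟩ := h
  exact hx

theorem RsK.sqNorm_eq {x y : GolayPt → ℤ} (h : RsK K x y) : sqNorm y = sqNorm x := by
  obtain ⟨g, _, _, hx, rfl⟩ := h
  exact sqNorm_smul g ⟨x, hx⟩

theorem RsK.dot_eq {x y : GolayPt → ℤ} (h : RsK K x y) : dotInt v0 y = dotInt v0 x := by
  obtain ⟨g, _, hg0, hx, rfl⟩ := h
  have := Cfsg.Agent.S5593.dot_smul g v0L ⟨x, hx⟩
  rw [hg0] at this
  exact this

theorem RsK.toRK {x y : GolayPt → ℤ} (h : RsK K x y) : RK K x y := by
  obtain ⟨g, hg, _, hx, e⟩ := h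
  exact ⟨g, hg, hx, e⟩

/-- The hypothesis that `K` contains the stabiliser of the standard cross. -/
def Contains (K : Subgroup ↥Co0) : Prop := ∀ g : ↥Co0, Cfsg.Agent.S1571.P g → g ∈ K

theorem monoRel (hK : Contains K) : MonoRel (RK K) where
  refl := RK.refl
  symm := RK.symm
  trans := RK.trans
  mem_right := RK.mem_right
  perm := by
    intro x hx σ hσ
    refine ⟨mono σ hσ 0 golayCode.zero_mem, hK _ (mono_P _ _ _ _), hx, ?_⟩
    rw [mono_apply, Cfsg.Agent.S0400.support₂_zero', Cfsg.Agent.S0400.signFlip_empty]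
  flip := by
    intro x hx u hu
    refine ⟨mono 1 M24.one_mem u hu, hK _ (mono_P _ _ _ _), hx, ?_⟩
    rw [mono_apply, Cfsg.Agent.S0400.permVec_one]

theorem stabRel (hK : Contains K) : StabRel (RsK K) where
  refl := RsK.refl
  symm := RsK.symm
  trans := RsK.trans
  mem_right := RsK.mem_right
  perm := by
    intro x hx σ hσ ha hb
    refine ⟨mono σ hσ 0 golayCode.zero_mem, hK _ (mono_P _ _ _ _), ?_, hx, ?_⟩
    · apply Subtype.ext
      rw [mono_apply, Cfsg.Agent.S0400.support₂_zero', Cfsg.Agent.S0400.signFlip_empty]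
      exact permVec_v0 σ ha hb
    · rw [mono_apply, Cfsg.Agent.S0400.support₂_zero', Cfsg.Agent.S0400.signFlip_empty]
  flip := by
    intro x hx u hu hua hub
    refine ⟨mono 1 M24.one_mem u hu, hK _ (mono_P _ _ _ _), ?_, hx, ?_⟩
    · apply Subtype.ext
      rw [mono_apply, Cfsg.Agent.S0400.permVec_one]
      apply signFlip_v0
      · rw [mem_support₂, hua]; decide
      · rw [mem_support₂, hub]; decide
    · rw [mono_apply, Cfsg.Agent.S0400.permVec_one]

end rel

/-! ### counting a union of classes -/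

/-- A set covered by finitely many pairwise disjoint finite classes, each of which it contains or
misses, has the sum of the sizes of the classes it contains as its size. -/
theorem ncard_of_classes {X ι : Type*} [Fintype ι] [DecidableEq ι] (O : Set X) (Cl : ι → Set X)
    (hfin : ∀ i, (Cl i).Finite)
    (hdisj : ∀ i j, i ≠ j → Disjoint (Cl i) (Cl j))
    (hcov : O ⊆ ⋃ i, Cl i) (hdich : ∀ i, Cl i ⊆ O ∨ Disjoint (Cl i) O) :
    ∃ e : ι → Bool, (∀ i, e i = true → Cl i ⊆ O) ∧ (∀ i, e i = false → Disjoint (Cl i) O) ∧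
      O.ncard = ∑ i, if e i = true then (Cl i).ncard else 0 := by
  classical
  refine ⟨fun i => decide (Cl i ⊆ O ∧ (Cl i).Nonempty), ?_, ?_, ?_⟩
  · intro i hi
    exact (of_decide_eq_true hi).1
  · intro i hi
    have h := of_decide_eq_false hi
    rcases hdich i with h1 | h1
    · have : ¬ (Cl i).Nonempty := fun hne => h ⟨h1, hne⟩
      rw [Set.not_nonempty_iff_eq_empty] at this
      rw [this]; exact Set.empty_disjoint O
    · exact h1
  · set I : Finset ι := Finset.univ.filter (fun i => Cl i ⊆ O ∧ (Cl i).Nonempty) with hI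
    have hO : O = ⋃ i ∈ I, Cl i := by
      ext x
      constructor
      · intro hx
        obtain ⟨i, hi⟩ := Set.mem_iUnion.mp (hcov hx)
        have hsub : Cl i ⊆ O := by
          rcases hdich i with h1 | h1
          · exact h1
          · exact absurd hx (Set.disjoint_left.mp h1 hi)
        exact Set.mem_biUnion (by rw [hI, Finset.mem_coe, Finset.mem_filter]
                                  exact ⟨Finset.mem_univ i, hsub, ⟨x, hi⟩⟩) hi
      · intro hx
        obtain ⟨i, hi, hxi⟩ := Set.mem_iUnion₂.mp hx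
        rw [hI, Finset.mem_filter] at hi
        exact hi.2.1 hxi
    have hcard : O.ncard = ∑ i ∈ I, (Cl i).ncard := by
      rw [hO]
      have : (⋃ i ∈ I, Cl i) = ((I.biUnion fun i => (hfin i).toFinset : Finset X) : Set X) := by
        ext x
        simp only [Set.mem_iUnion, Finset.coe_biUnion, Set.Finite.coe_toFinset, Finset.mem_coe]
      rw [this, Set.ncard_coe_finset, Finset.card_biUnion]
      · apply Finset.sum_congr rfl
        intro i _
        exact (Set.ncard_eq_toFinset_card (Cl i) (hfin i)).symm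
      · intro i _ j _ hij
        show Disjoint (hfin i).toFinset (hfin j).toFinset
        rw [Finset.disjoint_left]
        intro x hxi hxj
        rw [Set.Finite.mem_toFinset] at hxi hxj
        exact Set.disjoint_left.mp (hdisj i j hij) hxi hxj
    rw [hcard, hI, Finset.sum_filter]
    apply Finset.sum_congr rfl
    intro i _
    by_cases h : Cl i ⊆ O ∧ (Cl i).Nonempty
    · have hd : decide (Cl i ⊆ O ∧ (Cl i).Nonempty) = true := decide_eq_true h
      rw [if_pos h]
      show _ = if decide (Cl i ⊆ O ∧ (Cl i).Nonempty) = true then _ else _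
      rw [if_pos hd]
    · have hd : ¬ decide (Cl i ⊆ O ∧ (Cl i).Nonempty) = true := by
        rw [decide_eq_false h]; decide
      rw [if_neg h]
      show _ = if decide (Cl i ⊆ O ∧ (Cl i).Nonempty) = true then _ else _
      rw [if_neg hd]

end Cfsg.Agent.Lib.Helper92_MaxN
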