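import Cfsg.Agent.Lib.Helper92_RankSimple
import Cfsg.Agent.Lib.Helper92_Co0Order
import Cfsg.Agent.Lib.Helper92_MaxN1
import Cfsg.Agent.S1583
import Cfsg.Agent.S1584
import Cfsg.Agent.S5593
import Cfsg.Agent.S0397

/-!
For two vectors `v`, `w` of norm `48` with inner product `-32` of the rank-24 lattice and one of
the `100` minimal vectors `x` with inner products `24` and `-24` with them: the stabiliser of `x`
in the common stabiliser of `v` and `w` is a maximal subgroup (the action on the `100` points is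
primitive, the stabiliser of a point having orbits of `1`, `22` and `77` points).
-/

set_option autoImplicit false
set_option linter.constructorNameAsVariable false
open Cfsg
open scoped Pointwise

namespace Cfsg.Agent.Lib.Helper92_HSGen

open Cfsg.Agent.Lib.Helper92_Co0Order Cfsg.Agent.Lib.Helper92_RankSimple Cfsg.Agent.Lib.Helper92_MaxN
open Cfsg.Agent.S5546 (Lam)
open MulAction

instance finiteCo0g : Finite ↥Co0 :=
  Nat.finite_of_card_ne_zero (by rw [Cfsg.Agent.S0397.result]; norm_num)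

section main

variable (v w x : Lam)

/-- The `100` points. -/
def XG : Set Lam := {y : ↥leechLattice | sqNorm (y : GolayPt → ℤ) = 32 ∧
  dotInt (v : GolayPt → ℤ) (y : GolayPt → ℤ) = 24 ∧
  dotInt (w : GolayPt → ℤ) (y : GolayPt → ℤ) = -24}

/-- The common stabiliser. -/
abbrev GG : Subgroup ↥Co0 := stabilizer ↥Co0 v ⊓ stabilizer ↥Co0 w

variable (hv : sqNorm (v : GolayPt → ℤ) = 48) (hw : sqNorm (w : GolayPt → ℤ) = 48)
  (hvw : dotInt (v : GolayPt → ℤ) (w : GolayPt → ℤ) = -32) (hx : x ∈ XG v w)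

include hv hw hvw in
theorem XG_std : (XG v w).ncard = 100 ∧ ∀ y ∈ XG v w, ∀ y' ∈ XG v w,
    ∃ g : ↥Co0, g • v = v ∧ g • w = w ∧ g • y = y' :=
  Cfsg.Agent.S1583.result v w hv hw hvw

include hv hw hvw hx in
theorem orbit_eq : orbit ↥(GG v w) x = XG v w := by
  ext y
  constructor
  · rintro ⟨g, rfl⟩
    have h1 : (g : ↥Co0) • v = v := g.2.1
    have h2 : (g : ↥Co0) • w = w := g.2.2
    refine ⟨?_, ?_, ?_⟩
    · show sqNorm (((g : ↥Co0) • x : Lam) : GolayPt → ℤ) = 32
      rw [sqNorm_smul]; exact hx.1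
    · show dotInt (v : GolayPt → ℤ) (((g : ↥Co0) • x : Lam) : GolayPt → ℤ) = 24
      have := Cfsg.Agent.S5593.dot_smul (g : ↥Co0) v x
      rw [h1] at this
      rw [this]; exact hx.2.1
    · show dotInt (w : GolayPt → ℤ) (((g : ↥Co0) • x : Lam) : GolayPt → ℤ) = -24
      have := Cfsg.Agent.S5593.dot_smul (g : ↥Co0) w x
      rw [h2] at this
      rw [this]; exact hx.2.2
  · intro hy
    obtain ⟨g, h1, h2, h3⟩ := (XG_std v w hv hw hvw).2 x hx y hy
    exact ⟨⟨g, h1, h2⟩, h3⟩

include hv hw hvw hx in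
theorem orbit_ncard : (orbit ↥(GG v w) x).ncard = 100 := by
  rw [orbit_eq v w x hv hw hvw hx]; exact (XG_std v w hv hw hvw).1

theorem arith100 : ∀ b1 b2 : Bool,
    (1 + (if b1 = true then 22 else 0) + (if b2 = true then 77 else 0)) ∣ 100 →
    (b1 = true ∧ b2 = true) ∨ (b1 = false ∧ b2 = false) := by
  decide

/-- The statement on the rank-3 action. -/
def Rank3 : Prop :=
  {y : ↥leechLattice | y ∈ XG v w ∧ dotInt (x : GolayPt → ℤ) (y : GolayPt → ℤ) = 8}.ncard = 22 ∧
  {y : ↥leechLattice | y ∈ XG v w ∧ y ≠ x ∧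
    dotInt (x : GolayPt → ℤ) (y : GolayPt → ℤ) ≠ 8}.ncard = 77 ∧
  ∀ y ∈ XG v w, ∀ y' ∈ XG v w, y ≠ x → y' ≠ x →
    (dotInt (x : GolayPt → ℤ) (y : GolayPt → ℤ) = 8 ↔
      dotInt (x : GolayPt → ℤ) (y' : GolayPt → ℤ) = 8) →
    ∃ g : ↥Co0, g • v = v ∧ g • w = w ∧ g • x = x ∧ g • y = y'

include hv hw hvw hx in
theorem rank3 : Rank3 v w x := Cfsg.Agent.S1584.result v w x hv hw hvw hx

/-- The classes of the points under the stabiliser of `x`. -/
def Cl3 : Fin 3 → Set Lam
  | 0 => {x}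
  | 1 => {y : ↥leechLattice | y ∈ XG v w ∧ dotInt (x : GolayPt → ℤ) (y : GolayPt → ℤ) = 8}
  | 2 => {y : ↥leechLattice | y ∈ XG v w ∧ y ≠ x ∧
      dotInt (x : GolayPt → ℤ) (y : GolayPt → ℤ) ≠ 8}

include hx in
theorem dot_x_x : dotInt (x : GolayPt → ℤ) (x : GolayPt → ℤ) = 32 := by
  rw [Cfsg.Agent.Lib.Helper26_HSPair.dot_self]
  exact hx.1

include hx in
theorem Cl3_sub (i : Fin 3) : Cl3 v w x i ⊆ XG v w := by
  fin_cases i
  · intro y hy
    rw [show y = x from hy]; exact hx
  · intro y hy; exact hy.1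
  · intro y hy; exact hy.1

theorem Cl3_cover : XG v w ⊆ ⋃ i, Cl3 v w x i := by
  intro y hy
  rw [Set.mem_iUnion]
  by_cases h1 : y = x
  · exact ⟨0, h1⟩
  · by_cases h2 : dotInt (x : GolayPt → ℤ) (y : GolayPt → ℤ) = 8
    · exact ⟨1, hy, h2⟩
    · exact ⟨2, hy, h1, h2⟩

include hx in
theorem Cl3_disj : ∀ i j : Fin 3, i ≠ j → Disjoint (Cl3 v w x i) (Cl3 v w x j) := by
  have h01 : Disjoint (Cl3 v w x 0) (Cl3 v w x 1) := by
    rw [Set.disjoint_left]
    intro y hy hy'
    rw [show y = x from hy] at hy'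
    have := hy'.2
    rw [dot_x_x v w x hx] at this
    exact absurd this (by decide)
  have h02 : Disjoint (Cl3 v w x 0) (Cl3 v w x 2) := by
    rw [Set.disjoint_left]
    intro y hy hy'
    exact hy'.2.1 hy
  have h12 : Disjoint (Cl3 v w x 1) (Cl3 v w x 2) := by
    rw [Set.disjoint_left]
    intro y hy hy'
    exact hy'.2.2 hy.2
  intro i j hij
  fin_cases i <;> fin_cases j
  · exact absurd rfl hij
  · exact h01
  · exact h02
  · exact h01.symm
  · exact absurd rfl hij
  · exact h12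
  · exact h02.symm
  · exact h12.symm
  · exact absurd rfl hij

theorem Cl3_finite (hR : Rank3 v w x) (i : Fin 3) : (Cl3 v w x i).Finite := by
  fin_cases i
  · exact Set.finite_singleton _
  · exact Set.finite_of_ncard_pos (by
      show 0 < (Cl3 v w x 1).ncard
      rw [show (Cl3 v w x 1).ncard = 22 from hR.1]; norm_num)
  · exact Set.finite_of_ncard_pos (by
      show 0 < (Cl3 v w x 2).ncard
      rw [show (Cl3 v w x 2).ncard = 77 from hR.2.1]; norm_num)

include hx in
/-- Two points of the same class are exchanged by the stabiliser of `x`. -/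
theorem Cl3_homog (hR : Rank3 v w x) (i : Fin 3) :
    ∀ y ∈ Cl3 v w x i, ∀ y' ∈ Cl3 v w x i, ∃ h ∈ stabilizer ↥(GG v w) x, h • y = y' := by
  have key : ∀ y ∈ XG v w, ∀ y' ∈ XG v w, y ≠ x → y' ≠ x →
      (dotInt (x : GolayPt → ℤ) (y : GolayPt → ℤ) = 8 ↔
        dotInt (x : GolayPt → ℤ) (y' : GolayPt → ℤ) = 8) →
      ∃ h ∈ stabilizer ↥(GG v w) x, h • y = y' := by
    intro y hy y' hy' h1 h2 h3
    obtain ⟨g, g1, g2, g3, g4⟩ := hR.2.2 y hy y' hy' h1 h2 h3
    exact ⟨⟨g, g1, g2⟩, g3, g4⟩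
  fin_cases i
  · intro y hy y' hy'
    refine ⟨1, Subgroup.one_mem _, ?_⟩
    rw [one_smul, show y = x from hy, show y' = x from hy']
  · intro y hy y' hy'
    have n1 : y ≠ x := by
      intro h
      have := hy.2
      rw [h, dot_x_x v w x hx] at this
      exact absurd this (by decide)
    have n2 : y' ≠ x := by
      intro h
      have := hy'.2
      rw [h, dot_x_x v w x hx] at this
      exact absurd this (by decide)
    exact key y hy.1 y' hy'.1 n1 n2 ⟨fun _ => hy'.2, fun _ => hy.2⟩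
  · intro y hy y' hy'
    exact key y hy.1 y' hy'.1 hy.2.1 hy'.2.1
      ⟨fun h => absurd h hy.2.2, fun h => absurd h hy'.2.2⟩

include hv hw hvw hx in
theorem hprim : ∀ O : Set Lam, x ∈ O → O ⊆ orbit ↥(GG v w) x →
    (∀ h ∈ stabilizer ↥(GG v w) x, ∀ y ∈ O, h • y ∈ O) →
    O.ncard ∣ (orbit ↥(GG v w) x).ncard →
    O = {x} ∨ O = orbit ↥(GG v w) x := by
  have hR := rank3 v w x hv hw hvw hx
  intro O h0 hsub hinv hdvd
  rw [orbit_eq v w x hv hw hvw hx] at hsub ⊢
  rw [orbit_ncard v w x hv hw hvw hx] at hdvd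
  have hdich : ∀ i, Cl3 v w x i ⊆ O ∨ Disjoint (Cl3 v w x i) O := by
    intro i
    by_cases h : ∃ y ∈ Cl3 v w x i, y ∈ O
    · left
      obtain ⟨y, hy, hyO⟩ := h
      intro y' hy'
      obtain ⟨k, hk, hk'⟩ := Cl3_homog v w x hx hR i y hy y' hy'
      rw [← hk']
      exact hinv k hk y hyO
    · right
      rw [Set.disjoint_left]
      intro y hy hyO
      exact h ⟨y, hy, hyO⟩
  obtain ⟨e, he1, he0, hsum⟩ := ncard_of_classes O (Cl3 v w x) (Cl3_finite v w x hR)
    (Cl3_disj v w x hx) (hsub.trans (Cl3_cover v w x)) hdich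
  have e0 : e 0 = true := by
    cases hh : e 0
    · exact absurd h0 (Set.disjoint_left.mp (he0 0 hh) rfl)
    · rfl
  have hsum' : O.ncard = 1 + (if e 1 = true then 22 else 0) + (if e 2 = true then 77 else 0) := by
    rw [hsum, Fin.sum_univ_three, if_pos e0]
    show ({x} : Set Lam).ncard + (if e 1 = true then (Cl3 v w x 1).ncard else 0) +
      (if e 2 = true then (Cl3 v w x 2).ncard else 0) = _
    rw [Set.ncard_singleton, show (Cl3 v w x 1).ncard = 22 from hR.1,
      show (Cl3 v w x 2).ncard = 77 from hR.2.1]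
  rw [hsum'] at hdvd
  rcases arith100 (e 1) (e 2) hdvd with ⟨h1, h2⟩ | ⟨h1, h2⟩
  · right
    apply Set.Subset.antisymm hsub
    intro y hy
    obtain ⟨i, hi⟩ := Set.mem_iUnion.mp (Cl3_cover v w x hy)
    fin_cases i
    · exact he1 0 e0 hi
    · exact he1 1 h1 hi
    · exact he1 2 h2 hi
  · left
    apply Set.Subset.antisymm
    · intro y hy
      obtain ⟨i, hi⟩ := Set.mem_iUnion.mp (Cl3_cover v w x (hsub hy))
      fin_cases i
      · exact hi
      · exact absurd hy (Set.disjoint_left.mp (he0 1 h1) hi)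
      · exact absurd hy (Set.disjoint_left.mp (he0 2 h2) hi)
    · intro y hy
      rw [show y = x from hy]; exact h0

include hv hw hvw hx in
/-- A subgroup containing the common stabiliser of `v`, `w`, `x` and an element fixing `v`, `w`
and moving `x` contains the common stabiliser of `v` and `w`. -/
theorem hs_max (L : Subgroup ↥Co0)
    (h1 : ∀ g : ↥Co0, g • v = v → g • w = w → g • x = x → g ∈ L)
    (s : ↥Co0) (hs : s ∈ L) (hsv : s • v = v) (hsw : s • w = w) (hsx : s • x ≠ x) :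
    ∀ g : ↥Co0, g • v = v → g • w = w → g ∈ L := by
  have hmax := max_of_orbit (G := ↥(GG v w)) x (hprim v w x hv hw hvw hx)
    (L.subgroupOf (GG v w)) (by
      intro g hg
      rw [Subgroup.mem_subgroupOf]
      exact h1 g.1 g.2.1 g.2.2 hg)
  intro g hgv hgw
  rcases hmax with h | h
  · exfalso
    apply hsx
    have hmem : (⟨s, hsv, hsw⟩ : ↥(GG v w)) ∈ L.subgroupOf (GG v w) := by
      rw [Subgroup.mem_subgroupOf]
      exact hs
    rw [h] at hmem
    exact hmem
  · have hmem : (⟨g, hgv, hgw⟩ : ↥(GG v w)) ∈ L.subgroupOf (GG v w) := by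
      rw [h]; exact Subgroup.mem_top _
    rw [Subgroup.mem_subgroupOf] at hmem
    exact hmem

end main

end Cfsg.Agent.Lib.Helper92_HSGen
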