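import Cfsg.Agent.Lib.Helper92_Co3Cent
import Cfsg.Agent.Lib.Helper92_HSGen
import Cfsg.Agent.Lib.Helper92_Co3Main
import Cfsg.Agent.S1640
import Cfsg.Agent.S1641
import Cfsg.Agent.S0405

/-!
The stabiliser of `(-5, -1^23)` in the automorphism group of the rank-24 lattice is generated by
the coordinate permutations `a : x ↦ x + 1`, `d : x ↦ 2 x`, the cube twist `c` and the involution
`z` of `Helper92_ZElt`.

The three permutations generate the group of the coordinate permutations fixing `∞`; it contains the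
common stabiliser of `(-5, -1^23)`, `(4, -4, 0^22)` and `(4, 4, 0^22)`, which is maximal in the
common stabiliser of the first two vectors (`Helper92_HSGen`); an explicit word in the generators
fixes the first two vectors and moves the third.  The common stabiliser of the first two vectors is
in turn maximal in the stabiliser of the first, and `a` moves the second.
-/

set_option autoImplicit false
set_option linter.constructorNameAsVariable false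
open Cfsg
open scoped Pointwise

namespace Cfsg.Agent.Lib.Helper92_Co3Gen

open Cfsg.Agent.Lib.Helper7_M24 Cfsg.Agent.Lib.Helper7_Leech Cfsg.Agent.Lib.Helper92_Monomial
  Cfsg.Agent.Lib.Helper92_Co0Order Cfsg.Agent.Lib.Helper7_Mono Cfsg.Agent.Lib.Helper92_FixMono
  Cfsg.Agent.Lib.Helper92_FixLat Cfsg.Agent.Lib.Helper92_ZElt Cfsg.Agent.Lib.Helper92_QuadAut
  Cfsg.Agent.Lib.Helper93_OutM24 Cfsg.Agent.Lib.Helper93_M24Obj Cfsg.Agent.Lib.Helper92_Co3Cent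
  Cfsg.Agent.Lib.Helper92_Co3 Cfsg.Agent.Lib.Helper92_RankSimple Cfsg.Agent.Lib.Helper7_Xi
  Cfsg.Agent.Lib.Helper7_Bits
open Cfsg.Agent.S5546 (Lam vec8 e8)
open Cfsg.Spor (vecV vecU vecU' leechU leechU' leechV)
open MulAction

/-! ### maximality of the stabiliser of a point in the stabiliser of a vector of norm `48` -/

section max

variable {v x0 : Lam}

theorem stab_max (hx0 : x0 ∈ X3 v) (hD : Data v x0) :
    ∀ K : Subgroup ↥(stabilizer ↥Co0 v), stabilizer ↥(stabilizer ↥Co0 v) x0 ≤ K →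
      K = stabilizer ↥(stabilizer ↥Co0 v) x0 ∨ K = ⊤ := by
  have horb := orbit3_eq hx0 hD
  have hcard : (orbit ↥(stabilizer ↥Co0 v) x0).ncard = 2 * 5589 := by
    rw [horb, hD.card]
  obtain ⟨y₁, m1, y₂, m2, y₃, m3, y₄, m4, h1, h2, h3, h4, hU⟩ := hD.orbits
  rw [orbit_inf_eq] at h1 h2 h3 h4
  rw [orbit_inf_eq, orbit_inf_eq, orbit_inf_eq, orbit_inf_eq] at hU
  have hs : ∀ i, (orbit ↥(stabilizer ↥(stabilizer ↥Co0 v) x0)
      ((![y₁, y₂, y₃, y₄] : Fin 4 → Lam) i)).ncard =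
      (![352, 1100, 4125, 5600] : Fin 4 → ℕ) i := by
    intro i
    fin_cases i
    · exact h1
    · exact h2
    · exact h3
    · exact h4
  have hs1 : ∀ i, 1 < (![352, 1100, 4125, 5600] : Fin 4 → ℕ) i := by decide
  have hinj : Function.Injective (![352, 1100, 4125, 5600] : Fin 4 → ℕ) := by decide
  have hcov : orbit ↥(stabilizer ↥Co0 v) x0 ⊆
      ⋃ i, ClO (G := ↥(stabilizer ↥Co0 v)) x0 (![y₁, y₂, y₃, y₄] : Fin 4 → Lam) i := by
    rw [horb, hU]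
    intro y hy
    rw [Set.mem_iUnion]
    rcases hy with (((hy | hy) | hy) | hy) | hy
    · exact ⟨none, hy⟩
    · exact ⟨some 0, hy⟩
    · exact ⟨some 1, hy⟩
    · exact ⟨some 2, hy⟩
    · exact ⟨some 3, hy⟩
  exact max_of_orbit (G := ↥(stabilizer ↥Co0 v)) x0
    (hprim_of_orbits x0 _ _ hs hs1 hinj (2 * 5589) hcard hcov arith11178)

/-- A subgroup containing the common stabiliser of `v`, `x0` and an element fixing `v` and moving
`x0` contains the stabiliser of `v`. -/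
theorem co3_max (hx0 : x0 ∈ X3 v) (hD : Data v x0) (L : Subgroup ↥Co0)
    (h1 : ∀ g : ↥Co0, g • v = v → g • x0 = x0 → g ∈ L)
    (s : ↥Co0) (hs : s ∈ L) (hsv : s • v = v) (hsx : s • x0 ≠ x0) :
    ∀ g : ↥Co0, g • v = v → g ∈ L := by
  have hmax := stab_max hx0 hD (L.subgroupOf (stabilizer ↥Co0 v)) (by
    intro g hg
    rw [Subgroup.mem_subgroupOf]
    exact h1 g.1 g.2 hg)
  intro g hgv
  rcases hmax with h | h
  · exfalso
    apply hsx
    have hmem : (⟨s, hsv⟩ : ↥(stabilizer ↥Co0 v)) ∈ L.subgroupOf (stabilizer ↥Co0 v) := by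
      rw [Subgroup.mem_subgroupOf]
      exact hs
    rw [h] at hmem
    exact hmem
  · have hmem : (⟨g, hgv⟩ : ↥(stabilizer ↥Co0 v)) ∈ L.subgroupOf (stabilizer ↥Co0 v) := by
      rw [h]; exact Subgroup.mem_top _
    rw [Subgroup.mem_subgroupOf] at hmem
    exact hmem

end max

/-! ### the data for `(-5, -1^23)` and `(4, -4, 0^22)` -/

theorem norm_VL : sqNorm (VL : GolayPt → ℤ) = 48 := by
  show sqNorm vecV = 48
  decide +kernel

theorem UL'_mem : UL' ∈ X3 VL := ⟨norm_UL', dot_V_UL'⟩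

theorem data_VL : Data VL UL' := by
  obtain ⟨hcard, htrans⟩ := Cfsg.Agent.S1640.result VL norm_VL
  have hHS := Cfsg.Agent.S0405.result VL (wOf VL UL') norm_VL
    (wOf_norm VL UL' norm_VL UL'_mem) (wOf_dot VL UL' norm_VL UL'_mem)
  exact
    { card := hcard
      trans := htrans
      simple := hHS.1
      cardH := hHS.2
      orbits := Cfsg.Agent.S1641.result VL UL' norm_VL UL'_mem }

/-! ### the subgroup generated by the four elements -/

/-- The subgroup generated by `a`, `d`, `c` and `z`. -/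
def K0 : Subgroup ↥Co0 := Subgroup.closure {PA, PD, PC, zE}

theorem PA_mem : PA ∈ K0 := Subgroup.subset_closure (by simp)
theorem PD_mem : PD ∈ K0 := Subgroup.subset_closure (by simp)
theorem PC_mem : PC ∈ K0 := Subgroup.subset_closure (by simp)
theorem zE_mem : zE ∈ K0 := Subgroup.subset_closure (by simp)

/-- The coordinate permutations fixing `∞` lie in the subgroup. -/
theorem perm_mem (σ : ↥M24) (h : σ.1 none = none) : perm σ ∈ K0 := by
  have h1 : σ.1 ∈ K3 := mem_K3 σ.1 σ.2 h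
  have h2 : K3 = (Subgroup.closure ({mA, mD, mC} : Set ↥M24)).map M24.subtype := by
    rw [MonoidHom.map_closure]
    unfold K3
    congr 1
    ext x
    simp only [Set.mem_insert_iff, Set.mem_singleton_iff, Set.mem_image]
    constructor
    · rintro (rfl | rfl | rfl)
      · exact ⟨mA, Or.inl rfl, rfl⟩
      · exact ⟨mD, Or.inr (Or.inl rfl), rfl⟩
      · exact ⟨mC, Or.inr (Or.inr rfl), rfl⟩
    · rintro ⟨y, (rfl | rfl | rfl), rfl⟩
      · exact Or.inl rfl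
      · exact Or.inr (Or.inl rfl)
      · exact Or.inr (Or.inr rfl)
  rw [h2] at h1
  obtain ⟨τ, hτ, hτσ⟩ := h1
  have e : τ = σ := Subtype.ext hτσ
  rw [e] at hτ
  have h3 : (Subgroup.closure ({mA, mD, mC} : Set ↥M24)).map permHom ≤ K0 := by
    rw [MonoidHom.map_closure]
    unfold K0
    apply Subgroup.closure_mono
    rintro x ⟨y, (rfl | rfl | rfl), rfl⟩
    · exact Or.inl rfl
    · exact Or.inr (Or.inl rfl)
    · exact Or.inr (Or.inr (Or.inl rfl))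
  exact h3 ⟨σ, hτ, rfl⟩

/-! ### evaluating words in the generators -/

/-- The check for a step by a coordinate permutation. -/
def PermOK (f : GolayPt → GolayPt) (l l' : List ℤ) : Prop :=
  ∀ p : GolayPt, vecL l' (f p) = vecL l p

instance (f : GolayPt → GolayPt) (l l' : List ℤ) : Decidable (PermOK f l l') := by
  unfold PermOK
  infer_instance

/-- The check for a step by the inverse of a coordinate permutation. -/
def PermInvOK (f : GolayPt → GolayPt) (l l' : List ℤ) : Prop :=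
  ∀ p : GolayPt, vecL l' p = vecL l (f p)

instance (f : GolayPt → GolayPt) (l l' : List ℤ) : Decidable (PermInvOK f l l') := by
  unfold PermInvOK
  infer_instance

/-- The check for a step by the involution. -/
def ZOK (l l' : List ℤ) : Prop :=
  ∀ p : GolayPt, ZB.mulVec (vecL l) p = 4 * vecL l' p

instance (l l' : List ℤ) : Decidable (ZOK l l') := by
  unfold ZOK
  infer_instance

theorem step_perm (σ : ↥M24) (f : GolayPt → GolayPt) (hf : ∀ p, σ.1 p = f p) (x : Lam)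
    (l l' : List ℤ) (hx : (x : GolayPt → ℤ) = vecL l) (h : PermOK f l l') :
    ((perm σ • x : Lam) : GolayPt → ℤ) = vecL l' := by
  rw [perm_apply]
  funext j
  rw [permVec_apply, hx]
  have := h (σ.1.symm j)
  rw [← hf, Equiv.apply_symm_apply] at this
  exact this.symm

theorem perm_inv' (σ : ↥M24) : (perm σ)⁻¹ = perm σ⁻¹ := by
  rw [← permHom_apply, ← permHom_apply, map_inv]

theorem step_perm_inv (σ : ↥M24) (f : GolayPt → GolayPt) (hf : ∀ p, σ.1 p = f p) (x : Lam)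
    (l l' : List ℤ) (hx : (x : GolayPt → ℤ) = vecL l) (h : PermInvOK f l l') :
    (((perm σ)⁻¹ • x : Lam) : GolayPt → ℤ) = vecL l' := by
  rw [perm_inv', perm_apply]
  funext j
  rw [permVec_apply, hx]
  have e : (σ⁻¹ : ↥M24).1.symm j = σ.1 j := by
    show (σ.1⁻¹).symm j = σ.1 j
    rfl
  rw [e, hf]
  exact (h j).symm

theorem step_A (x : Lam) (l l' : List ℤ) (hx : (x : GolayPt → ℤ) = vecL l)
    (h : PermOK (Option.map (fun t => t + 1)) l l') :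
    ((PA • x : Lam) : GolayPt → ℤ) = vecL l' :=
  step_perm mA _ gA_apply x l l' hx h

theorem step_Ainv (x : Lam) (l l' : List ℤ) (hx : (x : GolayPt → ℤ) = vecL l)
    (h : PermInvOK (Option.map (fun t => t + 1)) l l') :
    ((PA⁻¹ • x : Lam) : GolayPt → ℤ) = vecL l' :=
  step_perm_inv mA _ gA_apply x l l' hx h

theorem step_D (x : Lam) (l l' : List ℤ) (hx : (x : GolayPt → ℤ) = vecL l)
    (h : PermOK (Option.map (fun t => 2 * t)) l l') :
    ((PD • x : Lam) : GolayPt → ℤ) = vecL l' :=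
  step_perm mD _ gD_apply x l l' hx h

theorem step_C (x : Lam) (l l' : List ℤ) (hx : (x : GolayPt → ℤ) = vecL l)
    (h : PermOK cubeTwistFun l l') :
    ((PC • x : Lam) : GolayPt → ℤ) = vecL l' :=
  step_perm mC _ gC_apply x l l' hx h

theorem step_Z (x : Lam) (l l' : List ℤ) (hx : (x : GolayPt → ℤ) = vecL l)
    (h : ZOK l l') : ((zE • x : Lam) : GolayPt → ℤ) = vecL l' := by
  apply zE_eq_of
  intro p
  rw [hx]
  exact h p

/-- An element of the subgroup fixing `(-5, -1^23)` and `(4, -4, 0^22)` and moving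
`(4, 4, 0^22)`. -/
noncomputable def sW : ↥Co0 :=
  PA * (PA * (zE * (PA⁻¹ * (zE * (PD * (PA⁻¹ * (zE * (PC * PA⁻¹))))))))

theorem sW_smul (x : Lam) : sW • x =
    PA • (PA • (zE • (PA⁻¹ • (zE • (PD • (PA⁻¹ • (zE • (PC • (PA⁻¹ • x))))))))) := rfl

theorem sW_mem : sW ∈ K0 := by
  unfold sW
  have hA := PA_mem
  have hD := PD_mem
  have hC := PC_mem
  have hZ := zE_mem
  have hAi := K0.inv_mem hA
  exact K0.mul_mem hA (K0.mul_mem hA (K0.mul_mem hZ (K0.mul_mem hAi (K0.mul_mem hZ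
    (K0.mul_mem hD (K0.mul_mem hAi (K0.mul_mem hZ (K0.mul_mem hC hAi))))))))

theorem inv_fix {g : ↥Co0} {x : Lam} (h : g • x = x) : g⁻¹ • x = x := by
  have e := congrArg (fun y => g⁻¹ • y) h
  simp only [inv_smul_smul] at e
  exact e.symm

theorem sW_VL : sW • VL = VL := by
  rw [sW_smul, inv_fix PA_fix, PC_fix, zE_fix, inv_fix PA_fix, PD_fix, zE_fix, inv_fix PA_fix,
    zE_fix, PA_fix, PA_fix]

theorem chain_U' : ((sW • UL' : Lam) : GolayPt → ℤ) = vecL [-4, 0, 0, 0, 0, 0, 0, 0, 0, 0, 0, 0, 0, 0, 0, 0, 0, 0, 0, 0, 0, 0, 0, 4] := by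
  have h0 : ((UL' : Lam) : GolayPt → ℤ) = vecL [-4, 0, 0, 0, 0, 0, 0, 0, 0, 0, 0, 0, 0, 0, 0, 0, 0, 0, 0, 0, 0, 0, 0, 4] := by
    funext p; revert p; decide
  have h1 := step_Ainv (UL') _ [0, 0, 0, 0, 0, 0, 0, 0, 0, 0, 0, 0, 0, 0, 0, 0, 0, 0, 0, 0, 0, 0, -4, 4] h0 (by decide +kernel)
  have h2 := step_C (PA⁻¹ • UL') _ [0, 0, 0, 0, 0, 0, 0, 0, 0, 0, 0, 0, 0, 0, -4, 0, 0, 0, 0, 0, 0, 0, 0, 4] h1 (by decide +kernel)
  have h3 := step_Z (PC • (PA⁻¹ • UL')) _ [-2, 0, 2, 0, 0, 0, 2, 0, 0, 2, 0, 0, 0, 2, -2, 0, 0, 0, 2, 0, 0, 0, 0, 2] h2 (by decide +kernel)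
  have h4 := step_Ainv (zE • (PC • (PA⁻¹ • UL'))) _ [0, 2, 0, 0, 0, 2, 0, 0, 2, 0, 0, 0, 2, -2, 0, 0, 0, 2, 0, 0, 0, 0, -2, 2] h3 (by decide +kernel)
  have h5 := step_D (PA⁻¹ • (zE • (PC • (PA⁻¹ • UL')))) _ [0, 2, 2, -2, 0, 0, 0, 0, 0, 0, 2, 2, 0, 0, 0, 0, 2, 0, 0, 0, 0, -2, 0, 2] h4 (by decide +kernel)
  have h6 := step_Z (PD • (PA⁻¹ • (zE • (PC • (PA⁻¹ • UL'))))) _ [0, -2, 0, 2, 2, 2, 0, 0, 0, 2, 2, 0, 0, 0, 0, 0, 0, 0, 0, 0, 0, 0, -2, 2] h5 (by decide +kernel)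
  have h7 := step_Ainv (zE • (PD • (PA⁻¹ • (zE • (PC • (PA⁻¹ • UL')))))) _ [-2, 0, 2, 2, 2, 0, 0, 0, 2, 2, 0, 0, 0, 0, 0, 0, 0, 0, 0, 0, 0, -2, 0, 2] h6 (by decide +kernel)
  have h8 := step_Z (PA⁻¹ • (zE • (PD • (PA⁻¹ • (zE • (PC • (PA⁻¹ • UL'))))))) _ [0, 0, 0, 0, 0, 0, 0, 0, 0, 0, 0, 0, 0, 0, 0, 0, 0, 0, 0, 0, 0, -4, 0, 4] h7 (by decide +kernel)
  have h9 := step_A (zE • (PA⁻¹ • (zE • (PD • (PA⁻¹ • (zE • (PC • (PA⁻¹ • UL')))))))) _ [0, 0, 0, 0, 0, 0, 0, 0, 0, 0, 0, 0, 0, 0, 0, 0, 0, 0, 0, 0, 0, 0, -4, 4] h8 (by decide +kernel)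
  have h10 := step_A (PA • (zE • (PA⁻¹ • (zE • (PD • (PA⁻¹ • (zE • (PC • (PA⁻¹ • UL'))))))))) _ [-4, 0, 0, 0, 0, 0, 0, 0, 0, 0, 0, 0, 0, 0, 0, 0, 0, 0, 0, 0, 0, 0, 0, 4] h9 (by decide +kernel)
  exact h10

theorem chain_U : ((sW • UL : Lam) : GolayPt → ℤ) = vecL [2, 0, 2, 0, 0, 0, 2, 0, 0, 2, 0, 0, 0, 2, 2, 0, 0, 0, 2, 0, 0, 0, 0, 2] := by
  have h0 : ((UL : Lam) : GolayPt → ℤ) = vecL [4, 0, 0, 0, 0, 0, 0, 0, 0, 0, 0, 0, 0, 0, 0, 0, 0, 0, 0, 0, 0, 0, 0, 4] := by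
    funext p; revert p; decide
  have h1 := step_Ainv (UL) _ [0, 0, 0, 0, 0, 0, 0, 0, 0, 0, 0, 0, 0, 0, 0, 0, 0, 0, 0, 0, 0, 0, 4, 4] h0 (by decide +kernel)
  have h2 := step_C (PA⁻¹ • UL) _ [0, 0, 0, 0, 0, 0, 0, 0, 0, 0, 0, 0, 0, 0, 4, 0, 0, 0, 0, 0, 0, 0, 0, 4] h1 (by decide +kernel)
  have h3 := step_Z (PC • (PA⁻¹ • UL)) _ [0, 2, 0, 2, 2, 0, 0, 0, 2, 0, 0, 0, 2, 0, 2, 0, 2, 0, 0, 0, 0, 0, 0, 2] h2 (by decide +kernel)
  have h4 := step_Ainv (zE • (PC • (PA⁻¹ • UL))) _ [2, 0, 2, 2, 0, 0, 0, 2, 0, 0, 0, 2, 0, 2, 0, 2, 0, 0, 0, 0, 0, 0, 0, 2] h3 (by decide +kernel)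
  have h5 := step_D (PA⁻¹ • (zE • (PC • (PA⁻¹ • UL)))) _ [2, 0, 0, 2, 2, 0, 2, 2, 0, 0, 0, 0, 0, 0, 2, 0, 0, 0, 0, 0, 0, 0, 2, 2] h4 (by decide +kernel)
  have h6 := step_Z (PD • (PA⁻¹ • (zE • (PC • (PA⁻¹ • UL))))) _ [0, 0, 0, 0, 0, 0, 0, 2, 2, 0, 0, 2, 2, 0, 2, 2, 0, 0, 0, 0, 0, 0, 2, 2] h5 (by decide +kernel)
  have h7 := step_Ainv (zE • (PD • (PA⁻¹ • (zE • (PC • (PA⁻¹ • UL)))))) _ [0, 0, 0, 0, 0, 0, 2, 2, 0, 0, 2, 2, 0, 2, 2, 0, 0, 0, 0, 0, 0, 2, 0, 2] h6 (by decide +kernel)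
  have h8 := step_Z (PA⁻¹ • (zE • (PD • (PA⁻¹ • (zE • (PC • (PA⁻¹ • UL))))))) _ [2, 0, 0, 0, 2, 0, 0, 2, 0, 0, 0, 2, 2, 0, 0, 0, 2, 0, 0, 0, 0, 2, 0, 2] h7 (by decide +kernel)
  have h9 := step_A (zE • (PA⁻¹ • (zE • (PD • (PA⁻¹ • (zE • (PC • (PA⁻¹ • UL)))))))) _ [0, 2, 0, 0, 0, 2, 0, 0, 2, 0, 0, 0, 2, 2, 0, 0, 0, 2, 0, 0, 0, 0, 2, 2] h8 (by decide +kernel)
  have h10 := step_A (PA • (zE • (PA⁻¹ • (zE • (PD • (PA⁻¹ • (zE • (PC • (PA⁻¹ • UL))))))))) _ [2, 0, 2, 0, 0, 0, 2, 0, 0, 2, 0, 0, 0, 2, 2, 0, 0, 0, 2, 0, 0, 0, 0, 2] h9 (by decide +kernel)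
  exact h10
theorem sW_UL' : sW • UL' = UL' := by
  apply Subtype.ext
  rw [chain_U']
  funext p
  revert p
  decide

theorem sW_UL : sW • UL ≠ UL := by
  intro h
  have e : ((sW • UL : Lam) : GolayPt → ℤ) (some 0) = (UL : GolayPt → ℤ) (some 0) := by rw [h]
  rw [chain_U] at e
  revert e
  show ¬ (vecL _ (some 0) = vecU (some 0))
  decide

/-! ### generation -/

theorem norm_wOf : sqNorm (wOf VL UL' : GolayPt → ℤ) = 48 := wOf_norm VL UL' norm_VL UL'_mem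

theorem dot_wOf_VL : dotInt (wOf VL UL' : GolayPt → ℤ) (VL : GolayPt → ℤ) = -32 := by
  rw [Cfsg.Agent.Lib.Helper26_HSPair.dot_comm]
  exact wOf_dot VL UL' norm_VL UL'_mem

theorem UL_mem : UL ∈ Cfsg.Agent.Lib.Helper92_HSGen.XG (wOf VL UL') VL := by
  refine ⟨norm_UL, ?_, dot_V_UL⟩
  show dotInt (-(vecV + vecU')) vecU = 24
  decide +kernel

/-- The common stabiliser of `(-5, -1^23)` and `(4, -4, 0^22)` lies in the subgroup. -/
theorem hs_le (g : ↥Co0) (hV : g • VL = VL) (hU' : g • UL' = UL') : g ∈ K0 := by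
  have key := Cfsg.Agent.Lib.Helper92_HSGen.hs_max (wOf VL UL') VL UL norm_wOf norm_VL dot_wOf_VL
    UL_mem K0 (by
      intro g h1 h2 h3
      have h4 : g • UL' = UL' := (fix_w_iff VL UL' g h2).mp h1
      have h8 : g • e8 none = e8 none := by
        rw [e8_eq, smul_add', h3, h4]
      obtain ⟨σ, hσ, rfl⟩ := mono_of_fix g h8 h2
      exact perm_mem σ hσ)
    sW sW_mem ((fix_w_iff VL UL' sW sW_VL).mpr sW_UL') sW_VL sW_UL
  exact key g ((fix_w_iff VL UL' g hV).mpr hU') hV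

theorem PA_UL' : PA • UL' ≠ UL' := by
  intro h
  have e := coord_of_fix mA UL' h (some 0)
  rw [show mA.1 = gA from rfl, gA_apply] at e
  revert e
  show ¬ (vecU' (Option.map (fun t => t + 1) (some 0)) = vecU' (some 0))
  decide

/-- The stabiliser of `(-5, -1^23)` lies in the subgroup. -/
theorem stab_le (g : ↥Co0) (hV : g • VL = VL) : g ∈ K0 :=
  co3_max UL'_mem data_VL K0 hs_le PA PA_mem PA_fix PA_UL' g hV

end Cfsg.Agent.Lib.Helper92_Co3Gen
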