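import Cfsg.Agent.Lib.Helper92_RankOrbits
import Cfsg.Agent.Lib.Helper92_Co0Order
import Cfsg.Agent.Lib.Helper92_MaxN1
import Cfsg.Agent.S1634
import Cfsg.Agent.S5593
import Cfsg.Agent.S0397

/-!
For two minimal vectors `v`, `w` of the rank-24 lattice with inner product `-8` and one of the
`2025` minimal vectors `x` orthogonal to `v` with inner product `16` with `w`: the stabiliser of `x`
in the common stabiliser of `v` and `w` is a maximal subgroup (the action on the `2025` points is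
primitive, the stabiliser of a point having orbits of `1`, `330`, `462` and `1232` points).
-/

set_option autoImplicit false
set_option linter.constructorNameAsVariable false
open Cfsg
open scoped Pointwise

namespace Cfsg.Agent.Lib.Helper92_McLGen

open Cfsg.Agent.Lib.Helper92_Co0Order Cfsg.Agent.Lib.Helper92_RankSimple
  Cfsg.Agent.Lib.Helper92_MaxN
open Cfsg.Agent.S5546 (Lam)
open MulAction

instance finiteCo0m : Finite ↥Co0 :=
  Nat.finite_of_card_ne_zero (by rw [Cfsg.Agent.S0397.result]; norm_num)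

/-! ### covering an orbit by the listed orbits of a point stabiliser, by counting -/

section cover

variable {G α : Type*} [Group G] [MulAction G α]
variable (x0 : α) {k : ℕ} (ys : Fin k → α) (s : Fin k → ℕ)
  (hs : ∀ i, (orbit ↥(stabilizer G x0) (ys i)).ncard = s i)
  (hs1 : ∀ i, 1 < s i) (hinj : Function.Injective s)

omit hs hs1 hinj in
theorem ClO_sub (hys : ∀ i, ys i ∈ orbit G x0) (i : Option (Fin k)) :
    ClO (G := G) x0 ys i ⊆ orbit G x0 := by
  cases i with
  | none =>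
    intro y hy
    rw [show y = x0 from hy]
    exact mem_orbit_self x0
  | some i =>
    rintro y ⟨h, rfl⟩
    obtain ⟨g, hg⟩ := hys i
    have hg' : g • x0 = ys i := hg
    refine ⟨h.1 * g, ?_⟩
    show (h.1 * g) • x0 = h.1 • ys i
    rw [mul_smul, hg']

include hs hs1 hinj in
theorem hcov_of_card (n : ℕ) (hn : (orbit G x0).ncard = n) (hn0 : 0 < n)
    (hys : ∀ i, ys i ∈ orbit G x0) (hsum : 1 + ∑ i, s i = n) :
    orbit G x0 ⊆ ⋃ i, ClO (G := G) x0 ys i := by
  classical
  have hfin : (orbit G x0).Finite := Set.finite_of_ncard_pos (by rw [hn]; exact hn0)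
  have hsub : (⋃ i, ClO (G := G) x0 ys i) ⊆ orbit G x0 := Set.iUnion_subset (ClO_sub x0 ys hys)
  obtain ⟨e, he1, he0, hsumO⟩ := ncard_of_classes (⋃ i, ClO (G := G) x0 ys i)
    (ClO (G := G) x0 ys) (ClO_finite x0 ys s hs hs1) (ClO_disj x0 ys s hs hs1 hinj) (le_refl _)
    (fun i => Or.inl (Set.subset_iUnion _ i))
  have hall : ∀ i, e i = true := by
    intro i
    cases hh : e i
    · exfalso
      have hne : (ClO (G := G) x0 ys i).Nonempty := by
        rw [← Set.ncard_pos (ClO_finite x0 ys s hs hs1 i), ClO_ncard x0 ys s hs]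
        exact szO_pos s hs1 i
      obtain ⟨y, hy⟩ := hne
      exact Set.disjoint_left.mp (he0 i hh) hy (Set.mem_iUnion.mpr ⟨i, hy⟩)
    · rfl
  have hcard : (⋃ i, ClO (G := G) x0 ys i).ncard = n := by
    rw [hsumO, Fintype.sum_option, if_pos (hall none), ClO_ncard x0 ys s hs, ← hsum]
    congr 1
    apply Finset.sum_congr rfl
    intro i _
    rw [if_pos (hall (some i)), ClO_ncard x0 ys s hs]
    rfl
  have := Set.eq_of_subset_of_ncard_le hsub (by rw [hcard, hn]) hfin
  rw [this]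

end cover

/-! ### the action on the `2025` points -/

section main

variable (v w x : Lam)

/-- The `2025` points. -/
def XM : Set Lam := {y : ↥leechLattice | sqNorm (y : GolayPt → ℤ) = 32 ∧
  dotInt (v : GolayPt → ℤ) (y : GolayPt → ℤ) = 0 ∧
  dotInt (w : GolayPt → ℤ) (y : GolayPt → ℤ) = 16}

/-- The common stabiliser. -/
abbrev GMc : Subgroup ↥Co0 := stabilizer ↥Co0 v ⊓ stabilizer ↥Co0 w

variable (hv : sqNorm (v : GolayPt → ℤ) = 32) (hw : sqNorm (w : GolayPt → ℤ) = 32)
  (hvw : dotInt (v : GolayPt → ℤ) (w : GolayPt → ℤ) = -8) (hx : x ∈ XM v w)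

theorem XM_smul (g : ↥Co0) (h1 : g • v = v) (h2 : g • w = w) (y : Lam) (hy : y ∈ XM v w) :
    g • y ∈ XM v w := by
  refine ⟨?_, ?_, ?_⟩
  · show sqNorm ((g • y : Lam) : GolayPt → ℤ) = 32
    rw [sqNorm_smul]; exact hy.1
  · show dotInt (v : GolayPt → ℤ) ((g • y : Lam) : GolayPt → ℤ) = 0
    have := Cfsg.Agent.S5593.dot_smul g v y
    rw [h1] at this
    rw [this]; exact hy.2.1
  · show dotInt (w : GolayPt → ℤ) ((g • y : Lam) : GolayPt → ℤ) = 16
    have := Cfsg.Agent.S5593.dot_smul g w y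
    rw [h2] at this
    rw [this]; exact hy.2.2

include hv hw hvw hx in
theorem orbit_eq : orbit ↥(GMc v w) x = XM v w := by
  ext y
  constructor
  · rintro ⟨g, rfl⟩
    exact XM_smul v w (g : ↥Co0) g.2.1 g.2.2 x hx
  · intro hy
    obtain ⟨g, h1, h2, h3⟩ := (Cfsg.Agent.S1634.result v w hv hw hvw).2.1 x hx y hy
    exact ⟨⟨g, h1, h2⟩, h3⟩

include hv hw hvw hx in
theorem orbit_ncard : (orbit ↥(GMc v w) x).ncard = 2025 := by
  rw [orbit_eq v w x hv hw hvw hx]
  exact (Cfsg.Agent.S1634.result v w hv hw hvw).1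

theorem orbit_inf3_eq (y : Lam) :
    orbit ↥(stabilizer ↥Co0 v ⊓ stabilizer ↥Co0 w ⊓ stabilizer ↥Co0 x) y =
      orbit ↥(stabilizer ↥(GMc v w) x) y := by
  ext z
  constructor
  · rintro ⟨g, rfl⟩
    exact ⟨⟨⟨g.1, g.2.1⟩, g.2.2⟩, rfl⟩
  · rintro ⟨g, rfl⟩
    exact ⟨⟨g.1.1, g.1.2, g.2⟩, rfl⟩

theorem arith2025 : ∀ e : Fin 3 → Bool,
    (1 + ∑ i, if e i = true then (![330, 462, 1232] : Fin 3 → ℕ) i else 0) ∣ 2025 →
    (∀ i, e i = true) ∨ (∀ i, e i = false) := by
  decide

include hv hw hvw hx in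
theorem stab_max : ∀ K : Subgroup ↥(GMc v w), stabilizer ↥(GMc v w) x ≤ K →
    K = stabilizer ↥(GMc v w) x ∨ K = ⊤ := by
  obtain ⟨y₁, m1, y₂, m2, y₃, m3, h1, h2, h3⟩ :=
    (Cfsg.Agent.S1634.result v w hv hw hvw).2.2 x hx
  rw [orbit_inf3_eq] at h1 h2 h3
  have horb := orbit_eq v w x hv hw hvw hx
  have hcard := orbit_ncard v w x hv hw hvw hx
  have hs : ∀ i, (orbit ↥(stabilizer ↥(GMc v w) x)
      ((![y₁, y₂, y₃] : Fin 3 → Lam) i)).ncard = (![330, 462, 1232] : Fin 3 → ℕ) i := by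
    intro i
    fin_cases i
    · exact h1
    · exact h2
    · exact h3
  have hs1 : ∀ i, 1 < (![330, 462, 1232] : Fin 3 → ℕ) i := by decide
  have hinj : Function.Injective (![330, 462, 1232] : Fin 3 → ℕ) := by decide
  have hys : ∀ i, (![y₁, y₂, y₃] : Fin 3 → Lam) i ∈ orbit ↥(GMc v w) x := by
    intro i
    rw [horb]
    fin_cases i
    · exact m1
    · exact m2
    · exact m3
  have hcov := hcov_of_card (G := ↥(GMc v w)) x _ _ hs hs1 hinj 2025 hcard (by norm_num) hys
    (by decide)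
  exact max_of_orbit (G := ↥(GMc v w)) x
    (hprim_of_orbits x _ _ hs hs1 hinj 2025 hcard hcov arith2025)

include hv hw hvw hx in
/-- A subgroup containing the common stabiliser of `v`, `w`, `x` and an element fixing `v`, `w`
and moving `x` contains the common stabiliser of `v` and `w`. -/
theorem mcl_max (L : Subgroup ↥Co0)
    (h1 : ∀ g : ↥Co0, g • v = v → g • w = w → g • x = x → g ∈ L)
    (s : ↥Co0) (hs : s ∈ L) (hsv : s • v = v) (hsw : s • w = w) (hsx : s • x ≠ x) :
    ∀ g : ↥Co0, g • v = v → g • w = w → g ∈ L := by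
  have hmax := stab_max v w x hv hw hvw hx (L.subgroupOf (GMc v w)) (by
      intro g hg
      rw [Subgroup.mem_subgroupOf]
      exact h1 g.1 g.2.1 g.2.2 hg)
  intro g hgv hgw
  rcases hmax with h | h
  · exfalso
    apply hsx
    have hmem : (⟨s, hsv, hsw⟩ : ↥(GMc v w)) ∈ L.subgroupOf (GMc v w) := by
      rw [Subgroup.mem_subgroupOf]
      exact hs
    rw [h] at hmem
    exact hmem
  · have hmem : (⟨g, hgv, hgw⟩ : ↥(GMc v w)) ∈ L.subgroupOf (GMc v w) := by
      rw [h]; exact Subgroup.mem_top _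
    rw [Subgroup.mem_subgroupOf] at hmem
    exact hmem

end main

end Cfsg.Agent.Lib.Helper92_McLGen
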