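import Mathlib
import Cfsg.Prelude.Def_KGroupFacts
import Cfsg.Agent.Lib.Helper93_OutAbs

/-!
Abstract lemmas for the outer automorphism group of a group of order `42305421312000` with a
self-centralising element `a` of order 23 normalised by a self-centralising element `d` of order
11, the normaliser of `⟨d⟩` being generated by `d`, `c` (acting by cubing) and `w` (inverting `d` and
commuting with `c`):

* every automorphism agrees with an inner one on `a`, `d`, `c`, `w`;
* a subgroup containing the normalisers of `⟨a⟩` and `⟨d⟩` has index congruent to `1` modulo `23`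
  and `11`; if it also contains subgroups of orders `10200960` and `898128000`, it is the whole
  group.
-/

set_option autoImplicit false
open Cfsg

namespace Cfsg.Agent.Lib.Helper92_OutNorm2

open Cfsg.Agent.Lib.Helper93_OutAbs

section norm

variable {G : Type*} [Group G] [Finite G] (a d c w : G) (s : ℕ)

/-- Every automorphism agrees with an inner one on `a`, `d`, `c` and `w`. -/
theorem normalize3w
    (hcard : Nat.card G = 23 * s) (hs : ¬ 23 ∣ s)
    (ha : a ^ 23 = 1) (ha1 : a ≠ 1) (hda : d * a * d⁻¹ = a ^ 2)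
    (hCa : ∀ g : G, g * a = a * g → g ∈ Subgroup.zpowers a)
    (hCd : ∀ g : G, g * d = d * g → g ∈ Subgroup.zpowers d)
    (hd : d ^ 11 = 1) (hcd : c * d * c⁻¹ = d ^ 3)
    (hr1 : (a * c) ^ 6 = 1) (hr2 : (a * c ^ 2) ^ 5 = 1)
    (hpin : ∀ k ∈ ([1, 22] : List ℕ), ∀ i < 11, (a ^ k * (c * d ^ i)) ^ 6 = 1 →
      (a ^ k * (c * d ^ i) ^ 2) ^ 5 = 1 → k = 1 ∧ i = 0)
    (hwd : w * d * w⁻¹ = d⁻¹) (hwc : w * c = c * w)
    (α : MulAut G) : ∃ g : G, α a = g * a * g⁻¹ ∧ α d = g * d * g⁻¹ ∧ α c = g * c * g⁻¹ ∧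
      α w = g * w * g⁻¹ := by
  obtain ⟨g, hga, hgd, hgc⟩ :=
    normalize3 a d c s hcard hs ha ha1 hda hCa hCd hd hcd hr1 hr2 hpin α
  let γ : MulAut G := (MulAut.conj g)⁻¹ * α
  have hγx : ∀ x, γ x = g⁻¹ * α x * g := fun x => by
    show (MulAut.conj g)⁻¹ (α x) = _
    rw [MulAut.conj_inv_apply]
  have hγd : γ d = d := by rw [hγx, hgd]; group
  have hγc : γ c = c := by rw [hγx, hgc]; group
  have h3 : γ w * d * (γ w)⁻¹ = d⁻¹ := by
    have := congrArg γ hwd
    rw [map_mul, map_mul, map_inv, map_inv, hγd] at this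
    exact this
  have hwd' : w⁻¹ * d⁻¹ * w = d := by
    rw [← hwd]
    group
  have hz : (w⁻¹ * γ w) * d = d * (w⁻¹ * γ w) := by
    have : (w⁻¹ * γ w) * d * (w⁻¹ * γ w)⁻¹ = d := by
      calc (w⁻¹ * γ w) * d * (w⁻¹ * γ w)⁻¹ = w⁻¹ * (γ w * d * (γ w)⁻¹) * w := by group
        _ = d := by rw [h3, hwd']
    calc (w⁻¹ * γ w) * d = ((w⁻¹ * γ w) * d * (w⁻¹ * γ w)⁻¹) * (w⁻¹ * γ w) := by group
      _ = d * (w⁻¹ * γ w) := by rw [this]
  obtain ⟨n, _, hdn⟩ := exists_pow_lt hd (hCd _ hz)
  have hγw : γ w = w * d ^ n := by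
    rw [hdn]
    group
  -- `γ w` commutes with `c`
  have hcomm : γ w * c = c * γ w := by
    have := congrArg γ hwc
    rw [map_mul, map_mul, hγc] at this
    exact this
  have hdc : d ^ n * c = c * d ^ n := by
    rw [hγw] at hcomm
    have e1 : w * d ^ n * c = w * (d ^ n * c) := mul_assoc _ _ _
    have e2 : c * (w * d ^ n) = w * (c * d ^ n) := by
      rw [← mul_assoc, ← hwc, mul_assoc]
    rw [e1, e2] at hcomm
    exact mul_left_cancel hcomm
  have hcube : c * d ^ n * c⁻¹ = d ^ (3 * n) := by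
    rw [← conj_pow, hcd, ← pow_mul]
  have h2 : d ^ (3 * n) = d ^ n := by
    rw [← hcube, ← hdc]
    group
  have h2n : (d ^ n) ^ 2 = 1 := by
    have e : d ^ (3 * n) = d ^ n * (d ^ n) ^ 2 := by
      rw [← pow_mul, ← pow_add]
      congr 1
      ring
    rw [e] at h2
    exact mul_left_cancel (h2.trans (mul_one _).symm)
  have h11 : (d ^ n) ^ 11 = 1 := by
    rw [← pow_mul, mul_comm, pow_mul, hd, one_pow]
  have key : ∀ x : G, x ^ 2 = 1 → x ^ 11 = 1 → x = 1 := by
    intro x hx2 hx11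
    have e : x ^ 11 = (x ^ 2) ^ 5 * x := by
      rw [← pow_mul, ← pow_succ]
    rw [hx2, one_pow, one_mul] at e
    rw [← e, hx11]
  have hdn1 : d ^ n = 1 := key _ h2n h11
  rw [hdn1, mul_one] at hγw
  refine ⟨g, hga, hgd, hgc, ?_⟩
  have : α w = g * γ w * g⁻¹ := by
    rw [hγx]
    group
  rw [this, hγw]

end norm

/-! ### normalisers -/

theorem conj_pow_of {G : Type*} [Group G] {x d : G} {r : ℕ} (h : x * d * x⁻¹ = d ^ r) (m k : ℕ) :
    x ^ m * d ^ k * (x ^ m)⁻¹ = d ^ (k * r ^ m) := by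
  rw [← conj_pow, conj_pow_pow' h m, ← pow_mul, mul_comm]

theorem cover11 : ∀ k < 11, k ≠ 0 → ∃ i < 5, ∃ j < 2, (10 ^ j * 3 ^ i) % 11 = k := by decide

/-- The normaliser of `⟨d⟩` lies in any subgroup containing `d`, `c` and `w`. -/
theorem normalizer_le_of {G : Type*} [Group G] (d c w : G) (hd : d ^ 11 = 1)
    (hcd : c * d * c⁻¹ = d ^ 3) (hwd : w * d * w⁻¹ = d⁻¹)
    (hCd : ∀ g : G, g * d = d * g → g ∈ Subgroup.zpowers d)
    (K : Subgroup G) (hdK : d ∈ K) (hcK : c ∈ K) (hwK : w ∈ K) :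
    Subgroup.normalizer (Subgroup.zpowers d : Set G) ≤ K := by
  intro g hg
  have hz : Subgroup.zpowers d ≤ K := by
    rw [Subgroup.zpowers_le]; exact hdK
  have hgd : g * d * g⁻¹ ∈ Subgroup.zpowers d :=
    (Subgroup.mem_normalizer_iff.mp hg d).mp (Subgroup.mem_zpowers d)
  obtain ⟨k, hk, hdk⟩ := exists_pow_lt hd hgd
  have hwd10 : w * d * w⁻¹ = d ^ 10 := by
    rw [hwd]
    apply inv_eq_of_mul_eq_one_left
    rw [← pow_succ, hd]
  by_cases hk0 : k = 0
  · -- then `d = 1`
    rw [hk0, pow_zero] at hdk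
    have hd1 : d = 1 := by
      have : g * d * g⁻¹ = 1 := hdk.symm
      calc d = g⁻¹ * (g * d * g⁻¹) * g := by group
        _ = 1 := by rw [this]; group
    apply hz
    apply hCd
    rw [hd1, mul_one, one_mul]
  · obtain ⟨i, _, j, _, hij⟩ := cover11 k hk hk0
    set n : G := c ^ i * w ^ j with hn
    have hnK : n ∈ K := K.mul_mem (K.pow_mem hcK i) (K.pow_mem hwK j)
    have hnd : n * d * n⁻¹ = d ^ k := by
      have e1 : w ^ j * d * (w ^ j)⁻¹ = d ^ (10 ^ j) := by
        have := conj_pow_of hwd10 j 1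
        rw [pow_one, one_mul] at this
        exact this
      have e2 : c ^ i * d ^ (10 ^ j) * (c ^ i)⁻¹ = d ^ (10 ^ j * 3 ^ i) := conj_pow_of hcd i (10 ^ j)
      have e3 : n * d * n⁻¹ = c ^ i * (w ^ j * d * (w ^ j)⁻¹) * (c ^ i)⁻¹ := by
        rw [hn]; group
      rw [e3, e1, e2, ← pow_mod_orderOf d (10 ^ j * 3 ^ i), ← pow_mod_orderOf d k]
      have hod : orderOf d ∣ 11 := orderOf_dvd_of_pow_eq_one hd
      have hmod : (10 ^ j * 3 ^ i) % orderOf d = k % orderOf d := by
        have h1 : (10 ^ j * 3 ^ i) % 11 % orderOf d = (10 ^ j * 3 ^ i) % orderOf d :=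
          Nat.mod_mod_of_dvd _ hod
        rw [← h1, hij]
      rw [hmod]
    have hcomm : (n⁻¹ * g) * d = d * (n⁻¹ * g) := by
      have : (n⁻¹ * g) * d * (n⁻¹ * g)⁻¹ = d := by
        calc (n⁻¹ * g) * d * (n⁻¹ * g)⁻¹ = n⁻¹ * (g * d * g⁻¹) * n := by group
          _ = n⁻¹ * (n * d * n⁻¹) * n := by rw [← hdk, hnd]
          _ = d := by group
      calc (n⁻¹ * g) * d = ((n⁻¹ * g) * d * (n⁻¹ * g)⁻¹) * (n⁻¹ * g) := by group
        _ = d * (n⁻¹ * g) := by rw [this]
    have hmem : n⁻¹ * g ∈ K := hz (hCd _ hcomm)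
    have : g = n * (n⁻¹ * g) := by group
    rw [this]
    exact K.mul_mem hnK hmem

/-! ### the index of a subgroup containing the normaliser of a Sylow subgroup -/

/-- If `p` divides the order of `G` exactly once and `K` contains the normaliser of a subgroup of
order `p`, the index of `K` is congruent to `1` modulo `p`. -/
theorem index_modEq_one {G : Type*} [Group G] [Finite G] (p : ℕ) [hp : Fact p.Prime]
    (K : Subgroup G) (x : G) (hox : orderOf x = p)
    (hfac : (Nat.card G).factorization p = 1)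
    (hN : Subgroup.normalizer (Subgroup.zpowers x : Set G) ≤ K) : K.index ≡ 1 [MOD p] := by
  have hxK : Subgroup.zpowers x ≤ K := Subgroup.le_normalizer.trans hN
  let P : Sylow p G := Sylow.ofCard (Subgroup.zpowers x) (by
    rw [Nat.card_zpowers, hox, hfac, pow_one])
  have hPc : (P : Subgroup G) = Subgroup.zpowers x := rfl
  let Q : Sylow p ↥K := P.subtype (by rw [hPc]; exact hxK)
  have hQc : (Q : Subgroup ↥K) = (Subgroup.zpowers x).subgroupOf K := by
    show ((P.subtype _ : Sylow p ↥K) : Subgroup ↥K) = _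
    rw [Sylow.coe_subtype, hPc]
  have h1 := card_sylow_modEq_one p G
  have h2 := card_sylow_modEq_one p ↥K
  rw [Sylow.card_eq_index_normalizer P] at h1
  rw [Sylow.card_eq_index_normalizer Q] at h2
  have h2' : (Subgroup.normalizer (((Subgroup.zpowers x).subgroupOf K : Subgroup ↥K) :
      Set ↥K)).index ≡ 1 [MOD p] := by
    rw [← hQc]
    exact h2
  rw [← Subgroup.subgroupOf_normalizer_eq hxK] at h2'
  have h3 : (Subgroup.normalizer (Subgroup.zpowers x : Set G)).relIndex K * K.index =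
      (Subgroup.normalizer (Subgroup.zpowers x : Set G)).index :=
    Subgroup.relIndex_mul_index hN
  have h4 : ((Subgroup.normalizer (Subgroup.zpowers x : Set G)).subgroupOf K).index =
      (Subgroup.normalizer (Subgroup.zpowers x : Set G)).relIndex K := rfl
  rw [h4] at h2'
  have h1' : (Subgroup.normalizer (Subgroup.zpowers x : Set G)).index ≡ 1 [MOD p] := h1
  rw [← h3] at h1'
  -- `r * index ≡ 1` and `r ≡ 1`
  have h5 := Nat.ModEq.mul_right K.index h2'
  rw [one_mul] at h5
  exact h5.symm.trans h1'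

/-! ### the order argument -/

theorem pow_two_cases : ∀ j ≤ 11, 2 ^ j % 23 = 1 → 2 ^ j % 11 = 1 → j = 0 := by decide

/-- A subgroup of a group of order `42305421312000` of index congruent to `1` modulo `23` and `11`
containing subgroups of orders `10200960` and `898128000` is the whole group. -/
theorem eq_top_of_index {G : Type*} [Group G] [Finite G] (K : Subgroup G)
    (hcard : Nat.card G = 42305421312000)
    (h23 : K.index ≡ 1 [MOD 23]) (h11 : K.index ≡ 1 [MOD 11])
    (H1 H2 : Subgroup G) (h1 : H1 ≤ K) (h2 : H2 ≤ K)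
    (c1 : Nat.card H1 = 10200960) (c2 : Nat.card H2 = 898128000) : K = ⊤ := by
  have d1 : 10200960 ∣ Nat.card K := by
    rw [← c1]; exact Subgroup.card_dvd_of_le h1
  have d2 : 898128000 ∣ Nat.card K := by
    rw [← c2]; exact Subgroup.card_dvd_of_le h2
  have d3 : Nat.lcm 10200960 898128000 ∣ Nat.card K := Nat.lcm_dvd d1 d2
  have hl : Nat.lcm 10200960 898128000 = 20656944000 := by norm_num
  rw [hl] at d3
  obtain ⟨t, ht⟩ := d3
  have hmul := K.card_mul_index
  rw [hcard, ht] at hmul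
  have hdiv : K.index ∣ 2 ^ 11 := by
    refine ⟨t, ?_⟩
    have : 20656944000 * (t * K.index) = 20656944000 * 2 ^ 11 := by
      rw [← mul_assoc, hmul]
      norm_num
    have := Nat.eq_of_mul_eq_mul_left (by norm_num) this
    rw [← this, mul_comm]
  obtain ⟨j, hj, hidx⟩ := (Nat.dvd_prime_pow Nat.prime_two).mp hdiv
  have e23 : 2 ^ j % 23 = 1 := by
    have := h23
    rw [hidx] at this
    exact this
  have e11 : 2 ^ j % 11 = 1 := by
    have := h11
    rw [hidx] at this
    exact this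
  have hj0 := pow_two_cases j hj e23 e11
  rw [hj0, pow_zero] at hidx
  exact Subgroup.index_eq_one.mp hidx

end Cfsg.Agent.Lib.Helper92_OutNorm2
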