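import Cfsg.Agent.Lib.Helper92_Co2Cent
import Cfsg.Agent.Lib.Helper92_Co3Gen
import Cfsg.Agent.Lib.Helper92_McLGen
import Cfsg.Agent.Lib.Helper92_OutNorm2
import Cfsg.Agent.S0402
import Cfsg.Agent.S0404
import Cfsg.Agent.S0376

/-!
The stabiliser of `(-3, 1^23)` in the automorphism group of the rank-24 lattice is generated by
the coordinate permutations `a : x ↦ x + 1`, `d : x ↦ 2 x`, the cube twist `c` and an involution
`w` inverting `d` and commuting with `c`.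

The subgroup `K` they generate contains the coordinate permutations fixing `∞` (of order
`10200960`) and the common stabiliser of `(-3, 1^23)` and `(4, 4, 0^22)` (of order `898128000`;
it has a maximal subgroup of coordinate permutations, and an explicit word in the generators lies
in it and is not monomial).  As `K` contains the normalisers of `⟨a⟩` and `⟨d⟩`, its index is
congruent to `1` modulo `23` and `11`; it divides `2^11`, so it is `1`.
-/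

set_option autoImplicit false
set_option linter.constructorNameAsVariable false
open Cfsg
open scoped Pointwise

namespace Cfsg.Agent.Lib.Helper92_Co2Gen

open Cfsg.Agent.Lib.Helper7_M24 Cfsg.Agent.Lib.Helper7_Leech Cfsg.Agent.Lib.Helper92_Monomial
  Cfsg.Agent.Lib.Helper92_Co0Order Cfsg.Agent.Lib.Helper7_Mono Cfsg.Agent.Lib.Helper92_FixMono
  Cfsg.Agent.Lib.Helper92_FixLat Cfsg.Agent.Lib.Helper92_ZElt Cfsg.Agent.Lib.Helper92_QuadAut
  Cfsg.Agent.Lib.Helper93_OutM24 Cfsg.Agent.Lib.Helper93_M24Obj Cfsg.Agent.Lib.Helper92_Co3Cent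
  Cfsg.Agent.Lib.Helper92_Co2Cent Cfsg.Agent.Lib.Helper92_Co3Gen
  Cfsg.Agent.Lib.Helper7_Bits Cfsg.Agent.Lib.Helper92_OutNorm2 Cfsg.Agent.Lib.Helper93_OutAbs
open Cfsg.Agent.Lib.Helper7_Xi (vecL)
open Cfsg.Agent.S5546 (Lam vec8 e8)
open Cfsg.Spor (vecV vecU vecU' leechU leechU' leechV)
open MulAction

/-! ### the involution `w` -/

/-- The code word of the squares. -/
def eQ : ↥golayCode := ⟨qrWord 0, qrWord_mem 0⟩

/-- The sign change on the squares. -/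
def EQ : ↥Co0 := eps eQ

/-- The involution `w`. -/
noncomputable def wE : ↥Co0 := PB * (EQ * zE)

theorem wE_smul (x : Lam) : wE • x = PB • (EQ • (zE • x)) := rfl

theorem qr_inv_D : ∀ p : GolayPt, qrWord 0 (Option.map (fun x => 2 * x) p) = qrWord 0 p := by
  decide +kernel

theorem qr_inv_C : ∀ p : GolayPt, qrWord 0 (cubeTwistFun p) = qrWord 0 p := by
  decide +kernel

theorem act_eQ (σ : ↥M24) (h : ∀ p, qrWord 0 (σ.1 p) = qrWord 0 p) : act σ eQ = eQ := by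
  apply Subtype.ext
  rw [act_coe]
  funext p
  rw [permWord_apply]
  show qrWord 0 (σ.1.symm p) = qrWord 0 p
  have := h (σ.1.symm p)
  rw [Equiv.apply_symm_apply] at this
  exact this.symm

theorem EQ_PD : EQ * PD = PD * EQ := by
  show eps eQ * perm mD = perm mD * eps eQ
  rw [perm_mul_eps, act_eQ mD (fun p => by rw [show mD.1 = gD from rfl, gD_apply]; exact qr_inv_D p)]

theorem EQ_PC : EQ * PC = PC * EQ := by
  show eps eQ * perm mC = perm mC * eps eQ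
  rw [perm_mul_eps, act_eQ mC (fun p => by rw [show mC.1 = gC from rfl, gC_apply]; exact qr_inv_C p)]

theorem PB_PD : PB * PD * PB⁻¹ = PD⁻¹ := by
  show permHom mB * permHom mD * (permHom mB)⁻¹ = (permHom mD)⁻¹
  rw [← map_inv, ← map_mul, ← map_mul, ← map_inv]
  exact congrArg permHom (Subtype.ext rel_BD)

theorem gB_gC : gB * gC = gC * gB := by
  apply Equiv.ext
  intro p
  show gB (gC p) = gC (gB p)
  rw [gC_apply, gB_apply, gB_apply, gC_apply]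
  revert p
  decide

theorem PB_PC : PB * PC = PC * PB := by
  show permHom mB * permHom mC = permHom mC * permHom mB
  rw [← map_mul, ← map_mul]
  exact congrArg permHom (Subtype.ext gB_gC)

theorem conj_aux {G : Type*} [Group G] (b y d : G) (h1 : y * d = d * y)
    (h2 : b * d * b⁻¹ = d⁻¹) : (b * y) * d * (b * y)⁻¹ = d⁻¹ := by
  have e : y * d * y⁻¹ = d := by
    rw [h1]; group
  calc (b * y) * d * (b * y)⁻¹ = b * (y * d * y⁻¹) * b⁻¹ := by group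
    _ = d⁻¹ := by rw [e, h2]

theorem wE_PD : wE * PD * wE⁻¹ = PD⁻¹ := by
  have h1 : EQ * zE * PD = PD * (EQ * zE) := by
    rw [mul_assoc, zE_PD, ← mul_assoc, EQ_PD, mul_assoc]
  exact conj_aux PB (EQ * zE) PD h1 PB_PD

theorem wE_PC : wE * PC = PC * wE := by
  have h1 : EQ * zE * PC = PC * (EQ * zE) := by
    rw [mul_assoc, zE_PC, ← mul_assoc, EQ_PC, mul_assoc]
  show PB * (EQ * zE) * PC = PC * (PB * (EQ * zE))
  rw [mul_assoc, h1, ← mul_assoc, PB_PC, mul_assoc]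

/-! ### evaluating words -/

/-- The check for a step by the sign change. -/
def EOK (l l' : List ℤ) : Prop :=
  ∀ p : GolayPt, vecL l' p = if qrWord 0 p = 1 then -vecL l p else vecL l p

instance (l l' : List ℤ) : Decidable (EOK l l') := by
  unfold EOK
  infer_instance

theorem step_E (x : Lam) (l l' : List ℤ) (hx : (x : GolayPt → ℤ) = vecL l) (h : EOK l l') :
    ((EQ • x : Lam) : GolayPt → ℤ) = vecL l' := by
  show ((eps eQ • x : Lam) : GolayPt → ℤ) = vecL l'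
  rw [eps_apply, hx]
  funext p
  rw [h p]
  unfold signFlip
  have hm : p ∈ support₂ eQ.1 ↔ qrWord 0 p = 1 := mem_support₂ _ _
  by_cases hp : qrWord 0 p = 1
  · rw [if_pos hp, if_pos (hm.mpr hp)]
  · rw [if_neg hp, if_neg (fun h' => hp (hm.mp h'))]

theorem step_B (x : Lam) (l l' : List ℤ) (hx : (x : GolayPt → ℤ) = vecL l)
    (h : PermOK projInvFun l l') :
    ((PB • x : Lam) : GolayPt → ℤ) = vecL l' :=
  step_perm mB _ gB_apply x l l' hx h

/-- `w` fixes `(-3, 1^23)`. -/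
theorem wE_fix : wE • RL = RL := by
  have h0 : ((RL : Lam) : GolayPt → ℤ) =
      vecL [1, 1, 1, 1, 1, 1, 1, 1, 1, 1, 1, 1, 1, 1, 1, 1, 1, 1, 1, 1, 1, 1, 1, -3] := by
    funext p
    show (-(vecV + vec8 none)) p = _
    revert p
    decide
  have h1 := step_Z RL _
    [3, -1, -1, -1, -1, 1, -1, 1, -1, -1, 1, 1, -1, -1, 1, 1, -1, 1, -1, 1, 1, 1, 1, 1] h0
    (by decide +kernel)
  have h2 := step_E (zE • RL) _
    [-3, 1, 1, 1, 1, 1, 1, 1, 1, 1, 1, 1, 1, 1, 1, 1, 1, 1, 1, 1, 1, 1, 1, 1] h1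
    (by decide +kernel)
  have h3 := step_B (EQ • (zE • RL)) _
    [1, 1, 1, 1, 1, 1, 1, 1, 1, 1, 1, 1, 1, 1, 1, 1, 1, 1, 1, 1, 1, 1, 1, -3] h2
    (by decide +kernel)
  apply Subtype.ext
  rw [h0]
  exact h3

/-! ### the subgroup generated by the four elements -/

/-- The subgroup generated by `a`, `d`, `c` and `w`. -/
def K2 : Subgroup ↥Co0 := Subgroup.closure {PA, PD, PC, wE}

theorem PA_mem2 : PA ∈ K2 := Subgroup.subset_closure (by simp)
theorem PD_mem2 : PD ∈ K2 := Subgroup.subset_closure (by simp)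
theorem PC_mem2 : PC ∈ K2 := Subgroup.subset_closure (by simp)
theorem wE_mem2 : wE ∈ K2 := Subgroup.subset_closure (by simp)

theorem K2_fix (g : ↥Co0) (hg : g ∈ K2) : g • RL = RL := by
  have hle : K2 ≤ stabilizer ↥Co0 RL := by
    unfold K2
    rw [Subgroup.closure_le]
    rintro x (rfl | rfl | rfl | rfl)
    · exact PA_fix_RL
    · exact PD_fix_RL
    · exact PC_fix_RL
    · exact wE_fix
  exact hle hg

/-- The coordinate permutations fixing `∞` lie in a subgroup containing `a`, `d`, `c`. -/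
theorem perm_mem_of (L : Subgroup ↥Co0) (hA : PA ∈ L) (hD : PD ∈ L) (hC : PC ∈ L) (σ : ↥M24)
    (h : σ.1 none = none) : perm σ ∈ L := by
  have h1 : σ.1 ∈ K3 := mem_K3 σ.1 σ.2 h
  have h2 : K3 = (Subgroup.closure ({mA, mD, mC} : Set ↥M24)).map M24.subtype := by
    rw [MonoidHom.map_closure]
    unfold K3
    congr 1
    ext x
    simp only [Set.mem_insert_iff, Set.mem_singleton_iff, Set.mem_image]
    constructor
    · rintro (rfl | rfl | rfl)
      · exact ⟨mA, Or.inl rfl, rfl⟩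
      · exact ⟨mD, Or.inr (Or.inl rfl), rfl⟩
      · exact ⟨mC, Or.inr (Or.inr rfl), rfl⟩
    · rintro ⟨y, (rfl | rfl | rfl), rfl⟩
      · exact Or.inl rfl
      · exact Or.inr (Or.inl rfl)
      · exact Or.inr (Or.inr rfl)
  rw [h2] at h1
  obtain ⟨τ, hτ, hτσ⟩ := h1
  have e : τ = σ := Subtype.ext hτσ
  rw [e] at hτ
  have h3 : (Subgroup.closure ({mA, mD, mC} : Set ↥M24)).map permHom ≤ L := by
    rw [MonoidHom.map_closure, Subgroup.closure_le]
    rintro x ⟨y, (rfl | rfl | rfl), rfl⟩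
    · exact hA
    · exact hD
    · exact hC
  exact h3 ⟨σ, hτ, rfl⟩

theorem perm_mem2 (σ : ↥M24) (h : σ.1 none = none) : perm σ ∈ K2 :=
  perm_mem_of K2 PA_mem2 PD_mem2 PC_mem2 σ h

/-- An element of the subgroup fixing `(4, 4, 0^22)` and moving `(4, -4, 0^22)`. -/
noncomputable def sW2 : ↥Co0 :=
  PA⁻¹ * (wE * (PA⁻¹ * (PC * (PA * (PD * (PC * (PA⁻¹ * (wE * PA))))))))

theorem sW2_mem : sW2 ∈ K2 := by
  unfold sW2
  have hA := PA_mem2
  have hD := PD_mem2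
  have hC := PC_mem2
  have hW := wE_mem2
  have hAi := K2.inv_mem hA
  exact K2.mul_mem hAi (K2.mul_mem hW (K2.mul_mem hAi (K2.mul_mem hC (K2.mul_mem hA
    (K2.mul_mem hD (K2.mul_mem hC (K2.mul_mem hAi (K2.mul_mem hW hA))))))))

theorem chain2_U : ((sW2 • UL : Lam) : GolayPt → ℤ) = vecL [4, 0, 0, 0, 0, 0, 0, 0, 0, 0, 0, 0, 0, 0, 0, 0, 0, 0, 0, 0, 0, 0, 0, 4] := by
  have h0 : ((UL : Lam) : GolayPt → ℤ) = vecL [4, 0, 0, 0, 0, 0, 0, 0, 0, 0, 0, 0, 0, 0, 0, 0, 0, 0, 0, 0, 0, 0, 0, 4] := by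
    funext p; revert p; decide
  have h1 := step_A (UL) _ [0, 4, 0, 0, 0, 0, 0, 0, 0, 0, 0, 0, 0, 0, 0, 0, 0, 0, 0, 0, 0, 0, 0, 4] h0 (by decide +kernel)
  have h2 := step_Z (PA • UL) _ [-1, -1, 1, 1, 1, 1, 1, -1, 1, 1, -1, -1, 1, 1, 1, 1, 1, -1, 1, 1, 1, 1, -1, 3] h1 (by decide +kernel)
  have h3 := step_E (zE • (PA • UL)) _ [1, 1, -1, -1, -1, 1, -1, -1, -1, -1, -1, -1, -1, -1, 1, 1, -1, -1, -1, 1, 1, 1, -1, 3] h2 (by decide +kernel)
  have h4 := step_B (EQ • (zE • (PA • UL))) _ [3, -1, -1, 1, -1, -1, 1, -1, 1, 1, -1, -1, 1, -1, -1, -1, -1, -1, 1, -1, -1, -1, 1, 1] h3 (by decide +kernel)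
  have h5 := step_Ainv (PB • (EQ • (zE • (PA • UL)))) _ [-1, -1, 1, -1, -1, 1, -1, 1, 1, -1, -1, 1, -1, -1, -1, -1, -1, 1, -1, -1, -1, 1, 3, 1] h4 (by decide +kernel)
  have h6 := step_C (PA⁻¹ • (PB • (EQ • (zE • (PA • UL))))) _ [-1, -1, -1, -1, -1, 1, 1, -1, -1, -1, -1, 1, -1, -1, 3, -1, 1, -1, -1, 1, 1, 1, -1, 1] h5 (by decide +kernel)
  have h7 := step_D (PC • (PA⁻¹ • (PB • (EQ • (zE • (PA • UL)))))) _ [-1, -1, -1, -1, -1, 3, -1, -1, -1, 1, 1, -1, 1, -1, -1, 1, -1, 1, -1, 1, -1, -1, 1, 1] h6 (by decide +kernel)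
  have h8 := step_A (PD • (PC • (PA⁻¹ • (PB • (EQ • (zE • (PA • UL))))))) _ [1, -1, -1, -1, -1, -1, 3, -1, -1, -1, 1, 1, -1, 1, -1, -1, 1, -1, 1, -1, 1, -1, -1, 1] h7 (by decide +kernel)
  have h9 := step_C (PA • (PD • (PC • (PA⁻¹ • (PB • (EQ • (zE • (PA • UL)))))))) _ [1, 3, -1, -1, 1, -1, -1, 1, -1, 1, 1, -1, -1, 1, -1, -1, -1, -1, -1, 1, -1, -1, -1, 1] h8 (by decide +kernel)
  have h10 := step_Ainv (PC • (PA • (PD • (PC • (PA⁻¹ • (PB • (EQ • (zE • (PA • UL))))))))) _ [3, -1, -1, 1, -1, -1, 1, -1, 1, 1, -1, -1, 1, -1, -1, -1, -1, -1, 1, -1, -1, -1, 1, 1] h9 (by decide +kernel)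
  have h11 := step_Z (PA⁻¹ • (PC • (PA • (PD • (PC • (PA⁻¹ • (PB • (EQ • (zE • (PA • UL)))))))))) _ [-4, 0, 0, 0, 0, 0, 0, 0, 0, 0, 0, 0, 0, 0, 0, 0, 0, 0, 0, 0, 0, 0, 4, 0] h10 (by decide +kernel)
  have h12 := step_E (zE • (PA⁻¹ • (PC • (PA • (PD • (PC • (PA⁻¹ • (PB • (EQ • (zE • (PA • UL))))))))))) _ [4, 0, 0, 0, 0, 0, 0, 0, 0, 0, 0, 0, 0, 0, 0, 0, 0, 0, 0, 0, 0, 0, 4, 0] h11 (by decide +kernel)
  have h13 := step_B (EQ • (zE • (PA⁻¹ • (PC • (PA • (PD • (PC • (PA⁻¹ • (PB • (EQ • (zE • (PA • UL)))))))))))) _ [0, 4, 0, 0, 0, 0, 0, 0, 0, 0, 0, 0, 0, 0, 0, 0, 0, 0, 0, 0, 0, 0, 0, 4] h12 (by decide +kernel)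
  have h14 := step_Ainv (PB • (EQ • (zE • (PA⁻¹ • (PC • (PA • (PD • (PC • (PA⁻¹ • (PB • (EQ • (zE • (PA • UL))))))))))))) _ [4, 0, 0, 0, 0, 0, 0, 0, 0, 0, 0, 0, 0, 0, 0, 0, 0, 0, 0, 0, 0, 0, 0, 4] h13 (by decide +kernel)
  exact h14

theorem chain2_U' : ((sW2 • UL' : Lam) : GolayPt → ℤ) = vecL [-2, 0, 0, 0, 0, -2, 0, 0, 0, 0, -2, 0, 0, -2, -2, 2, 0, 0, 0, 0, 0, 0, -2, 2] := by
  have h0 : ((UL' : Lam) : GolayPt → ℤ) = vecL [-4, 0, 0, 0, 0, 0, 0, 0, 0, 0, 0, 0, 0, 0, 0, 0, 0, 0, 0, 0, 0, 0, 0, 4] := by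
    funext p; revert p; decide
  have h1 := step_A (UL') _ [0, -4, 0, 0, 0, 0, 0, 0, 0, 0, 0, 0, 0, 0, 0, 0, 0, 0, 0, 0, 0, 0, 0, 4] h0 (by decide +kernel)
  have h2 := step_Z (PA • UL') _ [-1, 3, 1, 1, 1, -1, 1, 1, 1, 1, 1, 1, 1, 1, -1, -1, 1, 1, 1, -1, -1, -1, 1, 1] h1 (by decide +kernel)
  have h3 := step_E (zE • (PA • UL')) _ [1, -3, -1, -1, -1, -1, -1, 1, -1, -1, 1, 1, -1, -1, -1, -1, -1, 1, -1, -1, -1, -1, 1, 1] h2 (by decide +kernel)
  have h4 := step_B (EQ • (zE • (PA • UL'))) _ [1, 1, 1, -1, 1, -1, -1, -1, -1, -1, -1, -1, -1, 1, -1, -1, 1, -1, -1, -1, -1, -1, -3, 1] h3 (by decide +kernel)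
  have h5 := step_Ainv (PB • (EQ • (zE • (PA • UL')))) _ [1, 1, -1, 1, -1, -1, -1, -1, -1, -1, -1, -1, 1, -1, -1, 1, -1, -1, -1, -1, -1, -3, 1, 1] h4 (by decide +kernel)
  have h6 := step_C (PA⁻¹ • (PB • (EQ • (zE • (PA • UL'))))) _ [1, -1, -1, 1, -1, -1, -1, -1, 1, -1, -1, -1, -1, -1, 1, 1, -1, -1, 1, -1, -3, -1, -1, 1] h5 (by decide +kernel)
  have h7 := step_D (PC • (PA⁻¹ • (PB • (EQ • (zE • (PA • UL')))))) _ [1, -1, -1, -1, -1, 1, 1, 1, -1, -1, -1, -1, -1, 1, -1, -1, 1, -3, -1, -1, -1, -1, -1, 1] h6 (by decide +kernel)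
  have h8 := step_A (PD • (PC • (PA⁻¹ • (PB • (EQ • (zE • (PA • UL'))))))) _ [-1, 1, -1, -1, -1, -1, 1, 1, 1, -1, -1, -1, -1, -1, 1, -1, -1, 1, -3, -1, -1, -1, -1, 1] h7 (by decide +kernel)
  have h9 := step_C (PA • (PD • (PC • (PA⁻¹ • (PB • (EQ • (zE • (PA • UL')))))))) _ [-1, 1, -1, -1, -3, 1, -1, -1, -1, -1, -1, 1, -1, -1, -1, -1, 1, 1, 1, -1, -1, -1, -1, 1] h8 (by decide +kernel)
  have h10 := step_Ainv (PC • (PA • (PD • (PC • (PA⁻¹ • (PB • (EQ • (zE • (PA • UL'))))))))) _ [1, -1, -1, -3, 1, -1, -1, -1, -1, -1, 1, -1, -1, -1, -1, 1, 1, 1, -1, -1, -1, -1, -1, 1] h9 (by decide +kernel)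
  have h11 := step_Z (PA⁻¹ • (PC • (PA • (PD • (PC • (PA⁻¹ • (PB • (EQ • (zE • (PA • UL')))))))))) _ [-2, 0, 2, 2, 0, 0, 0, 0, 0, 0, 2, 0, 0, 0, 0, 0, 0, 0, 2, -2, 0, 0, -2, -2] h10 (by decide +kernel)
  have h12 := step_E (zE • (PA⁻¹ • (PC • (PA • (PD • (PC • (PA⁻¹ • (PB • (EQ • (zE • (PA • UL'))))))))))) _ [2, 0, -2, -2, 0, 0, 0, 0, 0, 0, 2, 0, 0, 0, 0, 0, 0, 0, -2, -2, 0, 0, -2, -2] h11 (by decide +kernel)
  have h13 := step_B (EQ • (zE • (PA⁻¹ • (PC • (PA • (PD • (PC • (PA⁻¹ • (PB • (EQ • (zE • (PA • UL')))))))))))) _ [-2, -2, 0, 0, 0, 0, -2, 0, 0, 0, 0, -2, 0, 0, -2, -2, 2, 0, 0, 0, 0, 0, 0, 2] h12 (by decide +kernel)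
  have h14 := step_Ainv (PB • (EQ • (zE • (PA⁻¹ • (PC • (PA • (PD • (PC • (PA⁻¹ • (PB • (EQ • (zE • (PA • UL'))))))))))))) _ [-2, 0, 0, 0, 0, -2, 0, 0, 0, 0, -2, 0, 0, -2, -2, 2, 0, 0, 0, 0, 0, 0, -2, 2] h13 (by decide +kernel)
  exact h14
theorem sW2_UL : sW2 • UL = UL := by
  apply Subtype.ext
  rw [chain2_U]
  funext p
  revert p
  decide

theorem sW2_UL' : sW2 • UL' ≠ UL' := by
  intro h
  have e : ((sW2 • UL' : Lam) : GolayPt → ℤ) (some 0) = (UL' : GolayPt → ℤ) (some 0) := by rw [h]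
  rw [chain2_U'] at e
  revert e
  show ¬ (vecL _ (some 0) = vecU' (some 0))
  decide

/-! ### the common stabiliser of `(-3, 1^23)` and `(4, 4, 0^22)` -/

theorem norm_RL' : sqNorm (RL : GolayPt → ℤ) = 32 := norm_RL

theorem dot_UL_RL : dotInt (UL : GolayPt → ℤ) (RL : GolayPt → ℤ) = -8 := by
  rw [Cfsg.Agent.Lib.Helper26_HSPair.dot_comm]
  exact dot_RL_UL

theorem negUL'_mem : -UL' ∈ Cfsg.Agent.Lib.Helper92_McLGen.XM UL RL := by
  refine ⟨?_, ?_, ?_⟩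
  · show sqNorm (-vecU') = 32
    decide +kernel
  · show dotInt vecU (-vecU') = 0
    decide +kernel
  · show dotInt (-(vecV + vec8 none)) (-vecU') = 16
    decide +kernel

theorem fix_neg_iff (g : ↥Co0) (x : Lam) : g • (-x) = -x ↔ g • x = x := by
  rw [smul_neg3, neg_inj]

/-- The common stabiliser of `(4, 4, 0^22)` and `(-3, 1^23)` lies in the subgroup. -/
theorem mcl_le (g : ↥Co0) (hU : g • UL = UL) (hR : g • RL = RL) : g ∈ K2 := by
  refine Cfsg.Agent.Lib.Helper92_McLGen.mcl_max UL RL (-UL') norm_UL norm_RL' dot_UL_RL negUL'_mem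
    K2 ?_ sW2 sW2_mem sW2_UL (K2_fix sW2 sW2_mem) ?_ g hU hR
  · intro g h1 h2 h3
    have h4 : g • UL' = UL' := (fix_neg_iff g UL').mp h3
    have h8 : g • e8 none = e8 none := by
      rw [e8_eq, smul_add', h1, h4]
    have hV : g • VL = VL := by
      rw [VL_eq_neg, smul_neg3, smul_add', h2, h8]
    obtain ⟨σ, hσ, rfl⟩ := mono_of_fix g h8 hV
    exact perm_mem2 σ hσ
  · intro h
    exact sW2_UL' ((fix_neg_iff sW2 UL').mp h)

/-! ### the elements of the stabiliser -/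

/-- The stabiliser of `(-3, 1^23)`. -/
abbrev G2 : Subgroup ↥Co0 := stabilizer ↥Co0 RL

instance finiteG2 : Finite ↥G2 := inferInstance

/-- The four generators. -/
noncomputable def a2 : ↥G2 := ⟨PA, PA_fix_RL⟩
noncomputable def d2 : ↥G2 := ⟨PD, PD_fix_RL⟩
noncomputable def c2 : ↥G2 := ⟨PC, PC_fix_RL⟩
noncomputable def w2 : ↥G2 := ⟨wE, wE_fix⟩

theorem perm_inj {σ τ : ↥M24} (h : perm σ = perm τ) : σ = τ := by
  have h2 : eps 0 * perm σ = eps 0 * perm τ := by rw [h]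
  exact (mono_injective h2).1

theorem permHom_inj : Function.Injective permHom := fun _ _ h => perm_inj h

theorem PA_eq : PA = permHom mA := rfl
theorem PD_eq : PD = permHom mD := rfl
theorem PC_eq : PC = permHom mC := rfl

theorem a2_pow : a2 ^ 23 = 1 := by
  apply Subtype.ext
  show PA ^ 23 = 1
  rw [PA_eq, ← map_pow, show mA ^ 23 = 1 from Subtype.ext gA_pow, map_one]

theorem d2_pow : d2 ^ 11 = 1 := by
  apply Subtype.ext
  show PD ^ 11 = 1
  rw [PD_eq, ← map_pow, show mD ^ 11 = 1 from Subtype.ext gD_pow, map_one]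

theorem a2_ne : a2 ≠ 1 := by
  intro h
  apply PA_UL'
  have : PA = 1 := congrArg Subtype.val h
  rw [this, one_smul]

theorem d2_ne : d2 ≠ 1 := by
  intro h
  have h1 : PD = 1 := congrArg Subtype.val h
  rw [PD_eq, ← map_one permHom] at h1
  have h2 : mD = 1 := permHom_inj h1
  have h3 : gD = 1 := congrArg Subtype.val h2
  have h4 : gD (some 1) = some 1 := by rw [h3]; rfl
  rw [gD_apply] at h4
  revert h4
  decide

theorem rel2_DA : d2 * a2 * d2⁻¹ = a2 ^ 2 := by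
  apply Subtype.ext
  show PD * PA * PD⁻¹ = PA ^ 2
  rw [PA_eq, PD_eq, ← map_inv, ← map_mul, ← map_mul, ← map_pow,
    show mD * mA * mD⁻¹ = mA ^ 2 from Subtype.ext rel_DA]

theorem rel2_CD : c2 * d2 * c2⁻¹ = d2 ^ 3 := by
  apply Subtype.ext
  show PC * PD * PC⁻¹ = PD ^ 3
  rw [PC_eq, PD_eq, ← map_inv, ← map_mul, ← map_mul, ← map_pow,
    show mC * mD * mC⁻¹ = mD ^ 3 from Subtype.ext rel_CD]

theorem rel2_AC6 : (a2 * c2) ^ 6 = 1 := by
  apply Subtype.ext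
  show (PA * PC) ^ 6 = 1
  rw [PA_eq, PC_eq, ← map_mul, ← map_pow, show (mA * mC) ^ 6 = 1 from Subtype.ext rel_AC6,
    map_one]

theorem rel2_ACC5 : (a2 * c2 ^ 2) ^ 5 = 1 := by
  apply Subtype.ext
  show (PA * PC ^ 2) ^ 5 = 1
  rw [PA_eq, PC_eq, ← map_pow, ← map_mul, ← map_pow,
    show (mA * mC ^ 2) ^ 5 = 1 from Subtype.ext rel_ACC5, map_one]

theorem rel2_WD : w2 * d2 * w2⁻¹ = d2⁻¹ := Subtype.ext wE_PD

theorem rel2_WC : w2 * c2 = c2 * w2 := Subtype.ext wE_PC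

theorem hyp2_Ca (g : ↥G2) (h : g * a2 = a2 * g) : g ∈ Subgroup.zpowers a2 := by
  apply mem_zpowers_of
  exact cent_PA2 g.1 g.2 (congrArg Subtype.val h)

theorem hyp2_Cd (g : ↥G2) (h : g * d2 = d2 * g) : g ∈ Subgroup.zpowers d2 := by
  apply mem_zpowers_of
  exact cent_PD2 g.1 g.2 (congrArg Subtype.val h)

theorem hyp2_pin (k : ℕ) (hk : k ∈ ([1, 22] : List ℕ)) (i : ℕ) (hi : i < 11)
    (h6 : (a2 ^ k * (c2 * d2 ^ i)) ^ 6 = 1)
    (h5 : (a2 ^ k * (c2 * d2 ^ i) ^ 2) ^ 5 = 1) : k = 1 ∧ i = 0 := by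
  have e6 : (PA ^ k * (PC * PD ^ i)) ^ 6 = 1 := congrArg Subtype.val h6
  have e5 : (PA ^ k * (PC * PD ^ i) ^ 2) ^ 5 = 1 := congrArg Subtype.val h5
  rw [PA_eq, PC_eq, PD_eq, ← map_pow, ← map_pow, ← map_mul, ← map_mul, ← map_pow,
    ← map_one permHom] at e6
  rw [PA_eq, PC_eq, PD_eq, ← map_pow, ← map_pow, ← map_mul, ← map_pow, ← map_mul, ← map_pow,
    ← map_one permHom] at e5
  have f6 := permHom_inj e6
  have f5 := permHom_inj e5
  exact pin k hk i hi (congrArg Subtype.val f6) (congrArg Subtype.val f5)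

theorem card_G2 : Nat.card ↥G2 = 42305421312000 :=
  (Cfsg.Agent.S0402.result RL norm_RL').2

/-! ### generation -/

/-- The subgroup generated by the four elements, inside the stabiliser. -/
def KG : Subgroup ↥G2 := K2.subgroupOf G2

theorem mem_KG (g : ↥G2) : g ∈ KG ↔ g.1 ∈ K2 := Subgroup.mem_subgroupOf

theorem fac_eq_one (p s : ℕ) (hp : p.Prime) (hs0 : s ≠ 0) (hs : ¬ p ∣ s) :
    (p * s).factorization p = 1 := by
  rw [Nat.factorization_mul hp.ne_zero hs0]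
  have h55 : (Nat.factorization p) p = 1 := Nat.Prime.factorization_self hp
  simp [h55, Nat.factorization_eq_zero_of_not_dvd hs]

theorem index23 : KG.index ≡ 1 [MOD 23] := by
  haveI : Fact (Nat.Prime 23) := ⟨by norm_num⟩
  apply index_modEq_one 23 KG a2 (orderOf_eq_prime a2_pow a2_ne)
  · rw [card_G2, show 42305421312000 = 23 * 1839366144000 from by norm_num]
    exact fac_eq_one 23 _ (by norm_num) (by norm_num) (by norm_num)
  · intro g hg
    have hg' : g⁻¹ ∈ Subgroup.normalizer (Subgroup.zpowers a2 : Set ↥G2) :=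
      (Subgroup.normalizer (Subgroup.zpowers a2 : Set ↥G2)).inv_mem hg
    have hmem : g⁻¹ * a2 * g⁻¹⁻¹ ∈ Subgroup.zpowers a2 :=
      (Subgroup.mem_normalizer_iff.mp hg' a2).mp (Subgroup.mem_zpowers a2)
    obtain ⟨k, hk⟩ := Subgroup.mem_zpowers_iff.1 hmem
    rw [inv_inv] at hk
    have hk' : a2 * g = g * a2 ^ k := by
      rw [hk]; group
    have hk'' : PA * g.1 = g.1 * PA ^ k := by
      have := congrArg Subtype.val hk'
      rw [Subgroup.coe_mul, Subgroup.coe_mul, Subgroup.coe_zpow] at this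
      exact this
    obtain ⟨σ, hσ, hgσ⟩ := mono_of_norm_PA g.1 g.2 k hk''
    rw [mem_KG, hgσ]
    exact perm_mem2 σ hσ

theorem index11 : KG.index ≡ 1 [MOD 11] := by
  haveI : Fact (Nat.Prime 11) := ⟨by norm_num⟩
  apply index_modEq_one 11 KG d2 (orderOf_eq_prime d2_pow d2_ne)
  · rw [card_G2, show 42305421312000 = 11 * 3845947392000 from by norm_num]
    exact fac_eq_one 11 _ (by norm_num) (by norm_num) (by norm_num)
  · exact normalizer_le_of d2 c2 w2 d2_pow rel2_CD rel2_WD hyp2_Cd KG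
      ((mem_KG d2).mpr PD_mem2) ((mem_KG c2).mpr PC_mem2) ((mem_KG w2).mpr wE_mem2)

/-- The group of the coordinate permutations fixing `∞`. -/
def H1 : Subgroup ↥Co0 := (stabilizer ↥M24 (none : GolayPt)).map permHom

theorem card_H1 : Nat.card ↥H1 = 10200960 := by
  unfold H1
  rw [Subgroup.card_map_of_injective permHom_inj]
  exact Cfsg.Agent.S0376.result none

theorem H1_le : H1 ≤ K2 := by
  rintro x ⟨σ, hσ, rfl⟩
  exact perm_mem2 σ (by
    have := mem_stabilizer_iff.mp hσ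
    exact this)

/-- The common stabiliser of `(4, 4, 0^22)` and `(-3, 1^23)`. -/
abbrev H2 : Subgroup ↥Co0 := stabilizer ↥Co0 UL ⊓ stabilizer ↥Co0 RL

theorem card_H2 : Nat.card ↥H2 = 898128000 :=
  (Cfsg.Agent.S0404.result UL RL norm_UL norm_RL' dot_UL_RL).2

theorem H2_le : H2 ≤ K2 := fun g hg => mcl_le g hg.1 hg.2

theorem card_subgroupOf (H : Subgroup ↥Co0) (h : H ≤ G2) :
    Nat.card ↥(H.subgroupOf G2) = Nat.card ↥H :=
  Nat.card_congr (Subgroup.subgroupOfEquivOfLe h).toEquiv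

theorem KG_top : KG = ⊤ := by
  have hK2 : K2 ≤ G2 := fun g hg => K2_fix g hg
  apply eq_top_of_index KG card_G2 index23 index11 (H1.subgroupOf G2) (H2.subgroupOf G2)
  · intro g hg
    rw [mem_KG]
    exact H1_le (Subgroup.mem_subgroupOf.mp hg)
  · intro g hg
    rw [mem_KG]
    exact H2_le (Subgroup.mem_subgroupOf.mp hg)
  · rw [card_subgroupOf H1 (H1_le.trans hK2), card_H1]
  · rw [card_subgroupOf H2 (H2_le.trans hK2), card_H2]

/-- The stabiliser of `(-3, 1^23)` lies in the subgroup. -/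
theorem stab_le2 (g : ↥Co0) (hR : g • RL = RL) : g ∈ K2 := by
  have : (⟨g, hR⟩ : ↥G2) ∈ KG := by rw [KG_top]; exact Subgroup.mem_top _
  exact (mem_KG _).mp this

end Cfsg.Agent.Lib.Helper92_Co2Gen
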