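import Cfsg.Agent.Lib.Helper92_MaxMain

/-!
The stabiliser of `v0 = 4 e_4 - 4 e_13` in the automorphism group of the rank-24 lattice: its
monomial subgroup (the elements preserving the standard cross) is a maximal subgroup.  The proofs
of the homogeneity of the five classes are those of `Helper92_MaxStep`, restated for a group that
only contains the monomial elements fixing `v0`.
-/

set_option autoImplicit false
set_option linter.constructorNameAsVariable false
open Cfsg
open scoped Pointwise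

namespace Cfsg.Agent.Lib.Helper92_Co2

open Cfsg.Agent.Lib.Helper7_M24 Cfsg.Agent.Lib.Helper7_Leech Cfsg.Agent.Lib.Helper92_Monomial
  Cfsg.Agent.Lib.Helper92_LeechMod2 Cfsg.Agent.Lib.Helper92_Co0Order
  Cfsg.Agent.Lib.Helper92_OrthPairs Cfsg.Agent.Lib.Helper92_MaxN
open Cfsg.Agent.Lib.Helper26_Leech (pa pb pa_ne_pb v0 v0_apply dotInt_v0 v0_mem v0_norm census)
open Cfsg.Agent.Lib.Helper26_Co2 (v0L permVec_v0 signFlip_v0)
open Cfsg.Agent.Lib.Helper92_MaxRel (MonoRel)
open Cfsg.Agent.Lib.Helper92_MaxRel2 (StabRel)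
open Cfsg.Agent.S5546 (Lam vec8 e8)
open Cfsg.Agent.S0394 (sgn fO famA famB famO)

/-- The hypothesis that `L` contains the monomial automorphisms fixing `v0`. -/
def Contains2 (L : Subgroup ↥Co0) : Prop :=
  ∀ g : ↥Co0, Cfsg.Agent.S1571.P g → g • v0L = v0L → g ∈ L

variable {K : Subgroup ↥Co0}

theorem stabRel2 (hK : Contains2 K) : StabRel (RsK K) where
  refl := RsK.refl
  symm := RsK.symm
  trans := RsK.trans
  mem_right := RsK.mem_right
  perm := by
    intro x hx σ hσ ha hb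
    have hfix : mono σ hσ 0 golayCode.zero_mem • v0L = v0L := by
      apply Subtype.ext
      rw [mono_apply, Cfsg.Agent.S0400.support₂_zero', Cfsg.Agent.S0400.signFlip_empty]
      exact permVec_v0 σ ha hb
    refine ⟨mono σ hσ 0 golayCode.zero_mem, hK _ (mono_P _ _ _ _) hfix, hfix, hx, ?_⟩
    · rw [mono_apply, Cfsg.Agent.S0400.support₂_zero', Cfsg.Agent.S0400.signFlip_empty]
  flip := by
    intro x hx u hu hua hub
    have hfix : mono 1 M24.one_mem u hu • v0L = v0L := by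
      apply Subtype.ext
      rw [mono_apply, Cfsg.Agent.S0400.permVec_one]
      apply signFlip_v0
      · rw [mem_support₂, hua]; decide
      · rw [mem_support₂, hub]; decide
    refine ⟨mono 1 M24.one_mem u hu, hK _ (mono_P _ _ _ _) hfix, hfix, hx, ?_⟩
    · rw [mono_apply, Cfsg.Agent.S0400.permVec_one]


theorem exists_flip2 (hK : Contains2 K) :
    ∃ f : ↥Co0, f ∈ K ∧ f • v0L = v0L ∧ Cfsg.Agent.S1571.P f ∧
      ∀ w : Lam, ((f • w : Lam) : GolayPt → ℤ) pa = -(w : GolayPt → ℤ) pb ∧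
        ((f • w : Lam) : GolayPt → ℤ) pb = -(w : GolayPt → ℤ) pa := by
  obtain ⟨f, _, hf0, hfP, hf⟩ := exists_flip (K := ⊤) (fun g _ => Subgroup.mem_top g)
  exact ⟨f, hK f hfP hf0, hf0, hfP, hf⟩

theorem homog2 {K : Subgroup ↥Co0} (hK : Contains2 K) (F : Set (GolayPt → ℤ))
    (hF : ∀ x, x ∈ F → x ∈ leechLattice)
    (hP : ∀ g : ↥Co0, Cfsg.Agent.S1571.P g → ∀ v : Lam, (v : GolayPt → ℤ) ∈ F →
      ((g • v : Lam) : GolayPt → ℤ) ∈ F)
    (hrel : ∀ w w', w ∈ F → w' ∈ F → w pa = w' pa → w pb = w' pb → RsK K w w')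
    (w w' : GolayPt → ℤ) (hw : w ∈ F) (hw' : w' ∈ F) (hd : dotInt v0 w = 0)
    (hd' : dotInt v0 w' = 0) (h : w pa = w' pa ∨ w pa = -w' pa) : RsK K w w' := by
  rw [dotInt_v0] at hd hd'
  rcases h with h | h
  · exact hrel w w' hw hw' h (by omega)
  · obtain ⟨f, hfK, hf0, hfP, hf⟩ := exists_flip2 hK
    have h1 : RsK K w ((f • (⟨w, hF w hw⟩ : Lam) : Lam) : GolayPt → ℤ) :=
      ⟨f, hfK, hf0, hF w hw, rfl⟩
    have hmem := hP f hfP ⟨w, hF w hw⟩ hw
    obtain ⟨ha, hb⟩ := hf ⟨w, hF w hw⟩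
    have ha' : (⟨w, hF w hw⟩ : Lam).1 pb = w pb := rfl
    have hb' : (⟨w, hF w hw⟩ : Lam).1 pa = w pa := rfl
    refine RsK.trans h1 (hrel _ w' hmem hw' ?_ ?_)
    · rw [ha, ha']; omega
    · rw [hb, hb']; omega

theorem relA2 {K : Subgroup ↥Co0} (hK : Contains2 K) (w w' : GolayPt → ℤ) (hw : w ∈ famA)
    (hw' : w' ∈ famA) (ha : w pa = w' pa) (hb : w pb = w' pb) : RsK K w w' := by
  obtain ⟨P, N, hP, hN, rfl⟩ := hw
  obtain ⟨P', N', hP', hN', rfl⟩ := hw'
  exact Cfsg.Agent.Lib.Helper92_MaxRel2.rel_famA (stabRel2 hK) hP hN hP' hN' ha hb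

theorem relB2 {K : Subgroup ↥Co0} (hK : Contains2 K) (w w' : GolayPt → ℤ) (hw : w ∈ famB)
    (hw' : w' ∈ famB) (ha : w pa = w' pa) (hb : w pb = w' pb) : RsK K w w' := by
  obtain ⟨P, N, hP, hN, hE, rfl⟩ := hw
  obtain ⟨P', N', hP', hN', hE', rfl⟩ := hw'
  exact Cfsg.Agent.Lib.Helper92_MaxRel2.rel_famB (stabRel2 hK) hP hN hE hP' hN' hE' ha hb

theorem relO2 {K : Subgroup ↥Co0} (hK : Contains2 K) (w w' : GolayPt → ℤ) (hw : w ∈ famO)
    (hw' : w' ∈ famO) (ha : w pa = w' pa) (hb : w pb = w' pb) : RsK K w w' := by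
  obtain ⟨i, u, hu, rfl⟩ := hw
  obtain ⟨i', u', hu', rfl⟩ := hw'
  exact Cfsg.Agent.Lib.Helper92_MaxRel2.rel_famO (stabRel2 hK) hu hu' ha hb

theorem homog_clA1_2 {K : Subgroup ↥Co0} (hK : Contains2 K) :
    ∀ w ∈ clA1, ∀ w' ∈ clA1, RsK K w w' := by
  rintro w ⟨hw, hd, hne⟩ w' ⟨hw', hd', hne'⟩
  apply homog2 hK famA (fun x => famA_sub) P_famA (relA2 hK) w w' hw hw' hd hd'
  rcases famA_vals hw pa with h | h | h
  · exact absurd h hne
  · rcases famA_vals hw' pa with h' | h' | h'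
    · exact absurd h' hne'
    · left; rw [h, h']
    · right; rw [h, h']; rfl
  · rcases famA_vals hw' pa with h' | h' | h'
    · exact absurd h' hne'
    · right; rw [h, h']
    · left; rw [h, h']

theorem homog_clA0_2 {K : Subgroup ↥Co0} (hK : Contains2 K) :
    ∀ w ∈ clA0, ∀ w' ∈ clA0, RsK K w w' := by
  rintro w ⟨hw, hd, h0⟩ w' ⟨hw', hd', h0'⟩
  apply homog2 hK famA (fun x => famA_sub) P_famA (relA2 hK) w w' hw hw' hd hd'
  left
  rw [h0, h0']

theorem homog_clB1_2 {K : Subgroup ↥Co0} (hK : Contains2 K) :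
    ∀ w ∈ clB1, ∀ w' ∈ clB1, RsK K w w' := by
  rintro w ⟨hw, hd, hne⟩ w' ⟨hw', hd', hne'⟩
  apply homog2 hK famB (fun x => famB_sub) P_famB (relB2 hK) w w' hw hw' hd hd'
  rcases famB_vals hw pa with h | h | h
  · exact absurd h hne
  · rcases famB_vals hw' pa with h' | h' | h'
    · exact absurd h' hne'
    · left; rw [h, h']
    · right; rw [h, h']; rfl
  · rcases famB_vals hw' pa with h' | h' | h'
    · exact absurd h' hne'
    · right; rw [h, h']
    · left; rw [h, h']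

theorem homog_clB0_2 {K : Subgroup ↥Co0} (hK : Contains2 K) :
    ∀ w ∈ clB0, ∀ w' ∈ clB0, RsK K w w' := by
  rintro w ⟨hw, hd, h0⟩ w' ⟨hw', hd', h0'⟩
  apply homog2 hK famB (fun x => famB_sub) P_famB (relB2 hK) w w' hw hw' hd hd'
  left
  rw [h0, h0']

theorem homog_clO_2 {K : Subgroup ↥Co0} (hK : Contains2 K) :
    ∀ w ∈ clO, ∀ w' ∈ clO, RsK K w w' := by
  rintro w ⟨hw, hd⟩ w' ⟨hw', hd'⟩
  apply homog2 hK famO (fun x => famO_sub) P_famO (relO2 hK) w w' hw hw' hd hd'
  rcases famO_val hw hd with h | h <;> rcases famO_val hw' hd' with h' | h'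
  · left; rw [h, h']
  · right; rw [h, h']; rfl
  · right; rw [h, h']
  · left; rw [h, h']


theorem Cl5_homog2 {K : Subgroup ↥Co0} (hK : Contains2 K) :
    ∀ i, ∀ y ∈ Cl5 i, ∀ y' ∈ Cl5 i, RsK K y y' := by
  intro i
  fin_cases i
  · exact homog_clA1_2 hK
  · exact homog_clA0_2 hK
  · exact homog_clB1_2 hK
  · exact homog_clB0_2 hK
  · exact homog_clO_2 hK


/-! ### the dichotomy for groups containing the monomial elements fixing `v0` -/

/-- A group containing the monomial automorphisms fixing `v0` either has its stabiliser of `v0`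
transitive on the minimal vectors orthogonal to `v0`, or that stabiliser consists of monomial
automorphisms. -/
theorem dichotomy (hK : Contains2 K) :
    (∀ w, w ∈ leechLattice → sqNorm w = 32 → dotInt v0 w = 0 → RsK K bp w) ∨
      (∀ s ∈ K, s • v0L = v0L → Cfsg.Agent.S1571.P s) := by
  have hbpL : bp ∈ leechLattice := famA_sub bp_famA
  have hcov : {y : GolayPt → ℤ | RsK K bp y} ⊆ ⋃ i, Cl5 i := by
    intro y hy
    have hy' : RsK K bp y := hy
    have hn : sqNorm y = 32 := by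
      rw [hy'.sqNorm_eq]
      exact (fam_mem_lattice (Or.inl bp_famA)).2
    have hd : dotInt v0 y = 0 := by
      rw [hy'.dot_eq]
      exact bp_mem_clA1.2.1
    obtain ⟨i, hi⟩ := Cl5_cover hy'.mem_right hn hd
    exact Set.mem_iUnion.mpr ⟨i, hi⟩
  obtain ⟨e, he1, he0, hsum⟩ := ncard_of_classes {y : GolayPt → ℤ | RsK K bp y} Cl5 Cl5_finite
    Cl5_disj hcov
    (fun i => dich_of_homog (RsK K) (fun h1 h2 => RsK.trans h1 h2) bp (Cl5 i) (Cl5_homog2 hK i))
  have h0 : e 0 = true := by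
    by_contra h
    have h' : e 0 = false := by
      cases hh : e 0
      · rfl
      · exact absurd hh h
    exact Set.disjoint_left.mp (he0 0 h') bp_mem_clA1 (RsK.refl hbpL)
  have hsum' : {y : GolayPt → ℤ | RsK K bp y}.ncard =
      2 + (if e 1 = true then 924 else 0) + (if e 2 = true then 4928 else 0) +
        (if e 3 = true then 42240 else 0) + (if e 4 = true then 45056 else 0) := by
    rw [hsum, Fin.sum_univ_five, if_pos h0]
    show clA1.ncard + (if e 1 = true then clA0.ncard else 0) +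
      (if e 2 = true then clB1.ncard else 0) + (if e 3 = true then clB0.ncard else 0) +
      (if e 4 = true then clO.ncard else 0) = _
    rw [clA1_ncard, clA0_ncard, clB1_ncard, clB0_ncard, clO_ncard]
  have hdvd := RsK_ncard_dvd K bpL
  have hbp1 : ((bpL : Lam) : GolayPt → ℤ) = bp := rfl
  rw [hbp1, hsum'] at hdvd
  rcases arith5 (e 1) (e 2) (e 3) (e 4) hdvd with ⟨h1, h2, h3, h4⟩ | ⟨h1, h2, h3, h4⟩
  · left
    intro w hw hn hd
    obtain ⟨i, hi⟩ := Cl5_cover hw hn hd
    fin_cases i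
    · exact he1 0 h0 hi
    · exact he1 1 h1 hi
    · exact he1 2 h2 hi
    · exact he1 3 h3 hi
    · exact he1 4 h4 hi
  · right
    intro s hsK hs0
    apply P_of_fix s hs0
    have hO : RsK K bp ((s • bpL : Lam) : GolayPt → ℤ) := ⟨s, hsK, hs0, hbpL, rfl⟩
    obtain ⟨i, hi⟩ := Set.mem_iUnion.mp (hcov hO)
    have hi0 : i = 0 := by
      by_contra hne
      have hfalse : e i = false := by
        fin_cases i
        · exact absurd rfl hne
        · exact h1
        · exact h2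
        · exact h3
        · exact h4
      exact Set.disjoint_left.mp (he0 i hfalse) hi hO
    rw [hi0] at hi
    have hi' : ((s • bpL : Lam) : GolayPt → ℤ) ∈ clA1 := hi
    rw [clA1_eq] at hi'
    exact hi'

/-! ### maximality -/

/-- An automorphism fixing `v0` and `4 e_4 + 4 e_13` preserves the standard cross. -/
theorem P_of_fix_both (s : ↥Co0) (hs0 : s • v0L = v0L) (hs : s • bpL = bpL) :
    Cfsg.Agent.S1571.P s :=
  P_of_fix s hs0 (Or.inl (by rw [hs]; rfl))

/-- The monomial automorphisms fixing `v0` form a maximal subgroup of the stabiliser of `v0`. -/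
theorem maximal (H L : Subgroup ↥Co0) (hH : ∀ g, g ∈ H ↔ Cfsg.Agent.S1571.P g)
    (hHL : H ⊓ T0 ≤ L) (hLT : L ≤ T0) : L ≤ H ⊓ T0 ∨ L = T0 := by
  have hL : Contains2 L := fun g hg hg0 => hHL ⟨(hH g).mpr hg, hg0⟩
  rcases dichotomy hL with h | h
  · right
    apply le_antisymm hLT
    intro t ht
    have ht0 : t • v0L = v0L := ht
    -- move `t • bp` back to `bp` inside `L`
    have hn : sqNorm ((t • bpL : Lam) : GolayPt → ℤ) = 32 := by
      rw [sqNorm_smul]
      exact (fam_mem_lattice (Or.inl bp_famA)).2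
    have hd : dotInt v0 ((t • bpL : Lam) : GolayPt → ℤ) = 0 := by
      have := Cfsg.Agent.S5593.dot_smul t v0L bpL
      rw [ht0] at this
      rw [show dotInt v0 ((t • bpL : Lam) : GolayPt → ℤ) =
        dotInt ((v0L : Lam) : GolayPt → ℤ) ((t • bpL : Lam) : GolayPt → ℤ) from rfl, this]
      exact bp_mem_clA1.2.1
    obtain ⟨s, hsL, hs0, _, hs⟩ := h _ (t • bpL).2 hn hd
    have hs' : s • bpL = t • bpL := Subtype.ext hs
    have hfix0 : (s⁻¹ * t) • v0L = v0L := by
      rw [mul_smul, ht0]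
      nth_rewrite 1 [← hs0]
      rw [inv_smul_smul]
    have hfixb : (s⁻¹ * t) • bpL = bpL := by
      rw [mul_smul, ← hs', inv_smul_smul]
    have hmem : s⁻¹ * t ∈ L := hL _ (P_of_fix_both _ hfix0 hfixb) hfix0
    have : t = s * (s⁻¹ * t) := by group
    rw [this]
    exact L.mul_mem hsL hmem
  · left
    intro s hs
    exact ⟨(hH s).mpr (h s hs (hLT hs)), hLT hs⟩

end Cfsg.Agent.Lib.Helper92_Co2
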