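import Cfsg.Agent.Lib.Helper92_Co2Str2
import Cfsg.Agent.Lib.Helper7_CodeComm

/-!
The code words vanishing at the points 4 and 13 are spanned by the words `σ c + c`, for `σ` a
permutation of the code fixing the two points and `c` such a code word (this module has no
quotient with trivial action).
-/

set_option autoImplicit false
set_option linter.constructorNameAsVariable false
open Cfsg
open scoped Pointwise

namespace Cfsg.Agent.Lib.Helper92_Co2

open Cfsg.Agent.Lib.Helper7_M24 Cfsg.Agent.Lib.Helper7_Bits Cfsg.Agent.Lib.Helper7_Code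
  Cfsg.Agent.Lib.Helper7_Mono
open Cfsg.Agent.Lib.Helper26_Leech (pa pb pa_ne_pb)

theorem enc_pa : enc pa = 4 := by decide

theorem enc_pb : enc pb = 13 := by decide

/-- The permutations of the code fixing the two points are transitive on the octads avoiding
them. -/
theorem exists_M22s_smul {P P' : Finset GolayPt} (hP : P ∈ octads) (hP' : P' ∈ octads)
    (ha : pa ∉ P) (hb : pb ∉ P) (ha' : pa ∉ P') (hb' : pb ∉ P') :
    ∃ σ : ↥M22s, σ.1.1 • P = P' := by
  obtain ⟨g, hg, e⟩ := Cfsg.Agent.Lib.Helper26_Co2.exists_smul_baseO hP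
  obtain ⟨g', hg', e'⟩ := Cfsg.Agent.Lib.Helper26_Co2.exists_smul_baseO hP'
  have hinv : Cfsg.Agent.Lib.Helper26_Co2.inv2 (Cfsg.Agent.Lib.Helper26_Golay.enc P) =
      Cfsg.Agent.Lib.Helper26_Co2.inv2 (Cfsg.Agent.Lib.Helper26_Golay.enc P') :=
    Cfsg.Agent.Lib.Helper26_Co2.inv2_eq_of_iff
      ⟨fun h => absurd h ha, fun h => absurd h ha'⟩ ⟨fun h => absurd h hb, fun h => absurd h hb'⟩
  rw [← hinv] at e'
  have hmem := (Cfsg.Agent.Lib.Helper26_Co2.mem_co2H_iff (g' * g⁻¹)).mp
    (Cfsg.Agent.Lib.Helper26_Co2.co2H.mul_mem hg'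
      (Cfsg.Agent.Lib.Helper26_Co2.co2H.inv_mem hg))
  refine ⟨⟨⟨g' * g⁻¹, hmem.1⟩, hmem.2.1, hmem.2.2⟩, ?_⟩
  show (g' * g⁻¹) • P = P'
  rw [mul_smul, ← e, inv_smul_smul, e']

/-- A code word vanishing at the two points which is the sum of two words of weight 8 vanishing
there is of the form `σ c + c`. -/
theorem comm_of_masks2 (g u : ℕ) (hu : inCode u = true) (hg : inCode g = true)
    (h8 : popcount u = 8) (h8' : popcount (u ^^^ g) = 8)
    (hu4 : u.testBit 4 = false) (hu13 : u.testBit 13 = false)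
    (hg4 : g.testBit 4 = false) (hg13 : g.testBit 13 = false) :
    ∃ σ : ↥M22s, ∃ c : ↥Cd, toWord g = permWord σ.1.1 c.1.1 + c.1.1 := by
  have hcu : toWord u ∈ golayCode := toWord_mem_of_inCode hu
  have hcg : toWord g ∈ golayCode := toWord_mem_of_inCode hg
  have hcug : toWord (u ^^^ g) ∈ golayCode := by
    rw [toWord_xor]
    exact golayCode.add_mem hcu hcg
  have ho : support₂ (toWord u) ∈ octads :=
    ⟨⟨toWord u, hcu, rfl⟩, by rw [card_support₂_toWord, h8]⟩
  have ho' : support₂ (toWord (u ^^^ g)) ∈ octads :=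
    ⟨⟨toWord (u ^^^ g), hcug, rfl⟩, by rw [card_support₂_toWord, h8']⟩
  have ha : pa ∉ support₂ (toWord u) := by
    rw [mem_support₂_toWord, enc_pa, hu4]; decide
  have hb : pb ∉ support₂ (toWord u) := by
    rw [mem_support₂_toWord, enc_pb, hu13]; decide
  have ha' : pa ∉ support₂ (toWord (u ^^^ g)) := by
    rw [mem_support₂_toWord, enc_pa, Nat.testBit_xor, hu4, hg4]; decide
  have hb' : pb ∉ support₂ (toWord (u ^^^ g)) := by
    rw [mem_support₂_toWord, enc_pb, Nat.testBit_xor, hu13, hg13]; decide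
  obtain ⟨σ, hσ⟩ := exists_M22s_smul ho ho' ha hb ha' hb'
  have hua : toWord u pa = 0 := by
    apply zmod2_ne_one
    intro h
    exact ha ((mem_support₂ _ _).mpr h)
  have hub : toWord u pb = 0 := by
    apply zmod2_ne_one
    intro h
    exact hb ((mem_support₂ _ _).mpr h)
  refine ⟨σ, ⟨⟨toWord u, hcu⟩, hua, hub⟩, ?_⟩
  have h1 : permWord σ.1.1 (toWord u) = toWord (u ^^^ g) := by
    apply support₂_injective
    rw [support₂_permWord]
    exact hσ
  show toWord g = permWord σ.1.1 (toWord u) + toWord u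
  rw [h1, toWord_xor, add_comm (toWord u) (toWord g), add_assoc,
    Cfsg.Agent.Lib.Helper7_Base.add_self_word, add_zero]

/-- A reduced basis of the code words vanishing at the points 4 and 13: (pivot bit, mask). -/
def cdBasis : List (ℕ × ℕ) :=
  [(23, 8394986), (22, 4196943), (21, 2101096), (20, 1053483), (19, 530245), (18, 262637),
   (17, 138790), (16, 72588), (15, 36294), (14, 18147)]

/-- Words of weight 8 vanishing at the two points, meeting the basis vectors in four points. -/
def cdWits : List ℕ :=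
  [8536111, 8536111, 2769128, 3719203, 4800613, 10846245, 8536111, 6488205, 7438406, 3719203]

theorem cdBasis_ok : ∀ k : Fin 10,
    inCode (cdWits.getD k.val 0) = true ∧ inCode ((cdBasis.getD k.val (0, 0)).2) = true ∧
    popcount (cdWits.getD k.val 0) = 8 ∧
    popcount (cdWits.getD k.val 0 ^^^ (cdBasis.getD k.val (0, 0)).2) = 8 ∧
    (cdWits.getD k.val 0).testBit 4 = false ∧ (cdWits.getD k.val 0).testBit 13 = false ∧
    ((cdBasis.getD k.val (0, 0)).2).testBit 4 = false ∧
    ((cdBasis.getD k.val (0, 0)).2).testBit 13 = false := by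
  decide +kernel

theorem cdBasis_reduce : codeMasks.all (fun n => n.testBit 4 || n.testBit 13 ||
    reduceBy cdBasis n == 0) = true := by
  decide +kernel

theorem mem_of_reduceBy' (T : AddSubgroup (GolayPt → ZMod 2)) (L : List (ℕ × ℕ))
    (hL : ∀ b ∈ L, toWord b.2 ∈ T) (w : ℕ) (h : toWord (reduceBy L w) ∈ T) : toWord w ∈ T := by
  induction L generalizing w with
  | nil => exact h
  | cons b L ih =>
    have h1 : toWord (redStep w b) ∈ T :=
      ih (fun c hc => hL c (List.mem_cons_of_mem _ hc)) _ h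
    unfold redStep at h1
    split_ifs at h1
    · rw [toWord_xor] at h1
      have := T.add_mem h1 (hL b List.mem_cons_self)
      rwa [add_assoc, Cfsg.Agent.Lib.Helper7_Base.add_self_word, add_zero] at this
    · exact h1

theorem neg_Cd (c : ↥Cd) : -c = c := by
  apply neg_eq_of_add_eq_zero_left
  apply Subtype.ext
  apply Subtype.ext
  exact Cfsg.Agent.Lib.Helper7_Base.add_self_word c.1.1

/-- An additive subgroup of the code words vanishing at the two points which contains all
`σ c - c` is everything. -/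
theorem span_comm2 (S : AddSubgroup ↥Cd) (h : ∀ (σ : ↥M22s) (c : ↥Cd), act2 σ c - c ∈ S)
    (c : ↥Cd) : c ∈ S := by
  let T : AddSubgroup (GolayPt → ZMod 2) :=
    (S.map Cd.subtype).map golayCode.toAddSubgroup.subtype
  have hT : ∀ x : ↥Cd, x ∈ S → x.1.1 ∈ T := fun x hx => ⟨x.1, ⟨x, hx, rfl⟩, rfl⟩
  -- the basis vectors are in `T`
  have hgen : ∀ b ∈ cdBasis, toWord b.2 ∈ T := by
    intro b hb
    obtain ⟨k, hk, rfl⟩ := List.getElem_of_mem hb
    have hk' : k < 10 := hk
    obtain ⟨h1, h2, h3, h4, h5, h6, h7, h8⟩ := cdBasis_ok ⟨k, hk'⟩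
    have e : cdBasis.getD (⟨k, hk'⟩ : Fin 10).val (0, 0) = cdBasis[k] := by
      show cdBasis.getD k (0, 0) = cdBasis[k]
      rw [List.getD_eq_getElem?_getD, List.getElem?_eq_getElem hk, Option.getD_some]
      rfl
    rw [e] at h2 h4 h7 h8
    obtain ⟨σ, c0, hc0⟩ := comm_of_masks2 _ _ h1 h2 h3 h4 h5 h6 h7 h8
    have hmem := hT _ (h σ c0)
    have : (act2 σ c0 - c0 : ↥Cd).1.1 = toWord (cdBasis[k]).2 := by
      rw [sub_eq_add_neg, neg_Cd, hc0]
      rfl
    rwa [this] at hmem
  -- every code word vanishing at the two points reduces to zero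
  obtain ⟨n, hn, hcn⟩ := (mem_golayCode_iff c.1.1).mp c.1.2
  have hred := cdBasis_reduce
  rw [List.all_eq_true] at hred
  have hn' := hred n hn
  have hn4 : n.testBit 4 = false := by
    have := c.2.1
    rw [hcn, toWord_apply, enc_pa] at this
    by_contra hb
    rw [Bool.not_eq_false] at hb
    rw [if_pos hb] at this
    exact absurd this (by decide)
  have hn13 : n.testBit 13 = false := by
    have := c.2.2
    rw [hcn, toWord_apply, enc_pb] at this
    by_contra hb
    rw [Bool.not_eq_false] at hb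
    rw [if_pos hb] at this
    exact absurd this (by decide)
  rw [hn4, hn13, Bool.false_or, Bool.false_or, beq_iff_eq] at hn'
  have hcT : toWord n ∈ T := by
    apply mem_of_reduceBy' T cdBasis hgen
    rw [hn', toWord_zero]
    exact T.zero_mem
  obtain ⟨y, ⟨x, hx, rfl⟩, hyx⟩ := hcT
  have hxc : x = c := by
    apply Subtype.ext
    apply Subtype.ext
    rw [hcn]
    exact hyx
  rwa [hxc] at hx

end Cfsg.Agent.Lib.Helper92_Co2
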