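import Cfsg.Agent.Lib.Helper7_XiConj

/-!
Conjugates of sign changes by the non-monomial automorphism `ξ` (of helper7) which are again
monomial: the computation of `Helper7_XiConj`, for arbitrary data, and two instances fixing the
vector `4 e_4 - 4 e_13`: one whose permutation part fixes the points 4 and 13 and is not trivial,
one whose permutation part exchanges them.
-/

set_option autoImplicit false
open scoped Pointwise
open Cfsg

namespace Cfsg.Agent.Lib.Helper92_Co2Wit

open Cfsg.Agent.Lib.Helper7_M24 Cfsg.Agent.Lib.Helper7_Leech Cfsg.Agent.Lib.Helper92_Monomial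
  Cfsg.Agent.Lib.Helper7_Bits Cfsg.Agent.Lib.Helper7_Code Cfsg.Agent.Lib.Helper7_Perm
  Cfsg.Agent.Lib.Helper7_Xi Cfsg.Agent.Lib.Helper7_Mono Cfsg.Agent.S0393
  Cfsg.Agent.Lib.Helper7_XiConj
open Cfsg.Agent.S5546 (Lam vec8 e8)

/-- The diagonal matrix of the sign change on the mask `cM`. -/
def DmOf (cM : ℕ) : Matrix GolayPt GolayPt ℤ :=
  Matrix.diagonal (fun i => if cM.testBit (enc i) then -1 else 1)

/-- The signed permutation matrix with sign mask `wM` and inverse list `sl`. -/
def MsOf (wM : ℕ) (sl : List ℕ) : Matrix GolayPt GolayPt ℤ :=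
  fun i k => if k = dec (sl.getD (enc i) 0) then (if wM.testBit (enc i) then -1 else 1) else 0

theorem signFlip_eq_mulVec' (cM : ℕ) (y : GolayPt → ℤ) :
    signFlip (support₂ (toWord cM)) y = (DmOf cM).mulVec y := by
  funext i
  unfold DmOf
  rw [Matrix.mulVec_diagonal]
  unfold signFlip
  by_cases h : cM.testBit (enc i) = true
  · rw [if_pos ((mem_support₂_toWord _ _).mpr h), if_pos h]; ring
  · rw [if_neg (fun h' => h ((mem_support₂_toWord _ _).mp h')), if_neg h]; ring

theorem signedPerm_eq_mulVec' (wM : ℕ) (sl : List ℕ) (hinv : checkInv sl sl = true)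
    (x : GolayPt → ℤ) :
    signedPerm (listPerm sl sl hinv hinv) (support₂ (toWord wM)) x = (MsOf wM sl).mulVec x := by
  funext i
  unfold Matrix.mulVec dotProduct MsOf
  rw [Finset.sum_eq_single (dec (sl.getD (enc i) 0))]
  · beta_reduce
    rw [if_pos rfl]
    unfold signedPerm
    have hs : (listPerm sl sl hinv hinv).symm i = dec (sl.getD (enc i) 0) := rfl
    by_cases h : wM.testBit (enc i) = true
    · rw [if_pos ((mem_support₂_toWord _ _).mpr h), if_pos h, hs]; ring
    · rw [if_neg (fun h' => h ((mem_support₂_toWord _ _).mp h')), if_neg h, hs]; ring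
  · intro k _ hk
    beta_reduce
    rw [if_neg hk, zero_mul]
  · intro h
    exact absurd (Finset.mem_univ _) h

/-- The conjugate of a sign change by `ξ`, from the matrix identity. -/
theorem conj_eq (cM wM : ℕ) (sl : List ℕ) (hinv : checkInv sl sl = true)
    (hcode : checkCode sl = true) (hc : inCode cM = true) (hw : inCode wM = true)
    (key : A * DmOf cM * A = (4 : ℤ) • MsOf wM sl) :
    xiE * eps ⟨toWord cM, toWord_mem_of_inCode hc⟩ * xiE⁻¹ =
      eps ⟨toWord wM, toWord_mem_of_inCode hw⟩ *
        perm ⟨listPerm sl sl hinv hinv, listPerm_mem_M24 sl sl hinv hinv hcode⟩ := by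
  rw [← mono_eq]
  apply ext_elt
  intro v
  show ((((xiE * eps ⟨toWord cM, toWord_mem_of_inCode hc⟩ * xiE⁻¹) • v : Lam)) : GolayPt → ℤ) =
    signedPerm (listPerm sl sl hinv hinv) (support₂ (toWord wM)) v.1
  rw [xiE_inv, mul_smul', mul_smul']
  apply dbl_injective
  apply dbl_injective
  rw [xiE_smul, ← xi2_apply, ← xi2_dbl, xi2_apply, eps_apply, dbl_signFlip, xiE_smul]
  show A.mulVec (signFlip (support₂ (toWord cM)) (A.mulVec v.1)) = _
  rw [signFlip_eq_mulVec', Matrix.mulVec_mulVec, Matrix.mulVec_mulVec, key,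
    signedPerm_eq_mulVec', Matrix.smul_mulVec]
  funext i
  rw [dbl_apply, dbl_apply, Pi.smul_apply, smul_eq_mul]
  ring

/-! ### first instance: the permutation part fixes the points 4 and 13 -/

def cM1 : ℕ := 18147
def wM1 : ℕ := 12222476
def sl1 : List ℕ := [1,0,23,17,4,14,7,6,8,10,9,11,12,13,5,20,16,3,18,21,15,19,22,2]

theorem sl1_inv : checkInv sl1 sl1 = true := by decide
theorem sl1_code : checkCode sl1 = true := by decide +kernel
theorem cM1_code : inCode cM1 = true := by decide +kernel
theorem wM1_code : inCode wM1 = true := by decide +kernel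
theorem key1 : A * DmOf cM1 * A = (4 : ℤ) • MsOf wM1 sl1 := by decide +kernel

/-! ### second instance: the permutation part exchanges the points 4 and 13 -/

def cM2 : ℕ := 4264387
def wM2 : ℕ := 11282452
def sl2 : List ℕ := [1,0,23,3,13,5,7,6,12,9,10,18,8,4,14,15,22,17,11,21,20,19,16,2]

theorem sl2_inv : checkInv sl2 sl2 = true := by decide
theorem sl2_code : checkCode sl2 = true := by decide +kernel
theorem cM2_code : inCode cM2 = true := by decide +kernel
theorem wM2_code : inCode wM2 = true := by decide +kernel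
theorem key2 : A * DmOf cM2 * A = (4 : ℤ) • MsOf wM2 sl2 := by decide +kernel

end Cfsg.Agent.Lib.Helper92_Co2Wit
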