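import Cfsg.Agent.Lib.Helper92_Co2Core
import Cfsg.Agent.Lib.Helper92_Co2Wit
import Cfsg.Agent.S0379

/-!
The structure of the monomial subgroup `2^10 : M22 : 2` of the stabiliser `T0` of
`v0 = 4 e_4 - 4 e_13` in the automorphism group of the rank-24 lattice: the sign changes on the
code words vanishing at the two points, the coordinate permutations fixing the two points, and one
further element exchanging them.
-/

set_option autoImplicit false
set_option linter.constructorNameAsVariable false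
open Cfsg
open scoped Pointwise

namespace Cfsg.Agent.Lib.Helper92_Co2

open Cfsg.Agent.Lib.Helper7_M24 Cfsg.Agent.Lib.Helper7_Leech Cfsg.Agent.Lib.Helper92_Monomial
  Cfsg.Agent.Lib.Helper92_Co0Order Cfsg.Agent.Lib.Helper92_MaxN
  Cfsg.Agent.Lib.Helper7_Mono
open Cfsg.Agent.Lib.Helper26_Leech (pa pb pa_ne_pb v0 v0_apply dotInt_v0 v0_mem v0_norm)
open Cfsg.Agent.Lib.Helper26_Co2 (v0L permVec_v0 signFlip_v0)
open Cfsg.Agent.S5546 (Lam vec8 e8)

/-! ### the pieces -/

/-- The code words vanishing at the two points. -/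
def Cd : AddSubgroup ↥golayCode where
  carrier := {c | c.1 pa = 0 ∧ c.1 pb = 0}
  zero_mem' := ⟨rfl, rfl⟩
  add_mem' := by
    rintro a b ⟨ha1, ha2⟩ ⟨hb1, hb2⟩
    constructor
    · show a.1 pa + b.1 pa = 0
      rw [ha1, hb1]; rfl
    · show a.1 pb + b.1 pb = 0
      rw [ha2, hb2]; rfl
  neg_mem' := by
    rintro a ⟨ha1, ha2⟩
    constructor
    · show -a.1 pa = 0
      rw [ha1]; rfl
    · show -a.1 pb = 0
      rw [ha2]; rfl

theorem mem_Cd_iff (c : ↥golayCode) : c ∈ Cd ↔ c.1 pa = 0 ∧ c.1 pb = 0 := Iff.rfl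

/-- The permutations of the code fixing the two points. -/
abbrev M22s : Subgroup ↥M24 := MulAction.stabilizer ↥M24 pa ⊓ MulAction.stabilizer ↥M24 pb

instance : IsSimpleGroup ↥M22s := Cfsg.Agent.S0379.result pa pb pa_ne_pb

theorem M22s_pa (σ : ↥M22s) : σ.1.1 pa = pa := σ.2.1

theorem M22s_pb (σ : ↥M22s) : σ.1.1 pb = pb := σ.2.2

theorem zmod2_ne_one {a : ZMod 2} (h : ¬ a = 1) : a = 0 := by
  revert a; decide

/-- A sign change fixes `v0` exactly when its code word vanishes at the two points. -/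
theorem eps_fix_iff (c : ↥golayCode) : eps c • v0L = v0L ↔ c ∈ Cd := by
  constructor
  · intro h
    have h1 := congrArg (fun x : Lam => (x : GolayPt → ℤ)) h
    have h2 : signFlip (support₂ c.1) v0 = v0 := h1
    constructor
    · apply zmod2_ne_one
      intro hc
      have := congrFun h2 pa
      rw [signFlip_of_mem ((mem_support₂ _ _).mpr hc), v0_apply, if_pos rfl,
        if_neg pa_ne_pb] at this
      exact absurd this (by decide)
    · apply zmod2_ne_one
      intro hc
      have := congrFun h2 pb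
      rw [signFlip_of_mem ((mem_support₂ _ _).mpr hc), v0_apply, if_neg pa_ne_pb.symm,
        if_pos rfl] at this
      exact absurd this (by decide)
  · rintro ⟨h1, h2⟩
    apply Subtype.ext
    show signFlip (support₂ c.1) v0 = v0
    apply signFlip_v0
    · rw [mem_support₂, h1]; decide
    · rw [mem_support₂, h2]; decide

/-- The sign changes fixing `v0`. -/
def eps2 (c : ↥Cd) : ↥T0 := ⟨eps c.1, (eps_fix_iff c.1).mpr c.2⟩

theorem eps2_coe (c : ↥Cd) : (eps2 c : ↥Co0) = eps c.1 := rfl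

theorem perm_fix (σ : ↥M24) (ha : σ.1 pa = pa) (hb : σ.1 pb = pb) : perm σ • v0L = v0L := by
  apply Subtype.ext
  rw [perm_apply]
  exact permVec_v0 σ.1 ha hb

/-- The coordinate permutations fixing the two points. -/
def perm2 : ↥M22s →* ↥T0 :=
  (permHom.comp M22s.subtype).codRestrict T0
    (fun σ => perm_fix σ.1 (M22s_pa σ) (M22s_pb σ))

theorem perm2_coe (σ : ↥M22s) : (perm2 σ : ↥Co0) = perm σ.1 := rfl

/-- The action on the code words vanishing at the two points. -/
def act2 (σ : ↥M22s) (c : ↥Cd) : ↥Cd :=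
  ⟨act σ.1 c.1, by
    constructor
    · show permWord σ.1.1 c.1.1 pa = 0
      rw [permWord_apply]
      have : σ.1.1.symm pa = pa := by
        rw [Equiv.symm_apply_eq]; exact (M22s_pa σ).symm
      rw [this]; exact c.2.1
    · show permWord σ.1.1 c.1.1 pb = 0
      rw [permWord_apply]
      have : σ.1.1.symm pb = pb := by
        rw [Equiv.symm_apply_eq]; exact (M22s_pb σ).symm
      rw [this]; exact c.2.2⟩

theorem act2_coe (σ : ↥M22s) (c : ↥Cd) : (act2 σ c).1 = act σ.1 c.1 := rfl

theorem eps2_zero : eps2 0 = 1 := by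
  apply Subtype.ext
  show eps (0 : ↥golayCode) = 1
  exact eps_zero

theorem eps2_add (u w : ↥Cd) : eps2 (u + w) = eps2 u * eps2 w := by
  apply Subtype.ext
  show eps (u.1 + w.1) = eps u.1 * eps w.1
  exact eps_add u.1 w.1

theorem perm2_conj (σ : ↥M22s) (c : ↥Cd) :
    perm2 σ * eps2 c * (perm2 σ)⁻¹ = eps2 (act2 σ c) := by
  apply Subtype.ext
  show perm σ.1 * eps c.1 * (perm σ.1)⁻¹ = eps (act σ.1 c.1)
  exact perm_conj_eps σ.1 c.1

/-! ### the element exchanging the two points -/

open Cfsg.Agent.Lib.Helper92_Co2Wit Cfsg.Agent.Lib.Helper7_Perm Cfsg.Agent.Lib.Helper7_Bits in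
/-- The involution of the second witness, as an element of `M24`. -/
def σ2 : ↥M24 := ⟨listPerm sl2 sl2 sl2_inv sl2_inv, listPerm_mem_M24 sl2 sl2 sl2_inv sl2_inv sl2_code⟩

theorem σ2_pa : σ2.1 pa = pb := by decide

theorem σ2_pb : σ2.1 pb = pa := by decide

/-- The all-ones code word. -/
def onesC : ↥golayCode := ⟨1, Cfsg.Agent.Lib.Helper7_M24.one_mem⟩

theorem flip_fix : (eps onesC * perm σ2) • v0L = v0L := by
  have hall : ∀ j : GolayPt, j ∈ support₂ (1 : GolayPt → ZMod 2) := by
    intro j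
    rw [mem_support₂]
    rfl
  have hsa : σ2.1.symm pa = pb := by
    rw [Equiv.symm_apply_eq]; exact σ2_pb.symm
  have hsb : σ2.1.symm pb = pa := by
    rw [Equiv.symm_apply_eq]; exact σ2_pa.symm
  apply Subtype.ext
  rw [mul_smul', eps_apply, perm_apply]
  funext j
  show signFlip (support₂ (1 : GolayPt → ZMod 2)) (permVec σ2.1 v0) j = v0 j
  rw [signFlip_of_mem (hall j), permVec_apply, v0_apply, v0_apply]
  by_cases hja : j = pa
  · rw [hja, hsa, if_neg pa_ne_pb.symm, if_pos rfl, if_pos rfl, if_neg pa_ne_pb]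
    rfl
  · by_cases hjb : j = pb
    · rw [hjb, hsb, if_pos rfl, if_neg pa_ne_pb, if_neg pa_ne_pb.symm, if_pos rfl]
      rfl
    · have h1 : σ2.1.symm j ≠ pa := by
        intro h
        apply hjb
        rw [Equiv.symm_apply_eq] at h
        rw [h, σ2_pa]
      have h2 : σ2.1.symm j ≠ pb := by
        intro h
        apply hja
        rw [Equiv.symm_apply_eq] at h
        rw [h, σ2_pb]
      rw [if_neg h1, if_neg h2, if_neg hja, if_neg hjb]
      rfl

/-- The element exchanging the two points and changing all signs. -/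
def fE : ↥T0 := ⟨eps onesC * perm σ2, flip_fix⟩

theorem fE_coe : (fE : ↥Co0) = eps onesC * perm σ2 := rfl

/-- The monomial elements of `T0`. -/
def N2 : Subgroup ↥T0 := N.subgroupOf T0

theorem mem_N2_iff (g : ↥T0) : g ∈ N2 ↔ (g : ↥Co0) ∈ N := Iff.rfl

theorem fE_conj (c : ↥Cd) : ∃ c' : ↥Cd, fE * eps2 c * fE⁻¹ = eps2 c' := by
  have hmem : (fE : ↥Co0) ∈ N := mono_mem_N σ2 onesC
  obtain ⟨c', hc'⟩ := conj_eps_of_mem_N hmem c.1
  have hfix : eps c' • v0L = v0L := by
    rw [← hc']
    exact (fE * eps2 c * fE⁻¹).2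
  refine ⟨⟨c', (eps_fix_iff c').mp hfix⟩, ?_⟩
  apply Subtype.ext
  exact hc'

end Cfsg.Agent.Lib.Helper92_Co2
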