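import Cfsg.Agent.Lib.Helper92_Co2Str

/-!
The monomial subgroup `N2` of the stabiliser `T0` of `v0 = 4 e_4 - 4 e_13`: its elements are the
products `eps2 u * perm2 σ` and `eps2 u * perm2 σ * fE`; it is a maximal subgroup of `T0` and
contains no nontrivial normal subgroup of `T0`.
-/

set_option autoImplicit false
set_option linter.constructorNameAsVariable false
open Cfsg
open scoped Pointwise

namespace Cfsg.Agent.Lib.Helper92_Co2

open Cfsg.Agent.Lib.Helper7_M24 Cfsg.Agent.Lib.Helper7_Leech Cfsg.Agent.Lib.Helper92_Monomial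
  Cfsg.Agent.Lib.Helper92_Co0Order Cfsg.Agent.Lib.Helper92_MaxN
  Cfsg.Agent.Lib.Helper7_Mono
open Cfsg.Agent.Lib.Helper26_Leech (pa pb pa_ne_pb v0 v0_apply dotInt_v0 v0_mem v0_norm)
open Cfsg.Agent.Lib.Helper26_Co2 (v0L permVec_v0 signFlip_v0)
open Cfsg.Agent.S5546 (Lam vec8 e8)

theorem zmod2_eq_one {a : ZMod 2} (h : ¬ a = 0) : a = 1 := by
  revert a; decide

theorem act_onesC (s : ↥M24) : act s onesC = onesC := by
  apply Subtype.ext
  show permWord s.1 (1 : GolayPt → ZMod 2) = 1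
  exact permWord_one_word s.1

/-- The value of a monomial image of `v0`. -/
theorem mono_v0_apply (u : ↥golayCode) (s : ↥M24) (j : GolayPt) :
    (((eps u * perm s) • v0L : Lam) : GolayPt → ℤ) (s.1 j) =
      if s.1 j ∈ support₂ u.1 then -v0 j else v0 j := by
  rw [mul_smul', eps_apply, perm_apply]
  show signFlip (support₂ u.1) (permVec s.1 v0) (s.1 j) = _
  by_cases h : s.1 j ∈ support₂ u.1
  · rw [if_pos h, signFlip_of_mem h, permVec_apply, Equiv.symm_apply_apply]
  · rw [if_neg h, signFlip_of_notMem h, permVec_apply, Equiv.symm_apply_apply]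

theorem v0_pa : v0 pa = 4 := by
  rw [v0_apply, if_pos rfl, if_neg pa_ne_pb]; rfl

theorem v0_pb : v0 pb = -4 := by
  rw [v0_apply, if_neg pa_ne_pb.symm, if_pos rfl]; rfl

theorem v0_other {j : GolayPt} (h1 : j ≠ pa) (h2 : j ≠ pb) : v0 j = 0 := by
  rw [v0_apply, if_neg h1, if_neg h2]; rfl

theorem mem_pair_of_v0_ne {j : GolayPt} (h : v0 j ≠ 0) : j = pa ∨ j = pb := by
  by_contra hcon
  exact h (v0_other (fun h1 => hcon (Or.inl h1)) (fun h2 => hcon (Or.inr h2)))

theorem N2_mem_form (g : ↥T0) (hg : g ∈ N2) :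
    ∃ (σ : ↥M22s) (u : ↥Cd), g = eps2 u * perm2 σ ∨ g = eps2 u * perm2 σ * fE := by
  obtain ⟨s, u, hgs⟩ := exists_of_mem_N ((mem_N2_iff g).mp hg)
  have hfix : (eps u * perm s) • v0L = v0L := by
    rw [← hgs]; exact g.2
  have hval : ∀ j, v0 (s.1 j) = if s.1 j ∈ support₂ u.1 then -v0 j else v0 j := by
    intro j
    rw [← mono_v0_apply u s j, hfix]
    rfl
  have ha := hval pa
  have hb := hval pb
  rw [v0_pa] at ha
  rw [v0_pb] at hb
  have hspa : s.1 pa = pa ∨ s.1 pa = pb := by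
    apply mem_pair_of_v0_ne
    rw [ha]
    split_ifs <;> decide
  have hspb : s.1 pb = pa ∨ s.1 pb = pb := by
    apply mem_pair_of_v0_ne
    rw [hb]
    split_ifs <;> decide
  rcases hspa with hspa | hspa
  · -- the two points are fixed
    have hspb' : s.1 pb = pb := by
      rcases hspb with h | h
      · exact absurd (s.1.injective (hspa.trans h.symm)) pa_ne_pb
      · exact h
    rw [hspa, v0_pa] at ha
    rw [hspb', v0_pb] at hb
    have hua : u.1 pa = 0 := by
      apply zmod2_ne_one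
      intro h
      rw [if_pos ((mem_support₂ _ _).mpr h)] at ha
      exact absurd ha (by decide)
    have hub : u.1 pb = 0 := by
      apply zmod2_ne_one
      intro h
      rw [if_pos ((mem_support₂ _ _).mpr h)] at hb
      exact absurd hb (by decide)
    refine ⟨⟨s, hspa, hspb'⟩, ⟨u, hua, hub⟩, Or.inl ?_⟩
    apply Subtype.ext
    exact hgs
  · -- the two points are exchanged
    have hspb' : s.1 pb = pa := by
      rcases hspb with h | h
      · exact h
      · exact absurd (s.1.injective (hspa.trans h.symm)) pa_ne_pb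
    rw [hspa, v0_pb] at ha
    rw [hspb', v0_pa] at hb
    have hua : u.1 pa = 1 := by
      apply zmod2_eq_one
      intro h
      have hn : pa ∉ support₂ u.1 := by
        rw [mem_support₂, h]; decide
      rw [if_neg hn] at hb
      exact absurd hb (by decide)
    have hub : u.1 pb = 1 := by
      apply zmod2_eq_one
      intro h
      have hn : pb ∉ support₂ u.1 := by
        rw [mem_support₂, h]; decide
      rw [if_neg hn] at ha
      exact absurd ha (by decide)
    have hσa : (s * σ2⁻¹).1 pa = pa := by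
      show s.1 (σ2.1.symm pa) = pa
      have : σ2.1.symm pa = pb := by
        rw [Equiv.symm_apply_eq]; exact σ2_pb.symm
      rw [this]; exact hspb'
    have hσb : (s * σ2⁻¹).1 pb = pb := by
      show s.1 (σ2.1.symm pb) = pb
      have : σ2.1.symm pb = pa := by
        rw [Equiv.symm_apply_eq]; exact σ2_pa.symm
      rw [this]; exact hspa
    have hu' : u + onesC ∈ Cd := by
      constructor
      · show u.1 pa + (1 : GolayPt → ZMod 2) pa = 0
        rw [hua]; rfl
      · show u.1 pb + (1 : GolayPt → ZMod 2) pb = 0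
        rw [hub]; rfl
    refine ⟨⟨s * σ2⁻¹, hσa, hσb⟩, ⟨u + onesC, hu'⟩, Or.inr ?_⟩
    apply Subtype.ext
    show (g : ↥Co0) = eps (u + onesC) * perm (s * σ2⁻¹) * (eps onesC * perm σ2)
    rw [hgs]
    have h1 : eps (u + onesC) * perm (s * σ2⁻¹) * (eps onesC * perm σ2) =
        eps (u + onesC) * (perm (s * σ2⁻¹) * eps onesC) * perm σ2 := by group
    rw [h1, perm_mul_eps, act_onesC]
    have h2 : eps (u + onesC) * (eps onesC * perm (s * σ2⁻¹)) * perm σ2 =
        (eps (u + onesC) * eps onesC) * (perm (s * σ2⁻¹) * perm σ2) := by group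
    rw [h2, ← eps_add, ← perm_mul, inv_mul_cancel_right]
    have h3 : u + onesC + onesC = u := by
      rw [add_assoc]
      have : onesC + onesC = 0 := by
        apply Subtype.ext
        exact Cfsg.Agent.Lib.Helper7_Base.add_self_word _
      rw [this, add_zero]
    rw [h3]

/-! ### maximality -/

theorem N2_ne_top : N2 ≠ ⊤ := by
  intro htop
  have hi : (Cfsg.Agent.Lib.Helper7_Bits.dec 0 : GolayPt) ≠ Cfsg.Agent.Lib.Helper7_Bits.dec 1 := by
    decide
  have hia : (Cfsg.Agent.Lib.Helper7_Bits.dec 0 : GolayPt) ≠ pa := by decide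
  have hib : (Cfsg.Agent.Lib.Helper7_Bits.dec 0 : GolayPt) ≠ pb := by decide
  have hja : (Cfsg.Agent.Lib.Helper7_Bits.dec 1 : GolayPt) ≠ pa := by decide
  have hjb : (Cfsg.Agent.Lib.Helper7_Bits.dec 1 : GolayPt) ≠ pb := by decide
  obtain ⟨t, ht0, htw⟩ := Cfsg.Agent.Lib.Helper26_Co2.stab_trans 0 _
    Cfsg.Agent.Lib.Helper26_Co2.census_rep0 v0L bpL (pairL _ _ hi) v0_norm
    (fam_mem_lattice (Or.inl bp_famA)).2 (pairL_norm _ _ hi) bp_mem_clA1.2.1
    (pairL_dot _ _ hi hia hib hja hjb)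
  have htT : t ∈ T0 := ht0
  have hmem : (⟨t, htT⟩ : ↥T0) ∈ N2 := by rw [htop]; exact Subgroup.mem_top _
  have hP : Cfsg.Agent.S1571.P t := (mem_N_iff t).mp hmem
  have hpa0 : (pairL _ _ hi).1 pa = 0 := pairL_apply_other _ _ hi pa hia.symm hja.symm
  rcases fix_or_neg t hP ht0 with h | h
  · rw [htw] at h
    rw [h] at hpa0
    have : (bpL : Lam).1 pa = 4 := bp_pa
    rw [this] at hpa0
    exact absurd hpa0 (by decide)
  · rw [htw] at h
    rw [h] at hpa0
    have : ((-bpL : Lam) : GolayPt → ℤ) pa = -4 := by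
      show -(bpL : Lam).1 pa = -4
      have : (bpL : Lam).1 pa = 4 := bp_pa
      rw [this]
    rw [this] at hpa0
    exact absurd hpa0 (by decide)

theorem N2_isCoatom : IsCoatom N2 := by
  refine ⟨N2_ne_top, ?_⟩
  intro L' hlt
  have h1 : N ⊓ T0 ≤ L'.map T0.subtype := by
    intro g hg
    have hgT : g ∈ T0 := hg.2
    have : (⟨g, hgT⟩ : ↥T0) ∈ L' := (le_of_lt hlt) (show (⟨g, hgT⟩ : ↥T0) ∈ N2 from hg.1)
    exact ⟨⟨g, hgT⟩, this, rfl⟩
  have h2 : L'.map T0.subtype ≤ T0 := by
    rintro _ ⟨x, _, rfl⟩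
    exact x.2
  rcases maximal N (L'.map T0.subtype) mem_N_iff h1 h2 with h | h
  · exfalso
    apply not_le_of_gt hlt
    intro x hx
    have : (x : ↥Co0) ∈ L'.map T0.subtype := ⟨x, hx, rfl⟩
    exact (h this).1
  · rw [eq_top_iff]
    intro x _
    have hx : (x : ↥Co0) ∈ L'.map T0.subtype := by rw [h]; exact x.2
    obtain ⟨y, hy, hyx⟩ := hx
    have : y = x := Subtype.ext hyx
    rwa [this] at hy

/-! ### the core -/

theorem N2_core (K' : Subgroup ↥T0) (hK' : K'.Normal) (hle : K' ≤ N2) : K' = ⊥ := by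
  have hK : K'.map T0.subtype ≤ N ⊓ T0 := by
    rintro _ ⟨x, hx, rfl⟩
    exact ⟨hle hx, x.2⟩
  have hnorm : ∀ t ∈ T0, ∀ k ∈ K'.map T0.subtype, t⁻¹ * k * t ∈ K'.map T0.subtype := by
    rintro t ht _ ⟨x, hx, rfl⟩
    have := hK'.conj_mem x hx (⟨t, ht⟩ : ↥T0)⁻¹
    rw [inv_inv] at this
    exact ⟨_, this, rfl⟩
  have hbot := core_trivial N (K'.map T0.subtype) mem_N_iff hK hnorm
  rw [Subgroup.eq_bot_iff_forall]
  intro x hx
  have : (x : ↥Co0) ∈ K'.map T0.subtype := ⟨x, hx, rfl⟩
  rw [hbot, Subgroup.mem_bot] at this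
  exact Subtype.ext this

end Cfsg.Agent.Lib.Helper92_Co2
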