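import Mathlib
import Cfsg.Prelude.Def_Spor_Conway

/-!
Integer vectors on the 24 points invariant under `x ↦ x + 1` or under `x ↦ 2 x`: their shape, the
sum of squares of their coordinates and their inner products with `(-5, -1^23)`, `(4, 4, 0^22)`,
`(4, -4, 0^22)`; the solutions of the arithmetic conditions met in the determination of the
centralisers of these two permutations in the stabiliser of `(-5, -1^23)`.
-/

set_option autoImplicit false
open Cfsg

namespace Cfsg.Agent.Lib.Helper92_FixLat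

open Cfsg.Spor (vecV vecU vecU')

theorem sumFin23 (f : Fin 23 → ℤ) : ∑ i, f i = f 0 + f 1 + f 2 + f 3 + f 4 + f 5 + f 6 + f 7 +
    f 8 + f 9 + f 10 + f 11 + f 12 + f 13 + f 14 + f 15 + f 16 + f 17 + f 18 + f 19 + f 20 +
    f 21 + f 22 := by
  simp only [Fin.sum_univ_succ, Fin.sum_univ_zero, add_zero]
  simp only [← add_assoc]
  rfl

theorem sum23 (f : ZMod 23 → ℤ) : ∑ i, f i = f 0 + f 1 + f 2 + f 3 + f 4 + f 5 + f 6 + f 7 +
    f 8 + f 9 + f 10 + f 11 + f 12 + f 13 + f 14 + f 15 + f 16 + f 17 + f 18 + f 19 + f 20 +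
    f 21 + f 22 :=
  sumFin23 f

/-- The nonzero squares modulo 23. -/
def QR : Finset (ZMod 23) := {1, 2, 4, 8, 16, 9, 18, 13, 3, 6, 12}

/-! ### vectors invariant under doubling -/

theorem orbit_cases : ∀ q : ZMod 23, q = 0 ∨ (q ∈ QR ∧ ∃ k < 11, q = 2 ^ k * 1) ∨
    (q ≠ 0 ∧ q ∉ QR ∧ ∃ k < 11, q = 2 ^ k * 5) := by
  decide

theorem sum_form (A B C : ℤ) :
    ∑ q : ZMod 23, (if q = 0 then A else if q ∈ QR then B else C) = A + 11 * B + 11 * C := by
  rw [sum23]
  rw [if_pos rfl]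
  have hq : ∀ q : ZMod 23, q ≠ 0 → q ∈ QR →
      (if q = 0 then A else if q ∈ QR then B else C) = B := by
    intro q h0 h1
    rw [if_neg h0, if_pos h1]
  have hn : ∀ q : ZMod 23, q ≠ 0 → q ∉ QR →
      (if q = 0 then A else if q ∈ QR then B else C) = C := by
    intro q h0 h1
    rw [if_neg h0, if_neg h1]
  rw [hq 1 (by decide) (by decide), hq 2 (by decide) (by decide), hq 3 (by decide) (by decide),
    hq 4 (by decide) (by decide), hn 5 (by decide) (by decide), hq 6 (by decide) (by decide),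
    hn 7 (by decide) (by decide), hq 8 (by decide) (by decide), hq 9 (by decide) (by decide),
    hn 10 (by decide) (by decide), hn 11 (by decide) (by decide), hq 12 (by decide) (by decide),
    hq 13 (by decide) (by decide), hn 14 (by decide) (by decide), hn 15 (by decide) (by decide),
    hq 16 (by decide) (by decide), hn 17 (by decide) (by decide), hq 18 (by decide) (by decide),
    hn 19 (by decide) (by decide), hn 20 (by decide) (by decide), hn 21 (by decide) (by decide),
    hn 22 (by decide) (by decide)]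
  ring


section dbl

variable (y : GolayPt → ℤ) (hinv : ∀ q : ZMod 23, y (some (2 * q)) = y (some q))

include hinv

theorem inv_pow (k : ℕ) (r : ZMod 23) : y (some (2 ^ k * r)) = y (some r) := by
  induction k with
  | zero => rw [pow_zero, one_mul]
  | succ k ih => rw [pow_succ', mul_assoc, hinv, ih]

theorem form_d (q : ZMod 23) :
    y (some q) = if q = 0 then y (some 0) else if q ∈ QR then y (some 1) else y (some 5) := by
  rcases orbit_cases q with h | ⟨h1, k, _, hk⟩ | ⟨h0, h1, k, _, hk⟩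
  · rw [if_pos h, h]
  · have h0 : q ≠ 0 := by
      intro e
      rw [e] at h1
      revert h1
      decide
    rw [if_neg h0, if_pos h1, hk, inv_pow y hinv]
  · rw [if_neg h0, if_neg h1, hk, inv_pow y hinv]

theorem sqNorm_d : sqNorm y = y none ^ 2 + y (some 0) ^ 2 + 11 * y (some 1) ^ 2 +
    11 * y (some 5) ^ 2 := by
  unfold sqNorm
  rw [Fintype.sum_option]
  have : ∀ q : ZMod 23, y (some q) ^ 2 =
      if q = 0 then y (some 0) ^ 2 else if q ∈ QR then y (some 1) ^ 2 else y (some 5) ^ 2 := by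
    intro q
    rw [form_d y hinv q]
    split_ifs <;> rfl
  rw [Finset.sum_congr rfl (fun q _ => this q), sum_form]
  ring

theorem dotV_d : dotInt vecV y = -5 * y none - y (some 0) - 11 * y (some 1) - 11 * y (some 5) := by
  unfold dotInt
  rw [Fintype.sum_option]
  have : ∀ q : ZMod 23, vecV (some q) * y (some q) =
      if q = 0 then -y (some 0) else if q ∈ QR then -y (some 1) else -y (some 5) := by
    intro q
    rw [form_d y hinv q]
    have : vecV (some q) = -1 := if_neg (by simp)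
    rw [this]
    split_ifs <;> ring
  rw [Finset.sum_congr rfl (fun q _ => this q), sum_form]
  have : vecV none = -5 := if_pos rfl
  rw [this]
  ring

omit hinv in
theorem vecU_some (q : ZMod 23) : vecU (some q) = if q = 0 then 4 else 0 := by
  unfold vecU
  by_cases h : q = 0
  · rw [if_pos h, if_pos (Or.inr (by rw [h]))]
  · rw [if_neg h, if_neg]
    rintro (h' | h')
    · exact Option.some_ne_none q h'
    · exact h (Option.some.inj h')

omit hinv in
theorem dotU : dotInt vecU y = 4 * y none + 4 * y (some 0) := by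
  unfold dotInt
  rw [Fintype.sum_option]
  have h1 : vecU none = 4 := if_pos (Or.inl rfl)
  rw [h1, Finset.sum_eq_single (0 : ZMod 23)]
  · rw [vecU_some, if_pos rfl]
  · intro b _ hb
    rw [vecU_some, if_neg hb, zero_mul]
  · intro h; exact absurd (Finset.mem_univ _) h

omit hinv in
theorem vecU'_some (q : ZMod 23) : vecU' (some q) = if q = 0 then -4 else 0 := by
  unfold vecU'
  rw [if_neg (Option.some_ne_none q)]
  by_cases h : q = 0
  · rw [if_pos h, if_pos (by rw [h])]
  · rw [if_neg h, if_neg (fun h' => h (Option.some.inj h'))]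

omit hinv in
theorem dotU' : dotInt vecU' y = 4 * y none - 4 * y (some 0) := by
  unfold dotInt
  rw [Fintype.sum_option]
  have h1 : vecU' none = 4 := if_pos rfl
  rw [h1, Finset.sum_eq_single (0 : ZMod 23)]
  · rw [vecU'_some, if_pos rfl]; ring
  · intro b _ hb
    rw [vecU'_some, if_neg hb, zero_mul]
  · intro h; exact absurd (Finset.mem_univ _) h

/-- The function with the given values on the four orbits. -/
def orbFun (s t u w : ℤ) : GolayPt → ℤ
  | none => s
  | some q => if q = 0 then t else if q ∈ QR then u else w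

theorem eq_orbFun : y = orbFun (y none) (y (some 0)) (y (some 1)) (y (some 5)) := by
  funext p
  rcases p with _ | q
  · rfl
  · exact form_d y hinv q

end dbl

/-! ### arithmetic -/

theorem bound_sq {a : ℤ} {n : ℤ} (h : a ^ 2 ≤ n) (hn : n ≤ 35) : -5 ≤ a ∧ a ≤ 5 := by
  constructor <;> nlinarith

/-- Solutions of `s² + t² + 11u² + 11w² = 32` with given linear conditions. -/
theorem arith_d (s t u w : ℤ) (hn : s ^ 2 + t ^ 2 + 11 * u ^ 2 + 11 * w ^ 2 = 32) :
    -5 ≤ s ∧ s ≤ 5 ∧ -5 ≤ t ∧ t ≤ 5 ∧ -1 ≤ u ∧ u ≤ 1 ∧ -1 ≤ w ∧ w ≤ 1 := by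
  have hs : s ^ 2 ≤ 32 := by nlinarith [sq_nonneg t, sq_nonneg u, sq_nonneg w]
  have ht : t ^ 2 ≤ 32 := by nlinarith [sq_nonneg s, sq_nonneg u, sq_nonneg w]
  have hu : 11 * u ^ 2 ≤ 32 := by nlinarith [sq_nonneg s, sq_nonneg t, sq_nonneg w]
  have hw : 11 * w ^ 2 ≤ 32 := by nlinarith [sq_nonneg s, sq_nonneg t, sq_nonneg u]
  refine ⟨?_, ?_, ?_, ?_, ?_, ?_, ?_, ?_⟩ <;> nlinarith

theorem arith_d_table : ∀ s ∈ Finset.Icc (-5 : ℤ) 5, ∀ t ∈ Finset.Icc (-5 : ℤ) 5,
    ∀ u ∈ Finset.Icc (-1 : ℤ) 1, ∀ w ∈ Finset.Icc (-1 : ℤ) 1,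
    s ^ 2 + t ^ 2 + 11 * u ^ 2 + 11 * w ^ 2 = 32 →
    (-5 * s - t - 11 * u - 11 * w = -24 →
      (s = 4 ∧ t = 4 ∧ u = 0 ∧ w = 0) ∨ (s = 1 ∧ t = -3 ∧ u = 1 ∧ w = 1)) := by
  decide

theorem arith_d_table2 : ∀ s ∈ Finset.Icc (-5 : ℤ) 5, ∀ t ∈ Finset.Icc (-5 : ℤ) 5,
    ∀ u ∈ Finset.Icc (-1 : ℤ) 1, ∀ w ∈ Finset.Icc (-1 : ℤ) 1,
    s ^ 2 + t ^ 2 + 11 * u ^ 2 + 11 * w ^ 2 = 32 →
    (-5 * s - t - 11 * u - 11 * w = -16 ∧ 4 * s + 4 * t = 0 →
      (s = 4 ∧ t = -4 ∧ u = 0 ∧ w = 0)) := by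
  decide

/-- The two invariant vectors of norm 32 with inner product `-24` with `(-5, -1^23)`. -/
theorem arith_d24 (s t u w : ℤ) (hn : s ^ 2 + t ^ 2 + 11 * u ^ 2 + 11 * w ^ 2 = 32)
    (hd : -5 * s - t - 11 * u - 11 * w = -24) :
    (s = 4 ∧ t = 4 ∧ u = 0 ∧ w = 0) ∨ (s = 1 ∧ t = -3 ∧ u = 1 ∧ w = 1) := by
  obtain ⟨h1, h2, h3, h4, h5, h6, h7, h8⟩ := arith_d s t u w hn
  exact (arith_d_table s (Finset.mem_Icc.mpr ⟨h1, h2⟩) t (Finset.mem_Icc.mpr ⟨h3, h4⟩)
    u (Finset.mem_Icc.mpr ⟨h5, h6⟩) w (Finset.mem_Icc.mpr ⟨h7, h8⟩) hn) hd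

/-- The invariant vector of norm 32 with inner products `-16` and `0` with `(-5, -1^23)` and
`(4, 4, 0^22)`. -/
theorem arith_d16 (s t u w : ℤ) (hn : s ^ 2 + t ^ 2 + 11 * u ^ 2 + 11 * w ^ 2 = 32)
    (hd : -5 * s - t - 11 * u - 11 * w = -16) (hu : 4 * s + 4 * t = 0) :
    s = 4 ∧ t = -4 ∧ u = 0 ∧ w = 0 := by
  obtain ⟨h1, h2, h3, h4, h5, h6, h7, h8⟩ := arith_d s t u w hn
  exact (arith_d_table2 s (Finset.mem_Icc.mpr ⟨h1, h2⟩) t (Finset.mem_Icc.mpr ⟨h3, h4⟩)
    u (Finset.mem_Icc.mpr ⟨h5, h6⟩) w (Finset.mem_Icc.mpr ⟨h7, h8⟩) hn) ⟨hd, hu⟩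

theorem orbFun_U : orbFun 4 4 0 0 = vecU := by
  funext p
  rcases p with _ | q
  · rfl
  · show (if q = 0 then (4 : ℤ) else if q ∈ QR then 0 else 0) = vecU (some q)
    rw [vecU_some]
    split_ifs <;> rfl

theorem orbFun_U' : orbFun 4 (-4) 0 0 = vecU' := by
  funext p
  rcases p with _ | q
  · rfl
  · show (if q = 0 then (-4 : ℤ) else if q ∈ QR then 0 else 0) = vecU' (some q)
    rw [vecU'_some]
    split_ifs <;> rfl

theorem orbFun_m3 : orbFun 1 (-3) 1 1 = -(vecV + vecU) := by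
  funext p
  rcases p with _ | q
  · show (1 : ℤ) = -(vecV none + vecU none)
    have h1 : vecV none = -5 := if_pos rfl
    have h2 : vecU none = 4 := if_pos (Or.inl rfl)
    rw [h1, h2]; norm_num
  · show (if q = 0 then (-3 : ℤ) else if q ∈ QR then 1 else 1) = -(vecV (some q) + vecU (some q))
    have h1 : vecV (some q) = -1 := if_neg (by simp)
    rw [h1, vecU_some]
    split_ifs <;> norm_num

/-! ### vectors invariant under the translation -/

section shift

variable (y : GolayPt → ℤ) (hinv : ∀ q : ZMod 23, y (some (q + 1)) = y (some q))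

include hinv

theorem const_a (q : ZMod 23) : y (some q) = y (some 0) := by
  have key : ∀ k : ℕ, y (some ((k : ℕ) : ZMod 23)) = y (some 0) := by
    intro k
    induction k with
    | zero => rw [Nat.cast_zero]
    | succ k ih => rw [Nat.cast_succ, hinv, ih]
  have := key q.val
  rwa [ZMod.natCast_zmod_val] at this

theorem sqNorm_a : sqNorm y = y none ^ 2 + 23 * y (some 0) ^ 2 := by
  unfold sqNorm
  rw [Fintype.sum_option]
  have : ∀ q : ZMod 23, y (some q) ^ 2 = y (some 0) ^ 2 := fun q => by rw [const_a y hinv q]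
  rw [Finset.sum_congr rfl (fun q _ => this q), Finset.sum_const, Finset.card_univ, ZMod.card]
  rw [nsmul_eq_mul]
  norm_num

theorem dotV_a : dotInt vecV y = -5 * y none - 23 * y (some 0) := by
  unfold dotInt
  rw [Fintype.sum_option]
  have : ∀ q : ZMod 23, vecV (some q) * y (some q) = -y (some 0) := by
    intro q
    have h : vecV (some q) = -1 := if_neg (by simp)
    rw [h, const_a y hinv q]; ring
  rw [Finset.sum_congr rfl (fun q _ => this q), Finset.sum_const, Finset.card_univ, ZMod.card]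
  have h : vecV none = -5 := if_pos rfl
  rw [h, nsmul_eq_mul]
  push_cast
  ring

/-- The function with the given values on the two orbits. -/
def orbFunA (s t : ℤ) : GolayPt → ℤ
  | none => s
  | some _ => t

theorem eq_orbFunA : y = orbFunA (y none) (y (some 0)) := by
  funext p
  rcases p with _ | q
  · rfl
  · exact const_a y hinv q

end shift

/-- The invariant vector of norm 32 with inner product `-8` with `(-5, -1^23)`. -/
theorem arith_a (s t : ℤ) (hn : s ^ 2 + 23 * t ^ 2 = 32) (hd : -5 * s - 23 * t = -8) :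
    s = -3 ∧ t = 1 := by
  have ht : 23 * t ^ 2 ≤ 32 := by nlinarith [sq_nonneg s]
  have ht1 : -1 ≤ t ∧ t ≤ 1 := by constructor <;> nlinarith
  have hs : s ^ 2 ≤ 32 := by nlinarith [sq_nonneg t]
  have hs1 : -5 ≤ s ∧ s ≤ 5 := by constructor <;> nlinarith
  obtain ⟨h1, h2⟩ := ht1
  obtain ⟨h3, h4⟩ := hs1
  interval_cases t <;> interval_cases s <;> simp_all

end Cfsg.Agent.Lib.Helper92_FixLat
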