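import Cfsg.Agent.Lib.Helper92_QuadAut

/-!
An involution `z` of the automorphism group of the rank-24 lattice which is not monomial: in the
coordinates `Q₀ = {0} ∪ {squares}`, `N ∪ {∞}` its matrix is `(1/4) [[-2, H], [Hᵀ, 2]]` with `H` a
Hadamard matrix of order 12.  It fixes `(-5, -1^23)`, commutes with `x ↦ 2x` and with the cube
twist, and exchanges `(4, 4, 0^22)` with `(1, -3, 1^22)`.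
-/

set_option autoImplicit false
open Cfsg

namespace Cfsg.Agent.Lib.Helper92_ZElt

open Cfsg.Agent.Lib.Helper7_M24 Cfsg.Agent.Lib.Helper7_Leech Cfsg.Agent.Lib.Helper92_LeechParity
  Cfsg.Agent.Lib.Helper92_Monomial Cfsg.Agent.S0393 Cfsg.Agent.S0358
  Cfsg.Agent.Lib.Helper7_LeechGen Cfsg.Agent.Lib.Helper7_Bits Cfsg.Agent.Lib.Helper7_Xi
  Cfsg.Agent.Lib.Helper92_QuadAut Cfsg.Agent.Lib.Helper7_Mono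
open Cfsg.Agent.S5546 (Lam)

/-- The rows of `4 z`. -/
def ZL : List (List ℤ) :=
  [[-2, 0, 0, 0, 0, 1, 0, 1, 0, 0, 1, 1, 0, 0, 1, 1, 0, 1, 0, 1, 1, 1, 1, -1],
   [0, -2, 0, 0, 0, 1, 0, -1, 0, 0, -1, -1, 0, 0, 1, 1, 0, -1, 0, 1, 1, 1, -1, 1],
   [0, 0, -2, 0, 0, 1, 0, 1, 0, 0, 1, -1, 0, 0, -1, 1, 0, 1, 0, 1, -1, -1, -1, 1],
   [0, 0, 0, -2, 0, -1, 0, -1, 0, 0, -1, 1, 0, 0, 1, 1, 0, 1, 0, 1, -1, -1, 1, 1],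
   [0, 0, 0, 0, -2, -1, 0, 1, 0, 0, 1, 1, 0, 0, 1, 1, 0, -1, 0, -1, 1, -1, -1, 1],
   [1, 1, 1, -1, -1, 2, 1, 0, 1, 1, 0, 0, -1, -1, 0, 0, 1, 0, -1, 0, 0, 0, 0, 0],
   [0, 0, 0, 0, 0, 1, -2, 1, 0, 0, -1, 1, 0, 0, -1, 1, 0, -1, 0, -1, -1, 1, 1, 1],
   [1, -1, 1, -1, 1, 0, 1, 2, 1, -1, 0, 0, 1, 1, 0, 0, -1, 0, -1, 0, 0, 0, 0, 0],
   [0, 0, 0, 0, 0, 1, 0, 1, -2, 0, -1, -1, 0, 0, 1, -1, 0, 1, 0, -1, 1, -1, 1, 1],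
   [0, 0, 0, 0, 0, 1, 0, -1, 0, -2, 1, 1, 0, 0, -1, -1, 0, -1, 0, 1, 1, -1, 1, 1],
   [1, -1, 1, -1, 1, 0, -1, 0, -1, 1, 2, 0, 1, -1, 0, 0, 1, 0, 1, 0, 0, 0, 0, 0],
   [1, -1, -1, 1, 1, 0, 1, 0, -1, 1, 0, 2, -1, 1, 0, 0, 1, 0, -1, 0, 0, 0, 0, 0],
   [0, 0, 0, 0, 0, -1, 0, 1, 0, 0, 1, -1, -2, 0, 1, -1, 0, -1, 0, 1, -1, 1, 1, 1],
   [0, 0, 0, 0, 0, -1, 0, 1, 0, 0, -1, 1, 0, -2, -1, -1, 0, 1, 0, 1, 1, 1, -1, 1],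
   [1, 1, -1, 1, 1, 0, -1, 0, 1, -1, 0, 0, 1, -1, 2, 0, 1, 0, -1, 0, 0, 0, 0, 0],
   [1, 1, 1, 1, 1, 0, 1, 0, -1, -1, 0, 0, -1, -1, 0, 2, -1, 0, 1, 0, 0, 0, 0, 0],
   [0, 0, 0, 0, 0, 1, 0, -1, 0, 0, 1, 1, 0, 0, 1, -1, -2, 1, 0, -1, -1, 1, -1, 1],
   [1, -1, 1, 1, -1, 0, -1, 0, 1, -1, 0, 0, -1, 1, 0, 0, 1, 2, 1, 0, 0, 0, 0, 0],
   [0, 0, 0, 0, 0, -1, 0, -1, 0, 0, 1, -1, 0, 0, -1, 1, 0, 1, -2, -1, 1, 1, 1, 1],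
   [1, 1, 1, 1, -1, 0, -1, 0, -1, 1, 0, 0, 1, 1, 0, 0, -1, 0, -1, 2, 0, 0, 0, 0],
   [1, 1, -1, -1, 1, 0, -1, 0, 1, 1, 0, 0, -1, 1, 0, 0, -1, 0, 1, 0, 2, 0, 0, 0],
   [1, 1, -1, -1, -1, 0, 1, 0, -1, -1, 0, 0, 1, 1, 0, 0, 1, 0, 1, 0, 0, 2, 0, 0],
   [1, -1, -1, 1, -1, 0, 1, 0, 1, 1, 0, 0, 1, -1, 0, 0, -1, 0, 1, 0, 0, 0, 2, 0],
   [-1, 1, 1, 1, 1, 0, 1, 0, 1, 1, 0, 0, 1, 1, 0, 0, 1, 0, 1, 0, 0, 0, 0, 2]]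

/-- The images of the generators. -/
def zT : Tables where
  yU := [3, -1, -1, -1, -1, 1, -1, 1, -1, -1, 1, 1, -1, -1, 1, 1, -1, 1, -1, 1, 1, 1, 1, 1]
  mU := 16436384
  yB := [[-1, -1, -1, -1, -1, 1, -1, 1, -1, -1, 1, 1, -1, -1, 1, 1, -1, 1, -1, 1, 1, 1, 1, 5],
   [3, -1, 1, -1, -1, 1, -1, 1, 1, -1, 1, 1, 1, -1, 1, 1, 1, 1, -1, 3, 1, -1, -1, 3],
   [3, 1, -1, -1, 1, 1, -1, 1, -1, 1, 1, 1, -1, -1, 1, 3, 1, 1, -1, -1, 1, -1, 1, 3],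
   [3, 1, 1, -1, -1, 1, 1, 1, -1, -1, 1, 3, -1, 1, 1, 1, -1, -1, -1, 1, -1, 1, 1, 3],
   [3, -1, 1, -1, -1, 1, -1, 3, 1, 1, 1, 1, -1, -1, 1, -1, -1, 1, 1, -1, 1, 1, 1, 3],
   [2, 0, 0, 0, 0, 2, 0, 2, 0, -2, 0, 2, 0, 0, 0, 0, 2, 2, -2, 0, 2, 2, 2, 2],
   [3, -1, 1, 1, 1, 1, -1, 1, -1, -1, 1, -1, 1, -1, 1, 1, -1, -1, -1, 1, 1, 1, 3, 3],
   [2, 0, 0, 0, 2, 2, 0, 2, -2, 0, 2, 2, 0, 0, 0, 0, -2, 2, 0, 2, 2, 0, 0, 2],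
   [3, -1, -1, -1, 1, 1, -1, -1, -1, -1, 1, 1, -1, 1, 3, -1, 1, 1, 1, 1, 1, 1, 1, 3],
   [3, -1, -1, 1, -1, -1, 1, 1, -1, -1, 3, 1, -1, -1, -1, 1, 1, 1, 1, 1, 1, 1, 1, 3],
   [2, 0, 0, 0, 0, 0, 0, 0, 0, 2, 2, 2, 0, -2, 2, 0, 0, 2, -2, 2, 0, 2, 2, 2],
   [4, 0, 0, 0, 0, 2, 0, 2, 0, 0, 2, 2, 0, 0, 2, 2, 0, 2, 0, 2, 2, 2, 2, 6]]
  mB := [16436384, 1301924, 5459634, 6874342, 7753508, 16190113, 3724476, 10161585, 8334384, 8358088, 15625729, 16436384]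
  yE := [[-1, -1, -1, -1, -1, 1, -1, 1, -1, -1, 1, 1, -1, -1, 1, 1, -1, 1, -1, 1, 1, 1, 1, -3],
   [1, -3, -1, -1, -1, 1, -1, -1, -1, -1, -1, -1, -1, -1, 1, 1, -1, -1, -1, 1, 1, 1, -1, -1],
   [1, -1, -3, -1, -1, 1, -1, 1, -1, -1, 1, -1, -1, -1, -1, 1, -1, 1, -1, 1, -1, -1, -1, -1],
   [1, -1, -1, -3, -1, -1, -1, -1, -1, -1, -1, 1, -1, -1, 1, 1, -1, 1, -1, 1, -1, -1, 1, -1],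
   [1, -1, -1, -1, -3, -1, -1, 1, -1, -1, 1, 1, -1, -1, 1, 1, -1, -1, -1, -1, 1, -1, -1, -1],
   [2, 0, 0, -2, -2, 2, 0, 0, 0, 0, 0, 0, -2, -2, 0, 0, 0, 0, -2, 0, 0, 0, 0, -2],
   [1, -1, -1, -1, -1, 1, -3, 1, -1, -1, -1, 1, -1, -1, -1, 1, -1, -1, -1, -1, -1, 1, 1, -1],
   [2, -2, 0, -2, 0, 0, 0, 2, 0, -2, 0, 0, 0, 0, 0, 0, -2, 0, -2, 0, 0, 0, 0, -2],
   [1, -1, -1, -1, -1, 1, -1, 1, -3, -1, -1, -1, -1, -1, 1, -1, -1, 1, -1, -1, 1, -1, 1, -1],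
   [1, -1, -1, -1, -1, 1, -1, -1, -1, -3, 1, 1, -1, -1, -1, -1, -1, -1, -1, 1, 1, -1, 1, -1],
   [2, -2, 0, -2, 0, 0, -2, 0, -2, 0, 2, 0, 0, -2, 0, 0, 0, 0, 0, 0, 0, 0, 0, -2],
   [2, -2, -2, 0, 0, 0, 0, 0, -2, 0, 0, 2, -2, 0, 0, 0, 0, 0, -2, 0, 0, 0, 0, -2],
   [1, -1, -1, -1, -1, -1, -1, 1, -1, -1, 1, -1, -3, -1, 1, -1, -1, -1, -1, 1, -1, 1, 1, -1],
   [1, -1, -1, -1, -1, -1, -1, 1, -1, -1, -1, 1, -1, -3, -1, -1, -1, 1, -1, 1, 1, 1, -1, -1],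
   [2, 0, -2, 0, 0, 0, -2, 0, 0, -2, 0, 0, 0, -2, 2, 0, 0, 0, -2, 0, 0, 0, 0, -2],
   [2, 0, 0, 0, 0, 0, 0, 0, -2, -2, 0, 0, -2, -2, 0, 2, -2, 0, 0, 0, 0, 0, 0, -2],
   [1, -1, -1, -1, -1, 1, -1, -1, -1, -1, 1, 1, -1, -1, 1, -1, -3, 1, -1, -1, -1, 1, -1, -1],
   [2, -2, 0, 0, -2, 0, -2, 0, 0, -2, 0, 0, -2, 0, 0, 0, 0, 2, 0, 0, 0, 0, 0, -2],
   [1, -1, -1, -1, -1, -1, -1, -1, -1, -1, 1, -1, -1, -1, -1, 1, -1, 1, -3, -1, 1, 1, 1, -1],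
   [2, 0, 0, 0, -2, 0, -2, 0, -2, 0, 0, 0, 0, 0, 0, 0, -2, 0, -2, 2, 0, 0, 0, -2],
   [2, 0, -2, -2, 0, 0, -2, 0, 0, 0, 0, 0, -2, 0, 0, 0, -2, 0, 0, 0, 2, 0, 0, -2],
   [2, 0, -2, -2, -2, 0, 0, 0, -2, -2, 0, 0, 0, 0, 0, 0, 0, 0, 0, 0, 0, 2, 0, -2],
   [2, -2, -2, 0, -2, 0, 0, 0, 0, 0, 0, 0, 0, -2, 0, 0, -2, 0, 0, 0, 0, 0, 2, -2],
   [0, 0, 0, 0, 0, 0, 0, 0, 0, 0, 0, 0, 0, 0, 0, 0, 0, 0, 0, 0, 0, 0, 0, 0]]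
  mE := [16436384, 3719203, 689317, 4900873, 1100945, 8663097, 6326497, 8716939, 5390753, 5770785, 8398155, 8657159, 6837377, 3811457, 8675909, 8499969, 2313249, 8524371, 7767041, 9240913, 9506893, 10486557, 12656663, 0]
  y8 := [-2, 2, 2, 2, 2, 0, 2, 0, 2, 2, 0, 0, 2, 2, 0, 0, 2, 0, 2, 0, 0, 0, 0, 4]
  m8 := 340831

/-- The matrix `4 z`. -/
def ZB : Matrix GolayPt GolayPt ℤ := fun i j => (ZL.getD (enc i) []).getD (enc j) 0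

theorem ZB_symm : ZB.transpose = ZB := by decide +kernel

theorem ZB_sq : ZB * ZB = (16 : ℤ) • (1 : Matrix GolayPt GolayPt ℤ) := by decide +kernel

theorem zT_ok : TablesOK ZB zT := by decide +kernel

theorem ZB_maps : Maps ZB := maps_of_tables ZB zT zT_ok

/-- The involution `z`. -/
def zE : ↥Co0 := autE ZB ZB ZB_symm.symm ZB_sq ZB_sq ZB_maps ZB_maps

/-- Explicit description: if `4 z x = 4 y` then `z x = y`. -/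
theorem zE_eq_of (v : Lam) (y : GolayPt → ℤ) (h : ∀ p, ZB.mulVec v.1 p = 4 * y p) :
    ((zE • v : Lam) : GolayPt → ℤ) = y :=
  autE_eq_of ZB ZB ZB_symm.symm ZB_sq ZB_sq ZB_maps ZB_maps v y h

theorem zE_sq : zE * zE = 1 := by
  apply ext_elt
  intro v
  rw [mul_smul', one_smul]
  exact autF_autF ZB ZB ZB_sq ZB_maps ZB_maps v.1 v.2

theorem quad_zE (v : Lam) : quad ((zE • v : Lam) : GolayPt → ℤ) = ZB.mulVec v.1 :=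
  quad_autE ZB ZB ZB_symm.symm ZB_sq ZB_sq ZB_maps ZB_maps v

end Cfsg.Agent.Lib.Helper92_ZElt
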