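import Mathlib
import Cfsg.Agent.Lib.Helper93_M24Fams
import Cfsg.Agent.S0366

/-!
The number of members of a set of sets meeting a given set of points, as an invariant; and
transitivity of `M24` on `k`-subsets for `k ≤ 5`.
-/

set_option autoImplicit false
set_option linter.constructorNameAsVariable false
open Cfsg
open scoped Pointwise
open Cfsg.Agent.Lib.Helper26_Golay

namespace Cfsg.Agent.Lib.Helper93_M24Obj

/-- The number of members of `S` meeting `Y`. -/
def meetCount (Y : Finset GolayPt) (S : Finset (Finset GolayPt)) : ℕ :=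
  (S.filter fun t => (t ∩ Y).Nonempty).card

theorem meetCount_smul (g : Equiv.Perm GolayPt) (Y : Finset GolayPt)
    (S : Finset (Finset GolayPt)) : meetCount (g • Y) (g • S) = meetCount Y S := by
  unfold meetCount
  have e : g • S = S.image (fun t => g • t) := rfl
  rw [e, Finset.filter_image, Finset.card_image_of_injective _ (MulAction.injective g)]
  congr 1
  apply Finset.filter_congr
  intro t _
  rw [← Finset.smul_finset_inter, Finset.smul_finset_nonempty]

theorem inter_nonempty_iff_enc (s t : Finset GolayPt) :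
    (s ∩ t).Nonempty ↔ enc s &&& enc t ≠ 0 := by
  rw [← enc_inter, Ne, enc_eq_zero_iff, Finset.nonempty_iff_ne_empty]

theorem meetCount_code {y k c : ℕ} (hy : y < 2 ^ 24) (hc : canon k c = true) :
    meetCount (dec y) (setOf k c) = ((mems k c).filter (fun m => m &&& y != 0)).length := by
  unfold meetCount setOf
  have e : ((mems k c).map dec).toFinset.filter (fun t => (t ∩ dec y).Nonempty) =
      (((mems k c).map dec).filter (fun t => decide ((t ∩ dec y).Nonempty))).toFinset := by
    rw [List.toFinset_filter]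
    apply Finset.filter_congr
    intro t _
    rw [decide_eq_true_eq]
  rw [e, List.toFinset_card_of_nodup ((nodup_map_dec hc).filter _),
    List.filter_map, List.length_map]
  congr 1
  apply List.filter_congr
  intro m hm
  simp only [Function.comp_apply]
  rw [Bool.eq_iff_iff, decide_eq_true_eq, inter_nonempty_iff_enc,
    enc_dec m (lt_of_mem_mems hm), enc_dec y hy]
  simp

/-- `M24` is transitive on the `k`-subsets of the 24 points, for `k ≤ 5`. -/
theorem exists_smul_finset_eq {k : ℕ} (hk : k ≤ 5) {Y Y' : Finset GolayPt} (h : Y.card = k)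
    (h' : Y'.card = k) : ∃ g ∈ M24, g • Y = Y' := by
  have : MulAction.IsMultiplyPretransitive M24 GolayPt 5 := Cfsg.Agent.S0366.result
  have : MulAction.IsMultiplyPretransitive M24 GolayPt k :=
    MulAction.isMultiplyPretransitive_of_le hk (by
      rw [Nat.card_eq_fintype_card]; decide)
  let x : Fin k ↪ GolayPt :=
    (Finset.equivFinOfCardEq h).symm.toEmbedding.trans (Function.Embedding.subtype _)
  let y : Fin k ↪ GolayPt :=
    (Finset.equivFinOfCardEq h').symm.toEmbedding.trans (Function.Embedding.subtype _)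
  obtain ⟨g, hg⟩ := MulAction.exists_smul_eq M24 x y
  refine ⟨g.1, g.2, ?_⟩
  have hx : ∀ p, p ∈ Y ↔ ∃ i, x i = p := by
    intro p
    constructor
    · intro hp
      exact ⟨Finset.equivFinOfCardEq h ⟨p, hp⟩, by simp [x]⟩
    · rintro ⟨i, rfl⟩
      simp [x]
  have hy : ∀ p, p ∈ Y' ↔ ∃ i, y i = p := by
    intro p
    constructor
    · intro hp
      exact ⟨Finset.equivFinOfCardEq h' ⟨p, hp⟩, by simp [y]⟩
    · rintro ⟨i, rfl⟩
      simp [y]
  have hgi : ∀ i, (g.1 : Equiv.Perm GolayPt) (x i) = y i := by
    intro i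
    have := congrArg (fun f : Fin k ↪ GolayPt => f i) hg
    exact this
  ext p
  rw [Finset.mem_smul_finset, hy]
  constructor
  · rintro ⟨q, hq, rfl⟩
    obtain ⟨i, rfl⟩ := (hx q).mp hq
    exact ⟨i, (hgi i).symm⟩
  · rintro ⟨i, rfl⟩
    exact ⟨x i, (hx _).mpr ⟨i, rfl⟩, hgi i⟩

end Cfsg.Agent.Lib.Helper93_M24Obj
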