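import Mathlib
import Cfsg.Agent.S0364
import Cfsg.Agent.Lib.Helper93_M24Meet

/-!
Elements of `M24` described by functions on indices `0..23`: composition, inverses, conjugation,
order and fixed points; exactness of the step tests of the codings; counting fixed objects.
-/

set_option autoImplicit false
set_option linter.constructorNameAsVariable false
open Cfsg
open scoped Pointwise
open Cfsg.Agent.Lib.Helper26_Golay

namespace Cfsg.Agent.Lib.Helper93_M24Obj

/-- The function `f` on indices describes the permutation `σ`. -/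
def RepF (σ : Equiv.Perm GolayPt) (f : ℕ → ℕ) : Prop := ∀ p, idx (σ p) = f (idx p)

theorem repF_of_represents {σ : Equiv.Perm GolayPt} {T : ℕ} (h : Represents σ T) :
    RepF σ (img T) := h

theorem RepF.unique {σ τ : Equiv.Perm GolayPt} {f : ℕ → ℕ} (h1 : RepF σ f) (h2 : RepF τ f) :
    σ = τ :=
  Equiv.ext fun p => idx_injective ((h1 p).trans (h2 p).symm)

theorem RepF.mul {σ τ : Equiv.Perm GolayPt} {f g : ℕ → ℕ} (h1 : RepF σ f) (h2 : RepF τ g) :
    RepF (σ * τ) (fun i => f (g i)) := by
  intro p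
  rw [Equiv.Perm.mul_apply, h1, h2]

theorem RepF.one : RepF 1 (fun i => i) := fun _ => rfl

theorem RepF.congr {σ : Equiv.Perm GolayPt} {f g : ℕ → ℕ} (h : RepF σ f)
    (hfg : ∀ i < 24, f i = g i) : RepF σ g := by
  intro p
  rw [h p, hfg _ (idx_lt p)]

theorem RepF.apply_pt {σ : Equiv.Perm GolayPt} {f : ℕ → ℕ} (h : RepF σ f) (i : ℕ) (hi : i < 24) :
    σ (pt i) = pt (f i) := by
  rw [← pt_idx (σ (pt i)), h, idx_pt i hi]

theorem RepF.lt {σ : Equiv.Perm GolayPt} {f : ℕ → ℕ} (h : RepF σ f) (i : ℕ) (hi : i < 24) :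
    f i < 24 := by
  have := h (pt i)
  rw [idx_pt i hi] at this
  rw [← this]
  exact idx_lt _

/-- `g` is a left inverse of `f` on indices. -/
def invOK (f g : ℕ → ℕ) : Bool := allFold (fun i => g (f i) == i) 24

theorem RepF.inv {σ : Equiv.Perm GolayPt} {f g : ℕ → ℕ} (h : RepF σ f)
    (hg : invOK f g = true) : RepF σ⁻¹ g := by
  unfold invOK at hg
  rw [allFold_eq_true] at hg
  intro p
  have h1 := h (σ⁻¹ p)
  have h0 : σ (σ⁻¹ p) = p := by simp
  rw [h0] at h1
  have h2 := hg (idx (σ⁻¹ p)) (idx_lt _)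
  rw [beq_iff_eq] at h2
  rw [h1, h2]

/-- Test that `k ∘ t = e ∘ k` on indices. -/
def conjOK (k t e : ℕ → ℕ) : Bool := allFold (fun i => k (t i) == e (k i)) 24

theorem conj_eq_of_conjOK {κ τ ε : Equiv.Perm GolayPt} {k t e : ℕ → ℕ} (hk : RepF κ k)
    (ht : RepF τ t) (he : RepF ε e) (h : conjOK k t e = true) : κ * τ * κ⁻¹ = ε := by
  unfold conjOK at h
  rw [allFold_eq_true] at h
  have : κ * τ = ε * κ := by
    apply (hk.mul ht).unique
    apply (he.mul hk).congr
    intro i hi
    have := h i hi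
    rw [beq_iff_eq] at this
    exact this.symm
  rw [this, mul_inv_cancel_right]

/-! ### Order and fixed points -/

/-- Number of fixed indices. -/
def fixCount (f : ℕ → ℕ) : ℕ := sumFold (fun i => if f i == i then 1 else 0) 24

theorem card_fixed_eq {σ : Equiv.Perm GolayPt} {f : ℕ → ℕ} (h : RepF σ f) :
    (Finset.univ.filter fun p => σ p = p).card = fixCount f := by
  unfold fixCount
  rw [sumFold_eq, ← Finset.card_filter]
  rw [← Finset.card_image_of_injective _ idx_injective]
  congr 1
  ext i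
  simp only [Finset.mem_image, Finset.mem_filter, Finset.mem_univ, true_and, Finset.mem_range,
    beq_iff_eq]
  constructor
  · rintro ⟨p, hp, rfl⟩
    refine ⟨idx_lt p, ?_⟩
    rw [← h p, hp]
  · rintro ⟨hi, hfi⟩
    refine ⟨pt i, ?_, idx_pt i hi⟩
    rw [h.apply_pt i hi, hfi]

/-- `f ∘ f ∘ f = id` on indices. -/
def cubeId (f : ℕ → ℕ) : Bool := allFold (fun i => f (f (f i)) == i) 24

/-- `f ∘ f = id` on indices. -/
def sqId (f : ℕ → ℕ) : Bool := allFold (fun i => f (f i) == i) 24

theorem cubeId_of_pow {σ : Equiv.Perm GolayPt} {f : ℕ → ℕ} (h : RepF σ f) (h3 : σ ^ 3 = 1) :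
    cubeId f = true := by
  unfold cubeId
  rw [allFold_eq_true]
  intro i hi
  rw [beq_iff_eq]
  have h1 : σ (σ (σ (pt i))) = pt i := by
    have := congrArg (fun τ : Equiv.Perm GolayPt => τ (pt i)) h3
    simpa [pow_succ, Equiv.Perm.mul_apply] using this
  have h2 := congrArg idx h1
  rw [h, h, h, idx_pt i hi] at h2
  exact h2

theorem sqId_of_pow {σ : Equiv.Perm GolayPt} {f : ℕ → ℕ} (h : RepF σ f) (h2 : σ ^ 2 = 1) :
    sqId f = true := by
  unfold sqId
  rw [allFold_eq_true]
  intro i hi
  rw [beq_iff_eq]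
  have h1 : σ (σ (pt i)) = pt i := by
    have := congrArg (fun τ : Equiv.Perm GolayPt => τ (pt i)) h2
    simpa [pow_succ, Equiv.Perm.mul_apply] using this
  have h3 := congrArg idx h1
  rw [h, h, idx_pt i hi] at h3
  exact h3

theorem pow_of_cubeId {σ : Equiv.Perm GolayPt} {f : ℕ → ℕ} (h : RepF σ f)
    (hc : cubeId f = true) : σ ^ 3 = 1 := by
  unfold cubeId at hc
  rw [allFold_eq_true] at hc
  refine Equiv.ext fun p => ?_
  apply idx_injective
  have := hc (idx p) (idx_lt p)
  rw [beq_iff_eq] at this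
  simp only [pow_succ, pow_zero, one_mul, Equiv.Perm.mul_apply, Equiv.Perm.one_apply]
  rw [h, h, h, this]

theorem pow_of_sqId {σ : Equiv.Perm GolayPt} {f : ℕ → ℕ} (h : RepF σ f)
    (hc : sqId f = true) : σ ^ 2 = 1 := by
  unfold sqId at hc
  rw [allFold_eq_true] at hc
  refine Equiv.ext fun p => ?_
  apply idx_injective
  have := hc (idx p) (idx_lt p)
  rw [beq_iff_eq] at this
  simp only [pow_succ, pow_zero, one_mul, Equiv.Perm.mul_apply, Equiv.Perm.one_apply]
  rw [h, h, this]

/-! ### Exactness of the step tests -/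

theorem maskCoding_step_iff {σ : Equiv.Perm GolayPt} {T : ℕ} (h : Represents σ T) {b c : ℕ}
    (hb : b < 2 ^ 24) (hc : c < 2 ^ 24) :
    σ • maskCoding.decode b = maskCoding.decode c ↔ maskCoding.step T b c = true := by
  constructor
  · intro he
    show (decide (b < 2 ^ 24) && (permMask T b == c)) = true
    rw [Bool.and_eq_true, decide_eq_true_eq, beq_iff_eq]
    refine ⟨hb, ?_⟩
    have := congrArg enc he
    change enc (σ • dec b) = enc (dec c) at this
    rwa [enc_smul h, enc_dec b hb, enc_dec c hc] at this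
  · exact maskCoding.sound σ T b c h

theorem objCoding_step_iff {σ : Equiv.Perm GolayPt} {T : ℕ} (h : Represents σ T) (k b c : ℕ) :
    σ • (objCoding k).decode b = (objCoding k).decode c ↔ (objCoding k).step T b c = true := by
  constructor
  · intro he
    change σ • setOf k b = setOf k c at he
    show sameSet ((mems k b).map (permMask T)) (mems k c) = true
    rw [sameSet_iff]
    intro m
    rw [smul_setOf h] at he
    constructor
    · intro hm
      obtain ⟨m', hm', rfl⟩ := List.mem_map.mp hm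
      have hlt := permMask_lt_of_represents h m' (lt_of_mem_mems hm')
      have h1 : dec (permMask T m') ∈ setOf k c := by
        rw [← he, List.mem_toFinset]
        exact List.mem_map.mpr ⟨_, hm, rfl⟩
      rw [mem_setOf, enc_dec _ hlt] at h1
      exact h1
    · intro hm
      have h1 := dec_mem_setOf hm
      rw [← he, List.mem_toFinset, List.mem_map] at h1
      obtain ⟨m', hm', hdec⟩ := h1
      obtain ⟨m'', hm'', rfl⟩ := List.mem_map.mp hm'
      have hlt := permMask_lt_of_represents h m'' (lt_of_mem_mems hm'')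
      have := dec_injOn hlt (lt_of_mem_mems hm) hdec
      rw [← this]
      exact hm'
  · exact (objCoding k).sound σ T b c h

/-! ### Counting fixed objects, and invariance under conjugation -/

section Count

variable {Ω : Type*} [MulAction (Equiv.Perm GolayPt) Ω]

theorem ncard_fixed_conj (Fam : Set Ω) (hFam : ∀ g ∈ M24, ∀ X ∈ Fam, g • X ∈ Fam)
    (g k : Equiv.Perm GolayPt) (hk : k ∈ M24) :
    {X | X ∈ Fam ∧ (k * g * k⁻¹) • X = X}.ncard = {X | X ∈ Fam ∧ g • X = X}.ncard := by
  have : {X | X ∈ Fam ∧ (k * g * k⁻¹) • X = X} = (fun X => k • X) '' {X | X ∈ Fam ∧ g • X = X} := by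
    ext X
    constructor
    · rintro ⟨hX, hfix⟩
      refine ⟨k⁻¹ • X, ⟨hFam _ (M24.inv_mem hk) X hX, ?_⟩, smul_inv_smul k X⟩
      rw [mul_smul, mul_smul] at hfix
      have := congrArg (fun Y => k⁻¹ • Y) hfix
      simp only [inv_smul_smul] at this
      exact this
    · rintro ⟨Z, ⟨hZ, hfix⟩, rfl⟩
      refine ⟨hFam k hk Z hZ, ?_⟩
      rw [mul_smul, mul_smul, inv_smul_smul, hfix]
  rw [this, Set.ncard_image_of_injective _ (MulAction.injective k)]

theorem ncard_fixed_inv (Fam : Set Ω) (g : Equiv.Perm GolayPt) :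
    {X | X ∈ Fam ∧ g⁻¹ • X = X}.ncard = {X | X ∈ Fam ∧ g • X = X}.ncard := by
  congr 1
  ext X
  simp only [Set.mem_ofPred_eq, inv_smul_eq_iff]
  constructor
  · rintro ⟨h1, h2⟩; exact ⟨h1, h2.symm⟩
  · rintro ⟨h1, h2⟩; exact ⟨h1, h2.symm⟩

end Count

end Cfsg.Agent.Lib.Helper93_M24Obj
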