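import Mathlib
import Cfsg.Agent.Lib.Helper93_M24Elt

/-!
The 48 elements of the pointwise stabiliser in `M24` of the five points `∞, 0, 1, 2, 3`, and coset
representatives for the stabilisers of four and of three of these points (data; theorems in
`Helper93_M24F5`).
-/

set_option autoImplicit false
open Cfsg
open Cfsg.Agent.Lib.Helper26_Golay

namespace Cfsg.Agent.Lib.Helper93_M24Obj

/-- The 48 elements fixing `∞, 0, 1, 2, 3`, as packed tables; entry `16 * bi + ci` maps the point `5`
to `[5, 14, 17][bi]` and the point `4` to `[4, 6, 7, 8, 9, 10, 11, 12, 13, 15, 16, 18, 19, 20, 21, 22][ci]`. -/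
def f5Packed : ℕ := 0xbc255651c4395a979a6a5a23618820b9d367add3814d263488a2a3518820ba8cb9d9cf4152d24990a9e3418820b9944a31d5694e85c2d27a63318820bb2c9819c8795753d1536923218820bd987929cda948f4ccd442e3018820ba4eca91d491550b216d99a2f18820b9166425d0996d4554ef9322d18820bca0fb4dcb49507aaa862362c18820ba1b4255cc516469a5e7b422b18820bd268341c9595e46b2563d62a18820bbeb23b5ca6169682d0434e2918820bac8a69dd2a159333d3585a2818820bd5f04a1c6b166c911ab5522718820bce8d549c7216ab45a0c4be2618820bb5135bdd63160aa1ea964a2418820bb54c79cb044486aae534d1d618820b990f640a75466db512492dd518820ba613220aa3c5f25d4cc6d9d418820b9e545b4a64c6b023d56431d318820bae703bcac245144b6caa99d218820b92924d4b65c5b33a1867a9d018820ba9b5b48a93468864ceb811cf18820bd9e854ca46461534967a25cd18820ba0d6aa4b26c56a792143cdcc18820bc8e49a8a884589a59af355cb18820bbec66acb4ac52c41e72241ca18820bd087830af9c54b91aa8b35c918820bb2ad350abb464f5408999dc818820bcd69958b5a44c4829ed621c718820bd58a410b37c4f66a6905c9c618820bc12ba18ad946c79b11553dc418820b926faa22da3a0b6255231cb618820bcc8cb2a265b8f47c9096c0b518820bbd8459e29b39559b606920b418820bd6cb22627638cfa224a834b318820ba1474922b3398d85676a3cb218820bb4c93ae2453ac893e8c9d4b018820bd17661a2a23933ac1a7448af18820bc0ea332364b892451ebaccad18820bae957b6289ba44b1cd0524ac18820bb1f3a4232ab916218ed4a8ab18820ba64d4562f83a87312d362caa18820ba91094e346b9e63d8955b0a918820bc92655a2c3b9706cea47d0a818820b99b28523343aaa4b16f258a718820b9e086be3593a6952d94b10a618820bdab49ca307b9ac5a928398a418820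

/-- Coset representatives of the stabiliser of `∞, 0, 1, 2`: entry `xi` fixes these four points and
maps the point `3` to the `xi`-th of the remaining 20 points (in increasing order of index). -/
def r4Packed : ℕ := 0xbb926a2c919b468954ec53e05b0820ba9d08b0cf21d32436cb19674a8820bd605b2d538bce89386c23526a0820b8e8c558ee59a248490d4bea598820bbe262c1899a14db54e41b97490820b90ca3c86d4960c5d1e89d5d688820bbdcc2d5b4591269c90788eca80820bb64e59d448a6d330cb54329078820b9dab828b560e747a24925a2670820ba4ac71a0a5d9f53c9131c49468820b90c59be568ada953874a9d1060820b8e9079d11230b3336d55264e58820bce11b4a952a4cc58dc8235e750820b90cba8df062ad12a24e3ce8d48820ba87374174349edb1ea48958940820bc54ca12655d4766c9107a4ce38820bbdc48a2aa84e8b659b2194e930820bc18693e2498daaa54e942dd628820b8e864a2c59c1cb654f27a9b120820bdab49ca307b9ac5a928398a418820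

/-- Coset representatives of the stabiliser of `∞, 0, 1`: entry `xi` fixes these three points and
maps the point `2` to the `xi`-th of the remaining 21 points (in increasing order of index). -/
def r3Packed : ℕ := 0xbba8b2bc933890caaa2391a096d820b89f21a1b3514d4811d1b31674d420bd8ef68d05540cb9a444732b28d020ba9751c9253a211788cda11ccb4c20b92081963514dd63317449dea6c820bd18b48e483be0e2d942312756c420bc8456d1c363ce8aaa71258c95c020ba6636c094b144e332ab8c8ea43c20bc55323605b1847a212cac9e35b820bc48eb0eb262de6450ea808b34b420bb509916ce33e8a8123312ea71b020bba474347054cd52c6c91328f22c20bd2712d5af5992471ed2641021a820bc5eea0d669d4923d910508ac6a420bb0c51ce922556971df66aa028a020bc4ad44d2b742c23329523e4a19c20b8d2523aad94d507da8b6444839820b9dd31d6c8649ed5aa09888c4a1420ba656aa28682e27789a553a6c19020bb0d06956f4d2b1148ee42a7620c20bdab49ca307b9ac5a928398a418820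

end Cfsg.Agent.Lib.Helper93_M24Obj
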