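import Mathlib
import Cfsg.Agent.Lib.Helper93_M24F5Data

/-!
Enumeration of the pointwise stabiliser in `M24` of the five points `∞, 0, 1, 2, 3` by a packed
table, and reduction of elements with five fixed points.
-/

set_option autoImplicit false
set_option linter.constructorNameAsVariable false
open Cfsg
open scoped Pointwise
open Cfsg.Agent.Lib.Helper26_Golay

namespace Cfsg.Agent.Lib.Helper93_M24Obj

/-- Entry `j` of the table of the 48 elements fixing the five base points. -/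
def f5At (j : ℕ) : ℕ := get120 f5Packed j

theorem idx_eq_enc (p : GolayPt) : idx p = Cfsg.Agent.Lib.Helper7_Bits.enc p := by
  cases p <;> rfl

theorem dec_eq_pt : ∀ i ∈ List.range 24, Cfsg.Agent.Lib.Helper7_Bits.dec i = pt i := by
  decide

/-- The base points are fixed by the table. -/
def baseFixed (T : ℕ) : Bool :=
  (img T 23 == 23) && (img T 0 == 0) && (img T 1 == 1) && (img T 2 == 2) && (img T 3 == 3)

theorem f5_in : allFold (fun j => tblInM24 (f5At j) && baseFixed (f5At j)) 48 = true := by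
  decide +kernel

theorem f5_images : ([5, 14, 17] : List ℕ).all (fun b =>
    ([4, 6, 7, 8, 9, 10, 11, 12, 13, 15, 16, 18, 19, 20, 21, 22] : List ℕ).all (fun c =>
      (List.range 48).any (fun j => (img (f5At j) 5 == b) && (img (f5At j) 4 == c)))) = true := by
  decide +kernel

theorem base_idx_cases (p : GolayPt) (hp : p ∈ Cfsg.Agent.S0364.baseSet) :
    idx p = 23 ∨ idx p = 0 ∨ idx p = 1 ∨ idx p = 2 ∨ idx p = 3 := by
  rw [Cfsg.Agent.S0364.mem_baseSet_iff] at hp
  have := Cfsg.Agent.S0364.base5_cases p hp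
  rw [← idx_eq_enc] at this
  simpa using this

theorem mem_baseSet_pt : ∀ i ∈ ([23, 0, 1, 2, 3] : List ℕ), pt i ∈ Cfsg.Agent.S0364.baseSet := by
  intro i hi
  rw [Cfsg.Agent.S0364.mem_baseSet_iff, ← idx_eq_enc]
  simp only [List.mem_cons, List.not_mem_nil, or_false] at hi
  rcases hi with rfl | rfl | rfl | rfl | rfl <;> decide

theorem fixes_base_of_baseFixed {σ : Equiv.Perm GolayPt} {T : ℕ} (h : Represents σ T)
    (hb : baseFixed T = true) : ∀ p ∈ Cfsg.Agent.S0364.baseSet, σ p = p := by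
  unfold baseFixed at hb
  simp only [Bool.and_eq_true, beq_iff_eq] at hb
  obtain ⟨⟨⟨⟨h23, h0⟩, h1⟩, h2⟩, h3⟩ := hb
  intro p hp
  apply idx_injective
  rw [h p]
  rcases base_idx_cases p hp with e | e | e | e | e <;> rw [e] <;> assumption

/-- Every element of `M24` fixing the five base points is given by an entry of the table. -/
theorem F5_enum {f : Equiv.Perm GolayPt} (hf : f ∈ M24)
    (hfix : ∀ p ∈ Cfsg.Agent.S0364.baseSet, f p = p) : ∃ j < 48, Represents f (f5At j) := by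
  let f' : Cfsg.Agent.S0364.F5 := ⟨⟨f, hf⟩, (Cfsg.Agent.S0364.mem_F5_iff _).mpr hfix⟩
  have hmem : Cfsg.Agent.S0364.phi f' ∈
      (Cfsg.Agent.S0364.targets : Set (GolayPt × GolayPt)) := by
    rw [← Cfsg.Agent.S0364.range_phi]
    exact ⟨f', rfl⟩
  rw [Finset.mem_coe, Cfsg.Agent.S0364.targets, Finset.mem_product, List.mem_toFinset,
    List.mem_toFinset, List.mem_map, List.mem_map] at hmem
  obtain ⟨⟨b, hb, hb5⟩, ⟨c, hc, hc4⟩⟩ := hmem
  have h1 := List.all_eq_true.mp f5_images b hb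
  have h2 := List.all_eq_true.mp h1 c hc
  obtain ⟨j, hj, hjbc⟩ := List.any_eq_true.mp h2
  rw [List.mem_range] at hj
  rw [Bool.and_eq_true, beq_iff_eq, beq_iff_eq] at hjbc
  have h3 := (allFold_eq_true _ _).mp f5_in j hj
  rw [Bool.and_eq_true] at h3
  obtain ⟨σ, hσ, hT⟩ := exists_of_tblInM24 h3.1
  have hσfix := fixes_base_of_baseFixed hT h3.2
  let σ' : Cfsg.Agent.S0364.F5 := ⟨⟨σ, hσ⟩, (Cfsg.Agent.S0364.mem_F5_iff _).mpr hσfix⟩
  have hb24 : b < 24 := by
    simp only [List.mem_cons, List.not_mem_nil, or_false] at hb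
    rcases hb with rfl | rfl | rfl <;> norm_num
  have hc24 : c < 24 := by
    simp only [List.mem_cons, List.not_mem_nil, or_false] at hc
    rcases hc with rfl | rfl | rfl | rfl | rfl | rfl | rfl | rfl | rfl | rfl | rfl | rfl | rfl |
      rfl | rfl | rfl <;> norm_num
  have e5 : Cfsg.Agent.Lib.Helper7_Bits.dec 5 = pt 5 := dec_eq_pt 5 (by simp)
  have e4 : Cfsg.Agent.Lib.Helper7_Bits.dec 4 = pt 4 := dec_eq_pt 4 (by simp)
  have eb : Cfsg.Agent.Lib.Helper7_Bits.dec b = pt b := dec_eq_pt b (List.mem_range.mpr hb24)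
  have ec : Cfsg.Agent.Lib.Helper7_Bits.dec c = pt c := dec_eq_pt c (List.mem_range.mpr hc24)
  have hphi : Cfsg.Agent.S0364.phi σ' = Cfsg.Agent.S0364.phi f' := by
    unfold Cfsg.Agent.S0364.phi
    show (σ (Cfsg.Agent.Lib.Helper7_Bits.dec 5), σ (Cfsg.Agent.Lib.Helper7_Bits.dec 4)) = _
    have t5 : σ (pt 5) = pt b := by
      rw [(repF_of_represents hT).apply_pt 5 (by norm_num), hjbc.1]
    have t4 : σ (pt 4) = pt c := by
      rw [(repF_of_represents hT).apply_pt 4 (by norm_num), hjbc.2]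
    rw [e5, e4, t5, t4]
    have u5 : f (Cfsg.Agent.Lib.Helper7_Bits.dec 5) = pt b := by rw [← eb]; exact hb5.symm
    have u4 : f (Cfsg.Agent.Lib.Helper7_Bits.dec 4) = pt c := by rw [← ec]; exact hc4.symm
    show _ = (f (Cfsg.Agent.Lib.Helper7_Bits.dec 5), f (Cfsg.Agent.Lib.Helper7_Bits.dec 4))
    rw [u5, u4]
  have heq : σ' = f' := Cfsg.Agent.S0364.phi_injective hphi
  have : σ = f := congrArg (fun x : Cfsg.Agent.S0364.F5 => ((x : M24) : Equiv.Perm GolayPt)) heq
  rw [← this]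
  exact ⟨j, hj, hT⟩

/-- The five base points as a finite set. -/
def baseFinset : Finset GolayPt := dec (2 ^ 23 + 15)

theorem mem_baseFinset_iff (p : GolayPt) : p ∈ baseFinset ↔ p ∈ Cfsg.Agent.S0364.baseSet := by
  unfold baseFinset
  rw [mem_dec, Cfsg.Agent.S0364.mem_baseSet_iff, idx_eq_enc]
  rfl

theorem baseFinset_card : baseFinset.card = 5 := by
  unfold baseFinset
  rw [card_eq_pop, enc_dec _ (by norm_num)]
  decide

/-- An element of `M24` fixing five points is conjugate to an entry of the table. -/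
theorem fix5_reduce {g : Equiv.Perm GolayPt} (hg : g ∈ M24) (A : Finset GolayPt)
    (hA : A.card = 5) (hfix : ∀ p ∈ A, g p = p) :
    ∃ k ∈ M24, ∃ j < 48, Represents (k * g * k⁻¹) (f5At j) := by
  obtain ⟨k, hk, hkA⟩ := exists_smul_finset_eq (k := 5) le_rfl hA baseFinset_card
  refine ⟨k, hk, ?_⟩
  apply F5_enum (M24.mul_mem (M24.mul_mem hk hg) (M24.inv_mem hk))
  intro p hp
  rw [← mem_baseFinset_iff, ← hkA, Finset.mem_smul_finset] at hp
  obtain ⟨q, hq, rfl⟩ := hp
  have h0 : k⁻¹ (k q) = q := by simp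
  simp only [Equiv.Perm.smul_def, Equiv.Perm.mul_apply]
  rw [h0, hfix q hq]

end Cfsg.Agent.Lib.Helper93_M24Obj
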