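import Mathlib
import Cfsg.Agent.Lib.Helper93_M24F5

/-!
Tools for statements about conjugacy classes of elements of `M24`: fixed points and order under
conjugation, fixed objects of an element given by a table.
-/

set_option autoImplicit false
set_option linter.constructorNameAsVariable false
open Cfsg
open scoped Pointwise
open Cfsg.Agent.Lib.Helper26_Golay

namespace Cfsg.Agent.Lib.Helper93_M24Obj

theorem card_fixed_conj (g k : Equiv.Perm GolayPt) :
    (Finset.univ.filter fun p => (k * g * k⁻¹) p = p).card =
      (Finset.univ.filter fun p => g p = p).card := by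
  symm
  apply Finset.card_bij (fun p _ => k p)
  · intro p hp
    rw [Finset.mem_filter] at hp ⊢
    refine ⟨Finset.mem_univ _, ?_⟩
    simp only [Equiv.Perm.mul_apply]
    have h0 : k⁻¹ (k p) = p := by simp
    rw [h0, hp.2]
  · intro p _ q _ h
    exact k.injective h
  · intro q hq
    rw [Finset.mem_filter] at hq
    refine ⟨k⁻¹ q, ?_, by simp⟩
    rw [Finset.mem_filter]
    refine ⟨Finset.mem_univ _, ?_⟩
    have := hq.2
    simp only [Equiv.Perm.mul_apply] at this
    apply k.injective
    rw [this]
    simp

theorem conj_pow' (g k : Equiv.Perm GolayPt) (n : ℕ) : (k * g * k⁻¹) ^ n = k * g ^ n * k⁻¹ :=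
  _root_.conj_pow

theorem dodEnum : Enum maskCoding dodecads dodAt 2576 := by
  refine ⟨?_, ?_, ?_⟩
  · intro j hj
    show dec (dodAt j) ∈ dodecads
    rw [mem_dodecads_iff, enc_dec _ (dodAt_lt j)]
    exact List.mem_map.mpr ⟨j, List.mem_range.mpr hj, rfl⟩
  · intro X hX
    rw [mem_dodecads_iff] at hX
    obtain ⟨j, hj, hjX⟩ := List.mem_map.mp hX
    refine ⟨j, List.mem_range.mp hj, ?_⟩
    show dec (dodAt j) = X
    rw [hjX, dec_enc]
  · intro j hj j' hj' h
    have h1 : dodAt j = dodAt j' := dec_injOn (dodAt_lt j) (dodAt_lt j') h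
    have hnd := dodList_nodup
    unfold dodList at hnd
    exact List.inj_on_of_nodup_map hnd (List.mem_range.mpr hj) (List.mem_range.mpr hj') h1

theorem dodecads_finite : dodecads.Finite := Set.toFinite _

section Count

variable {Ω : Type*} [MulAction (Equiv.Perm GolayPt) Ω]

/-- The number of fixed objects is the same for `g` and for an element to which `g` or its inverse
is conjugate. -/
theorem ncard_fixed_of_conj (Fam : Set Ω) (hFam : ∀ g ∈ M24, ∀ X ∈ Fam, g • X ∈ Fam)
    {g k ε : Equiv.Perm GolayPt} (hk : k ∈ M24)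
    (h : k * g * k⁻¹ = ε ∨ k * g * k⁻¹ = ε⁻¹) :
    {X | X ∈ Fam ∧ g • X = X}.ncard = {X | X ∈ Fam ∧ ε • X = X}.ncard := by
  have h1 := ncard_fixed_conj Fam hFam g k hk
  rcases h with h | h
  · rw [← h1, h]
  · rw [← h1, h, ncard_fixed_inv]

/-- The number of fixed objects of an element given by a table, on an enumerated family. -/
theorem ncard_fixed_table {C : Coding Ω} {Fam : Set Ω} {tAt : ℕ → ℕ} {n : ℕ}
    (E : Enum C Fam tAt n) (ε : Equiv.Perm GolayPt) (T : ℕ)
    (hstep : ∀ j < n, ε • C.decode (tAt j) = C.decode (tAt j) ↔ C.step T (tAt j) (tAt j) = true) :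
    {X | X ∈ Fam ∧ ε • X = X}.ncard =
      sumFold (fun j => if C.step T (tAt j) (tAt j) = true then 1 else 0) n :=
  E.ncard_filter (fun X => ε • X = X) (fun c => C.step T c c) hstep

end Count

/-- Fixed octads of an element given by a table. -/
theorem ncard_fixed_octads {ε : Equiv.Perm GolayPt} {T : ℕ} (h : Represents ε T) :
    {X | X ∈ octads ∧ ε • X = X}.ncard =
      sumFold (fun j => if maskCoding.step T (octAt j) (octAt j) = true then 1 else 0) 759 :=
  ncard_fixed_table octEnum ε T
    (fun j _ => maskCoding_step_iff h (octAt_lt j) (octAt_lt j))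

/-- Fixed dodecads of an element given by a table. -/
theorem ncard_fixed_dodecads {ε : Equiv.Perm GolayPt} {T : ℕ} (h : Represents ε T) :
    {X | X ∈ dodecads ∧ ε • X = X}.ncard =
      sumFold (fun j => if maskCoding.step T (dodAt j) (dodAt j) = true then 1 else 0) 2576 :=
  ncard_fixed_table dodEnum ε T
    (fun j _ => maskCoding_step_iff h (dodAt_lt j) (dodAt_lt j))

/-- Fixed trios of an element given by a table. -/
theorem ncard_fixed_trios {ε : Equiv.Perm GolayPt} {T : ℕ} (h : Represents ε T) :
    {X | X ∈ trios ∧ ε • X = X}.ncard =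
      sumFold (fun j => if (objCoding 3).step T (trioAt j) (trioAt j) = true then 1 else 0) 3795 :=
  ncard_fixed_table trioEnum ε T (fun j _ => objCoding_step_iff h 3 _ _)

/-- Fixed sextets of an element given by a table. -/
theorem ncard_fixed_sextets {ε : Equiv.Perm GolayPt} {T : ℕ} (h : Represents ε T) :
    {X | X ∈ sextets ∧ ε • X = X}.ncard =
      sumFold (fun j => if (objCoding 6).step T (sextAt j) (sextAt j) = true then 1 else 0) 1771 :=
  ncard_fixed_table sextEnum ε T (fun j _ => objCoding_step_iff h 6 _ _)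

end Cfsg.Agent.Lib.Helper93_M24Obj

namespace Cfsg.Agent.Lib.Helper93_M24Obj

/-- Reduction of an element of `M24` with five fixed points to a class representative: if every
entry of the table of the five-point stabiliser satisfying the test `ok` is conjugate (by an element
of `M24` given by a table) to the representative `E` or to its inverse `E'`, then so is every
element with five fixed points all of whose conjugates in the five-point stabiliser satisfy `ok`. -/
theorem class_reduce (E E' : ℕ) (hE : tblInM24 E = true) (hinv : invOK (img E) (img E') = true)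
    (ok : ℕ → Bool) (K : ℕ → ℕ) (useInv : ℕ → Bool)
    (hcheck : allFold (fun j => !(ok (f5At j)) || (tblInM24 (K j) &&
      conjOK (img (K j)) (img (f5At j)) (img (if useInv j = true then E' else E)))) 48 = true)
    {g : Equiv.Perm GolayPt} (hg : g ∈ M24) (A : Finset GolayPt) (hA : A.card = 5)
    (hfix : ∀ p ∈ A, g p = p)
    (hok : ∀ k ∈ M24, ∀ j < 48, Represents (k * g * k⁻¹) (f5At j) → ok (f5At j) = true) :
    ∃ ε ∈ M24, Represents ε E ∧ ∃ k ∈ M24, (k * g * k⁻¹ = ε ∨ k * g * k⁻¹ = ε⁻¹) := by
  obtain ⟨ε, hε, hεT⟩ := exists_of_tblInM24 hE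
  refine ⟨ε, hε, hεT, ?_⟩
  obtain ⟨k, hk, j, hj, hrep⟩ := fix5_reduce hg A hA hfix
  have hokj := hok k hk j hj hrep
  have hc := (allFold_eq_true _ _).mp hcheck j hj
  rw [hokj] at hc
  simp only [Bool.not_true, Bool.false_or, Bool.and_eq_true] at hc
  obtain ⟨κ, hκ, hκT⟩ := exists_of_tblInM24 hc.1
  refine ⟨κ * k, M24.mul_mem hκ hk, ?_⟩
  have hmul : κ * k * g * (κ * k)⁻¹ = κ * (k * g * k⁻¹) * κ⁻¹ := by
    rw [mul_inv_rev]; group
  rw [hmul]
  by_cases hu : useInv j = true
  · right
    rw [if_pos hu] at hc
    exact conj_eq_of_conjOK (repF_of_represents hκT) (repF_of_represents hrep)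
      ((repF_of_represents hεT).inv hinv) hc.2
  · left
    rw [if_neg hu] at hc
    exact conj_eq_of_conjOK (repF_of_represents hκT) (repF_of_represents hrep)
      (repF_of_represents hεT) hc.2

end Cfsg.Agent.Lib.Helper93_M24Obj
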