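import Mathlib
import Cfsg.Agent.Lib.Helper93_M24Classes

/-!
Enumeration of the elements of `M24` with prescribed images of the four points `∞, 0, 1, 2`, and
reduction of such elements to class representatives.
-/

set_option autoImplicit false
set_option linter.constructorNameAsVariable false
open Cfsg
open scoped Pointwise
open Cfsg.Agent.Lib.Helper26_Golay

namespace Cfsg.Agent.Lib.Helper93_M24Obj

/-- Coset representative number `xi` of the four-point stabiliser. -/
def r4At (xi : ℕ) : ℕ := get120 r4Packed xi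

/-- The four points `∞, 0, 1, 2` are fixed by the table. -/
def base4Fixed (T : ℕ) : Bool :=
  (img T 23 == 23) && (img T 0 == 0) && (img T 1 == 1) && (img T 2 == 2)

theorem r4_ok : allFold (fun xi => tblInM24 (r4At xi) && base4Fixed (r4At xi) &&
    (img (r4At xi) 3 == xi + 3)) 20 = true := by
  decide +kernel

theorem pt_mem_baseSet_iff (i : ℕ) (hi : i < 24) :
    pt i ∈ Cfsg.Agent.S0364.baseSet ↔ (i = 23 ∨ i = 0 ∨ i = 1 ∨ i = 2 ∨ i = 3) := by
  constructor
  · intro h
    have := base_idx_cases _ h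
    rwa [idx_pt i hi] at this
  · intro h
    apply mem_baseSet_pt
    simp only [List.mem_cons, List.not_mem_nil, or_false]
    exact h

/-- Every element of `M24` fixing `∞, 0, 1, 2` is a product of a coset representative and an entry
of the table of the five-point stabiliser. -/
theorem F4_enum {f : Equiv.Perm GolayPt} (hf : f ∈ M24)
    (h23 : f (pt 23) = pt 23) (h0 : f (pt 0) = pt 0) (h1 : f (pt 1) = pt 1)
    (h2 : f (pt 2) = pt 2) :
    ∃ xi < 20, ∃ j < 48, RepF f (fun i => img (r4At xi) (img (f5At j) i)) := by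
  have hx : 3 ≤ idx (f (pt 3)) ∧ idx (f (pt 3)) < 23 := by
    have hlt := idx_lt (f (pt 3))
    have hne : ∀ b, b < 24 → b ≠ 3 → f (pt b) = pt b → idx (f (pt 3)) ≠ b := by
      intro b hb hb3 hfb heq
      have : f (pt 3) = pt b := by rw [← pt_idx (f (pt 3)), heq]
      rw [← hfb] at this
      have := f.injective this
      have := congrArg idx this
      rw [idx_pt 3 (by norm_num), idx_pt b hb] at this
      exact hb3 this.symm
    have n23 := hne 23 (by norm_num) (by norm_num) h23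
    have n0 := hne 0 (by norm_num) (by norm_num) h0
    have n1 := hne 1 (by norm_num) (by norm_num) h1
    have n2 := hne 2 (by norm_num) (by norm_num) h2
    omega
  set xi := idx (f (pt 3)) - 3 with hxi
  have hxi20 : xi < 20 := by omega
  have hr := (allFold_eq_true _ _).mp r4_ok xi hxi20
  rw [Bool.and_eq_true, Bool.and_eq_true, beq_iff_eq] at hr
  obtain ⟨⟨hin, hfix4⟩, himg3⟩ := hr
  obtain ⟨ρ, hρ, hρT⟩ := exists_of_tblInM24 hin
  unfold base4Fixed at hfix4
  simp only [Bool.and_eq_true, beq_iff_eq] at hfix4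
  obtain ⟨⟨⟨r23, r0⟩, r1⟩, r2⟩ := hfix4
  have hρF := repF_of_represents hρT
  have ρ23 : ρ (pt 23) = pt 23 := by rw [hρF.apply_pt 23 (by norm_num), r23]
  have ρ0 : ρ (pt 0) = pt 0 := by rw [hρF.apply_pt 0 (by norm_num), r0]
  have ρ1 : ρ (pt 1) = pt 1 := by rw [hρF.apply_pt 1 (by norm_num), r1]
  have ρ2 : ρ (pt 2) = pt 2 := by rw [hρF.apply_pt 2 (by norm_num), r2]
  have ρ3 : ρ (pt 3) = f (pt 3) := by
    rw [hρF.apply_pt 3 (by norm_num), himg3, ← pt_idx (f (pt 3))]
    congr 1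
    omega
  have hh : ρ⁻¹ * f ∈ M24 := M24.mul_mem (M24.inv_mem hρ) hf
  have hhfix : ∀ p ∈ Cfsg.Agent.S0364.baseSet, (ρ⁻¹ * f) p = p := by
    intro p hp
    have hcases := base_idx_cases p hp
    rw [Equiv.Perm.mul_apply, Equiv.Perm.inv_eq_iff_eq]
    rw [← pt_idx p]
    rcases hcases with e | e | e | e | e <;> rw [e]
    · rw [h23, ρ23]
    · rw [h0, ρ0]
    · rw [h1, ρ1]
    · rw [h2, ρ2]
    · rw [ρ3]
  obtain ⟨j, hj, hjT⟩ := F5_enum hh hhfix
  refine ⟨xi, hxi20, j, hj, ?_⟩
  have : f = ρ * (ρ⁻¹ * f) := by group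
  rw [this]
  exact hρF.mul (repF_of_represents hjT)

/-- Candidate number `m` for an element with the same images of `∞, 0, 1, 2` as the table `T0`. -/
def cand4 (T0 m : ℕ) : ℕ → ℕ := fun i => img T0 (img (r4At (m / 48)) (img (f5At (m % 48)) i))

/-- Every element of `M24` with the same images of `∞, 0, 1, 2` as the element with table `T0` is
one of the 960 candidates. -/
theorem cand4_enum {T0 : ℕ} (hT0 : tblInM24 T0 = true) {g : Equiv.Perm GolayPt} (hg : g ∈ M24)
    (h23 : g (pt 23) = pt (img T0 23)) (h0 : g (pt 0) = pt (img T0 0))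
    (h1 : g (pt 1) = pt (img T0 1)) (h2 : g (pt 2) = pt (img T0 2)) :
    ∃ m < 960, RepF g (cand4 T0 m) := by
  obtain ⟨τ, hτ, hτT⟩ := exists_of_tblInM24 hT0
  have hτF := repF_of_represents hτT
  have hf : τ⁻¹ * g ∈ M24 := M24.mul_mem (M24.inv_mem hτ) hg
  have key : ∀ b, b < 24 → g (pt b) = pt (img T0 b) → (τ⁻¹ * g) (pt b) = pt b := by
    intro b hb hgb
    rw [Equiv.Perm.mul_apply, Equiv.Perm.inv_eq_iff_eq, hgb, hτF.apply_pt b hb]
  obtain ⟨xi, hxi, j, hj, hrep⟩ := F4_enum hf (key 23 (by norm_num) h23) (key 0 (by norm_num) h0)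
    (key 1 (by norm_num) h1) (key 2 (by norm_num) h2)
  refine ⟨48 * xi + j, by omega, ?_⟩
  have : g = τ * (τ⁻¹ * g) := by group
  rw [this]
  have hm1 : (48 * xi + j) / 48 = xi := by omega
  have hm2 : (48 * xi + j) % 48 = j := by omega
  unfold cand4
  rw [hm1, hm2]
  exact hτF.mul hrep

/-- Reduction to a class representative for elements with prescribed images of four points. -/
theorem class_reduce4 (T0 : ℕ) (hT0 : tblInM24 T0 = true) (E E' : ℕ) (hE : tblInM24 E = true)
    (hinv : invOK (img E) (img E') = true)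
    (ok : (ℕ → ℕ) → Bool) (K : ℕ → ℕ) (useInv : ℕ → Bool)
    (hcheck : allFold (fun m => !(ok (cand4 T0 m)) || (tblInM24 (K m) &&
      conjOK (img (K m)) (cand4 T0 m) (img (if useInv m = true then E' else E)))) 960 = true)
    {g : Equiv.Perm GolayPt} (hg : g ∈ M24)
    (h23 : g (pt 23) = pt (img T0 23)) (h0 : g (pt 0) = pt (img T0 0))
    (h1 : g (pt 1) = pt (img T0 1)) (h2 : g (pt 2) = pt (img T0 2))
    (hok : ∀ f, RepF g f → ok f = true) :
    ∃ ε ∈ M24, Represents ε E ∧ ∃ k ∈ M24, (k * g * k⁻¹ = ε ∨ k * g * k⁻¹ = ε⁻¹) := by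
  obtain ⟨ε, hε, hεT⟩ := exists_of_tblInM24 hE
  refine ⟨ε, hε, hεT, ?_⟩
  obtain ⟨m, hm, hrep⟩ := cand4_enum hT0 hg h23 h0 h1 h2
  have hokm := hok _ hrep
  have hc := (allFold_eq_true _ _).mp hcheck m hm
  rw [hokm] at hc
  simp only [Bool.not_true, Bool.false_or, Bool.and_eq_true] at hc
  obtain ⟨κ, hκ, hκT⟩ := exists_of_tblInM24 hc.1
  refine ⟨κ, hκ, ?_⟩
  by_cases hu : useInv m = true
  · right
    rw [if_pos hu] at hc
    exact conj_eq_of_conjOK (repF_of_represents hκT) hrep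
      ((repF_of_represents hεT).inv hinv) hc.2
  · left
    rw [if_neg hu] at hc
    exact conj_eq_of_conjOK (repF_of_represents hκT) hrep (repF_of_represents hεT) hc.2

/-- Five distinct points can be mapped to `∞, 0, 1, 2, 3` (in this order) by an element of `M24`. -/
theorem exists_map5 (a : Fin 5 → GolayPt) (ha : Function.Injective a) :
    ∃ k ∈ M24, k (a 0) = pt 23 ∧ k (a 1) = pt 0 ∧ k (a 2) = pt 1 ∧ k (a 3) = pt 2 ∧
      k (a 4) = pt 3 := by
  have : MulAction.IsMultiplyPretransitive M24 GolayPt 5 := Cfsg.Agent.S0366.result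
  let b : Fin 5 → GolayPt := ![pt 23, pt 0, pt 1, pt 2, pt 3]
  have hb : Function.Injective b := by decide
  obtain ⟨k, hk⟩ := MulAction.exists_smul_eq M24 (⟨a, ha⟩ : Fin 5 ↪ GolayPt) ⟨b, hb⟩
  have hki : ∀ i, (k.1 : Equiv.Perm GolayPt) (a i) = b i := by
    intro i
    exact congrArg (fun f : Fin 5 ↪ GolayPt => f i) hk
  exact ⟨k.1, k.2, hki 0, hki 1, hki 2, hki 3, hki 4⟩

end Cfsg.Agent.Lib.Helper93_M24Obj
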