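import Mathlib
import Cfsg.Agent.Lib.Helper93_M24F4

/-!
Fixed points of elements of order 3 and of involutions of `M24`: an element of order 3 has 6 or 0
fixed points, an involution has 8 or 0. Commuting elements of orders 3 and 2 are of matching type.
-/

set_option autoImplicit false
set_option linter.constructorNameAsVariable false
open Cfsg
open scoped Pointwise
open Cfsg.Agent.Lib.Helper26_Golay

namespace Cfsg.Agent.Lib.Helper93_M24Obj

/-- The indices of the five base points `∞, 0, 1, 2, 3`. -/
def bidx : Fin 5 → ℕ := ![23, 0, 1, 2, 3]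

/-- Five distinct points can be mapped to the base points. -/
theorem exists_map5' (a : Fin 5 → GolayPt) (ha : Function.Injective a) :
    ∃ k ∈ M24, ∀ i, k (a i) = pt (bidx i) := by
  obtain ⟨k, hk, e0, e1, e2, e3, e4⟩ := exists_map5 a ha
  refine ⟨k, hk, ?_⟩
  intro i
  fin_cases i
  · exact e0
  · exact e1
  · exact e2
  · exact e3
  · exact e4

theorem conj_apply_of_map {g k : Equiv.Perm GolayPt} {a : Fin 5 → GolayPt}
    (hka : ∀ i, k (a i) = pt (bidx i)) (i j : Fin 5) (h : g (a i) = a j) :
    (k * g * k⁻¹) (pt (bidx i)) = pt (bidx j) := by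
  rw [← hka i, ← hka j, ← h]
  simp [Equiv.Perm.mul_apply]

/-- An element with prescribed action on four of five points is conjugate to one of the 960
candidates. -/
theorem cand4_of_map {T0 : ℕ} (hT0 : tblInM24 T0 = true) {g k : Equiv.Perm GolayPt}
    (hg : g ∈ M24) (hk : k ∈ M24) {a : Fin 5 → GolayPt} (hka : ∀ i, k (a i) = pt (bidx i))
    (s0 s1 s2 s3 : Fin 5)
    (h0 : g (a 0) = a s0) (h1 : g (a 1) = a s1) (h2 : g (a 2) = a s2) (h3 : g (a 3) = a s3)
    (t0 : img T0 23 = bidx s0) (t1 : img T0 0 = bidx s1) (t2 : img T0 1 = bidx s2)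
    (t3 : img T0 2 = bidx s3) :
    ∃ m < 960, RepF (k * g * k⁻¹) (cand4 T0 m) := by
  have hg' : k * g * k⁻¹ ∈ M24 := M24.mul_mem (M24.mul_mem hk hg) (M24.inv_mem hk)
  apply cand4_enum hT0 hg'
  · rw [t0]; exact conj_apply_of_map hka 0 s0 h0
  · rw [t1]; exact conj_apply_of_map hka 1 s1 h1
  · rw [t2]; exact conj_apply_of_map hka 2 s2 h2
  · rw [t3]; exact conj_apply_of_map hka 3 s3 h3

/-- An element fixing five points is conjugate to an entry of the table of the five-point
stabiliser. -/
theorem f5_of_map {g k : Equiv.Perm GolayPt} (hg : g ∈ M24) (hk : k ∈ M24)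
    {a : Fin 5 → GolayPt} (hka : ∀ i, k (a i) = pt (bidx i)) (hfix : ∀ i, g (a i) = a i) :
    ∃ j < 48, Represents (k * g * k⁻¹) (f5At j) := by
  have hg' : k * g * k⁻¹ ∈ M24 := M24.mul_mem (M24.mul_mem hk hg) (M24.inv_mem hk)
  apply F5_enum hg'
  intro p hp
  have hcases := base_idx_cases p hp
  rw [← pt_idx p]
  rcases hcases with e | e | e | e | e <;> rw [e]
  · exact conj_apply_of_map hka 0 0 (hfix 0)
  · exact conj_apply_of_map hka 1 1 (hfix 1)
  · exact conj_apply_of_map hka 2 2 (hfix 2)
  · exact conj_apply_of_map hka 3 3 (hfix 3)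
  · exact conj_apply_of_map hka 4 4 (hfix 4)

/-- Test that two index functions commute. -/
def commOK (f g : ℕ → ℕ) : Bool := allFold (fun i => f (g i) == g (f i)) 24

theorem commOK_of_commute {σ τ : Equiv.Perm GolayPt} {f g : ℕ → ℕ} (hf : RepF σ f)
    (hg : RepF τ g) (h : Commute σ τ) : commOK f g = true := by
  unfold commOK
  rw [allFold_eq_true]
  intro i hi
  rw [beq_iff_eq]
  have h1 : σ (τ (pt i)) = τ (σ (pt i)) := by
    have := congrArg (fun ρ : Equiv.Perm GolayPt => ρ (pt i)) h.eq
    simpa [Equiv.Perm.mul_apply] using this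
  have h2 := congrArg idx h1
  rw [hf, hg, hg, hf, idx_pt i hi] at h2
  exact h2

/-- A table in `M24` fixing `∞` and mapping `0 ↦ 1 ↦ 2 ↦ 0`. -/
def tC3 : ℕ := 0xbbeac340b440d2db2e4499e2a70041

/-- A table in `M24` fixing `∞, 0` and interchanging `1, 2`. -/
def tC2a : ℕ := 0xb8e126aaa561e344a16f25a6e30440

/-- A table in `M24` fixing `∞`, interchanging `0, 1` and mapping `2 ↦ 3`. -/
def tC2b : ℕ := 0xbb10e31e76112b2816295368f58c01

/-- A table in `M24` interchanging `∞, 0` and `1, 2`. -/
def tC22 : ℕ := 0xcf2328915c0af4a194acece68457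

theorem tC3_in : tblInM24 tC3 = true := by decide +kernel
theorem tC2a_in : tblInM24 tC2a = true := by decide +kernel
theorem tC2b_in : tblInM24 tC2b = true := by decide +kernel
theorem tC22_in : tblInM24 tC22 = true := by decide +kernel

theorem tC3_img : img tC3 23 = 23 ∧ img tC3 0 = 1 ∧ img tC3 1 = 2 ∧ img tC3 2 = 0 := by
  decide +kernel
theorem tC2a_img : img tC2a 23 = 23 ∧ img tC2a 0 = 0 ∧ img tC2a 1 = 2 ∧ img tC2a 2 = 1 := by
  decide +kernel
theorem tC2b_img : img tC2b 23 = 23 ∧ img tC2b 0 = 1 ∧ img tC2b 1 = 0 ∧ img tC2b 2 = 3 := by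
  decide +kernel
theorem tC22_img : img tC22 23 = 0 ∧ img tC22 0 = 23 ∧ img tC22 1 = 2 ∧ img tC22 2 = 1 := by
  decide +kernel

theorem tC3_check : allFold (fun m => !(cubeId (cand4 tC3 m)) ||
    (fixCount (cand4 tC3 m) == 6)) 960 = true := by decide +kernel

theorem tC2a_check : allFold (fun m => !(sqId (cand4 tC2a m)) ||
    (fixCount (cand4 tC2a m) == 8)) 960 = true := by decide +kernel

theorem tC2b_check : allFold (fun m => !(sqId (cand4 tC2b m)) ||
    (fixCount (cand4 tC2b m) == 8)) 960 = true := by decide +kernel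

/-- No fixed-point-free involution among the candidates commutes with an element of order 3 of
the five-point stabiliser. -/
theorem tC22_check : allFold (fun m => !(sqId (cand4 tC22 m) && (fixCount (cand4 tC22 m) == 0)) ||
    allFold (fun j => !(cubeId (img (f5At j)) && commOK (cand4 tC22 m) (img (f5At j))) ||
      (fixCount (img (f5At j)) == 24)) 48) 960 = true := by decide +kernel

/-- A point outside a small finite set. -/
theorem exists_notMem_of_card_lt (S : Finset GolayPt) (h : S.card < 24) : ∃ e, e ∉ S := by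
  obtain ⟨b, -, hb⟩ := Finset.exists_mem_notMem_of_card_lt_card (s := S) (t := Finset.univ) (by
    rw [Finset.card_univ]
    have : Fintype.card GolayPt = 24 := by decide
    omega)
  exact ⟨b, hb⟩

theorem apply3_of_orderOf {g : Equiv.Perm GolayPt} (h₃ : orderOf g = 3) (p : GolayPt) :
    g (g (g p)) = p := by
  have hg3 : g ^ 3 = 1 := by rw [← h₃]; exact pow_orderOf_eq_one g
  have := congrArg (fun τ : Equiv.Perm GolayPt => τ p) hg3
  simpa [pow_succ, Equiv.Perm.mul_apply] using this

theorem apply2_of_orderOf {s : Equiv.Perm GolayPt} (h₂ : orderOf s = 2) (p : GolayPt) :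
    s (s p) = p := by
  have hs2 : s ^ 2 = 1 := by rw [← h₂]; exact pow_orderOf_eq_one s
  have := congrArg (fun τ : Equiv.Perm GolayPt => τ p) hs2
  simpa [pow_succ, Equiv.Perm.mul_apply] using this

theorem exists_moved {g : Equiv.Perm GolayPt} (h : g ≠ 1) : ∃ d, g d ≠ d := by
  by_contra hcon
  push Not at hcon
  exact h (Equiv.ext hcon)

/-- An element of order 3 of `M24` has exactly 6 fixed points or none. -/
theorem fix_of_order3 {g : Equiv.Perm GolayPt} (hg : g ∈ M24) (h₃ : orderOf g = 3) :
    (Finset.univ.filter fun p => g p = p).card = 6 ∨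
      (Finset.univ.filter fun p => g p = p).card = 0 := by
  by_cases h0 : (Finset.univ.filter fun p => g p = p).card = 0
  · right; exact h0
  left
  obtain ⟨a, haF⟩ := Finset.card_pos.mp (Nat.pos_of_ne_zero h0)
  have hga : g a = a := (Finset.mem_filter.mp haF).2
  have hne : g ≠ 1 := by
    intro h
    rw [h, orderOf_one] at h₃
    omega
  obtain ⟨d, hd⟩ := exists_moved hne
  have hggg := apply3_of_orderOf h₃
  have hg3 : g ^ 3 = 1 := by rw [← h₃]; exact pow_orderOf_eq_one g
  have n1 : a ≠ d := by
    intro h; rw [← h] at hd; exact hd hga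
  have n2 : a ≠ g d := by
    intro h
    apply n1
    have h2 : g (g a) = g (g (g d)) := by rw [← h]
    rw [hggg, hga, hga] at h2
    exact h2
  have n3 : a ≠ g (g d) := by
    intro h
    apply n1
    have := congrArg g h
    rw [hggg, hga] at this
    exact this
  have n4 : d ≠ g d := Ne.symm hd
  have n5 : d ≠ g (g d) := by
    intro h
    apply hd
    have := congrArg g h
    rw [hggg] at this
    exact this
  have n6 : g d ≠ g (g d) := fun h => n4 (g.injective h)
  obtain ⟨e, he⟩ := exists_notMem_of_card_lt ({a, d, g d, g (g d)} : Finset GolayPt)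
    (lt_of_le_of_lt (Finset.card_le_four) (by norm_num))
  simp only [Finset.mem_insert, Finset.mem_singleton, not_or] at he
  obtain ⟨e1, e2, e3, e4⟩ := he
  have hinj : Function.Injective ![a, d, g d, g (g d), e] := by
    rw [← List.nodup_ofFn]
    simp only [List.ofFn_succ, List.ofFn_zero, Matrix.cons_val_zero, Matrix.cons_val_succ,
      List.nodup_cons, List.mem_cons,
      List.not_mem_nil, or_false, not_or, List.nodup_nil, and_true, not_false_eq_true]
    exact ⟨⟨n1, n2, n3, Ne.symm e1⟩, ⟨n4, n5, Ne.symm e2⟩, ⟨n6, Ne.symm e3⟩, Ne.symm e4⟩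
  obtain ⟨k, hk, hka⟩ := exists_map5' _ hinj
  obtain ⟨t0, t1, t2, t3⟩ := tC3_img
  obtain ⟨m, hm, hrep⟩ := cand4_of_map tC3_in hg hk hka 0 2 3 1 hga rfl rfl (hggg d)
    t0 t1 t2 t3
  have hc := (allFold_eq_true _ _).mp tC3_check m hm
  have hcube : cubeId (cand4 tC3 m) = true := by
    apply cubeId_of_pow hrep
    rw [conj_pow', hg3, mul_one, mul_inv_cancel]
  rw [hcube] at hc
  simp only [Bool.not_true, Bool.false_or, beq_iff_eq] at hc
  rw [← card_fixed_conj g k, card_fixed_eq hrep, hc]

/-- An involution of `M24` has exactly 8 fixed points or none. -/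
theorem fix_of_order2 {s : Equiv.Perm GolayPt} (hs : s ∈ M24) (h₂ : orderOf s = 2) :
    (Finset.univ.filter fun p => s p = p).card = 8 ∨
      (Finset.univ.filter fun p => s p = p).card = 0 := by
  by_cases h0 : (Finset.univ.filter fun p => s p = p).card = 0
  · right; exact h0
  left
  obtain ⟨a, haF⟩ := Finset.card_pos.mp (Nat.pos_of_ne_zero h0)
  have hsa : s a = a := (Finset.mem_filter.mp haF).2
  have hne : s ≠ 1 := by
    intro h
    rw [h, orderOf_one] at h₂
    omega
  obtain ⟨d, hd⟩ := exists_moved hne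
  have hss := apply2_of_orderOf h₂
  have hs2 : s ^ 2 = 1 := by rw [← h₂]; exact pow_orderOf_eq_one s
  have n1 : a ≠ d := by
    intro h; rw [← h] at hd; exact hd hsa
  have n2 : a ≠ s d := by
    intro h
    apply n1
    have := congrArg s h
    rw [hss, hsa] at this
    exact this
  have n3 : d ≠ s d := Ne.symm hd
  have fin : ∀ (T : ℕ) (k : Equiv.Perm GolayPt), allFold (fun m => !(sqId (cand4 T m)) ||
      (fixCount (cand4 T m) == 8)) 960 = true → (∃ m < 960, RepF (k * s * k⁻¹) (cand4 T m)) →
      (Finset.univ.filter fun p => s p = p).card = 8 := by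
    intro T k hcheck hm
    obtain ⟨m, hm, hrep⟩ := hm
    have hc := (allFold_eq_true _ _).mp hcheck m hm
    have hsq : sqId (cand4 T m) = true := by
      apply sqId_of_pow hrep
      rw [conj_pow', hs2, mul_one, mul_inv_cancel]
    rw [hsq] at hc
    simp only [Bool.not_true, Bool.false_or, beq_iff_eq] at hc
    rw [← card_fixed_conj s k, card_fixed_eq hrep, hc]
  by_cases hb : ∃ b, b ≠ a ∧ s b = b
  · obtain ⟨b, hba, hsb⟩ := hb
    have n4 : b ≠ d := by
      intro h; rw [h] at hsb; exact hd hsb
    have n5 : b ≠ s d := by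
      intro h
      apply n4
      have := congrArg s h
      rw [hss, hsb] at this
      exact this
    obtain ⟨e, he⟩ := exists_notMem_of_card_lt ({a, b, d, s d} : Finset GolayPt)
      (lt_of_le_of_lt (Finset.card_le_four) (by norm_num))
    simp only [Finset.mem_insert, Finset.mem_singleton, not_or] at he
    obtain ⟨e1, e2, e3, e4⟩ := he
    have hinj : Function.Injective ![a, b, d, s d, e] := by
      rw [← List.nodup_ofFn]
      simp only [List.ofFn_succ, List.ofFn_zero, Matrix.cons_val_zero, Matrix.cons_val_succ,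
        List.nodup_cons, List.mem_cons,
        List.not_mem_nil, or_false, not_or, List.nodup_nil, and_true, not_false_eq_true]
      exact ⟨⟨Ne.symm hba, n1, n2, Ne.symm e1⟩, ⟨n4, n5, Ne.symm e2⟩, ⟨n3, Ne.symm e3⟩,
        Ne.symm e4⟩
    obtain ⟨k, hk, hka⟩ := exists_map5' _ hinj
    obtain ⟨t0, t1, t2, t3⟩ := tC2a_img
    exact fin tC2a k tC2a_check
      (cand4_of_map tC2a_in hs hk hka 0 1 3 2 hsa hsb rfl (hss d) t0 t1 t2 t3)
  · push Not at hb
    obtain ⟨e, he⟩ := exists_notMem_of_card_lt ({a, d, s d} : Finset GolayPt)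
      (lt_of_le_of_lt (Finset.card_le_three) (by norm_num))
    simp only [Finset.mem_insert, Finset.mem_singleton, not_or] at he
    obtain ⟨e1, e2, e3⟩ := he
    have hse : s e ≠ e := hb e e1
    have m1 : a ≠ s e := by
      intro h
      apply e1
      have := congrArg s h
      rw [hss, hsa] at this
      exact this.symm
    have m2 : d ≠ s e := by
      intro h
      apply e3
      have := congrArg s h
      rw [hss] at this
      exact this.symm
    have m3 : s d ≠ s e := fun h => e2 (s.injective h).symm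
    have hinj : Function.Injective ![a, d, s d, e, s e] := by
      rw [← List.nodup_ofFn]
      simp only [List.ofFn_succ, List.ofFn_zero, Matrix.cons_val_zero, Matrix.cons_val_succ,
        List.nodup_cons, List.mem_cons,
        List.not_mem_nil, or_false, not_or, List.nodup_nil, and_true, not_false_eq_true]
      exact ⟨⟨n1, n2, Ne.symm e1, m1⟩, ⟨n3, Ne.symm e2, m2⟩, ⟨Ne.symm e3, m3⟩, Ne.symm hse⟩
    obtain ⟨k, hk, hka⟩ := exists_map5' _ hinj
    obtain ⟨t0, t1, t2, t3⟩ := tC2b_img
    exact fin tC2b k tC2b_check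
      (cand4_of_map tC2b_in hs hk hka 0 2 1 4 hsa rfl (hss d) rfl t0 t1 t2 t3)

/-- A fixed-point-free involution of `M24` does not commute with an element of order 3 having
fixed points. -/
theorem not_commute_fpf_invol {x s : Equiv.Perm GolayPt} (hx : x ∈ M24) (hs : s ∈ M24)
    (h₃ : orderOf x = 3) (h₂ : orderOf s = 2) (hc : Commute x s)
    (h6 : (Finset.univ.filter fun p => x p = p).card = 6)
    (h0 : (Finset.univ.filter fun p => s p = p).card = 0) : False := by
  have hss := apply2_of_orderOf h₂
  have hs2 : s ^ 2 = 1 := by rw [← h₂]; exact pow_orderOf_eq_one s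
  have hx3 : x ^ 3 = 1 := by rw [← h₃]; exact pow_orderOf_eq_one x
  have hfpf : ∀ p, s p ≠ p := by
    intro p hp
    have : p ∈ (Finset.univ.filter fun p => s p = p) := Finset.mem_filter.mpr ⟨Finset.mem_univ _, hp⟩
    rw [Finset.card_eq_zero] at h0
    rw [h0] at this
    exact Finset.notMem_empty _ this
  set H := Finset.univ.filter fun p => x p = p with hH
  have hmem : ∀ p, p ∈ H ↔ x p = p := by
    intro p; rw [hH, Finset.mem_filter]; simp
  have hsH : ∀ p ∈ H, s p ∈ H := by
    intro p hp
    rw [hmem] at hp ⊢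
    have h1 : x (s p) = s (x p) := by
      have := congrArg (fun ρ : Equiv.Perm GolayPt => ρ p) hc.eq
      simpa [Equiv.Perm.mul_apply] using this
    rw [h1, hp]
  obtain ⟨a, haH⟩ := Finset.card_pos.mp (by rw [h6]; norm_num : 0 < H.card)
  have hbH := hsH a haH
  have n1 : a ≠ s a := Ne.symm (hfpf a)
  obtain ⟨c, hcH, hc'⟩ := Finset.exists_mem_notMem_of_card_lt_card
    (s := ({a, s a} : Finset GolayPt)) (t := H)
    (lt_of_le_of_lt (Finset.card_le_two) (by rw [h6]; norm_num))
  simp only [Finset.mem_insert, Finset.mem_singleton, not_or] at hc'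
  obtain ⟨c1, c2⟩ := hc'
  have hdH := hsH c hcH
  have n2 : c ≠ s c := Ne.symm (hfpf c)
  have n3 : a ≠ s c := by
    intro h
    apply c2
    have := congrArg s h
    rw [hss] at this
    exact this.symm
  have n4 : s a ≠ s c := fun h => c1 (s.injective h).symm
  obtain ⟨e, heH, he'⟩ := Finset.exists_mem_notMem_of_card_lt_card
    (s := ({a, s a, c, s c} : Finset GolayPt)) (t := H)
    (lt_of_le_of_lt (Finset.card_le_four) (by rw [h6]; norm_num))
  simp only [Finset.mem_insert, Finset.mem_singleton, not_or] at he'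
  obtain ⟨e1, e2, e3, e4⟩ := he'
  have hinj : Function.Injective ![a, s a, c, s c, e] := by
    rw [← List.nodup_ofFn]
    simp only [List.ofFn_succ, List.ofFn_zero, Matrix.cons_val_zero, Matrix.cons_val_succ,
      List.nodup_cons, List.mem_cons,
      List.not_mem_nil, or_false, not_or, List.nodup_nil, and_true, not_false_eq_true]
    exact ⟨⟨n1, Ne.symm c1, n3, Ne.symm e1⟩, ⟨Ne.symm c2, n4, Ne.symm e2⟩, ⟨n2, Ne.symm e3⟩,
      Ne.symm e4⟩
  obtain ⟨k, hk, hka⟩ := exists_map5' _ hinj
  obtain ⟨t0, t1, t2, t3⟩ := tC22_img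
  obtain ⟨m, hm, hrep⟩ := cand4_of_map tC22_in hs hk hka 1 0 3 2 rfl (hss a) rfl (hss c)
    t0 t1 t2 t3
  obtain ⟨j, hj, hrepx⟩ := f5_of_map hx hk hka (by
    intro i
    fin_cases i
    · exact (hmem _).mp haH
    · exact (hmem _).mp hbH
    · exact (hmem _).mp hcH
    · exact (hmem _).mp hdH
    · exact (hmem _).mp heH)
  have hchk := (allFold_eq_true _ _).mp tC22_check m hm
  have hsq : sqId (cand4 tC22 m) = true := by
    apply sqId_of_pow hrep
    rw [conj_pow', hs2, mul_one, mul_inv_cancel]
  have hf0 : fixCount (cand4 tC22 m) = 0 := by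
    rw [← card_fixed_eq hrep, card_fixed_conj, h0]
  rw [hsq, hf0] at hchk
  simp only [beq_self_eq_true, Bool.and_self, Bool.not_true, Bool.false_or] at hchk
  have hchk2 := (allFold_eq_true _ _).mp hchk j hj
  have hcube : cubeId (img (f5At j)) = true := by
    apply cubeId_of_pow (repF_of_represents hrepx)
    rw [conj_pow', hx3, mul_one, mul_inv_cancel]
  have hcomm : commOK (cand4 tC22 m) (img (f5At j)) = true := by
    apply commOK_of_commute hrep (repF_of_represents hrepx)
    have hc2 : s * x = x * s := hc.eq.symm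
    show k * s * k⁻¹ * (k * x * k⁻¹) = k * x * k⁻¹ * (k * s * k⁻¹)
    have e1 : k * s * k⁻¹ * (k * x * k⁻¹) = k * (s * x) * k⁻¹ := by group
    have e2 : k * x * k⁻¹ * (k * s * k⁻¹) = k * (x * s) * k⁻¹ := by group
    rw [e1, e2, hc2]
  have hf6 : fixCount (img (f5At j)) = 6 := by
    rw [← card_fixed_eq (repF_of_represents hrepx), card_fixed_conj, h6]
  rw [hcube, hcomm, hf6] at hchk2
  simp at hchk2

/-- An element of order 3 commuting with a permutation having exactly 8 fixed points has a fixed
point. -/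
theorem exists_fixed_of_commute {x s : Equiv.Perm GolayPt} (hx3 : x ^ 3 = 1) (hc : Commute x s)
    (h8 : (Finset.univ.filter fun p => s p = p).card = 8) : ∃ p, x p = p := by
  have hiff : ∀ p, s (x p) = x p ↔ s p = p := by
    intro p
    have h1 : x (s p) = s (x p) := by
      have := congrArg (fun ρ : Equiv.Perm GolayPt => ρ p) hc.eq
      simpa [Equiv.Perm.mul_apply] using this
    rw [← h1]
    exact x.injective.eq_iff
  have : Fact (Nat.Prime 3) := ⟨by norm_num⟩
  have hcard : Fintype.card {p // s p = p} = 8 := by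
    rw [Fintype.card_subtype]
    exact h8
  obtain ⟨p, hp⟩ := Equiv.Perm.exists_fixed_point_of_prime (p := 3) (n := 1)
    (σ := x.subtypePerm hiff) (by rw [hcard]; norm_num) (by
      rw [pow_one, Equiv.Perm.subtypePerm_pow]
      simp only [hx3]
      exact Equiv.Perm.subtypePerm_one _ _)
  refine ⟨p.1, ?_⟩
  have := congrArg Subtype.val hp
  simpa using this

end Cfsg.Agent.Lib.Helper93_M24Obj
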