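import Mathlib
import Cfsg.Agent.Lib.Helper93_M24Fix

/-!
Six points of the 24: the action of `M24` on ordered sextuples of distinct points and the
pointwise stabiliser of six points.
-/

set_option autoImplicit false
set_option linter.constructorNameAsVariable false
open Cfsg
open scoped Pointwise
open Cfsg.Agent.Lib.Helper26_Golay

namespace Cfsg.Agent.Lib.Helper93_M24Obj

/-- The index is one of the five base points. -/
def isBase (i : ℕ) : Bool := i == 23 || i == 0 || i == 1 || i == 2 || i == 3

/-- The index is one of the three further points of the octad through the base points. -/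
def inO (i : ℕ) : Bool := i == 5 || i == 14 || i == 17

/-- Number of entries of the table of the five-point stabiliser fixing the index `α`. -/
def cntFix (α : ℕ) : ℕ := sumFold (fun j => if img (f5At j) α == α then 1 else 0) 48

theorem cnt_ok : allFold (fun α => isBase α || (cntFix α == (if inO α then 16 else 3))) 24 = true := by
  decide +kernel

theorem trans_ok : allFold (fun α => allFold (fun β => isBase α || isBase β || (inO α != inO β) ||
    !(allFold (fun j => !(img (f5At j) α == β)) 48)) 24) 24 = true := by decide +kernel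

theorem distinct_ok : allFold (fun j => allFold (fun j' => (j == j') ||
    !(img (f5At j) 5 == img (f5At j') 5 && img (f5At j) 4 == img (f5At j') 4)) 48) 48 = true := by
  decide +kernel

theorem p8_ok : allFold (fun i => (octAt 36).testBit i == (isBase i || inO i)) 24 = true := by
  decide +kernel

/-- The octad through the five base points. -/
def oct8 : Finset GolayPt := dec (octAt 36)

theorem oct8_mem : oct8 ∈ octads := octEnum.1 36 (by norm_num)

theorem pt_mem_oct8 {i : ℕ} (hi : i < 24) : pt i ∈ oct8 ↔ (isBase i || inO i) = true := by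
  unfold oct8
  rw [mem_dec, idx_pt i hi]
  have := (allFold_eq_true _ _).mp p8_ok i hi
  rw [beq_iff_eq] at this
  rw [this]

/-- The permutation given by entry `j` of the table of the five-point stabiliser. -/
noncomputable def f5Perm (j : ℕ) : Equiv.Perm GolayPt :=
  if h : tblInM24 (f5At j) = true then Classical.choose (exists_of_tblInM24 h) else 1

theorem f5Perm_spec {j : ℕ} (hj : j < 48) : f5Perm j ∈ M24 ∧ Represents (f5Perm j) (f5At j) := by
  have h := (allFold_eq_true _ _).mp f5_in j hj
  rw [Bool.and_eq_true] at h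
  unfold f5Perm
  rw [dif_pos h.1]
  exact Classical.choose_spec (exists_of_tblInM24 h.1)

theorem f5Perm_fix {j : ℕ} (hj : j < 48) (i : Fin 5) : f5Perm j (pt (bidx i)) = pt (bidx i) := by
  have h := (allFold_eq_true _ _).mp f5_in j hj
  rw [Bool.and_eq_true] at h
  have hb := h.2
  unfold baseFixed at hb
  simp only [Bool.and_eq_true, beq_iff_eq] at hb
  obtain ⟨⟨⟨⟨b23, b0⟩, b1⟩, b2⟩, b3⟩ := hb
  have hF := repF_of_represents (f5Perm_spec hj).2
  fin_cases i
  · exact (hF.apply_pt 23 (by norm_num)).trans (congrArg pt b23)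
  · exact (hF.apply_pt 0 (by norm_num)).trans (congrArg pt b0)
  · exact (hF.apply_pt 1 (by norm_num)).trans (congrArg pt b1)
  · exact (hF.apply_pt 2 (by norm_num)).trans (congrArg pt b2)
  · exact (hF.apply_pt 3 (by norm_num)).trans (congrArg pt b3)

theorem f5Perm_inj {j j' : ℕ} (hj : j < 48) (hj' : j' < 48) (h : f5Perm j = f5Perm j') : j = j' := by
  have hF := repF_of_represents (f5Perm_spec hj).2
  have hF' := repF_of_represents (f5Perm_spec hj').2
  have himg : ∀ i < 24, img (f5At j) i = img (f5At j') i := by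
    intro i hi
    have h1 := hF (pt i)
    have h2 := hF' (pt i)
    rw [idx_pt i hi] at h1 h2
    rw [← h1, ← h2, h]
  have hc := (allFold_eq_true _ _).mp ((allFold_eq_true _ _).mp distinct_ok j hj) j' hj'
  rw [himg 5 (by norm_num), himg 4 (by norm_num)] at hc
  simpa using hc

/-- An element of `M24` fixing the five base points is an entry of the table. -/
theorem F5_enum' {f : Equiv.Perm GolayPt} (hf : f ∈ M24)
    (hfix : ∀ i : Fin 5, f (pt (bidx i)) = pt (bidx i)) : ∃ j < 48, f = f5Perm j := by
  obtain ⟨j, hj, hrep⟩ := F5_enum hf (by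
    intro p hp
    have hcases := base_idx_cases p hp
    rw [← pt_idx p]
    rcases hcases with e | e | e | e | e <;> rw [e]
    · exact hfix 0
    · exact hfix 1
    · exact hfix 2
    · exact hfix 3
    · exact hfix 4)
  exact ⟨j, hj, (repF_of_represents hrep).unique (repF_of_represents (f5Perm_spec hj).2)⟩

theorem isBase_bidx (i : Fin 5) : isBase (bidx i) = true := by
  fin_cases i <;> rfl

theorem exists_bidx_of_isBase {α : ℕ} (h : isBase α = true) : ∃ i : Fin 5, bidx i = α := by
  unfold isBase at h
  simp only [Bool.or_eq_true, beq_iff_eq] at h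
  rcases h with (((h | h) | h) | h) | h
  · exact ⟨0, h.symm⟩
  · exact ⟨1, h.symm⟩
  · exact ⟨2, h.symm⟩
  · exact ⟨3, h.symm⟩
  · exact ⟨4, h.symm⟩

theorem bidx_lt (i : Fin 5) : bidx i < 24 := by
  fin_cases i <;> decide

/-- A frame for six distinct points: an element of `M24` mapping the first five to the base
points; the image of the sixth has index `α`. -/
structure Frame (a : Fin 6 → GolayPt) where
  /-- the element of `M24` -/
  k : Equiv.Perm GolayPt
  hk : k ∈ M24
  hka : ∀ i : Fin 5, k (a i.castSucc) = pt (bidx i)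
  /-- the index of the image of the sixth point -/
  α : ℕ
  hα : α < 24
  hk5 : k (a 5) = pt α
  hbase : isBase α = false

theorem exists_frame (a : Fin 6 → GolayPt) (ha : Function.Injective a) : Nonempty (Frame a) := by
  obtain ⟨k, hk, hka⟩ := exists_map5' (fun i : Fin 5 => a i.castSucc)
    (fun i j hij => Fin.castSucc_injective _ (ha hij))
  refine ⟨⟨k, hk, hka, idx (k (a 5)), idx_lt _, (pt_idx _).symm, ?_⟩⟩
  by_contra hb
  rw [Bool.not_eq_false] at hb
  obtain ⟨i, hi⟩ := exists_bidx_of_isBase hb
  have h1 : k (a 5) = k (a i.castSucc) := by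
    rw [hka i, hi, pt_idx]
  have h2 := ha (k.injective h1)
  have : (5 : Fin 6) = Fin.last 5 := rfl
  rw [this] at h2
  exact (Fin.castSucc_lt_last i).ne h2.symm

/-- Membership in the image of `a`. -/
theorem exists_eq_of_forall_fin6 {P : Fin 6 → Prop} (h : ∀ i : Fin 5, P i.castSucc) (h5 : P 5) :
    ∀ i, P i := by
  intro i
  refine Fin.lastCases ?_ (fun j => h j) i
  exact h5

/-- The six points lie in an octad iff the index of the frame lies in the base octad. -/
theorem frame_octad_iff {a : Fin 6 → GolayPt} (F : Frame a) (E : Finset GolayPt)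
    (hE : ∀ p, p ∈ E ↔ ∃ i, a i = p) : (∃ o ∈ octads, E ⊆ o) ↔ inO F.α = true := by
  constructor
  · rintro ⟨o, ho, hEo⟩
    have hko : F.k • o ∈ octads := smul_mem_octads F.hk ho
    have hmem : ∀ i, F.k (a i) ∈ F.k • o := by
      intro i
      rw [← Equiv.Perm.smul_def, Finset.smul_mem_smul_finset_iff]
      exact hEo ((hE _).mpr ⟨i, rfl⟩)
    have hsub : baseFinset ⊆ F.k • o ∩ oct8 := by
      intro p hp
      rw [mem_baseFinset_iff] at hp
      have hcases := base_idx_cases p hp
      have hb : isBase (idx p) = true := by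
        unfold isBase
        rcases hcases with e | e | e | e | e <;> rw [e] <;> rfl
      obtain ⟨i, hi⟩ := exists_bidx_of_isBase hb
      rw [Finset.mem_inter]
      constructor
      · rw [← pt_idx p, ← hi, ← F.hka i]
        exact hmem _
      · rw [← pt_idx p, pt_mem_oct8 (idx_lt p), hb]
        rfl
    have h5 : 5 ≤ (F.k • o ∩ oct8).card := by
      rw [← baseFinset_card]
      exact Finset.card_le_card hsub
    have heq := octad_eq_of_five_le hko oct8_mem h5
    have := hmem 5
    rw [heq, F.hk5, pt_mem_oct8 F.hα, F.hbase] at this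
    simpa using this
  · intro hin
    refine ⟨F.k⁻¹ • oct8, smul_mem_octads (M24.inv_mem F.hk) oct8_mem, ?_⟩
    intro p hp
    obtain ⟨i, rfl⟩ := (hE p).mp hp
    rw [← Finset.inv_smul_mem_iff, inv_inv, Equiv.Perm.smul_def]
    clear hp
    revert i
    apply exists_eq_of_forall_fin6
    · intro i
      rw [F.hka i, pt_mem_oct8 (bidx_lt i), isBase_bidx]
      rfl
    · rw [F.hk5, pt_mem_oct8 F.hα, hin]
      simp

/-- The set of elements of `M24` fixing the six points is parametrised by the entries of the table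
fixing the index `α`. -/
theorem pstab_eq_image {a : Fin 6 → GolayPt} (F : Frame a) (E : Finset GolayPt)
    (hE : ∀ p, p ∈ E ↔ ∃ i, a i = p) :
    {g : Equiv.Perm GolayPt | g ∈ M24 ∧ ∀ p ∈ E, g p = p} =
      (fun j => F.k⁻¹ * f5Perm j * F.k) ''
        ↑((Finset.range 48).filter fun j => img (f5At j) F.α = F.α) := by
  ext g
  simp only [Set.mem_ofPred_eq, Set.mem_image, Finset.coe_filter, Finset.mem_range]
  constructor
  · rintro ⟨hg, hfix⟩
    have hg' : F.k * g * F.k⁻¹ ∈ M24 := M24.mul_mem (M24.mul_mem F.hk hg) (M24.inv_mem F.hk)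
    have hfixa : ∀ i, g (a i) = a i := fun i => hfix _ ((hE _).mpr ⟨i, rfl⟩)
    have happ : ∀ i, (F.k * g * F.k⁻¹) (F.k (a i)) = F.k (a i) := by
      intro i
      simp only [Equiv.Perm.mul_apply]
      have h0 : F.k⁻¹ (F.k (a i)) = a i := by simp
      rw [h0, hfixa i]
    obtain ⟨j, hj, hjeq⟩ := F5_enum' hg' (by
      intro i
      rw [← F.hka i]
      exact happ _)
    refine ⟨j, ⟨hj, ?_⟩, ?_⟩
    · have h5 := happ 5
      rw [F.hk5, hjeq, (repF_of_represents (f5Perm_spec hj).2).apply_pt F.α F.hα] at h5
      have := congrArg idx h5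
      rwa [idx_pt _ ((repF_of_represents (f5Perm_spec hj).2).lt F.α F.hα), idx_pt _ F.hα] at this
    · rw [← hjeq]
      group
  · rintro ⟨j, ⟨hj, hjα⟩, rfl⟩
    refine ⟨M24.mul_mem (M24.mul_mem (M24.inv_mem F.hk) (f5Perm_spec hj).1) F.hk, ?_⟩
    intro p hp
    obtain ⟨i, rfl⟩ := (hE p).mp hp
    simp only [Equiv.Perm.mul_apply]
    rw [Equiv.Perm.inv_eq_iff_eq]
    clear hp
    revert i
    apply exists_eq_of_forall_fin6
    · intro i
      rw [F.hka i]
      exact f5Perm_fix hj i
    · rw [F.hk5, (repF_of_represents (f5Perm_spec hj).2).apply_pt F.α F.hα, hjα]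

/-- The number of elements of `M24` fixing six points. -/
theorem ncard_pstab {a : Fin 6 → GolayPt} (F : Frame a) (E : Finset GolayPt)
    (hE : ∀ p, p ∈ E ↔ ∃ i, a i = p) :
    {g : Equiv.Perm GolayPt | g ∈ M24 ∧ ∀ p ∈ E, g p = p}.ncard = if inO F.α = true then 16 else 3 := by
  have hinj : Set.InjOn (fun j => F.k⁻¹ * f5Perm j * F.k)
      ↑((Finset.range 48).filter fun j => img (f5At j) F.α = F.α) := by
    intro j hj j' hj' hjj'
    rw [Finset.coe_filter, Set.mem_ofPred_eq, Finset.mem_range] at hj hj'
    apply f5Perm_inj hj.1 hj'.1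
    have h1 : F.k * (F.k⁻¹ * f5Perm j * F.k) * F.k⁻¹ = F.k * (F.k⁻¹ * f5Perm j' * F.k) * F.k⁻¹ := by
      simp only at hjj'
      rw [hjj']
    have e1 : ∀ f : Equiv.Perm GolayPt, F.k * (F.k⁻¹ * f * F.k) * F.k⁻¹ = f := by
      intro f; group
    rwa [e1, e1] at h1
  rw [pstab_eq_image F E hE, hinj.ncard_image, Set.ncard_coe_finset]
  · have h := (allFold_eq_true _ _).mp cnt_ok F.α F.hα
    rw [F.hbase, Bool.false_or, beq_iff_eq] at h
    rw [← h]
    unfold cntFix
    rw [sumFold_eq, Finset.card_filter]
    apply Finset.sum_congr rfl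
    intro j _
    by_cases hj : img (f5At j) F.α = F.α
    · rw [if_pos hj, if_pos (by rw [beq_iff_eq]; exact hj)]
    · rw [if_neg hj, if_neg (by rw [beq_iff_eq]; exact hj)]

/-- Two frames whose indices are of the same kind are related by an element of `M24`. -/
theorem exists_map6 {a b : Fin 6 → GolayPt} (F : Frame a) (F' : Frame b)
    (h : inO F.α = inO F'.α) : ∃ g ∈ M24, ∀ i, g (a i) = b i := by
  have hc := (allFold_eq_true _ _).mp ((allFold_eq_true _ _).mp trans_ok F.α F.hα) F'.α F'.hα
  rw [F.hbase, F'.hbase, h] at hc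
  simp only [Bool.false_or, bne_self_eq_false, Bool.not_eq_true'] at hc
  have hex : ∃ j < 48, img (f5At j) F.α = F'.α := by
    by_contra hcon
    push Not at hcon
    have : allFold (fun j => !(img (f5At j) F.α == F'.α)) 48 = true := by
      rw [allFold_eq_true]
      intro j hj
      rw [Bool.not_eq_true', beq_eq_false_iff_ne]
      exact hcon j hj
    rw [this] at hc
    exact Bool.noConfusion hc
  obtain ⟨j, hj, hjα⟩ := hex
  refine ⟨F'.k⁻¹ * f5Perm j * F.k,
    M24.mul_mem (M24.mul_mem (M24.inv_mem F'.hk) (f5Perm_spec hj).1) F.hk, ?_⟩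
  apply exists_eq_of_forall_fin6
  · intro i
    simp only [Equiv.Perm.mul_apply]
    rw [Equiv.Perm.inv_eq_iff_eq, F.hka i, F'.hka i]
    exact f5Perm_fix hj i
  · simp only [Equiv.Perm.mul_apply]
    rw [Equiv.Perm.inv_eq_iff_eq, F.hk5, F'.hk5,
      (repF_of_represents (f5Perm_spec hj).2).apply_pt F.α F.hα, hjα]

end Cfsg.Agent.Lib.Helper93_M24Obj
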