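import Mathlib
import Cfsg.Agent.Lib.Helper93_M24Six

/-!
Exact counting of sets of elements of `M24` with restricted images of the four points
`∞, 0, 1, 2`, by enumeration of candidates; orders of subgroups via an orbit and a point stabiliser.
-/

set_option autoImplicit false
set_option linter.constructorNameAsVariable false
open Cfsg
open scoped Pointwise
open Cfsg.Agent.Lib.Helper26_Golay

namespace Cfsg.Agent.Lib.Helper93_M24Obj

/-- A permutation in `M24` represented by a table (the identity if the table is not valid). -/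
noncomputable def tblPerm (T : ℕ) : Equiv.Perm GolayPt :=
  if h : tblInM24 T = true then Classical.choose (exists_of_tblInM24 h) else 1

theorem tblPerm_spec {T : ℕ} (h : tblInM24 T = true) : tblPerm T ∈ M24 ∧ Represents (tblPerm T) T := by
  unfold tblPerm
  rw [dif_pos h]
  exact Classical.choose_spec (exists_of_tblInM24 h)

theorem r4_in {xi : ℕ} (h : xi < 20) : tblInM24 (r4At xi) = true := by
  have := (allFold_eq_true _ _).mp r4_ok xi h
  rw [Bool.and_eq_true, Bool.and_eq_true] at this
  exact this.1.1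

theorem r4Perm_fix {xi : ℕ} (h : xi < 20) :
    tblPerm (r4At xi) (pt 23) = pt 23 ∧ tblPerm (r4At xi) (pt 0) = pt 0 ∧
    tblPerm (r4At xi) (pt 1) = pt 1 ∧ tblPerm (r4At xi) (pt 2) = pt 2 ∧
    tblPerm (r4At xi) (pt 3) = pt (xi + 3) := by
  have hc := (allFold_eq_true _ _).mp r4_ok xi h
  rw [Bool.and_eq_true, Bool.and_eq_true, beq_iff_eq] at hc
  obtain ⟨⟨hin, hb⟩, h3⟩ := hc
  unfold base4Fixed at hb
  simp only [Bool.and_eq_true, beq_iff_eq] at hb
  obtain ⟨⟨⟨b23, b0⟩, b1⟩, b2⟩ := hb
  have hF := repF_of_represents (tblPerm_spec hin).2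
  refine ⟨?_, ?_, ?_, ?_, ?_⟩
  · rw [hF.apply_pt 23 (by norm_num), b23]
  · rw [hF.apply_pt 0 (by norm_num), b0]
  · rw [hF.apply_pt 1 (by norm_num), b1]
  · rw [hF.apply_pt 2 (by norm_num), b2]
  · rw [hF.apply_pt 3 (by norm_num), h3]

/-- The permutation of candidate `m` for the table `T`. -/
noncomputable def candPerm (T m : ℕ) : Equiv.Perm GolayPt :=
  tblPerm T * tblPerm (r4At (m / 48)) * f5Perm (m % 48)

theorem candPerm_spec {T m : ℕ} (hT : tblInM24 T = true) (hm : m < 960) :
    candPerm T m ∈ M24 ∧ RepF (candPerm T m) (cand4 T m) := by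
  have h1 : m / 48 < 20 := by omega
  have h2 : m % 48 < 48 := by omega
  have hr := tblPerm_spec (r4_in h1)
  have hf := f5Perm_spec h2
  have ht := tblPerm_spec hT
  refine ⟨M24.mul_mem (M24.mul_mem ht.1 hr.1) hf.1, ?_⟩
  exact ((repF_of_represents ht.2).mul (repF_of_represents hr.2)).mul (repF_of_represents hf.2)

theorem pt_inj {i j : ℕ} (hi : i < 24) (hj : j < 24) (h : pt i = pt j) : i = j := by
  have := congrArg idx h
  rwa [idx_pt i hi, idx_pt j hj] at this

theorem candPerm_inj {T m m' : ℕ} (hm : m < 960) (hm' : m' < 960)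
    (h : candPerm T m = candPerm T m') : m = m' := by
  have h1 : m / 48 < 20 := by omega
  have h2 : m % 48 < 48 := by omega
  have h1' : m' / 48 < 20 := by omega
  have h2' : m' % 48 < 48 := by omega
  unfold candPerm at h
  rw [mul_assoc, mul_assoc, mul_right_inj] at h
  have h3 := congrArg (fun σ : Equiv.Perm GolayPt => σ (pt 3)) h
  simp only [Equiv.Perm.mul_apply] at h3
  have e3 : pt 3 = pt (bidx 4) := rfl
  rw [e3, f5Perm_fix h2 4, f5Perm_fix h2' 4, ← e3, (r4Perm_fix h1).2.2.2.2,
    (r4Perm_fix h1').2.2.2.2] at h3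
  have hxi : m / 48 = m' / 48 := by
    have := pt_inj (by omega) (by omega) h3
    omega
  rw [hxi, mul_right_inj] at h
  have hj := f5Perm_inj h2 h2' h
  omega

/-- Exact count of a set of elements of `M24` whose images of `∞, 0, 1, 2` are those of one of
finitely many tables with pairwise different images. -/
theorem count4 (Ts : ℕ → ℕ) (I : ℕ) (hT : ∀ i < I, tblInM24 (Ts i) = true)
    (hsig : ∀ i < I, ∀ i' < I, img (Ts i) 23 = img (Ts i') 23 → img (Ts i) 0 = img (Ts i') 0 →
      img (Ts i) 1 = img (Ts i') 1 → img (Ts i) 2 = img (Ts i') 2 → i = i')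
    (A : Set (Equiv.Perm GolayPt)) (Pb : (ℕ → ℕ) → Bool)
    (hA1 : ∀ n ∈ A, n ∈ M24 ∧ ∃ i < I, n (pt 23) = pt (img (Ts i) 23) ∧
      n (pt 0) = pt (img (Ts i) 0) ∧ n (pt 1) = pt (img (Ts i) 1) ∧ n (pt 2) = pt (img (Ts i) 2))
    (hA2 : ∀ n ∈ M24, ∀ f, RepF n f → (n ∈ A ↔ Pb f = true)) :
    A.ncard = sumFold (fun c => if Pb (cand4 (Ts (c / 960)) (c % 960)) = true then 1 else 0)
      (960 * I) := by
  have himg : A = (fun c => candPerm (Ts (c / 960)) (c % 960)) ''
      ↑((Finset.range (960 * I)).filter fun c => Pb (cand4 (Ts (c / 960)) (c % 960)) = true) := by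
    ext n
    simp only [Set.mem_image, Finset.coe_filter, Finset.mem_range, Set.mem_ofPred_eq]
    constructor
    · intro hn
      obtain ⟨hnM, i, hi, e23, e0, e1, e2⟩ := hA1 n hn
      obtain ⟨m, hm, hrep⟩ := cand4_enum (hT i hi) hnM e23 e0 e1 e2
      have hc1 : (960 * i + m) / 960 = i := by omega
      have hc2 : (960 * i + m) % 960 = m := by omega
      refine ⟨960 * i + m, ⟨?_, ?_⟩, ?_⟩
      · have : 960 * i + m < 960 * (i + 1) := by omega
        exact lt_of_lt_of_le this (Nat.mul_le_mul_left 960 hi)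
      · rw [hc1, hc2]
        exact (hA2 n hnM _ hrep).mp hn
      · rw [hc1, hc2]
        exact ((candPerm_spec (hT i hi) hm).2).unique hrep
    · rintro ⟨c, ⟨hc, hPb⟩, rfl⟩
      have hi : c / 960 < I := by
        rw [Nat.div_lt_iff_lt_mul (by norm_num)]
        rw [mul_comm]; exact hc
      have hm : c % 960 < 960 := Nat.mod_lt _ (by norm_num)
      have hs := candPerm_spec (hT _ hi) hm
      exact (hA2 _ hs.1 _ hs.2).mpr hPb
  have hinj : Set.InjOn (fun c => candPerm (Ts (c / 960)) (c % 960))
      ↑((Finset.range (960 * I)).filter fun c => Pb (cand4 (Ts (c / 960)) (c % 960)) = true) := by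
    intro c hc c' hc' hcc'
    rw [Finset.coe_filter, Set.mem_ofPred_eq, Finset.mem_range] at hc hc'
    have hi : c / 960 < I := by
      rw [Nat.div_lt_iff_lt_mul (by norm_num), mul_comm]; exact hc.1
    have hi' : c' / 960 < I := by
      rw [Nat.div_lt_iff_lt_mul (by norm_num), mul_comm]; exact hc'.1
    have hm : c % 960 < 960 := Nat.mod_lt _ (by norm_num)
    have hm' : c' % 960 < 960 := Nat.mod_lt _ (by norm_num)
    simp only at hcc'
    have hs := (candPerm_spec (hT _ hi) hm).2
    have hs' := (candPerm_spec (hT _ hi') hm').2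
    have key : ∀ b < 24, cand4 (Ts (c / 960)) (c % 960) b = cand4 (Ts (c' / 960)) (c' % 960) b := by
      intro b hb
      have h1 := hs (pt b)
      have h2 := hs' (pt b)
      rw [idx_pt b hb] at h1 h2
      rw [← h1, ← h2, hcc']
    -- the images of the four points under a candidate are those of the table
    have himg4 : ∀ (T m b : ℕ), m < 960 → (b = 23 ∨ b = 0 ∨ b = 1 ∨ b = 2) →
        cand4 T m b = img T b := by
      intro T m b hm hb
      have h1 : m / 48 < 20 := by omega
      have h2 : m % 48 < 48 := by omega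
      have hr := (allFold_eq_true _ _).mp r4_ok (m / 48) h1
      rw [Bool.and_eq_true, Bool.and_eq_true] at hr
      have hb4 := hr.1.2
      unfold base4Fixed at hb4
      simp only [Bool.and_eq_true, beq_iff_eq] at hb4
      have hf := (allFold_eq_true _ _).mp f5_in (m % 48) h2
      rw [Bool.and_eq_true] at hf
      have hb5 := hf.2
      unfold baseFixed at hb5
      simp only [Bool.and_eq_true, beq_iff_eq] at hb5
      unfold cand4
      rcases hb with rfl | rfl | rfl | rfl
      · rw [hb5.1.1.1.1, hb4.1.1.1]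
      · rw [hb5.1.1.1.2, hb4.1.1.2]
      · rw [hb5.1.1.2, hb4.1.2]
      · rw [hb5.1.2, hb4.2]
    have hii : c / 960 = c' / 960 := by
      apply hsig _ hi _ hi'
      · rw [← himg4 _ _ 23 hm (by simp), ← himg4 _ _ 23 hm' (by simp)]; exact key 23 (by norm_num)
      · rw [← himg4 _ _ 0 hm (by simp), ← himg4 _ _ 0 hm' (by simp)]; exact key 0 (by norm_num)
      · rw [← himg4 _ _ 1 hm (by simp), ← himg4 _ _ 1 hm' (by simp)]; exact key 1 (by norm_num)
      · rw [← himg4 _ _ 2 hm (by simp), ← himg4 _ _ 2 hm' (by simp)]; exact key 2 (by norm_num)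
    rw [hii] at hcc'
    have hmm := candPerm_inj hm hm' hcc'
    have e1 := Nat.div_add_mod c 960
    have e2 := Nat.div_add_mod c' 960
    omega
  rw [himg, hinj.ncard_image, Set.ncard_coe_finset, sumFold_eq, Finset.card_filter]

/-- The order of a subgroup of the permutation group from an orbit and the point stabiliser. -/
theorem card_eq_orbit_mul_stab (H : Subgroup (Equiv.Perm GolayPt)) (p : GolayPt)
    (O : Finset GolayPt) (hO1 : ∀ h ∈ H, h p ∈ O) (hO2 : ∀ q ∈ O, ∃ h ∈ H, h p = q) :
    Nat.card H = O.card * {n : Equiv.Perm GolayPt | n ∈ H ∧ n p = p}.ncard := by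
  have horb : MulAction.orbit ↥H p = ↑O := by
    ext q
    constructor
    · rintro ⟨h, rfl⟩
      exact hO1 h.1 h.2
    · intro hq
      obtain ⟨h, hh, hhp⟩ := hO2 q hq
      exact ⟨⟨h, hh⟩, hhp⟩
  have hstab : Nat.card (MulAction.stabilizer ↥H p) =
      {n : Equiv.Perm GolayPt | n ∈ H ∧ n p = p}.ncard := by
    have : {n : Equiv.Perm GolayPt | n ∈ H ∧ n p = p} =
        Subtype.val '' (MulAction.stabilizer ↥H p : Set ↥H) := by
      ext n
      simp only [Set.mem_ofPred_eq, Set.mem_image, SetLike.mem_coe, MulAction.mem_stabilizer_iff]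
      constructor
      · rintro ⟨hn, hnp⟩
        exact ⟨⟨n, hn⟩, hnp, rfl⟩
      · rintro ⟨x, hx, rfl⟩
        exact ⟨x.2, hx⟩
    rw [this, Set.ncard_image_of_injective _ Subtype.val_injective]
    rfl
  rw [← Subgroup.card_mul_index (MulAction.stabilizer ↥H p), MulAction.index_stabilizer, horb,
    Set.ncard_coe_finset, hstab, mul_comm]

end Cfsg.Agent.Lib.Helper93_M24Obj
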