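import Mathlib
import Cfsg.Agent.Lib.Helper93_M24Fix

/-!
The packed table of an index function, so that tests on tables can be used for index functions.
-/

set_option autoImplicit false
open Cfsg
open scoped Pointwise
open Cfsg.Agent.Lib.Helper26_Golay

namespace Cfsg.Agent.Lib.Helper93_M24Obj

/-- The packed table (5 bits per entry) of an index function. -/
def tblOf (f : ℕ → ℕ) : ℕ := orFold (fun i => f i <<< (5 * i)) 24

theorem img_tblOf (f : ℕ → ℕ) (hf : ∀ i < 24, f i < 32) {i : ℕ} (hi : i < 24) :
    img (tblOf f) i = f i := by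
  apply Nat.eq_of_testBit_eq
  intro b
  unfold img tblOf
  rw [Nat.testBit_and, Nat.testBit_shiftRight]
  have h31 : (31 : ℕ) = 2 ^ 5 - 1 := by norm_num
  rw [h31, Nat.testBit_two_pow_sub_one]
  by_cases hb : b < 5
  · rw [decide_eq_true hb, Bool.and_true, Bool.eq_iff_iff, testBit_orFold]
    constructor
    · rintro ⟨k, hk, h⟩
      rw [Nat.testBit_shiftLeft, Bool.and_eq_true, decide_eq_true_eq] at h
      obtain ⟨h1, h2⟩ := h
      have hlt : 5 * i + b - 5 * k < 5 := by
        by_contra hge
        rw [not_lt] at hge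
        have := Nat.testBit_lt_two_pow (lt_of_lt_of_le (hf k hk)
          (Nat.pow_le_pow_right (by norm_num : 0 < 2) hge) : f k < 2 ^ (5 * i + b - 5 * k))
        rw [this] at h2
        exact Bool.false_ne_true h2
      have hki : k = i := by omega
      subst hki
      have : 5 * k + b - 5 * k = b := by omega
      rwa [this] at h2
    · intro h
      refine ⟨i, hi, ?_⟩
      rw [Nat.testBit_shiftLeft, Bool.and_eq_true, decide_eq_true_eq]
      refine ⟨by omega, ?_⟩
      have : 5 * i + b - 5 * i = b := by omega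
      rwa [this]
  · rw [decide_eq_false hb, Bool.and_false]
    symm
    apply Nat.testBit_lt_two_pow
    have h5 : (32 : ℕ) = 2 ^ 5 := by norm_num
    have hle : 2 ^ 5 ≤ 2 ^ b := Nat.pow_le_pow_right (by norm_num) (by omega)
    have := hf i hi
    omega

theorem represents_tblOf {σ : Equiv.Perm GolayPt} {f : ℕ → ℕ} (h : RepF σ f) :
    Represents σ (tblOf f) := by
  intro p
  rw [img_tblOf f _ (idx_lt p), h p]
  intro i hi
  have := h.lt i hi
  omega

theorem mul_comm_of_commOK {σ τ : Equiv.Perm GolayPt} {f g : ℕ → ℕ} (hf : RepF σ f)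
    (hg : RepF τ g) (h : commOK f g = true) : σ * τ = τ * σ := by
  unfold commOK at h
  rw [allFold_eq_true] at h
  apply (hf.mul hg).unique
  apply (hg.mul hf).congr
  intro i hi
  have := h i hi
  rw [beq_iff_eq] at this
  exact this.symm

theorem sumFold_add (G : ℕ → ℕ) (a b : ℕ) :
    sumFold G (a + b) = sumFold G a + sumFold (fun m => G (a + m)) b := by
  rw [sumFold_eq, sumFold_eq, sumFold_eq, Finset.sum_range_add]

theorem sumFold_congr {G G' : ℕ → ℕ} {n : ℕ} (h : ∀ k < n, G k = G' k) :
    sumFold G n = sumFold G' n := by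
  rw [sumFold_eq, sumFold_eq]
  exact Finset.sum_congr rfl (fun k hk => h k (Finset.mem_range.mp hk))

/-- Regrouping a sum over `c < N * I` as a double sum over `c / N` and `c % N`. -/
theorem sumFold_div_mod (F : ℕ → ℕ → ℕ) (N : ℕ) (hN : 0 < N) (I : ℕ) :
    sumFold (fun c => F (c / N) (c % N)) (N * I) =
      sumFold (fun i => sumFold (fun m => F i m) N) I := by
  induction I with
  | zero => rfl
  | succ I ih =>
    have e : N * (I + 1) = N * I + N := by ring
    rw [e, sumFold_add, ih]
    show _ = sumFold (fun i => sumFold (fun m => F i m) N) I + sumFold (fun m => F I m) N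
    congr 1
    apply sumFold_congr
    intro m hm
    have h1 : (N * I + m) / N = I := by
      rw [Nat.mul_add_div hN, Nat.div_eq_of_lt hm, add_zero]
    have h2 : (N * I + m) % N = m := by
      rw [Nat.mul_add_mod, Nat.mod_eq_of_lt hm]
    rw [h1, h2]

/-- Splitting a sum over `c < N * I` into `I` chunks of length `N`. -/
theorem sumFold_chunks (G : ℕ → ℕ) (N : ℕ) (hN : 0 < N) (I : ℕ) :
    sumFold G (N * I) = sumFold (fun k => sumFold (fun i => G (N * k + i)) N) I := by
  rw [← sumFold_div_mod (fun k i => G (N * k + i)) N hN I]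
  exact sumFold_congr (fun c _ => by rw [Nat.div_add_mod])

theorem sumFold_seven (H : ℕ → ℕ) :
    sumFold H 7 = H 0 + H 1 + H 2 + H 3 + H 4 + H 5 + H 6 := by
  rw [sumFold_eq]
  simp only [Finset.sum_range_succ, Finset.sum_range_zero, zero_add]

/-- A sum over `7 * N` terms from the sums of its seven chunks.  (Stated with hypotheses so that
the kernel never has to compare sums of closed terms.) -/
theorem sumFold_chunks7 (G : ℕ → ℕ) (N : ℕ) (hN : 0 < N) (c0 c1 c2 c3 c4 c5 c6 : ℕ)
    (h0 : sumFold (fun i => G (N * 0 + i)) N = c0) (h1 : sumFold (fun i => G (N * 1 + i)) N = c1)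
    (h2 : sumFold (fun i => G (N * 2 + i)) N = c2) (h3 : sumFold (fun i => G (N * 3 + i)) N = c3)
    (h4 : sumFold (fun i => G (N * 4 + i)) N = c4) (h5 : sumFold (fun i => G (N * 5 + i)) N = c5)
    (h6 : sumFold (fun i => G (N * 6 + i)) N = c6) :
    sumFold G (N * 7) = c0 + c1 + c2 + c3 + c4 + c5 + c6 := by
  rw [sumFold_chunks G N hN 7, sumFold_seven, h0, h1, h2, h3, h4, h5, h6]

end Cfsg.Agent.Lib.Helper93_M24Obj
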