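import Mathlib
import Cfsg.Agent.Lib.Helper93_M24Count4
import Cfsg.Agent.Lib.Helper93_M24Tbl

/-!
The four standard elements of `M24` (the maps `x + 1`, `2 x`, `-1 / x` and the cube twist): their
relations, and the centralisers of the first two.
-/

set_option autoImplicit false
open Cfsg
open scoped Pointwise
open Cfsg.Agent.Lib.Helper26_Golay Cfsg.Agent.Lib.Helper93_M24Obj

namespace Cfsg.Agent.Lib.Helper93_OutM24

/-- The tables of the four elements. -/
def TA : ℕ := get120 m24Gens 0
def TD : ℕ := get120 m24Gens 1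
def TB : ℕ := get120 m24Gens 2
def TC : ℕ := get120 m24Gens 3

/-- The point maps of the four elements. -/
def fA : ℕ → ℕ := img TA
def fD : ℕ → ℕ := img TD
def fB : ℕ → ℕ := img TB
def fC : ℕ → ℕ := img TC

theorem tbl_ok : (tblInM24 TA && tblInM24 TD && tblInM24 TB && tblInM24 TC) = true := by
  decide +kernel

theorem tblA : tblInM24 TA = true := by
  have h := tbl_ok
  simp only [Bool.and_eq_true] at h
  exact h.1.1.1

theorem tblD : tblInM24 TD = true := by
  have h := tbl_ok
  simp only [Bool.and_eq_true] at h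
  exact h.1.1.2

theorem tblB : tblInM24 TB = true := by
  have h := tbl_ok
  simp only [Bool.and_eq_true] at h
  exact h.1.2

theorem tblC : tblInM24 TC = true := by
  have h := tbl_ok
  simp only [Bool.and_eq_true] at h
  exact h.2

/-- The four elements. -/
noncomputable def gA : Equiv.Perm GolayPt := tblPerm TA
noncomputable def gD : Equiv.Perm GolayPt := tblPerm TD
noncomputable def gB : Equiv.Perm GolayPt := tblPerm TB
noncomputable def gC : Equiv.Perm GolayPt := tblPerm TC

theorem gA_mem : gA ∈ M24 := (tblPerm_spec tblA).1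
theorem gD_mem : gD ∈ M24 := (tblPerm_spec tblD).1
theorem gB_mem : gB ∈ M24 := (tblPerm_spec tblB).1
theorem gC_mem : gC ∈ M24 := (tblPerm_spec tblC).1

theorem gA_rep : RepF gA fA := repF_of_represents (tblPerm_spec tblA).2
theorem gD_rep : RepF gD fD := repF_of_represents (tblPerm_spec tblD).2
theorem gB_rep : RepF gB fB := repF_of_represents (tblPerm_spec tblB).2
theorem gC_rep : RepF gC fC := repF_of_represents (tblPerm_spec tblC).2

/-! ### Point maps of powers and equality tests -/

/-- Iteration of a point map. -/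
def itr (f : ℕ → ℕ) (n x : ℕ) : ℕ := Nat.rec (motive := fun _ => ℕ) x (fun _ acc => f acc) n

theorem itr_zero (f : ℕ → ℕ) (x : ℕ) : itr f 0 x = x := rfl

theorem itr_succ (f : ℕ → ℕ) (n x : ℕ) : itr f (n + 1) x = f (itr f n x) := rfl

theorem repF_npow {σ : Equiv.Perm GolayPt} {f : ℕ → ℕ} (h : RepF σ f) (n : ℕ) :
    RepF (σ ^ n) (itr f n) := by
  induction n with
  | zero => rw [pow_zero]; exact RepF.one
  | succ n ih => rw [pow_succ']; exact h.mul ih

/-- The two point maps agree. -/
def sameF (f g : ℕ → ℕ) : Bool := allFold (fun x => f x == g x) 24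

theorem sameF_iff (f g : ℕ → ℕ) : sameF f g = true ↔ ∀ x < 24, f x = g x := by
  unfold sameF
  rw [allFold_eq_true]
  simp only [beq_iff_eq]

theorem eq_of_sameF {σ τ : Equiv.Perm GolayPt} {f g : ℕ → ℕ} (h1 : RepF σ f) (h2 : RepF τ g)
    (h : sameF f g = true) : σ = τ :=
  (h1.congr ((sameF_iff f g).mp h)).unique h2

theorem sameF_of_eq {σ τ : Equiv.Perm GolayPt} {f g : ℕ → ℕ} (h1 : RepF σ f) (h2 : RepF τ g)
    (h : σ = τ) : sameF f g = true := by
  rw [sameF_iff]
  intro x hx
  have e1 := h1 (pt x)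
  have e2 := h2 (pt x)
  rw [idx_pt x hx] at e1 e2
  rw [← e1, ← e2, h]

/-- The point map is the identity. -/
def isId (f : ℕ → ℕ) : Bool := sameF f (fun x => x)

theorem eq_one_iff {σ : Equiv.Perm GolayPt} {f : ℕ → ℕ} (h : RepF σ f) :
    σ = 1 ↔ isId f = true :=
  ⟨fun e => sameF_of_eq h RepF.one e, fun e => eq_of_sameF h RepF.one e⟩

/-! ### The relations -/

theorem rel_ok : (isId (itr fA 23) && !(fA 0 == 0) && sameF (fun x => fD (fA x)) (fun x => fA (fA (fD x)))
    && isId (itr fD 11) && sameF (fun x => fC (fD x)) (fun x => fD (fD (fD (fC x))))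
    && isId (itr (fun x => fA (fC x)) 6) && isId (itr (fun x => fA (fC (fC x))) 5)
    && sameF (fun x => fB (fD (fB (fD x)))) (fun x => x) && isId (itr fB 2)
    && isId (itr (fun x => fA (fB x)) 3)) = true := by
  decide +kernel

theorem gA_pow : gA ^ 23 = 1 := by
  have h := rel_ok
  simp only [Bool.and_eq_true] at h
  exact (eq_one_iff (repF_npow gA_rep 23)).mpr h.1.1.1.1.1.1.1.1.1

theorem gA_ne_one : gA ≠ 1 := by
  have h := rel_ok
  simp only [Bool.and_eq_true] at h
  have h1 := h.1.1.1.1.1.1.1.1.2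
  intro e
  have h2 := (eq_one_iff gA_rep).mp e
  unfold isId at h2
  rw [sameF_iff] at h2
  have h3 := h2 0 (by norm_num)
  rw [h3] at h1
  simp at h1

theorem rel_DA : gD * gA * gD⁻¹ = gA ^ 2 := by
  have h := rel_ok
  simp only [Bool.and_eq_true] at h
  have h1 : gD * gA = gA ^ 2 * gD :=
    eq_of_sameF (gD_rep.mul gA_rep) ((repF_npow gA_rep 2).mul gD_rep) h.1.1.1.1.1.1.1.2
  rw [h1]
  group

theorem gD_pow : gD ^ 11 = 1 := by
  have h := rel_ok
  simp only [Bool.and_eq_true] at h
  exact (eq_one_iff (repF_npow gD_rep 11)).mpr h.1.1.1.1.1.1.2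

theorem rel_CD : gC * gD * gC⁻¹ = gD ^ 3 := by
  have h := rel_ok
  simp only [Bool.and_eq_true] at h
  have h1 : gC * gD = gD ^ 3 * gC :=
    eq_of_sameF (gC_rep.mul gD_rep) ((repF_npow gD_rep 3).mul gC_rep) h.1.1.1.1.1.2
  rw [h1]
  group

theorem rel_AC6 : (gA * gC) ^ 6 = 1 := by
  have h := rel_ok
  simp only [Bool.and_eq_true] at h
  exact (eq_one_iff (repF_npow (gA_rep.mul gC_rep) 6)).mpr h.1.1.1.1.2

theorem rel_ACC5 : (gA * gC ^ 2) ^ 5 = 1 := by
  have h := rel_ok
  simp only [Bool.and_eq_true] at h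
  exact (eq_one_iff (repF_npow (gA_rep.mul (repF_npow gC_rep 2)) 5)).mpr h.1.1.1.2

theorem gB_sq : gB ^ 2 = 1 := by
  have h := rel_ok
  simp only [Bool.and_eq_true] at h
  exact (eq_one_iff (repF_npow gB_rep 2)).mpr h.1.2

theorem rel_BD : gB * gD * gB⁻¹ = gD⁻¹ := by
  have h := rel_ok
  simp only [Bool.and_eq_true] at h
  have h1 : gB * gD * (gB * gD) = 1 :=
    eq_of_sameF ((gB_rep.mul gD_rep).mul (gB_rep.mul gD_rep)) RepF.one h.1.1.2
  have h2 : gB⁻¹ = gB := by
    rw [inv_eq_iff_mul_eq_one, ← pow_two, gB_sq]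
  rw [h2]
  calc gB * gD * gB = (gB * gD * (gB * gD)) * gD⁻¹ := by group
    _ = gD⁻¹ := by rw [h1, one_mul]

theorem rel_AB3 : (gA * gB) ^ 3 = 1 := by
  have h := rel_ok
  simp only [Bool.and_eq_true] at h
  exact (eq_one_iff (repF_npow (gA_rep.mul gB_rep) 3)).mpr h.2

/-- The point map of `a ^ k * (c * d ^ i)`. -/
def fP (k i : ℕ) (x : ℕ) : ℕ := itr fA k (fC (itr fD i x))

/-- The point map of `a ^ k * (c * d ^ i) ^ 2`. -/
def fQ (k i : ℕ) (x : ℕ) : ℕ := itr fA k (fC (itr fD i (fC (itr fD i x))))

theorem pin_ok : (allFold (fun i => !(isId (itr (fP 1 i) 6)) || !(isId (itr (fQ 1 i) 5)) || i == 0) 11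
    && allFold (fun i => !(isId (itr (fP 22 i) 6)) || !(isId (itr (fQ 22 i) 5))) 11) = true := by
  decide +kernel

theorem pin (k : ℕ) (hk : k ∈ ([1, 22] : List ℕ)) (i : ℕ) (hi : i < 11)
    (h6 : (gA ^ k * (gC * gD ^ i)) ^ 6 = 1) (h5 : (gA ^ k * (gC * gD ^ i) ^ 2) ^ 5 = 1) :
    k = 1 ∧ i = 0 := by
  have hP : RepF (gA ^ k * (gC * gD ^ i)) (fP k i) :=
    (repF_npow gA_rep k).mul (gC_rep.mul (repF_npow gD_rep i))
  have hQ : RepF (gA ^ k * (gC * gD ^ i) ^ 2) (fQ k i) := by
    rw [pow_two]
    exact (repF_npow gA_rep k).mul ((gC_rep.mul (repF_npow gD_rep i)).mul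
      (gC_rep.mul (repF_npow gD_rep i)))
  have e6 := (eq_one_iff (repF_npow hP 6)).mp h6
  have e5 := (eq_one_iff (repF_npow hQ 5)).mp h5
  have h := pin_ok
  rw [Bool.and_eq_true, allFold_eq_true, allFold_eq_true] at h
  have hk' : k = 1 ∨ k = 22 := by simpa using hk
  rcases hk' with rfl | rfl
  · have h1 := h.1 i hi
    rw [e6, e5] at h1
    simpa using h1
  · have h1 := h.2 i hi
    rw [e6, e5] at h1
    simp at h1

/-- The point map of `a * (b * d ^ i)`. -/
def fR (i : ℕ) (x : ℕ) : ℕ := fA (fB (itr fD i x))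

theorem pin2_ok : allFold (fun i => !(isId (itr (fR i) 3)) || i == 0) 11 = true := by
  decide +kernel

theorem pin2 (i : ℕ) (hi : i < 11) (h3 : (gA * (gB * gD ^ i)) ^ 3 = 1) : i = 0 := by
  have hR : RepF (gA * (gB * gD ^ i)) (fR i) := gA_rep.mul (gB_rep.mul (repF_npow gD_rep i))
  have e3 := (eq_one_iff (repF_npow hR 3)).mp h3
  have h1 := (allFold_eq_true _ _).mp pin2_ok i hi
  rw [e3] at h1
  simpa using h1

/-! ### Centralisers -/

/-- The point map of a permutation. -/
def ptMap (π : Equiv.Perm GolayPt) (x : ℕ) : ℕ := idx (π (pt x))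

theorem repF_ptMap (π : Equiv.Perm GolayPt) : RepF π (ptMap π) := fun p => by
  unfold ptMap
  rw [pt_idx]

theorem ptMap_lt (π : Equiv.Perm GolayPt) (x : ℕ) : ptMap π x < 24 := idx_lt _

theorem ptMap_inj (π : Equiv.Perm GolayPt) {x y : ℕ} (hx : x < 24) (hy : y < 24)
    (h : ptMap π x = ptMap π y) : x = y := by
  unfold ptMap at h
  exact pt_inj hx hy (π.injective (idx_injective h))

theorem comm_ptMap {π σ : Equiv.Perm GolayPt} {f : ℕ → ℕ} (hσ : RepF σ f)
    (h : π * σ = σ * π) (x : ℕ) (hx : x < 24) : ptMap π (f x) = f (ptMap π x) := by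
  have h1 : π (σ (pt x)) = σ (π (pt x)) := by
    have := congrArg (fun g : Equiv.Perm GolayPt => g (pt x)) h
    simpa using this
  unfold ptMap
  rw [← hσ.apply_pt x hx, h1, hσ]

theorem comm_itr {π σ : Equiv.Perm GolayPt} {f : ℕ → ℕ} (hσ : RepF σ f)
    (h : π * σ = σ * π) (j : ℕ) (y : ℕ) (hy : y < 24) :
    itr f j y < 24 ∧ ptMap π (itr f j y) = itr f j (ptMap π y) := by
  induction j with
  | zero => exact ⟨hy, rfl⟩
  | succ j ih =>
    rw [itr_succ, itr_succ]
    refine ⟨hσ.lt _ ih.1, ?_⟩
    rw [comm_ptMap hσ h _ ih.1, ih.2]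

theorem centA_ok : (fA 23 == 23 && allFold (fun y => !(fA y == y) || y == 23) 24
    && allFold (fun j => itr fA j 0 == j) 23
    && allFold (fun v => allFold (fun x => itr fA v x == if x == 23 then 23 else itr fA x v) 24) 23)
    = true := by
  decide +kernel

/-- A permutation commuting with `a` is a power of `a`. -/
theorem cent_A (π : Equiv.Perm GolayPt) (h : π * gA = gA * π) : π ∈ Subgroup.zpowers gA := by
  have hk := centA_ok
  simp only [Bool.and_eq_true, beq_iff_eq] at hk
  obtain ⟨⟨⟨hA23, hfix⟩, horb⟩, hsym⟩ := hk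
  rw [allFold_eq_true] at hfix horb hsym
  have hc := comm_ptMap gA_rep h
  have h23 : ptMap π 23 = 23 := by
    have h1 := hc 23 (by norm_num)
    rw [hA23] at h1
    have h2 := hfix (ptMap π 23) (ptMap_lt π 23)
    rw [← h1] at h2
    simpa using h2
  have hv : ptMap π 0 < 23 := by
    have h1 := ptMap_lt π 0
    have h2 : ptMap π 0 ≠ 23 := by
      intro e
      have := ptMap_inj π (by norm_num) (by norm_num) (e.trans h23.symm)
      omega
    omega
  have hj : ∀ j < 23, ptMap π j = itr fA j (ptMap π 0) := by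
    intro j hj
    have h1 := (comm_itr gA_rep h j 0 (by norm_num)).2
    have h2 := horb j hj
    rw [beq_iff_eq] at h2
    rw [h2] at h1
    exact h1
  have hrep : RepF π (itr fA (ptMap π 0)) := by
    apply (repF_ptMap π).congr
    intro x hx
    have h1 := (allFold_eq_true _ _).mp (hsym (ptMap π 0) hv) x hx
    rw [beq_iff_eq] at h1
    rw [h1]
    by_cases hx23 : x = 23
    · subst hx23
      simpa using h23
    · rw [if_neg hx23]
      exact hj x (by omega)
  have : π = gA ^ (ptMap π 0) := hrep.unique (repF_npow gA_rep _)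
  rw [this]
  exact Subgroup.pow_mem _ (Subgroup.mem_zpowers gA) _

/-- The orbit classes of the points under `d`: `1` for the orbit of `1`, `2` for the orbit of `22`. -/
def dcl (x : ℕ) : ℕ := (0x2a99a5a59954 >>> (2 * x)) &&& 3

/-- The position of a point in its orbit under `d`. -/
def dlg (x : ℕ) : ℕ := (0x182694357aa75349628100 >>> (4 * x)) &&& 15

/-- The candidate point map of an element commuting with `d`, from the images of `∞`, `0`, `1`
and `22`. -/
def candF (p q u v : ℕ) (x : ℕ) : ℕ :=
  if x == 23 then p else if x == 0 then q else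
    if dcl x == 1 then itr fD (dlg x) u else itr fD (dlg x) v

theorem centD_pre : (fD 23 == 23 && fD 0 == 0
    && allFold (fun y => !(fD y == y) || y == 0 || y == 23) 24
    && allFold (fun x => x == 23 || x == 0 || (dcl x == 1 && itr fD (dlg x) 1 == x) ||
      (dcl x == 2 && itr fD (dlg x) 22 == x)) 24) = true := by
  decide +kernel

/-- The candidate is a power of `d`. -/
def isPowD (g : ℕ → ℕ) : Bool := !(allFold (fun j => !(sameF g (itr fD j))) 11)

theorem centD_ok : allFold (fun p' => allFold (fun q' => allFold (fun u => allFold (fun v =>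
    !(allFold (fun k => isCode (permMask (tblOf (candF (23 * p') (23 * q') u v)) (genMask k))) 24)
      || isPowD (candF (23 * p') (23 * q') u v)) 24) 24) 2) 2 = true := by
  decide +kernel

/-- An element of `M24` commuting with `d` is a power of `d`. -/
theorem cent_D (π : Equiv.Perm GolayPt) (hπ : π ∈ M24) (h : π * gD = gD * π) :
    π ∈ Subgroup.zpowers gD := by
  have hk := centD_pre
  simp only [Bool.and_eq_true, beq_iff_eq] at hk
  obtain ⟨⟨⟨hD23, hD0⟩, hfix⟩, hcls⟩ := hk
  rw [allFold_eq_true] at hfix hcls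
  have hc := comm_ptMap gD_rep h
  have hfix' : ∀ y < 24, fD y = y → y = 0 ∨ y = 23 := by
    intro y hy e
    have := hfix y hy
    rw [e] at this
    simpa using this
  have h23 : ptMap π 23 = 0 ∨ ptMap π 23 = 23 := by
    have h1 := hc 23 (by norm_num)
    rw [hD23] at h1
    exact hfix' _ (ptMap_lt π 23) h1.symm
  have h0 : ptMap π 0 = 0 ∨ ptMap π 0 = 23 := by
    have h1 := hc 0 (by norm_num)
    rw [hD0] at h1
    exact hfix' _ (ptMap_lt π 0) h1.symm
  obtain ⟨p', hp', hp⟩ : ∃ p' < 2, ptMap π 23 = 23 * p' := by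
    rcases h23 with e | e
    · exact ⟨0, by norm_num, e⟩
    · exact ⟨1, by norm_num, e⟩
  obtain ⟨q', hq', hq⟩ : ∃ q' < 2, ptMap π 0 = 23 * q' := by
    rcases h0 with e | e
    · exact ⟨0, by norm_num, e⟩
    · exact ⟨1, by norm_num, e⟩
  have hcand : ∀ x < 24, ptMap π x = candF (23 * p') (23 * q') (ptMap π 1) (ptMap π 22) x := by
    intro x hx
    have h1 := hcls x hx
    simp only [Bool.or_eq_true, Bool.and_eq_true, beq_iff_eq] at h1
    unfold candF
    rcases h1 with ((rfl | rfl) | ⟨hc1, hl⟩) | ⟨hc2, hl⟩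
    · simpa using hp
    · simpa using hq
    · have hx23 : x ≠ 23 := by
        rintro rfl
        revert hc1
        decide
      have hx0 : x ≠ 0 := by
        rintro rfl
        revert hc1
        decide
      have e1 : (x == 23) = false := by simpa using hx23
      have e2 : (x == 0) = false := by simpa using hx0
      have e3 : (dcl x == 1) = true := by simpa using hc1
      rw [e1, e2, e3]
      simp only [Bool.false_eq_true, if_false, if_true]
      have := (comm_itr gD_rep h (dlg x) 1 (by norm_num)).2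
      rw [hl] at this
      exact this
    · have hx23 : x ≠ 23 := by
        rintro rfl
        revert hc2
        decide
      have hx0 : x ≠ 0 := by
        rintro rfl
        revert hc2
        decide
      have e1 : (x == 23) = false := by simpa using hx23
      have e2 : (x == 0) = false := by simpa using hx0
      have e3 : (dcl x == 1) = false := by
        rw [hc2]
        decide
      rw [e1, e2, e3]
      simp only [Bool.false_eq_true, if_false]
      have := (comm_itr gD_rep h (dlg x) 22 (by norm_num)).2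
      rw [hl] at this
      exact this
  have hrep : RepF π (candF (23 * p') (23 * q') (ptMap π 1) (ptMap π 22)) :=
    (repF_ptMap π).congr hcand
  have hT := represents_tblOf hrep
  have hcode : allFold (fun k => isCode (permMask (tblOf (candF (23 * p') (23 * q') (ptMap π 1)
      (ptMap π 22))) (genMask k))) 24 = true := by
    rw [allFold_eq_true]
    intro k hk
    exact isCode_permMask_of_mem hT hπ (isCode_genMask ⟨k, hk⟩)
  have h1 := (allFold_eq_true _ _).mp ((allFold_eq_true _ _).mp ((allFold_eq_true _ _).mp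
    ((allFold_eq_true _ _).mp centD_ok p' hp') q' hq') (ptMap π 1) (ptMap_lt π 1))
    (ptMap π 22) (ptMap_lt π 22)
  rw [hcode] at h1
  simp only [Bool.not_true, Bool.false_or] at h1
  unfold isPowD at h1
  obtain ⟨j, hj, hjs⟩ : ∃ j < 11, sameF (candF (23 * p') (23 * q') (ptMap π 1) (ptMap π 22))
      (itr fD j) = true := by
    by_contra hne
    push Not at hne
    have : allFold (fun j => !(sameF (candF (23 * p') (23 * q') (ptMap π 1) (ptMap π 22))
        (itr fD j))) 11 = true := by
      rw [allFold_eq_true]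
      intro j hj
      have := hne j hj
      simpa using this
    rw [this] at h1
    simp at h1
  have : π = gD ^ j := eq_of_sameF hrep (repF_npow gD_rep j) hjs
  rw [this]
  exact Subgroup.pow_mem _ (Subgroup.mem_zpowers gD) _

end Cfsg.Agent.Lib.Helper93_OutM24
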