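import Mathlib
import Cfsg.Agent.Lib.Helper93_OutM24a

/-!
Generation of `M24` by the four standard elements and of the stabiliser of `∞` by three of them:
words for coset representatives along the chain of stabilisers of `∞, 0, 1, 2, 3`, and for the 48
elements fixing these five points.
-/

set_option autoImplicit false
open Cfsg
open scoped Pointwise
open Cfsg.Agent.Lib.Helper26_Golay Cfsg.Agent.Lib.Helper93_M24Obj

namespace Cfsg.Agent.Lib.Helper93_OutM24

/-- The letters `a, d, b, c, a⁻¹, d⁻¹, c⁻¹` (numbered from `0`). -/
noncomputable def letP (k : ℕ) : Equiv.Perm GolayPt :=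
  if k = 0 then gA else if k = 1 then gD else if k = 2 then gB else if k = 3 then gC
  else if k = 4 then gA ^ 22 else if k = 5 then gD ^ 10 else gC ^ 4

/-- The point maps of the letters. -/
def letF (k : ℕ) : ℕ → ℕ :=
  if k = 0 then fA else if k = 1 then fD else if k = 2 then fB else if k = 3 then fC
  else if k = 4 then itr fA 22 else if k = 5 then itr fD 10 else itr fC 4

theorem letP_rep (k : ℕ) : RepF (letP k) (letF k) := by
  unfold letP letF
  split_ifs
  · exact gA_rep
  · exact gD_rep
  · exact gB_rep
  · exact gC_rep
  · exact repF_npow gA_rep 22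
  · exact repF_npow gD_rep 10
  · exact repF_npow gC_rep 4

/-- The subgroup generated by the four elements. -/
def K4 : Subgroup (Equiv.Perm GolayPt) := Subgroup.closure {gA, gD, gB, gC}

/-- The subgroup generated by the three elements fixing `∞`. -/
def K3 : Subgroup (Equiv.Perm GolayPt) := Subgroup.closure {gA, gD, gC}

theorem K3_le_K4 : K3 ≤ K4 := by
  apply Subgroup.closure_mono
  intro x hx
  rcases hx with rfl | rfl | rfl
  · simp
  · simp
  · simp

theorem K4_le : K4 ≤ M24 := by
  unfold K4
  rw [Subgroup.closure_le]
  intro x hx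
  rcases hx with rfl | rfl | rfl | rfl
  · exact gA_mem
  · exact gD_mem
  · exact gB_mem
  · exact gC_mem

theorem letP_mem_K4 (k : ℕ) : letP k ∈ K4 := by
  have hA : gA ∈ K4 := Subgroup.subset_closure (by simp)
  have hD : gD ∈ K4 := Subgroup.subset_closure (by simp)
  have hB : gB ∈ K4 := Subgroup.subset_closure (by simp)
  have hC : gC ∈ K4 := Subgroup.subset_closure (by simp)
  unfold letP
  split_ifs
  · exact hA
  · exact hD
  · exact hB
  · exact hC
  · exact K4.pow_mem hA 22
  · exact K4.pow_mem hD 10
  · exact K4.pow_mem hC 4

theorem letP_mem_K3 (k : ℕ) (hk : k ≠ 2) : letP k ∈ K3 := by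
  have hA : gA ∈ K3 := Subgroup.subset_closure (by simp)
  have hD : gD ∈ K3 := Subgroup.subset_closure (by simp)
  have hC : gC ∈ K3 := Subgroup.subset_closure (by simp)
  unfold letP
  split_ifs
  · exact hA
  · exact hD
  · exact hC
  · exact K3.pow_mem hA 22
  · exact K3.pow_mem hD 10
  · exact K3.pow_mem hC 4

/-- Letter number `i` of a packed word. -/
def wLet (w i : ℕ) : ℕ := (w >>> (3 * i)) &&& 7

/-- The point map of a packed word of given length. -/
def evalW (w len : ℕ) (x : ℕ) : ℕ :=
  Nat.rec (motive := fun _ => ℕ) x (fun i acc => letF (wLet w i) acc) len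

/-- The product of a packed word of given length. -/
noncomputable def prodW (w len : ℕ) : Equiv.Perm GolayPt :=
  Nat.rec (motive := fun _ => Equiv.Perm GolayPt) 1 (fun i acc => letP (wLet w i) * acc) len

theorem prodW_succ (w len : ℕ) : prodW w (len + 1) = letP (wLet w len) * prodW w len := rfl

theorem evalW_succ (w len x : ℕ) : evalW w (len + 1) x = letF (wLet w len) (evalW w len x) := rfl

theorem prodW_rep (w len : ℕ) : RepF (prodW w len) (evalW w len) := by
  induction len with
  | zero => exact RepF.one
  | succ n ih =>
    rw [prodW_succ]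
    exact (letP_rep _).mul ih

theorem prodW_mem_K4 (w len : ℕ) : prodW w len ∈ K4 := by
  induction len with
  | zero => exact K4.one_mem
  | succ n ih =>
    rw [prodW_succ]
    exact K4.mul_mem (letP_mem_K4 _) ih

/-- The word does not involve the letter `b`. -/
def noB (w len : ℕ) : Bool := allFold (fun i => !(wLet w i == 2)) len

theorem prodW_mem_K3 (w len : ℕ) (h : noB w len = true) : prodW w len ∈ K3 := by
  unfold noB at h
  rw [allFold_eq_true] at h
  induction len with
  | zero => exact K3.one_mem
  | succ n ih =>
    rw [prodW_succ]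
    apply K3.mul_mem
    · apply letP_mem_K3
      have := h n (Nat.lt_succ_self n)
      simpa using this
    · exact ih (fun k hk => h k (Nat.lt_succ_of_lt hk))

/-- The base points `∞, 0, 1, 2, 3`. -/
def base (i : ℕ) : ℕ := if i = 0 then 23 else i - 1

theorem bidx_eq (i : Fin 5) : bidx i = base i.val := by
  fin_cases i <;> rfl

theorem base_lt (i : ℕ) (hi : i < 5) : base i < 24 := by
  unfold base
  split_ifs <;> omega

theorem base_inj {i j : ℕ} (hi : i < 5) (hj : j < 5) (h : base i = base j) : i = j := by
  unfold base at h
  split_ifs at h <;> omega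

/-- The packed words and lengths of the coset representatives of level `l`, by target point. -/
def lvWP (l : ℕ) : ℕ :=
  if l = 0 then 0x220000006200000662000001a2000000c2000008c2000062c2000000e2000000e2000002c200000142000001620000096200000ac2000007420000018200000182000009820000020200000002000000020000000200000002 else if l = 1 then 0x40000000c000000cc00000034000000180000011800000c580000001c0000001c00000058000000280000002c0000012c00000158000000e80000003000000030000001300000004000000000000000000000000000000000 else if l = 2 then 0x246400000066400005a180002c2700000000300025b800000018b00004270000246480000000b00000005000256400000c6c80000002b0000001d0000476800000006000046c8000000090000002e000000010000000000000000 else if l = 3 then 0x9b48c000119600000dc6c0001430c600119980000006ec0000004e0012317000000b74000e3208000486180006360600b180d800000176000000ed00134d2d000000d9000003b4001a684c0000064c000000000000000000000000 else 0x31a6a3003743188058d905900158c050032398c047186280584e1ae00d26c2d04334c300497498004743b6300a31040048c06401876c3800072eb0b0026360306c03180038dc31c000030c300000000000000000000000000000000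

def lvLP (l : ℕ) : ℕ :=
  if l = 0 then 0x203040303040504030403030404040403040404030201 else if l = 1 then 0x102030202030403020302020303030302030303020100 else if l = 2 then 0x605060601060305060201060602020501050202010000 else if l = 3 then 0x807070707050307050707070803030703050705000000 else 0x90a09080809090809090909090a090809090600000000

/-- The word of level `l` with target `t`. -/
def lvW (l t : ℕ) : ℕ := (lvWP l >>> (32 * t)) &&& (2 ^ 32 - 1)

/-- Its length. -/
def lvL (l t : ℕ) : ℕ := get8 (lvLP l) t

/-- The target is one of the first `l` base points. -/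
def isFixedPt (l t : ℕ) : Bool := !(allFold (fun i => !(base i == t)) l)

/-- The check of level `l`: every admissible target is reached by a word fixing the earlier base
points (not involving `b` from level `1` on). -/
def levelOK (l : ℕ) : Bool := allFold (fun t => isFixedPt l t ||
  ((l == 0 || noB (lvW l t) (lvL l t)) &&
    allFold (fun i => evalW (lvW l t) (lvL l t) (base i) == base i) l &&
    evalW (lvW l t) (lvL l t) (base l) == t)) 24

theorem levels_ok : allFold levelOK 5 = true := by decide +kernel

/-- The packed words for the 48 elements fixing the five base points, and their lengths. -/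
def f5WP : ℕ := 0x616e90e930619936b19d260c0c2dd21d260c1c46d303a4c18000000000000000e236981d260c3326d633a4c18185ba43a4c18185ba43a4c18000000000000000616e90e93060616e90e930619936b19d260c1c46d303a4c180000000000000000000000000000000000000003326d633a4c18185ba43a4c1800000000000000000000000000711b4c0e930619936b19d260c1c46d303a4c18000000000000000e236981d260c0c2dd21d260c3326d633a4c18185ba43a4c1800000000000000000000000000cc9b58ce93060e236981d260c1c46d303a4c180000000000000000000000000019936b19d260c0c2dd21d260c3326d633a4c180000000000000000000000000000000000000000000000000000185ba43a4c18000000000000000e236981d260c0c2dd21d260c0c2dd21d260c3326d633a4c180000000000000000000000000001c46d303a4c18185ba43a4c18185ba43a4c180000000000000000000000000000000000000000c2dd21d260c3326d633a4c180000000000000019936b19d260c0c2dd21d260c0c2dd21d260c1c46d303a4c180000000000000000000000000000c2dd21d260c0c2dd21d260c1c46d303a4c1800000000000000000000000000711b4c0e93060e236981d260c3326d633a4c18000000000000000000000000000000000000000e236981d260c1c46d303a4c180000000000000000000000000000c2dd21d260c3326d633a4c18185ba43a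4c1800000000000000711b4c0e93060e236981d260c0c2dd21d260c3326d633a4c180000000000000000000000000000c2dd21d260c0c2dd21d260c3326d633a4c1800000000000000cc9b58ce93060616e90e93060e236981d260c1c46d303a4c18000000000000000000000000000000000000000e236981d260c3326d633a4c1800000000000000cc9b58ce93060e236981d260c1c46d303a4c18185ba43a4c180000000000000000000000000000000000000019936b19d260c1c46d303a4c180000000000000030b748749830711b4c0e93060e236981d260c3326d633a4c18000000000000000000000000000616e90e93060e236981d260c1c46d303a4c1800000000000000711b4c0e93060e236981d260c3326d633a4c18185ba43a4c18000000000000000000000000000e236981d260c1c46d303a4c18185ba43a4c180000000000000030b748749830cc9b58ce93060e236981d260c1c46d303a4c180000000000000000000000000003326d633a4c18185ba43a4c18185ba43a4c180000000000000000000000000000000000000000185ba43a4c18185ba43a4c1800000000000000000000000000cc9b58ce93060e236981d260c3326d633a4c180000000000000000000000000000000000000000000000000001c46d303a4c1800000000000000711b4c0e930619936b19d260c0c2dd21d260c3326d633a4c1800711b4c0e930619936b19d260c0c2dd21d260c0c2dd21d260c1c46d303a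4c18000000000000000000000000000e236981d260c3326d633a4c18185ba43a4c180000000000000000000000000019936b19d260c0c2dd21d260c1c46d303a4c180000000000000388da60749830cc9b58ce93060e236981d260c1c46d303a4c1800711b4c0e93060616e90e930619936b19d260c0c2dd21d260c1c46d303a4c180000000000000000000000000000000000000000000000000003326d633a4c1800000000000000cc9b58ce93060616e90e930619936b19d260c1c46d303a4c180000000000000000000000000000000000000000c2dd21d260c1c46d303a4c1800711b4c0e93060616e90e93060616e90e930619936b19d260c1c46d303a4c18000000000000000e236981d260c0c2dd21d260c0c2dd21d260c1c46d303a4c18000000000000000000000000000616e90e930619936b19d260c1c46d303a4c18000000000000000000000000000e236981d260c0c2dd21d260c3326d633a4c180000000000000000000000000000000000000001c46d303a4c18185ba43a4c180000000000000388da60749830711b4c0e930619936b19d260c1c46d303a4c180000000000000000000000000000000000000000000000000000000000000000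
def f5LP : ℕ := 0x424242213342333210423121423133223143314322432243324332433120331143533232445311432153423232214400

def f5W (j : ℕ) : ℕ := (f5WP >>> (256 * j)) &&& (2 ^ 256 - 1)
def f5L (j : ℕ) : ℕ := get8 f5LP j

theorem f5_ok : allFold (fun j => noB (f5W j) (f5L j) &&
    sameF (evalW (f5W j) (f5L j)) (img (f5At j))) 48 = true := by decide +kernel

theorem f5Perm_mem_K3 (j : ℕ) (hj : j < 48) : f5Perm j ∈ K3 := by
  have h := (allFold_eq_true _ _).mp f5_ok j hj
  rw [Bool.and_eq_true] at h
  have : prodW (f5W j) (f5L j) = f5Perm j :=
    eq_of_sameF (prodW_rep _ _) (repF_of_represents (f5Perm_spec hj).2) h.2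
  rw [← this]
  exact prodW_mem_K3 _ _ h.1

/-- One step down the chain of stabilisers. -/
theorem peel (K : Subgroup (Equiv.Perm GolayPt)) (l : ℕ) (hl : l < 5)
    (hK : ∀ w n, (l == 0 || noB w n) = true → prodW w n ∈ K)
    (g : Equiv.Perm GolayPt) (hg : ∀ i < l, g (pt (base i)) = pt (base i)) :
    ∃ k ∈ K, ∀ i < l + 1, (k⁻¹ * g) (pt (base i)) = pt (base i) := by
  have hlv := (allFold_eq_true _ _).mp levels_ok l hl
  unfold levelOK at hlv
  rw [allFold_eq_true] at hlv
  have ht := hlv (idx (g (pt (base l)))) (idx_lt _)
  have hnf : isFixedPt l (idx (g (pt (base l)))) = false := by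
    unfold isFixedPt
    rw [Bool.not_eq_false', allFold_eq_true]
    intro i hi
    rw [Bool.not_eq_true', beq_eq_false_iff_ne]
    intro e
    have h1 : pt (base i) = g (pt (base l)) := by rw [e, pt_idx]
    rw [← hg i hi] at h1
    have h2 := pt_inj (base_lt i (by omega)) (base_lt l hl) (g.injective h1)
    have := base_inj (by omega) hl h2
    omega
  rw [hnf, Bool.false_or, Bool.and_eq_true, Bool.and_eq_true, allFold_eq_true, beq_iff_eq] at ht
  obtain ⟨⟨hnob, hfix⟩, htgt⟩ := ht
  have hrep := prodW_rep (lvW l (idx (g (pt (base l))))) (lvL l (idx (g (pt (base l)))))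
  refine ⟨prodW (lvW l (idx (g (pt (base l))))) (lvL l (idx (g (pt (base l))))),
    hK _ _ hnob, ?_⟩
  intro i hi
  rw [Equiv.Perm.mul_apply, Equiv.Perm.inv_eq_iff_eq]
  rcases Nat.lt_succ_iff_lt_or_eq.mp hi with hlt | rfl
  · rw [hg i hlt, hrep.apply_pt _ (base_lt i (by omega))]
    have := hfix i hlt
    rw [beq_iff_eq] at this
    rw [this]
  · rw [hrep.apply_pt _ (base_lt i hl), htgt, pt_idx]

theorem peel3 (l : ℕ) (hl : l < 5) (hl0 : l ≠ 0)
    (g : Equiv.Perm GolayPt) (hg : ∀ i < l, g (pt (base i)) = pt (base i)) :
    ∃ k ∈ K3, ∀ i < l + 1, (k⁻¹ * g) (pt (base i)) = pt (base i) := by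
  apply peel K3 l hl _ g hg
  intro w n h
  have h0 : (l == 0) = false := by simpa using hl0
  rw [h0, Bool.false_or] at h
  exact prodW_mem_K3 w n h

/-- An element of `M24` fixing `∞` is a product of `a`, `d`, `c` and their inverses. -/
theorem mem_K3 (g : Equiv.Perm GolayPt) (hg : g ∈ M24) (h23 : g (pt 23) = pt 23) : g ∈ K3 := by
  have hK34 : K3 ≤ M24 := K3_le_K4.trans K4_le
  have h0 : ∀ i < 1, g (pt (base i)) = pt (base i) := by
    intro i hi
    have : i = 0 := by omega
    subst this
    exact h23
  -- the chain is used inside `K3` only from level 1 on; level 0 is not needed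
  obtain ⟨k1, hk1, h1⟩ := peel3 1 (by norm_num) (by norm_num) g h0
  obtain ⟨k2, hk2, h2⟩ := peel3 2 (by norm_num) (by norm_num) _ h1
  obtain ⟨k3, hk3, h3⟩ := peel3 3 (by norm_num) (by norm_num) _ h2
  obtain ⟨k4, hk4, h4⟩ := peel3 4 (by norm_num) (by norm_num) _ h3
  have hmem : k4⁻¹ * (k3⁻¹ * (k2⁻¹ * (k1⁻¹ * g))) ∈ M24 :=
    M24.mul_mem (M24.inv_mem (hK34 hk4)) (M24.mul_mem (M24.inv_mem (hK34 hk3))
      (M24.mul_mem (M24.inv_mem (hK34 hk2)) (M24.mul_mem (M24.inv_mem (hK34 hk1)) hg)))
  obtain ⟨j, hj, hjf⟩ := F5_enum' hmem (by
    intro i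
    rw [bidx_eq]
    exact h4 i.val i.isLt)
  have hf := f5Perm_mem_K3 j hj
  rw [← hjf] at hf
  have e : g = k1 * (k2 * (k3 * (k4 * (k4⁻¹ * (k3⁻¹ * (k2⁻¹ * (k1⁻¹ * g))))))) := by group
  rw [e]
  exact K3.mul_mem hk1 (K3.mul_mem hk2 (K3.mul_mem hk3 (K3.mul_mem hk4 hf)))

/-- `M24` is generated by the four elements. -/
theorem mem_K4 (g : Equiv.Perm GolayPt) (hg : g ∈ M24) : g ∈ K4 := by
  obtain ⟨k0, hk0, h0⟩ := peel K4 0 (by norm_num) (fun w n _ => prodW_mem_K4 w n) g
    (fun i hi => absurd hi (Nat.not_lt_zero _))
  have h1 : (k0⁻¹ * g) (pt 23) = pt 23 := h0 0 (by norm_num)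
  have hmem : k0⁻¹ * g ∈ M24 := M24.mul_mem (M24.inv_mem (K4_le hk0)) hg
  have := K3_le_K4 (mem_K3 _ hmem h1)
  have e : g = k0 * (k0⁻¹ * g) := by group
  rw [e]
  exact K4.mul_mem hk0 this

end Cfsg.Agent.Lib.Helper93_OutM24
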