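import Mathlib
import Cfsg.Prelude.Def_KGroupFacts
import Cfsg.Prelude.Def_Spor_Mathieu
import Cfsg.Agent.Lib.Helper93_OutAbs
import Cfsg.Agent.Lib.Helper93_OutM24b
import Cfsg.Agent.S0364
import Cfsg.Agent.S0376

/-!
The outer automorphism groups of `M24` and of the stabiliser of a point in it are trivial.
-/

set_option autoImplicit false
open Cfsg
open scoped Pointwise
open Cfsg.Agent.Lib.Helper26_Golay Cfsg.Agent.Lib.Helper93_M24Obj Cfsg.Agent.Lib.Helper93_OutAbs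

namespace Cfsg.Agent.Lib.Helper93_OutM24

/-- Generation of a subgroup by elements, from generation in the ambient group. -/
theorem closure_eq_top_of {P : Type*} [Group P] (H : Subgroup P) (S : Set ↥H)
    (h : ∀ g ∈ H, g ∈ Subgroup.closure (Subtype.val '' S)) : Subgroup.closure S = ⊤ := by
  rw [eq_top_iff]
  intro g _
  have h1 := h g.1 g.2
  have h2 : Subgroup.closure (Subtype.val '' S) = (Subgroup.closure S).map H.subtype := by
    rw [MonoidHom.map_closure]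
    rfl
  rw [h2] at h1
  obtain ⟨x, hx, hxg⟩ := h1
  have : x = g := Subtype.ext hxg
  exact this ▸ hx

/-- Membership in the powers of an element of a subgroup, from the ambient group. -/
theorem mem_zpowers_of {P : Type*} [Group P] (H : Subgroup P) (x g : ↥H)
    (h : (g : P) ∈ Subgroup.zpowers (x : P)) : g ∈ Subgroup.zpowers x := by
  obtain ⟨n, hn⟩ := Subgroup.mem_zpowers_iff.1 h
  refine Subgroup.mem_zpowers_iff.2 ⟨n, ?_⟩
  apply Subtype.ext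
  rw [Subgroup.coe_zpow]
  exact hn

section generic

variable (H : Subgroup (Equiv.Perm GolayPt)) (hH : H ≤ M24)
  (hA : gA ∈ H) (hD : gD ∈ H) (hC : gC ∈ H)

theorem hyp_Ca (g : ↥H) (h : g * ⟨gA, hA⟩ = ⟨gA, hA⟩ * g) : g ∈ Subgroup.zpowers (⟨gA, hA⟩ : ↥H) := by
  apply mem_zpowers_of
  exact cent_A g.1 (congrArg Subtype.val h)

include hH in
theorem hyp_Cd (g : ↥H) (h : g * ⟨gD, hD⟩ = ⟨gD, hD⟩ * g) : g ∈ Subgroup.zpowers (⟨gD, hD⟩ : ↥H) := by
  apply mem_zpowers_of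
  exact cent_D g.1 (hH g.2) (congrArg Subtype.val h)

theorem hyp_pin (k : ℕ) (hk : k ∈ ([1, 22] : List ℕ)) (i : ℕ) (hi : i < 11)
    (h6 : ((⟨gA, hA⟩ : ↥H) ^ k * (⟨gC, hC⟩ * ⟨gD, hD⟩ ^ i)) ^ 6 = 1)
    (h5 : ((⟨gA, hA⟩ : ↥H) ^ k * (⟨gC, hC⟩ * ⟨gD, hD⟩ ^ i) ^ 2) ^ 5 = 1) : k = 1 ∧ i = 0 :=
  pin k hk i hi (congrArg Subtype.val h6) (congrArg Subtype.val h5)

include hH in
/-- Every automorphism of a subgroup of `M24` of order `23 s`, `s` prime to 23, containing `a`, `d`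
and `c`, agrees with an inner one on these three elements. -/
theorem normalize3_sub (s : ℕ) (hcard : Nat.card ↥H = 23 * s) (hs : ¬ 23 ∣ s) (α : MulAut ↥H) :
    ∃ g : ↥H, α ⟨gA, hA⟩ = g * ⟨gA, hA⟩ * g⁻¹ ∧ α ⟨gD, hD⟩ = g * ⟨gD, hD⟩ * g⁻¹ ∧
      α ⟨gC, hC⟩ = g * ⟨gC, hC⟩ * g⁻¹ :=
  normalize3 (⟨gA, hA⟩ : ↥H) ⟨gD, hD⟩ ⟨gC, hC⟩ s hcard hs (Subtype.ext gA_pow)
    (fun h => gA_ne_one (congrArg Subtype.val h)) (Subtype.ext rel_DA)
    (hyp_Ca H hA) (hyp_Cd H hH hD) (Subtype.ext gD_pow) (Subtype.ext rel_CD)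
    (Subtype.ext rel_AC6) (Subtype.ext rel_ACC5) (hyp_pin H hA hD hC) α

end generic

/-! ### The group `M24` -/

theorem card_M24' : Nat.card ↥M24 = 23 * 10644480 := by
  rw [Cfsg.Agent.S0364.result]

theorem out_M24 : Nat.card (Cfsg.Out ↥M24) = 1 := by
  apply card_out_eq_one_of_gens
    ({⟨gA, gA_mem⟩, ⟨gD, gD_mem⟩, ⟨gC, gC_mem⟩, ⟨gB, gB_mem⟩} : Set ↥M24)
  · apply closure_eq_top_of
    intro g hg
    have h1 := mem_K4 g hg
    have h2 : K4 ≤ Subgroup.closure (Subtype.val ''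
        ({⟨gA, gA_mem⟩, ⟨gD, gD_mem⟩, ⟨gC, gC_mem⟩, ⟨gB, gB_mem⟩} : Set ↥M24)) := by
      unfold K4
      rw [Subgroup.closure_le]
      intro x hx
      apply Subgroup.subset_closure
      rcases hx with rfl | rfl | rfl | rfl
      · exact ⟨⟨gA, gA_mem⟩, by simp, rfl⟩
      · exact ⟨⟨gD, gD_mem⟩, by simp, rfl⟩
      · exact ⟨⟨gB, gB_mem⟩, by simp, rfl⟩
      · exact ⟨⟨gC, gC_mem⟩, by simp, rfl⟩
    exact h2 h1
  · intro α
    obtain ⟨g, h1, h2, h3, h4⟩ := normalize4 (⟨gA, gA_mem⟩ : ↥M24) ⟨gD, gD_mem⟩ ⟨gC, gC_mem⟩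
      10644480 card_M24' (by norm_num) (Subtype.ext gA_pow)
      (fun h => gA_ne_one (congrArg Subtype.val h)) (Subtype.ext rel_DA)
      (hyp_Ca M24 gA_mem) (hyp_Cd M24 le_rfl gD_mem) (Subtype.ext gD_pow)
      (Subtype.ext rel_CD) (Subtype.ext rel_AC6) (Subtype.ext rel_ACC5)
      (hyp_pin M24 gA_mem gD_mem gC_mem) ⟨gB, gB_mem⟩ (Subtype.ext rel_BD) (Subtype.ext rel_AB3)
      (fun i hi h => pin2 i hi (congrArg Subtype.val h)) α
    refine ⟨g, ?_⟩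
    intro x hx
    rcases hx with rfl | rfl | rfl | rfl
    · exact h1
    · exact h2
    · exact h3
    · exact h4

/-! ### The stabiliser of `∞` -/

theorem fix23_ok : (fA 23 == 23 && fD 23 == 23 && fC 23 == 23) = true := by decide +kernel

theorem pt23 : pt 23 = (none : GolayPt) := rfl

theorem mem_M23_iff (g : Equiv.Perm GolayPt) :
    g ∈ Cfsg.Spor.M23 ↔ g ∈ M24 ∧ g (pt 23) = pt 23 := by
  unfold Cfsg.Spor.M23
  rw [Subgroup.mem_inf]
  constructor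
  · rintro ⟨h1, h2⟩
    exact ⟨h1, MulAction.mem_stabilizer_iff.mp h2⟩
  · rintro ⟨h1, h2⟩
    exact ⟨h1, MulAction.mem_stabilizer_iff.mpr h2⟩

theorem mem_M23_of {g : Equiv.Perm GolayPt} {f : ℕ → ℕ} (hg : g ∈ M24) (hrep : RepF g f)
    (h : f 23 = 23) : g ∈ Cfsg.Spor.M23 := by
  rw [mem_M23_iff]
  refine ⟨hg, ?_⟩
  rw [hrep.apply_pt 23 (by norm_num), h]

theorem gA_mem23 : gA ∈ Cfsg.Spor.M23 := by
  have h := fix23_ok
  simp only [Bool.and_eq_true, beq_iff_eq] at h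
  exact mem_M23_of gA_mem gA_rep h.1.1

theorem gD_mem23 : gD ∈ Cfsg.Spor.M23 := by
  have h := fix23_ok
  simp only [Bool.and_eq_true, beq_iff_eq] at h
  exact mem_M23_of gD_mem gD_rep h.1.2

theorem gC_mem23 : gC ∈ Cfsg.Spor.M23 := by
  have h := fix23_ok
  simp only [Bool.and_eq_true, beq_iff_eq] at h
  exact mem_M23_of gC_mem gC_rep h.2

theorem M23_le : Cfsg.Spor.M23 ≤ M24 := inf_le_left

theorem card_M23 : Nat.card ↥Cfsg.Spor.M23 = 23 * 443520 := by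
  have h := Cfsg.Agent.S0376.result (none : GolayPt)
  have e : ↥Cfsg.Spor.M23 ≃ ↥(MulAction.stabilizer ↥M24 (none : GolayPt)) :=
    { toFun := fun x => ⟨⟨x.1, ((mem_M23_iff x.1).mp x.2).1⟩, by
        rw [MulAction.mem_stabilizer_iff]
        exact ((mem_M23_iff x.1).mp x.2).2⟩
      invFun := fun y => ⟨y.1.1, (mem_M23_iff y.1.1).mpr ⟨y.1.2, by
        have := y.2
        rw [MulAction.mem_stabilizer_iff] at this
        exact this⟩⟩
      left_inv := fun x => rfl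
      right_inv := fun y => rfl }
  rw [Nat.card_congr e, h]

theorem out_M23 : Nat.card (Cfsg.Out ↥Cfsg.Spor.M23) = 1 := by
  apply card_out_eq_one_of_gens
    ({⟨gA, gA_mem23⟩, ⟨gD, gD_mem23⟩, ⟨gC, gC_mem23⟩} : Set ↥Cfsg.Spor.M23)
  · apply closure_eq_top_of
    intro g hg
    have hg' := (mem_M23_iff g).mp hg
    have h1 := mem_K3 g hg'.1 hg'.2
    have h2 : K3 ≤ Subgroup.closure (Subtype.val ''
        ({⟨gA, gA_mem23⟩, ⟨gD, gD_mem23⟩, ⟨gC, gC_mem23⟩} : Set ↥Cfsg.Spor.M23)) := by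
      unfold K3
      rw [Subgroup.closure_le]
      intro x hx
      apply Subgroup.subset_closure
      rcases hx with rfl | rfl | rfl
      · exact ⟨⟨gA, gA_mem23⟩, by simp, rfl⟩
      · exact ⟨⟨gD, gD_mem23⟩, by simp, rfl⟩
      · exact ⟨⟨gC, gC_mem23⟩, by simp, rfl⟩
    exact h2 h1
  · intro α
    obtain ⟨g, h1, h2, h3⟩ := normalize3_sub Cfsg.Spor.M23 M23_le gA_mem23 gD_mem23 gC_mem23
      443520 card_M23 (by norm_num) α
    refine ⟨g, ?_⟩
    intro x hx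
    rcases hx with rfl | rfl | rfl
    · exact h1
    · exact h2
    · exact h3

end Cfsg.Agent.Lib.Helper93_OutM24
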