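import Cfsg.Agent.Lib.Helper92_FixMono
import Cfsg.Agent.Lib.Helper92_FixLat
import Cfsg.Agent.Lib.Helper92_ZElt
import Cfsg.Agent.Lib.Helper93_OutM24c

/-!
The centralisers, in the stabiliser of `(-5, -1^23)` in the automorphism group of the rank-24
lattice, of the coordinate permutations `a : x ↦ x + 1` and `d : x ↦ 2 x`: the first is `⟨a⟩`, the
second is `⟨d⟩ × ⟨z⟩` for the involution `z` of `Helper92_ZElt`.
-/

set_option autoImplicit false
set_option linter.constructorNameAsVariable false
open Cfsg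
open scoped Pointwise

namespace Cfsg.Agent.Lib.Helper92_Co3Cent

open Cfsg.Agent.Lib.Helper7_M24 Cfsg.Agent.Lib.Helper7_Leech Cfsg.Agent.Lib.Helper92_Monomial
  Cfsg.Agent.Lib.Helper92_Co0Order Cfsg.Agent.Lib.Helper7_Mono Cfsg.Agent.Lib.Helper92_FixMono
  Cfsg.Agent.Lib.Helper92_FixLat Cfsg.Agent.Lib.Helper92_ZElt Cfsg.Agent.Lib.Helper92_QuadAut
  Cfsg.Agent.Lib.Helper93_OutM24 Cfsg.Agent.Lib.Helper93_M24Obj
open Cfsg.Agent.Lib.Helper26_Golay (idx idx_injective)
open Cfsg.Agent.S5546 (Lam vec8 e8)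
open Cfsg.Spor (vecV vecU vecU' leechU leechU' leechV)

/-! ### the three coordinate permutations -/

/-- The elements of `M24`. -/
noncomputable def mA : ↥M24 := ⟨gA, gA_mem⟩
noncomputable def mD : ↥M24 := ⟨gD, gD_mem⟩
noncomputable def mC : ↥M24 := ⟨gC, gC_mem⟩

/-- The coordinate permutations `x + 1`, `2 x` and the cube twist. -/
noncomputable def PA : ↥Co0 := perm mA
noncomputable def PD : ↥Co0 := perm mD
noncomputable def PC : ↥Co0 := perm mC

theorem gA_apply : ∀ p : GolayPt, gA p = Option.map (fun x => x + 1) p := by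
  intro p
  apply idx_injective
  rw [gA_rep p]
  revert p
  decide +kernel

theorem gD_apply : ∀ p : GolayPt, gD p = Option.map (fun x => 2 * x) p := by
  intro p
  apply idx_injective
  rw [gD_rep p]
  revert p
  decide +kernel

theorem gC_apply : ∀ p : GolayPt, gC p = cubeTwistFun p := by
  intro p
  apply idx_injective
  rw [gC_rep p]
  revert p
  decide +kernel

theorem gA_none : gA none = none := by rw [gA_apply]; rfl
theorem gD_none : gD none = none := by rw [gD_apply]; rfl
theorem gC_none : gC none = none := by rw [gC_apply]; rfl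
theorem gD_zero : gD (some 0) = some 0 := by rw [gD_apply]; decide
theorem gC_zero : gC (some 0) = some 0 := by rw [gC_apply]; decide

theorem PA_fix : PA • VL = VL := perm_fix_VL mA gA_none
theorem PD_fix : PD • VL = VL := perm_fix_VL mD gD_none
theorem PC_fix : PC • VL = VL := perm_fix_VL mC gC_none

/-- The coordinates of a vector fixed by a coordinate permutation. -/
theorem coord_of_fix (σ : ↥M24) (x : Lam) (h : perm σ • x = x) (p : GolayPt) :
    x.1 (σ.1 p) = x.1 p := by
  have := congrFun (congrArg (fun y : Lam => (y : GolayPt → ℤ)) h) (σ.1 p)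
  rw [perm_apply, permVec_apply, Equiv.symm_apply_apply] at this
  exact this.symm

theorem inv_of_fix_PD (x : Lam) (h : PD • x = x) (q : ZMod 23) :
    x.1 (some (2 * q)) = x.1 (some q) := by
  have := coord_of_fix mD x h (some q)
  rw [show mD.1 = gD from rfl, gD_apply] at this
  exact this

theorem inv_of_fix_PA (x : Lam) (h : PA • x = x) (q : ZMod 23) :
    x.1 (some (q + 1)) = x.1 (some q) := by
  have := coord_of_fix mA x h (some q)
  rw [show mA.1 = gA from rfl, gA_apply] at this
  exact this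

/-! ### the vectors -/

/-- `(4, 4, 0^22)` and `(4, -4, 0^22)`. -/
abbrev UL : Lam := leechU
abbrev UL' : Lam := leechU'

/-- `(1, -3, 1^22)`. -/
def M3 : Lam := -(VL + UL)

/-- `(-3, 1^23)`. -/
def RL : Lam := -(VL + e8 none)

theorem e8_eq : e8 none = UL + UL' := by
  apply Subtype.ext
  funext p
  show vec8 none p = vecU p + vecU' p
  revert p
  decide

theorem perm_fix_e8 (σ : ↥M24) (h : σ.1 none = none) : perm σ • e8 none = e8 none := by
  apply Subtype.ext
  rw [perm_apply]
  funext j
  rw [permVec_apply]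
  show vec8 none (σ.1.symm j) = vec8 none j
  unfold vec8
  have : σ.1.symm j = none ↔ j = none := by
    constructor
    · intro e
      have := congrArg σ.1 e
      rw [Equiv.apply_symm_apply, h] at this
      exact this
    · intro e
      rw [e, Equiv.symm_apply_eq, h]
  by_cases hj : j = none
  · rw [if_pos hj, if_pos (this.mpr hj)]
  · rw [if_neg hj, if_neg (fun e => hj (this.mp e))]

theorem perm_fix_UL (σ : ↥M24) (h : σ.1 none = none) (h0 : σ.1 (some 0) = some 0) :
    perm σ • UL = UL := by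
  apply Subtype.ext
  rw [perm_apply]
  funext j
  rw [permVec_apply]
  show vecU (σ.1.symm j) = vecU j
  unfold vecU
  have e1 : σ.1.symm j = none ↔ j = none := by
    constructor
    · intro e
      have := congrArg σ.1 e
      rw [Equiv.apply_symm_apply, h] at this
      exact this
    · intro e
      rw [e, Equiv.symm_apply_eq, h]
  have e2 : σ.1.symm j = some 0 ↔ j = some 0 := by
    constructor
    · intro e
      have := congrArg σ.1 e
      rw [Equiv.apply_symm_apply, h0] at this
      exact this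
    · intro e
      rw [e, Equiv.symm_apply_eq, h0]
  have e3 := or_congr e1 e2
  by_cases hj : j = none ∨ j = some 0
  · rw [if_pos hj, if_pos (e3.mpr hj)]
  · rw [if_neg hj, if_neg (fun e => hj (e3.mp e))]

theorem smul_neg3 (g : ↥Co0) (a : Lam) : g • (-a) = -(g • a) :=
  Cfsg.Agent.Lib.Helper92_Co3.smul_neg' g a

theorem PA_fix_RL : PA • RL = RL := by
  unfold RL
  rw [smul_neg3, smul_add', PA_fix, show PA = perm mA from rfl, perm_fix_e8 mA gA_none]

theorem PD_fix_UL : PD • UL = UL := perm_fix_UL mD gD_none gD_zero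

theorem PD_fix_e8 : PD • e8 none = e8 none := perm_fix_e8 mD gD_none

theorem PD_fix_UL' : PD • UL' = UL' := by
  have h1 := PD_fix_e8
  rw [e8_eq, smul_add', PD_fix_UL] at h1
  exact add_left_cancel h1

/-! ### the involution -/

theorem zE_fix : zE • VL = VL := by
  apply Subtype.ext
  apply zE_eq_of
  show ∀ p, ZB.mulVec vecV p = 4 * vecV p
  decide +kernel

theorem zE_UL : zE • UL = M3 := by
  apply Subtype.ext
  apply zE_eq_of
  show ∀ p, ZB.mulVec vecU p = 4 * (-(vecV + vecU)) p
  decide +kernel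

theorem zE_M3 : zE • M3 = UL := by
  rw [← zE_UL, ← mul_smul', zE_sq, one_smul]

theorem zE_inv : zE⁻¹ = zE := inv_eq_of_mul_eq_one_left zE_sq

theorem quad_permVec (σ : Equiv.Perm GolayPt) (x : GolayPt → ℤ) :
    quad (permVec σ x) = permVec σ (quad x) := by
  funext i
  rw [quad_apply, permVec_apply, permVec_apply, quad_apply]

/-- The involution commutes with the coordinate permutations preserving its matrix. -/
theorem zE_comm (σ : ↥M24) (hσ : ∀ i j, ZB (σ.1 i) (σ.1 j) = ZB i j) :
    zE * perm σ = perm σ * zE := by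
  apply ext_elt
  intro v
  rw [mul_smul', mul_smul']
  apply quad_injective
  rw [quad_zE, perm_apply, perm_apply, quad_permVec, quad_zE]
  funext i
  rw [permVec_apply]
  show ∑ k, ZB i k * permVec σ.1 v.1 k = ∑ k, ZB (σ.1.symm i) k * v.1 k
  rw [← Equiv.sum_comp σ.1]
  apply Finset.sum_congr rfl
  intro k _
  rw [permVec_apply, Equiv.symm_apply_apply]
  have := hσ (σ.1.symm i) k
  rw [Equiv.apply_symm_apply] at this
  rw [this]

/-- The matrix is invariant under a map of the coordinates. -/
def InvB (f : GolayPt → GolayPt) : Prop :=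
  ∀ i : GolayPt, ∀ j : GolayPt, decide (ZB (f i) (f j) = ZB i j) = true

instance (f : GolayPt → GolayPt) : Decidable (InvB f) := by
  unfold InvB
  infer_instance

theorem invB_D : InvB (Option.map (fun x => 2 * x)) := by
  decide +kernel

theorem invB_C : InvB cubeTwistFun := by
  decide +kernel

theorem ZB_inv_D : ∀ i j, ZB (gD i) (gD j) = ZB i j := by
  intro i j
  rw [gD_apply, gD_apply]
  exact of_decide_eq_true (invB_D i j)

theorem ZB_inv_C : ∀ i j, ZB (gC i) (gC j) = ZB i j := by
  intro i j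
  rw [gC_apply, gC_apply]
  exact of_decide_eq_true (invB_C i j)

theorem zE_PD : zE * PD = PD * zE := zE_comm mD ZB_inv_D

theorem zE_PC : zE * PC = PC * zE := zE_comm mC ZB_inv_C

/-! ### norms and inner products -/

theorem norm_UL : sqNorm (UL : GolayPt → ℤ) = 32 := by
  show sqNorm vecU = 32
  decide +kernel

theorem norm_UL' : sqNorm (UL' : GolayPt → ℤ) = 32 := by
  show sqNorm vecU' = 32
  decide +kernel

theorem norm_RL : sqNorm (RL : GolayPt → ℤ) = 32 := by
  show sqNorm (-(vecV + vec8 none)) = 32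
  decide +kernel

theorem dot_V_UL : dotInt (VL : GolayPt → ℤ) (UL : GolayPt → ℤ) = -24 := by
  show dotInt vecV vecU = -24
  decide +kernel

theorem dot_V_UL' : dotInt (VL : GolayPt → ℤ) (UL' : GolayPt → ℤ) = -16 := by
  show dotInt vecV vecU' = -16
  decide +kernel

theorem dot_U_UL' : dotInt (UL : GolayPt → ℤ) (UL' : GolayPt → ℤ) = 0 := by
  show dotInt vecU vecU' = 0
  decide +kernel

theorem dot_V_RL : dotInt (VL : GolayPt → ℤ) (RL : GolayPt → ℤ) = -8 := by
  show dotInt vecV (-(vecV + vec8 none)) = -8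
  decide +kernel

/-! ### coordinate permutations commuting with the standard ones -/

theorem perm_comm {σ τ : ↥M24} (h : perm σ * perm τ = perm τ * perm σ) : σ * τ = τ * σ := by
  rw [← perm_mul, ← perm_mul] at h
  have h2 : eps 0 * perm (σ * τ) = eps 0 * perm (τ * σ) := by rw [h]
  exact (mono_injective h2).1

theorem perm_zpow (σ : ↥M24) (n : ℤ) : perm (σ ^ n) = perm σ ^ n := by
  rw [← permHom_apply, ← permHom_apply, map_zpow]

/-! ### the centraliser of `a` -/

/-- The centraliser of `a` in the stabiliser of `(-5, -1^23)`. -/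
theorem cent_PA (g : ↥Co0) (hV : g • VL = VL) (hc : g * PA = PA * g) :
    g ∈ Subgroup.zpowers PA := by
  set x : Lam := g • RL with hx
  have hfix : PA • x = x := by
    rw [hx, ← mul_smul', ← hc, mul_smul', PA_fix_RL]
  have hinv := inv_of_fix_PA x hfix
  have hn : sqNorm (x : GolayPt → ℤ) = 32 := by
    rw [hx, sqNorm_smul, norm_RL]
  have hd : dotInt vecV (x : GolayPt → ℤ) = -8 := by
    have := Cfsg.Agent.S5593.dot_smul g VL RL
    rw [hV, dot_V_RL] at this
    exact this
  rw [sqNorm_a x.1 hinv] at hn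
  rw [dotV_a x.1 hinv] at hd
  obtain ⟨h1, h2⟩ := arith_a _ _ hn hd
  have hxR : x = RL := by
    apply Subtype.ext
    rw [eq_orbFunA x.1 hinv, h1, h2]
    funext p
    show orbFunA (-3) 1 p = (-(vecV + vec8 none)) p
    revert p
    decide
  have h8 : g • e8 none = e8 none := by
    have e : e8 none = -(VL + RL) := by
      unfold RL
      abel
    rw [e, smul_neg3, smul_add', hV, ← hx, hxR]
  obtain ⟨σ, _, rfl⟩ := mono_of_fix g h8 hV
  have hcm : σ * mA = mA * σ := perm_comm hc
  have hcm' : σ.1 * gA = gA * σ.1 := congrArg Subtype.val hcm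
  obtain ⟨n, hn⟩ := Subgroup.mem_zpowers_iff.1 (cent_A σ.1 hcm')
  have : σ = mA ^ n := by
    apply Subtype.ext
    rw [Subgroup.coe_zpow]
    exact hn.symm
  rw [this, perm_zpow]
  exact Subgroup.zpow_mem_zpowers PA n

/-! ### the centraliser of `d` -/

/-- Elements centralising `d` and fixing `(-5, -1^23)` and `(4, 4, 0^22)`. -/
theorem cent_PD_aux (g : ↥Co0) (hV : g • VL = VL) (hc : g * PD = PD * g) (hU : g • UL = UL) :
    g ∈ Subgroup.zpowers PD := by
  set x : Lam := g • UL' with hx
  have hfix : PD • x = x := by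
    rw [hx, ← mul_smul', ← hc, mul_smul', PD_fix_UL']
  have hinv := inv_of_fix_PD x hfix
  have hn : sqNorm (x : GolayPt → ℤ) = 32 := by
    rw [hx, sqNorm_smul, norm_UL']
  have hd : dotInt vecV (x : GolayPt → ℤ) = -16 := by
    have := Cfsg.Agent.S5593.dot_smul g VL UL'
    rw [hV, dot_V_UL'] at this
    exact this
  have hu : dotInt vecU (x : GolayPt → ℤ) = 0 := by
    have := Cfsg.Agent.S5593.dot_smul g UL UL'
    rw [hU, dot_U_UL'] at this
    exact this
  rw [sqNorm_d x.1 hinv] at hn
  rw [dotV_d x.1 hinv] at hd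
  rw [dotU x.1] at hu
  obtain ⟨h1, h2, h3, h4⟩ := arith_d16 _ _ _ _ hn hd hu
  have hxU : x = UL' := by
    apply Subtype.ext
    rw [eq_orbFun x.1 hinv, h1, h2, h3, h4, orbFun_U']
    rfl
  have h8 : g • e8 none = e8 none := by
    rw [e8_eq, smul_add', hU, ← hx, hxU]
  obtain ⟨σ, _, rfl⟩ := mono_of_fix g h8 hV
  have hcm : σ * mD = mD * σ := perm_comm hc
  have hcm' : σ.1 * gD = gD * σ.1 := congrArg Subtype.val hcm
  obtain ⟨n, hn⟩ := Subgroup.mem_zpowers_iff.1 (cent_D σ.1 σ.2 hcm')
  have : σ = mD ^ n := by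
    apply Subtype.ext
    rw [Subgroup.coe_zpow]
    exact hn.symm
  rw [this, perm_zpow]
  exact Subgroup.zpow_mem_zpowers PD n

/-- The centraliser of `d` in the stabiliser of `(-5, -1^23)`. -/
theorem cent_PD (g : ↥Co0) (hV : g • VL = VL) (hc : g * PD = PD * g) :
    g ∈ Subgroup.zpowers PD ∨ ∃ h ∈ Subgroup.zpowers PD, g = h * zE := by
  set x : Lam := g • UL with hx
  have hfix : PD • x = x := by
    rw [hx, ← mul_smul', ← hc, mul_smul', PD_fix_UL]
  have hinv := inv_of_fix_PD x hfix
  have hn : sqNorm (x : GolayPt → ℤ) = 32 := by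
    rw [hx, sqNorm_smul, norm_UL]
  have hd : dotInt vecV (x : GolayPt → ℤ) = -24 := by
    have := Cfsg.Agent.S5593.dot_smul g VL UL
    rw [hV, dot_V_UL] at this
    exact this
  rw [sqNorm_d x.1 hinv] at hn
  rw [dotV_d x.1 hinv] at hd
  rcases arith_d24 _ _ _ _ hn hd with ⟨h1, h2, h3, h4⟩ | ⟨h1, h2, h3, h4⟩
  · left
    apply cent_PD_aux g hV hc
    apply Subtype.ext
    show x.1 = vecU
    rw [eq_orbFun x.1 hinv, h1, h2, h3, h4, orbFun_U]
  · right
    have hxM : x = M3 := by
      apply Subtype.ext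
      show x.1 = -(vecV + vecU)
      rw [eq_orbFun x.1 hinv, h1, h2, h3, h4, orbFun_m3]
    have hV' : (zE * g) • VL = VL := by rw [mul_smul', hV, zE_fix]
    have hc' : (zE * g) * PD = PD * (zE * g) := by
      rw [mul_assoc, hc, ← mul_assoc, zE_PD, mul_assoc]
    have hU' : (zE * g) • UL = UL := by rw [mul_smul', ← hx, hxM, zE_M3]
    have hmem := cent_PD_aux (zE * g) hV' hc' hU'
    refine ⟨zE * g, hmem, ?_⟩
    obtain ⟨n, hn⟩ := Subgroup.mem_zpowers_iff.1 hmem
    have hcomm : Commute zE (PD ^ n) := (show Commute zE PD from zE_PD).zpow_right n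
    rw [← hn, ← hcomm.eq, hn, ← mul_assoc, zE_sq, one_mul]

end Cfsg.Agent.Lib.Helper92_Co3Cent
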