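import Cfsg.Agent.Lib.Helper92_Rep
import Cfsg.Agent.S0381

/-!
The sublattice of the rank-24 lattice supported on the standard octad `{∞, 0, 1, 2, 3, 5, 14, 17}`:
its vectors have even coordinates which are all congruent modulo 4, the inner product of two of
them is divisible by 16 and the sum of squares of each is divisible by 32 (it is a copy of the `E₈`
lattice scaled by `√2`, in the normalisation in which the minimal vectors of the big lattice have
sum of squares 32).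
-/

set_option autoImplicit false
set_option linter.constructorNameAsVariable false
open Cfsg

namespace Cfsg.Agent.Lib.Helper92_E8a

open Cfsg.Agent.Lib.Helper7_M24 Cfsg.Agent.Lib.Helper7_Leech Cfsg.Agent.Lib.Helper92_Monomial
  Cfsg.Agent.Lib.Helper92_Co0Order Cfsg.Agent.Lib.Helper7_Mono Cfsg.Agent.Lib.Helper92_FixMono
  Cfsg.Agent.Lib.Helper92_FixLat Cfsg.Agent.Lib.Helper7_Bits Cfsg.Agent.Lib.Helper7_Code
  Cfsg.Agent.Lib.Helper7_Base
open Cfsg.Agent.S0364 (octMask)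
open Cfsg.Agent.S5546 (Lam vec8 e8)

/-- Membership in the standard octad. -/
def inO (p : GolayPt) : Prop := octMask.testBit (enc p) = true

instance : DecidablePred inO := fun p => by unfold inO; infer_instance

theorem inO_cases : ∀ p : GolayPt, inO p → p = none ∨ p = some 0 ∨ p = some 1 ∨ p = some 2 ∨
    p = some 3 ∨ p = some 5 ∨ p = some 14 ∨ p = some 17 := by decide

theorem not_inO_cases : ∀ p : GolayPt, ¬ inO p → p = some 4 ∨ p = some 6 ∨ p = some 7 ∨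
    p = some 8 ∨ p = some 9 ∨ p = some 10 ∨ p = some 11 ∨ p = some 12 ∨ p = some 13 ∨
    p = some 15 ∨ p = some 16 ∨ p = some 18 ∨ p = some 19 ∨ p = some 20 ∨ p = some 21 ∨
    p = some 22 := by decide

/-- A vector supported on the standard octad. -/
def Supp8 (x : GolayPt → ℤ) : Prop := ∀ p, ¬ inO p → x p = 0

instance (x : GolayPt → ℤ) : Decidable (Supp8 x) := by unfold Supp8; infer_instance

/-- Sum over the 24 points of a function vanishing off the octad. -/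
theorem sum_supp8 (f : GolayPt → ℤ) (hf : ∀ p, ¬ inO p → f p = 0) :
    ∑ p, f p = f none + f (some 0) + f (some 1) + f (some 2) + f (some 3) + f (some 5) +
      f (some 14) + f (some 17) := by
  rw [Fintype.sum_option, sum23]
  rw [hf (some 4) (by decide), hf (some 6) (by decide), hf (some 7) (by decide),
    hf (some 8) (by decide), hf (some 9) (by decide), hf (some 10) (by decide),
    hf (some 11) (by decide), hf (some 12) (by decide), hf (some 13) (by decide),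
    hf (some 15) (by decide), hf (some 16) (by decide), hf (some 18) (by decide),
    hf (some 19) (by decide), hf (some 20) (by decide), hf (some 21) (by decide),
    hf (some 22) (by decide)]
  ring

theorem dot_supp8 (x y : GolayPt → ℤ) (hx : Supp8 x) :
    dotInt x y = x none * y none + x (some 0) * y (some 0) + x (some 1) * y (some 1) +
      x (some 2) * y (some 2) + x (some 3) * y (some 3) + x (some 5) * y (some 5) +
      x (some 14) * y (some 14) + x (some 17) * y (some 17) := by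
  unfold dotInt
  exact sum_supp8 (fun p => x p * y p) (fun p hp => by rw [hx p hp, zero_mul])

theorem sqNorm_supp8 (x : GolayPt → ℤ) (hx : Supp8 x) :
    sqNorm x = x none ^ 2 + x (some 0) ^ 2 + x (some 1) ^ 2 + x (some 2) ^ 2 + x (some 3) ^ 2 +
      x (some 5) ^ 2 + x (some 14) ^ 2 + x (some 17) ^ 2 := by
  unfold sqNorm
  exact sum_supp8 (fun p => x p ^ 2) (fun p hp => by rw [hx p hp]; ring)

/-- The structure of a lattice vector supported on the octad: a common residue `0` or `2`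
modulo 4 and a coordinate sum divisible by 8. -/
theorem struct8 (x : GolayPt → ℤ) (hL : x ∈ leechLattice) (hx : Supp8 x) :
    ∃ c : ℤ, (c = 0 ∨ c = 2) ∧ (∀ p, inO p → ∃ a : ℤ, x p = c + 4 * a) ∧
      (8 : ℤ) ∣ x none + x (some 0) + x (some 1) + x (some 2) + x (some 3) + x (some 5) +
        x (some 14) + x (some 17) := by
  obtain ⟨m, h1, h2, h3⟩ := (mem_leechSet_iff x).mp ((mem_leechLattice_iff x).mp hL)
  have hm : m ≡ 0 [ZMOD 2] := by
    have := h1 (some 4)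
    rw [hx (some 4) (by decide)] at this
    exact this.symm
  have hev : ∀ p, x p ≡ 0 [ZMOD 2] := fun p => (h1 p).trans hm
  have hsum : (8 : ℤ) ∣ ∑ p, x p := by
    have h4m : (4 * m) ≡ 0 [ZMOD 8] := by
      obtain ⟨k, hk⟩ := (Int.modEq_zero_iff_dvd).mp hm
      rw [hk]
      exact (Int.modEq_zero_iff_dvd).mpr ⟨k, by ring⟩
    exact (Int.modEq_zero_iff_dvd).mp (h2.trans h4m)
  rw [sum_supp8 x hx] at hsum
  -- the code word of the coordinates congruent to 2 modulo 4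
  set w := indWord (fun i => x i ≡ 2 [ZMOD 4]) with hw
  have hwc : w ∈ golayCode := h3 2
  have hsub : support₂ w ⊆ maskSet octMask := by
    intro p hp
    rw [hw, support₂_indWord, Finset.mem_filter] at hp
    rw [mem_maskSet]
    by_contra hcon
    have h0 := hx p hcon
    have := hp.2
    rw [h0] at this
    exact absurd this (by decide)
  by_cases h0 : w = 0
  · refine ⟨0, Or.inl rfl, fun p _ => ?_, hsum⟩
    have hp2 : ¬ x p ≡ 2 [ZMOD 4] := by
      intro hcon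
      have : p ∈ support₂ w := by
        rw [hw, support₂_indWord, Finset.mem_filter]
        exact ⟨Finset.mem_univ _, hcon⟩
      rw [h0] at this
      simp [support₂] at this
    have hp0 := hev p
    have : x p ≡ 0 [ZMOD 4] := by
      unfold Int.ModEq at hp0 hp2 ⊢
      omega
    obtain ⟨a, ha⟩ := (Int.modEq_zero_iff_dvd).mp this
    exact ⟨a, by rw [ha]; ring⟩
  · have hcard := eight_le_weight w hwc h0
    have hO : (maskSet octMask).card = 8 := by decide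
    have heq : support₂ w = maskSet octMask :=
      Finset.eq_of_subset_of_card_le hsub (by rw [hO]; exact hcard)
    refine ⟨2, Or.inr rfl, fun p hp => ?_, hsum⟩
    have : p ∈ support₂ w := by rw [heq, mem_maskSet]; exact hp
    rw [hw, support₂_indWord, Finset.mem_filter] at this
    obtain ⟨a, ha⟩ := (Int.modEq_iff_dvd).mp this.2.symm
    exact ⟨a, by linarith⟩

/-! ### divisibility of inner products and norms -/

theorem dvd16_aux (c d a0 a1 a2 a3 a4 a5 a6 a7 b0 b1 b2 b3 b4 b5 b6 b7 : ℤ)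
    (hc : c = 0 ∨ c = 2) (hd : d = 0 ∨ d = 2)
    (hA : (8 : ℤ) ∣ (c + 4 * a0) + (c + 4 * a1) + (c + 4 * a2) + (c + 4 * a3) + (c + 4 * a4) +
      (c + 4 * a5) + (c + 4 * a6) + (c + 4 * a7))
    (hB : (8 : ℤ) ∣ (d + 4 * b0) + (d + 4 * b1) + (d + 4 * b2) + (d + 4 * b3) + (d + 4 * b4) +
      (d + 4 * b5) + (d + 4 * b6) + (d + 4 * b7)) :
    (16 : ℤ) ∣ (c + 4 * a0) * (d + 4 * b0) + (c + 4 * a1) * (d + 4 * b1) +
      (c + 4 * a2) * (d + 4 * b2) + (c + 4 * a3) * (d + 4 * b3) + (c + 4 * a4) * (d + 4 * b4) +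
      (c + 4 * a5) * (d + 4 * b5) + (c + 4 * a6) * (d + 4 * b6) + (c + 4 * a7) * (d + 4 * b7) := by
  have hA2 : (2 : ℤ) ∣ a0 + a1 + a2 + a3 + a4 + a5 + a6 + a7 := by
    rcases hc with rfl | rfl <;> omega
  have hB2 : (2 : ℤ) ∣ b0 + b1 + b2 + b3 + b4 + b5 + b6 + b7 := by
    rcases hd with rfl | rfl <;> omega
  obtain ⟨A, hA'⟩ := hA2
  obtain ⟨B, hB'⟩ := hB2
  have e : (c + 4 * a0) * (d + 4 * b0) + (c + 4 * a1) * (d + 4 * b1) +
      (c + 4 * a2) * (d + 4 * b2) + (c + 4 * a3) * (d + 4 * b3) + (c + 4 * a4) * (d + 4 * b4) +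
      (c + 4 * a5) * (d + 4 * b5) + (c + 4 * a6) * (d + 4 * b6) + (c + 4 * a7) * (d + 4 * b7) =
      8 * (c * d) + 4 * c * (b0 + b1 + b2 + b3 + b4 + b5 + b6 + b7) +
      4 * d * (a0 + a1 + a2 + a3 + a4 + a5 + a6 + a7) +
      16 * (a0 * b0 + a1 * b1 + a2 * b2 + a3 * b3 + a4 * b4 + a5 * b5 + a6 * b6 + a7 * b7) := by
    ring
  rw [e, hA', hB']
  rcases hc with rfl | rfl <;> rcases hd with rfl | rfl
  · exact ⟨a0 * b0 + a1 * b1 + a2 * b2 + a3 * b3 + a4 * b4 + a5 * b5 + a6 * b6 + a7 * b7,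
      by ring⟩
  · exact ⟨A + (a0 * b0 + a1 * b1 + a2 * b2 + a3 * b3 + a4 * b4 + a5 * b5 + a6 * b6 + a7 * b7),
      by ring⟩
  · exact ⟨B + (a0 * b0 + a1 * b1 + a2 * b2 + a3 * b3 + a4 * b4 + a5 * b5 + a6 * b6 + a7 * b7),
      by ring⟩
  · exact ⟨2 + B + A +
      (a0 * b0 + a1 * b1 + a2 * b2 + a3 * b3 + a4 * b4 + a5 * b5 + a6 * b6 + a7 * b7), by ring⟩

/-- The inner product of two lattice vectors supported on the octad is divisible by 16. -/
theorem dvd16_dot (x y : GolayPt → ℤ) (hxL : x ∈ leechLattice) (hx : Supp8 x)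
    (hyL : y ∈ leechLattice) (hy : Supp8 y) : (16 : ℤ) ∣ dotInt x y := by
  obtain ⟨c, hc, hxa, hxs⟩ := struct8 x hxL hx
  obtain ⟨d, hd, hyb, hys⟩ := struct8 y hyL hy
  obtain ⟨a0, ha0⟩ := hxa none (by decide)
  obtain ⟨a1, ha1⟩ := hxa (some 0) (by decide)
  obtain ⟨a2, ha2⟩ := hxa (some 1) (by decide)
  obtain ⟨a3, ha3⟩ := hxa (some 2) (by decide)
  obtain ⟨a4, ha4⟩ := hxa (some 3) (by decide)
  obtain ⟨a5, ha5⟩ := hxa (some 5) (by decide)
  obtain ⟨a6, ha6⟩ := hxa (some 14) (by decide)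
  obtain ⟨a7, ha7⟩ := hxa (some 17) (by decide)
  obtain ⟨b0, hb0⟩ := hyb none (by decide)
  obtain ⟨b1, hb1⟩ := hyb (some 0) (by decide)
  obtain ⟨b2, hb2⟩ := hyb (some 1) (by decide)
  obtain ⟨b3, hb3⟩ := hyb (some 2) (by decide)
  obtain ⟨b4, hb4⟩ := hyb (some 3) (by decide)
  obtain ⟨b5, hb5⟩ := hyb (some 5) (by decide)
  obtain ⟨b6, hb6⟩ := hyb (some 14) (by decide)
  obtain ⟨b7, hb7⟩ := hyb (some 17) (by decide)
  rw [dot_supp8 x y hx, ha0, ha1, ha2, ha3, ha4, ha5, ha6, ha7, hb0, hb1, hb2, hb3, hb4, hb5,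
    hb6, hb7]
  rw [ha0, ha1, ha2, ha3, ha4, ha5, ha6, ha7] at hxs
  rw [hb0, hb1, hb2, hb3, hb4, hb5, hb6, hb7] at hys
  exact dvd16_aux c d a0 a1 a2 a3 a4 a5 a6 a7 b0 b1 b2 b3 b4 b5 b6 b7 hc hd hxs hys

theorem sq_parity (a : ℤ) : ∃ k : ℤ, a ^ 2 = a + 2 * k := by
  obtain ⟨k, hk⟩ := Int.even_mul_pred_self a
  exact ⟨k, by rw [pow_two]; linarith [hk, mul_sub a a 1]⟩

theorem dvd32_aux (c a0 a1 a2 a3 a4 a5 a6 a7 : ℤ) (hc : c = 0 ∨ c = 2)
    (hA : (8 : ℤ) ∣ (c + 4 * a0) + (c + 4 * a1) + (c + 4 * a2) + (c + 4 * a3) + (c + 4 * a4) +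
      (c + 4 * a5) + (c + 4 * a6) + (c + 4 * a7)) :
    (32 : ℤ) ∣ (c + 4 * a0) ^ 2 + (c + 4 * a1) ^ 2 + (c + 4 * a2) ^ 2 + (c + 4 * a3) ^ 2 +
      (c + 4 * a4) ^ 2 + (c + 4 * a5) ^ 2 + (c + 4 * a6) ^ 2 + (c + 4 * a7) ^ 2 := by
  have hA2 : (2 : ℤ) ∣ a0 + a1 + a2 + a3 + a4 + a5 + a6 + a7 := by
    rcases hc with rfl | rfl <;> omega
  obtain ⟨A, hA'⟩ := hA2
  obtain ⟨k0, h0⟩ := sq_parity a0
  obtain ⟨k1, h1⟩ := sq_parity a1
  obtain ⟨k2, h2⟩ := sq_parity a2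
  obtain ⟨k3, h3⟩ := sq_parity a3
  obtain ⟨k4, h4⟩ := sq_parity a4
  obtain ⟨k5, h5⟩ := sq_parity a5
  obtain ⟨k6, h6⟩ := sq_parity a6
  obtain ⟨k7, h7⟩ := sq_parity a7
  have e : (c + 4 * a0) ^ 2 + (c + 4 * a1) ^ 2 + (c + 4 * a2) ^ 2 + (c + 4 * a3) ^ 2 +
      (c + 4 * a4) ^ 2 + (c + 4 * a5) ^ 2 + (c + 4 * a6) ^ 2 + (c + 4 * a7) ^ 2 =
      8 * c ^ 2 + 8 * c * (a0 + a1 + a2 + a3 + a4 + a5 + a6 + a7) +
      16 * (a0 ^ 2 + a1 ^ 2 + a2 ^ 2 + a3 ^ 2 + a4 ^ 2 + a5 ^ 2 + a6 ^ 2 + a7 ^ 2) := by ring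
  rw [e, h0, h1, h2, h3, h4, h5, h6, h7]
  have e2 : a0 + 2 * k0 + (a1 + 2 * k1) + (a2 + 2 * k2) + (a3 + 2 * k3) + (a4 + 2 * k4) +
      (a5 + 2 * k5) + (a6 + 2 * k6) + (a7 + 2 * k7) =
      (a0 + a1 + a2 + a3 + a4 + a5 + a6 + a7) + 2 * (k0 + k1 + k2 + k3 + k4 + k5 + k6 + k7) := by
    ring
  rw [e2, hA']
  rcases hc with rfl | rfl
  · exact ⟨A + (k0 + k1 + k2 + k3 + k4 + k5 + k6 + k7), by ring⟩
  · exact ⟨1 + A + A + (k0 + k1 + k2 + k3 + k4 + k5 + k6 + k7), by ring⟩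

/-- The sum of squares of a lattice vector supported on the octad is divisible by 32. -/
theorem dvd32_sqNorm (x : GolayPt → ℤ) (hxL : x ∈ leechLattice) (hx : Supp8 x) :
    (32 : ℤ) ∣ sqNorm x := by
  obtain ⟨c, hc, hxa, hxs⟩ := struct8 x hxL hx
  obtain ⟨a0, ha0⟩ := hxa none (by decide)
  obtain ⟨a1, ha1⟩ := hxa (some 0) (by decide)
  obtain ⟨a2, ha2⟩ := hxa (some 1) (by decide)
  obtain ⟨a3, ha3⟩ := hxa (some 2) (by decide)
  obtain ⟨a4, ha4⟩ := hxa (some 3) (by decide)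
  obtain ⟨a5, ha5⟩ := hxa (some 5) (by decide)
  obtain ⟨a6, ha6⟩ := hxa (some 14) (by decide)
  obtain ⟨a7, ha7⟩ := hxa (some 17) (by decide)
  rw [sqNorm_supp8 x hx, ha0, ha1, ha2, ha3, ha4, ha5, ha6, ha7]
  rw [ha0, ha1, ha2, ha3, ha4, ha5, ha6, ha7] at hxs
  exact dvd32_aux c a0 a1 a2 a3 a4 a5 a6 a7 hc hxs


end Cfsg.Agent.Lib.Helper92_E8a
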