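import Cfsg.Agent.Lib.Helper92_E8a

/-!
The centraliser `C0` in the automorphism group of the rank-24 lattice of the sign change `t` on the
complement of the standard octad, intersected with the stabiliser of `(4, 4, 0^22)`, acts on the
sublattice supported on the octad.  With respect to a pair of dual bases `b`, `d` of this sublattice
(`⟨b_k, d_l⟩ = 16 δ_kl`, `d_6 = (4, 4, 0^22)`) an element `g` has an integer matrix `Amat g`, and
`Amat` is multiplicative and preserves the Gram matrix of `b`.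
-/

set_option autoImplicit false
set_option linter.constructorNameAsVariable false
open Cfsg

namespace Cfsg.Agent.Lib.Helper92_E8b

open Cfsg.Agent.Lib.Helper7_M24 Cfsg.Agent.Lib.Helper7_Leech Cfsg.Agent.Lib.Helper92_Monomial
  Cfsg.Agent.Lib.Helper92_Co0Order Cfsg.Agent.Lib.Helper7_Mono Cfsg.Agent.Lib.Helper92_FixMono
  Cfsg.Agent.Lib.Helper92_FixLat Cfsg.Agent.Lib.Helper7_Bits Cfsg.Agent.Lib.Helper7_Code
  Cfsg.Agent.Lib.Helper7_Base Cfsg.Agent.Lib.Helper92_E8a
open Cfsg.Agent.Lib.Helper7_Xi (vecL LeechCert mem_of_cert)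
open Cfsg.Agent.S0364 (octMask)
open Cfsg.Agent.S5546 (Lam vec8 e8 addHom addHom_apply dot_map)
open Cfsg.Spor (vecU leechU)

/-- The index set of the bases: six vectors in symplectic pairs and two more. -/
abbrev I8 : Type := (Fin 3 ⊕ Fin 3) ⊕ Fin 2

/-- The position of an index in the lists. -/
def pos : I8 → ℕ
  | Sum.inl (Sum.inl i) => i.val
  | Sum.inl (Sum.inr i) => 3 + i.val
  | Sum.inr i => 6 + i.val

def dL : List (List ℤ) := [
  [0, -8, 4, 0, 0, 0, 0, 0, 0, 0, 0, 0, 0, 0, 0, 0, 0, 4, 0, 0, 0, 0, 0, 0],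
  [0, -4, -4, 0, 0, 0, 0, 0, 0, 0, 0, 0, 0, 0, 4, 0, 0, -4, 0, 0, 0, 0, 0, 0],
  [-2, 2, 2, -2, 0, -2, 0, 0, 0, 0, 0, 0, 0, 0, -2, 0, 0, 2, 0, 0, 0, 0, 0, 2],
  [2, -2, -2, 2, 0, 2, 0, 0, 0, 0, 0, 0, 0, 0, 6, 0, 0, 2, 0, 0, 0, 0, 0, -2],
  [2, -6, -2, 2, 0, -2, 0, 0, 0, 0, 0, 0, 0, 0, 2, 0, 0, -2, 0, 0, 0, 0, 0, -2],
  [0, 4, 0, 0, 0, 0, 0, 0, 0, 0, 0, 0, 0, 0, -4, 0, 0, 0, 0, 0, 0, 0, 0, 0],
  [4, 0, 0, 0, 0, 0, 0, 0, 0, 0, 0, 0, 0, 0, 0, 0, 0, 0, 0, 0, 0, 0, 0, 4],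
  [2, 2, -2, -2, 0, 2, 0, 0, 0, 0, 0, 0, 0, 0, 2, 0, 0, 2, 0, 0, 0, 0, 0, 2]]

def bL : List (List ℤ) := [
  [-2, -2, -2, 2, 0, 2, 0, 0, 0, 0, 0, 0, 0, 0, -2, 0, 0, 2, 0, 0, 0, 0, 0, 2],
  [-6, -2, -6, 6, 0, 2, 0, 0, 0, 0, 0, 0, 0, 0, -2, 0, 0, 2, 0, 0, 0, 0, 0, 6],
  [-4, 0, -4, 4, 0, -4, 0, 0, 0, 0, 0, 0, 0, 0, 0, 0, 0, 4, 0, 0, 0, 0, 0, 4],
  [-4, 0, -4, 8, 0, 0, 0, 0, 0, 0, 0, 0, 0, 0, 0, 0, 0, 4, 0, 0, 0, 0, 0, 4],
  [4, 0, 0, -4, 0, -4, 0, 0, 0, 0, 0, 0, 0, 0, 0, 0, 0, 0, 0, 0, 0, 0, 0, -4],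
  [-6, -2, -10, 10, 0, 2, 0, 0, 0, 0, 0, 0, 0, 0, -6, 0, 0, 6, 0, 0, 0, 0, 0, 6],
  [0, 0, 0, 4, 0, 0, 0, 0, 0, 0, 0, 0, 0, 0, 0, 0, 0, 0, 0, 0, 0, 0, 0, 4],
  [4, 0, 0, -8, 0, 0, 0, 0, 0, 0, 0, 0, 0, 0, 0, 0, 0, 0, 0, 0, 0, 0, 0, -4]]

/-- The masks of the coordinates congruent to 2 modulo 4. -/
def dM : List ℕ := [0, 0, 8536111, 8536111, 8536111, 0, 0, 8536111]
def bM : List ℕ := [8536111, 8536111, 0, 0, 0, 8536111, 0, 0]

def dV (l : I8) : GolayPt → ℤ := vecL (dL.getD (pos l) [])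
def bV (l : I8) : GolayPt → ℤ := vecL (bL.getD (pos l) [])

theorem dV_cert : ∀ l : I8, LeechCert (dV l) (dM.getD (pos l) 0) := by decide +kernel
theorem bV_cert : ∀ l : I8, LeechCert (bV l) (bM.getD (pos l) 0) := by decide +kernel

theorem dV_supp : ∀ l : I8, Supp8 (dV l) := by decide +kernel
theorem bV_supp : ∀ l : I8, Supp8 (bV l) := by decide +kernel

def dE (l : I8) : Lam := ⟨dV l, mem_of_cert _ _ (dV_cert l)⟩
def bE (l : I8) : Lam := ⟨bV l, mem_of_cert _ _ (bV_cert l)⟩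

theorem dual : ∀ k l : I8, dotInt (bV k) (dV l) = if k = l then 16 else 0 := by decide +kernel

theorem dV_v0 : dV (Sum.inr 0) = vecU := by
  funext p
  revert p
  decide +kernel

/-- The completeness relation of the two bases. -/
theorem compl : ∀ q p : GolayPt, ∑ l : I8, dV l q * bV l p = if q = p ∧ inO p then 16 else 0 := by
  decide +kernel

/-! ### the sign change and the group `C0` -/

/-- The code word supported on the complement of the octad. -/
def uT : ↥golayCode :=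
  ⟨toWord (fullMask ^^^ octMask), toWord_mem_of_inCode (by decide +kernel)⟩

/-- The sign change on the complement of the octad. -/
def tE : ↥Co0 := eps uT

theorem mem_uT : ∀ p : GolayPt, (fullMask ^^^ octMask).testBit (enc p) = true ↔ ¬ inO p := by
  decide +kernel

theorem mem_supp_uT (p : GolayPt) : p ∈ support₂ uT.1 ↔ ¬ inO p := by
  show p ∈ support₂ (toWord (fullMask ^^^ octMask)) ↔ _
  rw [mem_support₂_toWord, mem_uT]

theorem tE_fix_iff (x : Lam) : tE • x = x ↔ Supp8 x.1 := by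
  constructor
  · intro h p hp
    have h1 := congrFun (congrArg Subtype.val h) p
    have h2 : ((tE • x : Lam) : GolayPt → ℤ) p = -x.1 p := by
      show ((eps uT • x : Lam) : GolayPt → ℤ) p = _
      rw [eps_apply]
      exact signFlip_of_mem ((mem_supp_uT p).mpr hp) x.1
    rw [h2] at h1
    omega
  · intro h
    apply Subtype.ext
    funext p
    show ((eps uT • x : Lam) : GolayPt → ℤ) p = _
    rw [eps_apply]
    by_cases hp : p ∈ support₂ uT.1
    · rw [signFlip_of_mem hp, h p ((mem_supp_uT p).mp hp)]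
      rfl
    · rw [signFlip_of_notMem hp]

/-- The vector `(4, 4, 0^22)`. -/
def UL : Lam := leechU

theorem UL_val : (UL : GolayPt → ℤ) = vecU := rfl

/-- The centraliser of the sign change in the stabiliser of `(4, 4, 0^22)`. -/
def C0 : Subgroup ↥Co0 := Subgroup.centralizer {tE} ⊓ MulAction.stabilizer ↥Co0 UL

theorem mem_C0 (g : ↥Co0) : g ∈ C0 ↔ tE * g = g * tE ∧ g • UL = UL := by
  unfold C0
  rw [Subgroup.mem_inf, Subgroup.mem_centralizer_iff, MulAction.mem_stabilizer_iff]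
  constructor
  · rintro ⟨h1, h2⟩
    exact ⟨h1 tE rfl, h2⟩
  · rintro ⟨h1, h2⟩
    refine ⟨fun h hh => ?_, h2⟩
    rw [Set.mem_singleton_iff] at hh
    rw [hh]
    exact h1

theorem supp_smul {g : ↥Co0} (hg : g ∈ C0) (x : Lam) (hx : Supp8 x.1) : Supp8 (g • x).1 := by
  rw [← tE_fix_iff, ← mul_smul', ((mem_C0 g).mp hg).1, mul_smul', (tE_fix_iff x).mpr hx]

/-! ### coordinates -/

/-- The coordinate of a vector along `b_l`. -/
def coef (x : GolayPt → ℤ) (l : I8) : ℤ := dotInt x (dV l) / 16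

theorem coef_spec (x : Lam) (hx : Supp8 x.1) (l : I8) : dotInt x.1 (dV l) = 16 * coef x.1 l := by
  unfold coef
  rw [Int.mul_ediv_cancel' (dvd16_dot x.1 (dV l) x.2 hx (dE l).2 (dV_supp l))]

theorem expand_fun (x : GolayPt → ℤ) (hx : Supp8 x) (p : GolayPt) :
    ∑ l : I8, dotInt x (dV l) * bV l p = 16 * x p := by
  have h1 : ∀ l : I8, dotInt x (dV l) * bV l p = ∑ q, x q * (dV l q * bV l p) := by
    intro l
    unfold dotInt
    rw [Finset.sum_mul]
    apply Finset.sum_congr rfl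
    intro q _
    ring
  rw [Finset.sum_congr rfl (fun l _ => h1 l), Finset.sum_comm]
  have h2 : ∀ q, ∑ l : I8, x q * (dV l q * bV l p) = x q * (if q = p ∧ inO p then 16 else 0) := by
    intro q
    rw [← compl q p, Finset.mul_sum]
  rw [Finset.sum_congr rfl (fun q _ => h2 q)]
  by_cases hp : inO p
  · rw [Finset.sum_eq_single p]
    · rw [if_pos ⟨rfl, hp⟩]
      ring
    · intro q _ hq
      rw [if_neg (fun h => hq h.1), mul_zero]
    · intro h
      exact absurd (Finset.mem_univ p) h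
  · rw [hx p hp, mul_zero]
    apply Finset.sum_eq_zero
    intro q _
    rw [if_neg (fun h => hp h.2), mul_zero]

theorem val_sum_smul (c : I8 → ℤ) (y : I8 → Lam) (p : GolayPt) :
    ((∑ l : I8, c l • y l : Lam) : GolayPt → ℤ) p = ∑ l : I8, c l * (y l).1 p := by
  rw [AddSubgroup.val_finsetSum, Finset.sum_apply]
  apply Finset.sum_congr rfl
  intro l _
  rw [AddSubgroup.coe_zsmul, Pi.smul_apply, smul_eq_mul]

/-- The expansion of a vector supported on the octad. -/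
theorem expand (x : Lam) (hx : Supp8 x.1) : x = ∑ l : I8, coef x.1 l • bE l := by
  apply Subtype.ext
  funext p
  rw [val_sum_smul]
  have h := expand_fun x.1 hx p
  have h2 : 16 * ∑ l : I8, coef x.1 l * (bE l).1 p = 16 * x.1 p := by
    rw [← h, Finset.mul_sum]
    apply Finset.sum_congr rfl
    intro l _
    rw [coef_spec x hx l]
    show 16 * (coef x.1 l * bV l p) = _
    ring
  exact (mul_left_cancel₀ (by norm_num) h2).symm

/-- The inner product with a fixed vector, as an additive map. -/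
def dotHom (d : GolayPt → ℤ) : Lam →+ ℤ where
  toFun x := dotInt x.1 d
  map_zero' := by
    unfold dotInt
    apply Finset.sum_eq_zero
    intro i _
    show (0 : GolayPt → ℤ) i * d i = 0
    rw [Pi.zero_apply, zero_mul]
  map_add' x y := by
    unfold dotInt
    rw [← Finset.sum_add_distrib]
    apply Finset.sum_congr rfl
    intro i _
    show (x.1 + y.1) i * d i = _
    rw [Pi.add_apply, add_mul]

theorem dotHom_apply (d : GolayPt → ℤ) (x : Lam) : dotHom d x = dotInt x.1 d := rfl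

theorem dotInt_comm' (a b : GolayPt → ℤ) : dotInt a b = dotInt b a := by
  unfold dotInt
  apply Finset.sum_congr rfl
  intro i _
  ring

theorem smul_sum_smul (g : ↥Co0) (c : I8 → ℤ) (y : I8 → Lam) :
    g • (∑ l : I8, c l • y l) = ∑ l : I8, c l • (g • y l) := by
  show addHom g.1 g.2 (∑ l : I8, c l • y l) = _
  rw [map_sum]
  apply Finset.sum_congr rfl
  intro l _
  rw [map_zsmul]
  rfl

theorem dot_sum_smul (c : I8 → ℤ) (y : I8 → Lam) (d : GolayPt → ℤ) :
    dotInt ((∑ l : I8, c l • y l : Lam) : GolayPt → ℤ) d = ∑ l : I8, c l * dotInt (y l).1 d := by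
  rw [← dotHom_apply, map_sum]
  apply Finset.sum_congr rfl
  intro l _
  rw [map_zsmul, smul_eq_mul, dotHom_apply]

/-! ### the matrix of an element -/

/-- The matrix of `g` on the octad sublattice with respect to the basis `b`. -/
def Amat (g : ↥Co0) : Matrix I8 I8 ℤ := fun i l => coef (g • bE l).1 i

theorem smul_bE {g : ↥Co0} (hg : g ∈ C0) (k : I8) : g • bE k = ∑ i : I8, Amat g i k • bE i :=
  expand (g • bE k) (supp_smul hg _ (bV_supp k))

theorem coef_smul {g : ↥Co0} (hg : g ∈ C0) (x : Lam) (hx : Supp8 x.1) (i : I8) :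
    coef (g • x).1 i = ∑ l : I8, Amat g i l * coef x.1 l := by
  have h1 : g • x = ∑ l : I8, coef x.1 l • (g • bE l) := by
    conv_lhs => rw [expand x hx]
    exact smul_sum_smul g _ _
  have h2 : dotInt (g • x).1 (dV i) = ∑ l : I8, coef x.1 l * dotInt (g • bE l).1 (dV i) := by
    conv_lhs => rw [h1]
    exact dot_sum_smul _ _ _
  have h3 : ∀ l : I8, dotInt (g • bE l).1 (dV i) = 16 * Amat g i l := fun l =>
    coef_spec (g • bE l) (supp_smul hg _ (bV_supp l)) i
  rw [coef_spec (g • x) (supp_smul hg x hx) i, Finset.sum_congr rfl (fun l _ => by rw [h3 l])] at h2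
  have h4 : 16 * coef (g • x).1 i = 16 * ∑ l : I8, Amat g i l * coef x.1 l := by
    rw [h2, Finset.mul_sum]
    apply Finset.sum_congr rfl
    intro l _
    ring
  exact mul_left_cancel₀ (by norm_num) h4

theorem Amat_mul {g h : ↥Co0} (hg : g ∈ C0) (hh : h ∈ C0) : Amat (g * h) = Amat g * Amat h := by
  funext i k
  rw [Matrix.mul_apply]
  show coef ((g * h) • bE k).1 i = _
  rw [mul_smul', coef_smul hg (h • bE k) (supp_smul hh _ (bV_supp k)) i]
  rfl

theorem coef_bE (k i : I8) : coef (bE k).1 i = if i = k then 1 else 0 := by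
  unfold coef
  show dotInt (bV k) (dV i) / 16 = _
  rw [dual]
  by_cases h : k = i
  · rw [if_pos h, if_pos h.symm]
    norm_num
  · rw [if_neg h, if_neg (fun h' => h h'.symm)]
    norm_num

theorem Amat_one : Amat 1 = 1 := by
  funext i k
  show coef ((1 : ↥Co0) • bE k).1 i = _
  rw [one_smul, coef_bE, Matrix.one_apply]

theorem dot_smul_UL {g : ↥Co0} (hg : g ∈ C0) (x : Lam) :
    dotInt (g • x).1 vecU = dotInt x.1 vecU := by
  have h := dot_map g.1 g.2 x UL
  have h2 : g.1 UL = UL := ((mem_C0 g).mp hg).2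
  rw [h2] at h
  exact h

/-- The row of `(4, 4, 0^22)`. -/
theorem Amat_row {g : ↥Co0} (hg : g ∈ C0) (l : I8) :
    Amat g (Sum.inr 0) l = if l = Sum.inr 0 then 1 else 0 := by
  show coef (g • bE l).1 (Sum.inr 0) = _
  unfold coef
  rw [dV_v0, dot_smul_UL hg, ← dV_v0]
  show dotInt (bV l) (dV (Sum.inr 0)) / 16 = _
  rw [dual]
  by_cases h : l = Sum.inr 0
  · rw [if_pos h, if_pos h]
    norm_num
  · rw [if_neg h, if_neg h]
    norm_num

theorem bE7 : bE (Sum.inr 1) + (2 : ℤ) • bE (Sum.inr 0) = UL := by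
  apply Subtype.ext
  funext p
  show bV (Sum.inr 1) p + ((2 : ℤ) • bE (Sum.inr 0) : Lam).1 p = vecU p
  rw [AddSubgroup.coe_zsmul, Pi.smul_apply, smul_eq_mul]
  show bV (Sum.inr 1) p + 2 * bV (Sum.inr 0) p = vecU p
  revert p
  decide +kernel

theorem coef_UL : ∀ i : Fin 3 ⊕ Fin 3, coef vecU (Sum.inl i) = 0 := by decide +kernel

/-- The column of the last basis vector. -/
theorem Amat_col {g : ↥Co0} (hg : g ∈ C0) (i : Fin 3 ⊕ Fin 3) :
    Amat g (Sum.inl i) (Sum.inr 1) = -2 * Amat g (Sum.inl i) (Sum.inr 0) := by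
  have h1 : g • bE (Sum.inr 1) + (2 : ℤ) • (g • bE (Sum.inr 0)) = UL := by
    have h : g • (bE (Sum.inr 1) + (2 : ℤ) • bE (Sum.inr 0)) = g • UL :=
      congrArg (fun v => g • v) bE7
    rw [smul_add'] at h
    have h2 : g • ((2 : ℤ) • bE (Sum.inr 0)) = (2 : ℤ) • (g • bE (Sum.inr 0)) := by
      show addHom g.1 g.2 ((2 : ℤ) • bE (Sum.inr 0)) = _
      rw [map_zsmul]
      rfl
    rw [h2, ((mem_C0 g).mp hg).2] at h
    exact h
  have h3 := congrArg (dotHom (dV (Sum.inl i))) h1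
  rw [map_add, map_zsmul, dotHom_apply, dotHom_apply, dotHom_apply, smul_eq_mul,
    coef_spec _ (supp_smul hg _ (bV_supp _)), coef_spec _ (supp_smul hg _ (bV_supp _))] at h3
  have h4 : dotInt UL.1 (dV (Sum.inl i)) = 0 := by
    have := coef_UL i
    unfold coef at this
    have hd : (16 : ℤ) ∣ dotInt vecU (dV (Sum.inl i)) :=
      dvd16_dot _ _ UL.2 (by rw [← dV_v0]; exact dV_supp _) (dE _).2 (dV_supp _)
    rw [UL_val]
    omega
  rw [h4] at h3
  show coef (g • bE (Sum.inr 1)).1 (Sum.inl i) = -2 * coef (g • bE (Sum.inr 0)).1 (Sum.inl i)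
  omega

/-! ### the Gram matrix -/

/-- The Gram matrix of the basis `b`, divided by 16. -/
def Kb (i j : I8) : ℤ := dotInt (bV i) (bV j) / 16

theorem Kb_spec : ∀ i j : I8, dotInt (bV i) (bV j) = 16 * Kb i j := by decide +kernel

theorem gram_pres {g : ↥Co0} (hg : g ∈ C0) (k l : I8) :
    ∑ i : I8, ∑ j : I8, Amat g i k * Kb i j * Amat g j l = Kb k l := by
  have h0 : dotInt (g • bE k).1 (g • bE l).1 = 16 * Kb k l := by
    rw [← Kb_spec]
    exact dot_map g.1 g.2 (bE k) (bE l)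
  have h1 : dotInt (g • bE k).1 (g • bE l).1 =
      ∑ i : I8, Amat g i k * dotInt (bE i).1 (g • bE l).1 := by
    conv_lhs => rw [smul_bE hg k]
    exact dot_sum_smul _ _ _
  have h2 : ∀ i : I8, dotInt (bE i).1 (g • bE l).1 = ∑ j : I8, Amat g j l * (16 * Kb i j) := by
    intro i
    rw [dotInt_comm']
    conv_lhs => rw [smul_bE hg l]
    rw [dot_sum_smul]
    apply Finset.sum_congr rfl
    intro j _
    rw [dotInt_comm']
    show Amat g j l * dotInt (bV i) (bV j) = _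
    rw [Kb_spec]
  rw [h1, Finset.sum_congr rfl (fun i _ => by rw [h2 i])] at h0
  have h3 : 16 * ∑ i : I8, ∑ j : I8, Amat g i k * Kb i j * Amat g j l = 16 * Kb k l := by
    rw [← h0, Finset.mul_sum]
    apply Finset.sum_congr rfl
    intro i _
    rw [Finset.mul_sum, Finset.mul_sum]
    apply Finset.sum_congr rfl
    intro j _
    ring
  exact mul_left_cancel₀ (by norm_num) h3


end Cfsg.Agent.Lib.Helper92_E8b
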