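import Cfsg.Agent.Lib.Helper92_E8b

/-!
The homomorphism from `C0` (the centraliser of the sign change on the complement of the standard
octad in the stabiliser of `(4, 4, 0^22)`) to the symplectic group of dimension 6 over the field
with two elements: the first six rows and columns of the matrix `Amat g`, reduced modulo 2.
-/

set_option autoImplicit false
set_option linter.constructorNameAsVariable false
open Cfsg

namespace Cfsg.Agent.Lib.Helper92_E8c

open Cfsg.Agent.Lib.Helper7_M24 Cfsg.Agent.Lib.Helper7_Leech Cfsg.Agent.Lib.Helper92_Monomial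
  Cfsg.Agent.Lib.Helper92_Co0Order Cfsg.Agent.Lib.Helper7_Mono Cfsg.Agent.Lib.Helper92_E8a
  Cfsg.Agent.Lib.Helper92_E8b
open Cfsg.Agent.S5546 (Lam)

/-- The reduction modulo 2 of the first six rows and columns. -/
def phiM (g : ↥Co0) : Matrix (Fin 3 ⊕ Fin 3) (Fin 3 ⊕ Fin 3) (ZMod 2) :=
  fun i j => ((Amat g (Sum.inl i) (Sum.inl j) : ℤ) : ZMod 2)

theorem two_cast_zero (a : ℤ) : (((-2 * a : ℤ)) : ZMod 2) = 0 := by
  rw [Int.cast_mul]
  have : ((-2 : ℤ) : ZMod 2) = 0 := by decide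
  rw [this, zero_mul]

theorem phiM_mul {g h : ↥Co0} (hg : g ∈ C0) (hh : h ∈ C0) : phiM (g * h) = phiM g * phiM h := by
  funext i j
  rw [Matrix.mul_apply]
  show ((Amat (g * h) (Sum.inl i) (Sum.inl j) : ℤ) : ZMod 2) = _
  rw [Amat_mul hg hh, Matrix.mul_apply, Fintype.sum_sum_type, Fin.sum_univ_two, Int.cast_add,
    Int.cast_add, Int.cast_sum]
  have h1 : Amat h (Sum.inr 0) (Sum.inl j) = 0 := by
    rw [Amat_row hh, if_neg (fun h => Sum.inl_ne_inr h)]
  have h2 : ((Amat g (Sum.inl i) (Sum.inr 1) * Amat h (Sum.inr 1) (Sum.inl j) : ℤ) : ZMod 2) = 0 := by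
    rw [Amat_col hg, Int.cast_mul, two_cast_zero, zero_mul]
  rw [h1, mul_zero, Int.cast_zero, h2, add_zero, add_zero]
  apply Finset.sum_congr rfl
  intro l _
  rw [Int.cast_mul]
  rfl

theorem phiM_one : phiM 1 = 1 := by
  funext i j
  show ((Amat 1 (Sum.inl i) (Sum.inl j) : ℤ) : ZMod 2) = _
  rw [Amat_one, Matrix.one_apply, Matrix.one_apply]
  by_cases h : i = j
  · rw [if_pos h, if_pos (by rw [h]), Int.cast_one]
  · rw [if_neg h, if_neg (fun h' => h (Sum.inl_injective h')), Int.cast_zero]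

/-- The entries of the standard symplectic form over the field with two elements. -/
def jf : Fin 3 ⊕ Fin 3 → Fin 3 ⊕ Fin 3 → ZMod 2
  | Sum.inl i, Sum.inr j => if i = j then 1 else 0
  | Sum.inr i, Sum.inl j => if i = j then 1 else 0
  | _, _ => 0

theorem J_eq (c d : Fin 3 ⊕ Fin 3) : Matrix.J (Fin 3) (ZMod 2) c d = jf c d := by
  have hneg : (-1 : ZMod 2) = 1 := by decide
  rcases c with i | i <;> rcases d with j | j
  · simp [Matrix.J, jf]
  · simp [Matrix.J, jf, Matrix.one_apply, hneg]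
  · simp [Matrix.J, jf, Matrix.one_apply]
  · simp [Matrix.J, jf]

/-- The Gram matrix modulo 2. -/
theorem Kb_mod2' : ∀ c d : Fin 3 ⊕ Fin 3,
    ((Kb (Sum.inl c) (Sum.inl d) : ℤ) : ZMod 2) = jf c d := by
  decide +kernel

theorem Kb_mod2 (c d : Fin 3 ⊕ Fin 3) :
    ((Kb (Sum.inl c) (Sum.inl d) : ℤ) : ZMod 2) = Matrix.J (Fin 3) (ZMod 2) c d := by
  rw [J_eq, Kb_mod2']

theorem Kb_last : ∀ c : Fin 3 ⊕ Fin 3, ((Kb (Sum.inl c) (Sum.inr 1) : ℤ) : ZMod 2) = 0 ∧
    ((Kb (Sum.inr 1) (Sum.inl c) : ℤ) : ZMod 2) = 0 := by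
  decide +kernel

theorem Kb_last2 : ((Kb (Sum.inr 1) (Sum.inr 1) : ℤ) : ZMod 2) = 0 := by decide +kernel

theorem phiM_symp {g : ↥Co0} (hg : g ∈ C0) :
    (phiM g).transpose * Matrix.J (Fin 3) (ZMod 2) * phiM g = Matrix.J (Fin 3) (ZMod 2) := by
  funext a b
  have h := congrArg (Int.cast : ℤ → ZMod 2) (gram_pres hg (Sum.inl a) (Sum.inl b))
  rw [← Kb_mod2 a b, ← h]
  rw [Matrix.mul_apply]
  simp only [Matrix.mul_apply, Matrix.transpose_apply]
  rw [Fintype.sum_sum_type]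
  simp only [Fintype.sum_sum_type (fun j : I8 => _), Fin.sum_univ_two, Int.cast_add, Int.cast_sum,
    Int.cast_mul]
  have r0 : ∀ x : Fin 3 ⊕ Fin 3, ((Amat g (Sum.inr 0) (Sum.inl x) : ℤ) : ZMod 2) = 0 := by
    intro x
    rw [Amat_row hg, if_neg (fun h => Sum.inl_ne_inr h), Int.cast_zero]
  simp only [r0, (Kb_last _).1, (Kb_last _).2, Kb_last2, zero_mul, mul_zero, add_zero,
    Finset.sum_const_zero]
  rw [← Fintype.sum_sum_type (fun y : Fin 3 ⊕ Fin 3 =>
    (∑ j, phiM g j a * Matrix.J (Fin 3) (ZMod 2) j y) * phiM g y b), Finset.sum_comm]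
  apply Finset.sum_congr rfl
  intro d _
  rw [Finset.sum_mul]
  apply Finset.sum_congr rfl
  intro c _
  rw [Kb_mod2]
  rfl

/-- The homomorphism onto the symplectic group. -/
def phi : ↥C0 →* Matrix.symplecticGroup (Fin 3) (ZMod 2) where
  toFun g := ⟨phiM g.1, SymplecticGroup.mem_iff'.mpr (phiM_symp g.2)⟩
  map_one' := by
    apply Subtype.ext
    exact phiM_one
  map_mul' g h := by
    apply Subtype.ext
    exact phiM_mul g.2 h.2

theorem phi_val (g : ↥C0) :
    ((phi g : Matrix.symplecticGroup (Fin 3) (ZMod 2)) :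
      Matrix (Fin 3 ⊕ Fin 3) (Fin 3 ⊕ Fin 3) (ZMod 2)) = phiM g.1 := rfl

end Cfsg.Agent.Lib.Helper92_E8c
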