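import Cfsg.Agent.Lib.Helper92_E8c

/-!
The kernel of the homomorphism `phi` of `Helper92_E8c`: an element of `C0` whose matrix is trivial
modulo 2 maps every norm 32 vector `r` of the octad sublattice orthogonal to `(4, 4, 0^22)` to `r`
or `-r`.
-/

set_option autoImplicit false
set_option linter.constructorNameAsVariable false
open Cfsg

namespace Cfsg.Agent.Lib.Helper92_E8d

open Cfsg.Agent.Lib.Helper7_M24 Cfsg.Agent.Lib.Helper7_Leech Cfsg.Agent.Lib.Helper92_Monomial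
  Cfsg.Agent.Lib.Helper92_Co0Order Cfsg.Agent.Lib.Helper7_Mono Cfsg.Agent.Lib.Helper92_E8a
  Cfsg.Agent.Lib.Helper92_E8b Cfsg.Agent.Lib.Helper92_E8c
open Cfsg.Agent.Lib.Helper7_Xi (vecL LeechCert mem_of_cert)
open Cfsg.Agent.Lib.Helper7_Bits (enc dec)
open Cfsg.Agent.S5546 (Lam vec8 e8 addHom addHom_apply dot_map)
open Cfsg.Spor (vecU leechU)

/-! ### norms -/

theorem sqNorm_nonneg' (a : GolayPt → ℤ) : 0 ≤ sqNorm a := by
  unfold sqNorm
  exact Finset.sum_nonneg (fun i _ => sq_nonneg _)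

theorem eq_zero_of_sqNorm (a : GolayPt → ℤ) (h : sqNorm a = 0) : a = 0 := by
  unfold sqNorm at h
  funext i
  have := (Finset.sum_eq_zero_iff_of_nonneg (fun i _ => sq_nonneg (a i))).mp h i (Finset.mem_univ i)
  exact pow_eq_zero_iff (two_ne_zero) |>.mp this

theorem parallelogram (a b : GolayPt → ℤ) :
    sqNorm (a + b + b) + sqNorm a = 2 * sqNorm (a + b) + 2 * sqNorm b := by
  unfold sqNorm
  rw [Finset.mul_sum, Finset.mul_sum, ← Finset.sum_add_distrib, ← Finset.sum_add_distrib]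
  apply Finset.sum_congr rfl
  intro i _
  simp only [Pi.add_apply]
  ring

/-! ### sums over the index set -/

theorem sum_I8 {M : Type*} [AddCommMonoid M] (f : I8 → M) :
    ∑ l : I8, f l = ∑ a : Fin 3 ⊕ Fin 3, f (Sum.inl a) + (f (Sum.inr 0) + f (Sum.inr 1)) := by
  rw [Fintype.sum_sum_type, Fin.sum_univ_two]

theorem val_sum_smul' {ι : Type*} [Fintype ι] (c : ι → ℤ) (y : ι → Lam) (p : GolayPt) :
    ((∑ l : ι, c l • y l : Lam) : GolayPt → ℤ) p = ∑ l : ι, c l * (y l).1 p := by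
  rw [AddSubgroup.val_finsetSum, Finset.sum_apply]
  apply Finset.sum_congr rfl
  intro l _
  rw [AddSubgroup.coe_zsmul, Pi.smul_apply, smul_eq_mul]

theorem smul_zsmul' (g : ↥Co0) (n : ℤ) (x : Lam) : g • (n • x) = n • (g • x) := by
  show addHom g.1 g.2 (n • x) = _
  rw [map_zsmul]
  rfl

theorem smul_sum_smul' {ι : Type*} [Fintype ι] (g : ↥Co0) (c : ι → ℤ) (y : ι → Lam) :
    g • (∑ l : ι, c l • y l) = ∑ l : ι, c l • (g • y l) := by
  show addHom g.1 g.2 (∑ l : ι, c l • y l) = _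
  rw [map_sum]
  apply Finset.sum_congr rfl
  intro l _
  rw [map_zsmul]
  rfl

theorem supp8_comb (c : I8 → ℤ) : Supp8 ((∑ l : I8, c l • bE l : Lam) : GolayPt → ℤ) := by
  intro p hp
  rw [val_sum_smul]
  apply Finset.sum_eq_zero
  intro l _
  show c l * bV l p = 0
  rw [bV_supp l p hp, mul_zero]

theorem supp8_add {x y : Lam} (hx : Supp8 x.1) (hy : Supp8 y.1) : Supp8 (x + y).1 := by
  intro p hp
  show x.1 p + y.1 p = 0
  rw [hx p hp, hy p hp, add_zero]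

theorem supp8_zsmul {x : Lam} (n : ℤ) (hx : Supp8 x.1) : Supp8 (n • x).1 := by
  intro p hp
  rw [AddSubgroup.coe_zsmul, Pi.smul_apply, hx p hp, smul_zero]

theorem supp8_UL : Supp8 UL.1 := by
  rw [UL_val, ← dV_v0]
  exact dV_supp _

/-- The coordinates of `(4, 4, 0^22)`. -/
def uC : I8 → ℤ
  | Sum.inl _ => 0
  | Sum.inr i => if i = 0 then 2 else 1

theorem UL_comb : UL = ∑ l : I8, uC l • bE l := by
  rw [sum_I8]
  have h0 : ∀ a : Fin 3 ⊕ Fin 3, uC (Sum.inl a) • bE (Sum.inl a) = 0 := fun a => zero_smul _ _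
  rw [Finset.sum_congr rfl (fun a _ => h0 a), Finset.sum_const_zero, zero_add]
  show UL = (2 : ℤ) • bE (Sum.inr 0) + (1 : ℤ) • bE (Sum.inr 1)
  rw [one_smul, add_comm]
  exact bE7.symm

theorem comb_lin (c mm u : I8 → ℤ) (e : ℤ) :
    ∑ l, (c l + 2 * mm l + e * u l) • bE l =
      ∑ l, c l • bE l + (2 : ℤ) • ∑ l, mm l • bE l + e • ∑ l, u l • bE l := by
  simp only [add_smul, mul_smul, Finset.sum_add_distrib, Finset.smul_sum]

/-- The shape of the image of a vector orthogonal to `(4, 4, 0^22)` under an element of the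
kernel. -/
theorem ker_shape {g : ↥Co0} (hg : g ∈ C0) (h1 : phiM g = 1) (x : Lam) (hx : Supp8 x.1)
    (hxU : dotInt x.1 vecU = 0) :
    ∃ (z : Lam) (e : ℤ), Supp8 z.1 ∧ g • x = x + (2 : ℤ) • z + e • UL := by
  have hc0 : coef x.1 (Sum.inr 0) = 0 := by
    unfold coef
    rw [dV_v0, hxU]
    norm_num
  have hc0' : coef (g • x).1 (Sum.inr 0) = 0 := by
    unfold coef
    rw [dV_v0, dot_smul_UL hg, hxU]
    norm_num
  have hpar : ∀ a : Fin 3 ⊕ Fin 3, ∃ m : ℤ,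
      coef (g • x).1 (Sum.inl a) = coef x.1 (Sum.inl a) + 2 * m := by
    intro a
    have hcs := coef_smul hg x hx (Sum.inl a)
    rw [sum_I8, hc0, mul_zero, zero_add, Amat_col hg] at hcs
    have hz : ((coef (g • x).1 (Sum.inl a) : ℤ) : ZMod 2) =
        ((coef x.1 (Sum.inl a) : ℤ) : ZMod 2) := by
      rw [hcs, Int.cast_add, Int.cast_sum, Int.cast_mul, two_cast_zero, zero_mul, add_zero]
      have hb : ∀ b : Fin 3 ⊕ Fin 3,
          ((Amat g (Sum.inl a) (Sum.inl b) * coef x.1 (Sum.inl b) : ℤ) : ZMod 2) =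
            (if a = b then ((coef x.1 (Sum.inl b) : ℤ) : ZMod 2) else 0) := by
        intro b
        rw [Int.cast_mul]
        have h2 : ((Amat g (Sum.inl a) (Sum.inl b) : ℤ) : ZMod 2) =
            (1 : Matrix (Fin 3 ⊕ Fin 3) (Fin 3 ⊕ Fin 3) (ZMod 2)) a b := congrFun (congrFun h1 a) b
        rw [h2, Matrix.one_apply]
        by_cases hab : a = b
        · rw [if_pos hab, if_pos hab, one_mul]
        · rw [if_neg hab, if_neg hab, zero_mul]
      rw [Finset.sum_congr rfl (fun b _ => hb b), Finset.sum_ite_eq Finset.univ a, if_pos (Finset.mem_univ a)]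
    have hd := (ZMod.intCast_eq_intCast_iff_dvd_sub _ _ 2).mp hz
    obtain ⟨m, hm⟩ := hd
    have hm' : coef x.1 (Sum.inl a) - coef (g • x).1 (Sum.inl a) = 2 * m := by exact_mod_cast hm
    exact ⟨-m, by linarith⟩
  choose m hm using hpar
  obtain ⟨e, he⟩ : ∃ e : ℤ, e = coef (g • x).1 (Sum.inr 1) - coef x.1 (Sum.inr 1) := ⟨_, rfl⟩
  let mm : I8 → ℤ := fun l => match l with
    | Sum.inl a => m a
    | Sum.inr i => if i = 0 then -e else 0
  refine ⟨∑ l : I8, mm l • bE l, e, supp8_comb mm, ?_⟩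
  have hco : ∀ l : I8, coef (g • x).1 l = coef x.1 l + 2 * mm l + e * uC l := by
    intro l
    rcases l with a | i
    · show _ = coef x.1 (Sum.inl a) + 2 * m a + e * 0
      rw [hm a]
      ring
    · fin_cases i
      · show coef (g • x).1 (Sum.inr 0) = coef x.1 (Sum.inr 0) + 2 * (-e) + e * 2
        rw [hc0, hc0']
        ring
      · show coef (g • x).1 (Sum.inr 1) = coef x.1 (Sum.inr 1) + 2 * 0 + e * 1
        rw [he]
        ring
  have e1 := expand (g • x) (supp_smul hg x hx)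
  rw [Finset.sum_congr rfl (fun l _ => by rw [hco l]), comb_lin, ← expand x hx, ← UL_comb] at e1
  exact e1

theorem sqNorm_UL : sqNorm UL.1 = 32 := by
  rw [UL_val]
  decide +kernel

theorem dotInt_neg_right (a b : GolayPt → ℤ) : dotInt a (-b) = -dotInt a b := by
  unfold dotInt
  rw [← Finset.sum_neg_distrib]
  apply Finset.sum_congr rfl
  intro i _
  rw [Pi.neg_apply]
  ring

/-- A norm 32 vector orthogonal to `(4, 4, 0^22)` is mapped to itself or to its negative. -/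
theorem root_pm {g : ↥Co0} (hg : g ∈ C0) (h1 : phiM g = 1) (r : Lam) (hr : Supp8 r.1)
    (hrU : dotInt r.1 vecU = 0) (hrN : sqNorm r.1 = 32) : g • r = r ∨ g • r = -r := by
  obtain ⟨z, e, hz, hgr⟩ := ker_shape hg h1 r hr hrU
  have hN : sqNorm (g • r).1 = 32 := by rw [sqNorm_smul, hrN]
  obtain ⟨e', ε, hε, rfl⟩ : ∃ e' ε : ℤ, (ε = 0 ∨ ε = 1) ∧ e = 2 * e' + ε :=
    ⟨e / 2, e % 2, by omega, by omega⟩
  obtain ⟨z1, hz1⟩ : ∃ z1 : Lam, z1 = z + e' • UL := ⟨_, rfl⟩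
  have hz1s : Supp8 z1.1 := by
    rw [hz1]
    exact supp8_add hz (supp8_zsmul e' supp8_UL)
  have hd1 := dvd32_sqNorm z1.1 z1.2 hz1s
  have n1 := sqNorm_nonneg' z1.1
  rcases hε with rfl | rfl
  · have e1 : g • r = r + z1 + z1 := by
      rw [hgr, hz1]
      module
    have e2 : sqNorm (r.1 + z1.1 + z1.1) = 32 := by
      have : (g • r).1 = r.1 + z1.1 + z1.1 := by rw [e1]; rfl
      rw [← this]
      exact hN
    have hp := parallelogram r.1 z1.1
    have hd2 := dvd32_sqNorm (r + z1).1 (r + z1).2 (supp8_add hr hz1s)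
    have n2 := sqNorm_nonneg' (r + z1).1
    have e3 : (r + z1).1 = r.1 + z1.1 := rfl
    rw [e3] at hd2 n2
    rw [e2, hrN] at hp
    have hcase : sqNorm z1.1 = 0 ∨ sqNorm (r.1 + z1.1) = 0 := by omega
    rcases hcase with h0 | h0
    · left
      have : z1 = 0 := Subtype.ext (eq_zero_of_sqNorm _ h0)
      rw [e1, this, add_zero, add_zero]
    · right
      have : r + z1 = 0 := Subtype.ext (eq_zero_of_sqNorm _ h0)
      have hz : z1 = -r := by
        rw [add_comm] at this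
        exact eq_neg_of_add_eq_zero_left this
      rw [e1, hz]
      abel
  · exfalso
    obtain ⟨w, hw⟩ : ∃ w : Lam, w = r + UL := ⟨_, rfl⟩
    have hws : Supp8 w.1 := by
      rw [hw]
      exact supp8_add hr supp8_UL
    have hwN : sqNorm w.1 = 64 := by
      have : w.1 = r.1 + UL.1 := by rw [hw]; rfl
      rw [this, sqNorm_add', hrN, sqNorm_UL, UL_val, hrU]
      norm_num
    have e1 : g • r = w + z1 + z1 := by
      rw [hgr, hz1, hw]
      module
    have e2 : sqNorm (w.1 + z1.1 + z1.1) = 32 := by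
      have : (g • r).1 = w.1 + z1.1 + z1.1 := by rw [e1]; rfl
      rw [← this]
      exact hN
    have hp := parallelogram w.1 z1.1
    have hd2 := dvd32_sqNorm (w + z1).1 (w + z1).2 (supp8_add hws hz1s)
    have n2 := sqNorm_nonneg' (w + z1).1
    have e3 : (w + z1).1 = w.1 + z1.1 := rfl
    rw [e3] at hd2 n2
    rw [e2, hwN] at hp
    omega

theorem sign_link {g : ↥Co0} (r r' : Lam) (hd : dotInt r.1 r'.1 ≠ 0)
    (h : g • r = r ∨ g • r = -r) (h' : g • r' = r' ∨ g • r' = -r') :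
    (g • r = r ↔ g • r' = r') := by
  have hm : dotInt (g • r).1 (g • r').1 = dotInt r.1 r'.1 := dot_map g.1 g.2 r r'
  constructor
  · intro hr
    rcases h' with h' | h'
    · exact h'
    · exfalso
      rw [hr, h'] at hm
      have : dotInt r.1 (-r').1 = -dotInt r.1 r'.1 := dotInt_neg_right r.1 r'.1
      rw [this] at hm
      omega
  · intro hr'
    rcases h with h | h
    · exact h
    · exfalso
      rw [hr', h] at hm
      have : dotInt (-r).1 r'.1 = -dotInt r.1 r'.1 := by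
        rw [dotInt_comm', dotInt_comm' r.1]
        exact dotInt_neg_right r'.1 r.1
      rw [this] at hm
      omega

/-! ### eight norm 32 vectors -/

def sL : List (List ℤ) := [
  [-4, 0, 0, 0, 0, 0, 0, 0, 0, 0, 0, 0, 0, 0, 0, 0, 0, 0, 0, 0, 0, 0, 0, 4],
  [-2, -2, 2, 2, 0, 2, 0, 0, 0, 0, 0, 0, 0, 0, 2, 0, 0, 2, 0, 0, 0, 0, 0, 2],
  [0, 4, -4, 0, 0, 0, 0, 0, 0, 0, 0, 0, 0, 0, 0, 0, 0, 0, 0, 0, 0, 0, 0, 0],
  [0, 0, 4, -4, 0, 0, 0, 0, 0, 0, 0, 0, 0, 0, 0, 0, 0, 0, 0, 0, 0, 0, 0, 0],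
  [0, 0, 0, 4, 0, -4, 0, 0, 0, 0, 0, 0, 0, 0, 0, 0, 0, 0, 0, 0, 0, 0, 0, 0],
  [0, 0, 0, 0, 0, 4, 0, 0, 0, 0, 0, 0, 0, 0, -4, 0, 0, 0, 0, 0, 0, 0, 0, 0],
  [0, 0, 0, 0, 0, 0, 0, 0, 0, 0, 0, 0, 0, 0, 4, 0, 0, -4, 0, 0, 0, 0, 0, 0],
  [0, 0, 0, 0, 0, 4, 0, 0, 0, 0, 0, 0, 0, 0, 4, 0, 0, 0, 0, 0, 0, 0, 0, 0]]

def sM : List ℕ := [0, 8536111, 0, 0, 0, 0, 0, 0]

def sV (k : Fin 8) : GolayPt → ℤ := vecL (sL.getD k.val [])

theorem sV_cert : ∀ k : Fin 8, LeechCert (sV k) (sM.getD k.val 0) := by decide +kernel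

def sE (k : Fin 8) : Lam := ⟨sV k, mem_of_cert _ _ (sV_cert k)⟩

theorem sV_supp : ∀ k : Fin 8, Supp8 (sV k) := by decide +kernel

theorem sV_U : ∀ k : Fin 8, dotInt (sV k) vecU = 0 := by decide +kernel

theorem sV_norm : ∀ k : Fin 8, sqNorm (sV k) = 32 := by decide +kernel

theorem sV_chain : ∀ k : Fin 7, dotInt (sV k.castSucc) (sV k.succ) ≠ 0 := by decide +kernel

/-- All eight vectors are fixed, or all are negated. -/
theorem all_same {g : ↥Co0} (hg : g ∈ C0) (h1 : phiM g = 1) :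
    (∀ k : Fin 8, g • sE k = sE k) ∨ (∀ k : Fin 8, g • sE k = -sE k) := by
  have hk : ∀ k : Fin 8, g • sE k = sE k ∨ g • sE k = -sE k := fun k =>
    root_pm hg h1 (sE k) (sV_supp k) (sV_U k) (sV_norm k)
  have link : ∀ k : Fin 7, (g • sE k.castSucc = sE k.castSucc ↔ g • sE k.succ = sE k.succ) :=
    fun k => sign_link _ _ (sV_chain k) (hk _) (hk _)
  have all_iff : ∀ k : Fin 8, (g • sE k = sE k ↔ g • sE 0 = sE 0) := by
    intro k
    induction k using Fin.induction with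
    | zero => exact Iff.rfl
    | succ k ih => exact (link k).symm.trans ih
  by_cases hp : g • sE 0 = sE 0
  · exact Or.inl (fun k => (all_iff k).mpr hp)
  · exact Or.inr (fun k => (hk k).resolve_left (fun h => hp ((all_iff k).mp h)))

/-! ### the vectors `8 e_p` for `p` in the octad -/

def cfL : List (List ℤ) := [
  [-1, 0, 0, 0, 0, 0, 0, 0],
  [0, 0, 2, 2, 2, 1, 0, 1],
  [0, 0, 0, 2, 2, 1, 0, 1],
  [0, 0, 0, 0, 2, 1, 0, 1],
  [0, 0, 0, 0, 0, 0, 0, 0],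
  [0, 0, 0, 0, 0, 1, 0, 1],
  [0, 0, 0, 0, 0, 0, 0, 0],
  [0, 0, 0, 0, 0, 0, 0, 0],
  [0, 0, 0, 0, 0, 0, 0, 0],
  [0, 0, 0, 0, 0, 0, 0, 0],
  [0, 0, 0, 0, 0, 0, 0, 0],
  [0, 0, 0, 0, 0, 0, 0, 0],
  [0, 0, 0, 0, 0, 0, 0, 0],
  [0, 0, 0, 0, 0, 0, 0, 0],
  [0, 0, 0, 0, 0, -1, 0, 1],
  [0, 0, 0, 0, 0, 0, 0, 0],
  [0, 0, 0, 0, 0, 0, 0, 0],
  [0, 0, 0, 0, 0, -1, -2, 1],
  [0, 0, 0, 0, 0, 0, 0, 0],
  [0, 0, 0, 0, 0, 0, 0, 0],
  [0, 0, 0, 0, 0, 0, 0, 0],
  [0, 0, 0, 0, 0, 0, 0, 0],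
  [0, 0, 0, 0, 0, 0, 0, 0],
  [1, 0, 0, 0, 0, 0, 0, 0]]

def cuL : List ℤ := [1, 0, 0, 0, 0, 0, 0, 0, 0, 0, 0, 0, 0, 0, 0, 0, 0, 0, 0, 0, 0, 0, 0, 1]

def cf (p : GolayPt) (k : Fin 8) : ℤ := (cfL.getD (enc p) []).getD k.val 0

def cu (p : GolayPt) : ℤ := cuL.getD (enc p) 0

theorem e8_expand_fun : ∀ p q : GolayPt, inO p →
    vec8 p q = ∑ k : Fin 8, cf p k * sV k q + cu p * vecU q := by decide +kernel

theorem e8_expand (p : GolayPt) (hp : inO p) : e8 p = ∑ k : Fin 8, cf p k • sE k + cu p • UL := by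
  apply Subtype.ext
  funext q
  show vec8 p q = ((∑ k : Fin 8, cf p k • sE k : Lam) : GolayPt → ℤ) q + ((cu p • UL : Lam) : GolayPt → ℤ) q
  rw [val_sum_smul', AddSubgroup.coe_zsmul, Pi.smul_apply, smul_eq_mul, UL_val]
  exact e8_expand_fun p q hp

theorem smul_e8_pos {g : ↥Co0} (hpos : ∀ k : Fin 8, g • sE k = sE k) (hU : g • UL = UL)
    (p : GolayPt) (hp : inO p) : g • e8 p = e8 p := by
  rw [e8_expand p hp, smul_add', smul_sum_smul', smul_zsmul', hU]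
  congr 1
  apply Finset.sum_congr rfl
  intro k _
  rw [hpos k]

theorem smul_e8_neg {g : ↥Co0} (hneg : ∀ k : Fin 8, g • sE k = -sE k) (hU : g • UL = UL)
    (p : GolayPt) (hp : inO p) : g • e8 p = -e8 p + (2 * cu p) • UL := by
  have h1 : g • e8 p = -(∑ k : Fin 8, cf p k • sE k) + cu p • UL := by
    rw [e8_expand p hp, smul_add', smul_sum_smul', smul_zsmul', hU]
    congr 1
    rw [← Finset.sum_neg_distrib]
    apply Finset.sum_congr rfl
    intro k _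
    rw [hneg k, smul_neg]
  rw [h1]
  conv_rhs => rw [e8_expand p hp]
  module

end Cfsg.Agent.Lib.Helper92_E8d
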