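import Cfsg.Agent.Lib.Helper92_E8d

/-!
The kernel of the homomorphism `phi` of `Helper92_E8c` consists of the monomial elements
`eps u * perm σ` with `σ` fixing the standard octad pointwise and `u` a code word disjoint from the
octad.
-/

set_option autoImplicit false
set_option linter.constructorNameAsVariable false
open Cfsg
open scoped Pointwise

namespace Cfsg.Agent.Lib.Helper92_E8e

open Cfsg.Agent.Lib.Helper7_M24 Cfsg.Agent.Lib.Helper7_Leech Cfsg.Agent.Lib.Helper92_Monomial
  Cfsg.Agent.Lib.Helper92_Co0Order Cfsg.Agent.Lib.Helper7_Mono Cfsg.Agent.Lib.Helper92_E8a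
  Cfsg.Agent.Lib.Helper92_E8b Cfsg.Agent.Lib.Helper92_E8c Cfsg.Agent.Lib.Helper92_E8d
  Cfsg.Agent.Lib.Helper7_Bits Cfsg.Agent.Lib.Helper7_Code Cfsg.Agent.Lib.Helper7_Base
open Cfsg.Agent.S5546 (Lam vec8 e8)
open Cfsg.Agent.S1571 (vec8_apply)
open Cfsg.Spor (vecU leechU)
open Cfsg.Agent.S0381 (K stdOct mem_K_iff exists_elt)
open Cfsg.Agent.S0364 (octMask coOct_cases inCode_octMask)
open Cfsg.Agent.Lib.Helper92_Co2Cent (perm_e8 mB PB gB_zero)
open Cfsg.Agent.Lib.Helper92_FixMono (P_of_fix_e8)

/-! ### images of `8 e_i` under monomial elements -/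

theorem mono_e8_apply (σ : ↥M24) (u : ↥golayCode) (i : GolayPt) :
    (((eps u * perm σ) • e8 i : Lam) : GolayPt → ℤ) (σ.1 i) =
      if σ.1 i ∈ support₂ u.1 then -8 else 8 := by
  rw [mul_smul', eps_apply]
  unfold signFlip
  rw [perm_apply, permVec_apply, Equiv.symm_apply_apply]
  show (if σ.1 i ∈ support₂ u.1 then -(vec8 i i) else vec8 i i) = _
  rw [vec8_apply, if_pos rfl]

theorem fix_of_pos (σ : ↥M24) (u : ↥golayCode) (i : GolayPt)
    (h : (eps u * perm σ) • e8 i = e8 i) : σ.1 i = i ∧ i ∉ support₂ u.1 := by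
  have h1 := mono_e8_apply σ u i
  rw [h] at h1
  change vec8 i (σ.1 i) = _ at h1
  rw [vec8_apply] at h1
  by_cases hi : σ.1 i = i
  · refine ⟨hi, ?_⟩
    rw [if_pos hi, hi] at h1
    intro hm
    rw [if_pos hm] at h1
    omega
  · rw [if_neg hi] at h1
    split_ifs at h1 <;> omega

theorem fix_of_neg (σ : ↥M24) (u : ↥golayCode) (i : GolayPt)
    (h : (eps u * perm σ) • e8 i = -e8 i) : σ.1 i = i := by
  have h1 := mono_e8_apply σ u i
  rw [h] at h1
  change -(vec8 i (σ.1 i)) = _ at h1
  rw [vec8_apply] at h1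
  by_contra hi
  rw [if_neg hi] at h1
  split_ifs at h1 <;> omega

theorem image_of_eq (σ : ↥M24) (u : ↥golayCode) (i j : GolayPt)
    (h : (eps u * perm σ) • e8 i = e8 j) : σ.1 i = j := by
  have h1 := mono_e8_apply σ u i
  rw [h] at h1
  change vec8 j (σ.1 i) = _ at h1
  rw [vec8_apply] at h1
  by_contra hi
  rw [if_neg hi] at h1
  split_ifs at h1 <;> omega

/-! ### a permutation in `M24` fixing six points of the octad fixes the other two -/

/-- The mask of `{1, 2, 3, 5, 14, 17}`. -/
def six : ℕ := 147502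

/-- The mask of `{1, 2, 3, 4, 5, 14, 17}`. -/
def seven : ℕ := 147518

def cert6 : List (ℕ × ℕ × ℕ) :=
  [(22, 6832158, 4415544), (23, 13811730, 8536111), (20, 13811730, 5652556),
   (19, 10305542, 12222476), (18, 10305542, 6053905), (15, 9347075, 2605066),
   (13, 9347075, 11952160), (0, 9347075, 1302533), (16, 1302533, 10305542),
   (21, 11100169, 2605066), (6, 15515712, 6447171), (7, 14254209, 5709954),
   (8, 4038912, 11731203), (9, 8077824, 6857221), (10, 7767041, 16262146),
   (11, 14919680, 7145475), (12, 13062145, 4845570)]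

theorem cert6_ok : checkBase seven cert6 = true := by decide +kernel

theorem six_sub : ∀ p : GolayPt, six.testBit (enc p) = true → inO p := by decide

theorem seven_cases : ∀ p : GolayPt, seven.testBit (enc p) = true →
    six.testBit (enc p) = true ∨ p = dec 4 := by decide

theorem fixO_of_fix6 (σ : Equiv.Perm GolayPt) (hσ : σ ∈ M24)
    (h6 : ∀ p ∈ maskSet six, σ p = p) : σ ∈ K stdOct := by
  have hS : σ • maskSet octMask = maskSet octMask := by
    apply smul_support_eq_of_small σ hσ (maskSet six) h6 _ (toWord_mem_of_inCode inCode_octMask)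
    have : support₂ (toWord octMask) \ maskSet six = maskSet (octMask &&& coMask six) :=
      (maskSet_and_coMask octMask six).symm
    rw [this, maskSet, card_support₂_toWord]
    decide
  have h4 : octMask.testBit (enc (σ (dec 4))) = false := by
    by_contra hcon
    rw [Bool.not_eq_false] at hcon
    have hm : σ (dec 4) ∈ σ • maskSet octMask := by
      rw [hS]
      exact (mem_maskSet _ _).mpr hcon
    rw [Finset.mem_smul_finset] at hm
    obtain ⟨q, hq, hqe⟩ := hm
    have : q = dec 4 := σ.injective hqe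
    rw [this, mem_maskSet, Cfsg.Agent.S0381.four_not_oct] at hq
    exact Bool.false_ne_true hq
  obtain ⟨k, hk, hk4, _⟩ := exists_elt (enc (σ (dec 4))) (coOct_cases _ h4)
  rw [dec_enc] at hk4
  have hkK := (mem_K_iff _ _).mp hk
  have h1 : k⁻¹ * σ = 1 := by
    apply checkBase_sound (k⁻¹ * σ) (M24.mul_mem (M24.inv_mem hkK.1) hσ) cert6 seven _ cert6_ok
    intro p hp
    rw [mem_maskSet] at hp
    rw [Equiv.Perm.mul_apply, Equiv.Perm.inv_eq_iff_eq]
    rcases seven_cases p hp with hp6 | rfl
    · rw [h6 p ((mem_maskSet _ _).mpr hp6), hkK.2 p ((mem_maskSet _ _).mpr (six_sub p hp6))]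
    · exact hk4.symm
  have : σ = k := by
    rw [inv_mul_eq_one] at h1
    exact h1.symm
  rw [this]
  exact hk

/-! ### the kernel -/

theorem cu_six : ∀ p : GolayPt, six.testBit (enc p) = true → cu p = 0 := by decide

theorem neg_e8_add : ∀ q : GolayPt, -(vec8 none q) + 2 * cu none * vecU q = vec8 (some 0) q := by
  decide +kernel

/-- The elements of the kernel are monomial. -/
theorem ker_mono {g : ↥Co0} (hg : g ∈ C0) (h1 : phiM g = 1) :
    ∃ (σ : ↥M24) (u : ↥golayCode), g = eps u * perm σ ∧ (∀ p, inO p → σ.1 p = p) ∧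
      (∀ p, inO p → p ∉ support₂ u.1) := by
  have hU : g • UL = UL := ((mem_C0 g).mp hg).2
  rcases all_same hg h1 with hpos | hneg
  · have hfix : ∀ p, inO p → g • e8 p = e8 p := smul_e8_pos hpos hU
    have hN : g ∈ N := (mem_N_iff g).mpr (P_of_fix_e8 g none (hfix none (by decide)))
    obtain ⟨σ, u, rfl⟩ := exists_of_mem_N hN
    exact ⟨σ, u, rfl, fun p hp => (fix_of_pos σ u p (hfix p hp)).1,
      fun p hp => (fix_of_pos σ u p (hfix p hp)).2⟩
  · exfalso
    have hneg' := smul_e8_neg hneg hU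
    have h0 : g • e8 none = e8 (some 0) := by
      rw [hneg' none (by decide)]
      apply Subtype.ext
      funext q
      show -(vec8 none q) + (((2 * cu none) • UL : Lam) : GolayPt → ℤ) q = vec8 (some 0) q
      rw [AddSubgroup.coe_zsmul, Pi.smul_apply, smul_eq_mul, UL_val]
      exact neg_e8_add q
    have h6 : ∀ p, six.testBit (enc p) = true → g • e8 p = -e8 p := by
      intro p hp
      rw [hneg' p (six_sub p hp), cu_six p hp, mul_zero, zero_smul, add_zero]
    have hN : g ∈ N := by
      have hPB : (PB * g) • e8 none = e8 none := by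
        rw [mul_smul', h0]
        show perm mB • e8 (some 0) = _
        rw [perm_e8]
        show e8 (Cfsg.Agent.Lib.Helper93_OutM24.gB (some 0)) = _
        rw [gB_zero]
      have h2 := (mem_N_iff (PB * g)).mpr (P_of_fix_e8 _ none hPB)
      have h3 : g = PB⁻¹ * (PB * g) := by group
      rw [h3]
      exact N.mul_mem (N.inv_mem (perm_mem_N mB)) h2
    obtain ⟨σ, u, rfl⟩ := exists_of_mem_N hN
    have hs0 : σ.1 none = some 0 := image_of_eq σ u none (some 0) h0
    have hs6 : ∀ p ∈ maskSet six, σ.1 p = p := fun p hp =>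
      fix_of_neg σ u p (h6 p ((mem_maskSet _ _).mp hp))
    have hK := fixO_of_fix6 σ.1 σ.2 hs6
    have hfix := ((mem_K_iff _ _).mp hK).2 none ((mem_maskSet _ _).mpr (by decide))
    rw [hs0] at hfix
    exact absurd hfix (by decide)

/-! ### the converse -/

theorem symm_inO {σ : ↥M24} (hσ : ∀ p, inO p → σ.1 p = p) (j : GolayPt) :
    inO (σ.1.symm j) ↔ inO j := by
  constructor
  · intro h
    have := hσ _ h
    rw [Equiv.apply_symm_apply] at this
    rw [← this] at h
    exact h
  · intro h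
    have : σ.1.symm j = j := by rw [Equiv.symm_apply_eq, hσ j h]
    rw [this]
    exact h

theorem mono_fix {σ : ↥M24} {u : ↥golayCode} (hσ : ∀ p, inO p → σ.1 p = p)
    (hu : ∀ p, inO p → p ∉ support₂ u.1) (x : Lam) (hx : Supp8 x.1) :
    (eps u * perm σ) • x = x := by
  apply Subtype.ext
  funext j
  rw [mul_smul', eps_apply]
  by_cases hj : inO j
  · rw [signFlip_of_notMem (hu j hj), perm_apply, permVec_apply]
    have : σ.1.symm j = j := by rw [Equiv.symm_apply_eq, hσ j hj]
    rw [this]
  · have hj' : ¬ inO (σ.1.symm j) := fun h => hj ((symm_inO hσ j).mp h)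
    have h0 : ((perm σ • x : Lam) : GolayPt → ℤ) j = 0 := by
      rw [perm_apply, permVec_apply]
      exact hx _ hj'
    unfold signFlip
    rw [h0, hx j hj]
    split_ifs <;> simp

theorem act_uT {σ : ↥M24} (hσ : ∀ p, inO p → σ.1 p = p) : act σ uT = uT := by
  apply Subtype.ext
  funext p
  show permWord σ.1 (toWord (fullMask ^^^ octMask)) p = toWord (fullMask ^^^ octMask) p
  rw [permWord_apply, toWord_apply, toWord_apply]
  by_cases hp : inO p
  · have h1 : ¬ ((fullMask ^^^ octMask).testBit (enc p) = true) := fun h => (mem_uT p).mp h hp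
    have h2 : ¬ ((fullMask ^^^ octMask).testBit (enc (σ.1.symm p)) = true) :=
      fun h => (mem_uT _).mp h ((symm_inO hσ p).mpr hp)
    rw [if_neg h1, if_neg h2]
  · have h1 : (fullMask ^^^ octMask).testBit (enc p) = true := (mem_uT p).mpr hp
    have h2 : (fullMask ^^^ octMask).testBit (enc (σ.1.symm p)) = true :=
      (mem_uT _).mpr (fun h => hp ((symm_inO hσ p).mp h))
    rw [if_pos h1, if_pos h2]

theorem mono_mem_C0 {σ : ↥M24} {u : ↥golayCode} (hσ : ∀ p, inO p → σ.1 p = p)
    (hu : ∀ p, inO p → p ∉ support₂ u.1) : eps u * perm σ ∈ C0 := by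
  rw [mem_C0]
  refine ⟨?_, mono_fix hσ hu UL supp8_UL⟩
  show eps uT * (eps u * perm σ) = eps u * perm σ * eps uT
  rw [mul_assoc (eps u), perm_mul_eps, act_uT hσ, ← mul_assoc, ← mul_assoc, eps_comm]

theorem mono_phiM {σ : ↥M24} {u : ↥golayCode} (hσ : ∀ p, inO p → σ.1 p = p)
    (hu : ∀ p, inO p → p ∉ support₂ u.1) : phiM (eps u * perm σ) = 1 := by
  have hA : Amat (eps u * perm σ) = Amat 1 := by
    funext i l
    show coef ((eps u * perm σ) • bE l).1 i = coef ((1 : ↥Co0) • bE l).1 i
    rw [mono_fix hσ hu (bE l) (bV_supp l), one_smul]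
  rw [← phiM_one]
  funext a b
  show ((Amat (eps u * perm σ) (Sum.inl a) (Sum.inl b) : ℤ) : ZMod 2) =
    ((Amat 1 (Sum.inl a) (Sum.inl b) : ℤ) : ZMod 2)
  rw [hA]

end Cfsg.Agent.Lib.Helper92_E8e
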