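import Cfsg.Agent.Lib.Helper92_E8g
import Cfsg.Agent.Lib.Helper63_LESQuot

/-!
The kernel of the homomorphism `phi` of `Helper92_E8c` is an extraspecial group of order `2^9`:
its elements are the products `eps u * perm σ` with `σ` one of the 16 elements of `M24` fixing the
standard octad pointwise and `u` one of the 32 code words disjoint from the octad.
-/

set_option autoImplicit false
set_option linter.constructorNameAsVariable false
open Cfsg

namespace Cfsg.Agent.Lib.Helper92_E8f

open Cfsg.Agent.Lib.Helper7_M24 Cfsg.Agent.Lib.Helper7_Leech Cfsg.Agent.Lib.Helper92_Monomial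
  Cfsg.Agent.Lib.Helper92_Co0Order Cfsg.Agent.Lib.Helper7_Mono Cfsg.Agent.Lib.Helper92_E8a
  Cfsg.Agent.Lib.Helper92_E8b Cfsg.Agent.Lib.Helper92_E8c Cfsg.Agent.Lib.Helper92_E8d
  Cfsg.Agent.Lib.Helper92_E8e Cfsg.Agent.Lib.Helper92_E8g
  Cfsg.Agent.Lib.Helper7_Bits Cfsg.Agent.Lib.Helper7_Perm Cfsg.Agent.Lib.Helper7_Code
  Cfsg.Agent.Lib.Helper7_Base
open Cfsg.Agent.S5546 (Lam)
open Cfsg.Agent.S0381 (K stdOct mem_K_iff table goodEntry checkTable checkTable_true oct_list
  eq_of_image_eq image_four_not_oct sq_eq_one_std card_std)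
open Cfsg.Agent.S0364 (octMask coOct_cases)

/-! ### masks -/

theorem toWord_inj {a b : ℕ} (ha : a < 2 ^ 24) (hb : b < 2 ^ 24) (h : toWord a = toWord b) :
    a = b := by
  apply Nat.eq_of_testBit_eq
  intro i
  by_cases hi : i < 24
  · have h1 := congrFun h (dec i)
    rw [toWord_apply, toWord_apply, enc_dec i hi] at h1
    cases ha' : a.testBit i <;> cases hb' : b.testBit i <;> simp_all
  · have h1 : a < 2 ^ i := lt_of_lt_of_le ha (Nat.pow_le_pow_right (by norm_num) (by omega))
    have h2 : b < 2 ^ i := lt_of_lt_of_le hb (Nat.pow_le_pow_right (by norm_num) (by omega))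
    rw [Nat.testBit_lt_two_pow h1, Nat.testBit_lt_two_pow h2]

theorem applyMask_lt (l : List ℕ) (w : ℕ) : applyMask l w < 2 ^ 24 := by
  unfold applyMask
  exact Nat.ofBits_lt_two_pow _

/-- The masks of the 32 code words disjoint from the octad. -/
def c16 : List ℕ :=
  [0, 337856, 628112, 832080, 1161408, 1351424, 1584464, 1903248, 2141072, 2460752, 2702848,
   2890176, 3216208, 3421328, 3704512, 4038912, 4202192, 4536592, 4819776, 5024896, 5350928,
   5538256, 5780352, 6100032, 6337856, 6656640, 6889680, 7079696, 7409024, 7612992, 7903248,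
   8241104]

/-- The mask of the complement of the octad. -/
def uTm : ℕ := 8241104

theorem uTm_eq : fullMask ^^^ octMask = uTm := by decide

theorem c16_spec : codeMasks.all (fun n => (n &&& octMask != 0) || c16.contains n) = true := by
  decide +kernel

theorem c16_good :
    c16.all (fun n => inCode n && (n &&& octMask == 0) && decide (n < 2 ^ 24)) = true := by
  decide +kernel

/-- The condition on permutations. -/
def KO (σ : ↥M24) : Prop := ∀ p, inO p → σ.1 p = p

/-- The condition on code words. -/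
def CO (u : ↥golayCode) : Prop := ∀ p, inO p → p ∉ support₂ u.1

theorem octMask_lt : octMask < 2 ^ 24 := by decide

theorem mask_of_CO (u : ↥golayCode) (hu : CO u) : ∃ n ∈ c16, u.1 = toWord n := by
  obtain ⟨n, hn, hun⟩ := (mem_golayCode_iff u.1).mp u.2
  have h0 : n &&& octMask = 0 := by
    apply Nat.eq_of_testBit_eq
    intro i
    rw [Nat.testBit_and, Nat.zero_testBit]
    by_cases hi : i < 24
    · by_cases ho : octMask.testBit i = true
      · have h1 : inO (dec i) := by
          unfold inO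
          rw [enc_dec i hi]
          exact ho
        have h2 := hu (dec i) h1
        rw [hun, mem_support₂_toWord, enc_dec i hi] at h2
        rw [Bool.not_eq_true] at h2
        rw [h2, Bool.false_and]
      · rw [Bool.not_eq_true] at ho
        rw [ho, Bool.and_false]
    · have h1 : octMask < 2 ^ i :=
        lt_of_lt_of_le octMask_lt (Nat.pow_le_pow_right (by norm_num) (by omega))
      rw [Nat.testBit_lt_two_pow h1, Bool.and_false]
  have h1 := c16_spec
  rw [List.all_eq_true] at h1
  have h2 := h1 n hn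
  rw [h0] at h2
  simp only [bne_self_eq_false, Bool.false_or, List.contains_eq_mem, decide_eq_true_eq] at h2
  exact ⟨n, h2, hun⟩

theorem c16_props {n : ℕ} (hn : n ∈ c16) : inCode n = true ∧ n &&& octMask = 0 ∧ n < 2 ^ 24 := by
  have h1 := c16_good
  rw [List.all_eq_true] at h1
  have h2 := h1 n hn
  simp only [Bool.and_eq_true, beq_iff_eq, decide_eq_true_eq] at h2
  exact ⟨h2.1.1, h2.1.2, h2.2⟩

/-- The code word of a mask in the list. -/
def wordOf (n : ℕ) (hn : n ∈ c16) : ↥golayCode :=
  ⟨toWord n, toWord_mem_of_inCode (c16_props hn).1⟩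

theorem CO_wordOf (n : ℕ) (hn : n ∈ c16) : CO (wordOf n hn) := by
  intro p hp
  show p ∉ support₂ (toWord n)
  rw [mem_support₂_toWord]
  have h1 := congrArg (fun m => m.testBit (enc p)) (c16_props hn).2.1
  simp only [Nat.testBit_and, Nat.zero_testBit] at h1
  unfold inO at hp
  rw [hp, Bool.and_true] at h1
  rw [h1]
  exact Bool.false_ne_true

/-! ### the 16 permutations -/

theorem table_good : table.all (fun e => checkM24 e.2 e.2 &&
    ([0, 1, 2, 3, 5, 14, 17, 23].all fun i => e.2.getD i 0 == i)) = true := by decide +kernel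

theorem entry_props {e : ℕ × List ℕ} (he : e ∈ table) : checkM24 e.2 e.2 = true ∧
    ∀ i ∈ [0, 1, 2, 3, 5, 14, 17, 23], e.2.getD i 0 = i := by
  have h1 := table_good
  rw [List.all_eq_true] at h1
  have h2 := h1 e he
  simp only [Bool.and_eq_true, List.all_eq_true, beq_iff_eq] at h2
  exact h2

theorem KO_iff (σ : ↥M24) : KO σ ↔ σ.1 ∈ K stdOct := by
  rw [mem_K_iff]
  constructor
  · intro h
    refine ⟨σ.2, fun p hp => h p ?_⟩
    exact (mem_maskSet _ _).mp hp
  · intro h p hp
    exact h.2 p ((mem_maskSet _ _).mpr hp)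

theorem KO_entry {e : ℕ × List ℕ} (he : e ∈ table) : KO (mkM24 e.2 e.2 (entry_props he).1) := by
  intro p hp
  rw [mkM24_apply]
  unfold listFun
  rw [(entry_props he).2 _ (oct_list p hp), dec_enc]

theorem entry_of_KO (σ : ↥M24) (hσ : KO σ) :
    ∃ e, ∃ he : e ∈ table, σ = mkM24 e.2 e.2 (entry_props he).1 := by
  have hK := (KO_iff σ).mp hσ
  have hc := coOct_cases _ (image_four_not_oct σ.1 hK)
  have h := checkTable_true
  unfold checkTable at h
  rw [List.all_eq_true] at h
  have h2 := h _ hc
  rw [List.any_eq_true] at h2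
  obtain ⟨e, he, hg⟩ := h2
  unfold goodEntry at hg
  simp only [Bool.and_eq_true, beq_iff_eq, List.all_eq_true] at hg
  obtain ⟨⟨⟨_, _⟩, _⟩, h4⟩ := hg
  refine ⟨e, he, ?_⟩
  apply Subtype.ext
  apply eq_of_image_eq σ.1 _ hK ((KO_iff _).mp (KO_entry he))
  rw [mkM24_apply]
  unfold listFun
  rw [enc_dec 4 (by norm_num), h4, dec_enc]

theorem act_entry {e : ℕ × List ℕ} (he : e ∈ table) (u : ↥golayCode) (n : ℕ)
    (hun : u.1 = toWord n) :
    (act (mkM24 e.2 e.2 (entry_props he).1) u).1 = toWord (applyMask e.2 n) := by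
  rw [act_coe, hun]
  exact (toWord_applyMask e.2 e.2 (checkM24_parts (entry_props he).1).1
    (checkM24_parts (entry_props he).1).2.1 n).symm

/-! ### three checks -/

theorem E1 : table.all (fun e => c16.all (fun n =>
    (n ^^^ applyMask e.2 n == 0) || (n ^^^ applyMask e.2 n == uTm))) = true := by
  decide +kernel

theorem E2 : table.all (fun e => !(c16.all fun n => applyMask e.2 n == n) ||
    (e.2 == List.range 24)) = true := by
  decide +kernel

theorem E3 : c16.all (fun n => (n == 0) || (n == uTm) ||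
    !(table.all fun e => applyMask e.2 n == n)) = true := by
  decide +kernel

/-! ### structure of the two sets -/

theorem KO_one : KO 1 := fun _ _ => rfl

theorem KO_mul {σ τ : ↥M24} (hσ : KO σ) (hτ : KO τ) : KO (σ * τ) := by
  intro p hp
  show σ.1 (τ.1 p) = p
  rw [hτ p hp, hσ p hp]

theorem KO_sq {σ : ↥M24} (hσ : KO σ) : σ * σ = 1 :=
  Subtype.ext (sq_eq_one_std σ.1 ((KO_iff σ).mp hσ))

theorem KO_comm {σ τ : ↥M24} (hσ : KO σ) (hτ : KO τ) : σ * τ = τ * σ := by
  have hi : (σ * τ)⁻¹ = σ * τ := inv_eq_of_mul_eq_one_left (KO_sq (KO_mul hσ hτ))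
  have hσi : σ⁻¹ = σ := inv_eq_of_mul_eq_one_left (KO_sq hσ)
  have hτi : τ⁻¹ = τ := inv_eq_of_mul_eq_one_left (KO_sq hτ)
  rw [← hi, mul_inv_rev, hσi, hτi]

theorem CO_zero : CO 0 := by
  intro p _
  show p ∉ support₂ (0 : GolayPt → ZMod 2)
  rw [support₂_zero]
  exact Finset.notMem_empty p

theorem CO_uT : CO uT := fun p hp h => (mem_supp_uT p).mp h hp

theorem CO_act {σ : ↥M24} {u : ↥golayCode} (hσ : KO σ) (hu : CO u) : CO (act σ u) := by
  intro p hp
  rw [act_coe, mem_support₂, permWord_apply]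
  have : σ.1.symm p = p := by rw [Equiv.symm_apply_eq, hσ p hp]
  rw [this, ← mem_support₂]
  exact hu p hp

theorem act_one (u : ↥golayCode) : act 1 u = u := Subtype.ext (by funext p; rfl)

theorem all_c16 {f : ℕ → Bool} (h : c16.all f = true) {n : ℕ} (hn : n ∈ c16) : f n = true :=
  (List.all_eq_true.mp h) n hn

theorem all_table {f : ℕ × List ℕ → Bool} (h : table.all f = true) {e : ℕ × List ℕ}
    (he : e ∈ table) : f e = true :=
  (List.all_eq_true.mp h) e he

theorem prop1 {σ : ↥M24} {u : ↥golayCode} (hσ : KO σ) (hu : CO u) :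
    u + act σ u = 0 ∨ u + act σ u = uT := by
  obtain ⟨e, he, rfl⟩ := entry_of_KO σ hσ
  obtain ⟨n, hn, hun⟩ := mask_of_CO u hu
  have hx : (u + act (mkM24 e.2 e.2 (entry_props he).1) u).1 = toWord (n ^^^ applyMask e.2 n) := by
    show u.1 + (act (mkM24 e.2 e.2 (entry_props he).1) u).1 = _
    rw [act_entry he u n hun, hun, toWord_xor]
  have h1 := all_c16 (all_table E1 he) hn
  simp only [Bool.or_eq_true, beq_iff_eq] at h1
  rcases h1 with h1 | h1
  · left
    apply Subtype.ext
    rw [hx, h1, toWord_zero]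
    rfl
  · right
    apply Subtype.ext
    rw [hx, h1]
    show toWord uTm = toWord (fullMask ^^^ octMask)
    rw [uTm_eq]

theorem listFun_range : ∀ p : GolayPt, listFun (List.range 24) p = p := by decide

theorem prop2 {σ : ↥M24} (hσ : KO σ) (h : ∀ w, CO w → act σ w = w) : σ = 1 := by
  obtain ⟨e, he, rfl⟩ := entry_of_KO σ hσ
  have h1 := all_table E2 he
  have h2 : (c16.all fun n => applyMask e.2 n == n) = true := by
    rw [List.all_eq_true]
    intro n hn
    rw [beq_iff_eq]
    have h3 := congrArg Subtype.val (h (wordOf n hn) (CO_wordOf n hn))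
    rw [act_entry he (wordOf n hn) n rfl] at h3
    exact toWord_inj (applyMask_lt _ _) (c16_props hn).2.2 h3
  rw [h2] at h1
  simp only [Bool.not_true, Bool.false_or, beq_iff_eq] at h1
  apply Subtype.ext
  apply Equiv.ext
  intro p
  rw [mkM24_apply]
  show listFun e.2 p = p
  rw [h1]
  exact listFun_range p

theorem prop3 {u : ↥golayCode} (hu : CO u) (h : ∀ σ, KO σ → act σ u = u) : u = 0 ∨ u = uT := by
  obtain ⟨n, hn, hun⟩ := mask_of_CO u hu
  have h1 := all_c16 E3 hn
  have h2 : (table.all fun e => applyMask e.2 n == n) = true := by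
    rw [List.all_eq_true]
    intro e he
    rw [beq_iff_eq]
    have h3 := congrArg Subtype.val (h _ (KO_entry he))
    rw [act_entry he u n hun, hun] at h3
    exact toWord_inj (applyMask_lt _ _) (c16_props hn).2.2 h3
  rw [h2] at h1
  simp only [Bool.not_true, Bool.or_false, Bool.or_eq_true, beq_iff_eq] at h1
  rcases h1 with h1 | h1
  · left
    apply Subtype.ext
    rw [hun, h1, toWord_zero]
    rfl
  · right
    apply Subtype.ext
    rw [hun, h1]
    show toWord uTm = toWord (fullMask ^^^ octMask)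
    rw [uTm_eq]

/-! ### products -/

theorem mul_formula (σ τ : ↥M24) (u w : ↥golayCode) :
    (eps u * perm σ) * (eps w * perm τ) = eps (u + act σ w) * perm (σ * τ) := by
  rw [eps_add, perm_mul, mul_assoc (eps u), ← mul_assoc (perm σ), perm_mul_eps]
  simp only [mul_assoc]

theorem uT_add_self : uT + uT = 0 := by
  apply Subtype.ext
  show uT.1 + uT.1 = 0
  exact add_self_word uT.1

/-! ### the kernel -/

/-- The kernel. -/
abbrev R : Type := ↥(phi.ker)

theorem rep (x : R) : ∃ (σ : ↥M24) (u : ↥golayCode), KO σ ∧ CO u ∧ x.1.1 = eps u * perm σ := by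
  have h1 : phiM x.1.1 = 1 := congrArg Subtype.val (MonoidHom.mem_ker.mp x.2)
  obtain ⟨σ, u, h, hσ, hu⟩ := ker_mono x.1.2 h1
  exact ⟨σ, u, hσ, hu, h⟩

/-- The element of the kernel with given components. -/
def mkR (σ : ↥M24) (u : ↥golayCode) (hσ : KO σ) (hu : CO u) : R :=
  ⟨⟨eps u * perm σ, mono_mem_C0 hσ hu⟩, MonoidHom.mem_ker.mpr (Subtype.ext (mono_phiM hσ hu))⟩

theorem ext_R {x y : R} (h : x.1.1 = y.1.1) : x = y := Subtype.ext (Subtype.ext h)

theorem card_KO : Nat.card {σ : ↥M24 // KO σ} = 16 := by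
  rw [← card_std]
  apply Nat.card_congr
  exact
    { toFun := fun σ => ⟨σ.1.1, (KO_iff σ.1).mp σ.2⟩
      invFun := fun g => ⟨⟨g.1, ((mem_K_iff _ _).mp g.2).1⟩, (KO_iff _).mpr g.2⟩
      left_inv := fun _ => rfl
      right_inv := fun _ => rfl }

theorem c16_nodup : ∀ i j : Fin 32, c16.getD i.val 0 = c16.getD j.val 0 → i = j := by decide

theorem c16_mem : ∀ i : Fin 32, c16.getD i.val 0 ∈ c16 := by decide

theorem card_CO : Nat.card {u : ↥golayCode // CO u} = 32 := by
  let f : Fin 32 → {u : ↥golayCode // CO u} := fun i =>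
    ⟨wordOf _ (c16_mem i), CO_wordOf _ (c16_mem i)⟩
  have hinj : Function.Injective f := by
    intro i j hij
    have h1 : toWord (c16.getD i.val 0) = toWord (c16.getD j.val 0) :=
      congrArg (fun x => x.1.1) hij
    exact c16_nodup i j (toWord_inj (c16_props (c16_mem i)).2.2 (c16_props (c16_mem j)).2.2 h1)
  have hsurj : Function.Surjective f := by
    rintro ⟨u, hu⟩
    obtain ⟨n, hn, hun⟩ := mask_of_CO u hu
    obtain ⟨i, hi⟩ : ∃ i : Fin 32, c16.getD i.val 0 = n := by
      obtain ⟨k, hk, hkn⟩ := List.mem_iff_getElem.mp hn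
      exact ⟨⟨k, hk⟩, by rw [List.getD_eq_getElem _ _ hk]; exact hkn⟩
    refine ⟨i, ?_⟩
    apply Subtype.ext
    apply Subtype.ext
    show toWord (c16.getD i.val 0) = u.1
    rw [hi, hun]
  rw [← Nat.card_congr (Equiv.ofBijective f ⟨hinj, hsurj⟩), Nat.card_eq_fintype_card,
    Fintype.card_fin]

theorem card_R : Nat.card R = 2 ^ 9 := by
  let f : {σ : ↥M24 // KO σ} × {u : ↥golayCode // CO u} → R :=
    fun p => mkR p.1.1 p.2.1 p.1.2 p.2.2
  have hinj : Function.Injective f := by
    rintro ⟨⟨σ, hσ⟩, ⟨u, hu⟩⟩ ⟨⟨τ, hτ⟩, ⟨w, hw⟩⟩ h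
    have h1 : eps u * perm σ = eps w * perm τ := congrArg (fun x : R => x.1.1) h
    obtain ⟨h2, h3⟩ := mono_injective h1
    subst h2
    subst h3
    rfl
  have hsurj : Function.Surjective f := by
    intro x
    obtain ⟨σ, u, hσ, hu, hx⟩ := rep x
    exact ⟨⟨⟨σ, hσ⟩, ⟨u, hu⟩⟩, ext_R hx.symm⟩
  rw [← Nat.card_congr (Equiv.ofBijective f ⟨hinj, hsurj⟩), Nat.card_prod, card_KO, card_CO]
  norm_num

/-! ### the kernel is extraspecial -/

/-- The central involution. -/
def zeta : R := mkR 1 uT KO_one CO_uT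

theorem zeta_val : zeta.1.1 = tE := by
  show eps uT * perm 1 = eps uT
  rw [perm_one, mul_one]

theorem uT_ne_zero : uT ≠ 0 := by
  intro h
  have h1 : uT.1 (some 4) = (0 : GolayPt → ZMod 2) (some 4) := congrFun (congrArg Subtype.val h) (some 4)
  have h2 : (some 4 : GolayPt) ∈ support₂ uT.1 := (mem_supp_uT _).mpr (by decide)
  rw [mem_support₂, h1] at h2
  exact zero_ne_one h2

theorem tE_ne_one : tE ≠ 1 := by
  intro h
  have h1 : eps uT * perm 1 = eps 0 * perm 1 := by
    rw [eps_zero, perm_one, one_mul, mul_one]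
    exact h
  exact uT_ne_zero (mono_injective h1).2

theorem zmod2_aux : ∀ a b c d : ZMod 2, (a + b + (c + d)) + (c + b) = a + d := by decide

theorem comm_formula {σ τ : ↥M24} {u w : ↥golayCode} (hσ : KO σ) (hτ : KO τ) :
    (eps u * perm σ) * (eps w * perm τ) =
      eps ((u + act τ u) + (w + act σ w)) * ((eps w * perm τ) * (eps u * perm σ)) := by
  rw [mul_formula, mul_formula, ← mul_assoc, ← eps_add, KO_comm hσ hτ]
  congr 2
  apply Subtype.ext
  funext p
  show u.1 p + (act σ w).1 p =
    (u.1 p + (act τ u).1 p + (w.1 p + (act σ w).1 p)) + (w.1 p + (act τ u).1 p)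
  exact (zmod2_aux _ _ _ _).symm

theorem ker_extraspecial : IsExtraspecial 2 R := by
  have : Finite R := Nat.finite_of_card_ne_zero (by rw [card_R]; norm_num)
  have hR : IsPGroup 2 R := IsPGroup.of_card (n := 9) card_R
  have hcen : ∀ x : R, (∀ y, x * y = y * x) → x = 1 ∨ x = zeta := by
    intro x hc
    obtain ⟨σ, u, hσ, hu, hx⟩ := rep x
    have hσ1 : σ = 1 := by
      apply prop2 hσ
      intro w hw
      have h1 : x.1.1 * (eps w * perm 1) = (eps w * perm 1) * x.1.1 :=
        congrArg (fun z : R => z.1.1) (hc (mkR 1 w KO_one hw))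
      rw [hx, mul_formula, mul_formula, act_one, mul_one, one_mul] at h1
      obtain ⟨_, h2⟩ := mono_injective h1
      rw [add_comm w u] at h2
      exact add_left_cancel h2
    subst hσ1
    have hu' : u = 0 ∨ u = uT := by
      apply prop3 hu
      intro τ hτ
      have h1 : x.1.1 * (eps 0 * perm τ) = (eps 0 * perm τ) * x.1.1 :=
        congrArg (fun z : R => z.1.1) (hc (mkR τ 0 hτ CO_zero))
      rw [hx, mul_formula, mul_formula, one_mul, mul_one, act_one, add_zero, zero_add] at h1
      obtain ⟨_, h2⟩ := mono_injective h1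
      exact h2.symm
    rcases hu' with rfl | rfl
    · left
      apply ext_R
      rw [hx, eps_zero, perm_one, one_mul]
      rfl
    · right
      apply ext_R
      rw [hx]
      rfl
  apply Cfsg.Agent.Lib.Helper63_LESQuot.isExtraspecial_two_of hR zeta
  · intro h
    have h1 : eps uT * perm 1 = eps 0 * perm 1 := by
      have h2 : zeta.1.1 = (1 : ↥Co0) := congrArg (fun z : R => z.1.1) h
      rw [eps_zero, perm_one, one_mul]
      exact h2
    exact uT_ne_zero (mono_injective h1).2
  · apply ext_R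
    show zeta.1.1 * zeta.1.1 = 1
    rw [zeta_val]
    exact eps_mul_self uT
  · exact hcen
  · intro y
    apply ext_R
    show zeta.1.1 * y.1.1 = y.1.1 * zeta.1.1
    rw [zeta_val]
    exact ((mem_C0 y.1.1).mp y.1.2).1
  · intro x
    obtain ⟨σ, u, hσ, hu, hx⟩ := rep x
    have h1 : x.1.1 * x.1.1 = eps (u + act σ u) * perm 1 := by
      rw [hx, mul_formula, KO_sq hσ]
    rcases prop1 hσ hu with h | h
    · left
      apply ext_R
      show x.1.1 * x.1.1 = 1
      rw [h1, h, eps_zero, perm_one, one_mul]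
    · right
      apply ext_R
      show x.1.1 * x.1.1 = zeta.1.1
      rw [h1, h]
      rfl
  · intro x y
    obtain ⟨σ, u, hσ, hu, hx⟩ := rep x
    obtain ⟨τ, w, hτ, hw, hy⟩ := rep y
    have h1 : x.1.1 * y.1.1 = eps ((u + act τ u) + (w + act σ w)) * (y.1.1 * x.1.1) := by
      rw [hx, hy]
      exact comm_formula hσ hτ
    have hc : (u + act τ u) + (w + act σ w) = 0 ∨ (u + act τ u) + (w + act σ w) = uT := by
      rcases prop1 hτ hu with h | h <;> rcases prop1 hσ hw with h' | h' <;> rw [h, h']
      · left; rw [add_zero]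
      · right; rw [zero_add]
      · right; rw [add_zero]
      · left; exact uT_add_self
    rcases hc with hc | hc
    · left
      have h2 : x * y = y * x := by
        apply ext_R
        show x.1.1 * y.1.1 = y.1.1 * x.1.1
        rw [h1, hc, eps_zero, one_mul]
      rw [h2]
      group
    · right
      have h2 : x * y = zeta * (y * x) := by
        apply ext_R
        show x.1.1 * y.1.1 = zeta.1.1 * (y.1.1 * x.1.1)
        rw [h1, hc, zeta_val]
        rfl
      rw [h2]
      group
  · by_contra hcon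
    have hall : ∀ x y : R, x * y = y * x := by
      intro x y
      by_contra h
      exact hcon ⟨x, y, h⟩
    have hsub : (Set.univ : Set R) ⊆ {1, zeta} := by
      intro x _
      rcases hcen x (hall x) with h | h
      · rw [h]; exact Set.mem_insert _ _
      · rw [h]; exact Set.mem_insert_of_mem _ rfl
    have h1 := Set.ncard_le_ncard hsub (Set.toFinite _)
    rw [Set.ncard_univ, card_R] at h1
    have h2 : ({1, zeta} : Set R).ncard ≤ 2 := by
      refine (Set.ncard_insert_le _ _).trans ?_
      rw [Set.ncard_singleton]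
    omega

end Cfsg.Agent.Lib.Helper92_E8f
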