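import Cfsg.Agent.Lib.Helper92_E8e
import Cfsg.Agent.Lib.Helper7_XiConj
import Cfsg.Agent.Lib.Helper5_SpPerfect
import Cfsg.Agent.Lib.Helper13_SympTrans
import Cfsg.Agent.S0765

/-!
The homomorphism `phi` of `Helper92_E8c` is onto the symplectic group of dimension 6 over the field
with two elements: the images of three explicit elements of `C0` (two monomial ones and a product
of a coordinate permutation with the standard non-monomial involution) contain a symplectic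
transvection and move its centre to every nonzero vector; the transvections generate (`S0765`).
-/

set_option autoImplicit false
set_option linter.constructorNameAsVariable false
open Cfsg

namespace Cfsg.Agent.Lib.Helper92_E8g

open Cfsg.Agent.Lib.Helper7_M24 Cfsg.Agent.Lib.Helper7_Leech Cfsg.Agent.Lib.Helper92_Monomial
  Cfsg.Agent.Lib.Helper92_Co0Order Cfsg.Agent.Lib.Helper7_Mono Cfsg.Agent.Lib.Helper92_E8a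
  Cfsg.Agent.Lib.Helper92_E8b Cfsg.Agent.Lib.Helper92_E8c Cfsg.Agent.Lib.Helper92_E8d
  Cfsg.Agent.Lib.Helper7_Bits Cfsg.Agent.Lib.Helper7_Perm Cfsg.Agent.Lib.Helper92_Rep
  Cfsg.Agent.Lib.Helper13_SympTrans
open Cfsg.Agent.Lib.Helper7_Xi (A)
open Cfsg.Agent.Lib.Helper7_XiConj (xiE xiE_smul)
open Cfsg.Agent.S5546 (Lam)
open Cfsg.Spor (vecU leechU)
open Matrix

/-! ### elements of `M24` from lists -/

theorem checkM24_parts {l l' : List ℕ} (h : checkM24 l l' = true) :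
    checkInv l l' = true ∧ checkInv l' l = true ∧ checkCode l' = true := by
  unfold checkM24 at h
  rw [Bool.and_eq_true, Bool.and_eq_true] at h
  exact ⟨h.1.1, h.1.2, h.2⟩

/-- The element of `M24` with the list `l` of images and the list `l'` of preimages. -/
def mkM24 (l l' : List ℕ) (h : checkM24 l l' = true) : ↥M24 :=
  ⟨listPerm l l' (checkM24_parts h).1 (checkM24_parts h).2.1,
    listPerm_mem_M24 l l' (checkM24_parts h).1 (checkM24_parts h).2.1 (checkM24_parts h).2.2⟩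

theorem mkM24_apply (l l' : List ℕ) (h : checkM24 l l' = true) (p : GolayPt) :
    (mkM24 l l' h).1 p = listFun l p := rfl

/-! ### general criteria -/

theorem rep_xiE : Rep xiE A 2 := by
  intro v
  rw [← xiE_smul]
  funext i
  rw [Cfsg.Agent.S0393.dbl_apply, Pi.smul_apply, smul_eq_mul]

theorem mem_C0_of_rep {g : ↥Co0} {M : Matrix GolayPt GolayPt ℤ} {c : ℤ} (hc : c ≠ 0)
    (hr : Rep g M c) (h1 : DMat uT.1 * M = M * DMat uT.1) (h2 : M.mulVec vecU = c • vecU) :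
    g ∈ C0 := by
  rw [mem_C0]
  constructor
  · have r1 : Rep (tE * g) (DMat uT.1 * M) (1 * c) := (rep_eps uT).mul hr
    have r2 : Rep (g * tE) (DMat uT.1 * M) (1 * c) :=
      (hr.mul (rep_eps uT)).congr h1.symm (mul_comm c 1)
    exact Rep.ext (by rw [one_mul]; exact hc) r1 r2
  · apply Subtype.ext
    funext i
    have h3 := congrFun (hr UL) i
    rw [UL_val, h2, Pi.smul_apply, Pi.smul_apply, smul_eq_mul, smul_eq_mul] at h3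
    exact (mul_left_cancel₀ hc h3).symm

theorem dotInt_smul_left (c : ℤ) (a b : GolayPt → ℤ) : dotInt (c • a) b = c * dotInt a b := by
  unfold dotInt
  rw [Finset.mul_sum]
  apply Finset.sum_congr rfl
  intro i _
  rw [Pi.smul_apply, smul_eq_mul]
  ring

theorem phiM_of_rep {g : ↥Co0} {M : Matrix GolayPt GolayPt ℤ} {c : ℤ} (hg : g ∈ C0)
    (hr : Rep g M c) (hc : c ≠ 0) (P : Matrix (Fin 3 ⊕ Fin 3) (Fin 3 ⊕ Fin 3) ℤ)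
    (hP : ∀ a b, dotInt (M.mulVec (bV (Sum.inl b))) (dV (Sum.inl a)) = 16 * c * P a b) :
    phiM g = P.map (Int.cast : ℤ → ZMod 2) := by
  funext a b
  show ((Amat g (Sum.inl a) (Sum.inl b) : ℤ) : ZMod 2) = ((P a b : ℤ) : ZMod 2)
  congr 1
  have h1 := hP a b
  have h2 : M.mulVec (bV (Sum.inl b)) = c • (g • bE (Sum.inl b)).1 := hr (bE (Sum.inl b))
  rw [h2, dotInt_smul_left, coef_spec _ (supp_smul hg _ (bV_supp _))] at h1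
  have h3 : (16 * c) * coef (g • bE (Sum.inl b)).1 (Sum.inl a) = (16 * c) * P a b := by
    rw [← h1]
    ring
  exact mul_left_cancel₀ (mul_ne_zero (by norm_num) hc) h3

/-! ### three elements -/

def sTl : List ℕ := [23, 2, 1, 3, 18, 5, 20, 15, 16, 7, 6, 22, 4, 12, 14, 21, 11, 17, 13, 10, 19, 9, 8, 0]
def sTl' : List ℕ := [23, 2, 1, 3, 12, 5, 10, 9, 22, 21, 19, 16, 13, 18, 14, 7, 8, 17, 4, 20, 6, 15, 11, 0]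
theorem sT_ok : checkM24 sTl sTl' = true := by decide +kernel
def sT : ↥M24 := mkM24 sTl sTl' sT_ok

def s0l : List ℕ := [2, 0, 23, 14, 12, 17, 6, 4, 16, 13, 19, 18, 15, 22, 3, 8, 7, 1, 21, 10, 20, 11, 9, 5]
def s0l' : List ℕ := [1, 17, 0, 14, 7, 23, 6, 16, 15, 22, 19, 21, 4, 9, 3, 12, 8, 5, 11, 10, 20, 18, 13, 2]
theorem s0_ok : checkM24 s0l s0l' = true := by decide +kernel
def s0 : ↥M24 := mkM24 s0l s0l' s0_ok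

def s1l : List ℕ := [23, 17, 2, 1, 13, 14, 9, 11, 4, 22, 6, 18, 20, 12, 5, 8, 10, 3, 7, 19, 15, 16, 21, 0]
def s1l' : List ℕ := [23, 3, 2, 17, 8, 14, 10, 18, 15, 6, 16, 7, 13, 4, 5, 20, 21, 1, 11, 19, 12, 22, 9, 0]
theorem s1_ok : checkM24 s1l s1l' = true := by decide +kernel
def s1 : ↥M24 := mkM24 s1l s1l' s1_ok


def uTw : ↥golayCode := ⟨toWord 3334270, toWord_mem_of_inCode (by decide +kernel)⟩
def u1w : ↥golayCode := ⟨toWord 1070536, toWord_mem_of_inCode (by decide +kernel)⟩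

/-- A monomial element mapping to a transvection. -/
def gT : ↥Co0 := eps uTw * perm sT
/-- A non-monomial element. -/
def g0 : ↥Co0 := perm s0 * xiE
/-- Another monomial element. -/
def g1 : ↥Co0 := eps u1w * perm s1

def LT : List (List ℤ) :=
  [[0, 0, 0, 0, 0, 0, 0, 0, 0, 0, 0, 0, 0, 0, 0, 0, 0, 0, 0, 0, 0, 0, 0, 1],
   [0, 0, -1, 0, 0, 0, 0, 0, 0, 0, 0, 0, 0, 0, 0, 0, 0, 0, 0, 0, 0, 0, 0, 0],
   [0, -1, 0, 0, 0, 0, 0, 0, 0, 0, 0, 0, 0, 0, 0, 0, 0, 0, 0, 0, 0, 0, 0, 0],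
   [0, 0, 0, -1, 0, 0, 0, 0, 0, 0, 0, 0, 0, 0, 0, 0, 0, 0, 0, 0, 0, 0, 0, 0],
   [0, 0, 0, 0, 0, 0, 0, 0, 0, 0, 0, 0, -1, 0, 0, 0, 0, 0, 0, 0, 0, 0, 0, 0],
   [0, 0, 0, 0, 0, -1, 0, 0, 0, 0, 0, 0, 0, 0, 0, 0, 0, 0, 0, 0, 0, 0, 0, 0],
   [0, 0, 0, 0, 0, 0, 0, 0, 0, 0, -1, 0, 0, 0, 0, 0, 0, 0, 0, 0, 0, 0, 0, 0],
   [0, 0, 0, 0, 0, 0, 0, 0, 0, 1, 0, 0, 0, 0, 0, 0, 0, 0, 0, 0, 0, 0, 0, 0],
   [0, 0, 0, 0, 0, 0, 0, 0, 0, 0, 0, 0, 0, 0, 0, 0, 0, 0, 0, 0, 0, 0, 1, 0],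
   [0, 0, 0, 0, 0, 0, 0, 0, 0, 0, 0, 0, 0, 0, 0, 0, 0, 0, 0, 0, 0, 1, 0, 0],
   [0, 0, 0, 0, 0, 0, 0, 0, 0, 0, 0, 0, 0, 0, 0, 0, 0, 0, 0, 1, 0, 0, 0, 0],
   [0, 0, 0, 0, 0, 0, 0, 0, 0, 0, 0, 0, 0, 0, 0, 0, 1, 0, 0, 0, 0, 0, 0, 0],
   [0, 0, 0, 0, 0, 0, 0, 0, 0, 0, 0, 0, 0, 1, 0, 0, 0, 0, 0, 0, 0, 0, 0, 0],
   [0, 0, 0, 0, 0, 0, 0, 0, 0, 0, 0, 0, 0, 0, 0, 0, 0, 0, -1, 0, 0, 0, 0, 0],
   [0, 0, 0, 0, 0, 0, 0, 0, 0, 0, 0, 0, 0, 0, -1, 0, 0, 0, 0, 0, 0, 0, 0, 0],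
   [0, 0, 0, 0, 0, 0, 0, -1, 0, 0, 0, 0, 0, 0, 0, 0, 0, 0, 0, 0, 0, 0, 0, 0],
   [0, 0, 0, 0, 0, 0, 0, 0, 1, 0, 0, 0, 0, 0, 0, 0, 0, 0, 0, 0, 0, 0, 0, 0],
   [0, 0, 0, 0, 0, 0, 0, 0, 0, 0, 0, 0, 0, 0, 0, 0, 0, -1, 0, 0, 0, 0, 0, 0],
   [0, 0, 0, 0, 1, 0, 0, 0, 0, 0, 0, 0, 0, 0, 0, 0, 0, 0, 0, 0, 0, 0, 0, 0],
   [0, 0, 0, 0, 0, 0, 0, 0, 0, 0, 0, 0, 0, 0, 0, 0, 0, 0, 0, 0, 1, 0, 0, 0],
   [0, 0, 0, 0, 0, 0, -1, 0, 0, 0, 0, 0, 0, 0, 0, 0, 0, 0, 0, 0, 0, 0, 0, 0],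
   [0, 0, 0, 0, 0, 0, 0, 0, 0, 0, 0, 0, 0, 0, 0, -1, 0, 0, 0, 0, 0, 0, 0, 0],
   [0, 0, 0, 0, 0, 0, 0, 0, 0, 0, 0, 1, 0, 0, 0, 0, 0, 0, 0, 0, 0, 0, 0, 0],
   [1, 0, 0, 0, 0, 0, 0, 0, 0, 0, 0, 0, 0, 0, 0, 0, 0, 0, 0, 0, 0, 0, 0, 0]]

def L0 : List (List ℤ) :=
  [[1, -1, 1, 0, 0, 0, 0, 0, 0, 0, 0, 0, 0, 0, 0, 0, 0, 0, 0, 0, 0, 0, 0, 1],
   [0, 0, 0, -1, 0, -1, 0, 0, 0, 0, 0, 0, 0, 0, -1, 0, 0, 1, 0, 0, 0, 0, 0, 0],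
   [-1, 1, 1, 0, 0, 0, 0, 0, 0, 0, 0, 0, 0, 0, 0, 0, 0, 0, 0, 0, 0, 0, 0, 1],
   [0, 0, 0, -1, 0, -1, 0, 0, 0, 0, 0, 0, 0, 0, 1, 0, 0, -1, 0, 0, 0, 0, 0, 0],
   [0, 0, 0, 0, 0, 0, -1, 1, 0, 0, 0, 0, 0, 0, 0, 0, 0, 0, 0, -1, 0, -1, 0, 0],
   [1, 1, 1, 0, 0, 0, 0, 0, 0, 0, 0, 0, 0, 0, 0, 0, 0, 0, 0, 0, 0, 0, 0, -1],
   [0, 0, 0, 0, 0, 0, 1, -1, 0, 0, 0, 0, 0, 0, 0, 0, 0, 0, 0, -1, 0, -1, 0, 0],
   [0, 0, 0, 0, -1, 0, 0, 0, 0, 0, 0, 0, 0, -1, 0, 0, 1, 0, 0, 0, 0, 0, -1, 0],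
   [0, 0, 0, 0, 0, 0, 0, 0, 0, -1, -1, 0, 0, 0, 0, 1, 0, 0, 0, 0, -1, 0, 0, 0],
   [0, 0, 0, 0, -1, 0, 0, 0, 0, 0, 0, 0, 0, -1, 0, 0, -1, 0, 0, 0, 0, 0, 1, 0],
   [0, 0, 0, 0, 0, 0, -1, -1, 0, 0, 0, 0, 0, 0, 0, 0, 0, 0, 0, 1, 0, -1, 0, 0],
   [0, 0, 0, 0, 0, 0, -1, -1, 0, 0, 0, 0, 0, 0, 0, 0, 0, 0, 0, -1, 0, 1, 0, 0],
   [0, 0, 0, 0, 1, 0, 0, 0, 0, 0, 0, 0, 0, -1, 0, 0, -1, 0, 0, 0, 0, 0, -1, 0],
   [0, 0, 0, 0, 0, 0, 0, 0, 0, 1, -1, 0, 0, 0, 0, -1, 0, 0, 0, 0, -1, 0, 0, 0],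
   [0, 0, 0, 1, 0, -1, 0, 0, 0, 0, 0, 0, 0, 0, -1, 0, 0, -1, 0, 0, 0, 0, 0, 0],
   [0, 0, 0, 0, 0, 0, 0, 0, -1, 0, 0, -1, 1, 0, 0, 0, 0, 0, -1, 0, 0, 0, 0, 0],
   [0, 0, 0, 0, 0, 0, 0, 0, 1, 0, 0, -1, -1, 0, 0, 0, 0, 0, -1, 0, 0, 0, 0, 0],
   [0, 0, 0, -1, 0, 1, 0, 0, 0, 0, 0, 0, 0, 0, -1, 0, 0, -1, 0, 0, 0, 0, 0, 0],
   [0, 0, 0, 0, 0, 0, 0, 0, -1, 0, 0, 1, -1, 0, 0, 0, 0, 0, -1, 0, 0, 0, 0, 0],
   [0, 0, 0, 0, 0, 0, 0, 0, 0, -1, 1, 0, 0, 0, 0, -1, 0, 0, 0, 0, -1, 0, 0, 0],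
   [0, 0, 0, 0, 0, 0, 0, 0, 0, -1, -1, 0, 0, 0, 0, -1, 0, 0, 0, 0, 1, 0, 0, 0],
   [0, 0, 0, 0, 0, 0, 0, 0, -1, 0, 0, -1, -1, 0, 0, 0, 0, 0, 1, 0, 0, 0, 0, 0],
   [0, 0, 0, 0, -1, 0, 0, 0, 0, 0, 0, 0, 0, 1, 0, 0, -1, 0, 0, 0, 0, 0, -1, 0],
   [1, 1, -1, 0, 0, 0, 0, 0, 0, 0, 0, 0, 0, 0, 0, 0, 0, 0, 0, 0, 0, 0, 0, 1]]

def L1 : List (List ℤ) :=
  [[0, 0, 0, 0, 0, 0, 0, 0, 0, 0, 0, 0, 0, 0, 0, 0, 0, 0, 0, 0, 0, 0, 0, 1],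
   [0, 0, 0, 1, 0, 0, 0, 0, 0, 0, 0, 0, 0, 0, 0, 0, 0, 0, 0, 0, 0, 0, 0, 0],
   [0, 0, 1, 0, 0, 0, 0, 0, 0, 0, 0, 0, 0, 0, 0, 0, 0, 0, 0, 0, 0, 0, 0, 0],
   [0, 0, 0, 0, 0, 0, 0, 0, 0, 0, 0, 0, 0, 0, 0, 0, 0, -1, 0, 0, 0, 0, 0, 0],
   [0, 0, 0, 0, 0, 0, 0, 0, 1, 0, 0, 0, 0, 0, 0, 0, 0, 0, 0, 0, 0, 0, 0, 0],
   [0, 0, 0, 0, 0, 0, 0, 0, 0, 0, 0, 0, 0, 0, 1, 0, 0, 0, 0, 0, 0, 0, 0, 0],
   [0, 0, 0, 0, 0, 0, 0, 0, 0, 0, -1, 0, 0, 0, 0, 0, 0, 0, 0, 0, 0, 0, 0, 0],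
   [0, 0, 0, 0, 0, 0, 0, 0, 0, 0, 0, 0, 0, 0, 0, 0, 0, 0, -1, 0, 0, 0, 0, 0],
   [0, 0, 0, 0, 0, 0, 0, 0, 0, 0, 0, 0, 0, 0, 0, -1, 0, 0, 0, 0, 0, 0, 0, 0],
   [0, 0, 0, 0, 0, 0, 1, 0, 0, 0, 0, 0, 0, 0, 0, 0, 0, 0, 0, 0, 0, 0, 0, 0],
   [0, 0, 0, 0, 0, 0, 0, 0, 0, 0, 0, 0, 0, 0, 0, 0, -1, 0, 0, 0, 0, 0, 0, 0],
   [0, 0, 0, 0, 0, 0, 0, 1, 0, 0, 0, 0, 0, 0, 0, 0, 0, 0, 0, 0, 0, 0, 0, 0],
   [0, 0, 0, 0, 0, 0, 0, 0, 0, 0, 0, 0, 0, -1, 0, 0, 0, 0, 0, 0, 0, 0, 0, 0],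
   [0, 0, 0, 0, 1, 0, 0, 0, 0, 0, 0, 0, 0, 0, 0, 0, 0, 0, 0, 0, 0, 0, 0, 0],
   [0, 0, 0, 0, 0, -1, 0, 0, 0, 0, 0, 0, 0, 0, 0, 0, 0, 0, 0, 0, 0, 0, 0, 0],
   [0, 0, 0, 0, 0, 0, 0, 0, 0, 0, 0, 0, 0, 0, 0, 0, 0, 0, 0, 0, 1, 0, 0, 0],
   [0, 0, 0, 0, 0, 0, 0, 0, 0, 0, 0, 0, 0, 0, 0, 0, 0, 0, 0, 0, 0, 1, 0, 0],
   [0, 1, 0, 0, 0, 0, 0, 0, 0, 0, 0, 0, 0, 0, 0, 0, 0, 0, 0, 0, 0, 0, 0, 0],
   [0, 0, 0, 0, 0, 0, 0, 0, 0, 0, 0, 1, 0, 0, 0, 0, 0, 0, 0, 0, 0, 0, 0, 0],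
   [0, 0, 0, 0, 0, 0, 0, 0, 0, 0, 0, 0, 0, 0, 0, 0, 0, 0, 0, 1, 0, 0, 0, 0],
   [0, 0, 0, 0, 0, 0, 0, 0, 0, 0, 0, 0, -1, 0, 0, 0, 0, 0, 0, 0, 0, 0, 0, 0],
   [0, 0, 0, 0, 0, 0, 0, 0, 0, 0, 0, 0, 0, 0, 0, 0, 0, 0, 0, 0, 0, 0, 1, 0],
   [0, 0, 0, 0, 0, 0, 0, 0, 0, 1, 0, 0, 0, 0, 0, 0, 0, 0, 0, 0, 0, 0, 0, 0],
   [1, 0, 0, 0, 0, 0, 0, 0, 0, 0, 0, 0, 0, 0, 0, 0, 0, 0, 0, 0, 0, 0, 0, 0]]

theorem mulT : DMat uTw.1 * PMat (listFun sTl) = ofL LT := by decide +kernel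
theorem mul0 : PMat (listFun s0l) * A = ofL L0 := by decide +kernel
theorem mul1 : DMat u1w.1 * PMat (listFun s1l) = ofL L1 := by decide +kernel

theorem repT : Rep gT (ofL LT) 1 :=
  ((rep_eps uTw).mul (rep_perm sT (listFun sTl) (fun _ => rfl))).congr mulT (one_mul 1)

theorem rep0 : Rep g0 (ofL L0) 2 :=
  ((rep_perm s0 (listFun s0l) (fun _ => rfl)).mul rep_xiE).congr mul0 (one_mul 2)

theorem rep1 : Rep g1 (ofL L1) 1 :=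
  ((rep_eps u1w).mul (rep_perm s1 (listFun s1l) (fun _ => rfl))).congr mul1 (one_mul 1)

theorem commT : DMat uT.1 * ofL LT = ofL LT * DMat uT.1 := by decide +kernel
theorem comm0 : DMat uT.1 * ofL L0 = ofL L0 * DMat uT.1 := by decide +kernel
theorem comm1 : DMat uT.1 * ofL L1 = ofL L1 * DMat uT.1 := by decide +kernel

theorem fixT : (ofL LT).mulVec vecU = (1 : ℤ) • vecU := by decide +kernel
theorem fix0 : (ofL L0).mulVec vecU = (2 : ℤ) • vecU := by decide +kernel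
theorem fix1 : (ofL L1).mulVec vecU = (1 : ℤ) • vecU := by decide +kernel

theorem gT_mem : gT ∈ C0 := mem_C0_of_rep one_ne_zero repT commT fixT
theorem g0_mem : g0 ∈ C0 := mem_C0_of_rep two_ne_zero rep0 comm0 fix0
theorem g1_mem : g1 ∈ C0 := mem_C0_of_rep one_ne_zero rep1 comm1 fix1

/-- The matrix with the given rows. -/
def ofL6 (L : List (List ℤ)) : Matrix (Fin 3 ⊕ Fin 3) (Fin 3 ⊕ Fin 3) ℤ :=
  fun a b => (L.getD (pos (Sum.inl a)) []).getD (pos (Sum.inl b)) 0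

def PT : List (List ℤ) := [[-1, -3, -3, -3, 0, -6],
   [0, -1, 0, 0, 0, 0],
   [0, 0, -1, 0, 0, 0],
   [0, 0, 0, -1, 0, 0],
   [0, -1, -1, -1, -1, -2],
   [0, 1, 1, 1, 0, 1]]
def P0 : List (List ℤ) := [[0, 1, -2, 0, -3, -1],
   [0, 1, 1, 2, 0, 2],
   [1, 2, 1, 1, -1, 3],
   [-1, -2, -2, -2, 1, -3],
   [0, 1, 0, 1, -1, 0],
   [0, -1, 0, -1, 1, -1]]
def P1 : List (List ℤ) := [[-2, -5, -3, -5, 2, -8],
   [0, 0, 1, -1, 2, 0],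
   [0, -1, -1, 0, 0, 0],
   [-1, 0, 2, 0, 1, -1],
   [0, 0, 0, -2, 1, -1],
   [1, 2, 0, 2, -2, 3]]

theorem hPT : ∀ a b, dotInt ((ofL LT).mulVec (bV (Sum.inl b))) (dV (Sum.inl a)) =
    16 * 1 * ofL6 PT a b := by decide +kernel
theorem hP0 : ∀ a b, dotInt ((ofL L0).mulVec (bV (Sum.inl b))) (dV (Sum.inl a)) =
    16 * 2 * ofL6 P0 a b := by decide +kernel
theorem hP1 : ∀ a b, dotInt ((ofL L1).mulVec (bV (Sum.inl b))) (dV (Sum.inl a)) =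
    16 * 1 * ofL6 P1 a b := by decide +kernel

abbrev I6 : Type := Fin 3 ⊕ Fin 3
abbrev Sp : Type := Matrix.symplecticGroup (Fin 3) (ZMod 2)

/-- The three elements, in `C0`. -/
def gen : Fin 3 → ↥C0
  | 0 => ⟨gT, gT_mem⟩
  | 1 => ⟨g0, g0_mem⟩
  | 2 => ⟨g1, g1_mem⟩

/-- Their images. -/
def genM : Fin 3 → Matrix I6 I6 (ZMod 2)
  | 0 => (ofL6 PT).map (Int.cast : ℤ → ZMod 2)
  | 1 => (ofL6 P0).map (Int.cast : ℤ → ZMod 2)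
  | 2 => (ofL6 P1).map (Int.cast : ℤ → ZMod 2)

theorem phi_gen (s : Fin 3) : (phi (gen s)).1 = genM s := by
  fin_cases s
  · exact phiM_of_rep gT_mem repT one_ne_zero (ofL6 PT) hPT
  · exact phiM_of_rep g0_mem rep0 two_ne_zero (ofL6 P0) hP0
  · exact phiM_of_rep g1_mem rep1 one_ne_zero (ofL6 P1) hP1

def wordMat (l : List (Fin 3)) : Matrix I6 I6 (ZMod 2) := (l.map genM).prod
def wordC (l : List (Fin 3)) : ↥C0 := (l.map gen).prod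

theorem phi_wordC (l : List (Fin 3)) : (phi (wordC l)).1 = wordMat l := by
  induction l with
  | nil =>
    show (phi 1).1 = 1
    rw [map_one]
    rfl
  | cons s l ih =>
    show (phi (gen s * wordC l)).1 = genM s * wordMat l
    rw [map_mul]
    show (phi (gen s)).1 * (phi (wordC l)).1 = _
    rw [ih, phi_gen]

def wordVec (l : List (Fin 3)) (v : I6 → ZMod 2) : I6 → ZMod 2 :=
  l.foldr (fun s v => genM s *ᵥ v) v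

theorem wordMat_mulVec (l : List (Fin 3)) (v : I6 → ZMod 2) : wordMat l *ᵥ v = wordVec l v := by
  induction l with
  | nil => simp [wordMat, wordVec]
  | cons s l ih =>
    show (genM s :: l.map genM).prod *ᵥ v = genM s *ᵥ wordVec l v
    rw [List.prod_cons, ← Matrix.mulVec_mulVec, ← ih]
    rfl

def mkVec (a b c d e f : ZMod 2) : I6 → ZMod 2 := Sum.elim ![a, b, c] ![d, e, f]

/-- The centre of the base transvection. -/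
def w0 : I6 → ZMod 2 := mkVec 1 0 0 0 1 1

/-- Words moving `w0` to each nonzero vector. -/
def wordTbl : List (List (Fin 3)) := [[], [1, 0, 1, 2, 2], [1, 2, 2, 1, 1], [2, 2], [0, 2, 2, 2, 1, 1], [0, 1, 2], [2, 1, 0, 1, 2], [1, 1, 0, 1, 2], [2], [2, 1, 2, 2], [1, 0, 1, 2], [2, 0, 2], [1, 1, 0, 1, 2, 2], [1, 1, 1], [0, 1, 2, 2], [1, 1], [2, 2, 0, 1, 1], [1, 0, 1, 1], [2, 2, 1, 2], [2, 2, 1, 1], [1, 2, 1, 2], [1, 2, 1, 1], [1, 1, 2], [2, 2, 0, 2, 2], [0, 2, 1, 1], [0, 1, 0, 2], [2, 1, 1, 2], [2, 0, 2, 1, 1], [1], [1, 1, 2, 2], [0, 2, 0, 1, 2], [1, 2, 1, 1, 1], [1, 2, 0, 1, 2], [2, 0, 1, 1], [0, 2, 2, 1, 1], [1, 0, 2, 2], [0, 1, 2, 1, 1], [2, 0, 2, 2], [2, 1, 2, 1, 1, 2], [2, 1, 2], [1, 0, 2], [2, 1, 1], [2, 1, 1, 0, 1, 2], [2, 2, 1, 2, 2], [2, 1, 1, 1], [2, 2, 2], [2, 2, 0, 2], [2, 0, 1, 2], [2, 1,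 0, 1, 1], [], [0, 2, 2], [2, 0, 1, 0, 2], [1, 2], [2, 2, 2, 1, 1], [1, 2, 0, 2, 1, 1], [1, 1, 2, 1, 1], [0, 2, 1, 2, 2], [0, 2], [1, 2, 1, 1, 2], [2, 1, 0, 2], [2, 2, 1, 1, 1], [1, 2, 2, 0, 1, 1], [0, 1, 1], [1, 2, 2]]

def encI (y0 y1 y2 y3 y4 y5 : ZMod 2) : ℕ :=
  y0.val + 2 * y1.val + 4 * y2.val + 8 * y3.val + 16 * y4.val + 32 * y5.val

set_option maxRecDepth 100000 in
set_option synthInstance.maxSize 4096 in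
set_option synthInstance.maxHeartbeats 400000 in
theorem trans_check : ∀ y0 y1 y2 y3 y4 y5 : ZMod 2,
    (y0 ≠ 0 ∨ y1 ≠ 0 ∨ y2 ≠ 0 ∨ y3 ≠ 0 ∨ y4 ≠ 0 ∨ y5 ≠ 0) →
    wordVec (wordTbl.getD (encI y0 y1 y2 y3 y4 y5) []) w0 = mkVec y0 y1 y2 y3 y4 y5 := by
  decide +kernel

set_option maxRecDepth 100000 in
theorem base_check : genM 0 = Cfsg.sympTransvection 3 w0 1 := by
  decide +kernel

theorem transv_mem_range (w : I6 → ZMod 2) (c : ZMod 2) : transv 3 w c ∈ phi.range := by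
  have hc : c = 0 ∨ c = 1 := by
    revert c
    decide
  rcases hc with rfl | rfl
  · have : transv 3 w (0 : ZMod 2) = 1 := by
      apply Subtype.ext
      show Cfsg.sympTransvection 3 w (0 : ZMod 2) = 1
      simp [Cfsg.sympTransvection]
    rw [this]
    exact one_mem _
  by_cases hw : w = 0
  · subst hw
    have : transv 3 (0 : I6 → ZMod 2) (1 : ZMod 2) = 1 := by
      apply Subtype.ext
      show Cfsg.sympTransvection 3 (0 : I6 → ZMod 2) (1 : ZMod 2) = 1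
      simp [Cfsg.sympTransvection]
    rw [this]
    exact one_mem _
  · have hw' : w = mkVec (w (.inl 0)) (w (.inl 1)) (w (.inl 2)) (w (.inr 0)) (w (.inr 1))
        (w (.inr 2)) := by
      funext i
      rcases i with i | i <;> fin_cases i <;> rfl
    have hne : w (.inl 0) ≠ 0 ∨ w (.inl 1) ≠ 0 ∨ w (.inl 2) ≠ 0 ∨ w (.inr 0) ≠ 0 ∨
        w (.inr 1) ≠ 0 ∨ w (.inr 2) ≠ 0 := by
      by_contra hcon
      simp only [not_or, not_not] at hcon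
      apply hw
      rw [hw']
      funext i
      rcases i with i | i <;> fin_cases i <;> simp [mkVec, hcon]
    have ht := trans_check _ _ _ _ _ _ hne
    rw [← hw'] at ht
    generalize wordTbl.getD _ [] = l at ht
    have h1 : (phi (wordC l)).1 *ᵥ w0 = w := by rw [phi_wordC, wordMat_mulVec, ht]
    have h2 : phi (gen 0) = transv 3 w0 1 :=
      Subtype.ext (by rw [phi_gen]; exact base_check)
    have h3 := Cfsg.Agent.Lib.Helper5_SpPerfect.conj_transv (phi (wordC l)) w0 (1 : ZMod 2)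
    rw [h1, ← h2] at h3
    rw [← h3]
    exact mul_mem (mul_mem ⟨_, rfl⟩ ⟨_, rfl⟩) (inv_mem ⟨_, rfl⟩)

/-- The homomorphism is onto. -/
theorem phi_surjective : Function.Surjective phi := by
  rw [← MonoidHom.range_eq_top, eq_top_iff, ← Cfsg.Agent.S0765.result (F := ZMod 2) 3,
    Subgroup.closure_le]
  rintro B ⟨w, c, hB⟩
  have : B = transv 3 w c := Subtype.ext hB
  rw [this]
  exact transv_mem_range w c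

end Cfsg.Agent.Lib.Helper92_E8g
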