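import Cfsg.Agent.Lib.Helper92_Co3Main
import Cfsg.Agent.Lib.Helper92_Co2Str
import Cfsg.Agent.S5593

/-!
Automorphisms of the rank-24 lattice fixing `8 e_i` preserve the standard cross; those fixing also
`(-5, -1^23)` are coordinate permutations fixing the extra point.
-/

set_option autoImplicit false
set_option linter.constructorNameAsVariable false
open Cfsg
open scoped Pointwise

namespace Cfsg.Agent.Lib.Helper92_FixMono

open Cfsg.Agent.Lib.Helper7_M24 Cfsg.Agent.Lib.Helper7_Leech Cfsg.Agent.Lib.Helper92_Monomial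
  Cfsg.Agent.Lib.Helper92_Co0Order Cfsg.Agent.Lib.Helper92_MaxN
  Cfsg.Agent.Lib.Helper7_Mono Cfsg.Agent.Lib.Helper92_Co2 Cfsg.Agent.Lib.Helper92_LeechShapes
open Cfsg.Agent.S5546 (Lam vec8 e8)
open Cfsg.Agent.S0394 (sgn famA)

theorem dot_vec8 (a : GolayPt → ℤ) (i : GolayPt) : dotInt a (vec8 i) = 8 * a i := by
  unfold dotInt vec8
  rw [Finset.sum_eq_single i]
  · rw [if_pos rfl]; ring
  · intro b _ hb
    rw [if_neg hb]; ring
  · intro h; exact absurd (Finset.mem_univ i) h

theorem smul_neg'' (g : ↥Co0) (a : Lam) : g • (-a) = -(g • a) :=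
  Cfsg.Agent.Lib.Helper92_Co3.smul_neg' g a

/-- The image of `8 e_j` under an automorphism fixing `8 e_i`. -/
theorem smul_e8_of_fix (g : ↥Co0) (i j : GolayPt) (h : g • e8 i = e8 i) :
    ∃ (k : GolayPt) (s : ℤ), (s = 8 ∨ s = -8) ∧ ((g • e8 j : Lam) : GolayPt → ℤ) = Pi.single k s := by
  by_cases hji : j = i
  · subst hji
    rw [h]
    exact ⟨j, 8, Or.inl rfl, Cfsg.Agent.S1571.vec8_eq_single j⟩
  · have hij : i ≠ j := fun e => hji e.symm
    set x : Lam := pairL i j hij with hx
    have hxi : x.1 i = 4 := pairL_apply_left i j hij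
    have hxj : x.1 j = 4 := pairL_apply_right i j hij
    have hxk : ∀ k, k ≠ i → k ≠ j → x.1 k = 0 := fun k h1 h2 => pairL_apply_other i j hij k h1 h2
    -- `8 e_j = 2 x - 8 e_i`
    have he : e8 j = x + x + -(e8 i) := by
      apply Subtype.ext
      funext k
      show vec8 j k = x.1 k + x.1 k + -(vec8 i k)
      unfold vec8
      by_cases hk1 : k = i
      · subst hk1
        rw [if_neg hij, if_pos rfl, hxi]; ring
      · by_cases hk2 : k = j
        · subst hk2
          rw [if_pos rfl, if_neg hk1, hxj]; ring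
        · rw [if_neg hk2, if_neg hk1, hxk k hk1 hk2]; ring
    set y : Lam := g • x with hy
    have hyn : sqNorm (y : GolayPt → ℤ) = 32 := by
      rw [hy, sqNorm_smul]
      exact pairL_norm i j hij
    have hyd : dotInt (y : GolayPt → ℤ) (vec8 i) = 32 := by
      have := Cfsg.Agent.S5593.dot_smul g x (e8 i)
      rw [h] at this
      have h2 : dotInt (x : GolayPt → ℤ) ((e8 i : Lam) : GolayPt → ℤ) = 32 := by
        show dotInt x.1 (vec8 i) = 32
        rw [dot_vec8, hxi]; rfl
      rw [h2] at this
      exact this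
    have hyi : y.1 i = 4 := by
      rw [dot_vec8] at hyd
      omega
    have hfam : y.1 ∈ famA := mem_famA_of y.2 hyn ⟨i, by rw [hyi]; rfl⟩
    obtain ⟨P, N, hP, hN, hPN⟩ := hfam
    have hiP : i ∈ P := by
      by_contra hni
      have := Cfsg.Agent.S0394.sgn_of_notMem (a := 4) (N := N) hni
      rw [← hPN, hyi] at this
      omega
    have hiN : i ∉ N := by
      intro hiN
      have := Cfsg.Agent.S0394.sgn_of_mem_neg (a := 4) hiP hiN
      rw [← hPN, hyi] at this
      omega
    -- the other point of `P`
    obtain ⟨k, hk⟩ : ∃ k, P.erase i = {k} := by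
      apply Finset.card_eq_one.mp
      rw [Finset.card_erase_of_mem hiP, hP]
    have hkP : k ∈ P ∧ k ≠ i := by
      have : k ∈ P.erase i := by rw [hk]; exact Finset.mem_singleton_self k
      exact ⟨Finset.mem_of_mem_erase this, Finset.ne_of_mem_erase this⟩
    have hPmem : ∀ l, l ∈ P ↔ l = i ∨ l = k := by
      intro l
      constructor
      · intro hl
        by_cases hli : l = i
        · exact Or.inl hli
        · right
          have : l ∈ P.erase i := Finset.mem_erase.mpr ⟨hli, hl⟩
          rw [hk] at this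
          exact Finset.mem_singleton.mp this
      · rintro (rfl | rfl)
        · exact hiP
        · exact hkP.1
    have hgj : g • e8 j = y + y + -(e8 i) := by
      rw [he, smul_add', smul_add', smul_neg'', h]
    refine ⟨k, if k ∈ N then -8 else 8, ?_, ?_⟩
    · by_cases hkN : k ∈ N
      · rw [if_pos hkN]; exact Or.inr rfl
      · rw [if_neg hkN]; exact Or.inl rfl
    · rw [hgj]
      funext l
      show y.1 l + y.1 l + -(vec8 i l) = _
      rw [Pi.single_apply, hPN]
      unfold vec8
      by_cases hl1 : l = i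
      · subst hl1
        rw [if_pos rfl, if_neg (fun e => hkP.2 e.symm),
          Cfsg.Agent.S0394.sgn_of_mem_pos hiP hiN]
        ring
      · rw [if_neg hl1]
        by_cases hl2 : l = k
        · subst hl2
          rw [if_pos rfl]
          by_cases hkN : l ∈ N
          · rw [if_pos hkN, Cfsg.Agent.S0394.sgn_of_mem_neg hkP.1 hkN]; ring
          · rw [if_neg hkN, Cfsg.Agent.S0394.sgn_of_mem_pos hkP.1 hkN]; ring
        · rw [if_neg hl2]
          have : l ∉ P := fun hl => by
            rcases (hPmem l).mp hl with e | e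
            · exact hl1 e
            · exact hl2 e
          rw [Cfsg.Agent.S0394.sgn_of_notMem this]; ring

/-- An automorphism fixing `8 e_i` preserves the standard cross. -/
theorem P_of_fix_e8 (g : ↥Co0) (i : GolayPt) (h : g • e8 i = e8 i) : Cfsg.Agent.S1571.P g := by
  intro v hv
  obtain ⟨j, s, hs, hvs⟩ := hv
  obtain ⟨k, t, ht, hkt⟩ := smul_e8_of_fix g i j h
  rcases hs with rfl | rfl
  · have : v = e8 j := Subtype.ext (hvs.trans (Cfsg.Agent.S1571.vec8_eq_single j).symm)
    rw [this]
    exact ⟨k, t, ht, hkt⟩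
  · have : v = -(e8 j) := by
      apply Subtype.ext
      rw [hvs]
      funext l
      show _ = -(vec8 j l)
      rw [Cfsg.Agent.S1571.vec8_eq_single, Pi.single_apply, Pi.single_apply]
      split_ifs <;> ring
    rw [this, smul_neg'']
    refine ⟨k, -t, ?_, ?_⟩
    · rcases ht with rfl | rfl
      · exact Or.inr rfl
      · exact Or.inl (by ring)
    · show -((g • e8 j : Lam) : GolayPt → ℤ) = _
      rw [hkt]
      funext l
      rw [Pi.neg_apply, Pi.single_apply, Pi.single_apply]
      split_ifs <;> ring

/-- The vector `(-5, -1^23)`, as an element of the lattice. -/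
abbrev VL : Lam := Cfsg.Spor.leechV

theorem VL_apply (j : GolayPt) : (VL : GolayPt → ℤ) j = if j = none then -5 else -1 := rfl

theorem VL_neg (j : GolayPt) : (VL : GolayPt → ℤ) j < 0 := by
  rw [VL_apply]
  split_ifs <;> norm_num

/-- A coordinate permutation fixing the extra point fixes `(-5, -1^23)`. -/
theorem perm_fix_VL (σ : ↥M24) (h : σ.1 none = none) : perm σ • VL = VL := by
  apply Subtype.ext
  rw [perm_apply]
  funext j
  rw [permVec_apply, VL_apply, VL_apply]
  have : σ.1.symm j = none ↔ j = none := by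
    constructor
    · intro e
      have := congrArg σ.1 e
      rw [Equiv.apply_symm_apply, h] at this
      exact this
    · intro e
      rw [e, Equiv.symm_apply_eq, h]
  by_cases hj : j = none
  · rw [if_pos hj, if_pos (this.mpr hj)]
  · rw [if_neg hj, if_neg (fun e => hj (this.mp e))]

/-- An automorphism fixing `8 e_∞` and `(-5, -1^23)` is a coordinate permutation fixing the extra
point. -/
theorem mono_of_fix (g : ↥Co0) (h8 : g • e8 none = e8 none) (hV : g • VL = VL) :
    ∃ σ : ↥M24, σ.1 none = none ∧ g = perm σ := by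
  have hN : g ∈ N := (mem_N_iff g).mpr (P_of_fix_e8 g none h8)
  obtain ⟨σ, u, rfl⟩ := exists_of_mem_N hN
  have e1 : signFlip (support₂ u.1) (permVec σ.1 (VL : GolayPt → ℤ)) = (VL : GolayPt → ℤ) := by
    have := congrArg (fun x : Lam => (x : GolayPt → ℤ)) hV
    rw [mul_smul'] at this
    exact this
  have hu : u = 0 := by
    apply Subtype.ext
    funext j
    apply zmod2_ne_one
    intro hj
    have hm : j ∈ support₂ u.1 := (mem_support₂ _ _).mpr hj
    have := congrFun e1 j
    rw [signFlip_of_mem hm, permVec_apply] at this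
    have p1 := VL_neg (σ.1.symm j)
    have p2 := VL_neg j
    omega
  rw [hu, eps_zero, one_mul] at hV ⊢
  refine ⟨σ, ?_, rfl⟩
  have := congrFun (congrArg (fun x : Lam => (x : GolayPt → ℤ)) hV) (σ.1 none)
  rw [perm_apply] at this
  have h' : (VL : GolayPt → ℤ) (σ.1.symm (σ.1 none)) = (VL : GolayPt → ℤ) (σ.1 none) := this
  rw [Equiv.symm_apply_apply, VL_apply, VL_apply, if_pos rfl] at h'
  by_contra hne
  rw [if_neg hne] at h'
  omega

end Cfsg.Agent.Lib.Helper92_FixMono
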