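import Cfsg.Agent.Lib.Helper92_Co2Str
import Cfsg.Agent.S0378

/-!
The standard vectors `v1 = (5, 1, 1^22)` and `w1 = -(1, 5, 1^22)` of the rank-24 lattice (the `5`
at the points `pa = 4` and `pb = 13`), with `v1 + w1 = v0 = 4 e_4 - 4 e_13`, and the common
stabiliser of `v1`, `w1` and `bp = 4 e_4 + 4 e_13` in the automorphism group: it consists of the
coordinate permutations fixing the two points.
-/

set_option autoImplicit false
set_option linter.constructorNameAsVariable false
open Cfsg
open scoped Pointwise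

namespace Cfsg.Agent.Lib.Helper92_HS

open Cfsg.Agent.Lib.Helper7_M24 Cfsg.Agent.Lib.Helper7_Leech Cfsg.Agent.Lib.Helper92_Monomial
  Cfsg.Agent.Lib.Helper92_Co0Order Cfsg.Agent.Lib.Helper92_MaxN
  Cfsg.Agent.Lib.Helper7_Mono Cfsg.Agent.Lib.Helper92_Co2 Cfsg.Agent.Lib.Helper92_LeechShapes
open Cfsg.Agent.Lib.Helper26_Leech (pa pb pa_ne_pb v0 v0_apply dotInt_v0 v0_mem v0_norm)
open Cfsg.Agent.Lib.Helper26_Co2 (v0L permVec_v0 signFlip_v0)
open Cfsg.Agent.S5546 (Lam vec8 e8)

/-! ### the vectors -/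

/-- The vector with `5` at the first point and `1` elsewhere. -/
def v1 : GolayPt → ℤ := fun j => if j = pa then 5 else 1

/-- The vector with `-5` at the second point and `-1` elsewhere. -/
def w1 : GolayPt → ℤ := fun j => if j = pb then -5 else -1

theorem v1_eq_od : v1 = od 1 {pa} ∅ := by
  funext j
  have hb : bs 1 j = 1 := by
    unfold bs
    exact if_pos rfl
  show (if j = pa then 5 else 1) = bs 1 j * (if j ∈ ({pa} : Finset GolayPt) then 5 else
    if j ∈ (∅ : Finset GolayPt) then -3 else 1)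
  rw [hb, one_mul]
  by_cases h : j = pa
  · rw [if_pos h, if_pos (Finset.mem_singleton.mpr h)]
  · rw [if_neg h, if_neg (fun h' => h (Finset.mem_singleton.mp h')),
      if_neg (Finset.notMem_empty j)]

theorem w1_eq_od : w1 = od 0 {pb} ∅ := by
  funext j
  have hb : bs 0 j = -1 := by
    unfold bs
    exact if_neg (by rw [Pi.zero_apply]; decide)
  show (if j = pb then -5 else -1) = bs 0 j * (if j ∈ ({pb} : Finset GolayPt) then 5 else
    if j ∈ (∅ : Finset GolayPt) then -3 else 1)
  rw [hb]
  by_cases h : j = pb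
  · rw [if_pos h, if_pos (Finset.mem_singleton.mpr h)]; rfl
  · rw [if_neg h, if_neg (fun h' => h (Finset.mem_singleton.mp h')),
      if_neg (Finset.notMem_empty j)]; rfl

theorem v1_mem : v1 ∈ leechLattice := by
  rw [v1_eq_od]
  apply AddSubgroup.subset_closure
  exact od_mem 1 {pa} ∅ Cfsg.Agent.Lib.Helper7_M24.one_mem (Finset.disjoint_empty_right _)
    (by decide)

theorem w1_mem : w1 ∈ leechLattice := by
  rw [w1_eq_od]
  apply AddSubgroup.subset_closure
  exact od_mem 0 {pb} ∅ golayCode.zero_mem (Finset.disjoint_empty_right _) (by decide)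

/-- `v1`, as an element of the lattice. -/
def v1L : Lam := ⟨v1, v1_mem⟩

/-- `w1`, as an element of the lattice. -/
def w1L : Lam := ⟨w1, w1_mem⟩

theorem v1_norm : sqNorm v1 = 48 := by
  rw [v1_eq_od, sqNorm_od _ _ _ (Finset.disjoint_empty_right _)]
  rfl

theorem w1_norm : sqNorm w1 = 48 := by
  rw [w1_eq_od, sqNorm_od _ _ _ (Finset.disjoint_empty_right _)]
  rfl

theorem sum_pt (p : GolayPt) (f : GolayPt → ℤ) :
    ∑ j, (if j = p then f j else 0) = f p := by
  rw [Finset.sum_ite_eq' Finset.univ p f, if_pos (Finset.mem_univ p)]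

theorem dot_v1 (x : GolayPt → ℤ) : dotInt v1 x = ∑ j, x j + 4 * x pa := by
  unfold dotInt
  have h : ∀ j, v1 j * x j = x j + (if j = pa then 4 * x j else 0) := by
    intro j
    unfold v1
    by_cases h : j = pa
    · rw [if_pos h, if_pos h]; ring
    · rw [if_neg h, if_neg h]; ring
  rw [Finset.sum_congr rfl (fun j _ => h j), Finset.sum_add_distrib, sum_pt pa (fun j => 4 * x j)]

theorem dot_w1 (x : GolayPt → ℤ) : dotInt w1 x = -(∑ j, x j) - 4 * x pb := by
  unfold dotInt
  have h : ∀ j, w1 j * x j = -x j + (if j = pb then -4 * x j else 0) := by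
    intro j
    unfold w1
    by_cases h : j = pb
    · rw [if_pos h, if_pos h]; ring
    · rw [if_neg h, if_neg h]; ring
  rw [Finset.sum_congr rfl (fun j _ => h j), Finset.sum_add_distrib, sum_pt pb (fun j => -4 * x j),
    Finset.sum_neg_distrib]
  ring

theorem sum_w1 : ∑ j, w1 j = -28 := by
  have h : ∀ j, w1 j = -1 + (if j = pb then -4 else 0) := by
    intro j
    unfold w1
    by_cases h : j = pb
    · rw [if_pos h, if_pos h]; rfl
    · rw [if_neg h, if_neg h]; rfl
  rw [Finset.sum_congr rfl (fun j _ => h j), Finset.sum_add_distrib, sum_pt pb (fun _ => -4),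
    Finset.sum_const, Finset.card_univ, Cfsg.Agent.S0394.card_golayPt]
  rfl

theorem dot_v1_w1 : dotInt v1 w1 = -32 := by
  rw [dot_v1, sum_w1]
  unfold w1
  rw [if_neg pa_ne_pb]
  rfl

theorem v1_add_w1 : v1 + w1 = v0 := by
  funext j
  show v1 j + w1 j = v0 j
  rw [v0_apply]
  unfold v1 w1
  by_cases ha : j = pa
  · have hb : j ≠ pb := fun h => pa_ne_pb (ha.symm.trans h)
    rw [if_pos ha, if_neg hb, if_pos ha, if_neg hb]; rfl
  · by_cases hb : j = pb
    · rw [if_neg ha, if_pos hb, if_neg ha, if_pos hb]; rfl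
    · rw [if_neg ha, if_neg hb, if_neg ha, if_neg hb]; rfl

theorem v1L_add_w1L : v1L + w1L = v0L := Subtype.ext v1_add_w1

theorem sum_bp : ∑ j, bp j = 8 := by
  have h : ∀ j, bp j = (if j = pa then 4 else 0) + (if j = pb then 4 else 0) := by
    intro j
    by_cases ha : j = pa
    · have hb : j ≠ pb := fun h => pa_ne_pb (ha.symm.trans h)
      rw [if_pos ha, if_neg hb, ha, bp_pa]; rfl
    · by_cases hb : j = pb
      · rw [if_neg ha, if_pos hb, hb, bp_pb]; rfl
      · rw [if_neg ha, if_neg hb]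
        apply Cfsg.Agent.S0394.sgn_of_notMem
        intro hm
        rcases Finset.mem_insert.mp hm with h | h
        · exact ha h
        · exact hb (Finset.mem_singleton.mp h)
  rw [Finset.sum_congr rfl (fun j _ => h j), Finset.sum_add_distrib, sum_pt pa (fun _ => 4),
    sum_pt pb (fun _ => 4)]
  rfl

theorem dot_v1_bp : dotInt v1 bp = 24 := by
  rw [dot_v1, sum_bp, bp_pa]; rfl

theorem dot_w1_bp : dotInt w1 bp = -24 := by
  rw [dot_w1, sum_bp, bp_pb]; rfl

theorem bp_norm : sqNorm bp = 32 := (fam_mem_lattice (Or.inl bp_famA)).2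

end Cfsg.Agent.Lib.Helper92_HS
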