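import Cfsg.Agent.Lib.Helper92_HSBase

/-!
The common stabiliser of `v1`, `w1` and `bp` in the automorphism group of the rank-24 lattice is
the group of the coordinate permutations fixing the two points: a simple group of order `443520`.
-/

set_option autoImplicit false
set_option linter.constructorNameAsVariable false
open Cfsg
open scoped Pointwise

namespace Cfsg.Agent.Lib.Helper92_HS

open Cfsg.Agent.Lib.Helper7_M24 Cfsg.Agent.Lib.Helper7_Leech Cfsg.Agent.Lib.Helper92_Monomial
  Cfsg.Agent.Lib.Helper92_Co0Order Cfsg.Agent.Lib.Helper92_MaxN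
  Cfsg.Agent.Lib.Helper7_Mono Cfsg.Agent.Lib.Helper92_Co2 Cfsg.Agent.Lib.Helper92_LeechShapes
open Cfsg.Agent.Lib.Helper26_Leech (pa pb pa_ne_pb v0 v0_apply dotInt_v0 v0_mem v0_norm)
open Cfsg.Agent.Lib.Helper26_Co2 (v0L permVec_v0 signFlip_v0)
open Cfsg.Agent.S5546 (Lam vec8 e8)

/-- The common stabiliser of `v1` and `w1`. -/
abbrev G1 : Subgroup ↥Co0 := MulAction.stabilizer ↥Co0 v1L ⊓ MulAction.stabilizer ↥Co0 w1L

theorem v1_pos (j : GolayPt) : 0 < v1 j := by
  unfold v1
  by_cases h : j = pa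
  · rw [if_pos h]; decide
  · rw [if_neg h]; decide

theorem v1_eq_five {j : GolayPt} (h : v1 j = 5) : j = pa := by
  unfold v1 at h
  by_contra hne
  rw [if_neg hne] at h
  exact absurd h (by decide)

theorem w1_eq_neg_five {j : GolayPt} (h : w1 j = -5) : j = pb := by
  unfold w1 at h
  by_contra hne
  rw [if_neg hne] at h
  exact absurd h (by decide)

theorem v1_pa : v1 pa = 5 := if_pos rfl

theorem w1_pb : w1 pb = -5 := if_pos rfl

theorem bp_apply (j : GolayPt) : bp j = (if j = pa then 4 else 0) + (if j = pb then 4 else 0) := by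
  by_cases ha : j = pa
  · have hb : j ≠ pb := fun h => pa_ne_pb (ha.symm.trans h)
    rw [if_pos ha, if_neg hb, ha, bp_pa]; rfl
  · by_cases hb : j = pb
    · rw [if_neg ha, if_pos hb, hb, bp_pb]; rfl
    · rw [if_neg ha, if_neg hb]
      apply Cfsg.Agent.S0394.sgn_of_notMem
      intro hm
      rcases Finset.mem_insert.mp hm with h | h
      · exact ha h
      · exact hb (Finset.mem_singleton.mp h)

theorem symm_eq_iff (σ : Equiv.Perm GolayPt) {p : GolayPt} (hp : σ p = p) (j : GolayPt) :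
    σ.symm j = p ↔ j = p := by
  rw [Equiv.symm_apply_eq, hp]

theorem perm_fix_v1 (σ : ↥M24) (ha : σ.1 pa = pa) : perm σ • v1L = v1L := by
  apply Subtype.ext
  rw [perm_apply]
  funext j
  show v1 (σ.1.symm j) = v1 j
  unfold v1
  by_cases h : j = pa
  · rw [if_pos h, if_pos ((symm_eq_iff σ.1 ha j).mpr h)]
  · rw [if_neg h, if_neg (fun h' => h ((symm_eq_iff σ.1 ha j).mp h'))]

theorem perm_fix_w1 (σ : ↥M24) (hb : σ.1 pb = pb) : perm σ • w1L = w1L := by
  apply Subtype.ext
  rw [perm_apply]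
  funext j
  show w1 (σ.1.symm j) = w1 j
  unfold w1
  by_cases h : j = pb
  · rw [if_pos h, if_pos ((symm_eq_iff σ.1 hb j).mpr h)]
  · rw [if_neg h, if_neg (fun h' => h ((symm_eq_iff σ.1 hb j).mp h'))]

theorem perm_fix_bp (σ : ↥M24) (ha : σ.1 pa = pa) (hb : σ.1 pb = pb) : perm σ • bpL = bpL := by
  apply Subtype.ext
  rw [perm_apply]
  funext j
  show bp (σ.1.symm j) = bp j
  rw [bp_apply, bp_apply]
  by_cases h : j = pa
  · have h' : j ≠ pb := fun h2 => pa_ne_pb (h.symm.trans h2)
    rw [if_pos h, if_pos ((symm_eq_iff σ.1 ha j).mpr h), if_neg h',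
      if_neg (fun h2 => h' ((symm_eq_iff σ.1 hb j).mp h2))]
  · rw [if_neg h, if_neg (fun h2 => h ((symm_eq_iff σ.1 ha j).mp h2))]
    by_cases h' : j = pb
    · rw [if_pos h', if_pos ((symm_eq_iff σ.1 hb j).mpr h')]
    · rw [if_neg h', if_neg (fun h2 => h' ((symm_eq_iff σ.1 hb j).mp h2))]

/-- An automorphism fixing `v1`, `w1` and `bp` is a coordinate permutation fixing the two
points. -/
theorem exists_perm_of_fix (g : ↥Co0) (h1 : g • v1L = v1L) (h2 : g • w1L = w1L)
    (h3 : g • bpL = bpL) : ∃ σ : ↥M22s, g = perm σ.1 := by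
  have h0 : g • v0L = v0L := by
    rw [← v1L_add_w1L, smul_add', h1, h2]
  have hN : g ∈ N := (mem_N_iff g).mpr (P_of_fix_both g h0 h3)
  obtain ⟨σ, u, rfl⟩ := exists_of_mem_N hN
  have e1 : signFlip (support₂ u.1) (permVec σ.1 v1) = v1 := by
    have := congrArg (fun x : Lam => (x : GolayPt → ℤ)) h1
    rw [mul_smul'] at this
    exact this
  have hu : u = 0 := by
    apply Subtype.ext
    funext j
    apply zmod2_ne_one
    intro hj
    have hm : j ∈ support₂ u.1 := (mem_support₂ _ _).mpr hj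
    have := congrFun e1 j
    rw [signFlip_of_mem hm, permVec_apply] at this
    have p1 := v1_pos (σ.1.symm j)
    have p2 := v1_pos j
    omega
  rw [hu, eps_zero, one_mul] at h1 h2 ⊢
  have ha : σ.1 pa = pa := by
    apply v1_eq_five
    have := congrFun (congrArg (fun x : Lam => (x : GolayPt → ℤ)) h1) (σ.1 pa)
    rw [perm_apply] at this
    have h' : v1 (σ.1.symm (σ.1 pa)) = v1 (σ.1 pa) := this
    rw [Equiv.symm_apply_apply, v1_pa] at h'
    exact h'.symm
  have hb : σ.1 pb = pb := by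
    apply w1_eq_neg_five
    have := congrFun (congrArg (fun x : Lam => (x : GolayPt → ℤ)) h2) (σ.1 pb)
    rw [perm_apply] at this
    have h' : w1 (σ.1.symm (σ.1 pb)) = w1 (σ.1 pb) := this
    rw [Equiv.symm_apply_apply, w1_pb] at h'
    exact h'.symm
  exact ⟨⟨σ, ha, hb⟩, rfl⟩

/-- The coordinate permutations fixing the two points, in the stabiliser of `bp` in `G1`. -/
def permS : ↥M22s →* ↥(MulAction.stabilizer ↥G1 bpL) where
  toFun σ := ⟨⟨perm σ.1, perm_fix_v1 σ.1 (M22s_pa σ), perm_fix_w1 σ.1 (M22s_pb σ)⟩,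
    perm_fix_bp σ.1 (M22s_pa σ) (M22s_pb σ)⟩
  map_one' := by
    apply Subtype.ext
    apply Subtype.ext
    exact perm_one
  map_mul' σ τ := by
    apply Subtype.ext
    apply Subtype.ext
    exact perm_mul σ.1 τ.1

theorem permS_coe (σ : ↥M22s) : ((permS σ : ↥G1) : ↥Co0) = perm σ.1 := rfl

theorem permS_bijective : Function.Bijective permS := by
  constructor
  · intro σ τ h
    have h' : perm σ.1 = perm τ.1 := by
      rw [← permS_coe, ← permS_coe, h]
    have h2 : eps 0 * perm σ.1 = eps 0 * perm τ.1 := by rw [h']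
    exact Subtype.ext (mono_injective h2).1
  · intro g
    obtain ⟨σ, hσ⟩ := exists_perm_of_fix g.1.1 g.1.2.1 g.1.2.2
      (by
        have := g.2
        rw [MulAction.mem_stabilizer_iff] at this
        exact this)
    refine ⟨σ, ?_⟩
    apply Subtype.ext
    apply Subtype.ext
    rw [permS_coe, hσ]

/-- The stabiliser of `bp` in `G1` is isomorphic to the group of the permutations of the code
fixing the two points. -/
noncomputable def permEquiv : ↥M22s ≃* ↥(MulAction.stabilizer ↥G1 bpL) :=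
  MulEquiv.ofBijective permS permS_bijective

instance : IsSimpleGroup ↥(MulAction.stabilizer ↥G1 bpL) :=
  permEquiv.symm.isSimpleGroup

theorem card_stab : Nat.card ↥(MulAction.stabilizer ↥G1 bpL) = 443520 := by
  rw [← Nat.card_congr permEquiv.toEquiv]
  exact Cfsg.Agent.S0378.result pa pb pa_ne_pb

end Cfsg.Agent.Lib.Helper92_HS
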