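import Cfsg.Agent.Lib.Helper92_MaxFam

/-!
The minimal vectors of the rank-24 lattice orthogonal to `v0 = 4 e_4 - 4 e_13`, sorted by shape
and by whether they vanish at the two points: five classes, of sizes 2, 924, 4928, 42240, 45056.
-/

set_option autoImplicit false
set_option linter.constructorNameAsVariable false
open Cfsg
open scoped Pointwise

namespace Cfsg.Agent.Lib.Helper92_MaxN

open Cfsg.Agent.Lib.Helper26_Golay
open Cfsg.Agent.Lib.Helper26_Leech
open Cfsg.Agent.S0394 (sgn fO famA famB famO Par parA parB famA_eq famB_eq famA_finite famB_finite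
  famO_finite)

/-! ### the classes -/

/-- Shape `(±4, ±4, 0^22)`, orthogonal to `v0`, not vanishing at the two points. -/
def clA1 : Set (GolayPt → ℤ) := famA ∩ {w | dotInt v0 w = 0 ∧ w pa ≠ 0}

/-- Shape `(±4, ±4, 0^22)`, orthogonal to `v0`, vanishing at the two points. -/
def clA0 : Set (GolayPt → ℤ) := famA ∩ {w | dotInt v0 w = 0 ∧ w pa = 0}

/-- Shape `(±2^8, 0^16)`, orthogonal to `v0`, not vanishing at the two points. -/
def clB1 : Set (GolayPt → ℤ) := famB ∩ {w | dotInt v0 w = 0 ∧ w pa ≠ 0}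

/-- Shape `(±2^8, 0^16)`, orthogonal to `v0`, vanishing at the two points. -/
def clB0 : Set (GolayPt → ℤ) := famB ∩ {w | dotInt v0 w = 0 ∧ w pa = 0}

/-- The odd shape, orthogonal to `v0`. -/
def clO : Set (GolayPt → ℤ) := famO ∩ {w | dotInt v0 w = 0}

/-! ### totals by shape -/

theorem famA_orth_ncard : (famA ∩ {w | dotInt v0 w = 0}).ncard = 926 := by
  rw [famA_eq, ← image_filter_eq (fun p : Par => sgn 4 p.1 p.2) parA 0,
    ncard_image_filter _ _ injA, parA_filter_card, countA_0]

theorem famB_orth_ncard : (famB ∩ {w | dotInt v0 w = 0}).ncard = 47168 := by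
  rw [famB_eq, ← image_filter_eq (fun p : Par => sgn 2 p.1 p.2) parB 0,
    ncard_image_filter _ _ injB, parB_filter_card, countB_0]

theorem clO_ncard : clO.ncard = 45056 := by
  unfold clO
  rw [famO_eq', ← image_filter_eq wO parO 0, ncard_image_filter _ _ wO_injOn]
  have h := parO_filter_card 0
  rw [countO_0] at h
  have e : (-4 : ℤ) * ((0 : ℕ) : ℤ) = 0 := by norm_num
  rw [e] at h
  exact h

theorem split_ncard (F : Set (GolayPt → ℤ)) (hF : F.Finite) :
    (F ∩ {w | dotInt v0 w = 0 ∧ w pa ≠ 0}).ncard + (F ∩ {w | dotInt v0 w = 0 ∧ w pa = 0}).ncard =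
      (F ∩ {w | dotInt v0 w = 0}).ncard := by
  have hu : F ∩ {w | dotInt v0 w = 0} =
      (F ∩ {w | dotInt v0 w = 0 ∧ w pa ≠ 0}) ∪ (F ∩ {w | dotInt v0 w = 0 ∧ w pa = 0}) := by
    ext w
    constructor
    · rintro ⟨h1, h2⟩
      by_cases h : w pa = 0
      · right; exact ⟨h1, h2, h⟩
      · left; exact ⟨h1, h2, h⟩
    · rintro (⟨h1, h2, _⟩ | ⟨h1, h2, _⟩)
      · exact ⟨h1, h2⟩
      · exact ⟨h1, h2⟩
  have hd : Disjoint (F ∩ {w | dotInt v0 w = 0 ∧ w pa ≠ 0})
      (F ∩ {w | dotInt v0 w = 0 ∧ w pa = 0}) := by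
    rw [Set.disjoint_left]
    rintro w ⟨_, _, h⟩ ⟨_, _, h'⟩
    exact h h'
  rw [hu, Set.ncard_union_eq hd (hF.subset Set.inter_subset_left)
    (hF.subset Set.inter_subset_left)]

theorem clA_split : clA1.ncard + clA0.ncard = 926 := by
  unfold clA1 clA0
  rw [split_ncard famA famA_finite, famA_orth_ncard]

theorem clB_split : clB1.ncard + clB0.ncard = 47168 := by
  unfold clB1 clB0
  rw [split_ncard famB famB_finite, famB_orth_ncard]

/-! ### the class of size two -/

/-- The vector `4 e_4 + 4 e_13`. -/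
def bp : GolayPt → ℤ := sgn 4 {pa, pb} ∅

/-- The vector `-4 e_4 - 4 e_13`. -/
def bm : GolayPt → ℤ := sgn 4 {pa, pb} {pa, pb}

theorem bp_pa : bp pa = 4 :=
  Cfsg.Agent.S0394.sgn_of_mem_pos (Finset.mem_insert_self _ _) (Finset.notMem_empty _)

theorem bp_pb : bp pb = 4 :=
  Cfsg.Agent.S0394.sgn_of_mem_pos (Finset.mem_insert_of_mem (Finset.mem_singleton_self _))
    (Finset.notMem_empty _)

theorem bm_pa : bm pa = -4 :=
  Cfsg.Agent.S0394.sgn_of_mem_neg (Finset.mem_insert_self _ _) (Finset.mem_insert_self _ _)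

theorem bm_pb : bm pb = -4 :=
  Cfsg.Agent.S0394.sgn_of_mem_neg (Finset.mem_insert_of_mem (Finset.mem_singleton_self _))
    (Finset.mem_insert_of_mem (Finset.mem_singleton_self _))

theorem bp_famA : bp ∈ famA :=
  ⟨{pa, pb}, ∅, Finset.card_pair pa_ne_pb, Finset.empty_subset _, rfl⟩

theorem bm_famA : bm ∈ famA :=
  ⟨{pa, pb}, {pa, pb}, Finset.card_pair pa_ne_pb, Finset.Subset.refl _, rfl⟩

theorem bp_mem_clA1 : bp ∈ clA1 := by
  refine ⟨bp_famA, ?_, ?_⟩
  · rw [dotInt_v0, bp_pa, bp_pb]; rfl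
  · rw [bp_pa]; decide

theorem bm_mem_clA1 : bm ∈ clA1 := by
  refine ⟨bm_famA, ?_, ?_⟩
  · rw [dotInt_v0, bm_pa, bm_pb]; rfl
  · rw [bm_pa]; decide

theorem bp_ne_bm : bp ≠ bm := by
  intro h
  have := congrFun h pa
  rw [bp_pa, bm_pa] at this
  exact absurd this (by decide)

theorem bm_eq_neg : bm = -bp := by
  funext j
  show bm j = -bp j
  unfold bm bp sgn
  by_cases h : j ∈ ({pa, pb} : Finset GolayPt)
  · rw [if_pos h, if_pos h, if_pos h, if_neg (Finset.notMem_empty _)]
  · rw [if_neg h, if_neg h]; rfl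

theorem clA1_eq : clA1 = {bp, bm} := by
  ext w
  constructor
  · rintro ⟨⟨P, N, hP, hN, rfl⟩, hd, hne⟩
    rw [dotInt_v0] at hd
    have hab : sgn 4 P N pa = sgn 4 P N pb := by omega
    have hpa : pa ∈ P := by
      by_contra h
      exact hne (Cfsg.Agent.S0394.sgn_of_notMem h)
    have hpb : pb ∈ P := by
      by_contra h
      rw [Cfsg.Agent.S0394.sgn_of_notMem h] at hab
      exact hne hab
    have hPeq : ({pa, pb} : Finset GolayPt) = P := by
      apply Finset.eq_of_subset_of_card_le
      · intro x hx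
        rw [Finset.mem_insert, Finset.mem_singleton] at hx
        rcases hx with rfl | rfl
        · exact hpa
        · exact hpb
      · rw [hP, Finset.card_pair pa_ne_pb]
    subst hPeq
    by_cases ha : pa ∈ N
    · right
      have hb : pb ∈ N := by
        by_contra hb
        rw [Cfsg.Agent.S0394.sgn_of_mem_neg hpa ha, Cfsg.Agent.S0394.sgn_of_mem_pos hpb hb] at hab
        exact absurd hab (by decide)
      show sgn 4 {pa, pb} N = bm
      unfold bm
      apply Cfsg.Agent.S0400.sgn_congr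
      intro j hj
      rw [Finset.mem_insert, Finset.mem_singleton] at hj
      rcases hj with rfl | rfl
      · exact ⟨fun _ => hpa, fun _ => ha⟩
      · exact ⟨fun _ => hpb, fun _ => hb⟩
    · left
      have hb : pb ∉ N := by
        intro hb
        rw [Cfsg.Agent.S0394.sgn_of_mem_pos hpa ha, Cfsg.Agent.S0394.sgn_of_mem_neg hpb hb] at hab
        exact absurd hab (by decide)
      show sgn 4 {pa, pb} N = bp
      unfold bp
      apply Cfsg.Agent.S0400.sgn_congr
      intro j hj
      rw [Finset.mem_insert, Finset.mem_singleton] at hj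
      rcases hj with rfl | rfl
      · exact ⟨fun h => absurd h ha, fun h => absurd h (Finset.notMem_empty _)⟩
      · exact ⟨fun h => absurd h hb, fun h => absurd h (Finset.notMem_empty _)⟩
  · rintro (rfl | rfl)
    · exact bp_mem_clA1
    · exact bm_mem_clA1

theorem clA1_ncard : clA1.ncard = 2 := by
  rw [clA1_eq]
  exact Set.ncard_pair bp_ne_bm

theorem clA0_ncard : clA0.ncard = 924 := by
  have h := clA_split
  rw [clA1_ncard] at h
  omega

/-! ### the octad vectors vanishing at the two points -/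

/-- Mask version of the number of even sign patterns on an octad avoiding the two points. -/
def F0 (n : ℕ) : ℕ := if n.testBit 4 = true then 0 else if n.testBit 13 = true then 0 else 128

theorem countB0 : sumFold (fun j => F0 (octAt j)) 759 = 42240 := by decide +kernel

theorem parB_filter0_card :
    (parB.filter (fun p => pa ∉ p.1 ∧ pb ∉ p.1)).card = 42240 := by
  unfold parB
  rw [card_filter_sigma]
  have h1 : ∀ P ∈ octFinset,
      ((P.powerset.filter (fun N => Even N.card)).filter
        (fun _ => pa ∉ P ∧ pb ∉ P)).card = F0 (enc P) := by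
    intro P hP
    have hP' := (mem_octFinset_iff P).mp hP
    unfold F0
    rw [← decide_pa, ← decide_pb]
    by_cases ha : pa ∈ P
    · rw [if_pos (decide_eq_true ha), Finset.filter_false_of_mem, Finset.card_empty]
      intro N _ h
      exact h.1 ha
    · have hda : ¬ (decide (pa ∈ P) = true) := by
        rw [decide_eq_false ha]; decide
      rw [if_neg hda]
      by_cases hb : pb ∈ P
      · rw [if_pos (decide_eq_true hb), Finset.filter_false_of_mem, Finset.card_empty]
        intro N _ h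
        exact h.2 hb
      · have hdb : ¬ (decide (pb ∈ P) = true) := by
          rw [decide_eq_false hb]; decide
        rw [if_neg hdb, Finset.filter_true_of_mem (fun N _ => ⟨ha, hb⟩)]
        have hne : P.Nonempty := by
          rw [← Finset.card_pos, hP'.2]; decide
        have := Cfsg.Agent.S0394.card_even_subsets P hne
        rw [hP'.2] at this
        omega
  rw [Finset.sum_congr rfl h1]
  have hlt : ∀ j < 759, octAt j < 2 ^ 24 := fun j hj =>
    lt_of_isCode ((mem_octList_iff _).mp (List.mem_map.mpr ⟨j, List.mem_range.mpr hj, rfl⟩)).1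
  unfold octFinset octList
  rw [sum_tbl octAt 759 octList_nodup hlt (fun P => F0 (enc P)) F0
    (by intro j hj; rw [enc_dec _ (hlt j hj)])]
  exact countB0

theorem image_filter0_eq (s : Finset Par) :
    ((fun p : Par => sgn 2 p.1 p.2) '' (s : Set Par)) ∩ {w | dotInt v0 w = 0 ∧ w pa = 0} =
      (fun p : Par => sgn 2 p.1 p.2) ''
        ((s.filter (fun p => pa ∉ p.1 ∧ pb ∉ p.1) : Finset Par) : Set Par) := by
  ext w
  constructor
  · rintro ⟨⟨p, hp, rfl⟩, hd, h0⟩
    rw [dotInt_v0] at hd
    beta_reduce at hd h0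
    have h0' : sgn 2 p.1 p.2 pb = 0 := by omega
    rw [Finset.mem_coe] at hp
    refine ⟨p, ?_, rfl⟩
    rw [Finset.mem_coe, Finset.mem_filter]
    refine ⟨hp, ?_, ?_⟩
    · intro h
      rcases Cfsg.Agent.S0394.sgn_cases 2 p.1 p.2 pa with ⟨h', _⟩ | ⟨_, e | e⟩
      · exact h' h
      · rw [e] at h0; exact absurd h0 (by decide)
      · rw [e] at h0; exact absurd h0 (by decide)
    · intro h
      rcases Cfsg.Agent.S0394.sgn_cases 2 p.1 p.2 pb with ⟨h', _⟩ | ⟨_, e | e⟩
      · exact h' h
      · rw [e] at h0'; exact absurd h0' (by decide)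
      · rw [e] at h0'; exact absurd h0' (by decide)
  · rintro ⟨p, hp, rfl⟩
    rw [Finset.mem_coe, Finset.mem_filter] at hp
    have e1 : sgn 2 p.1 p.2 pa = 0 := Cfsg.Agent.S0394.sgn_of_notMem hp.2.1
    have e2 : sgn 2 p.1 p.2 pb = 0 := Cfsg.Agent.S0394.sgn_of_notMem hp.2.2
    refine ⟨⟨p, Finset.mem_coe.mpr hp.1, rfl⟩, ?_, e1⟩
    show dotInt v0 (sgn 2 p.1 p.2) = 0
    rw [dotInt_v0, e1, e2]; rfl

theorem clB0_eq : clB0 = (fun p : Par => sgn 2 p.1 p.2) ''
    ((parB.filter (fun p => pa ∉ p.1 ∧ pb ∉ p.1) : Finset Par) : Set Par) := by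
  unfold clB0
  rw [famB_eq, image_filter0_eq]

theorem clB0_ncard : clB0.ncard = 42240 := by
  rw [clB0_eq, ncard_image_filter _ _ injB, parB_filter0_card]

theorem clB1_ncard : clB1.ncard = 4928 := by
  have h := clB_split
  rw [clB0_ncard] at h
  generalize clB1.ncard = n at h ⊢
  omega

end Cfsg.Agent.Lib.Helper92_MaxN
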