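import Cfsg.Agent.Lib.Helper92_MaxN1

/-!
The three shapes of minimal vectors of the rank-24 lattice are recognised by the absolute values
of their coordinates, hence are preserved by the automorphisms preserving the standard cross
(which permute the coordinates up to signs).  A vector of sum of squares 64 whose inner products
with the vectors of shape `(±4, ±4, 0^22)` are all `0` or `±32` lies in the standard cross.
-/

set_option autoImplicit false
open Cfsg
open scoped Pointwise

namespace Cfsg.Agent.Lib.Helper92_MaxN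

open Cfsg.Agent.Lib.Helper7_M24 Cfsg.Agent.Lib.Helper7_Leech Cfsg.Agent.Lib.Helper92_Monomial
  Cfsg.Agent.Lib.Helper92_LeechMod2 Cfsg.Agent.Lib.Helper92_Co0Order
  Cfsg.Agent.Lib.Helper92_OrthPairs
open Cfsg.Agent.Lib.Helper26_Leech (pa pb v0 v0_mem v0_norm census)
open Cfsg.Agent.Lib.Helper26_Co2 (v0L permVec_v0 signFlip_v0)
open Cfsg.Agent.S5546 (Lam vec8 e8)
open Cfsg.Agent.S0394 (sgn fO famA famB famO)

/-! ### coordinates under an automorphism preserving the standard cross -/

theorem P_coord (g : ↥Co0) (hg : Cfsg.Agent.S1571.P g) :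
    ∃ σ : Equiv.Perm GolayPt, ∀ (v : Lam) (j : GolayPt),
      ((g • v : Lam) : GolayPt → ℤ) (σ j) = (v : GolayPt → ℤ) j ∨
      ((g • v : Lam) : GolayPt → ℤ) (σ j) = -(v : GolayPt → ℤ) j := by
  obtain ⟨σ, _, u, _, h⟩ := Cfsg.Agent.S1571.part1 g hg
  refine ⟨σ, fun v j => ?_⟩
  have e : ((g • v : Lam) : GolayPt → ℤ) = signedPerm σ (support₂ u) v.1 := h v
  rw [e, signedPerm_eq]
  by_cases hj : σ j ∈ support₂ u
  · right
    rw [signFlip_of_mem hj, permVec_apply, Equiv.symm_apply_apply]
  · left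
    rw [signFlip_of_notMem hj, permVec_apply, Equiv.symm_apply_apply]

/-! ### recognising the shapes -/

theorem famA_vals {x : GolayPt → ℤ} (hx : x ∈ famA) (j : GolayPt) :
    x j = 0 ∨ x j = 4 ∨ x j = -4 := by
  obtain ⟨P, N, _, _, rfl⟩ := hx
  rcases Cfsg.Agent.S0394.sgn_cases 4 P N j with ⟨_, h⟩ | ⟨_, h | h⟩
  · left; exact h
  · right; left; exact h
  · right; right; exact h

theorem famB_vals {x : GolayPt → ℤ} (hx : x ∈ famB) (j : GolayPt) :
    x j = 0 ∨ x j = 2 ∨ x j = -2 := by
  obtain ⟨P, N, _, _, _, rfl⟩ := hx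
  rcases Cfsg.Agent.S0394.sgn_cases 2 P N j with ⟨_, h⟩ | ⟨_, h | h⟩
  · left; exact h
  · right; left; exact h
  · right; right; exact h

theorem famO_odd {x : GolayPt → ℤ} (hx : x ∈ famO) (j : GolayPt) : ¬ 2 ∣ x j := by
  obtain ⟨i, u, _, rfl⟩ := hx
  exact Cfsg.Agent.S0394.fO_odd i u j

theorem famA_natAbs {x : GolayPt → ℤ} (hx : x ∈ famA) : ∃ j, (x j).natAbs = 4 := by
  obtain ⟨P, N, hP, _, rfl⟩ := hx
  have hne : P.Nonempty := by
    rw [← Finset.card_pos, hP]; decide
  obtain ⟨j, hj⟩ := hne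
  refine ⟨j, ?_⟩
  rcases Cfsg.Agent.S0394.sgn_cases 4 P N j with ⟨h0, _⟩ | ⟨_, h | h⟩
  · exact absurd hj h0
  · rw [h]; rfl
  · rw [h]; rfl

theorem famB_natAbs {x : GolayPt → ℤ} (hx : x ∈ famB) : ∃ j, (x j).natAbs = 2 := by
  obtain ⟨P, N, hP, _, _, rfl⟩ := hx
  have hne : P.Nonempty := by
    rw [← Finset.card_pos, hP.2]; decide
  obtain ⟨j, hj⟩ := hne
  refine ⟨j, ?_⟩
  rcases Cfsg.Agent.S0394.sgn_cases 2 P N j with ⟨h0, _⟩ | ⟨_, h | h⟩
  · exact absurd hj h0
  · rw [h]; rfl
  · rw [h]; rfl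

theorem mem_fams {x : GolayPt → ℤ} (hx : x ∈ leechLattice) (hn : sqNorm x = 32) :
    x ∈ famA ∨ x ∈ famB ∨ x ∈ famO := by
  have h : x ∈ {x : GolayPt → ℤ | x ∈ leechLattice ∧ sqNorm x = 32} := ⟨hx, hn⟩
  rw [Cfsg.Agent.S0394.set_eq] at h
  rcases h with (h | h) | h
  · left; exact h
  · right; left; exact h
  · right; right; exact h

theorem mem_famA_of {x : GolayPt → ℤ} (hx : x ∈ leechLattice) (hn : sqNorm x = 32)
    (h : ∃ j, (x j).natAbs = 4) : x ∈ famA := by
  obtain ⟨j, hj⟩ := h
  rcases mem_fams hx hn with h | h | h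
  · exact h
  · exfalso
    rcases famB_vals h j with e | e | e <;> rw [e] at hj <;> revert hj <;> decide
  · exfalso
    apply famO_odd h j
    rcases Int.natAbs_eq (x j) with e | e <;> rw [hj] at e <;> rw [e] <;> decide

theorem mem_famB_of {x : GolayPt → ℤ} (hx : x ∈ leechLattice) (hn : sqNorm x = 32)
    (h : ∃ j, (x j).natAbs = 2) : x ∈ famB := by
  obtain ⟨j, hj⟩ := h
  rcases mem_fams hx hn with h | h | h
  · exfalso
    rcases famA_vals h j with e | e | e <;> rw [e] at hj <;> revert hj <;> decide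
  · exact h
  · exfalso
    apply famO_odd h j
    rcases Int.natAbs_eq (x j) with e | e <;> rw [hj] at e <;> rw [e] <;> decide

theorem mem_famO_of {x : GolayPt → ℤ} (hx : x ∈ leechLattice) (hn : sqNorm x = 32)
    (h : ∃ j, ¬ 2 ∣ x j) : x ∈ famO := by
  obtain ⟨j, hj⟩ := h
  rcases mem_fams hx hn with h | h | h
  · exfalso
    apply hj
    rcases famA_vals h j with e | e | e <;> rw [e] <;> decide
  · exfalso
    apply hj
    rcases famB_vals h j with e | e | e <;> rw [e] <;> decide
  · exact h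

theorem fam_mem_lattice {x : GolayPt → ℤ} (h : x ∈ famA ∨ x ∈ famB ∨ x ∈ famO) :
    x ∈ leechLattice ∧ sqNorm x = 32 := by
  have h' : x ∈ {x : GolayPt → ℤ | x ∈ leechLattice ∧ sqNorm x = 32} := by
    rw [Cfsg.Agent.S0394.set_eq]
    rcases h with h | h | h
    · left; left; exact h
    · left; right; exact h
    · right; exact h
  exact h'

/-! ### the shapes are preserved -/

theorem P_famA (g : ↥Co0) (hg : Cfsg.Agent.S1571.P g) (v : Lam)
    (hv : (v : GolayPt → ℤ) ∈ famA) : ((g • v : Lam) : GolayPt → ℤ) ∈ famA := by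
  obtain ⟨σ, hσ⟩ := P_coord g hg
  have hn := (fam_mem_lattice (Or.inl hv)).2
  apply mem_famA_of (g • v).2 (by rw [sqNorm_smul]; exact hn)
  obtain ⟨j, hj⟩ := famA_natAbs hv
  refine ⟨σ j, ?_⟩
  rcases hσ v j with e | e
  · rw [e]; exact hj
  · rw [e, Int.natAbs_neg]; exact hj

theorem P_famB (g : ↥Co0) (hg : Cfsg.Agent.S1571.P g) (v : Lam)
    (hv : (v : GolayPt → ℤ) ∈ famB) : ((g • v : Lam) : GolayPt → ℤ) ∈ famB := by
  obtain ⟨σ, hσ⟩ := P_coord g hg
  have hn := (fam_mem_lattice (Or.inr (Or.inl hv))).2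
  apply mem_famB_of (g • v).2 (by rw [sqNorm_smul]; exact hn)
  obtain ⟨j, hj⟩ := famB_natAbs hv
  refine ⟨σ j, ?_⟩
  rcases hσ v j with e | e
  · rw [e]; exact hj
  · rw [e, Int.natAbs_neg]; exact hj

theorem P_famO (g : ↥Co0) (hg : Cfsg.Agent.S1571.P g) (v : Lam)
    (hv : (v : GolayPt → ℤ) ∈ famO) : ((g • v : Lam) : GolayPt → ℤ) ∈ famO := by
  obtain ⟨σ, hσ⟩ := P_coord g hg
  have hn := (fam_mem_lattice (Or.inr (Or.inr hv))).2
  apply mem_famO_of (g • v).2 (by rw [sqNorm_smul]; exact hn)
  refine ⟨σ pa, ?_⟩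
  have hodd := famO_odd hv pa
  rcases hσ v pa with e | e
  · rw [e]; exact hodd
  · rw [e, dvd_neg]; exact hodd

/-! ### recognising the standard cross -/

/-- A vector of sum of squares 64 all of whose inner products with the vectors `±4 e_i ± 4 e_j`
are `0` or `±32` is `±8 e_m`. -/
theorem cross_of_dots (z : GolayPt → ℤ) (hn : sqNorm z = 64)
    (hd : ∀ y ∈ famA, dotInt z y = 0 ∨ dotInt z y = 32 ∨ dotInt z y = -32) : z ∈ stdCross := by
  -- the constraints on pairs of coordinates
  have hpair : ∀ i j : GolayPt, i ≠ j →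
      (z i + z j = 0 ∨ z i + z j = 8 ∨ z i + z j = -8) ∧
      (z i - z j = 0 ∨ z i - z j = 8 ∨ z i - z j = -8) := by
    intro i j hij
    have hcard : ({i, j} : Finset GolayPt).card = 2 := Finset.card_pair hij
    have h1 := hd (sgn 4 {i, j} ∅) ⟨{i, j}, ∅, hcard, Finset.empty_subset _, rfl⟩
    have h2 := hd (sgn 4 {i, j} {j}) ⟨{i, j}, {j}, hcard, by
      intro x hx
      rw [Finset.mem_singleton] at hx
      rw [hx]; exact Finset.mem_insert_of_mem (Finset.mem_singleton_self _), rfl⟩
    have e1 : dotInt z (sgn 4 {i, j} ∅) = 4 * z i + 4 * z j := by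
      unfold dotInt
      have : ∀ k, z k * sgn 4 {i, j} ∅ k =
          (if k = i then 4 * z k else 0) + (if k = j then 4 * z k else 0) := by
        intro k
        unfold sgn
        by_cases hki : k = i
        · subst hki
          simp [hij]
          ring
        · by_cases hkj : k = j
          · subst hkj
            simp [hki]
            ring
          · simp [hki, hkj]
      rw [Finset.sum_congr rfl (fun k _ => this k), Finset.sum_add_distrib,
        Finset.sum_ite_eq' Finset.univ i, Finset.sum_ite_eq' Finset.univ j,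
        if_pos (Finset.mem_univ _), if_pos (Finset.mem_univ _)]
    have e2 : dotInt z (sgn 4 {i, j} {j}) = 4 * z i - 4 * z j := by
      unfold dotInt
      have : ∀ k, z k * sgn 4 {i, j} {j} k =
          (if k = i then 4 * z k else 0) + (if k = j then -4 * z k else 0) := by
        intro k
        unfold sgn
        by_cases hki : k = i
        · subst hki
          simp [hij]
          ring
        · by_cases hkj : k = j
          · subst hkj
            simp [hki]
            ring
          · simp [hki, hkj]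
      rw [Finset.sum_congr rfl (fun k _ => this k), Finset.sum_add_distrib,
        Finset.sum_ite_eq' Finset.univ i, Finset.sum_ite_eq' Finset.univ j,
        if_pos (Finset.mem_univ _), if_pos (Finset.mem_univ _)]
      ring
    rw [e1] at h1
    rw [e2] at h2
    constructor
    · rcases h1 with h | h | h
      · left; omega
      · right; left; omega
      · right; right; omega
    · rcases h2 with h | h | h
      · left; omega
      · right; left; omega
      · right; right; omega
  -- a nonzero coordinate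
  have hex : ∃ m, z m ≠ 0 := by
    by_contra hcon
    have h0 : ∀ m, z m = 0 := by
      intro m
      by_contra hm
      exact hcon ⟨m, hm⟩
    have : sqNorm z = 0 := by
      unfold sqNorm
      apply Finset.sum_eq_zero
      intro m _
      rw [h0 m]; rfl
    rw [this] at hn
    exact absurd hn (by decide)
  obtain ⟨m, hm⟩ := hex
  -- the other coordinates
  have hcases : (z m = 8 ∨ z m = -8) ∧ (∀ j, j ≠ m → z j = 0) ∨
      ((z m = 4 ∨ z m = -4) ∧ ∀ j, j ≠ m → (z j = 4 ∨ z j = -4)) := by
    obtain ⟨j0, hj0⟩ : ∃ j0 : GolayPt, j0 ≠ m := exists_ne m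
    have hm4 : z m = 8 ∨ z m = -8 ∨ z m = 4 ∨ z m = -4 := by
      obtain ⟨h1, h2⟩ := hpair m j0 hj0.symm
      rcases h1 with h1 | h1 | h1 <;> rcases h2 with h2 | h2 | h2 <;> omega
    rcases hm4 with h | h | h | h
    · left
      refine ⟨Or.inl h, fun j hj => ?_⟩
      obtain ⟨h1, h2⟩ := hpair m j hj.symm
      rcases h1 with h1 | h1 | h1 <;> rcases h2 with h2 | h2 | h2 <;> omega
    · left
      refine ⟨Or.inr h, fun j hj => ?_⟩
      obtain ⟨h1, h2⟩ := hpair m j hj.symm
      rcases h1 with h1 | h1 | h1 <;> rcases h2 with h2 | h2 | h2 <;> omega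
    · right
      refine ⟨Or.inl h, fun j hj => ?_⟩
      obtain ⟨h1, h2⟩ := hpair m j hj.symm
      rcases h1 with h1 | h1 | h1 <;> rcases h2 with h2 | h2 | h2 <;> omega
    · right
      refine ⟨Or.inr h, fun j hj => ?_⟩
      obtain ⟨h1, h2⟩ := hpair m j hj.symm
      rcases h1 with h1 | h1 | h1 <;> rcases h2 with h2 | h2 | h2 <;> omega
  rcases hcases with ⟨h8, h0⟩ | ⟨h4, h4'⟩
  · refine ⟨m, z m, ?_, ?_⟩
    · rcases h8 with h | h
      · left; exact h
      · right; exact h
    · funext k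
      by_cases hk : k = m
      · rw [hk, Pi.single_eq_same]
      · rw [Pi.single_eq_of_ne hk, h0 k hk]
  · exfalso
    have hsq : ∀ k, z k ^ 2 = 16 := by
      intro k
      by_cases hk : k = m
      · rw [hk]
        rcases h4 with h | h <;> rw [h] <;> rfl
      · rcases h4' k hk with h | h <;> rw [h] <;> rfl
    have : sqNorm z = 384 := by
      unfold sqNorm
      rw [Finset.sum_congr rfl (fun k _ => hsq k), Finset.sum_const, Finset.card_univ,
        Cfsg.Agent.S0394.card_golayPt]
      rfl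
    rw [this] at hn
    exact absurd hn (by decide)

end Cfsg.Agent.Lib.Helper92_MaxN
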