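import Cfsg.Agent.Lib.Helper92_MaxStep

/-!
A group of automorphisms of the rank-24 lattice that properly contains the stabiliser of the
standard cross is the whole automorphism group: it is transitive on the minimal vectors, the
stabiliser of `v0` in it is transitive on the minimal vectors orthogonal to `v0`, and then every
automorphism can be brought into the stabiliser of the standard cross.
-/

set_option autoImplicit false
set_option linter.constructorNameAsVariable false
open Cfsg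
open scoped Pointwise

namespace Cfsg.Agent.Lib.Helper92_MaxN

open Cfsg.Agent.Lib.Helper7_M24 Cfsg.Agent.Lib.Helper7_Leech Cfsg.Agent.Lib.Helper92_Monomial
  Cfsg.Agent.Lib.Helper92_LeechMod2 Cfsg.Agent.Lib.Helper92_Co0Order
  Cfsg.Agent.Lib.Helper92_OrthPairs
open Cfsg.Agent.Lib.Helper26_Leech (pa pb pa_ne_pb v0 v0_apply dotInt_v0 v0_mem v0_norm census)
open Cfsg.Agent.Lib.Helper26_Co2 (v0L permVec_v0 signFlip_v0)
open Cfsg.Agent.Lib.Helper92_MaxRel (MonoRel)
open Cfsg.Agent.Lib.Helper92_MaxRel2 (StabRel)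
open Cfsg.Agent.S5546 (Lam vec8 e8)
open Cfsg.Agent.S0394 (sgn fO famA famB famO)

/-! ### arithmetic -/

theorem arith3 : ∀ b1 b2 : Bool,
    (1104 + (if b1 = true then 97152 else 0) + (if b2 = true then 98304 else 0)) ∣
      8315553613086720000 → b1 = b2 := by
  decide +kernel

theorem arith5 : ∀ b1 b2 b3 b4 : Bool,
    (2 + (if b1 = true then 924 else 0) + (if b2 = true then 4928 else 0) +
      (if b3 = true then 42240 else 0) + (if b4 = true then 45056 else 0)) ∣ 42305421312000 →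
    (b1 = true ∧ b2 = true ∧ b3 = true ∧ b4 = true) ∨
      (b1 = false ∧ b2 = false ∧ b3 = false ∧ b4 = false) := by
  decide +kernel

/-! ### the three shapes as classes -/

/-- The three shapes of minimal vectors. -/
def Cl3 : Fin 3 → Set (GolayPt → ℤ)
  | 0 => famA
  | 1 => famB
  | 2 => famO

theorem Cl3_finite : ∀ i, (Cl3 i).Finite := by
  intro i
  fin_cases i
  · exact Cfsg.Agent.S0394.famA_finite
  · exact Cfsg.Agent.S0394.famB_finite
  · exact Cfsg.Agent.S0394.famO_finite

theorem disj_AO : Disjoint famA famO :=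
  (Set.disjoint_union_left.mp Cfsg.Agent.S0394.disj_ABO).1

theorem disj_BO : Disjoint famB famO :=
  (Set.disjoint_union_left.mp Cfsg.Agent.S0394.disj_ABO).2

theorem Cl3_disj : ∀ i j, i ≠ j → Disjoint (Cl3 i) (Cl3 j) := by
  intro i j hij
  fin_cases i <;> fin_cases j
  · exact absurd rfl hij
  · exact Cfsg.Agent.S0394.disj_AB
  · exact disj_AO
  · exact Cfsg.Agent.S0394.disj_AB.symm
  · exact absurd rfl hij
  · exact disj_BO
  · exact disj_AO.symm
  · exact disj_BO.symm
  · exact absurd rfl hij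

theorem v0_famA : v0 ∈ famA := by
  refine ⟨{pa, pb}, {pb}, Finset.card_pair pa_ne_pb, ?_, rfl⟩
  intro x hx
  rw [Finset.mem_singleton] at hx
  rw [hx]
  exact Finset.mem_insert_of_mem (Finset.mem_singleton_self _)

theorem Cl3_homog {K : Subgroup ↥Co0} (hK : Contains K) :
    ∀ i, ∀ y ∈ Cl3 i, ∀ y' ∈ Cl3 i, RK K y y' := by
  have hR := monoRel hK
  intro i
  fin_cases i
  · rintro _ ⟨P, N, hP, hN, rfl⟩ _ ⟨P', N', hP', hN', rfl⟩
    exact RK.trans (Cfsg.Agent.Lib.Helper92_MaxRel.rel_famA hR P N hP hN)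
      (RK.symm (Cfsg.Agent.Lib.Helper92_MaxRel.rel_famA hR P' N' hP' hN'))
  · rintro _ ⟨P, N, hP, hN, hE, rfl⟩ _ ⟨P', N', hP', hN', hE', rfl⟩
    exact RK.trans (Cfsg.Agent.Lib.Helper92_MaxRel.rel_famB hR P N hP hN hE)
      (RK.symm (Cfsg.Agent.Lib.Helper92_MaxRel.rel_famB hR P' N' hP' hN' hE'))
  · rintro _ ⟨i, u, hu, rfl⟩ _ ⟨i', u', hu', rfl⟩
    exact RK.trans (Cfsg.Agent.Lib.Helper92_MaxRel.rel_famO hR i u hu)
      (RK.symm (Cfsg.Agent.Lib.Helper92_MaxRel.rel_famO hR i' u' hu'))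

theorem dotInt_single (i : GolayPt) (s : ℤ) (y : GolayPt → ℤ) :
    dotInt (Pi.single i s : GolayPt → ℤ) y = s * y i := by
  unfold dotInt
  rw [Finset.sum_eq_single i (fun j _ hj => by rw [Pi.single_eq_of_ne hj, zero_mul])
    (fun h => absurd (Finset.mem_univ i) h), Pi.single_eq_same]

/-! ### first step: transitivity on the minimal vectors -/

theorem step1 {K : Subgroup ↥Co0} (hK : Contains K) (hk : ∃ k ∈ K, ¬ Cfsg.Agent.S1571.P k) :
    ∀ y, y ∈ leechLattice → sqNorm y = 32 → RK K v0 y := by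
  have hcov : {y : GolayPt → ℤ | RK K v0 y} ⊆ ⋃ i, Cl3 i := by
    intro y hy
    have hy' : RK K v0 y := hy
    rcases mem_fams hy'.mem_right (by rw [hy'.sqNorm_eq]; exact v0_norm) with h | h | h
    · exact Set.mem_iUnion.mpr ⟨0, h⟩
    · exact Set.mem_iUnion.mpr ⟨1, h⟩
    · exact Set.mem_iUnion.mpr ⟨2, h⟩
  obtain ⟨e, he1, he0, hsum⟩ := ncard_of_classes {y : GolayPt → ℤ | RK K v0 y} Cl3 Cl3_finite
    Cl3_disj hcov
    (fun i => dich_of_homog (RK K) (fun h1 h2 => RK.trans h1 h2) v0 (Cl3 i) (Cl3_homog hK i))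
  have h0 : e 0 = true := by
    by_contra h
    have h' : e 0 = false := by
      cases hh : e 0
      · rfl
      · exact absurd hh h
    exact Set.disjoint_left.mp (he0 0 h') v0_famA (RK.refl v0_mem)
  have hsum' : {y : GolayPt → ℤ | RK K v0 y}.ncard =
      1104 + (if e 1 = true then 97152 else 0) + (if e 2 = true then 98304 else 0) := by
    rw [hsum, Fin.sum_univ_three, if_pos h0]
    show famA.ncard + (if e 1 = true then famB.ncard else 0) +
      (if e 2 = true then famO.ncard else 0) = _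
    rw [Cfsg.Agent.S0394.famA_ncard, Cfsg.Agent.S0394.famB_ncard, Cfsg.Agent.S0394.famO_ncard]
  have hdvd : {y : GolayPt → ℤ | RK K v0 y}.ncard ∣ 8315553613086720000 := by
    rw [← Cfsg.Agent.S0397.result]
    exact (RK_ncard_dvd K v0L).trans (Subgroup.card_subgroup_dvd_card K)
  rw [hsum'] at hdvd
  have h12 := arith3 (e 1) (e 2) hdvd
  cases h1 : e 1
  · -- the orbit is the first shape: impossible
    exfalso
    have h2 : e 2 = false := by rw [← h12, h1]
    obtain ⟨k, hkK, hkP⟩ := hk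
    apply hkP
    intro v hv
    obtain ⟨i, s, hs, hvs⟩ := hv
    apply cross_of_dots
    · rw [sqNorm_smul, hvs, sqNorm_single]
      rcases hs with rfl | rfl <;> rfl
    · intro y hy
      have hyO : RK K v0 y := he1 0 h0 hy
      have hyL : y ∈ leechLattice := famA_sub hy
      have hy' : RK K v0 ((k⁻¹ • (⟨y, hyL⟩ : Lam) : Lam) : GolayPt → ℤ) :=
        RK.trans hyO ⟨k⁻¹, K.inv_mem hkK, hyL, rfl⟩
      have hfam : ((k⁻¹ • (⟨y, hyL⟩ : Lam) : Lam) : GolayPt → ℤ) ∈ famA := by
        rcases mem_fams hy'.mem_right (by rw [hy'.sqNorm_eq]; exact v0_norm) with h | h | h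
        · exact h
        · exact absurd hy' (Set.disjoint_left.mp (he0 1 h1) h)
        · exact absurd hy' (Set.disjoint_left.mp (he0 2 h2) h)
      have hdot := Cfsg.Agent.S5593.dot_smul k v (k⁻¹ • (⟨y, hyL⟩ : Lam))
      rw [smul_inv_smul] at hdot
      have hy1 : ((⟨y, hyL⟩ : Lam) : GolayPt → ℤ) = y := rfl
      rw [hy1] at hdot
      rw [hdot, hvs, dotInt_single]
      rcases famA_vals hfam i with h | h | h <;> rw [h] <;> rcases hs with rfl | rfl
      · left; rfl
      · left; rfl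
      · right; left; rfl
      · right; right; rfl
      · right; right; rfl
      · right; left; rfl
  · have h2 : e 2 = true := by rw [← h12, h1]
    intro y hy hn
    rcases mem_fams hy hn with h | h | h
    · exact he1 0 h0 h
    · exact he1 1 h1 h
    · exact he1 2 h2 h

/-! ### the five classes -/

/-- The five classes of minimal vectors orthogonal to `v0`. -/
def Cl5 : Fin 5 → Set (GolayPt → ℤ)
  | 0 => clA1
  | 1 => clA0
  | 2 => clB1
  | 3 => clB0
  | 4 => clO

theorem Cl5_finite : ∀ i, (Cl5 i).Finite := by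
  intro i
  fin_cases i
  · exact Cfsg.Agent.S0394.famA_finite.subset Set.inter_subset_left
  · exact Cfsg.Agent.S0394.famA_finite.subset Set.inter_subset_left
  · exact Cfsg.Agent.S0394.famB_finite.subset Set.inter_subset_left
  · exact Cfsg.Agent.S0394.famB_finite.subset Set.inter_subset_left
  · exact Cfsg.Agent.S0394.famO_finite.subset Set.inter_subset_left

theorem disj_inter {X : Type*} {F G : Set X} (h : Disjoint F G) (p q : Set X) :
    Disjoint (F ∩ p) (G ∩ q) :=
  Set.disjoint_of_subset Set.inter_subset_left Set.inter_subset_left h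

theorem disj_A10 : Disjoint clA1 clA0 := by
  rw [Set.disjoint_left]
  rintro w ⟨_, _, h⟩ ⟨_, _, h'⟩
  exact h h'

theorem disj_B10 : Disjoint clB1 clB0 := by
  rw [Set.disjoint_left]
  rintro w ⟨_, _, h⟩ ⟨_, _, h'⟩
  exact h h'

theorem Cl5_disj : ∀ i j, i ≠ j → Disjoint (Cl5 i) (Cl5 j) := by
  intro i j hij
  fin_cases i <;> fin_cases j
  · exact absurd rfl hij
  · exact disj_A10
  · exact disj_inter Cfsg.Agent.S0394.disj_AB _ _
  · exact disj_inter Cfsg.Agent.S0394.disj_AB _ _
  · exact disj_inter disj_AO _ _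
  · exact disj_A10.symm
  · exact absurd rfl hij
  · exact disj_inter Cfsg.Agent.S0394.disj_AB _ _
  · exact disj_inter Cfsg.Agent.S0394.disj_AB _ _
  · exact disj_inter disj_AO _ _
  · exact disj_inter Cfsg.Agent.S0394.disj_AB.symm _ _
  · exact disj_inter Cfsg.Agent.S0394.disj_AB.symm _ _
  · exact absurd rfl hij
  · exact disj_B10
  · exact disj_inter disj_BO _ _
  · exact disj_inter Cfsg.Agent.S0394.disj_AB.symm _ _
  · exact disj_inter Cfsg.Agent.S0394.disj_AB.symm _ _
  · exact disj_B10.symm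
  · exact absurd rfl hij
  · exact disj_inter disj_BO _ _
  · exact disj_inter disj_AO.symm _ _
  · exact disj_inter disj_AO.symm _ _
  · exact disj_inter disj_BO.symm _ _
  · exact disj_inter disj_BO.symm _ _
  · exact absurd rfl hij

theorem Cl5_homog {K : Subgroup ↥Co0} (hK : Contains K) :
    ∀ i, ∀ y ∈ Cl5 i, ∀ y' ∈ Cl5 i, RsK K y y' := by
  intro i
  fin_cases i
  · exact homog_clA1 hK
  · exact homog_clA0 hK
  · exact homog_clB1 hK
  · exact homog_clB0 hK
  · exact homog_clO hK

theorem Cl5_cover {w : GolayPt → ℤ} (hw : w ∈ leechLattice) (hn : sqNorm w = 32)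
    (hd : dotInt v0 w = 0) : ∃ i, w ∈ Cl5 i := by
  rcases mem_fams hw hn with h | h | h
  · by_cases h0 : w pa = 0
    · exact ⟨1, h, hd, h0⟩
    · exact ⟨0, h, hd, h0⟩
  · by_cases h0 : w pa = 0
    · exact ⟨3, h, hd, h0⟩
    · exact ⟨2, h, hd, h0⟩
  · exact ⟨4, h, hd⟩

/-! ### the standard cross through `8 e_4` -/

/-- `4 e_4 + 4 e_13`, as an element of the lattice. -/
def bpL : Lam := ⟨bp, famA_sub bp_famA⟩

theorem e8_pa_eq : e8 pa = v0L + bpL := by
  apply Subtype.ext
  funext j
  show vec8 pa j = v0 j + bp j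
  unfold vec8
  rw [v0_apply]
  by_cases hja : j = pa
  · subst hja
    rw [if_pos rfl, if_pos rfl, if_neg pa_ne_pb, bp_pa]
    rfl
  · by_cases hjb : j = pb
    · subst hjb
      rw [if_neg hja, if_neg hja, if_pos rfl, bp_pb]
      rfl
    · rw [if_neg hja, if_neg hja, if_neg hjb]
      have : bp j = 0 := by
        apply Cfsg.Agent.S0394.sgn_of_notMem
        rw [Finset.mem_insert, Finset.mem_singleton]
        rintro (h | h)
        · exact hja h
        · exact hjb h
      rw [this]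
      rfl

theorem P_of_smul_e8 (g : ↥Co0) (i : GolayPt)
    (h : ((g • e8 i : Lam) : GolayPt → ℤ) ∈ stdCross) : Cfsg.Agent.S1571.P g := by
  rw [← mem_stabilizer_iff, MulAction.mem_stabilizer_iff]
  have h1 : e8 i ∈ X0 := stdCross_sub _ (Cfsg.Agent.S1571.vec8_mem_stdCross i)
  have h2 : g • e8 i ∈ X0 := stdCross_sub _ h
  have e1 : X0 = crossOf (e8 i) := (crossOf_congr h1.2).symm
  have e2 : crossOf (g • e8 i) = X0 := crossOf_congr h2.2
  nth_rewrite 1 [e1]
  rw [smul_crossOf, e2]

theorem P_of_fix (s : ↥Co0) (hs0 : s • v0L = v0L)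
    (hs : ((s • bpL : Lam) : GolayPt → ℤ) = bp ∨ ((s • bpL : Lam) : GolayPt → ℤ) = bm) :
    Cfsg.Agent.S1571.P s := by
  apply P_of_smul_e8 s pa
  rw [e8_pa_eq, smul_add', hs0]
  show (v0 + ((s • bpL : Lam) : GolayPt → ℤ)) ∈ stdCross
  rcases hs with h | h
  · rw [h]
    have : v0 + bp = ((e8 pa : Lam) : GolayPt → ℤ) := by
      rw [e8_pa_eq]; rfl
    rw [this]
    exact Cfsg.Agent.S1571.vec8_mem_stdCross pa
  · rw [h]
    refine ⟨pb, -8, Or.inr rfl, ?_⟩
    funext j
    show v0 j + bm j = _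
    rw [v0_apply]
    by_cases hja : j = pa
    · subst hja
      rw [if_pos rfl, if_neg pa_ne_pb, bm_pa, Pi.single_eq_of_ne pa_ne_pb]
      rfl
    · by_cases hjb : j = pb
      · subst hjb
        rw [if_neg hja, if_pos rfl, bm_pb, Pi.single_eq_same]
        rfl
      · rw [if_neg hja, if_neg hjb, Pi.single_eq_of_ne hjb]
        have : bm j = 0 := by
          apply Cfsg.Agent.S0394.sgn_of_notMem
          rw [Finset.mem_insert, Finset.mem_singleton]
          rintro (h | h)
          · exact hja h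
          · exact hjb h
        rw [this]
        rfl

/-! ### second step: the stabiliser of `v0` is transitive on the orthogonal minimal vectors -/

theorem step2 {H K : Subgroup ↥Co0} (hH : ∀ g, g ∈ H ↔ Cfsg.Agent.S1571.P g) (hHK : H ≤ K)
    (htrans : ∀ y, y ∈ leechLattice → sqNorm y = 32 → RK K v0 y) :
    ∀ w, w ∈ leechLattice → sqNorm w = 32 → dotInt v0 w = 0 → RsK K bp w := by
  have hK : Contains K := fun g hg => hHK ((hH g).mpr hg)
  have hbpL : bp ∈ leechLattice := famA_sub bp_famA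
  have hcov : {y : GolayPt → ℤ | RsK K bp y} ⊆ ⋃ i, Cl5 i := by
    intro y hy
    have hy' : RsK K bp y := hy
    have hn : sqNorm y = 32 := by
      rw [hy'.sqNorm_eq]
      exact (fam_mem_lattice (Or.inl bp_famA)).2
    have hd : dotInt v0 y = 0 := by
      rw [hy'.dot_eq]
      exact bp_mem_clA1.2.1
    obtain ⟨i, hi⟩ := Cl5_cover hy'.mem_right hn hd
    exact Set.mem_iUnion.mpr ⟨i, hi⟩
  obtain ⟨e, he1, he0, hsum⟩ := ncard_of_classes {y : GolayPt → ℤ | RsK K bp y} Cl5 Cl5_finite
    Cl5_disj hcov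
    (fun i => dich_of_homog (RsK K) (fun h1 h2 => RsK.trans h1 h2) bp (Cl5 i) (Cl5_homog hK i))
  have h0 : e 0 = true := by
    by_contra h
    have h' : e 0 = false := by
      cases hh : e 0
      · rfl
      · exact absurd hh h
    exact Set.disjoint_left.mp (he0 0 h') bp_mem_clA1 (RsK.refl hbpL)
  have hsum' : {y : GolayPt → ℤ | RsK K bp y}.ncard =
      2 + (if e 1 = true then 924 else 0) + (if e 2 = true then 4928 else 0) +
        (if e 3 = true then 42240 else 0) + (if e 4 = true then 45056 else 0) := by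
    rw [hsum, Fin.sum_univ_five, if_pos h0]
    show clA1.ncard + (if e 1 = true then clA0.ncard else 0) +
      (if e 2 = true then clB1.ncard else 0) + (if e 3 = true then clB0.ncard else 0) +
      (if e 4 = true then clO.ncard else 0) = _
    rw [clA1_ncard, clA0_ncard, clB1_ncard, clB0_ncard, clO_ncard]
  have hdvd := RsK_ncard_dvd K bpL
  have hbp1 : ((bpL : Lam) : GolayPt → ℤ) = bp := rfl
  rw [hbp1, hsum'] at hdvd
  rcases arith5 (e 1) (e 2) (e 3) (e 4) hdvd with ⟨h1, h2, h3, h4⟩ | ⟨h1, h2, h3, h4⟩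
  · intro w hw hn hd
    obtain ⟨i, hi⟩ := Cl5_cover hw hn hd
    fin_cases i
    · exact he1 0 h0 hi
    · exact he1 1 h1 hi
    · exact he1 2 h2 hi
    · exact he1 3 h3 hi
    · exact he1 4 h4 hi
  · -- the orbit is `{bp, bm}`: impossible
    exfalso
    have hsub : K ⊓ T0 ≤ H := by
      intro s hs
      rw [hH]
      have hsK : s ∈ K := hs.1
      have hs0 : s • v0L = v0L := hs.2
      apply P_of_fix s hs0
      have hO : RsK K bp ((s • bpL : Lam) : GolayPt → ℤ) := ⟨s, hsK, hs0, hbpL, rfl⟩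
      obtain ⟨i, hi⟩ := Set.mem_iUnion.mp (hcov hO)
      have hi0 : i = 0 := by
        by_contra hne
        have hfalse : e i = false := by
          fin_cases i
          · exact absurd rfl hne
          · exact h1
          · exact h2
          · exact h3
          · exact h4
        exact Set.disjoint_left.mp (he0 i hfalse) hi hO
      rw [hi0] at hi
      have hi' : ((s • bpL : Lam) : GolayPt → ℤ) ∈ clA1 := hi
      rw [clA1_eq] at hi'
      exact hi'
    -- Lagrange
    have hKidx : T0.relIndex K = 196560 := by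
      unfold T0
      rw [relIndex_stab K v0L]
      have : {y : GolayPt → ℤ | RK K ((v0L : Lam) : GolayPt → ℤ) y} =
          {x : GolayPt → ℤ | x ∈ leechLattice ∧ sqNorm x = 32} := by
        ext y
        constructor
        · intro h
          have h' : RK K v0 y := h
          exact ⟨h'.mem_right, by rw [h'.sqNorm_eq]; exact v0_norm⟩
        · rintro ⟨hy, hn⟩
          exact htrans y hy hn
      rw [this]
      exact Cfsg.Agent.S0394.result
    have hHc : Contains H := fun g hg => (hH g).mpr hg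
    have hHidx : T0.relIndex H = 1104 := by
      unfold T0
      rw [relIndex_stab H v0L]
      have : {y : GolayPt → ℤ | RK H ((v0L : Lam) : GolayPt → ℤ) y} = famA := by
        ext y
        constructor
        · rintro ⟨g, hg, hx, rfl⟩
          exact P_famA g ((hH g).mp hg) _ v0_famA
        · intro hy
          exact Cl3_homog hHc 0 v0 v0_famA y hy
      rw [this]
      exact Cfsg.Agent.S0394.famA_ncard
    have hinf : K ⊓ T0 = H ⊓ T0 :=
      le_antisymm (le_inf hsub inf_le_right) (inf_le_inf_right T0 hHK)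
    have hmul := Subgroup.relIndex_mul_relIndex (K ⊓ T0) H K hsub hHK
    rw [Subgroup.inf_relIndex_left, hKidx, hinf, Subgroup.inf_relIndex_left, hHidx] at hmul
    omega

/-! ### the conclusion -/

theorem main (H K : Subgroup ↥Co0) (hH : ∀ g, g ∈ H ↔ Cfsg.Agent.S1571.P g) (hHK : H ≤ K)
    (hk : ∃ k ∈ K, k ∉ H) : K = ⊤ := by
  have hK : Contains K := fun g hg => hHK ((hH g).mpr hg)
  have hk' : ∃ k ∈ K, ¬ Cfsg.Agent.S1571.P k := by
    obtain ⟨k, hkK, hkH⟩ := hk
    exact ⟨k, hkK, fun h => hkH ((hH k).mpr h)⟩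
  have h1 := step1 hK hk'
  have h2 := step2 hH hHK h1
  rw [eq_top_iff]
  intro g _
  obtain ⟨v, w, hv, hw, hvw, hz⟩ := Cfsg.Agent.S5593.split (g • e8 pa)
    (by rw [sqNorm_smul]; exact sqNorm_e8 pa)
  -- move `v` to `v0`
  obtain ⟨k1, hk1, _, hk1v⟩ := h1 v.1 v.2 hv
  have hk1v' : k1 • v0L = v := Subtype.ext hk1v
  have hv0 : k1⁻¹ • v = v0L := by rw [← hk1v', inv_smul_smul]
  -- move the image of `w` to `bp`
  have hw'n : sqNorm ((k1⁻¹ • w : Lam) : GolayPt → ℤ) = 32 := by rw [sqNorm_smul]; exact hw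
  have hw'd : dotInt v0 ((k1⁻¹ • w : Lam) : GolayPt → ℤ) = 0 := by
    have := Cfsg.Agent.S5593.dot_smul k1⁻¹ v w
    rw [hv0] at this
    rw [← hvw, ← this]
    rfl
  obtain ⟨s, hsK, hs0, _, hsw⟩ := h2 _ (k1⁻¹ • w).2 hw'n hw'd
  have hsw' : s • bpL = k1⁻¹ • w := Subtype.ext hsw
  have hsw'' : s⁻¹ • (k1⁻¹ • w) = bpL := by rw [← hsw', inv_smul_smul]
  have hs0' : s⁻¹ • v0L = v0L := by
    nth_rewrite 1 [← hs0]
    rw [inv_smul_smul]
  -- the composite fixes `8 e_4`
  have hfix : (s⁻¹ * k1⁻¹ * g) • e8 pa = e8 pa := by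
    rw [mul_smul, hz, mul_smul, smul_add', smul_add', hv0, hs0', hsw'', e8_pa_eq]
  have hP : Cfsg.Agent.S1571.P (s⁻¹ * k1⁻¹ * g) := by
    apply P_of_smul_e8 _ pa
    rw [hfix]
    exact Cfsg.Agent.S1571.vec8_mem_stdCross pa
  have hmem : s⁻¹ * k1⁻¹ * g ∈ K := hK _ hP
  have : g = k1 * s * (s⁻¹ * k1⁻¹ * g) := by group
  rw [this]
  exact K.mul_mem (K.mul_mem hk1 hsK) hmem

end Cfsg.Agent.Lib.Helper92_MaxN
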