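import Cfsg.Agent.S0400

/-!
Relations on the vectors of the rank-24 lattice that are closed under the monomial automorphisms
(coordinate permutations from `M24` and sign changes on the supports of code words): the three
shapes of minimal vectors each lie in a single class.  The proofs are those of `S0400` (helper7),
restated for an arbitrary such relation, so that they apply to the orbit relation of any group of
automorphisms containing the monomial ones.
-/

set_option autoImplicit false
open Cfsg
open scoped Pointwise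

namespace Cfsg.Agent.Lib.Helper92_MaxRel

open Cfsg.Agent.Lib.Helper7_M24 Cfsg.Agent.Lib.Helper7_Leech Cfsg.Agent.Lib.Helper92_Monomial
  Cfsg.Agent.Lib.Helper7_Bits Cfsg.Agent.Lib.Helper7_Base
open Cfsg.Agent.S0394 (sgn fO famA famB famO)
open Cfsg.Agent.S0400 (permVec_sgn signFlip_sgn sgn_congr signFlip_fO permVec_fO_zero
  fO_mem_lattice o0 a0 b0 P0 sign_masks pair_exists mem_stdOct)
open Cfsg.Agent.S0364 (octMask)
open Cfsg.Agent.S0381 (stdOct stdOct_mem)

/-- A relation on raw vectors that is an equivalence on lattice vectors and is closed under the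
monomial moves. -/
structure MonoRel (Rel : (GolayPt → ℤ) → (GolayPt → ℤ) → Prop) : Prop where
  refl : ∀ {x : GolayPt → ℤ}, x ∈ leechLattice → Rel x x
  symm : ∀ {x y : GolayPt → ℤ}, Rel x y → Rel y x
  trans : ∀ {x y z : GolayPt → ℤ}, Rel x y → Rel y z → Rel x z
  mem_right : ∀ {x y : GolayPt → ℤ}, Rel x y → y ∈ leechLattice
  perm : ∀ {x : GolayPt → ℤ}, x ∈ leechLattice → ∀ σ : Equiv.Perm GolayPt, σ ∈ M24 →
    Rel x (permVec σ x)
  flip : ∀ {x : GolayPt → ℤ}, x ∈ leechLattice → ∀ u : GolayPt → ZMod 2, u ∈ golayCode →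
    Rel x (signFlip (support₂ u) x)

variable {Rel : (GolayPt → ℤ) → (GolayPt → ℤ) → Prop}

theorem rel_famO (hR : MonoRel Rel) (i : GolayPt) (u : GolayPt → ZMod 2) (hu : u ∈ golayCode) :
    Rel (fO i u) o0 := by
  have h1 : Rel (fO i u) (fO i 0) := by
    have := hR.flip (fO_mem_lattice i u hu) u hu
    rwa [signFlip_fO] at this
  obtain ⟨b, hb⟩ := exists_ne i
  obtain ⟨σ, hσ, hσi, _⟩ := Cfsg.Agent.S5548.two_trans i b none (some 0) hb.symm (by decide)
  have h2 : Rel (fO i 0) o0 := by
    have := hR.perm (fO_mem_lattice i 0 golayCode.zero_mem) σ hσ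
    rwa [permVec_fO_zero, hσi] at this
  exact hR.trans h1 h2

theorem rel_famA (hR : MonoRel Rel) (P N : Finset GolayPt) (hP : P.card = 2) (hN : N ⊆ P) :
    Rel (sgn 4 P N) a0 := by
  have hmem : sgn 4 P N ∈ leechLattice :=
    (mem_leechLattice_iff _).mpr (Cfsg.Agent.S0394.sgn_four_mem P N hP hN)
  obtain ⟨a, b, hab, rfl⟩ := Finset.card_eq_two.mp hP
  obtain ⟨σ, hσ, hσa, hσb⟩ := Cfsg.Agent.S5548.two_trans a b (dec 0) (dec 3) hab (by decide)
  have h1 : Rel (sgn 4 {a, b} N) (sgn 4 P0 (σ • N)) := by
    have := hR.perm hmem σ hσ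
    rw [permVec_sgn] at this
    have e : σ • ({a, b} : Finset GolayPt) = P0 := by
      rw [Finset.smul_finset_insert, Finset.smul_finset_singleton, Equiv.Perm.smul_def,
        Equiv.Perm.smul_def, hσa, hσb]
      rfl
    rwa [e] at this
  obtain ⟨m, _, hm, hm0, hm3⟩ := sign_masks (decide (dec 0 ∈ σ • N)) (decide (dec 3 ∈ σ • N))
  have h2 : Rel (sgn 4 P0 (σ • N)) a0 := by
    have := hR.flip (hR.mem_right h1) (toWord m) (toWord_mem_of_inCode hm)
    rw [signFlip_sgn] at this
    have e : sgn 4 P0 (symmDiff (σ • N) (support₂ (toWord m))) = a0 := by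
      apply sgn_congr
      intro j hj
      have hj' : j = dec 0 ∨ j = dec 3 := by
        unfold P0 at hj
        rw [Finset.mem_insert, Finset.mem_singleton] at hj
        exact hj
      rw [Finset.mem_symmDiff, mem_support₂_toWord]
      have hne : j ∉ (∅ : Finset GolayPt) := Finset.notMem_empty j
      rcases hj' with rfl | rfl
      · have : m.testBit (enc (dec 0)) = decide (dec 0 ∈ σ • N) := hm0
        by_cases h : dec 0 ∈ σ • N
        · rw [decide_eq_true h] at this
          simp [h, this]
        · rw [decide_eq_false h] at this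
          simp [h, this]
      · have : m.testBit (enc (dec 3)) = decide (dec 3 ∈ σ • N) := hm3
        by_cases h : dec 3 ∈ σ • N
        · rw [decide_eq_true h] at this
          simp [h, this]
        · rw [decide_eq_false h] at this
          simp [h, this]
    rwa [e] at this
  exact hR.trans h1 h2

theorem rel_B_std (hR : MonoRel Rel) : ∀ (n : ℕ) (N : Finset GolayPt), N.card = n →
    N ⊆ stdOct → Even N.card → Rel (sgn 2 stdOct N) b0 := by
  intro n
  induction n using Nat.strong_induction_on with
  | _ n ih =>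
    intro N hn hN hE
    have hmem : sgn 2 stdOct N ∈ leechLattice :=
      (mem_leechLattice_iff _).mpr (Cfsg.Agent.S0394.sgn_two_mem stdOct N stdOct_mem hN hE)
    by_cases h0 : N = ∅
    · rw [h0]
      rw [h0] at hmem
      exact hR.refl hmem
    · have hpos : 0 < N.card := Finset.card_pos.mpr (Finset.nonempty_iff_ne_empty.mpr h0)
      obtain ⟨k, hk⟩ := hE
      have h1 : 1 < N.card := by omega
      obtain ⟨a, ha, b, hb, hab⟩ := Finset.one_lt_card.mp h1
      obtain ⟨m, _, hm, hp⟩ := pair_exists a b ((mem_stdOct a).mp (hN ha))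
        ((mem_stdOct b).mp (hN hb)) hab
      have hsub : ({a, b} : Finset GolayPt) ⊆ N := by
        intro x hx
        rw [Finset.mem_insert, Finset.mem_singleton] at hx
        rcases hx with rfl | rfl
        · exact ha
        · exact hb
      have hcard : (N \ {a, b}).card = N.card - 2 := by
        rw [Finset.card_sdiff_of_subset hsub, Finset.card_pair hab]
      have hstep : Rel (sgn 2 stdOct N) (sgn 2 stdOct (N \ {a, b})) := by
        have := hR.flip hmem (toWord m) (toWord_mem_of_inCode hm)
        rw [signFlip_sgn] at this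
        have e : sgn 2 stdOct (symmDiff N (support₂ (toWord m))) = sgn 2 stdOct (N \ {a, b}) := by
          apply sgn_congr
          intro j hj
          have hj' := hp j ((mem_stdOct j).mp hj)
          rw [Finset.mem_symmDiff, mem_support₂_toWord, Finset.mem_sdiff, Finset.mem_insert,
            Finset.mem_singleton, hj']
          constructor
          · rintro (⟨h1, h2⟩ | ⟨h1, h2⟩)
            · exact ⟨h1, h2⟩
            · rcases h1 with rfl | rfl
              · exact absurd ha h2
              · exact absurd hb h2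
          · rintro ⟨h1, h2⟩
            exact Or.inl ⟨h1, h2⟩
        rwa [e] at this
      have hnext := ih (N.card - 2) (by omega) (N \ {a, b}) hcard
        (Finset.sdiff_subset.trans hN) (by rw [hcard]; exact ⟨k - 1, by omega⟩)
      exact hR.trans hstep hnext

theorem rel_famB (hR : MonoRel Rel) (P N : Finset GolayPt) (hP : P ∈ octads) (hN : N ⊆ P)
    (hE : Even N.card) : Rel (sgn 2 P N) b0 := by
  have hmem : sgn 2 P N ∈ leechLattice :=
    (mem_leechLattice_iff _).mpr (Cfsg.Agent.S0394.sgn_two_mem P N hP hN hE)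
  obtain ⟨g, hg⟩ := Cfsg.Agent.S0367.result P stdOct hP stdOct_mem
  have hg' : (g : Equiv.Perm GolayPt) • P = stdOct := hg
  have h1 : Rel (sgn 2 P N) (sgn 2 stdOct ((g : Equiv.Perm GolayPt) • N)) := by
    have := hR.perm hmem (g : Equiv.Perm GolayPt) g.2
    rwa [permVec_sgn, hg'] at this
  have hsub : (g : Equiv.Perm GolayPt) • N ⊆ stdOct := by
    rw [← hg']
    exact Finset.smul_finset_subset_smul_finset hN
  have hE' : Even ((g : Equiv.Perm GolayPt) • N).card := by
    rw [Finset.card_smul_finset]
    exact hE
  exact hR.trans h1 (rel_B_std hR _ _ rfl hsub hE')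

end Cfsg.Agent.Lib.Helper92_MaxRel
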