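import Cfsg.Agent.Lib.Helper92_MaxCount
import Cfsg.Agent.S0397

/-!
Orbits of a group `K` of automorphisms of the rank-24 lattice containing the stabiliser of the
standard cross: sizes of orbits through relative indices, and the classes of the stabiliser of
`v0` in `K` on the minimal vectors orthogonal to `v0`.
-/

set_option autoImplicit false
set_option linter.constructorNameAsVariable false
open Cfsg
open scoped Pointwise

namespace Cfsg.Agent.Lib.Helper92_MaxN

open Cfsg.Agent.Lib.Helper7_M24 Cfsg.Agent.Lib.Helper7_Leech Cfsg.Agent.Lib.Helper92_Monomial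
  Cfsg.Agent.Lib.Helper92_LeechMod2 Cfsg.Agent.Lib.Helper92_Co0Order
  Cfsg.Agent.Lib.Helper92_OrthPairs
open Cfsg.Agent.Lib.Helper26_Leech (pa pb pa_ne_pb v0 v0_apply dotInt_v0 v0_mem v0_norm census)
open Cfsg.Agent.Lib.Helper26_Co2 (v0L permVec_v0 signFlip_v0)
open Cfsg.Agent.Lib.Helper92_MaxRel (MonoRel)
open Cfsg.Agent.Lib.Helper92_MaxRel2 (StabRel)
open Cfsg.Agent.S5546 (Lam vec8 e8)
open Cfsg.Agent.S0394 (sgn fO famA famB famO)

/-! ### sizes of orbits -/

/-- The orbit of `x` under a subgroup `L`, as a set of raw vectors, has the relative index of the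
stabiliser of `x` as its size. -/
theorem relIndex_stab (L : Subgroup ↥Co0) (x : Lam) :
    (MulAction.stabilizer ↥Co0 x).relIndex L =
      {y : GolayPt → ℤ | RK L (x : GolayPt → ℤ) y}.ncard := by
  have key : (MulAction.stabilizer ↥Co0 x).subgroupOf L = MulAction.stabilizer ↥L x := by
    ext k
    rfl
  have e : {y : GolayPt → ℤ | RK L (x : GolayPt → ℤ) y} =
      Subtype.val '' (MulAction.orbit ↥L x) := by
    ext y
    constructor
    · rintro ⟨g, hg, hx, rfl⟩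
      exact ⟨g • x, ⟨⟨g, hg⟩, rfl⟩, rfl⟩
    · rintro ⟨_, ⟨k, rfl⟩, rfl⟩
      exact ⟨k.1, k.2, x.2, rfl⟩
  unfold Subgroup.relIndex
  rw [key, MulAction.index_stabilizer, e, Set.ncard_image_of_injective _ Subtype.val_injective]

theorem RK_ncard_dvd (L : Subgroup ↥Co0) (x : Lam) :
    {y : GolayPt → ℤ | RK L (x : GolayPt → ℤ) y}.ncard ∣ Nat.card ↥L := by
  rw [← relIndex_stab]
  exact Subgroup.relIndex_dvd_card _ _

/-- The stabiliser of `v0` in the whole automorphism group. -/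
def T0 : Subgroup ↥Co0 := MulAction.stabilizer ↥Co0 v0L

theorem RK_top_iff (y : GolayPt → ℤ) :
    RK (⊤ : Subgroup ↥Co0) v0 y ↔ y ∈ leechLattice ∧ sqNorm y = 32 := by
  constructor
  · intro h
    exact ⟨h.mem_right, by rw [h.sqNorm_eq]; exact v0_norm⟩
  · rintro ⟨hy, hn⟩
    obtain ⟨g, hg⟩ := Cfsg.Agent.S0400.result v0L ⟨y, hy⟩ v0_norm hn
    exact ⟨g, Subgroup.mem_top g, v0_mem, by
      show ((g • v0L : Lam) : GolayPt → ℤ) = y
      rw [hg]⟩

theorem T0_index : T0.index = 196560 := by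
  rw [← Subgroup.relIndex_top_right]
  unfold T0
  rw [relIndex_stab ⊤ v0L]
  have : {y : GolayPt → ℤ | RK (⊤ : Subgroup ↥Co0) ((v0L : Lam) : GolayPt → ℤ) y} =
      {x : GolayPt → ℤ | x ∈ leechLattice ∧ sqNorm x = 32} := by
    ext y
    exact RK_top_iff y
  rw [this]
  exact Cfsg.Agent.S0394.result

theorem T0_card : Nat.card ↥T0 = 42305421312000 := by
  have h := Subgroup.card_mul_index T0
  rw [T0_index, Cfsg.Agent.S0397.result] at h
  have e : (8315553613086720000 : ℕ) = 42305421312000 * 196560 := by norm_num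
  rw [e] at h
  exact Nat.eq_of_mul_eq_mul_right (by norm_num) h

/-- The relation of the stabiliser of `v0` in `K` is the orbit relation of `K ⊓ T0`. -/
theorem RsK_iff (K : Subgroup ↥Co0) (x y : GolayPt → ℤ) : RsK K x y ↔ RK (K ⊓ T0) x y := by
  constructor
  · rintro ⟨g, hg, hg0, hx, e⟩
    exact ⟨g, ⟨hg, hg0⟩, hx, e⟩
  · rintro ⟨g, ⟨hg, hg0⟩, hx, e⟩
    exact ⟨g, hg, hg0, hx, e⟩

theorem RsK_ncard_dvd (K : Subgroup ↥Co0) (x : Lam) :
    {y : GolayPt → ℤ | RsK K (x : GolayPt → ℤ) y}.ncard ∣ 42305421312000 := by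
  have e : {y : GolayPt → ℤ | RsK K (x : GolayPt → ℤ) y} =
      {y : GolayPt → ℤ | RK (K ⊓ T0) (x : GolayPt → ℤ) y} := by
    ext y
    exact RsK_iff K _ y
  rw [e, ← T0_card]
  exact (RK_ncard_dvd (K ⊓ T0) x).trans (Subgroup.card_dvd_of_le inf_le_right)

/-! ### dichotomy for homogeneous classes -/

theorem dich_of_homog {X : Type*} (R : X → X → Prop)
    (htrans : ∀ {a b c : X}, R a b → R b c → R a c) (x0 : X) (C : Set X)
    (hC : ∀ y ∈ C, ∀ y' ∈ C, R y y') : C ⊆ {y | R x0 y} ∨ Disjoint C {y | R x0 y} := by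
  by_cases h : ∃ y ∈ C, R x0 y
  · left
    obtain ⟨y, hy, hxy⟩ := h
    intro y' hy'
    exact htrans hxy (hC y hy y' hy')
  · right
    rw [Set.disjoint_left]
    intro y hy hxy
    exact h ⟨y, hy, hxy⟩

/-! ### the element exchanging the two points and changing all signs -/

theorem exists_flip {K : Subgroup ↥Co0} (hK : Contains K) :
    ∃ f : ↥Co0, f ∈ K ∧ f • v0L = v0L ∧ Cfsg.Agent.S1571.P f ∧
      ∀ w : Lam, ((f • w : Lam) : GolayPt → ℤ) pa = -(w : GolayPt → ℤ) pb ∧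
        ((f • w : Lam) : GolayPt → ℤ) pb = -(w : GolayPt → ℤ) pa := by
  obtain ⟨τ, hτ, hτa, hτb⟩ := Cfsg.Agent.S5548.two_trans pa pb pb pa pa_ne_pb pa_ne_pb.symm
  have hall : ∀ j : GolayPt, j ∈ support₂ (1 : GolayPt → ZMod 2) := by
    intro j
    rw [mem_support₂]
    rfl
  have hval : ∀ (w : Lam) (j : GolayPt),
      ((mono τ hτ 1 Cfsg.Agent.Lib.Helper7_M24.one_mem • w : Lam) : GolayPt → ℤ) j =
        -(w : GolayPt → ℤ) (τ.symm j) := by
    intro w j
    rw [mono_apply, signFlip_of_mem (hall j), permVec_apply]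
  have hsa : τ.symm pa = pb := by
    rw [Equiv.symm_apply_eq]; exact hτb.symm
  have hsb : τ.symm pb = pa := by
    rw [Equiv.symm_apply_eq]; exact hτa.symm
  have hP := mono_P τ hτ 1 Cfsg.Agent.Lib.Helper7_M24.one_mem
  refine ⟨mono τ hτ 1 Cfsg.Agent.Lib.Helper7_M24.one_mem, hK _ hP, ?_, hP, ?_⟩
  · apply Subtype.ext
    funext j
    rw [hval]
    show -v0 (τ.symm j) = v0 j
    rw [v0_apply, v0_apply]
    by_cases hja : j = pa
    · subst hja
      rw [hsa, if_neg pa_ne_pb.symm, if_pos rfl, if_pos rfl, if_neg pa_ne_pb]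
      rfl
    · by_cases hjb : j = pb
      · subst hjb
        rw [hsb, if_pos rfl, if_neg pa_ne_pb, if_neg pa_ne_pb.symm, if_pos rfl]
        rfl
      · have h1 : τ.symm j ≠ pa := by
          intro h
          apply hjb
          rw [Equiv.symm_apply_eq] at h
          rw [h, hτa]
        have h2 : τ.symm j ≠ pb := by
          intro h
          apply hja
          rw [Equiv.symm_apply_eq] at h
          rw [h, hτb]
        rw [if_neg h1, if_neg h2, if_neg hja, if_neg hjb]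
        rfl
  · intro w
    constructor
    · rw [hval, hsa]
    · rw [hval, hsb]

/-! ### homogeneity of the classes -/

theorem homog {K : Subgroup ↥Co0} (hK : Contains K) (F : Set (GolayPt → ℤ))
    (hF : ∀ x, x ∈ F → x ∈ leechLattice)
    (hP : ∀ g : ↥Co0, Cfsg.Agent.S1571.P g → ∀ v : Lam, (v : GolayPt → ℤ) ∈ F →
      ((g • v : Lam) : GolayPt → ℤ) ∈ F)
    (hrel : ∀ w w', w ∈ F → w' ∈ F → w pa = w' pa → w pb = w' pb → RsK K w w')
    (w w' : GolayPt → ℤ) (hw : w ∈ F) (hw' : w' ∈ F) (hd : dotInt v0 w = 0)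
    (hd' : dotInt v0 w' = 0) (h : w pa = w' pa ∨ w pa = -w' pa) : RsK K w w' := by
  rw [dotInt_v0] at hd hd'
  rcases h with h | h
  · exact hrel w w' hw hw' h (by omega)
  · obtain ⟨f, hfK, hf0, hfP, hf⟩ := exists_flip hK
    have h1 : RsK K w ((f • (⟨w, hF w hw⟩ : Lam) : Lam) : GolayPt → ℤ) :=
      ⟨f, hfK, hf0, hF w hw, rfl⟩
    have hmem := hP f hfP ⟨w, hF w hw⟩ hw
    obtain ⟨ha, hb⟩ := hf ⟨w, hF w hw⟩
    have ha' : (⟨w, hF w hw⟩ : Lam).1 pb = w pb := rfl
    have hb' : (⟨w, hF w hw⟩ : Lam).1 pa = w pa := rfl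
    refine RsK.trans h1 (hrel _ w' hmem hw' ?_ ?_)
    · rw [ha, ha']; omega
    · rw [hb, hb']; omega

theorem relA {K : Subgroup ↥Co0} (hK : Contains K) (w w' : GolayPt → ℤ) (hw : w ∈ famA)
    (hw' : w' ∈ famA) (ha : w pa = w' pa) (hb : w pb = w' pb) : RsK K w w' := by
  obtain ⟨P, N, hP, hN, rfl⟩ := hw
  obtain ⟨P', N', hP', hN', rfl⟩ := hw'
  exact Cfsg.Agent.Lib.Helper92_MaxRel2.rel_famA (stabRel hK) hP hN hP' hN' ha hb

theorem relB {K : Subgroup ↥Co0} (hK : Contains K) (w w' : GolayPt → ℤ) (hw : w ∈ famB)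
    (hw' : w' ∈ famB) (ha : w pa = w' pa) (hb : w pb = w' pb) : RsK K w w' := by
  obtain ⟨P, N, hP, hN, hE, rfl⟩ := hw
  obtain ⟨P', N', hP', hN', hE', rfl⟩ := hw'
  exact Cfsg.Agent.Lib.Helper92_MaxRel2.rel_famB (stabRel hK) hP hN hE hP' hN' hE' ha hb

theorem relO {K : Subgroup ↥Co0} (hK : Contains K) (w w' : GolayPt → ℤ) (hw : w ∈ famO)
    (hw' : w' ∈ famO) (ha : w pa = w' pa) (hb : w pb = w' pb) : RsK K w w' := by
  obtain ⟨i, u, hu, rfl⟩ := hw
  obtain ⟨i', u', hu', rfl⟩ := hw'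
  exact Cfsg.Agent.Lib.Helper92_MaxRel2.rel_famO (stabRel hK) hu hu' ha hb

theorem famA_sub {x : GolayPt → ℤ} (h : x ∈ famA) : x ∈ leechLattice :=
  (fam_mem_lattice (Or.inl h)).1

theorem famB_sub {x : GolayPt → ℤ} (h : x ∈ famB) : x ∈ leechLattice :=
  (fam_mem_lattice (Or.inr (Or.inl h))).1

theorem famO_sub {x : GolayPt → ℤ} (h : x ∈ famO) : x ∈ leechLattice :=
  (fam_mem_lattice (Or.inr (Or.inr h))).1

theorem homog_clA1 {K : Subgroup ↥Co0} (hK : Contains K) :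
    ∀ w ∈ clA1, ∀ w' ∈ clA1, RsK K w w' := by
  rintro w ⟨hw, hd, hne⟩ w' ⟨hw', hd', hne'⟩
  apply homog hK famA (fun x => famA_sub) P_famA (relA hK) w w' hw hw' hd hd'
  rcases famA_vals hw pa with h | h | h
  · exact absurd h hne
  · rcases famA_vals hw' pa with h' | h' | h'
    · exact absurd h' hne'
    · left; rw [h, h']
    · right; rw [h, h']; rfl
  · rcases famA_vals hw' pa with h' | h' | h'
    · exact absurd h' hne'
    · right; rw [h, h']
    · left; rw [h, h']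

theorem homog_clA0 {K : Subgroup ↥Co0} (hK : Contains K) :
    ∀ w ∈ clA0, ∀ w' ∈ clA0, RsK K w w' := by
  rintro w ⟨hw, hd, h0⟩ w' ⟨hw', hd', h0'⟩
  apply homog hK famA (fun x => famA_sub) P_famA (relA hK) w w' hw hw' hd hd'
  left
  rw [h0, h0']

theorem homog_clB1 {K : Subgroup ↥Co0} (hK : Contains K) :
    ∀ w ∈ clB1, ∀ w' ∈ clB1, RsK K w w' := by
  rintro w ⟨hw, hd, hne⟩ w' ⟨hw', hd', hne'⟩
  apply homog hK famB (fun x => famB_sub) P_famB (relB hK) w w' hw hw' hd hd'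
  rcases famB_vals hw pa with h | h | h
  · exact absurd h hne
  · rcases famB_vals hw' pa with h' | h' | h'
    · exact absurd h' hne'
    · left; rw [h, h']
    · right; rw [h, h']; rfl
  · rcases famB_vals hw' pa with h' | h' | h'
    · exact absurd h' hne'
    · right; rw [h, h']
    · left; rw [h, h']

theorem homog_clB0 {K : Subgroup ↥Co0} (hK : Contains K) :
    ∀ w ∈ clB0, ∀ w' ∈ clB0, RsK K w w' := by
  rintro w ⟨hw, hd, h0⟩ w' ⟨hw', hd', h0'⟩
  apply homog hK famB (fun x => famB_sub) P_famB (relB hK) w w' hw hw' hd hd'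
  left
  rw [h0, h0']

/-- An odd minimal vector with equal coordinates at the two points has `±1` there. -/
theorem famO_val {w : GolayPt → ℤ} (hw : w ∈ famO) (hd : dotInt v0 w = 0) :
    w pa = 1 ∨ w pa = -1 := by
  rw [dotInt_v0] at hd
  obtain ⟨i, u, _, rfl⟩ := hw
  rcases Cfsg.Agent.S0394.fO_cases i u pa with ⟨_, _, e⟩ | ⟨_, _, e⟩ | ⟨hi, _, e⟩ | ⟨hi, _, e⟩
  · left; exact e
  · right; exact e
  · exfalso
    rcases Cfsg.Agent.S0394.fO_cases i u pb with ⟨_, _, e'⟩ | ⟨_, _, e'⟩ | ⟨hi', _, _⟩ |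
      ⟨hi', _, _⟩
    · omega
    · omega
    · exact pa_ne_pb (hi.trans hi'.symm)
    · exact pa_ne_pb (hi.trans hi'.symm)
  · exfalso
    rcases Cfsg.Agent.S0394.fO_cases i u pb with ⟨_, _, e'⟩ | ⟨_, _, e'⟩ | ⟨hi', _, _⟩ |
      ⟨hi', _, _⟩
    · omega
    · omega
    · exact pa_ne_pb (hi.trans hi'.symm)
    · exact pa_ne_pb (hi.trans hi'.symm)

theorem homog_clO {K : Subgroup ↥Co0} (hK : Contains K) :
    ∀ w ∈ clO, ∀ w' ∈ clO, RsK K w w' := by
  rintro w ⟨hw, hd⟩ w' ⟨hw', hd'⟩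
  apply homog hK famO (fun x => famO_sub) P_famO (relO hK) w w' hw hw' hd hd'
  rcases famO_val hw hd with h | h <;> rcases famO_val hw' hd' with h' | h'
  · left; rw [h, h']
  · right; rw [h, h']; rfl
  · right; rw [h, h']
  · left; rw [h, h']

end Cfsg.Agent.Lib.Helper92_MaxN
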