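import Cfsg.Agent.Lib.Helper92_HSStab

/-!
The standard pair `bp = 4 e_4 + 4 e_13`, `wM = (1, -3, 1^22)` of minimal vectors of the rank-24
lattice with inner product `-8`, with `bp + wM = v1`; the stabiliser of `v0 = 4 e_4 - 4 e_13` in
their common stabiliser is again the group of the coordinate permutations fixing the two points.
-/

set_option autoImplicit false
set_option linter.constructorNameAsVariable false
open Cfsg
open scoped Pointwise

namespace Cfsg.Agent.Lib.Helper92_McL

open Cfsg.Agent.Lib.Helper7_M24 Cfsg.Agent.Lib.Helper7_Leech Cfsg.Agent.Lib.Helper92_Monomial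
  Cfsg.Agent.Lib.Helper92_Co0Order Cfsg.Agent.Lib.Helper92_MaxN
  Cfsg.Agent.Lib.Helper7_Mono Cfsg.Agent.Lib.Helper92_Co2 Cfsg.Agent.Lib.Helper92_LeechShapes
  Cfsg.Agent.Lib.Helper92_HS
open Cfsg.Agent.Lib.Helper26_Leech (pa pb pa_ne_pb v0 v0_apply dotInt_v0 v0_mem v0_norm)
open Cfsg.Agent.Lib.Helper26_Co2 (v0L permVec_v0 signFlip_v0)
open Cfsg.Agent.S5546 (Lam vec8 e8)

/-- The vector with `-3` at the second point and `1` elsewhere. -/
def wM : GolayPt → ℤ := fun j => if j = pb then -3 else 1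

theorem wM_eq_od : wM = od 1 ∅ {pb} := by
  funext j
  have hb : bs 1 j = 1 := by
    unfold bs
    exact if_pos rfl
  show (if j = pb then -3 else 1) = bs 1 j * (if j ∈ (∅ : Finset GolayPt) then 5 else
    if j ∈ ({pb} : Finset GolayPt) then -3 else 1)
  rw [hb, one_mul, if_neg (Finset.notMem_empty j)]
  by_cases h : j = pb
  · rw [if_pos h, if_pos (Finset.mem_singleton.mpr h)]
  · rw [if_neg h, if_neg (fun h' => h (Finset.mem_singleton.mp h'))]

theorem wM_mem : wM ∈ leechLattice := by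
  rw [wM_eq_od]
  apply AddSubgroup.subset_closure
  exact od_mem 1 ∅ {pb} Cfsg.Agent.Lib.Helper7_M24.one_mem (Finset.disjoint_empty_left _)
    (by decide)

/-- `wM`, as an element of the lattice. -/
def wML : Lam := ⟨wM, wM_mem⟩

theorem wM_norm : sqNorm wM = 32 := by
  rw [wM_eq_od, sqNorm_od _ _ _ (Finset.disjoint_empty_left _)]
  rfl

theorem dot_wM (x : GolayPt → ℤ) : dotInt wM x = ∑ j, x j - 4 * x pb := by
  unfold dotInt
  have h : ∀ j, wM j * x j = x j + (if j = pb then -4 * x j else 0) := by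
    intro j
    unfold wM
    by_cases h : j = pb
    · rw [if_pos h, if_pos h]; ring
    · rw [if_neg h, if_neg h]; ring
  rw [Finset.sum_congr rfl (fun j _ => h j), Finset.sum_add_distrib, sum_pt pb (fun j => -4 * x j)]
  ring

theorem dot_bp (x : GolayPt → ℤ) : dotInt bp x = 4 * x pa + 4 * x pb := by
  unfold dotInt
  have h : ∀ j, bp j * x j = (if j = pa then 4 * x j else 0) + (if j = pb then 4 * x j else 0) := by
    intro j
    rw [bp_apply]
    by_cases ha : j = pa
    · have hb : j ≠ pb := fun h => pa_ne_pb (ha.symm.trans h)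
      rw [if_pos ha, if_neg hb, if_pos ha, if_neg hb]; ring
    · by_cases hb : j = pb
      · rw [if_neg ha, if_pos hb, if_neg ha, if_pos hb]; ring
      · rw [if_neg ha, if_neg hb, if_neg ha, if_neg hb]; ring
  rw [Finset.sum_congr rfl (fun j _ => h j), Finset.sum_add_distrib, sum_pt pa (fun j => 4 * x j),
    sum_pt pb (fun j => 4 * x j)]

theorem wM_pa : wM pa = 1 := if_neg pa_ne_pb

theorem wM_pb : wM pb = -3 := if_pos rfl

theorem dot_bp_wM : dotInt bp wM = -8 := by
  rw [dot_bp, wM_pa, wM_pb]; rfl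

theorem v0_pa : v0 pa = 4 := by
  rw [v0_apply, if_pos rfl, if_neg pa_ne_pb]; rfl

theorem v0_pb : v0 pb = -4 := by
  rw [v0_apply, if_neg pa_ne_pb.symm, if_pos rfl]; rfl

theorem sum_v0 : ∑ j, v0 j = 0 := by
  rw [Finset.sum_congr rfl (fun j _ => v0_apply j), Finset.sum_add_distrib, sum_pt pa (fun _ => 4),
    sum_pt pb (fun _ => -4)]
  rfl

theorem dot_bp_v0 : dotInt bp v0 = 0 := by
  rw [dot_bp, v0_pa, v0_pb]; rfl

theorem dot_wM_v0 : dotInt wM v0 = 16 := by
  rw [dot_wM, sum_v0, v0_pb]; rfl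

theorem wM_add_bp : wM + bp = v1 := by
  funext j
  show wM j + bp j = v1 j
  rw [bp_apply]
  unfold wM v1
  by_cases ha : j = pa
  · have hb : j ≠ pb := fun h => pa_ne_pb (ha.symm.trans h)
    rw [if_pos ha, if_neg hb, if_neg hb, if_pos ha]; rfl
  · by_cases hb : j = pb
    · rw [if_neg ha, if_pos hb, if_pos hb, if_neg ha]; rfl
    · rw [if_neg ha, if_neg hb, if_neg hb, if_neg ha]; rfl

theorem wML_add_bpL : wML + bpL = v1L := Subtype.ext wM_add_bp

/-- The common stabiliser of `bp` and `wM`. -/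
abbrev GM : Subgroup ↥Co0 := MulAction.stabilizer ↥Co0 bpL ⊓ MulAction.stabilizer ↥Co0 wML

/-- An automorphism fixes `bp`, `wM` and `v0` exactly when it fixes `v1`, `w1` and `bp`. -/
theorem fix_iff (g : ↥Co0) :
    (g • bpL = bpL ∧ g • wML = wML ∧ g • v0L = v0L) ↔
      (g • v1L = v1L ∧ g • w1L = w1L ∧ g • bpL = bpL) := by
  constructor
  · rintro ⟨h1, h2, h3⟩
    have e1 : g • v1L = v1L := by
      rw [← wML_add_bpL, smul_add', h1, h2]
    refine ⟨e1, ?_, h1⟩
    have := h3
    rw [← v1L_add_w1L, smul_add', e1] at this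
    exact add_left_cancel this
  · rintro ⟨h1, h2, h3⟩
    refine ⟨h3, ?_, ?_⟩
    · have := h1
      rw [← wML_add_bpL, smul_add', h3] at this
      exact add_right_cancel this
    · rw [← v1L_add_w1L, smul_add', h1, h2]

/-- The coordinate permutations fixing the two points, in the stabiliser of `v0` in `GM`. -/
def permM : ↥M22s →* ↥(MulAction.stabilizer ↥GM v0L) where
  toFun σ := ⟨⟨perm σ.1,
      ((fix_iff (perm σ.1)).mpr ⟨perm_fix_v1 σ.1 (M22s_pa σ), perm_fix_w1 σ.1 (M22s_pb σ),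
        perm_fix_bp σ.1 (M22s_pa σ) (M22s_pb σ)⟩).1,
      ((fix_iff (perm σ.1)).mpr ⟨perm_fix_v1 σ.1 (M22s_pa σ), perm_fix_w1 σ.1 (M22s_pb σ),
        perm_fix_bp σ.1 (M22s_pa σ) (M22s_pb σ)⟩).2.1⟩,
    ((fix_iff (perm σ.1)).mpr ⟨perm_fix_v1 σ.1 (M22s_pa σ), perm_fix_w1 σ.1 (M22s_pb σ),
        perm_fix_bp σ.1 (M22s_pa σ) (M22s_pb σ)⟩).2.2⟩
  map_one' := by
    apply Subtype.ext
    apply Subtype.ext
    exact perm_one
  map_mul' σ τ := by
    apply Subtype.ext
    apply Subtype.ext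
    exact perm_mul σ.1 τ.1

theorem permM_coe (σ : ↥M22s) : ((permM σ : ↥GM) : ↥Co0) = perm σ.1 := rfl

theorem permM_bijective : Function.Bijective permM := by
  constructor
  · intro σ τ h
    have h' : perm σ.1 = perm τ.1 := by
      rw [← permM_coe, ← permM_coe, h]
    have h2 : eps 0 * perm σ.1 = eps 0 * perm τ.1 := by rw [h']
    exact Subtype.ext (mono_injective h2).1
  · intro g
    have h3 : (g.1 : ↥Co0) • v0L = v0L := by
      have := g.2
      rw [MulAction.mem_stabilizer_iff] at this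
      exact this
    obtain ⟨k1, k2, k3⟩ := (fix_iff g.1.1).mp ⟨g.1.2.1, g.1.2.2, h3⟩
    obtain ⟨σ, hσ⟩ := exists_perm_of_fix g.1.1 k1 k2 k3
    refine ⟨σ, ?_⟩
    apply Subtype.ext
    apply Subtype.ext
    rw [permM_coe, hσ]

/-- The stabiliser of `v0` in `GM` is isomorphic to the group of the permutations of the code
fixing the two points. -/
noncomputable def permEquivM : ↥M22s ≃* ↥(MulAction.stabilizer ↥GM v0L) :=
  MulEquiv.ofBijective permM permM_bijective

instance : IsSimpleGroup ↥(MulAction.stabilizer ↥GM v0L) :=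
  permEquivM.symm.isSimpleGroup

theorem card_stabM : Nat.card ↥(MulAction.stabilizer ↥GM v0L) = 443520 := by
  rw [← Nat.card_congr permEquivM.toEquiv]
  exact Cfsg.Agent.S0378.result pa pb pa_ne_pb

end Cfsg.Agent.Lib.Helper92_McL
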