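import Cfsg.Agent.Lib.Helper92_E8e
import Cfsg.Prelude.Def_Classical

/-!
The centraliser `Ct` in the automorphism group of the rank-24 lattice of the sign change `t` on the
complement of the standard octad acts on the sublattice supported on the octad (a copy of the `E₈`
lattice scaled by `√2`).  Reducing the matrix `Amat g` modulo 2 and changing to a hyperbolic basis
gives a homomorphism `rho` from `Ct` to the isometry group of the plus type quadratic form in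
dimension 8 over the field with two elements (the quadratic form is the norm divided by 32).
-/

set_option autoImplicit false
set_option linter.constructorNameAsVariable false
open Cfsg

namespace Cfsg.Agent.Lib.Helper92_O8a

open Cfsg.Agent.Lib.Helper7_M24 Cfsg.Agent.Lib.Helper7_Leech Cfsg.Agent.Lib.Helper92_Monomial
  Cfsg.Agent.Lib.Helper92_Co0Order Cfsg.Agent.Lib.Helper7_Mono Cfsg.Agent.Lib.Helper92_E8a
  Cfsg.Agent.Lib.Helper92_E8b Cfsg.Agent.Lib.Helper92_E8c Cfsg.Agent.Lib.Helper92_E8d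
open Cfsg.Agent.S5546 (Lam vec8 e8 addHom addHom_apply dot_map)
open Cfsg.Spor (vecU leechU)
open Matrix

/-! ### the centraliser of the sign change -/

/-- The centraliser of the sign change. -/
def Ct : Subgroup ↥Co0 := Subgroup.centralizer {tE}

theorem mem_Ct (g : ↥Co0) : g ∈ Ct ↔ tE * g = g * tE := by
  unfold Ct
  rw [Subgroup.mem_centralizer_iff]
  constructor
  · intro h
    exact h tE rfl
  · intro h x hx
    rw [Set.mem_singleton_iff] at hx
    rw [hx]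
    exact h

theorem supp_smulC {g : ↥Co0} (hg : g ∈ Ct) (x : Lam) (hx : Supp8 x.1) : Supp8 (g • x).1 := by
  rw [← tE_fix_iff, ← mul_smul', (mem_Ct g).mp hg, mul_smul', (tE_fix_iff x).mpr hx]

theorem smul_bEC {g : ↥Co0} (hg : g ∈ Ct) (k : I8) : g • bE k = ∑ i : I8, Amat g i k • bE i :=
  expand (g • bE k) (supp_smulC hg _ (bV_supp k))

theorem coef_smulC {g : ↥Co0} (hg : g ∈ Ct) (x : Lam) (hx : Supp8 x.1) (i : I8) :
    coef (g • x).1 i = ∑ l : I8, Amat g i l * coef x.1 l := by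
  have h1 : g • x = ∑ l : I8, coef x.1 l • (g • bE l) := by
    conv_lhs => rw [expand x hx]
    exact smul_sum_smul g _ _
  have h2 : dotInt (g • x).1 (dV i) = ∑ l : I8, coef x.1 l * dotInt (g • bE l).1 (dV i) := by
    conv_lhs => rw [h1]
    exact dot_sum_smul _ _ _
  have h3 : ∀ l : I8, dotInt (g • bE l).1 (dV i) = 16 * Amat g i l := fun l =>
    coef_spec (g • bE l) (supp_smulC hg _ (bV_supp l)) i
  rw [coef_spec (g • x) (supp_smulC hg x hx) i, Finset.sum_congr rfl (fun l _ => by rw [h3 l])] at h2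
  have h4 : 16 * coef (g • x).1 i = 16 * ∑ l : I8, Amat g i l * coef x.1 l := by
    rw [h2, Finset.mul_sum]
    apply Finset.sum_congr rfl
    intro l _
    ring
  exact mul_left_cancel₀ (by norm_num) h4

theorem Amat_mulC {g h : ↥Co0} (hg : g ∈ Ct) (hh : h ∈ Ct) : Amat (g * h) = Amat g * Amat h := by
  funext i k
  rw [Matrix.mul_apply]
  show coef ((g * h) • bE k).1 i = _
  rw [mul_smul', coef_smulC hg (h • bE k) (supp_smulC hh _ (bV_supp k)) i]
  rfl

/-! ### the change of basis -/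

/-- The index set of the hyperbolic basis. -/
abbrev J8 : Type := Fin 4 ⊕ Fin 4

def posJ : J8 → ℕ
  | Sum.inl i => i.val
  | Sum.inr i => 4 + i.val

def PL : List (List ℕ) :=
  [[0, 0, 0, 1, 0, 0, 0, 1],
  [0, 0, 0, 0, 0, 1, 0, 0],
  [0, 0, 0, 1, 0, 0, 1, 1],
  [0, 0, 1, 0, 0, 0, 0, 1],
  [0, 1, 0, 0, 0, 0, 0, 0],
  [1, 0, 1, 0, 1, 0, 0, 0],
  [1, 0, 0, 0, 1, 0, 0, 0],
  [0, 0, 1, 0, 1, 1, 1, 1]]

def PinvL : List (List ℕ) :=
  [[1, 1, 1, 1, 0, 0, 1, 1],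
  [0, 0, 0, 0, 1, 0, 0, 0],
  [0, 0, 0, 0, 0, 1, 1, 0],
  [1, 0, 0, 1, 0, 1, 1, 0],
  [1, 1, 1, 1, 0, 0, 0, 1],
  [0, 1, 0, 0, 0, 0, 0, 0],
  [1, 0, 1, 0, 0, 0, 0, 0],
  [0, 0, 0, 1, 0, 1, 1, 0]]

/-- The columns are a hyperbolic basis, in the coordinates of the basis `b`, modulo 2. -/
def Pm : Matrix I8 J8 (ZMod 2) := fun i j => (((PL.getD (pos i) []).getD (posJ j) 0 : ℕ) : ZMod 2)

def Pinv : Matrix J8 I8 (ZMod 2) := fun j i => (((PinvL.getD (posJ j) []).getD (pos i) 0 : ℕ) : ZMod 2)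

theorem Pm_Pinv : Pm * Pinv = 1 := by decide +kernel

theorem Pinv_Pm : Pinv * Pm = 1 := by decide +kernel

/-- The matrix of an element modulo 2. -/
def Abar (g : ↥Co0) : Matrix I8 I8 (ZMod 2) := (Amat g).map (Int.cast : ℤ → ZMod 2)

theorem Abar_mul {g h : ↥Co0} (hg : g ∈ Ct) (hh : h ∈ Ct) : Abar (g * h) = Abar g * Abar h := by
  unfold Abar
  rw [Amat_mulC hg hh]
  exact Matrix.map_mul (f := Int.castRingHom (ZMod 2))

theorem Abar_one : Abar 1 = 1 := by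
  unfold Abar
  rw [Amat_one]
  exact Matrix.map_one (Int.castRingHom (ZMod 2)) (map_zero _) (map_one _)

/-- The matrix of an element modulo 2 in the hyperbolic basis. -/
def rhoM (g : ↥Co0) : Matrix J8 J8 (ZMod 2) := Pinv * Abar g * Pm

theorem rhoM_mul {g h : ↥Co0} (hg : g ∈ Ct) (hh : h ∈ Ct) : rhoM (g * h) = rhoM g * rhoM h := by
  unfold rhoM
  rw [Abar_mul hg hh]
  have h1 : Pinv * Abar g * Pm * (Pinv * Abar h * Pm) =
      Pinv * (Abar g * ((Pm * Pinv) * Abar h)) * Pm := by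
    simp only [Matrix.mul_assoc]
  rw [h1, Pm_Pinv, Matrix.one_mul]

theorem rhoM_one : rhoM 1 = 1 := by
  unfold rhoM
  rw [Abar_one, Matrix.mul_one, Pinv_Pm]

theorem Abar_of_rhoM (g : ↥Co0) : Abar g = Pm * rhoM g * Pinv := by
  unfold rhoM
  have h1 : Pm * (Pinv * Abar g * Pm) * Pinv = (Pm * Pinv) * Abar g * (Pm * Pinv) := by
    simp only [Matrix.mul_assoc]
  rw [h1, Pm_Pinv, Matrix.one_mul, Matrix.mul_one]


/-! ### the quadratic form -/

/-- The upper triangular half of the Gram matrix of the basis `b`, divided by 16. -/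
def ThL : List (List ℤ) :=
  [[1, 4, 2, 3, -2, 6, 1, -2],
  [0, 5, 6, 8, -5, 14, 3, -6],
  [0, 0, 3, 6, -2, 9, 2, -4],
  [0, 0, 0, 4, -4, 12, 3, -6],
  [0, 0, 0, 0, 2, -6, -2, 4],
  [0, 0, 0, 0, 0, 11, 4, -8],
  [0, 0, 0, 0, 0, 0, 1, -3],
  [0, 0, 0, 0, 0, 0, 0, 3]]

def Th (k l : I8) : ℤ := (ThL.getD (pos k) []).getD (pos l) 0

theorem Kb_Th : ∀ k l : I8, Kb k l = Th k l + Th l k := by decide +kernel

theorem sqNorm_eq_dot (a : GolayPt → ℤ) : sqNorm a = dotInt a a := by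
  unfold sqNorm dotInt
  exact Finset.sum_congr rfl (fun i _ => sq (a i))

theorem dot_comb (c c' : I8 → ℤ) :
    dotInt ((∑ k : I8, c k • bE k : Lam) : GolayPt → ℤ)
      ((∑ l : I8, c' l • bE l : Lam) : GolayPt → ℤ) =
      16 * ∑ k : I8, ∑ l : I8, c k * c' l * Kb k l := by
  rw [dot_sum_smul, Finset.mul_sum]
  apply Finset.sum_congr rfl
  intro k _
  rw [dotInt_comm', dot_sum_smul, Finset.mul_sum, Finset.mul_sum]
  apply Finset.sum_congr rfl
  intro l _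
  rw [dotInt_comm']
  show c k * (c' l * dotInt (bV k) (bV l)) = _
  rw [Kb_spec]
  ring

theorem sqNorm_expand (x : Lam) (hx : Supp8 x.1) :
    sqNorm x.1 = 32 * ∑ k : I8, ∑ l : I8, Th k l * coef x.1 k * coef x.1 l := by
  have h1 : sqNorm x.1 = 16 * ∑ k : I8, ∑ l : I8, coef x.1 k * coef x.1 l * Kb k l := by
    rw [sqNorm_eq_dot]
    conv_lhs => rw [expand x hx]
    exact dot_comb _ _
  rw [h1]
  have h2 : ∑ k : I8, ∑ l : I8, coef x.1 k * coef x.1 l * Kb k l =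
      ∑ k : I8, ∑ l : I8, Th k l * coef x.1 k * coef x.1 l +
        ∑ k : I8, ∑ l : I8, Th l k * coef x.1 k * coef x.1 l := by
    rw [← Finset.sum_add_distrib]
    apply Finset.sum_congr rfl
    intro k _
    rw [← Finset.sum_add_distrib]
    apply Finset.sum_congr rfl
    intro l _
    rw [Kb_Th]
    ring
  have h3 : ∑ k : I8, ∑ l : I8, Th l k * coef x.1 k * coef x.1 l =
      ∑ k : I8, ∑ l : I8, Th k l * coef x.1 k * coef x.1 l := by
    rw [Finset.sum_comm]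
    apply Finset.sum_congr rfl
    intro k _
    apply Finset.sum_congr rfl
    intro l _
    ring
  rw [h2, h3]
  ring

/-- The coordinates modulo 2. -/
def cbar (x : GolayPt → ℤ) : I8 → ZMod 2 := fun l => ((coef x l : ℤ) : ZMod 2)

/-- The quadratic form in the coordinates of the basis `b`. -/
def Tb (c : I8 → ZMod 2) : ZMod 2 := ∑ k : I8, ∑ l : I8, ((Th k l : ℤ) : ZMod 2) * c k * c l

theorem cast_T (x : Lam) (hx : Supp8 x.1) : ((sqNorm x.1 / 32 : ℤ) : ZMod 2) = Tb (cbar x.1) := by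
  rw [sqNorm_expand x hx, Int.mul_ediv_cancel_left _ (by norm_num)]
  unfold Tb cbar
  rw [Int.cast_sum]
  apply Finset.sum_congr rfl
  intro k _
  rw [Int.cast_sum]
  apply Finset.sum_congr rfl
  intro l _
  rw [Int.cast_mul, Int.cast_mul]

def mk8 (c0 c1 c2 c3 c4 c5 c6 c7 : ZMod 2) : I8 → ZMod 2 :=
  fun l => [c0, c1, c2, c3, c4, c5, c6, c7].getD (pos l) 0

theorem mk8_eta (c : I8 → ZMod 2) :
    c = mk8 (c (Sum.inl (Sum.inl 0))) (c (Sum.inl (Sum.inl 1))) (c (Sum.inl (Sum.inl 2)))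
      (c (Sum.inl (Sum.inr 0))) (c (Sum.inl (Sum.inr 1))) (c (Sum.inl (Sum.inr 2)))
      (c (Sum.inr 0)) (c (Sum.inr 1)) := by
  funext l
  rcases l with (i | i) | i <;> fin_cases i <;> rfl

theorem qplus_Tb' : ∀ c0 c1 c2 c3 c4 c5 c6 c7 : ZMod 2,
    Cfsg.quadFormPlus 4 (ZMod 2) (Pinv *ᵥ mk8 c0 c1 c2 c3 c4 c5 c6 c7) =
      Tb (mk8 c0 c1 c2 c3 c4 c5 c6 c7) := by
  decide +kernel

theorem qplus_Tb (c : I8 → ZMod 2) : Cfsg.quadFormPlus 4 (ZMod 2) (Pinv *ᵥ c) = Tb c := by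
  rw [mk8_eta c]
  exact qplus_Tb' _ _ _ _ _ _ _ _

theorem cbar_smul {g : ↥Co0} (hg : g ∈ Ct) (x : Lam) (hx : Supp8 x.1) :
    cbar (g • x).1 = Abar g *ᵥ cbar x.1 := by
  funext i
  show ((coef (g • x).1 i : ℤ) : ZMod 2) = ∑ l : I8, Abar g i l * cbar x.1 l
  rw [coef_smulC hg x hx i, Int.cast_sum]
  apply Finset.sum_congr rfl
  intro l _
  rw [Int.cast_mul]
  rfl

theorem coef_comb (a : I8 → ℤ) (i : I8) :
    coef ((∑ l : I8, a l • bE l : Lam) : GolayPt → ℤ) i = a i := by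
  unfold coef
  rw [dot_sum_smul]
  have h : ∀ l : I8, a l * dotInt (bE l).1 (dV i) = if l = i then 16 * a i else 0 := by
    intro l
    show a l * dotInt (bV l) (dV i) = _
    rw [dual]
    by_cases hl : l = i
    · rw [if_pos hl, if_pos hl, hl]
      ring
    · rw [if_neg hl, if_neg hl, mul_zero]
  rw [Finset.sum_congr rfl (fun l _ => h l), Finset.sum_ite_eq' Finset.univ i,
    if_pos (Finset.mem_univ i)]
  exact Int.mul_ediv_cancel_left _ (by norm_num)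

theorem exists_cbar (c : I8 → ZMod 2) : ∃ x : Lam, Supp8 x.1 ∧ cbar x.1 = c := by
  refine ⟨∑ l : I8, ((c l).val : ℤ) • bE l, supp8_comb _, ?_⟩
  funext i
  show ((coef _ i : ℤ) : ZMod 2) = c i
  rw [coef_comb, Int.cast_natCast, ZMod.natCast_zmod_val]

/-- The matrices preserve the quadratic form. -/
theorem rhoM_isom {g : ↥Co0} (hg : g ∈ Ct) (v : J8 → ZMod 2) :
    Cfsg.quadFormPlus 4 (ZMod 2) (rhoM g *ᵥ v) = Cfsg.quadFormPlus 4 (ZMod 2) v := by
  obtain ⟨x, hx, hc⟩ := exists_cbar (Pm *ᵥ v)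
  have hv : v = Pinv *ᵥ cbar x.1 := by
    rw [hc, Matrix.mulVec_mulVec, Pinv_Pm, Matrix.one_mulVec]
  have h1 : rhoM g *ᵥ v = Pinv *ᵥ cbar (g • x).1 := by
    rw [cbar_smul hg x hx, hc]
    unfold rhoM
    simp only [Matrix.mulVec_mulVec, Matrix.mul_assoc]
  rw [h1, qplus_Tb, ← cast_T _ (supp_smulC hg x hx), sqNorm_smul, cast_T x hx, ← qplus_Tb, ← hv]

/-! ### the homomorphism -/

/-- The isometry group of the plus type quadratic form in dimension 8 over the field with two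
elements. -/
abbrev O8 : Subgroup (GL J8 (ZMod 2)) := Cfsg.isometryGroup (ZMod 2) (Cfsg.quadFormPlus 4 (ZMod 2))

theorem rhoM_mul_inv (g : ↥Ct) : rhoM g.1 * rhoM (g⁻¹).1 = 1 := by
  rw [← rhoM_mul g.2 (g⁻¹).2]
  have : g.1 * (g⁻¹).1 = 1 := by
    show g.1 * g.1⁻¹ = 1
    exact mul_inv_cancel _
  rw [this, rhoM_one]

theorem rhoM_inv_mul (g : ↥Ct) : rhoM (g⁻¹).1 * rhoM g.1 = 1 := by
  rw [← rhoM_mul (g⁻¹).2 g.2]
  have : (g⁻¹).1 * g.1 = 1 := by
    show g.1⁻¹ * g.1 = 1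
    exact inv_mul_cancel _
  rw [this, rhoM_one]

def rhoGL (g : ↥Ct) : GL J8 (ZMod 2) :=
  ⟨rhoM g.1, rhoM (g⁻¹).1, rhoM_mul_inv g, rhoM_inv_mul g⟩

/-- The homomorphism to the orthogonal group. -/
def rho : ↥Ct →* ↥O8 where
  toFun g := ⟨rhoGL g, fun u _ => rhoM_isom g.2 u⟩
  map_one' := Subtype.ext (Units.ext rhoM_one)
  map_mul' g h := Subtype.ext (Units.ext (rhoM_mul g.2 h.2))

theorem rho_val (g : ↥Ct) : (((rho g : ↥O8) : GL J8 (ZMod 2)) : Matrix J8 J8 (ZMod 2)) = rhoM g.1 :=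
  rfl

end Cfsg.Agent.Lib.Helper92_O8a
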