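import Cfsg.Agent.Lib.Helper92_Co2Gen
import Cfsg.Agent.S0398

/-!
Elements of the automorphism group of the rank-24 lattice represented by integer matrices with a
common denominator: `Rep g M c` says that `g` acts as `M / c`.  Products of elements correspond to
products of matrices, and two elements with the same matrix and denominator are equal.  Three
identities between the coordinate permutations `a : x ↦ x + 1`, `b : x ↦ -1/x`, the sign change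
`e` on the squares and the non-monomial involution `z` are checked this way:
`(e z)^3 = -1`, `(a z)^12 = 1`, `b z = -(e z e) b`.
-/

set_option autoImplicit false
set_option linter.constructorNameAsVariable false
open Cfsg

namespace Cfsg.Agent.Lib.Helper92_Rep

open Cfsg.Agent.Lib.Helper7_M24 Cfsg.Agent.Lib.Helper7_Leech Cfsg.Agent.Lib.Helper92_Monomial
  Cfsg.Agent.Lib.Helper7_Mono Cfsg.Agent.Lib.Helper92_ZElt Cfsg.Agent.Lib.Helper92_QuadAut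
  Cfsg.Agent.Lib.Helper93_OutM24 Cfsg.Agent.Lib.Helper93_M24Obj Cfsg.Agent.Lib.Helper92_Co3Cent
  Cfsg.Agent.Lib.Helper92_Co2Cent Cfsg.Agent.Lib.Helper92_Co3Gen Cfsg.Agent.Lib.Helper92_Co2Gen
  Cfsg.Agent.Lib.Helper7_Bits
open Cfsg.Agent.S5546 (Lam)
open Cfsg.Agent.S0398 (negElt)

/-- `g` acts on the lattice as the matrix `M` divided by `c`. -/
def Rep (g : ↥Co0) (M : Matrix GolayPt GolayPt ℤ) (c : ℤ) : Prop :=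
  ∀ v : Lam, M.mulVec v.1 = c • ((g • v : Lam) : GolayPt → ℤ)

theorem Rep.mul {g h : ↥Co0} {M N : Matrix GolayPt GolayPt ℤ} {c c' : ℤ} (hg : Rep g M c)
    (hh : Rep h N c') : Rep (g * h) (M * N) (c * c') := by
  intro v
  rw [← Matrix.mulVec_mulVec, hh v, Matrix.mulVec_smul, hg (h • v), mul_smul', smul_smul, mul_comm]

theorem rep_one : Rep 1 1 1 := by
  intro v
  rw [Matrix.one_mulVec, one_smul, one_smul]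

theorem Rep.congr {g : ↥Co0} {M N : Matrix GolayPt GolayPt ℤ} {c c' : ℤ} (h : Rep g M c)
    (eM : M = N) (ec : c = c') : Rep g N c' := by
  subst eM
  subst ec
  exact h

theorem Rep.scale {g : ↥Co0} {M : Matrix GolayPt GolayPt ℤ} {c : ℤ} (h : Rep g M c) (k : ℤ) :
    Rep g (k • M) (k * c) := by
  intro v
  rw [Matrix.smul_mulVec, h v, smul_smul]

theorem Rep.ext {g h : ↥Co0} {M : Matrix GolayPt GolayPt ℤ} {c : ℤ} (hc : c ≠ 0) (h1 : Rep g M c)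
    (h2 : Rep h M c) : g = h := by
  apply ext_elt
  intro v
  have e := (h1 v).symm.trans (h2 v)
  funext i
  have e2 := congrFun e i
  rw [Pi.smul_apply, Pi.smul_apply, smul_eq_mul, smul_eq_mul] at e2
  exact mul_left_cancel₀ hc e2

theorem negElt_smul (v : Lam) : ((negElt • v : Lam) : GolayPt → ℤ) = -v.1 := rfl

theorem rep_neg : Rep negElt (-1) 1 := by
  intro v
  rw [Matrix.neg_mulVec, Matrix.one_mulVec, one_smul, negElt_smul]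

theorem Rep.neg {g : ↥Co0} {M : Matrix GolayPt GolayPt ℤ} {c : ℤ} (h : Rep g M c) :
    Rep (negElt * g) (-M) c :=
  (rep_neg.mul h).congr (neg_one_mul M) (one_mul c)

theorem rep_zE : Rep zE ZB 4 := by
  intro v
  rw [← quad_zE v]
  funext i
  rw [quad_apply, Pi.smul_apply, smul_eq_mul]

/-- The matrix of the coordinate permutation `f`. -/
def PMat (f : GolayPt → GolayPt) : Matrix GolayPt GolayPt ℤ := fun i j => if i = f j then 1 else 0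

/-- The matrix of the sign change on the support of `w`. -/
def DMat (w : GolayPt → ZMod 2) : Matrix GolayPt GolayPt ℤ :=
  fun i j => if i = j then (if w i = 1 then -1 else 1) else 0

/-- The matrix with the given rows. -/
def ofL (L : List (List ℤ)) : Matrix GolayPt GolayPt ℤ :=
  fun i j => (L.getD (enc i) []).getD (enc j) 0

theorem rep_perm (σ : ↥M24) (f : GolayPt → GolayPt) (hf : ∀ p, σ.1 p = f p) :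
    Rep (perm σ) (PMat f) 1 := by
  intro v
  rw [one_smul, perm_apply]
  funext i
  rw [permVec_apply]
  show ∑ j, PMat f i j * v.1 j = v.1 (σ.1.symm i)
  rw [Finset.sum_eq_single (σ.1.symm i)]
  · unfold PMat
    rw [← hf, Equiv.apply_symm_apply, if_pos rfl, one_mul]
  · intro j _ hj
    unfold PMat
    have : i ≠ f j := by
      rw [← hf]
      intro h
      apply hj
      rw [h, Equiv.symm_apply_apply]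
    rw [if_neg this, zero_mul]
  · intro h
    exact absurd (Finset.mem_univ _) h

theorem rep_eps (u : ↥golayCode) : Rep (eps u) (DMat u.1) 1 := by
  intro v
  rw [one_smul, eps_apply]
  funext i
  show ∑ j, DMat u.1 i j * v.1 j = signFlip (support₂ u.1) v.1 i
  rw [Finset.sum_eq_single i]
  · unfold DMat signFlip
    rw [if_pos rfl]
    by_cases h : u.1 i = 1
    · rw [if_pos h, if_pos ((mem_support₂ _ _).mpr h)]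
      ring
    · rw [if_neg h, if_neg (fun h' => h ((mem_support₂ _ _).mp h')), one_mul]
  · intro j _ hj
    unfold DMat
    rw [if_neg (fun h => hj h.symm), zero_mul]
  · intro h
    exact absurd (Finset.mem_univ _) h

/-- The matrix of `a`. -/
def MA : Matrix GolayPt GolayPt ℤ := PMat (Option.map (fun x => x + 1))

/-- The matrix of `b`. -/
def MB : Matrix GolayPt GolayPt ℤ := PMat projInvFun

/-- The matrix of `e`. -/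
def ME : Matrix GolayPt GolayPt ℤ := DMat (qrWord 0)

theorem rep_PA : Rep PA MA 1 := rep_perm mA _ gA_apply

theorem rep_PB : Rep PB MB 1 := rep_perm mB _ gB_apply

theorem rep_EQ : Rep EQ ME 1 := rep_eps eQ

/-! ### the data -/

def LX1 : List (List ℤ) :=
  [[1, -1, -1, 1, -1, 0, 1, 0, 1, 1, 0, 0, 1, -1, 0, 0, -1, 0, 1, 0, 0, 0, 2, 0],
   [-2, 0, 0, 0, 0, 1, 0, 1, 0, 0, 1, 1, 0, 0, 1, 1, 0, 1, 0, 1, 1, 1, 1, -1],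
   [0, -2, 0, 0, 0, 1, 0, -1, 0, 0, -1, -1, 0, 0, 1, 1, 0, -1, 0, 1, 1, 1, -1, 1],
   [0, 0, -2, 0, 0, 1, 0, 1, 0, 0, 1, -1, 0, 0, -1, 1, 0, 1, 0, 1, -1, -1, -1, 1],
   [0, 0, 0, -2, 0, -1, 0, -1, 0, 0, -1, 1, 0, 0, 1, 1, 0, 1, 0, 1, -1, -1, 1, 1],
   [0, 0, 0, 0, -2, -1, 0, 1, 0, 0, 1, 1, 0, 0, 1, 1, 0, -1, 0, -1, 1, -1, -1, 1],
   [1, 1, 1, -1, -1, 2, 1, 0, 1, 1, 0, 0, -1, -1, 0, 0, 1, 0, -1, 0, 0, 0, 0, 0],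
   [0, 0, 0, 0, 0, 1, -2, 1, 0, 0, -1, 1, 0, 0, -1, 1, 0, -1, 0, -1, -1, 1, 1, 1],
   [1, -1, 1, -1, 1, 0, 1, 2, 1, -1, 0, 0, 1, 1, 0, 0, -1, 0, -1, 0, 0, 0, 0, 0],
   [0, 0, 0, 0, 0, 1, 0, 1, -2, 0, -1, -1, 0, 0, 1, -1, 0, 1, 0, -1, 1, -1, 1, 1],
   [0, 0, 0, 0, 0, 1, 0, -1, 0, -2, 1, 1, 0, 0, -1, -1, 0, -1, 0, 1, 1, -1, 1, 1],
   [1, -1, 1, -1, 1, 0, -1, 0, -1, 1, 2, 0, 1, -1, 0, 0, 1, 0, 1, 0, 0, 0, 0, 0],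
   [1, -1, -1, 1, 1, 0, 1, 0, -1, 1, 0, 2, -1, 1, 0, 0, 1, 0, -1, 0, 0, 0, 0, 0],
   [0, 0, 0, 0, 0, -1, 0, 1, 0, 0, 1, -1, -2, 0, 1, -1, 0, -1, 0, 1, -1, 1, 1, 1],
   [0, 0, 0, 0, 0, -1, 0, 1, 0, 0, -1, 1, 0, -2, -1, -1, 0, 1, 0, 1, 1, 1, -1, 1],
   [1, 1, -1, 1, 1, 0, -1, 0, 1, -1, 0, 0, 1, -1, 2, 0, 1, 0, -1, 0, 0, 0, 0, 0],
   [1, 1, 1, 1, 1, 0, 1, 0, -1, -1, 0, 0, -1, -1, 0, 2, -1, 0, 1, 0, 0, 0, 0, 0],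
   [0, 0, 0, 0, 0, 1, 0, -1, 0, 0, 1, 1, 0, 0, 1, -1, -2, 1, 0, -1, -1, 1, -1, 1],
   [1, -1, 1, 1, -1, 0, -1, 0, 1, -1, 0, 0, -1, 1, 0, 0, 1, 2, 1, 0, 0, 0, 0, 0],
   [0, 0, 0, 0, 0, -1, 0, -1, 0, 0, 1, -1, 0, 0, -1, 1, 0, 1, -2, -1, 1, 1, 1, 1],
   [1, 1, 1, 1, -1, 0, -1, 0, -1, 1, 0, 0, 1, 1, 0, 0, -1, 0, -1, 2, 0, 0, 0, 0],
   [1, 1, -1, -1, 1, 0, -1, 0, 1, 1, 0, 0, -1, 1, 0, 0, -1, 0, 1, 0, 2, 0, 0, 0],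
   [1, 1, -1, -1, -1, 0, 1, 0, -1, -1, 0, 0, 1, 1, 0, 0, 1, 0, 1, 0, 0, 2, 0, 0],
   [-1, 1, 1, 1, 1, 0, 1, 0, 1, 1, 0, 0, 1, 1, 0, 0, 1, 0, 1, 0, 0, 0, 0, 2]]

def LX2 : List (List ℤ) :=
  [[8, 0, -4, 0, -4, 4, 4, 4, 0, 0, 0, 0, 4, 4, -4, -4, 4, 4, 0, -4, 0, 0, 0, 0],
   [4, 4, 0, -4, 0, 0, -8, 0, -4, -4, 4, 4, 0, 0, 0, 0, 0, 0, -4, 0, 4, 4, -4, 4],
   [4, 4, 0, 4, 0, -8, 0, 0, 4, 4, -4, -4, 0, 0, 0, 0, 0, 0, -4, 0, 4, -4, -4, 4],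
   [-4, 4, 0, 4, 0, 0, 0, 0, 4, -4, 4, 4, 0, 0, 0, 0, 0, 0, -4, -8, -4, -4, 4, 4],
   [0, 0, 4, 0, 4, -4, 4, -4, 0, 0, 0, 0, 4, -4, 4, -4, 4, 4, 0, -4, 0, 8, 0, 0],
   [0, 0, 4, 8, 4, 4, -4, 4, 0, 0, 0, 0, 4, -4, -4, -4, 4, -4, 0, 4, 0, 0, 0, 0],
   [0, 0, 4, 0, -4, 4, 4, 4, 0, 0, 0, 0, 4, -4, 4, 4, -4, -4, 0, -4, 8, 0, 0, 0],
   [0, 0, -4, 0, 4, -4, -4, 4, 0, 0, 0, 0, 4, 4, 4, 4, 4, -4, 8, -4, 0, 0, 0, 0],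
   [4, -4, 0, -4, 0, 0, 0, 0, 4, 4, -4, 4, 0, 0, 0, 0, 0, -8, -4, 0, -4, 4, 4, 4],
   [-4, 4, 0, 4, -8, 0, 0, 0, -4, 4, -4, 4, 0, 0, 0, 0, 0, 0, 4, 0, -4, 4, -4, 4],
   [0, 0, 4, 0, -4, -4, 4, -4, 0, 0, 8, 0, 4, 4, -4, 4, 4, -4, 0, 4, 0, 0, 0, 0],
   [4, -4, 0, 4, 0, 0, 0, -8, -4, -4, -4, 4, 0, 0, 0, 0, 0, 0, 4, 0, 4, -4, 4, 4],
   [4, 4, 0, -4, 0, 0, 0, 0, -4, 4, 4, -4, 0, -8, 0, 0, 0, 0, 4, 0, -4, -4, 4, 4],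
   [-4, 4, 0, -4, 0, 0, 0, 0, 4, -4, -4, -4, 0, 0, -8, 0, 0, 0, 4, 0, 4, 4, 4, 4],
   [0, 0, 4, 0, 4, 4, -4, -4, 0, 8, 0, 0, 4, 4, -4, 4, -4, 4, 0, -4, 0, 0, 0, 0],
   [0, 0, -4, 0, 4, -4, 4, 4, 0, 0, 0, 8, 4, -4, -4, 4, -4, 4, 0, 4, 0, 0, 0, 0],
   [0, 0, -4, 0, -4, 4, -4, -4, 8, 0, 0, 0, 4, -4, 4, 4, 4, 4, 0, 4, 0, 0, 0, 0],
   [-4, -4, 0, -4, 0, 0, 0, 0, 4, 4, 4, 4, 0, 0, 0, -8, 0, 0, 4, 0, 4, -4, -4, 4],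
   [4, -4, 0, 4, 0, 0, 0, 0, 4, -4, 4, -4, 0, 0, 0, 0, -8, 0, 4, 0, -4, 4, -4, 4],
   [0, 8, -4, 0, 4, 4, 4, -4, 0, 0, 0, 0, 4, 4, 4, -4, -4, -4, 0, 4, 0, 0, 0, 0],
   [-4, -4, -8, 4, 0, 0, 0, 0, -4, 4, 4, -4, 0, 0, 0, 0, 0, 0, -4, 0, 4, 4, 4, 4],
   [0, 0, 4, 0, -4, -4, -4, 4, 0, 0, 0, 0, 4, 4, 4, -4, -4, 4, 0, 4, 0, 0, 8, 0],
   [4, 4, 0, 4, 0, 0, 0, 0, 4, 4, 4, 4, -8, 0, 0, 0, 0, 0, 4, 0, 4, 4, 4, -4],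
   [0, 0, 4, 0, 4, 4, 4, 4, 0, 0, 0, 0, -4, 4, 4, 4, 4, 4, 0, 4, 0, 0, 0, 8]]

def LX4 : List (List ℤ) :=
  [[32, -32, -32, -32, -96, 96, -32, 96, 32, -32, 32, -32, 32, -32, -32, -32, 96, -32, 96, -32, 32, -32, 32, 32],
   [32, -32, -32, -32, 32, -32, -32, -32, -96, -32, 32, -32, 32, 96, -32, -32, 96, 96, -32, 96, 32, -32, 32, 32],
   [-32, 32, -96, -96, -32, 32, 32, 32, -32, 32, -32, 32, -32, 32, 32, 32, 32, 32, -96, -96, -32, 32, -32, 96],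
   [32, -32, 96, -32, 32, -32, -32, -32, 32, -32, 32, 96, -96, -32, -32, 96, 96, -32, -32, -32, 32, -32, 32, 32],
   [32, -32, 96, -32, -96, -32, -32, -32, 32, 96, 32, -32, 32, -32, 96, -32, -32, 96, -32, -32, 32, -32, 32, 32],
   [32, 96, -32, 96, 32, -32, -32, -32, 32, -32, 32, -32, 32, -32, 96, -32, 96, -32, -32, -32, -96, -32, 32, 32],
   [32, -32, -32, 96, 32, -32, -32, 96, -96, 96, 32, -32, 32, -32, -32, 96, -32, -32, -32, -32, 32, -32, 32, 32],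
   [32, -32, -32, -32, 32, -32, -32, -32, 32, -32, 32, -32, 32, -32, -32, 96, -32, 96, 96, -32, -96, 96, 32, 32],
   [96, 32, 32, 32, -32, 32, 32, 32, -32, 32, -160, 32, -32, 32, 32, 32, 32, 32, 32, 32, -32, 32, 96, -32],
   [-32, 32, 32, 32, -32, 32, -96, 32, -32, -96, -32, 32, -32, 32, 32, 32, -96, 32, 32, 32, -32, -96, -32, 96],
   [32, 96, -32, -32, -96, -32, 96, -32, 32, -32, 32, -32, 32, -32, -32, 96, -32, -32, -32, 96, 32, -32, 32, 32],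
   [32, -32, -32, 96, 32, 96, 96, -32, 32, -32, 32, -32, -96, -32, -32, -32, -32, 96, -32, -32, 32, -32, 32, 32],
   [96, 32, 32, 32, -32, 32, 32, 32, -32, 32, 96, 32, -32, 32, 32, 32, 32, 32, 32, 32, -32, 32, -160, -32],
   [32, -32, -32, -32, 32, -32, -32, 96, 32, -32, 32, -32, -96, -32, 96, -32, -32, -32, -32, 96, 32, 96, 32, 32],
   [-32, 32, 32, 32, -32, -96, 32, 32, -32, 32, -32, 32, -32, -96, -96, -96, 32, 32, 32, 32, -32, 32, -32, 96],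
   [32, -32, -32, -32, 32, -32, 96, -32, -96, -32, 32, 96, 32, -32, 96, -32, -32, -32, 96, -32, 32, -32, 32, 32],
   [32, -32, -32, -32, 32, 96, -32, -32, 32, 96, 32, 96, 32, -32, -32, -32, -32, -32, -32, 96, -96, -32, 32, 32],
   [-32, -96, 32, 32, -32, 32, 32, -96, -32, 32, -32, -96, -32, 32, 32, 32, 32, -96, 32, 32, -32, 32, -32, 96],
   [32, -32, 96, -32, 32, -32, 96, 96, 32, -32, 32, -32, 32, 96, -32, -32, -32, -32, -32, -32, -96, -32, 32, 32],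
   [32, 96, 96, -32, 32, 96, -32, -32, -96, -32, 32, -32, 32, -32, -32, -32, -32, -32, -32, -32, 32, 96, 32, 32],
   [-160, 32, 32, 32, -32, 32, 32, 32, -32, 32, 96, 32, -32, 32, 32, 32, 32, 32, 32, 32, -32, 32, 96, -32],
   [32, 96, -32, -32, 32, -32, -32, -32, 32, 96, 32, -32, -96, 96, -32, -32, -32, -32, 96, -32, 32, -32, 32, 32],
   [32, -32, -32, 96, -96, -32, -32, -32, 32, -32, 32, 96, 32, 96, -32, -32, -32, -32, -32, -32, 32, 96, 32, 32],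
   [-32, 32, 32, 32, 96, 32, 32, 32, 96, 32, -32, 32, 96, 32, 32, 32, 32, 32, 32, 32, 96, 32, -32, 96]]

def LX8 : List (List ℤ) :=
  [[8192, 8192, -8192, 8192, 8192, 8192, 8192, 8192, 24576, -8192, 8192, 8192, 24576, 8192, -8192, 8192, 8192, -8192, 8192, 8192, -40960, 8192, 8192, -8192],
   [-8192, -8192, 8192, -8192, -8192, 24576, -8192, -8192, 8192, 8192, 24576, -8192, 8192, -8192, 8192, -8192, -8192, -24576, -8192, 24576, 8192, 24576, -8192, 8192],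
   [-8192, -8192, -24576, 24576, 24576, -8192, -8192, -8192, 8192, 8192, -8192, -8192, 8192, -8192, 8192, -8192, -8192, 8192, 24576, 24576, 8192, -8192, -8192, 8192],
   [-8192, -8192, -24576, -8192, -8192, 24576, 24576, -8192, 8192, 8192, -8192, 24576, 8192, -8192, 8192, -8192, -8192, 8192, -8192, -8192, 8192, -8192, 24576, 8192],
   [-24576, 8192, -8192, 8192, -24576, 8192, 8192, 8192, -8192, -8192, -24576, 8192, -8192, 8192, -8192, 8192, 8192, -8192, 8192, 8192, -8192, 8192, -24576, 24576],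
   [24576, -8192, 8192, -8192, -8192, -8192, -8192, -8192, 8192, 8192, -8192, 24576, 8192, -8192, -24576, -8192, 24576, 8192, -8192, 24576, 8192, -8192, -8192, 8192],
   [-8192, -8192, 8192, -8192, -8192, -8192, -8192, -8192, 8192, -24576, 24576, 24576, 8192, -8192, 8192, 24576, -8192, 8192, 24576, -8192, 8192, -8192, -8192, 8192],
   [24576, -8192, 8192, -8192, -8192, -8192, 24576, -8192, 8192, 8192, -8192, -8192, 8192, 24576, 8192, -8192, -8192, -24576, 24576, -8192, 8192, -8192, -8192, 8192],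
   [8192, -24576, -8192, 8192, 8192, 8192, -24576, 8192, -8192, -8192, 8192, 8192, -8192, 8192, -8192, -24576, 8192, -8192, 8192, -24576, -8192, 8192, 8192, 24576],
   [-8192, -8192, 8192, -8192, 24576, -8192, 24576, -8192, 8192, -24576, -8192, -8192, 8192, -8192, 8192, -8192, 24576, 8192, -8192, -8192, 8192, 24576, -8192, 8192],
   [8192, 8192, -8192, 8192, 8192, 8192, 8192, 8192, -40960, -8192, 8192, 8192, 24576, 8192, -8192, 8192, 8192, -8192, 8192, 8192, 24576, 8192, 8192, -8192],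
   [-8192, -8192, 8192, 24576, -8192, -8192, -8192, -8192, 8192, 8192, -8192, -8192, 8192, -8192, 8192, 24576, 24576, -24576, -8192, -8192, 8192, -8192, 24576, 8192],
   [8192, 8192, -8192, -24576, 8192, 8192, 8192, 8192, -8192, -8192, 8192, -24576, -8192, -24576, -8192, 8192, 8192, -8192, 8192, 8192, -8192, -24576, 8192, 24576],
   [-8192, 24576, 8192, -8192, -8192, -8192, -8192, -8192, 8192, 8192, -8192, -8192, 8192, -8192, -24576, -8192, -8192, 8192, 24576, -8192, 8192, 24576, 24576, 8192],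
   [-8192, -8192, 8192, -8192, 24576, 24576, -8192, -8192, 8192, 8192, -8192, -8192, 8192, 24576, -24576, 24576, -8192, 8192, -8192, -8192, 8192, -8192, -8192, 8192],
   [-8192, -8192, 8192, 24576, -8192, -8192, 24576, 24576, 8192, 8192, 24576, -8192, 8192, -8192, -24576, -8192, -8192, 8192, -8192, -8192, 8192, -8192, -8192, 8192],
   [24576, 24576, 8192, 24576, -8192, 24576, -8192, -8192, 8192, -24576, -8192, -8192, 8192, -8192, 8192, -8192, -8192, 8192, -8192, -8192, 8192, -8192, -8192, 8192],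
   [-8192, 24576, 8192, -8192, 24576, -8192, -8192, 24576, 8192, 8192, -8192, 24576, 8192, -8192, 8192, -8192, -8192, -24576, -8192, -8192, 8192, -8192, -8192, 8192],
   [24576, -8192, -24576, -8192, -8192, -8192, -8192, 24576, 8192, 8192, -8192, -8192, 8192, -8192, 8192, 24576, -8192, 8192, -8192, -8192, 8192, 24576, -8192, 8192],
   [-8192, 24576, -24576, -8192, -8192, -8192, -8192, -8192, 8192, 8192, 24576, -8192, 8192, 24576, 8192, -8192, 24576, 8192, -8192, -8192, 8192, -8192, -8192, 8192],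
   [8192, 8192, -8192, 8192, 8192, -24576, 8192, -24576, -8192, -8192, 8192, 8192, -8192, 8192, -8192, 8192, -24576, -8192, -24576, 8192, -8192, 8192, 8192, 24576],
   [-8192, -8192, 8192, -8192, -8192, -8192, -8192, 24576, 8192, -24576, -8192, -8192, 8192, 24576, 8192, -8192, -8192, 8192, -8192, 24576, 8192, -8192, 24576, 8192],
   [8192, 8192, -8192, 8192, 8192, 8192, 8192, 8192, 24576, -8192, 8192, 8192, -40960, 8192, -8192, 8192, 8192, -8192, 8192, 8192, 24576, 8192, 8192, -8192],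
   [8192, 8192, 24576, 8192, 8192, 8192, 8192, 8192, -8192, 24576, 8192, 8192, -8192, 8192, 24576, 8192, 8192, 24576, 8192, 8192, -8192, 8192, 8192, 24576]]

def LY1 : List (List ℤ) :=
  [[2, 0, 0, 0, 0, -1, 0, -1, 0, 0, -1, -1, 0, 0, -1, -1, 0, -1, 0, -1, -1, -1, -1, 1],
   [0, 2, 0, 0, 0, -1, 0, 1, 0, 0, 1, 1, 0, 0, -1, -1, 0, 1, 0, -1, -1, -1, 1, -1],
   [0, 0, 2, 0, 0, -1, 0, -1, 0, 0, -1, 1, 0, 0, 1, -1, 0, -1, 0, -1, 1, 1, 1, -1],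
   [0, 0, 0, 2, 0, 1, 0, 1, 0, 0, 1, -1, 0, 0, -1, -1, 0, -1, 0, -1, 1, 1, -1, -1],
   [0, 0, 0, 0, 2, 1, 0, -1, 0, 0, -1, -1, 0, 0, -1, -1, 0, 1, 0, 1, -1, 1, 1, -1],
   [1, 1, 1, -1, -1, 2, 1, 0, 1, 1, 0, 0, -1, -1, 0, 0, 1, 0, -1, 0, 0, 0, 0, 0],
   [0, 0, 0, 0, 0, -1, 2, -1, 0, 0, 1, -1, 0, 0, 1, -1, 0, 1, 0, 1, 1, -1, -1, -1],
   [1, -1, 1, -1, 1, 0, 1, 2, 1, -1, 0, 0, 1, 1, 0, 0, -1, 0, -1, 0, 0, 0, 0, 0],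
   [0, 0, 0, 0, 0, -1, 0, -1, 2, 0, 1, 1, 0, 0, -1, 1, 0, -1, 0, 1, -1, 1, -1, -1],
   [0, 0, 0, 0, 0, -1, 0, 1, 0, 2, -1, -1, 0, 0, 1, 1, 0, 1, 0, -1, -1, 1, -1, -1],
   [1, -1, 1, -1, 1, 0, -1, 0, -1, 1, 2, 0, 1, -1, 0, 0, 1, 0, 1, 0, 0, 0, 0, 0],
   [1, -1, -1, 1, 1, 0, 1, 0, -1, 1, 0, 2, -1, 1, 0, 0, 1, 0, -1, 0, 0, 0, 0, 0],
   [0, 0, 0, 0, 0, 1, 0, -1, 0, 0, -1, 1, 2, 0, -1, 1, 0, 1, 0, -1, 1, -1, -1, -1],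
   [0, 0, 0, 0, 0, 1, 0, -1, 0, 0, 1, -1, 0, 2, 1, 1, 0, -1, 0, -1, -1, -1, 1, -1],
   [1, 1, -1, 1, 1, 0, -1, 0, 1, -1, 0, 0, 1, -1, 2, 0, 1, 0, -1, 0, 0, 0, 0, 0],
   [1, 1, 1, 1, 1, 0, 1, 0, -1, -1, 0, 0, -1, -1, 0, 2, -1, 0, 1, 0, 0, 0, 0, 0],
   [0, 0, 0, 0, 0, -1, 0, 1, 0, 0, -1, -1, 0, 0, -1, 1, 2, -1, 0, 1, 1, -1, 1, -1],
   [1, -1, 1, 1, -1, 0, -1, 0, 1, -1, 0, 0, -1, 1, 0, 0, 1, 2, 1, 0, 0, 0, 0, 0],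
   [0, 0, 0, 0, 0, 1, 0, 1, 0, 0, -1, 1, 0, 0, 1, -1, 0, -1, 2, 1, -1, -1, -1, -1],
   [1, 1, 1, 1, -1, 0, -1, 0, -1, 1, 0, 0, 1, 1, 0, 0, -1, 0, -1, 2, 0, 0, 0, 0],
   [1, 1, -1, -1, 1, 0, -1, 0, 1, 1, 0, 0, -1, 1, 0, 0, -1, 0, 1, 0, 2, 0, 0, 0],
   [1, 1, -1, -1, -1, 0, 1, 0, -1, -1, 0, 0, 1, 1, 0, 0, 1, 0, 1, 0, 0, 2, 0, 0],
   [1, -1, -1, 1, -1, 0, 1, 0, 1, 1, 0, 0, 1, -1, 0, 0, -1, 0, 1, 0, 0, 0, 2, 0],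
   [-1, 1, 1, 1, 1, 0, 1, 0, 1, 1, 0, 0, 1, 1, 0, 0, 1, 0, 1, 0, 0, 0, 0, 2]]

def LY2 : List (List ℤ) :=
  [[-8, 0, 0, 0, 0, -4, 0, -4, 0, 0, -4, -4, 0, 0, -4, -4, 0, -4, 0, -4, -4, -4, -4, 4],
   [0, -8, 0, 0, 0, -4, 0, 4, 0, 0, 4, 4, 0, 0, -4, -4, 0, 4, 0, -4, -4, -4, 4, -4],
   [0, 0, -8, 0, 0, -4, 0, -4, 0, 0, -4, 4, 0, 0, 4, -4, 0, -4, 0, -4, 4, 4, 4, -4],
   [0, 0, 0, -8, 0, 4, 0, 4, 0, 0, 4, -4, 0, 0, -4, -4, 0, -4, 0, -4, 4, 4, -4, -4],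
   [0, 0, 0, 0, -8, 4, 0, -4, 0, 0, -4, -4, 0, 0, -4, -4, 0, 4, 0, 4, -4, 4, 4, -4],
   [4, 4, 4, -4, -4, -8, 4, 0, 4, 4, 0, 0, -4, -4, 0, 0, 4, 0, -4, 0, 0, 0, 0, 0],
   [0, 0, 0, 0, 0, -4, -8, -4, 0, 0, 4, -4, 0, 0, 4, -4, 0, 4, 0, 4, 4, -4, -4, -4],
   [4, -4, 4, -4, 4, 0, 4, -8, 4, -4, 0, 0, 4, 4, 0, 0, -4, 0, -4, 0, 0, 0, 0, 0],
   [0, 0, 0, 0, 0, -4, 0, -4, -8, 0, 4, 4, 0, 0, -4, 4, 0, -4, 0, 4, -4, 4, -4, -4],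
   [0, 0, 0, 0, 0, -4, 0, 4, 0, -8, -4, -4, 0, 0, 4, 4, 0, 4, 0, -4, -4, 4, -4, -4],
   [4, -4, 4, -4, 4, 0, -4, 0, -4, 4, -8, 0, 4, -4, 0, 0, 4, 0, 4, 0, 0, 0, 0, 0],
   [4, -4, -4, 4, 4, 0, 4, 0, -4, 4, 0, -8, -4, 4, 0, 0, 4, 0, -4, 0, 0, 0, 0, 0],
   [0, 0, 0, 0, 0, 4, 0, -4, 0, 0, -4, 4, -8, 0, -4, 4, 0, 4, 0, -4, 4, -4, -4, -4],
   [0, 0, 0, 0, 0, 4, 0, -4, 0, 0, 4, -4, 0, -8, 4, 4, 0, -4, 0, -4, -4, -4, 4, -4],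
   [4, 4, -4, 4, 4, 0, -4, 0, 4, -4, 0, 0, 4, -4, -8, 0, 4, 0, -4, 0, 0, 0, 0, 0],
   [4, 4, 4, 4, 4, 0, 4, 0, -4, -4, 0, 0, -4, -4, 0, -8, -4, 0, 4, 0, 0, 0, 0, 0],
   [0, 0, 0, 0, 0, -4, 0, 4, 0, 0, -4, -4, 0, 0, -4, 4, -8, -4, 0, 4, 4, -4, 4, -4],
   [4, -4, 4, 4, -4, 0, -4, 0, 4, -4, 0, 0, -4, 4, 0, 0, 4, -8, 4, 0, 0, 0, 0, 0],
   [0, 0, 0, 0, 0, 4, 0, 4, 0, 0, -4, 4, 0, 0, 4, -4, 0, -4, -8, 4, -4, -4, -4, -4],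
   [4, 4, 4, 4, -4, 0, -4, 0, -4, 4, 0, 0, 4, 4, 0, 0, -4, 0, -4, -8, 0, 0, 0, 0],
   [4, 4, -4, -4, 4, 0, -4, 0, 4, 4, 0, 0, -4, 4, 0, 0, -4, 0, 4, 0, -8, 0, 0, 0],
   [4, 4, -4, -4, -4, 0, 4, 0, -4, -4, 0, 0, 4, 4, 0, 0, 4, 0, 4, 0, 0, -8, 0, 0],
   [4, -4, -4, 4, -4, 0, 4, 0, 4, 4, 0, 0, 4, -4, 0, 0, -4, 0, 4, 0, 0, 0, -8, 0],
   [-4, 4, 4, 4, 4, 0, 4, 0, 4, 4, 0, 0, 4, 4, 0, 0, 4, 0, 4, 0, 0, 0, 0, -8]]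

def LW : List (List ℤ) :=
  [[-1, 1, 1, 1, 1, 0, 1, 0, 1, 1, 0, 0, 1, 1, 0, 0, 1, 0, 1, 0, 0, 0, 0, 2],
   [1, -1, -1, 1, -1, 0, 1, 0, 1, 1, 0, 0, 1, -1, 0, 0, -1, 0, 1, 0, 0, 0, 2, 0],
   [1, -1, -1, 1, 1, 0, 1, 0, -1, 1, 0, 2, -1, 1, 0, 0, 1, 0, -1, 0, 0, 0, 0, 0],
   [1, 1, 1, 1, 1, 0, 1, 0, -1, -1, 0, 0, -1, -1, 0, 2, -1, 0, 1, 0, 0, 0, 0, 0],
   [1, -1, 1, 1, -1, 0, -1, 0, 1, -1, 0, 0, -1, 1, 0, 0, 1, 2, 1, 0, 0, 0, 0, 0],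
   [0, 0, 0, 0, 0, 1, 0, -1, 0, -2, 1, 1, 0, 0, -1, -1, 0, -1, 0, 1, 1, -1, 1, 1],
   [1, 1, 1, 1, -1, 0, -1, 0, -1, 1, 0, 0, 1, 1, 0, 0, -1, 0, -1, 2, 0, 0, 0, 0],
   [0, 0, 0, 0, 0, -1, 0, 1, 0, 0, -1, 1, 0, -2, -1, -1, 0, 1, 0, 1, 1, 1, -1, 1],
   [1, 1, -1, -1, 1, 0, -1, 0, 1, 1, 0, 0, -1, 1, 0, 0, -1, 0, 1, 0, 2, 0, 0, 0],
   [1, 1, 1, -1, -1, 2, 1, 0, 1, 1, 0, 0, -1, -1, 0, 0, 1, 0, -1, 0, 0, 0, 0, 0],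
   [0, 0, 0, 0, 0, 1, 0, -1, 0, 0, 1, 1, 0, 0, 1, -1, -2, 1, 0, -1, -1, 1, -1, 1],
   [0, 0, -2, 0, 0, 1, 0, 1, 0, 0, 1, -1, 0, 0, -1, 1, 0, 1, 0, 1, -1, -1, -1, 1],
   [1, 1, -1, -1, -1, 0, 1, 0, -1, -1, 0, 0, 1, 1, 0, 0, 1, 0, 1, 0, 0, 2, 0, 0],
   [1, -1, 1, -1, 1, 0, 1, 2, 1, -1, 0, 0, 1, 1, 0, 0, -1, 0, -1, 0, 0, 0, 0, 0],
   [0, 0, 0, 0, 0, -1, 0, -1, 0, 0, 1, -1, 0, 0, -1, 1, 0, 1, -2, -1, 1, 1, 1, 1],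
   [0, 0, 0, -2, 0, -1, 0, -1, 0, 0, -1, 1, 0, 0, 1, 1, 0, 1, 0, 1, -1, -1, 1, 1],
   [1, -1, 1, -1, 1, 0, -1, 0, -1, 1, 2, 0, 1, -1, 0, 0, 1, 0, 1, 0, 0, 0, 0, 0],
   [0, 0, 0, 0, -2, -1, 0, 1, 0, 0, 1, 1, 0, 0, 1, 1, 0, -1, 0, -1, 1, -1, -1, 1],
   [1, 1, -1, 1, 1, 0, -1, 0, 1, -1, 0, 0, 1, -1, 2, 0, 1, 0, -1, 0, 0, 0, 0, 0],
   [0, 0, 0, 0, 0, 1, -2, 1, 0, 0, -1, 1, 0, 0, -1, 1, 0, -1, 0, -1, -1, 1, 1, 1],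
   [0, 0, 0, 0, 0, 1, 0, 1, -2, 0, -1, -1, 0, 0, 1, -1, 0, 1, 0, -1, 1, -1, 1, 1],
   [0, 0, 0, 0, 0, -1, 0, 1, 0, 0, 1, -1, -2, 0, 1, -1, 0, -1, 0, 1, -1, 1, 1, 1],
   [0, -2, 0, 0, 0, 1, 0, -1, 0, 0, -1, -1, 0, 0, 1, 1, 0, -1, 0, 1, 1, 1, -1, 1],
   [-2, 0, 0, 0, 0, 1, 0, 1, 0, 0, 1, 1, 0, 0, 1, 1, 0, 1, 0, 1, 1, 1, 1, -1]]

def LT2 : List (List ℤ) :=
  [[-2, 0, 0, 0, 0, -1, 0, -1, 0, 0, -1, -1, 0, 0, -1, -1, 0, -1, 0, -1, -1, -1, -1, 1],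
   [0, -2, 0, 0, 0, -1, 0, 1, 0, 0, 1, 1, 0, 0, -1, -1, 0, 1, 0, -1, -1, -1, 1, -1],
   [0, 0, -2, 0, 0, -1, 0, -1, 0, 0, -1, 1, 0, 0, 1, -1, 0, -1, 0, -1, 1, 1, 1, -1],
   [0, 0, 0, -2, 0, 1, 0, 1, 0, 0, 1, -1, 0, 0, -1, -1, 0, -1, 0, -1, 1, 1, -1, -1],
   [0, 0, 0, 0, -2, 1, 0, -1, 0, 0, -1, -1, 0, 0, -1, -1, 0, 1, 0, 1, -1, 1, 1, -1],
   [-1, -1, -1, 1, 1, 2, -1, 0, -1, -1, 0, 0, 1, 1, 0, 0, -1, 0, 1, 0, 0, 0, 0, 0],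
   [0, 0, 0, 0, 0, -1, -2, -1, 0, 0, 1, -1, 0, 0, 1, -1, 0, 1, 0, 1, 1, -1, -1, -1],
   [-1, 1, -1, 1, -1, 0, -1, 2, -1, 1, 0, 0, -1, -1, 0, 0, 1, 0, 1, 0, 0, 0, 0, 0],
   [0, 0, 0, 0, 0, -1, 0, -1, -2, 0, 1, 1, 0, 0, -1, 1, 0, -1, 0, 1, -1, 1, -1, -1],
   [0, 0, 0, 0, 0, -1, 0, 1, 0, -2, -1, -1, 0, 0, 1, 1, 0, 1, 0, -1, -1, 1, -1, -1],
   [-1, 1, -1, 1, -1, 0, 1, 0, 1, -1, 2, 0, -1, 1, 0, 0, -1, 0, -1, 0, 0, 0, 0, 0],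
   [-1, 1, 1, -1, -1, 0, -1, 0, 1, -1, 0, 2, 1, -1, 0, 0, -1, 0, 1, 0, 0, 0, 0, 0],
   [0, 0, 0, 0, 0, 1, 0, -1, 0, 0, -1, 1, -2, 0, -1, 1, 0, 1, 0, -1, 1, -1, -1, -1],
   [0, 0, 0, 0, 0, 1, 0, -1, 0, 0, 1, -1, 0, -2, 1, 1, 0, -1, 0, -1, -1, -1, 1, -1],
   [-1, -1, 1, -1, -1, 0, 1, 0, -1, 1, 0, 0, -1, 1, 2, 0, -1, 0, 1, 0, 0, 0, 0, 0],
   [-1, -1, -1, -1, -1, 0, -1, 0, 1, 1, 0, 0, 1, 1, 0, 2, 1, 0, -1, 0, 0, 0, 0, 0],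
   [0, 0, 0, 0, 0, -1, 0, 1, 0, 0, -1, -1, 0, 0, -1, 1, -2, -1, 0, 1, 1, -1, 1, -1],
   [-1, 1, -1, -1, 1, 0, 1, 0, -1, 1, 0, 0, 1, -1, 0, 0, -1, 2, -1, 0, 0, 0, 0, 0],
   [0, 0, 0, 0, 0, 1, 0, 1, 0, 0, -1, 1, 0, 0, 1, -1, 0, -1, -2, 1, -1, -1, -1, -1],
   [-1, -1, -1, -1, 1, 0, 1, 0, 1, -1, 0, 0, -1, -1, 0, 0, 1, 0, 1, 2, 0, 0, 0, 0],
   [-1, -1, 1, 1, -1, 0, 1, 0, -1, -1, 0, 0, 1, -1, 0, 0, 1, 0, -1, 0, 2, 0, 0, 0],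
   [-1, -1, 1, 1, 1, 0, -1, 0, 1, 1, 0, 0, -1, -1, 0, 0, -1, 0, -1, 0, 0, 2, 0, 0],
   [-1, 1, 1, -1, 1, 0, -1, 0, -1, -1, 0, 0, -1, 1, 0, 0, 1, 0, -1, 0, 0, 0, 2, 0],
   [1, -1, -1, -1, -1, 0, -1, 0, -1, -1, 0, 0, -1, -1, 0, 0, -1, 0, -1, 0, 0, 0, 0, 2]]

def LT3 : List (List ℤ) :=
  [[1, -1, -1, -1, -1, 0, -1, 0, -1, -1, 0, 0, -1, -1, 0, 0, -1, 0, -1, 0, 0, 0, 0, -2],
   [-1, 1, 1, -1, 1, 0, -1, 0, -1, -1, 0, 0, -1, 1, 0, 0, 1, 0, -1, 0, 0, 0, -2, 0],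
   [-1, 1, 1, -1, -1, 0, -1, 0, 1, -1, 0, -2, 1, -1, 0, 0, -1, 0, 1, 0, 0, 0, 0, 0],
   [-1, -1, -1, -1, -1, 0, -1, 0, 1, 1, 0, 0, 1, 1, 0, -2, 1, 0, -1, 0, 0, 0, 0, 0],
   [-1, 1, -1, -1, 1, 0, 1, 0, -1, 1, 0, 0, 1, -1, 0, 0, -1, -2, -1, 0, 0, 0, 0, 0],
   [0, 0, 0, 0, 0, -1, 0, 1, 0, 2, -1, -1, 0, 0, 1, 1, 0, 1, 0, -1, -1, 1, -1, -1],
   [-1, -1, -1, -1, 1, 0, 1, 0, 1, -1, 0, 0, -1, -1, 0, 0, 1, 0, 1, -2, 0, 0, 0, 0],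
   [0, 0, 0, 0, 0, 1, 0, -1, 0, 0, 1, -1, 0, 2, 1, 1, 0, -1, 0, -1, -1, -1, 1, -1],
   [-1, -1, 1, 1, -1, 0, 1, 0, -1, -1, 0, 0, 1, -1, 0, 0, 1, 0, -1, 0, -2, 0, 0, 0],
   [-1, -1, -1, 1, 1, -2, -1, 0, -1, -1, 0, 0, 1, 1, 0, 0, -1, 0, 1, 0, 0, 0, 0, 0],
   [0, 0, 0, 0, 0, -1, 0, 1, 0, 0, -1, -1, 0, 0, -1, 1, 2, -1, 0, 1, 1, -1, 1, -1],
   [0, 0, 2, 0, 0, -1, 0, -1, 0, 0, -1, 1, 0, 0, 1, -1, 0, -1, 0, -1, 1, 1, 1, -1],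
   [-1, -1, 1, 1, 1, 0, -1, 0, 1, 1, 0, 0, -1, -1, 0, 0, -1, 0, -1, 0, 0, -2, 0, 0],
   [-1, 1, -1, 1, -1, 0, -1, -2, -1, 1, 0, 0, -1, -1, 0, 0, 1, 0, 1, 0, 0, 0, 0, 0],
   [0, 0, 0, 0, 0, 1, 0, 1, 0, 0, -1, 1, 0, 0, 1, -1, 0, -1, 2, 1, -1, -1, -1, -1],
   [0, 0, 0, 2, 0, 1, 0, 1, 0, 0, 1, -1, 0, 0, -1, -1, 0, -1, 0, -1, 1, 1, -1, -1],
   [-1, 1, -1, 1, -1, 0, 1, 0, 1, -1, -2, 0, -1, 1, 0, 0, -1, 0, -1, 0, 0, 0, 0, 0],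
   [0, 0, 0, 0, 2, 1, 0, -1, 0, 0, -1, -1, 0, 0, -1, -1, 0, 1, 0, 1, -1, 1, 1, -1],
   [-1, -1, 1, -1, -1, 0, 1, 0, -1, 1, 0, 0, -1, 1, -2, 0, -1, 0, 1, 0, 0, 0, 0, 0],
   [0, 0, 0, 0, 0, -1, 2, -1, 0, 0, 1, -1, 0, 0, 1, -1, 0, 1, 0, 1, 1, -1, -1, -1],
   [0, 0, 0, 0, 0, -1, 0, -1, 2, 0, 1, 1, 0, 0, -1, 1, 0, -1, 0, 1, -1, 1, -1, -1],
   [0, 0, 0, 0, 0, 1, 0, -1, 0, 0, -1, 1, 2, 0, -1, 1, 0, 1, 0, -1, 1, -1, -1, -1],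
   [0, 2, 0, 0, 0, -1, 0, 1, 0, 0, 1, 1, 0, 0, -1, -1, 0, 1, 0, -1, -1, -1, 1, -1],
   [2, 0, 0, 0, 0, -1, 0, -1, 0, 0, -1, -1, 0, 0, -1, -1, 0, -1, 0, -1, -1, -1, -1, 1]]

/-! ### products -/

theorem mulX1 : MA * ZB = ofL LX1 := by decide +kernel
theorem mulX2 : ofL LX1 * ofL LX1 = ofL LX2 := by decide +kernel
theorem mulX4 : ofL LX2 * ofL LX2 = ofL LX4 := by decide +kernel
theorem mulX8 : ofL LX4 * ofL LX4 = ofL LX8 := by decide +kernel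
theorem mulX12 : ofL LX8 * ofL LX4 = (16777216 : ℤ) • (1 : Matrix GolayPt GolayPt ℤ) := by
  decide +kernel

theorem mulY1 : ME * ZB = ofL LY1 := by decide +kernel
theorem mulY2 : ofL LY1 * ofL LY1 = ofL LY2 := by decide +kernel
theorem mulY3 : ofL LY2 * ofL LY1 = (64 : ℤ) • (-1 : Matrix GolayPt GolayPt ℤ) := by
  decide +kernel

theorem mulW : MB * ZB = ofL LW := by decide +kernel
theorem mulT2 : ofL LY1 * ME = ofL LT2 := by decide +kernel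
theorem mulT3 : ofL LT2 * MB = ofL LT3 := by decide +kernel
theorem negT3 : -ofL LT3 = ofL LW := by decide +kernel

/-! ### the identities -/

/-- `(a z)^12 = 1`. -/
theorem rel_AZ12 : (PA * zE) ^ 12 = 1 := by
  set g : ↥Co0 := PA * zE with hg
  have r1 : Rep g (ofL LX1) 4 := (rep_PA.mul rep_zE).congr mulX1 (by norm_num)
  have r2 : Rep (g * g) (ofL LX2) 16 := (r1.mul r1).congr mulX2 (by norm_num)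
  have r4 : Rep (g * g * (g * g)) (ofL LX4) 256 := (r2.mul r2).congr mulX4 (by norm_num)
  have r8 : Rep (g * g * (g * g) * (g * g * (g * g))) (ofL LX8) 65536 :=
    (r4.mul r4).congr mulX8 (by norm_num)
  have r12 : Rep (g * g * (g * g) * (g * g * (g * g)) * (g * g * (g * g)))
      ((16777216 : ℤ) • (1 : Matrix GolayPt GolayPt ℤ)) 16777216 :=
    (r8.mul r4).congr mulX12 (by norm_num)
  have r0 : Rep 1 ((16777216 : ℤ) • (1 : Matrix GolayPt GolayPt ℤ)) 16777216 :=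
    (rep_one.scale 16777216).congr rfl (by norm_num)
  have e := Rep.ext (by norm_num) r12 r0
  calc g ^ 12 = g * g * (g * g) * (g * g * (g * g)) * (g * g * (g * g)) := by
        simp only [pow_succ, pow_zero, one_mul, mul_assoc]
    _ = 1 := e

/-- `(e z)^3 = -1`. -/
theorem rel_EZ3 : (EQ * zE) ^ 3 = negElt := by
  set g : ↥Co0 := EQ * zE with hg
  have r1 : Rep g (ofL LY1) 4 := (rep_EQ.mul rep_zE).congr mulY1 (by norm_num)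
  have r2 : Rep (g * g) (ofL LY2) 16 := (r1.mul r1).congr mulY2 (by norm_num)
  have r3 : Rep (g * g * g) ((64 : ℤ) • (-1 : Matrix GolayPt GolayPt ℤ)) 64 :=
    (r2.mul r1).congr mulY3 (by norm_num)
  have r0 : Rep negElt ((64 : ℤ) • (-1 : Matrix GolayPt GolayPt ℤ)) 64 :=
    (rep_neg.scale 64).congr rfl (by norm_num)
  have e := Rep.ext (by norm_num) r3 r0
  calc g ^ 3 = g * g * g := by
        simp only [pow_succ, pow_zero, one_mul]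
    _ = negElt := e

/-- `b z = -(e z e) b`. -/
theorem rel_BZ : PB * zE = negElt * (EQ * zE * EQ * PB) := by
  have r1 : Rep (PB * zE) (ofL LW) 4 := (rep_PB.mul rep_zE).congr mulW (by norm_num)
  have s1 : Rep (EQ * zE) (ofL LY1) 4 := (rep_EQ.mul rep_zE).congr mulY1 (by norm_num)
  have s2 : Rep (EQ * zE * EQ) (ofL LT2) 4 := (s1.mul rep_EQ).congr mulT2 (by norm_num)
  have s3 : Rep (EQ * zE * EQ * PB) (ofL LT3) 4 := (s2.mul rep_PB).congr mulT3 (by norm_num)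
  have s4 : Rep (negElt * (EQ * zE * EQ * PB)) (ofL LW) 4 := s3.neg.congr negT3 rfl
  exact Rep.ext (by norm_num) r1 s4

end Cfsg.Agent.Lib.Helper92_Rep
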