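import Cfsg.Agent.Lib.Helper92_O8a
import Cfsg.Agent.Lib.Helper92_Rep

/-!
The kernel of the homomorphism `rho` of `Helper92_O8a` and the stabiliser of the image of
`(4, 4, 0^22)`: two norm 32 vectors of the octad sublattice which are congruent modulo twice the
sublattice are equal or opposite, so an element whose matrix fixes the image of `(4, 4, 0^22)`
maps this vector to itself or to its negative.
-/

set_option autoImplicit false
set_option linter.constructorNameAsVariable false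
open Cfsg

namespace Cfsg.Agent.Lib.Helper92_O8b

open Cfsg.Agent.Lib.Helper7_M24 Cfsg.Agent.Lib.Helper7_Leech Cfsg.Agent.Lib.Helper92_Monomial
  Cfsg.Agent.Lib.Helper92_Co0Order Cfsg.Agent.Lib.Helper7_Mono Cfsg.Agent.Lib.Helper92_E8a
  Cfsg.Agent.Lib.Helper92_E8b Cfsg.Agent.Lib.Helper92_E8c Cfsg.Agent.Lib.Helper92_E8d
  Cfsg.Agent.Lib.Helper92_E8e Cfsg.Agent.Lib.Helper92_O8a
open Cfsg.Agent.S5546 (Lam vec8 e8 addHom addHom_apply dot_map)
open Cfsg.Agent.S0398 (negElt negElt_mem_center)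
open Cfsg.Spor (vecU leechU)
open Matrix

/-! ### congruent norm 32 vectors -/

theorem root_congr (x y : Lam) (hx : Supp8 x.1) (hy : Supp8 y.1) (hxN : sqNorm x.1 = 32)
    (hyN : sqNorm y.1 = 32) (h : cbar y.1 = cbar x.1) : y = x ∨ y = -x := by
  have hpar : ∀ l : I8, ∃ m : ℤ, coef y.1 l = coef x.1 l + 2 * m := by
    intro l
    have hz : ((coef y.1 l : ℤ) : ZMod 2) = ((coef x.1 l : ℤ) : ZMod 2) := congrFun h l
    have hd := (ZMod.intCast_eq_intCast_iff_dvd_sub _ _ 2).mp hz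
    obtain ⟨m, hm⟩ := hd
    have hm' : coef x.1 l - coef y.1 l = 2 * m := by exact_mod_cast hm
    exact ⟨-m, by linarith⟩
  choose m hm using hpar
  obtain ⟨z, hz⟩ : ∃ z : Lam, z = ∑ l : I8, m l • bE l := ⟨_, rfl⟩
  have hzs : Supp8 z.1 := by
    rw [hz]
    exact supp8_comb m
  have e1 : y = x + z + z := by
    have ey := expand y hy
    have h2 : ∑ l : I8, coef y.1 l • bE l =
        ∑ l : I8, coef x.1 l • bE l + (2 : ℤ) • ∑ l : I8, m l • bE l := by
      rw [Finset.smul_sum, ← Finset.sum_add_distrib]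
      apply Finset.sum_congr rfl
      intro l _
      rw [hm l, add_smul, mul_smul]
    rw [h2, ← expand x hx, ← hz] at ey
    rw [ey]
    module
  have e2 : sqNorm (x.1 + z.1 + z.1) = 32 := by
    have : y.1 = x.1 + z.1 + z.1 := by rw [e1]; rfl
    rw [← this]
    exact hyN
  have hp := parallelogram x.1 z.1
  have hd1 := dvd32_sqNorm z.1 z.2 hzs
  have n1 := sqNorm_nonneg' z.1
  have hd2 := dvd32_sqNorm (x + z).1 (x + z).2 (supp8_add hx hzs)
  have n2 := sqNorm_nonneg' (x + z).1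
  have e3 : (x + z).1 = x.1 + z.1 := rfl
  rw [e3] at hd2 n2
  rw [e2, hxN] at hp
  have hcase : sqNorm z.1 = 0 ∨ sqNorm (x.1 + z.1) = 0 := by omega
  rcases hcase with h0 | h0
  · left
    have : z = 0 := Subtype.ext (eq_zero_of_sqNorm _ h0)
    rw [e1, this, add_zero, add_zero]
  · right
    have : x + z = 0 := Subtype.ext (eq_zero_of_sqNorm _ h0)
    have hz' : z = -x := by
      rw [add_comm] at this
      exact eq_neg_of_add_eq_zero_left this
    rw [e1, hz']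
    abel

/-! ### the image of `(4, 4, 0^22)` -/

/-- The coordinates of `(4, 4, 0^22)` in the hyperbolic basis, modulo 2. -/
def v0 : J8 → ZMod 2 := fun j => if j = Sum.inl 0 ∨ j = Sum.inr 0 then 1 else 0

theorem cbar_UL : cbar UL.1 = Pm *ᵥ v0 := by
  funext l
  show ((coef vecU l : ℤ) : ZMod 2) = (Pm *ᵥ v0) l
  revert l
  decide +kernel

theorem kappa_UL : Pinv *ᵥ cbar UL.1 = v0 := by
  rw [cbar_UL, Matrix.mulVec_mulVec, Pinv_Pm, Matrix.one_mulVec]

theorem qplus_v0 : Cfsg.quadFormPlus 4 (ZMod 2) v0 = 1 := by decide +kernel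

theorem coef_neg (x : Lam) (hx : Supp8 x.1) (l : I8) : coef (-x).1 l = -coef x.1 l := by
  have h1 : dotInt (-x).1 (dV l) = 16 * (-coef x.1 l) := by
    have : (-x).1 = -x.1 := rfl
    rw [this, dotInt_comm', dotInt_neg_right, dotInt_comm', coef_spec x hx l]
    ring
  unfold coef at h1 ⊢
  rw [h1]
  exact Int.mul_ediv_cancel_left _ (by norm_num)

theorem cbar_neg (x : Lam) (hx : Supp8 x.1) : cbar (-x).1 = cbar x.1 := by
  funext l
  show ((coef (-x).1 l : ℤ) : ZMod 2) = ((coef x.1 l : ℤ) : ZMod 2)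
  rw [coef_neg x hx l, Int.cast_neg, ZMod.neg_eq_self_mod_two]

theorem rhoM_mulVec_kappa {g : ↥Co0} (hg : g ∈ Ct) (x : Lam) (hx : Supp8 x.1) :
    rhoM g *ᵥ (Pinv *ᵥ cbar x.1) = Pinv *ᵥ cbar (g • x).1 := by
  rw [cbar_smul hg x hx]
  unfold rhoM
  rw [Matrix.mulVec_mulVec, Matrix.mulVec_mulVec, Matrix.mul_assoc, Matrix.mul_assoc,
    Pm_Pinv, Matrix.mul_one]

/-- An element whose matrix fixes the image of `(4, 4, 0^22)` maps this vector to itself or to its
negative. -/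
theorem stab_v0 {g : ↥Co0} (hg : g ∈ Ct) (h : rhoM g *ᵥ v0 = v0) :
    g • UL = UL ∨ g • UL = -UL := by
  apply root_congr UL (g • UL) supp8_UL (supp_smulC hg UL supp8_UL) sqNorm_UL
    (by rw [sqNorm_smul, sqNorm_UL])
  have h1 := rhoM_mulVec_kappa hg UL supp8_UL
  rw [kappa_UL, h] at h1
  have h2 : Pm *ᵥ v0 = Pm *ᵥ (Pinv *ᵥ cbar (g • UL).1) := congrArg (fun w => Pm *ᵥ w) h1
  rw [Matrix.mulVec_mulVec, Pm_Pinv, Matrix.one_mulVec] at h2
  rw [← h2, cbar_UL]

theorem rhoM_fix_v0 {g : ↥Co0} (hg : g ∈ Ct) (h : g • UL = UL ∨ g • UL = -UL) :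
    rhoM g *ᵥ v0 = v0 := by
  have h1 := rhoM_mulVec_kappa hg UL supp8_UL
  rw [kappa_UL] at h1
  rw [h1]
  rcases h with h | h
  · rw [h, kappa_UL]
  · rw [h, cbar_neg UL supp8_UL, kappa_UL]

/-! ### the negation -/

theorem negElt_smul'' (v : Lam) : negElt • v = -v := rfl

theorem negElt_comm' (g : ↥Co0) : negElt * g = g * negElt :=
  (Subgroup.mem_center_iff.mp negElt_mem_center g).symm

theorem negElt_mem_Ct : negElt ∈ Ct := (mem_Ct _).mpr (negElt_comm' tE).symm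

theorem neg_mul_mem_Ct {g : ↥Co0} (hg : g ∈ Ct) : negElt * g ∈ Ct := Ct.mul_mem negElt_mem_Ct hg

theorem Abar_neg {g : ↥Co0} (hg : g ∈ Ct) : Abar (negElt * g) = Abar g := by
  funext i l
  show ((coef ((negElt * g) • bE l).1 i : ℤ) : ZMod 2) = ((coef (g • bE l).1 i : ℤ) : ZMod 2)
  rw [mul_smul', negElt_smul'', coef_neg _ (supp_smulC hg _ (bV_supp l)), Int.cast_neg,
    ZMod.neg_eq_self_mod_two]

theorem rhoM_neg {g : ↥Co0} (hg : g ∈ Ct) : rhoM (negElt * g) = rhoM g := by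
  unfold rhoM
  rw [Abar_neg hg]

theorem rhoM_negElt : rhoM negElt = 1 := by
  have h := rhoM_neg (Ct.one_mem)
  rw [mul_one, rhoM_one] at h
  exact h

/-! ### the kernel -/

theorem C0_le_Ct {g : ↥Co0} (hg : g ∈ C0) : g ∈ Ct := (mem_Ct g).mpr ((mem_C0 g).mp hg).1

theorem phiM_of_rhoM {g : ↥Co0} (h : rhoM g = 1) : phiM g = 1 := by
  have hA : Abar g = 1 := by
    rw [Abar_of_rhoM, h, Matrix.mul_one, Pm_Pinv]
  funext a b
  show ((Amat g (Sum.inl a) (Sum.inl b) : ℤ) : ZMod 2) = _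
  have h1 : Abar g (Sum.inl a) (Sum.inl b) = (1 : Matrix I8 I8 (ZMod 2)) (Sum.inl a) (Sum.inl b) := by
    rw [hA]
  rw [Matrix.one_apply] at h1
  rw [Matrix.one_apply]
  by_cases hab : a = b
  · rw [if_pos hab]
    rw [if_pos (by rw [hab])] at h1
    exact h1
  · rw [if_neg hab]
    rw [if_neg (fun h' => hab (Sum.inl_injective h'))] at h1
    exact h1

/-- The elements of the kernel of `phi` fix the octad sublattice pointwise. -/
theorem fix_of_phiM {g : ↥Co0} (hg : g ∈ C0) (h1 : phiM g = 1) (x : Lam) (hx : Supp8 x.1) :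
    g • x = x := by
  obtain ⟨σ, u, rfl, hσ, hu⟩ := ker_mono hg h1
  exact mono_fix hσ hu x hx

theorem Amat_of_fix {g : ↥Co0} (h : ∀ x : Lam, Supp8 x.1 → g • x = x) : Amat g = 1 := by
  rw [← Amat_one]
  funext i l
  show coef (g • bE l).1 i = coef ((1 : ↥Co0) • bE l).1 i
  rw [h (bE l) (bV_supp l), one_smul]

theorem rhoM_of_fix {g : ↥Co0} (h : ∀ x : Lam, Supp8 x.1 → g • x = x) : rhoM g = 1 := by
  unfold rhoM Abar
  rw [Amat_of_fix h]
  have : (1 : Matrix I8 I8 ℤ).map (Int.cast : ℤ → ZMod 2) = 1 :=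
    Matrix.map_one (Int.castRingHom (ZMod 2)) (map_zero _) (map_one _)
  rw [this, Matrix.mul_one, Pinv_Pm]

theorem rhoM_of_phiM {g : ↥Co0} (hg : g ∈ C0) (h1 : phiM g = 1) : rhoM g = 1 :=
  rhoM_of_fix (fix_of_phiM hg h1)

theorem UL_ne_neg : UL ≠ -UL := by
  intro h
  have h1 : (UL : GolayPt → ℤ) none = (-UL : Lam).1 none := congrFun (congrArg Subtype.val h) none
  have h2 : (-UL : Lam).1 none = -(UL.1 none) := rfl
  have h3 : UL.1 none = 4 := by
    rw [UL_val]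
    decide
  rw [h2, h3] at h1
  omega

theorem mem_C0_of_fix {g : ↥Co0} (hg : g ∈ Ct) (h : g • UL = UL) : g ∈ C0 :=
  (mem_C0 g).mpr ⟨(mem_Ct g).mp hg, h⟩

theorem neg_mem_C0_of {g : ↥Co0} (hg : g ∈ Ct) (h : g • UL = -UL) : negElt * g ∈ C0 := by
  apply mem_C0_of_fix (neg_mul_mem_Ct hg)
  rw [mul_smul', h, negElt_smul'', neg_neg]

/-- The kernel consists of the elements of the kernel of `phi` and their negatives. -/
theorem ker_cases {g : ↥Co0} (hg : g ∈ Ct) (h : rhoM g = 1) :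
    (g ∈ C0 ∧ phiM g = 1) ∨ (negElt * g ∈ C0 ∧ phiM (negElt * g) = 1) := by
  have hv : rhoM g *ᵥ v0 = v0 := by rw [h, Matrix.one_mulVec]
  rcases stab_v0 hg hv with hU | hU
  · left
    exact ⟨mem_C0_of_fix hg hU, phiM_of_rhoM h⟩
  · right
    refine ⟨neg_mem_C0_of hg hU, phiM_of_rhoM ?_⟩
    rw [rhoM_neg hg, h]

end Cfsg.Agent.Lib.Helper92_O8b
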