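import Cfsg.Agent.Lib.Helper92_O8b
import Cfsg.Agent.Lib.Helper92_E8g

/-!
Four explicit elements of the centraliser `Ct` of the sign change on the complement of the standard
octad (the three generators of `Helper92_E8g`, which fix `(4, 4, 0^22)`, and a coordinate
permutation stabilising the octad), their matrices under `rho`, and words in them moving the image
of `(4, 4, 0^22)` to each of the 120 nonsingular vectors.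
-/

set_option autoImplicit false
set_option linter.constructorNameAsVariable false
open Cfsg

namespace Cfsg.Agent.Lib.Helper92_O8c

open Cfsg.Agent.Lib.Helper7_M24 Cfsg.Agent.Lib.Helper7_Leech Cfsg.Agent.Lib.Helper92_Monomial
  Cfsg.Agent.Lib.Helper92_Co0Order Cfsg.Agent.Lib.Helper7_Mono Cfsg.Agent.Lib.Helper92_E8a
  Cfsg.Agent.Lib.Helper92_E8b Cfsg.Agent.Lib.Helper92_E8c Cfsg.Agent.Lib.Helper92_E8d
  Cfsg.Agent.Lib.Helper7_Bits Cfsg.Agent.Lib.Helper7_Perm Cfsg.Agent.Lib.Helper92_Rep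
  Cfsg.Agent.Lib.Helper92_O8a Cfsg.Agent.Lib.Helper92_O8b
open Cfsg.Agent.Lib.Helper92_E8g (mkM24 mkM24_apply gT g0 g1 LT L0 L1 repT rep0 rep1 gT_mem g0_mem
  g1_mem dotInt_smul_left)
open Cfsg.Agent.S5546 (Lam)
open Cfsg.Spor (vecU leechU)
open Matrix

/-! ### general criteria -/

theorem mem_Ct_of_rep {g : ↥Co0} {M : Matrix GolayPt GolayPt ℤ} {c : ℤ} (hc : c ≠ 0)
    (hr : Rep g M c) (h1 : DMat uT.1 * M = M * DMat uT.1) : g ∈ Ct := by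
  rw [mem_Ct]
  have r1 : Rep (tE * g) (DMat uT.1 * M) (1 * c) := (rep_eps uT).mul hr
  have r2 : Rep (g * tE) (DMat uT.1 * M) (1 * c) :=
    (hr.mul (rep_eps uT)).congr h1.symm (mul_comm c 1)
  exact Rep.ext (by rw [one_mul]; exact hc) r1 r2

theorem Amat_of_rep {g : ↥Co0} {M : Matrix GolayPt GolayPt ℤ} {c : ℤ} (hg : g ∈ Ct)
    (hr : Rep g M c) (hc : c ≠ 0) (A8 : Matrix I8 I8 ℤ)
    (hA : ∀ a b, dotInt (M.mulVec (bV b)) (dV a) = 16 * c * A8 a b) : Amat g = A8 := by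
  funext a b
  have h1 := hA a b
  have h2 : M.mulVec (bV b) = c • (g • bE b).1 := hr (bE b)
  rw [h2, dotInt_smul_left, coef_spec _ (supp_smulC hg _ (bV_supp _))] at h1
  have h3 : (16 * c) * coef (g • bE b).1 a = (16 * c) * A8 a b := by
    rw [← h1]
    ring
  exact mul_left_cancel₀ (mul_ne_zero (by norm_num) hc) h3

/-! ### a coordinate permutation stabilising the octad -/

def s2l : List ℕ := [0, 5, 3, 23, 10, 14, 13, 21, 16, 4, 7, 18, 20, 6, 2, 11, 22, 1, 19, 8, 9, 15, 12, 17]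
def s2l' : List ℕ := [0, 17, 14, 2, 9, 1, 13, 10, 19, 20, 4, 15, 22, 6, 5, 21, 8, 23, 11, 18, 12, 7, 16, 3]
theorem s2_ok : checkM24 s2l s2l' = true := by decide +kernel
def s2 : ↥M24 := mkM24 s2l s2l' s2_ok

def g2 : ↥Co0 := perm s2

theorem rep2 : Rep g2 (PMat (listFun s2l)) 1 := rep_perm s2 (listFun s2l) (fun _ => rfl)

theorem comm2 : DMat uT.1 * PMat (listFun s2l) = PMat (listFun s2l) * DMat uT.1 := by
  decide +kernel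

theorem g2_mem : g2 ∈ Ct := mem_Ct_of_rep one_ne_zero rep2 comm2

/-! ### the matrices -/

/-- The matrix with the given rows. -/
def ofL8 (L : List (List ℤ)) : Matrix I8 I8 ℤ := fun a b => (L.getD (pos a) []).getD (pos b) 0

/-- The matrix over the field with two elements with the given rows. -/
def ofJ (L : List (List ℕ)) : Matrix J8 J8 (ZMod 2) :=
  fun a b => (((L.getD (posJ a) []).getD (posJ b) 0 : ℕ) : ZMod 2)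

def AT : List (List ℤ) := [[-1, -3, -3, -3, 0, -6, 0, 0],
   [0, -1, 0, 0, 0, 0, 0, 0],
   [0, 0, -1, 0, 0, 0, 0, 0],
   [0, 0, 0, -1, 0, 0, 0, 0],
   [0, -1, -1, -1, -1, -2, 0, 0],
   [0, 1, 1, 1, 0, 1, 0, 0],
   [0, 0, 0, 0, 0, 0, 1, 0],
   [0, 1, 1, 1, 0, 2, 1, -1]]

def A0 : List (List ℤ) := [[0, 1, -2, 0, -3, -1, 1, -2],
   [0, 1, 1, 2, 0, 2, 1, -2],
   [1, 2, 1, 1, -1, 3, 0, 0],
   [-1, -2, -2, -2, 1, -3, 0, 0],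
   [0, 1, 0, 1, -1, 0, 1, -2],
   [0, -1, 0, -1, 1, -1, -1, 2],
   [0, 0, 0, 0, 0, 0, 1, 0],
   [0, -1, -1, -1, 1, 0, 0, 1]]

def A1 : List (List ℤ) := [[-2, -5, -3, -5, 2, -8, -2, 4],
   [0, 0, 1, -1, 2, 0, -1, 2],
   [0, -1, -1, 0, 0, 0, 0, 0],
   [-1, 0, 2, 0, 1, -1, 0, 0],
   [0, 0, 0, -2, 1, -1, -1, 2],
   [1, 2, 0, 2, -2, 3, 1, -2],
   [0, 0, 0, 0, 0, 0, 1, 0],
   [0, 1, 2, 2, 0, 2, 1, -1]]

def A2 : List (List ℤ) := [[-1, 0, -1, -1, -1, -3, 1, -1],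
   [0, -1, -3, -2, 0, -1, -1, 1],
   [1, 3, 3, 3, -1, 4, 1, -2],
   [0, -1, -3, -2, -1, -2, 0, 1],
   [-1, -3, -4, -4, 1, -5, -1, 2],
   [0, 0, 2, 1, 1, 1, 0, 0],
   [0, 0, 0, 1, 0, 1, 1, -1],
   [1, 2, 1, 2, -1, 4, 1, -1]]

def RT : List (List ℕ) := [[0, 0, 0, 0, 1, 0, 0, 0],
   [0, 1, 1, 1, 0, 1, 1, 0],
   [0, 0, 0, 1, 0, 1, 1, 0],
   [0, 0, 0, 1, 0, 0, 0, 0],
   [1, 0, 0, 0, 0, 0, 0, 0],
   [0, 0, 0, 0, 0, 1, 0, 0],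
   [0, 0, 1, 1, 0, 1, 0, 0],
   [0, 0, 1, 1, 0, 1, 1, 1]]

def R0 : List (List ℕ) := [[0, 0, 0, 1, 1, 0, 0, 0],
   [1, 1, 1, 0, 1, 1, 0, 1],
   [1, 1, 0, 0, 1, 1, 0, 1],
   [0, 1, 0, 1, 0, 0, 0, 0],
   [1, 0, 0, 1, 0, 0, 0, 0],
   [1, 0, 0, 1, 1, 1, 1, 1],
   [1, 0, 1, 0, 1, 1, 1, 1],
   [0, 0, 1, 1, 0, 1, 0, 0]]

def R1 : List (List ℕ) := [[0, 1, 0, 0, 1, 0, 0, 1],
   [0, 1, 1, 0, 0, 0, 0, 0],
   [1, 0, 1, 1, 1, 0, 0, 1],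
   [0, 1, 1, 1, 0, 1, 1, 0],
   [1, 1, 0, 0, 0, 0, 0, 1],
   [1, 0, 1, 1, 1, 0, 1, 0],
   [0, 0, 1, 0, 0, 0, 0, 1],
   [0, 1, 0, 0, 0, 0, 0, 0]]

def R2 : List (List ℕ) := [[0, 0, 1, 0, 1, 0, 0, 0],
   [0, 1, 1, 1, 0, 1, 0, 1],
   [1, 1, 1, 0, 0, 1, 1, 1],
   [1, 1, 1, 1, 0, 0, 1, 1],
   [0, 0, 0, 0, 0, 1, 1, 0],
   [0, 0, 0, 1, 1, 0, 0, 0],
   [1, 0, 0, 0, 0, 0, 1, 1],
   [1, 0, 0, 1, 1, 1, 1, 1]]

theorem hAT : ∀ a b, dotInt ((ofL LT).mulVec (bV b)) (dV a) = 16 * 1 * ofL8 AT a b := by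
  decide +kernel
theorem hA0 : ∀ a b, dotInt ((ofL L0).mulVec (bV b)) (dV a) = 16 * 2 * ofL8 A0 a b := by
  decide +kernel
theorem hA1 : ∀ a b, dotInt ((ofL L1).mulVec (bV b)) (dV a) = 16 * 1 * ofL8 A1 a b := by
  decide +kernel
theorem hA2 : ∀ a b, dotInt ((PMat (listFun s2l)).mulVec (bV b)) (dV a) = 16 * 1 * ofL8 A2 a b := by
  decide +kernel

theorem redT : Pinv * (ofL8 AT).map (Int.cast : ℤ → ZMod 2) * Pm = ofJ RT := by decide +kernel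
theorem red0 : Pinv * (ofL8 A0).map (Int.cast : ℤ → ZMod 2) * Pm = ofJ R0 := by decide +kernel
theorem red1 : Pinv * (ofL8 A1).map (Int.cast : ℤ → ZMod 2) * Pm = ofJ R1 := by decide +kernel
theorem red2 : Pinv * (ofL8 A2).map (Int.cast : ℤ → ZMod 2) * Pm = ofJ R2 := by decide +kernel

/-- The four elements, in `Ct`. -/
def gen : Fin 4 → ↥Ct
  | 0 => ⟨gT, C0_le_Ct gT_mem⟩
  | 1 => ⟨g0, C0_le_Ct g0_mem⟩
  | 2 => ⟨g1, C0_le_Ct g1_mem⟩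
  | 3 => ⟨g2, g2_mem⟩

/-- Their images. -/
def genM : Fin 4 → Matrix J8 J8 (ZMod 2)
  | 0 => ofJ RT
  | 1 => ofJ R0
  | 2 => ofJ R1
  | 3 => ofJ R2

theorem rhoM_of_rep {g : ↥Co0} {M : Matrix GolayPt GolayPt ℤ} {c : ℤ} (hg : g ∈ Ct)
    (hr : Rep g M c) (hc : c ≠ 0) (A8 : Matrix I8 I8 ℤ)
    (hA : ∀ a b, dotInt (M.mulVec (bV b)) (dV a) = 16 * c * A8 a b) :
    rhoM g = Pinv * A8.map (Int.cast : ℤ → ZMod 2) * Pm := by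
  unfold rhoM Abar
  rw [Amat_of_rep hg hr hc A8 hA]

theorem rhoM_gen (s : Fin 4) : rhoM (gen s).1 = genM s := by
  fin_cases s
  · exact (rhoM_of_rep (C0_le_Ct gT_mem) repT one_ne_zero (ofL8 AT) hAT).trans redT
  · exact (rhoM_of_rep (C0_le_Ct g0_mem) rep0 two_ne_zero (ofL8 A0) hA0).trans red0
  · exact (rhoM_of_rep (C0_le_Ct g1_mem) rep1 one_ne_zero (ofL8 A1) hA1).trans red1
  · exact (rhoM_of_rep g2_mem rep2 one_ne_zero (ofL8 A2) hA2).trans red2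

/-! ### words -/

def wordMat (l : List (Fin 4)) : Matrix J8 J8 (ZMod 2) := (l.map genM).prod
def wordC (l : List (Fin 4)) : ↥Ct := (l.map gen).prod

theorem rhoM_wordC (l : List (Fin 4)) : rhoM (wordC l).1 = wordMat l := by
  induction l with
  | nil =>
    show rhoM (1 : ↥Co0) = 1
    exact rhoM_one
  | cons s l ih =>
    show rhoM ((gen s).1 * (wordC l).1) = genM s * wordMat l
    rw [rhoM_mul (gen s).2 (wordC l).2, ih, rhoM_gen]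

def wordVec (l : List (Fin 4)) (v : J8 → ZMod 2) : J8 → ZMod 2 :=
  l.foldr (fun s v => genM s *ᵥ v) v

theorem wordMat_mulVec (l : List (Fin 4)) (v : J8 → ZMod 2) : wordMat l *ᵥ v = wordVec l v := by
  induction l with
  | nil => simp [wordMat, wordVec]
  | cons s l ih =>
    show (genM s :: l.map genM).prod *ᵥ v = genM s *ᵥ wordVec l v
    rw [List.prod_cons, ← Matrix.mulVec_mulVec, ← ih]
    rfl

def mkJ (a0 a1 a2 a3 b0 b1 b2 b3 : ZMod 2) : J8 → ZMod 2 := Sum.elim ![a0, a1, a2, a3] ![b0, b1, b2, b3]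

theorem mkJ_eta (v : J8 → ZMod 2) :
    v = mkJ (v (Sum.inl 0)) (v (Sum.inl 1)) (v (Sum.inl 2)) (v (Sum.inl 3))
      (v (Sum.inr 0)) (v (Sum.inr 1)) (v (Sum.inr 2)) (v (Sum.inr 3)) := by
  funext j
  rcases j with i | i <;> fin_cases i <;> rfl

/-- Words moving `v0` to each nonsingular vector. -/

def wordTbl : List (List (Fin 4)) := [[], [], [], [], [], [], [], [], [], [], [], [], [], [], [], [], [], [], [], [2, 3, 1, 3, 3], [], [1, 3, 0, 3], [], [3, 1, 2, 0, 3], [], [3, 3, 0, 1, 3], [], [1, 1, 3, 1, 3], [], [3, 3, 1, 3, 3], [], [3, 1, 0, 3, 3], [], [], [2, 3, 0, 1, 0, 3], [3, 3], [], [], [3, 3, 3, 0, 3], [2, 1, 3, 3, 3], [], [], [3, 0, 3, 3], [1, 1, 1, 0, 3], [], [], [1, 2, 0, 3, 0, 3], [0, 2, 2, 3], [], [3, 1, 2, 1, 3], [2, 2, 1, 1, 3], [], [], [3, 0, 3, 3, 0, 3], [1, 1, 1, 1, 3], [], [], [1, 2, 3, 1, 3], [1, 1, 1, 3], [],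 [], [2, 3, 3, 0, 1, 3], [1, 2, 2, 3], [], [], [], [], [], [1, 3, 0, 3, 0, 3], [1, 0, 3, 3], [3, 2, 3, 2, 1, 3], [2, 0, 3], [], [], [], [], [1, 3, 1, 3], [0, 1, 0, 3], [3, 0, 3], [2, 0, 1, 3], [], [1, 3, 0, 3, 3], [], [0, 3, 1, 1, 3], [3, 3, 3], [], [2, 3], [], [], [3, 3, 1, 3], [], [1, 3, 3, 0, 3], [0, 1, 3], [], [2, 0, 1, 0, 3], [], [], [], [3, 1, 3, 0, 3], [2, 3, 3, 3], [3, 0, 3, 0, 3], [0, 3, 2, 1, 3], [], [], [], [], [2, 1, 3, 1, 3], [2, 1, 1, 3, 3], [3, 3, 1, 2, 0, 3], [3], [], [], [], [2, 2, 3, 1, 3], [3, 3, 3, 3], [], [1, 1, 3, 3], [], [], [3, 3, 0, 3], [], [2, 0, 3, 0, 3], [3, 1, 2, 3], [], [0, 3], [], [], [2, 1, 3, 0, 3], [], [], [], [], [], [], [], [], [0, 3, 0, 3], [2, 2, 1, 2, 3], [0, 1, 3, 1, 3], [1, 3], [3, 2, 1, 3, 0, 3], [2, 1, 1, 0, 3], [3, 2, 1, 2, 3], [3, 2, 2, 3], [], [1, 0, 3, 3, 0, 3], [], [3, 1, 1, 1, 3],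 [], [3, 1, 1, 3], [], [3, 3, 3, 3, 0, 3], [0, 2, 0, 1, 3], [], [1, 0, 3], [], [2, 1, 1, 3], [], [1, 3, 3], [], [], [], [0, 3, 0, 3, 0, 3], [0, 1, 1, 3, 3], [], [], [3, 1, 3], [1, 1, 3], [2, 3, 1, 3], [2, 1, 3, 3], [], [], [3, 3, 1, 1, 3], [1, 2, 1, 3], [], [], [], [0, 3, 3, 0, 3], [3, 2, 1, 3], [], [], [3, 0, 1, 0, 3], [1, 1, 0, 3], [], [2, 3, 2, 2, 3], [], [], [3, 2, 0, 1, 3], [1, 2, 1, 0, 3], [], [], [2, 3, 0, 3, 3], [], [], [], [], [3, 1, 3, 3], [1, 3, 3, 3], [1, 1, 3, 3, 0, 3], [2, 1, 0, 3], [1, 3, 3, 1, 3], [0, 3, 0, 1, 3], [3, 2, 1, 1, 3], [1, 2, 3], [], [], [], [], [], [3, 1, 3, 3, 3], [], [0, 1, 3, 0, 3], [1, 1, 0, 3, 3], [], [2, 1, 3], [], [3, 0, 1, 3], [], [1, 2, 0, 3], [], [], [1, 3, 1, 2, 0, 3], [], [3, 2, 1, 0, 3], [], [], [3, 2, 2, 0, 3], [2, 3, 2, 1, 3], [3, 1, 1, 3, 3], [1, 0, 2, 2, 3], [], [], [2, 2, 1, 3, 0, 3],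 [2, 2, 0, 3], [], [], [], [], [1, 3, 2, 2, 0, 3], [2, 1, 2, 0, 3], [], [2, 3, 0, 3], [3, 2, 3, 1, 3], [], [0, 3, 3], [], [], [3, 3, 2, 1, 3], [2, 2, 3], [], [], [2, 3, 2, 0, 1, 3], [], [2, 3, 3, 3, 0, 3], [2, 1, 2, 3], []]

def encJ (a0 a1 a2 a3 b0 b1 b2 b3 : ZMod 2) : ℕ :=
  a0.val + 2 * a1.val + 4 * a2.val + 8 * a3.val + 16 * b0.val + 32 * b1.val + 64 * b2.val +
    128 * b3.val

set_option maxRecDepth 100000 in
set_option synthInstance.maxSize 4096 in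
set_option synthInstance.maxHeartbeats 400000 in
theorem trans_check : ∀ a0 a1 a2 a3 b0 b1 b2 b3 : ZMod 2,
    Cfsg.quadFormPlus 4 (ZMod 2) (mkJ a0 a1 a2 a3 b0 b1 b2 b3) = 1 →
    wordVec (wordTbl.getD (encJ a0 a1 a2 a3 b0 b1 b2 b3) []) v0 = mkJ a0 a1 a2 a3 b0 b1 b2 b3 := by
  decide +kernel

/-- The group acts transitively on the nonsingular vectors. -/
theorem transitive (v : J8 → ZMod 2) (hv : Cfsg.quadFormPlus 4 (ZMod 2) v = 1) :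
    ∃ g : ↥Ct, rhoM g.1 *ᵥ v0 = v := by
  rw [mkJ_eta v] at hv ⊢
  refine ⟨wordC (wordTbl.getD (encJ (v (Sum.inl 0)) (v (Sum.inl 1)) (v (Sum.inl 2)) (v (Sum.inl 3))
      (v (Sum.inr 0)) (v (Sum.inr 1)) (v (Sum.inr 2)) (v (Sum.inr 3))) []), ?_⟩
  rw [rhoM_wordC, wordMat_mulVec]
  exact trans_check _ _ _ _ _ _ _ _ hv

end Cfsg.Agent.Lib.Helper92_O8c
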