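import Cfsg.Agent.Lib.Helper92_O8c
import Cfsg.Agent.Lib.Helper92_E8f
import Cfsg.Agent.Lib.Helper44_Index
import Cfsg.Agent.Lib.Helper44_StdForms
import Cfsg.Agent.S0287
import Cfsg.Agent.S0245
import Cfsg.Agent.S0294

/-!
The image of the homomorphism `rho` of `Helper92_O8a` is the commutator subgroup of the orthogonal
group: it is transitive on the 120 nonsingular vectors, the stabiliser of one of them is the image
of the subgroup `C0`, isomorphic to the symplectic group of dimension 6, so the image has index 2.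
-/

set_option autoImplicit false
set_option linter.constructorNameAsVariable false
open Cfsg

namespace Cfsg.Agent.Lib.Helper92_O8d

open Cfsg.Agent.Lib.Helper7_M24 Cfsg.Agent.Lib.Helper7_Leech Cfsg.Agent.Lib.Helper92_Monomial
  Cfsg.Agent.Lib.Helper92_Co0Order Cfsg.Agent.Lib.Helper7_Mono Cfsg.Agent.Lib.Helper92_E8a
  Cfsg.Agent.Lib.Helper92_E8b Cfsg.Agent.Lib.Helper92_E8c Cfsg.Agent.Lib.Helper92_E8d
  Cfsg.Agent.Lib.Helper92_O8a Cfsg.Agent.Lib.Helper92_O8b Cfsg.Agent.Lib.Helper92_O8c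
open Cfsg.Agent.Lib.Helper92_E8g (phi_surjective)
open Cfsg.Agent.Lib.Helper44_StdForms (qfPlus coe_qfPlus)
open Cfsg.Agent.S5546 (Lam)
open Cfsg.Agent.S0398 (negElt)
open Matrix

abbrev V8 : Type := J8 → ZMod 2

/-- The action of the orthogonal group on vectors. -/
@[instance_reducible]
def actO : MulAction ↥O8 V8 where
  smul h v := ((h : GL J8 (ZMod 2)) : Matrix J8 J8 (ZMod 2)) *ᵥ v
  one_smul v := Matrix.one_mulVec v
  mul_smul _ _ v := (Matrix.mulVec_mulVec v _ _).symm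

attribute [local instance] actO

theorem smul_def8 (h : ↥O8) (v : V8) :
    h • v = ((h : GL J8 (ZMod 2)) : Matrix J8 J8 (ZMod 2)) *ᵥ v := rfl

/-- The image of `rho`. -/
abbrev H8 : Subgroup ↥O8 := rho.range

theorem smul_rho (g : ↥Ct) (v : V8) : (rho g) • v = rhoM g.1 *ᵥ v := rfl

theorem isom8 (h : ↥O8) (v : V8) :
    Cfsg.quadFormPlus 4 (ZMod 2) (h • v) = Cfsg.quadFormPlus 4 (ZMod 2) v := h.2 v v

theorem orbit_eq : MulAction.orbit ↥H8 v0 = {v : V8 | Cfsg.quadFormPlus 4 (ZMod 2) v = 1} := by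
  ext v
  constructor
  · rintro ⟨h, rfl⟩
    show Cfsg.quadFormPlus 4 (ZMod 2) (h.1 • v0) = 1
    rw [isom8, qplus_v0]
  · intro hv
    obtain ⟨g, hg⟩ := transitive v hv
    exact ⟨⟨rho g, g, rfl⟩, hg⟩

theorem card_nonsing : Nat.card {v : V8 | Cfsg.quadFormPlus 4 (ZMod 2) v = 1} = 120 := by
  rw [Set.coe_ofPred, Nat.card_eq_fintype_card, Fintype.card_subtype]
  decide +kernel

/-! ### the stabiliser -/

/-- The inclusion of `C0` in `Ct`. -/
def incl : ↥C0 →* ↥Ct where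
  toFun g := ⟨g.1, C0_le_Ct g.2⟩
  map_one' := rfl
  map_mul' _ _ := rfl

/-- The restriction of `rho` to `C0`. -/
def rho0 : ↥C0 →* ↥O8 := rho.comp incl

theorem rho0_ker : rho0.ker = phi.ker := by
  ext g
  rw [MonoidHom.mem_ker, MonoidHom.mem_ker]
  constructor
  · intro h
    have h1 : rhoM g.1 = 1 := congrArg (fun x : ↥O8 => ((x : GL J8 (ZMod 2)) : Matrix J8 J8 (ZMod 2))) h
    exact Subtype.ext (phiM_of_rhoM h1)
  · intro h
    have h1 : phiM g.1 = 1 := congrArg Subtype.val h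
    exact Subtype.ext (Units.ext (rhoM_of_phiM g.2 h1))

abbrev Sp6 : Type := Matrix.symplecticGroup (Fin 3) (ZMod 2)

theorem card_Sp6 : Nat.card Sp6 = 1451520 := by
  rw [Cfsg.Agent.S0245.result (F := ZMod 2) (q := 2) (by decide) 3]
  decide

theorem card_rho0_range : Nat.card ↥(rho0.range) = 1451520 := by
  rw [← Nat.card_congr (QuotientGroup.quotientKerEquivRange rho0).toEquiv,
    Nat.card_congr (QuotientGroup.quotientMulEquivOfEq rho0_ker).toEquiv,
    Nat.card_congr (QuotientGroup.quotientKerEquivOfSurjective phi phi_surjective).toEquiv]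
  exact card_Sp6

theorem rho0_range_le : rho0.range ≤ H8 := by
  rintro _ ⟨g, rfl⟩
  exact ⟨incl g, rfl⟩

theorem rho_neg (g : ↥Ct) : rho ⟨negElt * g.1, neg_mul_mem_Ct g.2⟩ = rho g :=
  Subtype.ext (Units.ext (rhoM_neg g.2))

theorem stab_sub (h : ↥H8) (hh : h ∈ MulAction.stabilizer ↥H8 v0) : h.1 ∈ rho0.range := by
  obtain ⟨g, hg⟩ := h.2
  have h1 : rhoM g.1 *ᵥ v0 = v0 := by
    have h2 : h • v0 = v0 := hh
    have h3 : (rho g) • v0 = v0 := by
      rw [hg]
      exact h2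
    exact h3
  rcases stab_v0 g.2 h1 with hU | hU
  · exact ⟨⟨g.1, mem_C0_of_fix g.2 hU⟩, hg⟩
  · refine ⟨⟨negElt * g.1, neg_mem_C0_of g.2 hU⟩, ?_⟩
    rw [← hg, ← rho_neg g]
    rfl

theorem sub_stab (k : ↥O8) (hk : k ∈ rho0.range) :
    (⟨k, rho0_range_le hk⟩ : ↥H8) ∈ MulAction.stabilizer ↥H8 v0 := by
  obtain ⟨g, rfl⟩ := hk
  show (rho (incl g)) • v0 = v0
  rw [smul_rho]
  exact rhoM_fix_v0 (C0_le_Ct g.2) (Or.inl ((mem_C0 g.1).mp g.2).2)

def stabEquiv : ↥(MulAction.stabilizer ↥H8 v0) ≃ ↥(rho0.range) where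
  toFun h := ⟨h.1.1, stab_sub h.1 h.2⟩
  invFun k := ⟨⟨k.1, rho0_range_le k.2⟩, sub_stab k.1 k.2⟩
  left_inv _ := rfl
  right_inv _ := rfl

theorem card_H8 : Nat.card ↥H8 = 174182400 := by
  have h1 := Subgroup.card_eq_card_quotient_mul_card_subgroup (MulAction.stabilizer ↥H8 v0)
  rw [← Nat.card_congr (MulAction.orbitEquivQuotientStabilizer ↥H8 v0), orbit_eq, card_nonsing,
    Nat.card_congr stabEquiv, card_rho0_range] at h1
  rw [h1]

/-! ### the orthogonal group -/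

theorem card_O8 : Nat.card ↥O8 = 348364800 := by
  rw [Cfsg.Agent.S0287.result (F := ZMod 2) (q := 2) (by decide) 4 (by norm_num)]
  decide

theorem index_Omega8 : (Cfsg.Omega (ZMod 2) (Cfsg.quadFormPlus 4 (ZMod 2))).index = 2 := by
  have hnd := Cfsg.Agent.S0287.nondeg_qfPlus (F := ZMod 2) 4
  have hQ := Cfsg.Agent.S0294.nondegenerate_of_hnd (qfPlus 4 (ZMod 2)) hnd
  have h := Cfsg.Agent.Lib.Helper44_Index.index_omega_two (F := ZMod 2) (by decide)
    (qfPlus 4 (ZMod 2)) hQ (Or.inr (by decide)) (v₀ := v0)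
    (by rw [coe_qfPlus, qplus_v0]; exact one_ne_zero)
  rw [coe_qfPlus] at h
  exact h

theorem card_Omega8 : Nat.card ↥(Cfsg.Omega (ZMod 2) (Cfsg.quadFormPlus 4 (ZMod 2))) = 174182400 := by
  have h := Subgroup.card_mul_index (Cfsg.Omega (ZMod 2) (Cfsg.quadFormPlus 4 (ZMod 2)))
  rw [index_Omega8, card_O8] at h
  omega

theorem index_H8 : H8.index = 2 := by
  have h := Subgroup.card_mul_index H8
  rw [card_H8, card_O8] at h
  omega

/-- The image of `rho` is the commutator subgroup of the orthogonal group. -/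
theorem H8_eq : H8 = Cfsg.Omega (ZMod 2) (Cfsg.quadFormPlus 4 (ZMod 2)) := by
  have hn : H8.Normal := Subgroup.normal_of_index_eq_two index_H8
  have hle : Cfsg.Omega (ZMod 2) (Cfsg.quadFormPlus 4 (ZMod 2)) ≤ H8 := by
    have hc : ∀ a b : ↥O8 ⧸ H8, a * b = b * a := by
      have hcard : Nat.card (↥O8 ⧸ H8) = 2 := index_H8
      have : Fact (Nat.Prime 2) := ⟨Nat.prime_two⟩
      have hcyc : IsCyclic (↥O8 ⧸ H8) := isCyclic_of_prime_card hcard
      intro a b
      exact (IsCyclic.isMulCommutative (α := ↥O8 ⧸ H8)).is_comm.comm a b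
    rw [Cfsg.Omega, commutator_def, Subgroup.commutator_le]
    intro a _ b _
    rw [← QuotientGroup.eq_one_iff, commutatorElement_def]
    simp only [QuotientGroup.mk_mul, QuotientGroup.mk_inv]
    rw [hc (a : ↥O8 ⧸ H8) b]
    group
  symm
  apply Subgroup.eq_of_le_of_card_ge hle
  rw [card_H8, card_Omega8]

end Cfsg.Agent.Lib.Helper92_O8d
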