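import Cfsg.Agent.Lib.Helper92_O8d
import Cfsg.Agent.Lib.Helper1_Cores
import Cfsg.Agent.S0293
import Cfsg.Agent.S0296

/-!
Further facts for the centraliser of the sign change `t` on the complement of the standard octad:
the commutator subgroup of the orthogonal group of plus type in dimension 8 over the field with two
elements is simple; `t` is not conjugate to `-t`; and some explicit conjugates and commutators of
sign changes.
-/

set_option autoImplicit false
set_option linter.constructorNameAsVariable false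
open Cfsg

namespace Cfsg.Agent.Lib.Helper92_O8e

open Cfsg.Agent.Lib.Helper7_M24 Cfsg.Agent.Lib.Helper7_Leech Cfsg.Agent.Lib.Helper92_Monomial
  Cfsg.Agent.Lib.Helper92_Co0Order Cfsg.Agent.Lib.Helper7_Mono Cfsg.Agent.Lib.Helper92_E8a
  Cfsg.Agent.Lib.Helper92_E8b Cfsg.Agent.Lib.Helper92_E8c Cfsg.Agent.Lib.Helper92_E8d
  Cfsg.Agent.Lib.Helper7_Bits Cfsg.Agent.Lib.Helper7_Perm
  Cfsg.Agent.Lib.Helper92_O8a Cfsg.Agent.Lib.Helper92_O8b Cfsg.Agent.Lib.Helper92_O8c
  Cfsg.Agent.Lib.Helper92_O8d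
open Cfsg.Agent.Lib.Helper7_Xi (vecL LeechCert mem_of_cert)
open Cfsg.Agent.Lib.Helper92_E8g (mkM24 mkM24_apply)
open Cfsg.Agent.Lib.Helper92_E8e (mono_fix mono_mem_C0)
open Cfsg.Agent.Lib.Helper92_E8f (CO wordOf CO_wordOf)
open Cfsg.Agent.S5546 (Lam vec8 e8)
open Cfsg.Agent.S0398 (negElt vec8_apply)
open Matrix

/-! ### the simple orthogonal group -/

abbrev Om8 : Subgroup ↥O8 := Cfsg.Omega (ZMod 2) (Cfsg.quadFormPlus 4 (ZMod 2))

theorem card_POmega8 :
    Nat.card (Cfsg.POmega (ZMod 2) (Cfsg.quadFormPlus 4 (ZMod 2))) = 174182400 := by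
  have h := Cfsg.Agent.S0293.result (F := ZMod 2) (q := 2) (by decide) 4 (by norm_num)
  have e1 : Nat.gcd 4 (2 ^ 4 - 1) = 1 := by decide
  have e2 : 2 ^ (4 * (4 - 1)) * (2 ^ 4 - 1) * ∏ i ∈ Finset.range (4 - 1), (2 ^ (2 * (i + 1)) - 1) =
      174182400 := by decide
  rw [e1, e2, one_mul] at h
  exact h

theorem center_Om8 : Subgroup.center ↥Om8 = ⊥ := by
  have h := Subgroup.card_eq_card_quotient_mul_card_subgroup (Subgroup.center ↥Om8)
  have h1 : Nat.card (↥Om8 ⧸ Subgroup.center ↥Om8) = 174182400 := card_POmega8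
  rw [card_Omega8, h1] at h
  apply Subgroup.eq_bot_of_card_eq
  omega

theorem simple_Om8 : IsSimpleGroup ↥Om8 := by
  have h1 : IsSimpleGroup (Cfsg.POmega (ZMod 2) (Cfsg.quadFormPlus 4 (ZMod 2))) :=
    Cfsg.Agent.S0296.result 4 (by norm_num)
  have e : ↥Om8 ⧸ Subgroup.center ↥Om8 ≃* ↥Om8 :=
    (QuotientGroup.quotientMulEquivOfEq center_Om8).trans QuotientGroup.quotientBot
  exact MulEquiv.isSimpleGroup e.symm

theorem no_normal_two (N : Subgroup ↥Om8) (hn : N.Normal) (hN : IsPGroup 2 N) : N = ⊥ := by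
  have := simple_Om8
  rcases hn.eq_bot_or_eq_top with h | h
  · exact h
  · exfalso
    have hP : IsPGroup 2 ↥Om8 := by
      intro g
      obtain ⟨k, hk⟩ := hN ⟨g, by rw [h]; exact Subgroup.mem_top g⟩
      exact ⟨k, congrArg Subtype.val hk⟩
    have hc := hP.center_nontrivial
    rw [center_Om8] at hc
    exact not_nontrivial _ hc

theorem pCore_eq_ker {C : Type*} [Group C] (f : C →* ↥Om8) (hf : Function.Surjective f)
    (hk : IsPGroup 2 f.ker) : Cfsg.pCore 2 C = f.ker := by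
  have : Fact (Nat.Prime 2) := ⟨Nat.prime_two⟩
  apply le_antisymm
  · have h1 : (Cfsg.pCore 2 C).map f = ⊥ :=
      no_normal_two _ ((Cfsg.Agent.Lib.Helper1_Cores.pCore_normal 2).map f hf)
        ((Cfsg.Agent.Lib.Helper1_Cores.pCore_isPGroup 2).map f)
    exact (Subgroup.map_eq_bot_iff _).mp h1
  · exact Cfsg.Agent.Lib.Helper1_Cores.le_pCore (MonoidHom.normal_ker f) hk

/-! ### the sign change is not conjugate to its negative -/

def wL : List ℤ := [0, 0, 0, 0, 4, 0, -2, 2, 2, 2, 2, 0, 0, 2, 0, 0, 2, 0, 2, 0, 0, 0, 0, 0]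

def wV : GolayPt → ℤ := vecL wL

theorem wV_cert : LeechCert wV 337856 := by decide +kernel

/-- A vector of norm 48 supported on the complement of the octad. -/
def wE : Lam := ⟨wV, mem_of_cert _ _ wV_cert⟩

theorem wV_off : ∀ p, inO p → wV p = 0 := by decide +kernel

theorem wV_norm : sqNorm wV = 48 := by decide +kernel

theorem tE_wE : tE • wE = -wE := by
  apply Subtype.ext
  funext p
  show ((eps uT • wE : Lam) : GolayPt → ℤ) p = -(wV p)
  rw [eps_apply]
  by_cases hp : p ∈ support₂ uT.1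
  · rw [signFlip_of_mem hp]
    rfl
  · rw [signFlip_of_notMem hp]
    have h1 : inO p := by
      by_contra h
      exact hp ((mem_supp_uT p).mpr h)
    show wV p = -(wV p)
    rw [wV_off p h1]
    rfl

theorem not_conj_neg (g : ↥Co0) : g * tE * g⁻¹ ≠ negElt * tE := by
  intro h
  have h1 : tE • (g⁻¹ • wE) = g⁻¹ • wE := by
    have h2 : tE * g⁻¹ = g⁻¹ * (negElt * tE) := by
      rw [← h]
      group
    rw [← mul_smul', h2, mul_smul', mul_smul', tE_wE, negElt_smul'', neg_neg]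
  have h3 := (tE_fix_iff _).mp h1
  have h4 := dvd32_sqNorm _ (g⁻¹ • wE).2 h3
  rw [sqNorm_smul] at h4
  have h5 : sqNorm wE.1 = 48 := wV_norm
  rw [h5] at h4
  omega

/-! ### signs on the vectors `8 e_p` -/

/-- The coordinate at `p` of the image of `8 e_p`. -/
def sgn8 (X : ↥Co0) (p : GolayPt) : ℤ := ((X • e8 p : Lam) : GolayPt → ℤ) p

theorem sgn8_eps (w : ↥golayCode) (p : GolayPt) :
    sgn8 (eps w) p = if p ∈ support₂ w.1 then -8 else 8 := by
  unfold sgn8
  rw [eps_apply]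
  unfold signFlip
  show (if p ∈ support₂ w.1 then -(vec8 p p) else vec8 p p) = _
  rw [vec8_apply, if_pos rfl]

theorem sgn8_one (p : GolayPt) : sgn8 1 p = 8 := by
  unfold sgn8
  rw [one_smul]
  show vec8 p p = 8
  rw [vec8_apply, if_pos rfl]

theorem sgn8_neg (X : ↥Co0) (p : GolayPt) : sgn8 (negElt * X) p = -sgn8 X p := by
  unfold sgn8
  rw [mul_smul', negElt_smul'']
  rfl

theorem sgn8_tE {p : GolayPt} (hp : ¬ inO p) : sgn8 tE p = -8 := by
  show sgn8 (eps uT) p = -8
  rw [sgn8_eps, if_pos ((mem_supp_uT p).mpr hp)]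

theorem sgn8_tE' {p : GolayPt} (hp : inO p) : sgn8 tE p = 8 := by
  show sgn8 (eps uT) p = 8
  rw [sgn8_eps, if_neg (fun h => (mem_supp_uT p).mp h hp)]

/-- A sign change equal to `±1` or `±t` is constant on the complement of the octad. -/
theorem const_off (w : ↥golayCode)
    (h : eps w = 1 ∨ eps w = negElt ∨ eps w = tE ∨ eps w = negElt * tE) (p q : GolayPt)
    (hp : ¬ inO p) (hq : ¬ inO q) : p ∈ support₂ w.1 ↔ q ∈ support₂ w.1 := by
  have key : ∀ r : GolayPt, ¬ inO r → sgn8 (eps w) r = sgn8 (eps w) p := by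
    intro r hr
    rcases h with h | h | h | h
    · rw [h, sgn8_one, sgn8_one]
    · have h' : eps w = negElt * 1 := by rw [mul_one]; exact h
      rw [h', sgn8_neg, sgn8_neg, sgn8_one, sgn8_one]
    · rw [h, sgn8_tE hr, sgn8_tE hp]
    · rw [h, sgn8_neg, sgn8_neg, sgn8_tE hr, sgn8_tE hp]
  have hk := key q hq
  rw [sgn8_eps, sgn8_eps] at hk
  constructor
  · intro h1
    by_contra h2
    rw [if_pos h1, if_neg h2] at hk
    omega
  · intro h1
    by_contra h2
    rw [if_pos h1, if_neg h2] at hk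
    omega

/-! ### a commutator -/

theorem mem_c16 : 337856 ∈ Cfsg.Agent.Lib.Helper92_E8f.c16 := by decide

/-- An octad disjoint from the standard octad. -/
def u1 : ↥golayCode := wordOf 337856 mem_c16

theorem CO_u1 : CO u1 := CO_wordOf 337856 mem_c16

theorem comm_eq : g2 * eps u1 * g2⁻¹ * (eps u1)⁻¹ = eps (act s2 u1 + u1) := by
  show perm s2 * eps u1 * (perm s2)⁻¹ * (eps u1)⁻¹ = _
  rw [perm_conj_eps, eps_inv, eps_add]

theorem comm_p : (some 4 : GolayPt) ∈ support₂ (act s2 u1 + u1).1 := by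
  rw [mem_support₂]
  decide +kernel

theorem comm_q : (some 6 : GolayPt) ∉ support₂ (act s2 u1 + u1).1 := by
  rw [mem_support₂]
  decide +kernel

theorem not_inO_4 : ¬ inO (some 4) := by decide
theorem not_inO_6 : ¬ inO (some 6) := by decide

/-- The commutator of the coordinate permutation `g2` and the sign change at `u1` is not `±1` or
`±t`. -/
theorem comm_ne : ¬ (g2 * eps u1 * g2⁻¹ * (eps u1)⁻¹ = 1 ∨ g2 * eps u1 * g2⁻¹ * (eps u1)⁻¹ = negElt ∨
    g2 * eps u1 * g2⁻¹ * (eps u1)⁻¹ = tE ∨ g2 * eps u1 * g2⁻¹ * (eps u1)⁻¹ = negElt * tE) := by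
  rw [comm_eq]
  intro h
  exact comm_q ((const_off _ h _ _ not_inO_4 not_inO_6).mp comm_p)

theorem eps_fix {u : ↥golayCode} (hu : CO u) (x : Lam) (hx : Supp8 x.1) : eps u • x = x := by
  have h := mono_fix (σ := 1) (u := u) (fun _ _ => rfl) hu x hx
  rw [perm_one, mul_one] at h
  exact h

theorem eps_mem_C0 {u : ↥golayCode} (hu : CO u) : eps u ∈ C0 := by
  have h := mono_mem_C0 (σ := 1) (u := u) (fun _ _ => rfl) hu
  rw [perm_one, mul_one] at h
  exact h

/-! ### a conjugate of the sign change -/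

def s5l : List ℕ := [7, 4, 18, 10, 11, 21, 19, 23, 16, 14, 8, 6, 3, 15, 20, 0, 5, 13, 17, 22, 9, 1, 2, 12]
def s5l' : List ℕ := [15, 21, 22, 12, 1, 16, 11, 0, 10, 20, 3, 4, 23, 17, 9, 13, 8, 18, 2, 6, 14, 5, 19, 7]
theorem s5_ok : checkM24 s5l s5l' = true := by decide +kernel
def s5 : ↥M24 := mkM24 s5l s5l' s5_ok

/-- The conjugate. -/
def X5 : ↥Co0 := eps (act s5 uT)

theorem X5_eq : perm s5 * tE * (perm s5)⁻¹ = X5 := perm_conj_eps s5 uT

theorem X5_supp : ∀ p, inO p → p ∈ support₂ (act s5 uT).1 := by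
  intro p hp
  rw [mem_support₂]
  revert p
  decide +kernel

theorem X5_supp6 : (some 6 : GolayPt) ∈ support₂ (act s5 uT).1 := by
  rw [mem_support₂]
  decide +kernel

theorem X5_mem_Ct : X5 ∈ Ct := (mem_Ct _).mpr (eps_comm uT (act s5 uT))

theorem X5_fix (x : Lam) (hx : Supp8 x.1) : (negElt * X5) • x = x := by
  apply Subtype.ext
  funext j
  rw [mul_smul', negElt_smul'']
  show -(((eps (act s5 uT) • x : Lam) : GolayPt → ℤ) j) = x.1 j
  rw [eps_apply]
  by_cases hj : inO j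
  · rw [signFlip_of_mem (X5_supp j hj), neg_neg]
  · unfold signFlip
    rw [hx j hj]
    split_ifs <;> simp

theorem rhoM_X5 : rhoM X5 = 1 := by
  rw [← rhoM_neg X5_mem_Ct]
  exact rhoM_of_fix X5_fix

theorem X5_ne : X5 ≠ tE ∧ X5 ≠ negElt * tE := by
  constructor
  · intro h
    have h1 : sgn8 X5 none = sgn8 tE none := by rw [h]
    have h2 : sgn8 X5 none = -8 := by
      show sgn8 (eps (act s5 uT)) none = -8
      rw [sgn8_eps, if_pos (X5_supp none (by decide))]
    rw [h2, sgn8_tE' (by decide)] at h1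
    omega
  · intro h
    have h1 : sgn8 X5 (some 6) = sgn8 (negElt * tE) (some 6) := by rw [h]
    have h2 : sgn8 X5 (some 6) = -8 := by
      show sgn8 (eps (act s5 uT)) (some 6) = -8
      rw [sgn8_eps, if_pos X5_supp6]
    rw [h2, sgn8_neg, sgn8_tE not_inO_6] at h1
    omega

end Cfsg.Agent.Lib.Helper92_O8e
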