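import Mathlib
import Cfsg.Prelude.Def_GeometricClasses
import Cfsg.Agent.Lib.Helper43_AltEven

/-!
OTENS4 market (helper38, S5704), package OT-EVENDIM: a space carrying a (nondegenerate)
symplectic form in the sense of the prelude has even dimension.
-/

set_option autoImplicit false
set_option linter.unusedSectionVars false
set_option linter.unusedVariables false

namespace Cfsg.Agent.Lib.Helper92_OT_EVENDIM

open Matrix Module Cfsg.Geo

theorem even_of_symplectic {F : Type*} [Field F] {m : ℕ} (f : (Fin m → F) → (Fin m → F) → F)
    (hf : Cfsg.Geo.IsSymplecticForm f) : Even m := by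
  let B : LinearMap.BilinForm F (Fin m → F) :=
    LinearMap.mk₂ F f hf.bilinear.add_left hf.bilinear.smul_left hf.bilinear.add_right
      hf.bilinear.smul_right
  have hB : ∀ x y, B x y = f x y := fun _ _ => rfl
  apply Cfsg.Agent.Lib.Helper43_AltEven.even_finrank_of_alt m (Fin m → F) B
  · intro x
    rw [hB]
    exact hf.alternating x
  · constructor
    · intro x hx
      by_contra hx0
      obtain ⟨y, hy⟩ := (hf.nondegenerate x hx0).2
      exact hy (hx y)
    · intro x hx
      by_contra hx0
      obtain ⟨y, hy⟩ := (hf.nondegenerate x hx0).1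
      exact hy (hx y)
  · exact Module.finrank_fin_fun F

end Cfsg.Agent.Lib.Helper92_OT_EVENDIM
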