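import Mathlib
import Cfsg.Agent.Lib.Helper38_OTDefs
import Cfsg.Agent.Lib.Helper17_UT_BAS1
import Cfsg.Agent.Lib.Helper44_UT_BAS4

set_option autoImplicit false
set_option linter.unusedSectionVars false
set_option linter.unusedVariables false

/-!
OTENS4 market (helper38, S5704), package OT-STABM (second seat helper92), core:
conjugates of `1 ⊗ R'` by an element of `Stab_M(x ⊗ B)` are Kronecker.  The dependencies
(NORMK `stab_ctr`, QCOMM `qcommO`, KMEM `tmE_mem`, BAS `ctrA_eq_zero_iff`, OG) enter as hypotheses.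
-/

namespace Cfsg.Agent.Lib.Helper92_OT_STABMaux

open Matrix Module
open Cfsg.Agent.Lib.Helper98_ExtDefs Cfsg.Agent.Lib.Helper97_TensDefs
open Cfsg.Agent.Lib.Helper94_Herm
open Cfsg.Agent.Lib.Helper67_UT2Defs Cfsg.Agent.Lib.Helper37_UTDefs
open Cfsg.Agent.Lib.Helper37_UTPairDefs
open Cfsg.Agent.Lib.Helper94_OrthSmall Cfsg.Agent.Lib.Helper94_OrthSiegel
open Cfsg.Agent.Lib.Helper67_T2ODefs (IsAltMap aw)
open Cfsg.Agent.Lib.Helper38_OTDefs

variable {F : Type*} [Field F] {ι κ : Type*} [Fintype ι] [Fintype κ] [DecidableEq ι]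
  [DecidableEq κ]
variable {α : LinearMap.BilinForm F (ι → F)} {β : LinearMap.BilinForm F (κ → F)}
variable {Q : Matrix ι κ F → F} {M : Subgroup (Matrix ι κ F ≃ₗ[F] Matrix ι κ F)}

/-! ### generalities -/

theorem apply_inv_apply_le {V : Type*} [AddCommGroup V] [Module F V] (g : V ≃ₗ[F] V) (v : V) :
    g (g⁻¹ v) = v := by
  rw [← LinearEquiv.mul_apply, mul_inv_cancel]
  rfl

theorem inv_apply_apply_le {V : Type*} [AddCommGroup V] [Module F V] (g : V ≃ₗ[F] V) (v : V) :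
    g⁻¹ (g v) = v := by
  rw [← LinearEquiv.mul_apply, inv_mul_cancel]
  rfl

theorem alt_swap' {W : Type*} [AddCommGroup W] [Module F W] {ω : LinearMap.BilinForm F W}
    (hω : ∀ x, ω x x = 0) (x y : W) : ω x y = - ω y x := by
  have h := hω (x + y)
  simp only [map_add, LinearMap.add_apply, hω x, hω y] at h
  linear_combination h

theorem vecMulVec_left_injective {x : ι → F} (hx0 : x ≠ 0) {w w' : κ → F}
    (h : vecMulVec x w = vecMulVec x w') : w = w' := by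
  obtain ⟨i, hi⟩ := Function.ne_iff.mp hx0
  ext j
  have := congrFun (congrFun h i) j
  rw [vecMulVec_apply, vecMulVec_apply] at this
  exact mul_left_cancel₀ hi this

/-- the contraction commutes with `1 ⊗ S` -/
theorem ctrA_tmE_one (c : ι → F) (S : (κ → F) ≃ₗ[F] (κ → F)) (Y : Matrix ι κ F) :
    ctrA α c (tmE (1 : (ι → F) ≃ₗ[F] (ι → F)) S Y) = S (ctrA α c Y) := by
  refine Cfsg.Agent.Lib.Helper44_UT_BAS4.h44_induction
    (p := fun Y => ctrA α c (tmE (1 : (ι → F) ≃ₗ[F] (ι → F)) S Y) = S (ctrA α c Y)) ?_ ?_ ?_ Y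
  · simp only [map_zero]
  · intro X X' h h'
    simp only [map_add, h, h']
  · intro a b
    rw [tmE_pure, Cfsg.Agent.Lib.Helper17_UT_BAS1.ctrA_pure,
      Cfsg.Agent.Lib.Helper17_UT_BAS1.ctrA_pure, map_smul]
    rfl

theorem tmE_one_pure (S : (κ → F) ≃ₗ[F] (κ → F)) (a : ι → F) (b : κ → F) :
    tmE (1 : (ι → F) ≃ₗ[F] (ι → F)) S (vecMulVec a b) = vecMulVec a (S b) := by
  rw [tmE_pure]
  rfl

/-- a vector orthogonal to `x^⊥` is a multiple of `x` -/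
theorem mem_span_of_perp (hα : ∀ x, α x x = 0) (hαN : NondegOn α ⊤) {x : ι → F} (hx0 : x ≠ 0)
    {v : ι → F} (hv : ∀ e : ι → F, α e x = 0 → α v e = 0) : ∃ l : F, v = l • x := by
  obtain ⟨xs, hxxs⟩ : ∃ xs : ι → F, α x xs = 1 := by
    obtain ⟨y, -, hy⟩ := hαN x trivial hx0
    exact ⟨(α x y)⁻¹ • y, by rw [map_smul, smul_eq_mul, inv_mul_cancel₀ hy]⟩
  have hxsx : α xs x = -1 := by rw [alt_swap' hα, hxxs]
  refine ⟨α v xs, ?_⟩
  by_contra hne
  have hu0 : v - α v xs • x ≠ 0 := fun h => hne (sub_eq_zero.mp h)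
  obtain ⟨z, -, hz⟩ := hαN _ trivial hu0
  apply hz
  -- decompose `z = e + μ x*` with `e ⊥ x`
  obtain ⟨μ, hμ⟩ : ∃ μ : F, μ = - α z x := ⟨_, rfl⟩
  have he : α (z - μ • xs) x = 0 := by
    rw [map_sub, LinearMap.sub_apply, map_smul, LinearMap.smul_apply, smul_eq_mul, hxsx, hμ]
    ring
  have h1 : α v (z - μ • xs) = 0 := hv _ he
  have h2 : α x (z - μ • xs) = 0 := by rw [alt_swap' hα, he, neg_zero]
  have hz' : z = (z - μ • xs) + μ • xs := by abel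
  have gen : ∀ (c : F) (w : ι → F), α (v - c • x) w = α v w - c * α x w := by
    intro c w
    rw [map_sub, LinearMap.sub_apply, map_smul, LinearMap.smul_apply, smul_eq_mul]
  have e1 : α (v - α v xs • x) (z - μ • xs) = 0 := by
    rw [gen, h1, h2, mul_zero, sub_zero]
  have e2 : α (v - α v xs • x) xs = 0 := by
    rw [gen, hxxs, mul_one, sub_self]
  have e3 : α (v - α v xs • x) z =
      α (v - α v xs • x) (z - μ • xs) + μ * α (v - α v xs • x) xs := by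
    conv_lhs => rw [hz']
    rw [map_add, map_smul, smul_eq_mul]
  rw [e3, e1, e2, mul_zero, add_zero]

/-- a matrix all of whose `e`-contractions (`e ⊥ x`) vanish lies in `x ⊗ B` -/
theorem mem_fibB_of_ctrA (hα : ∀ x, α x x = 0) (hαN : NondegOn α ⊤) {x : ι → F} (hx0 : x ≠ 0)
    {D : Matrix ι κ F} (hD : ∀ e : ι → F, α e x = 0 → ctrA α e D = 0) :
    D ∈ fibB (κ := κ) x := by
  have hcol : ∀ j, ∃ l : F, colv D j = l • x := by
    intro j
    apply mem_span_of_perp hα hαN hx0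
    intro e he
    have := congrFun (hD e he) j
    rw [ctrA_apply] at this
    exact this
  choose l hl using hcol
  refine ⟨l, ?_⟩
  ext i j
  have := congrFun (hl j) i
  rw [vecMulVec_apply, mul_comm]
  exact this

/-- a hyperbolic pair inside `x^⊥` (`dim A ≥ 4`) -/
theorem exists_pair_perp (hα : ∀ x, α x x = 0) (hαN : NondegOn α ⊤)
    (h4 : 4 ≤ Fintype.card ι) {x : ι → F} (hx0 : x ≠ 0) :
    ∃ e e' : ι → F, α e x = 0 ∧ α e' x = 0 ∧ α e e' = 1 := by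
  obtain ⟨xs, hxxs⟩ : ∃ xs : ι → F, α x xs = 1 := by
    obtain ⟨y, -, hy⟩ := hαN x trivial hx0
    exact ⟨(α x y)⁻¹ • y, by rw [map_smul, smul_eq_mul, inv_mul_cancel₀ hy]⟩
  have hxsx : α xs x = -1 := by rw [alt_swap' hα, hxxs]
  -- a nonzero vector orthogonal to `x` and `x*`
  let φ : (ι → F) →ₗ[F] (F × F) := (α.flip x).prod (α.flip xs)
  have hφ : ∀ v, φ v = (α v x, α v xs) := fun v => rfl
  have hker : LinearMap.ker φ ≠ ⊥ := by
    intro hbot
    have h1 := LinearMap.finrank_range_add_finrank_ker φ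
    rw [hbot, finrank_bot, add_zero, Module.finrank_fintype_fun_eq_card] at h1
    have h2 : finrank F ↥(LinearMap.range φ) ≤ finrank F (F × F) := Submodule.finrank_le _
    rw [Module.finrank_prod, Module.finrank_self] at h2
    omega
  obtain ⟨e, heK, he0⟩ := Submodule.exists_mem_ne_zero_of_ne_bot hker
  rw [LinearMap.mem_ker, hφ, Prod.mk_eq_zero] at heK
  obtain ⟨hex, hexs⟩ := heK
  obtain ⟨z, -, hz⟩ := hαN e trivial he0
  obtain ⟨μ, hμ⟩ : ∃ μ : F, μ = - α z x := ⟨_, rfl⟩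
  have he'x : α (z - μ • xs) x = 0 := by
    rw [map_sub, LinearMap.sub_apply, map_smul, LinearMap.smul_apply, smul_eq_mul, hxsx, hμ]
    ring
  have hee' : α e (z - μ • xs) = α e z := by
    rw [map_sub, map_smul, smul_eq_mul, hexs, mul_zero, sub_zero]
  refine ⟨e, (α e z)⁻¹ • (z - μ • xs), hex, ?_, ?_⟩
  · rw [map_smul, LinearMap.smul_apply, he'x, smul_zero]
  · rw [map_smul, smul_eq_mul, hee', inv_mul_cancel₀ hz]

/-! ### the core of STABM -/

/-- **STABM**, with the dependencies as hypotheses -/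
theorem stab_conj_of (hα : ∀ x, α x x = 0) (hαN : NondegOn α ⊤) (h4 : 4 ≤ Fintype.card ι)
    (h_uG : M ≤ uG (tf α β))
    (h_ker : ∀ (x : ι → F) (X : Matrix ι κ F),
      ctrA α x X = 0 ↔ X ∈ orthS (tf α β) (fibB (κ := κ) x))
    (h_mem : ∀ {P : (ι → F) ≃ₗ[F] (ι → F)} {R : (κ → F) ≃ₗ[F] (κ → F)}, P ∈ uG α → R ∈ uG β →
      tmE P R ∈ M)
    (h_ctr : ∀ {x : ι → F}, x ≠ 0 → ∀ {g : Matrix ι κ F ≃ₗ[F] Matrix ι κ F}, g ∈ M →
      (∀ w : κ → F, ∃ w' : κ → F, g (vecMulVec x w) = vecMulVec x w') →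
      ∃ R : (κ → F) ≃ₗ[F] (κ → F), (∀ w, g (vecMulVec x w) = vecMulVec x (R w)) ∧
        ∀ c : ι → F, α c x = 0 → ∃ c' : ι → F, α c' x = 0 ∧
          ∀ X : Matrix ι κ F, ctrA α x X = 0 → R (ctrA α c (g⁻¹ X)) = ctrA α c' X)
    (h_q : ∀ {x : ι → F}, x ≠ 0 → ∀ {h : Matrix ι κ F ≃ₗ[F] Matrix ι κ F}, h ∈ M → InQ α x h →
      ∃ P : (ι → F) ≃ₗ[F] (ι → F), P ∈ uG α ∧ h = tmE P (1 : (κ → F) ≃ₗ[F] (κ → F)))
    {x : ι → F} (hx0 : x ≠ 0) {g : Matrix ι κ F ≃ₗ[F] Matrix ι κ F} (hg : g ∈ M)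
    {R : (κ → F) ≃ₗ[F] (κ → F)} (hR : ∀ w, g (vecMulVec x w) = vecMulVec x (R w))
    {R' : (κ → F) ≃ₗ[F] (κ → F)} (hR' : R' ∈ uG β) :
    R * R' * R⁻¹ ∈ uG β ∧ ∃ P : (ι → F) ≃ₗ[F] (ι → F), P ∈ uG α ∧
      g * tmE (1 : (ι → F) ≃ₗ[F] (ι → F)) R' * g⁻¹ = tmE P (R * R' * R⁻¹) := by
  have hgU : g ∈ uG (tf α β) := h_uG hg
  have hgiM : g⁻¹ ∈ M := M.inv_mem hg
  have hgiU : g⁻¹ ∈ uG (tf α β) := h_uG hgiM
  -- S1: the action of `g⁻¹` on the fibre
  have hRi : ∀ w, g⁻¹ (vecMulVec x w) = vecMulVec x (R⁻¹ w) := by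
    intro w
    apply g.injective
    rw [apply_inv_apply_le, hR, apply_inv_apply_le]
  -- S2: isometries mapping the fibre onto itself preserve its orthogonal
  have hperp : ∀ k : Matrix ι κ F ≃ₗ[F] Matrix ι κ F, k ∈ uG (tf α β) →
      (∀ w : κ → F, ∃ w' : κ → F, k (vecMulVec x w') = vecMulVec x w) →
      ∀ X : Matrix ι κ F, ctrA α x X = 0 → ctrA α x (k X) = 0 := by
    intro k hk hon X hX
    rw [h_ker] at hX ⊢
    rintro _ ⟨w, rfl⟩
    obtain ⟨w', hw'⟩ := hon w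
    rw [← hw', hk]
    exact hX _ ⟨w', rfl⟩
  have hperp_g : ∀ X : Matrix ι κ F, ctrA α x X = 0 → ctrA α x (g X) = 0 :=
    hperp g hgU fun w => ⟨R⁻¹ w, by rw [hR, apply_inv_apply_le]⟩
  have hperp_gi : ∀ X : Matrix ι κ F, ctrA α x X = 0 → ctrA α x (g⁻¹ X) = 0 :=
    hperp g⁻¹ hgiU fun w => ⟨R w, by rw [hRi, inv_apply_apply_le]⟩
  have hperp_t : ∀ (S : (κ → F) ≃ₗ[F] (κ → F)) (X : Matrix ι κ F), ctrA α x X = 0 →
      ctrA α x (tmE (1 : (ι → F) ≃ₗ[F] (ι → F)) S X) = 0 := by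
    intro S X hX
    rw [ctrA_tmE_one, hX, map_zero]
  -- the conjugate
  set m' : Matrix ι κ F ≃ₗ[F] Matrix ι κ F :=
    g * tmE (1 : (ι → F) ≃ₗ[F] (ι → F)) R' * g⁻¹ with hm'
  have hm'apply : ∀ X, m' X = g (tmE (1 : (ι → F) ≃ₗ[F] (ι → F)) R' (g⁻¹ X)) := fun X => rfl
  have hm'M : m' ∈ M :=
    M.mul_mem (M.mul_mem hg (h_mem (Subgroup.one_mem _) hR')) hgiM
  have hm'U : m' ∈ uG (tf α β) := h_uG hm'M
  set R'' : (κ → F) ≃ₗ[F] (κ → F) := R * R' * R⁻¹ with hR''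
  have hR''apply : ∀ w, R'' w = R (R' (R⁻¹ w)) := fun w => rfl
  -- S3: `m'` on the fibre
  have hm'fib : ∀ w, m' (vecMulVec x w) = vecMulVec x (R'' w) := by
    intro w
    rw [hm'apply, hRi, tmE_one_pure, hR, hR''apply]
  have hm'perp : ∀ X : Matrix ι κ F, ctrA α x X = 0 → ctrA α x (m' X) = 0 := by
    intro X hX
    rw [hm'apply]
    exact hperp_g _ (hperp_t R' _ (hperp_gi _ hX))
  -- S5: the key identity from NORMK for `g⁻¹`
  have hK : ∀ e : ι → F, α e x = 0 → ∃ c : ι → F, α c x = 0 ∧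
      ∀ X' : Matrix ι κ F, ctrA α x X' = 0 → ctrA α e X' = R (ctrA α c (g⁻¹ X')) := by
    intro e he
    obtain ⟨R₂, hR₂, hc⟩ := h_ctr hx0 hgiM fun w => ⟨R⁻¹ w, hRi w⟩
    have hR₂' : ∀ w, R₂ w = R⁻¹ w := by
      intro w
      exact vecMulVec_left_injective hx0 ((hR₂ w).symm.trans (hRi w))
    obtain ⟨c, hcx, hcX⟩ := hc e he
    refine ⟨c, hcx, ?_⟩
    intro X' hX'
    have h1 := hcX (g⁻¹ X') (hperp_gi X' hX')
    rw [inv_inv, apply_inv_apply_le, hR₂'] at h1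
    rw [← h1]
    show ctrA α e X' = (R * R⁻¹) (ctrA α e X')
    rw [mul_inv_cancel]
    rfl
  -- S6
  have hS6 : ∀ (Z : Matrix ι κ F), ctrA α x Z = 0 → ∀ e : ι → F, α e x = 0 →
      ctrA α e (m' Z) = ctrA α e (tmE (1 : (ι → F) ≃ₗ[F] (ι → F)) R'' Z) := by
    intro Z hZ e he
    obtain ⟨c, hcx, hc⟩ := hK e he
    have h1 := hc (m' Z) (hm'perp Z hZ)
    have h2 := hc Z hZ
    have h3 : g⁻¹ (m' Z) = tmE (1 : (ι → F) ≃ₗ[F] (ι → F)) R' (g⁻¹ Z) := by
      rw [hm'apply, inv_apply_apply_le]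
    rw [h3, ctrA_tmE_one] at h1
    have h4 : ctrA α c (g⁻¹ Z) = R⁻¹ (ctrA α e Z) := by
      rw [h2]
      show ctrA α c (g⁻¹ Z) = (R⁻¹ * R) (ctrA α c (g⁻¹ Z))
      rw [inv_mul_cancel]
      rfl
    rw [h1, h4, ctrA_tmE_one, hR''apply]
  -- S7
  have hS7 : ∀ (Z : Matrix ι κ F), ctrA α x Z = 0 →
      m' Z - tmE (1 : (ι → F) ≃ₗ[F] (ι → F)) R'' Z ∈ fibB (κ := κ) x := by
    intro Z hZ
    apply mem_fibB_of_ctrA hα hαN hx0
    intro e he
    rw [map_sub, hS6 Z hZ e he, sub_self]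
  -- S8: `R''` is an isometry
  have hR''U : R'' ∈ uG β := by
    obtain ⟨e, e', hex, he'x, hee'⟩ := exists_pair_perp hα hαN h4 hx0
    have hxe' : α x e' = 0 := by rw [alt_swap' hα, he'x, neg_zero]
    intro b b'
    have hZ : ctrA α x (vecMulVec e b) = 0 := by
      rw [Cfsg.Agent.Lib.Helper17_UT_BAS1.ctrA_pure, hex, zero_smul]
    have hZ' : ctrA α x (vecMulVec e' b') = 0 := by
      rw [Cfsg.Agent.Lib.Helper17_UT_BAS1.ctrA_pure, he'x, zero_smul]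
    obtain ⟨u, hu⟩ := hS7 _ hZ
    obtain ⟨u', hu'⟩ := hS7 _ hZ'
    rw [tmE_one_pure] at hu hu'
    have e1 : m' (vecMulVec e b) = vecMulVec e (R'' b) + vecMulVec x u := by
      rw [← hu]
      show m' (vecMulVec e b) = vecMulVec e (R'' b) + (m' (vecMulVec e b) - vecMulVec e (R'' b))
      abel
    have e2 : m' (vecMulVec e' b') = vecMulVec e' (R'' b') + vecMulVec x u' := by
      rw [← hu']
      show m' (vecMulVec e' b') =
        vecMulVec e' (R'' b') + (m' (vecMulVec e' b') - vecMulVec e' (R'' b'))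
      abel
    have h1 := hm'U (vecMulVec e b) (vecMulVec e' b')
    rw [e1, e2] at h1
    simp only [map_add, LinearMap.add_apply, Cfsg.Agent.Lib.Helper17_UT_BAS1.tf_pure, hee', hex,
      hxe', hα x, one_mul, zero_mul, add_zero] at h1
    exact h1
  refine ⟨hR''U, ?_⟩
  -- S9
  have htM : tmE (1 : (ι → F) ≃ₗ[F] (ι → F)) R'' ∈ M := h_mem (Subgroup.one_mem _) hR''U
  set t : Matrix ι κ F ≃ₗ[F] Matrix ι κ F := tmE (1 : (ι → F) ≃ₗ[F] (ι → F)) R'' with ht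
  have hQ : InQ α x (m' * t⁻¹) := by
    constructor
    · intro w
      have h1 : t⁻¹ (vecMulVec x w) = vecMulVec x (R''⁻¹ w) := by
        apply t.injective
        rw [apply_inv_apply_le, ht, tmE_one_pure]
        show vecMulVec x w = vecMulVec x ((R'' * R''⁻¹) w)
        rw [mul_inv_cancel]
        rfl
      rw [LinearEquiv.mul_apply, h1, hm'fib]
      show vecMulVec x ((R'' * R''⁻¹) w) = vecMulVec x w
      rw [mul_inv_cancel]
      rfl
    · intro X hX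
      have hY : ctrA α x (t⁻¹ X) = 0 := by
        have h1 : ctrA α x (t (t⁻¹ X)) = R'' (ctrA α x (t⁻¹ X)) := by
          rw [ht, ctrA_tmE_one]
        rw [apply_inv_apply_le, hX] at h1
        have h2 : R'' (ctrA α x (t⁻¹ X)) = R'' 0 := by rw [← h1, map_zero]
        exact R''.injective h2
      have h1 := hS7 (t⁻¹ X) hY
      rw [apply_inv_apply_le] at h1
      exact h1
  obtain ⟨P, hP, hPeq⟩ := h_q hx0 (M.mul_mem hm'M (M.inv_mem htM)) hQ
  refine ⟨P, hP, ?_⟩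
  have h1 : m' = m' * t⁻¹ * t := by rw [inv_mul_cancel_right]
  rw [h1, hPeq, ht, Cfsg.Agent.Lib.Helper44_UT_BAS4.tmE_mul, mul_one, one_mul]

end Cfsg.Agent.Lib.Helper92_OT_STABMaux
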