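import Mathlib
import Cfsg.Agent.Lib.Helper93_OutAbs

/-!
Automorphisms of a finite group with a self-centralising Sylow subgroup of order 23 normalised by an
element `d` of order 11 whose centraliser is `⟨d⟩ × ⟨z⟩` for an involution `z`: every automorphism
agrees with an inner one on `a`, `d`, `c` and `z` (variant of `Helper93_OutAbs.normalize3`).
-/

set_option autoImplicit false
open Cfsg

namespace Cfsg.Agent.Lib.Helper92_OutNorm

open Cfsg.Agent.Lib.Helper93_OutAbs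

section

variable {G : Type*} [Group G]

/-- In a group where `c` acts on `x` by cubing, `x ^ 11 = 1` and `c ^ 5 = 1`, the element `c x`
has order dividing 5. -/
theorem mul_pow_aux {c x : G} (hcx : c * x * c⁻¹ = x ^ 3) (m : ℕ) :
    (c * x) ^ m = x ^ (∑ j ∈ Finset.range m, 3 ^ (j + 1)) * c ^ m := by
  induction m with
  | zero => simp
  | succ m ih =>
    have h1 : c ^ (m + 1) * x * (c ^ (m + 1))⁻¹ = x ^ (3 ^ (m + 1)) := conj_pow_pow' hcx (m + 1)
    have h2 : c ^ (m + 1) * x = x ^ (3 ^ (m + 1)) * c ^ (m + 1) := by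
      rw [← h1]; group
    calc (c * x) ^ (m + 1) = (c * x) ^ m * (c * x) := pow_succ _ _
      _ = x ^ (∑ j ∈ Finset.range m, 3 ^ (j + 1)) * c ^ m * (c * x) := by rw [ih]
      _ = x ^ (∑ j ∈ Finset.range m, 3 ^ (j + 1)) * (c ^ (m + 1) * x) := by
        rw [pow_succ c m]; simp only [mul_assoc]
      _ = x ^ (∑ j ∈ Finset.range m, 3 ^ (j + 1)) * (x ^ (3 ^ (m + 1)) * c ^ (m + 1)) := by rw [h2]
      _ = x ^ (∑ j ∈ Finset.range (m + 1), 3 ^ (j + 1)) * c ^ (m + 1) := by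
        rw [Finset.sum_range_succ, pow_add x, mul_assoc]

/-- In a group where `c` acts on `x` by cubing, `x ^ 11 = 1` and `c ^ 5 = 1`, the element `c x`
has order dividing 5. -/
theorem mul_pow_five {c x : G} (hcx : c * x * c⁻¹ = x ^ 3) (hx : x ^ 11 = 1) (hc : c ^ 5 = 1) :
    (c * x) ^ 5 = 1 := by
  rw [mul_pow_aux hcx 5, hc, mul_one]
  have : (∑ j ∈ Finset.range 5, 3 ^ (j + 1)) = 11 * 33 := by decide
  rw [this, pow_mul, hx, one_pow]

end

section

variable {G : Type*} [Group G] [Finite G] (a d c z : G) (s : ℕ)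

/-- Every automorphism agrees with an inner one on `a`, `d`, `c` and `z`. -/
theorem normalize3z
    (hcard : Nat.card G = 23 * s) (hs : ¬ 23 ∣ s)
    (ha : a ^ 23 = 1) (ha1 : a ≠ 1) (hda : d * a * d⁻¹ = a ^ 2)
    (hCa : ∀ g : G, g * a = a * g → g ∈ Subgroup.zpowers a)
    (hz2 : z * z = 1) (hz1 : z ≠ 1) (hzd : z * d = d * z) (hzc : z * c = c * z)
    (hCd : ∀ g : G, g * d = d * g → g ∈ Subgroup.zpowers d ∨ ∃ h ∈ Subgroup.zpowers d, g = h * z)
    (hd : d ^ 11 = 1) (hd1 : d ≠ 1) (hc5 : c ^ 5 = 1) (hcd : c * d * c⁻¹ = d ^ 3)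
    (hr1 : (a * c) ^ 6 = 1) (hr2 : (a * c ^ 2) ^ 5 = 1)
    (hpin : ∀ k ∈ ([1, 22] : List ℕ), ∀ i < 11, (a ^ k * (c * d ^ i)) ^ 6 = 1 →
      (a ^ k * (c * d ^ i) ^ 2) ^ 5 = 1 → k = 1 ∧ i = 0)
    (α : MulAut G) : ∃ g : G, α a = g * a * g⁻¹ ∧ α d = g * d * g⁻¹ ∧ α c = g * c * g⁻¹ ∧
      α z = g * z * g⁻¹ := by
  have : Fact (Nat.Prime 23) := ⟨by norm_num⟩
  have hcover : ∀ j < 23, j ≠ 0 → ∃ k ∈ ([1, 22] : List ℕ), ∃ m, j % 23 = (k * 2 ^ m) % 23 := by
    have h : ∀ j < 23, j ≠ 0 → ∃ k ∈ ([1, 22] : List ℕ), ∃ m < 11,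
        j % 23 = (k * 2 ^ m) % 23 := by decide
    intro j hj hj0
    obtain ⟨k, hk, m, _, hm⟩ := h j hj hj0
    exact ⟨k, hk, m, hm⟩
  have hαa : (α a) ^ 23 = 1 := by rw [← map_pow, ha, map_one]
  have hαa1 : α a ≠ 1 := fun h => ha1 (α.injective (h.trans (map_one α).symm))
  obtain ⟨g₀, k, hk, hg₀⟩ :=
    exists_conj_prime' 23 hcard hs ha ha1 hda [1, 22] hcover (α a) hαa hαa1
  let β : MulAut G := (MulAut.conj g₀)⁻¹ * α
  have hβx : ∀ x, β x = g₀⁻¹ * α x * g₀ := fun x => by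
    show (MulAut.conj g₀)⁻¹ (α x) = _
    rw [MulAut.conj_inv_apply]
  have hβa : β a = a ^ k := by
    rw [hβx, ← hg₀]
    group
  have h1 : β d * β a * (β d)⁻¹ = (β a) ^ 2 := by
    rw [← map_inv, ← map_mul, ← map_mul, hda, map_pow]
  rw [hβa] at h1
  have h2 : β d * a * (β d)⁻¹ = a ^ 2 := by
    have hk' : k = 1 ∨ k = 22 := by simpa using hk
    rcases hk' with rfl | rfl
    · simpa using h1
    · have ha22 : a ^ 22 = a⁻¹ := by
        apply eq_inv_of_mul_eq_one_left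
        rw [← pow_succ, ha]
      rw [ha22] at h1
      have h3 := congrArg (·⁻¹) h1
      simp only [mul_inv_rev, inv_inv, inv_pow] at h3
      rw [← mul_assoc] at h3
      exact h3
  have hda' : d⁻¹ * a ^ 2 * d = a := by
    rw [← hda]
    group
  have hz : (d⁻¹ * β d) * a = a * (d⁻¹ * β d) := by
    have : (d⁻¹ * β d) * a * (d⁻¹ * β d)⁻¹ = a := by
      calc (d⁻¹ * β d) * a * (d⁻¹ * β d)⁻¹ = d⁻¹ * (β d * a * (β d)⁻¹) * d := by group
        _ = a := by rw [h2, hda']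
    calc (d⁻¹ * β d) * a = ((d⁻¹ * β d) * a * (d⁻¹ * β d)⁻¹) * (d⁻¹ * β d) := by group
      _ = a * (d⁻¹ * β d) := by rw [this]
  obtain ⟨i, hi⟩ := Subgroup.mem_zpowers_iff.1 (hCa _ hz)
  have hβd : β d = d * a ^ i := by
    rw [hi]
    group
  have hdai : d * a ^ i * d⁻¹ = a ^ (2 * i) := by
    have : d * a ^ i * d⁻¹ = (d * a * d⁻¹) ^ i := by
      rw [conj_zpow]
    rw [this, hda, ← zpow_natCast, ← zpow_mul]
    rfl
  let g₁ : G := a ^ (-(2 * i))
  let γ : MulAut G := (MulAut.conj g₁)⁻¹ * β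
  have hγx : ∀ x, γ x = g₁⁻¹ * β x * g₁ := fun x => by
    show (MulAut.conj g₁)⁻¹ (β x) = _
    rw [MulAut.conj_inv_apply]
  have hg₁ : g₁⁻¹ = a ^ (2 * i) := by
    show (a ^ (-(2 * i)))⁻¹ = _
    rw [zpow_neg, inv_inv]
  have hγa : γ a = a ^ k := by
    rw [hγx, hβa, hg₁]
    show a ^ (2 * i) * a ^ k * a ^ (-(2 * i)) = a ^ k
    rw [← zpow_natCast a k, ← zpow_add, ← zpow_add]
    congr 1
    ring
  have hγd : γ d = d := by
    rw [hγx, hβd, hg₁]
    show a ^ (2 * i) * (d * a ^ i) * a ^ (-(2 * i)) = d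
    have e1 : a ^ (2 * i) * d = d * a ^ i := by
      rw [← hdai]
      group
    have e2 : i + (i + -(2 * i)) = 0 := by ring
    calc a ^ (2 * i) * (d * a ^ i) * a ^ (-(2 * i))
        = (a ^ (2 * i) * d) * (a ^ i * a ^ (-(2 * i))) := by simp only [mul_assoc]
      _ = d * (a ^ i * (a ^ i * a ^ (-(2 * i)))) := by rw [e1, mul_assoc]
      _ = d := by rw [← zpow_add, ← zpow_add, e2, zpow_zero, mul_one]
  -- the image of `c`
  have h3 : γ c * d * (γ c)⁻¹ = d ^ 3 := by
    have := congrArg γ hcd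
    rw [map_mul, map_mul, map_inv, map_pow, hγd] at this
    exact this
  have hcd' : c⁻¹ * d ^ 3 * c = d := by
    rw [← hcd]
    group
  have hz2' : (c⁻¹ * γ c) * d = d * (c⁻¹ * γ c) := by
    have : (c⁻¹ * γ c) * d * (c⁻¹ * γ c)⁻¹ = d := by
      calc (c⁻¹ * γ c) * d * (c⁻¹ * γ c)⁻¹ = c⁻¹ * (γ c * d * (γ c)⁻¹) * c := by group
        _ = d := by rw [h3, hcd']
    calc (c⁻¹ * γ c) * d = ((c⁻¹ * γ c) * d * (c⁻¹ * γ c)⁻¹) * (c⁻¹ * γ c) := by group
      _ = d * (c⁻¹ * γ c) := by rw [this]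
  have hγc5 : (γ c) ^ 5 = 1 := by rw [← map_pow, hc5, map_one]
  have hcx : ∀ n : ℕ, c * d ^ n * c⁻¹ = (d ^ n) ^ 3 := by
    intro n
    rw [← conj_pow, hcd, ← pow_mul, ← pow_mul, mul_comm]
  have hx11 : ∀ n : ℕ, (d ^ n) ^ 11 = 1 := by
    intro n
    rw [← pow_mul, mul_comm, pow_mul, hd, one_pow]
  have hmem : c⁻¹ * γ c ∈ Subgroup.zpowers d := by
    rcases hCd _ hz2' with h | ⟨h, hh, e⟩
    · exact h
    · exfalso
      obtain ⟨n, hn, hdn⟩ := exists_pow_lt hd hh
      have hγc : γ c = c * d ^ n * z := by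
        calc γ c = c * (c⁻¹ * γ c) := by group
          _ = c * (h * z) := by rw [e]
          _ = c * d ^ n * z := by rw [← hdn]; group
      have hzx : z * (c * d ^ n) = (c * d ^ n) * z := by
        have hzdn : z * d ^ n = d ^ n * z := by
          have : Commute z d := hzd
          exact (this.pow_right n).eq
        calc z * (c * d ^ n) = (z * c) * d ^ n := by group
          _ = c * (z * d ^ n) := by rw [hzc]; group
          _ = (c * d ^ n) * z := by rw [hzdn]; group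
      have hcomm : Commute (c * d ^ n) z := hzx.symm
      have h5 : (c * d ^ n * z) ^ 5 = (c * d ^ n) ^ 5 * z ^ 5 := hcomm.mul_pow 5
      rw [hγc, h5, mul_pow_five (hcx n) (hx11 n) hc5, one_mul] at hγc5
      have hz5 : z ^ 5 = z := by
        have hz2'' : z ^ 2 = 1 := by rw [pow_two, hz2]
        calc z ^ 5 = (z ^ 2) ^ 2 * z := by group
          _ = z := by rw [hz2'', one_pow, one_mul]
      rw [hz5] at hγc5
      exact hz1 hγc5
  obtain ⟨n, hn, hdn⟩ := exists_pow_lt hd hmem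
  have hγc : γ c = c * d ^ n := by
    rw [hdn]
    group
  have h6 : (a ^ k * (c * d ^ n)) ^ 6 = 1 := by
    have := congrArg γ hr1
    rw [map_pow, map_mul, map_one, hγa, hγc] at this
    exact this
  have h5 : (a ^ k * (c * d ^ n) ^ 2) ^ 5 = 1 := by
    have := congrArg γ hr2
    rw [map_pow, map_mul, map_pow, map_one, hγa, hγc] at this
    exact this
  obtain ⟨rfl, rfl⟩ := hpin k hk n hn h6 h5
  rw [pow_one] at hγa
  rw [pow_zero, mul_one] at hγc
  -- the image of `z`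
  have hγz : γ z = z := by
    have hc1 : γ z * d = d * γ z := by
      have := congrArg γ hzd
      rw [map_mul, map_mul, hγd] at this
      exact this
    have hsq : γ z * γ z = 1 := by rw [← map_mul, hz2, map_one]
    have hne : γ z ≠ 1 := fun h => hz1 (γ.injective (h.trans (map_one γ).symm))
    have hpow : ∀ m : ℕ, m < 11 → d ^ m * d ^ m = 1 → m = 0 := by
      intro m hm h
      by_contra hm0
      apply hd1
      have h2m : d ^ (2 * m) = 1 := by rw [two_mul, pow_add, h]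
      have hcop : Nat.Coprime (2 * m) 11 := by
        have : ∀ m < 11, m ≠ 0 → Nat.Coprime (2 * m) 11 := by decide
        exact this m hm hm0
      have hord : orderOf d ∣ 1 := by
        have h1 := orderOf_dvd_of_pow_eq_one h2m
        have h2 := orderOf_dvd_of_pow_eq_one hd
        have := Nat.dvd_gcd h1 h2
        rwa [hcop] at this
      exact orderOf_eq_one_iff.mp (Nat.dvd_one.mp hord)
    rcases hCd _ hc1 with h | ⟨h, hh, e⟩
    · exfalso
      obtain ⟨m, hm, hdm⟩ := exists_pow_lt hd h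
      rw [← hdm] at hsq hne
      have := hpow m hm hsq
      subst this
      exact hne (pow_zero d)
    · obtain ⟨m, hm, hdm⟩ := exists_pow_lt hd hh
      rw [e, ← hdm] at hsq
      have hzdm : z * d ^ m = d ^ m * z := by
        have : Commute z d := hzd
        exact (this.pow_right m).eq
      have hsq' : d ^ m * d ^ m = 1 := by
        calc d ^ m * d ^ m = d ^ m * d ^ m * (z * z) := by rw [hz2, mul_one]
          _ = d ^ m * (d ^ m * z) * z := by group
          _ = d ^ m * (z * d ^ m) * z := by rw [hzdm]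
          _ = (d ^ m * z) * (d ^ m * z) := by group
          _ = 1 := hsq
      have := hpow m hm hsq'
      subst this
      rw [e, ← hdm, pow_zero, one_mul]
  have hαγ : ∀ x, α x = (g₀ * g₁) * γ x * (g₀ * g₁)⁻¹ := by
    intro x
    rw [hγx, hβx]
    group
  refine ⟨g₀ * g₁, ?_, ?_, ?_, ?_⟩
  · rw [hαγ, hγa]
  · rw [hαγ, hγd]
  · rw [hαγ, hγc]
  · rw [hαγ, hγz]

end

end Cfsg.Agent.Lib.Helper92_OutNorm
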