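import Mathlib
import Cfsg.Prelude.Def_KGroupFacts
import Cfsg.Agent.Lib.Helper93_OutAbs
import Cfsg.Agent.Lib.Helper92_OutNorm2

/-!
Abstract lemmas for the outer automorphism group of a group of order `4157776806543360000` with a
self-centralising element `a` of order 23 normalised by an element `d` of order 11 whose
centraliser is `⟨d⟩ × S`, where `S = {1, e, z, ez, ze, eze}` is generated by two involutions `e`,
`z` with `(ez)^3 = 1`:

* every automorphism agrees with an inner one on `a`, `d`, `c`, `b`, `e`, `z`, where `c` acts on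
  `⟨d⟩` by cubing and centralises `S`, and `b` inverts `d`, commutes with `c` and `e` and
  conjugates `z` to `eze`;
* the normaliser of `⟨d⟩` lies in a subgroup containing `d`, `c`, `b` and the centraliser of `d`;
* a subgroup of index congruent to `1` modulo `23` and `11` containing a subgroup of order
  `42305421312000` is the whole group.
-/

set_option autoImplicit false
set_option linter.unusedSectionVars false
open Cfsg

namespace Cfsg.Agent.Lib.Helper92_OutNorm3

open Cfsg.Agent.Lib.Helper93_OutAbs Cfsg.Agent.Lib.Helper92_OutNorm2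

section S3

variable {G : Type*} [Group G] (e z : G)

/-- The six elements generated by `e` and `z`. -/
def S6 : Set G := {1, e, z, e * z, z * e, e * z * e}

variable {e z}

theorem mem_S6 {t : G} (h : t ∈ S6 e z) :
    t = 1 ∨ t = e ∨ t = z ∨ t = e * z ∨ t = z * e ∨ t = e * z * e := by
  simpa [S6] using h

theorem one_mem_S6 : (1 : G) ∈ S6 e z := by simp [S6]
theorem e_mem_S6 : e ∈ S6 e z := by simp [S6]
theorem z_mem_S6 : z ∈ S6 e z := by simp [S6]
theorem ez_mem_S6 : e * z ∈ S6 e z := by simp [S6]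
theorem ze_mem_S6 : z * e ∈ S6 e z := by simp [S6]
theorem eze_mem_S6 : e * z * e ∈ S6 e z := by simp [S6]

variable (he2 : e * e = 1) (hz2 : z * z = 1) (hez3 : (e * z) ^ 3 = 1) (hez : e ≠ z)
include he2 hz2 hez3 hez

theorem e_inv : e⁻¹ = e := inv_eq_of_mul_eq_one_left he2
theorem z_inv : z⁻¹ = z := inv_eq_of_mul_eq_one_left hz2

omit hez3 hez in
theorem ze3 (hez3 : (e * z) ^ 3 = 1) : (z * e) ^ 3 = 1 := by
  have h : (z * e) ^ 3 = z * (e * z) ^ 3 * z⁻¹ := by
    rw [pow_succ, pow_succ, pow_one, pow_succ, pow_succ, pow_one]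
    group
  rw [h, hez3, mul_one, mul_inv_cancel]

omit hez3 in
/-- `ez` is not an involution. -/
theorem ez_sq_ne (hez3 : (e * z) ^ 3 = 1) : (e * z) * (e * z) ≠ 1 := by
  intro h
  have h1 : e * z = 1 := by
    have : (e * z) ^ 3 = (e * z) * (e * z) * (e * z) := by
      rw [pow_succ, pow_succ, pow_one]
    rw [this, h, one_mul] at hez3
    exact hez3
  apply hez
  have : e = z⁻¹ := eq_inv_of_mul_eq_one_left h1
  rw [this, z_inv he2 hz2 hez3 hez]

omit hez3 in
theorem ze_sq_ne (hez3 : (e * z) ^ 3 = 1) : (z * e) * (z * e) ≠ 1 := by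
  intro h
  apply ez_sq_ne he2 hz2 hez hez3
  have : (e * z) * (e * z) = z⁻¹ * ((z * e) * (z * e)) * z := by group
  rw [this, h]
  group

omit hez3 in
/-- `e` and `z` do not commute. -/
theorem not_comm (hez3 : (e * z) ^ 3 = 1) : e * z ≠ z * e := by
  intro h
  apply ez_sq_ne he2 hz2 hez hez3
  calc (e * z) * (e * z) = e * (z * e) * z := by group
    _ = e * (e * z) * z := by rw [h]
    _ = (e * e) * (z * z) := by group
    _ = 1 := by rw [he2, hz2, one_mul]

theorem eze_sq : (e * z * e) * (e * z * e) = 1 := by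
  calc (e * z * e) * (e * z * e) = e * z * (e * e) * z * e := by group
    _ = e * (z * z) * e := by rw [he2]; group
    _ = 1 := by rw [hz2, mul_one, he2]

/-- An element of `S` commuting with `e` and `z` is trivial. -/
theorem center_S6 (t : G) (ht : t ∈ S6 e z) (h1 : t * e = e * t) (h2 : t * z = z * t) : t = 1 := by
  have hn := not_comm he2 hz2 hez hez3
  rcases mem_S6 ht with rfl | rfl | rfl | rfl | rfl | rfl
  · rfl
  · exact absurd h2 hn
  · exact absurd h1.symm hn
  · exfalso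
    apply hn
    -- `(e z) e = e (e z)` gives `z e = e z`
    have : e * (z * e) = e * (e * z) := by
      rw [← mul_assoc, h1]
    exact (mul_left_cancel this).symm
  · exfalso
    apply hn
    -- `(z e) z = z (z e)` gives `e z = z e`
    have : z * (e * z) = z * (z * e) := by
      rw [← mul_assoc, h2]
    exact mul_left_cancel this
  · exfalso
    apply hn
    -- `(e z e) e = e (e z e)` gives `e z = z e`
    have h3 : e * z * e * e = e * z := by rw [mul_assoc, he2, mul_one]
    have h4 : e * (e * z * e) = z * e := by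
      rw [← mul_assoc, ← mul_assoc, he2, one_mul]
    rw [h3, h4] at h1
    exact h1

/-- An element of `S` of order dividing `5` is trivial. -/
theorem pow5_S6 (he1 : e ≠ 1) (hz1 : z ≠ 1) (t : G) (ht : t ∈ S6 e z) (h : t ^ 5 = 1) : t = 1 := by
  have sq5 : ∀ x : G, x * x = 1 → x ^ 5 = x := by
    intro x hx
    have : x ^ 5 = (x * x) * (x * x) * x := by
      rw [pow_succ, pow_succ, pow_succ, pow_succ, pow_one]
      group
    rw [this, hx, one_mul, one_mul]
  have cube5 : ∀ x : G, x ^ 3 = 1 → x ^ 5 = x * x := by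
    intro x hx
    rw [show (5 : ℕ) = 3 + 2 from rfl, pow_add, hx, one_mul, pow_two]
  rcases mem_S6 ht with rfl | rfl | rfl | rfl | rfl | rfl
  · rfl
  · rw [sq5 _ he2] at h
    exact absurd h he1
  · rw [sq5 _ hz2] at h
    exact absurd h hz1
  · rw [cube5 _ hez3] at h
    exact absurd h (ez_sq_ne he2 hz2 hez hez3)
  · rw [cube5 _ (ze3 he2 hz2 hez3)] at h
    exact absurd h (ze_sq_ne he2 hz2 hez hez3)
  · rw [sq5 _ (eze_sq he2 hz2 hez3 hez)] at h
    exfalso
    apply hz1
    calc z = e⁻¹ * (e * z * e) * e⁻¹ := by group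
      _ = 1 := by rw [h, mul_one, e_inv he2 hz2 hez3 hez, he2]

/-- The involutions of `S`. -/
theorem invol_S6 (t : G) (ht : t ∈ S6 e z) (h2 : t * t = 1) (h1 : t ≠ 1) :
    t = e ∨ t = z ∨ t = e * z * e := by
  rcases mem_S6 ht with rfl | rfl | rfl | rfl | rfl | rfl
  · exact absurd rfl h1
  · exact Or.inl rfl
  · exact Or.inr (Or.inl rfl)
  · exact absurd h2 (ez_sq_ne he2 hz2 hez hez3)
  · exact absurd h2 (ze_sq_ne he2 hz2 hez hez3)
  · exact Or.inr (Or.inr rfl)

end S3

/-! ### the Frobenius group of order 55 -/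

theorem pow5_of {G : Type*} [Group G] (c x : G) (hcx : c * x * c⁻¹ = x ^ 3) (hc5 : c ^ 5 = 1)
    (hx : x ^ 11 = 1) : (c * x) ^ 5 = 1 := by
  have key : ∀ m : ℕ, c * x ^ m = x ^ (3 * m) * c := by
    intro m
    have : c * x ^ m * c⁻¹ = x ^ (3 * m) := by
      rw [← conj_pow, hcx, ← pow_mul]
    calc c * x ^ m = (c * x ^ m * c⁻¹) * c := by group
      _ = x ^ (3 * m) * c := by rw [this]
  have step : ∀ k m : ℕ, (c * x) * (x ^ m * c ^ k) = x ^ (3 * (m + 1)) * c ^ (k + 1) := by
    intro k m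
    calc (c * x) * (x ^ m * c ^ k) = c * x ^ (m + 1) * c ^ k := by
          rw [pow_succ' x m]; group
      _ = x ^ (3 * (m + 1)) * c * c ^ k := by rw [key]
      _ = x ^ (3 * (m + 1)) * c ^ (k + 1) := by rw [mul_assoc, ← pow_succ']
  have h1 : (c * x) ^ 1 = x ^ 3 * c ^ 1 := by
    have := step 0 0
    rw [pow_zero, pow_zero, mul_one, mul_one] at this
    rw [pow_one]
    exact this
  have h2 : (c * x) ^ 2 = x ^ 12 * c ^ 2 := by
    rw [pow_succ', h1, step]
  have h3 : (c * x) ^ 3 = x ^ 39 * c ^ 3 := by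
    rw [pow_succ', h2, step]
  have h4 : (c * x) ^ 4 = x ^ 120 * c ^ 4 := by
    rw [pow_succ', h3, step]
  have h5 : (c * x) ^ 5 = x ^ 363 * c ^ 5 := by
    rw [pow_succ', h4, step]
  rw [h5, hc5, mul_one, show 363 = 11 * 33 from rfl, pow_mul, hx, one_pow]

/-- A power of `d` commuting with `c` is trivial. -/
theorem pow_eq_one_of_comm {G : Type*} [Group G] (c d : G) (hd : d ^ 11 = 1)
    (hcd : c * d * c⁻¹ = d ^ 3) (n : ℕ) (h : d ^ n * c = c * d ^ n) : d ^ n = 1 := by
  have h1 : c * d ^ n * c⁻¹ = d ^ (3 * n) := by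
    rw [← conj_pow, hcd, ← pow_mul]
  have h2 : c * d ^ n * c⁻¹ = d ^ n := by
    rw [← h]; group
  rw [h2] at h1
  -- `d^n = d^(3n)`, so `d^(2n) = 1`
  have h3 : d ^ (2 * n) = 1 := by
    have : d ^ (3 * n) = d ^ n * d ^ (2 * n) := by
      rw [← pow_add]; congr 1; ring
    rw [this] at h1
    exact (mul_eq_left.mp h1.symm)
  have h4 : d ^ (11 * n) = 1 := by rw [pow_mul, hd, one_pow]
  have h5 : d ^ (11 * n) = d ^ n * (d ^ (2 * n)) ^ 5 := by
    rw [← pow_mul, ← pow_add]; congr 1; ring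
  rw [h5, h3, one_pow, mul_one] at h4
  exact h4

section norm

variable {G : Type*} [Group G] [Finite G] (a d c b e z : G) (s : ℕ)

/-- Every automorphism agrees with an inner one on `a`, `d`, `c`, `b`, `e` and `z`. -/
theorem normalize6
    (hcard : Nat.card G = 23 * s) (hs : ¬ 23 ∣ s)
    (ha : a ^ 23 = 1) (ha1 : a ≠ 1) (hda : d * a * d⁻¹ = a ^ 2)
    (hCa : ∀ g : G, g * a = a * g → g ∈ Subgroup.zpowers a)
    (hd : d ^ 11 = 1) (hcd : c * d * c⁻¹ = d ^ 3) (hc5 : c ^ 5 = 1)
    (he2 : e * e = 1) (hz2 : z * z = 1) (hez3 : (e * z) ^ 3 = 1)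
    (he1 : e ≠ 1) (hz1 : z ≠ 1) (hez : e ≠ z)
    (hed : e * d = d * e) (hec : e * c = c * e) (hzd : z * d = d * z) (hzc : z * c = c * z)
    (hCd : ∀ g : G, g * d = d * g → ∃ n < 11, ∃ t ∈ S6 e z, g = d ^ n * t)
    (hr1 : (a * c) ^ 6 = 1) (hr2 : (a * c ^ 2) ^ 5 = 1)
    (hpin : ∀ k ∈ ([1, 22] : List ℕ), ∀ i < 11, (a ^ k * (c * d ^ i)) ^ 6 = 1 →
      (a ^ k * (c * d ^ i) ^ 2) ^ 5 = 1 → k = 1 ∧ i = 0)
    (hbd : b * d * b⁻¹ = d⁻¹) (hbc : b * c = c * b)
    (hbe : b * e = e * b) (hbz : b * z = e * z * e * b)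
    (hea : e * (a * e * a⁻¹) = (a * e * a⁻¹) * e)
    (hnz : z * (a * z * a⁻¹) ≠ (a * z * a⁻¹) * z)
    (hnw : (e * z * e) * (a * (e * z * e) * a⁻¹) ≠ (a * (e * z * e) * a⁻¹) * (e * z * e))
    (haz : (a * z) ^ 12 = 1) (hnaz : (a * (e * z * e)) ^ 12 ≠ 1)
    (α : MulAut G) : ∃ g : G, α a = g * a * g⁻¹ ∧ α d = g * d * g⁻¹ ∧ α c = g * c * g⁻¹ ∧
      α b = g * b * g⁻¹ ∧ α e = g * e * g⁻¹ ∧ α z = g * z * g⁻¹ := by
  have : Fact (Nat.Prime 23) := ⟨by norm_num⟩
  -- the elements of `S` commute with `d` and `c`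
  have hSd : ∀ t ∈ S6 e z, t * d = d * t := by
    intro t ht
    rcases mem_S6 ht with rfl | rfl | rfl | rfl | rfl | rfl
    · rw [one_mul, mul_one]
    · exact hed
    · exact hzd
    · rw [mul_assoc, hzd, ← mul_assoc, hed, mul_assoc]
    · rw [mul_assoc, hed, ← mul_assoc, hzd, mul_assoc]
    · rw [mul_assoc, hed, ← mul_assoc, mul_assoc e, hzd, ← mul_assoc, hed, mul_assoc, mul_assoc,
        mul_assoc]
  have hSc : ∀ t ∈ S6 e z, t * c = c * t := by
    intro t ht
    rcases mem_S6 ht with rfl | rfl | rfl | rfl | rfl | rfl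
    · rw [one_mul, mul_one]
    · exact hec
    · exact hzc
    · rw [mul_assoc, hzc, ← mul_assoc, hec, mul_assoc]
    · rw [mul_assoc, hec, ← mul_assoc, hzc, mul_assoc]
    · rw [mul_assoc, hec, ← mul_assoc, mul_assoc e, hzc, ← mul_assoc, hec, mul_assoc, mul_assoc,
        mul_assoc]
  have hcover : ∀ j < 23, j ≠ 0 → ∃ k ∈ ([1, 22] : List ℕ), ∃ m, j % 23 = (k * 2 ^ m) % 23 := by
    have h : ∀ j < 23, j ≠ 0 → ∃ k ∈ ([1, 22] : List ℕ), ∃ m < 11,
        j % 23 = (k * 2 ^ m) % 23 := by decide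
    intro j hj hj0
    obtain ⟨k, hk, m, _, hm⟩ := h j hj hj0
    exact ⟨k, hk, m, hm⟩
  have hαa : (α a) ^ 23 = 1 := by rw [← map_pow, ha, map_one]
  have hαa1 : α a ≠ 1 := fun h => ha1 (α.injective (h.trans (map_one α).symm))
  obtain ⟨g₀, k, hk, hg₀⟩ :=
    exists_conj_prime' 23 hcard hs ha ha1 hda [1, 22] hcover (α a) hαa hαa1
  -- first normalisation: the image of `a` is a power of `a`
  let β : MulAut G := (MulAut.conj g₀)⁻¹ * α
  have hβx : ∀ x, β x = g₀⁻¹ * α x * g₀ := fun x => by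
    show (MulAut.conj g₀)⁻¹ (α x) = _
    rw [MulAut.conj_inv_apply]
  have hβa : β a = a ^ k := by
    rw [hβx, ← hg₀]
    group
  have h1 : β d * β a * (β d)⁻¹ = (β a) ^ 2 := by
    rw [← map_inv, ← map_mul, ← map_mul, hda, map_pow]
  rw [hβa] at h1
  have h2 : β d * a * (β d)⁻¹ = a ^ 2 := by
    have hk' : k = 1 ∨ k = 22 := by simpa using hk
    rcases hk' with rfl | rfl
    · simpa using h1
    · have ha22 : a ^ 22 = a⁻¹ := by
        apply eq_inv_of_mul_eq_one_left
        rw [← pow_succ, ha]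
      rw [ha22] at h1
      have h3 := congrArg (·⁻¹) h1
      simp only [mul_inv_rev, inv_inv, inv_pow] at h3
      rw [← mul_assoc] at h3
      exact h3
  have hda' : d⁻¹ * a ^ 2 * d = a := by
    rw [← hda]
    group
  have hz : (d⁻¹ * β d) * a = a * (d⁻¹ * β d) := by
    have : (d⁻¹ * β d) * a * (d⁻¹ * β d)⁻¹ = a := by
      calc (d⁻¹ * β d) * a * (d⁻¹ * β d)⁻¹ = d⁻¹ * (β d * a * (β d)⁻¹) * d := by group
        _ = a := by rw [h2, hda']
    calc (d⁻¹ * β d) * a = ((d⁻¹ * β d) * a * (d⁻¹ * β d)⁻¹) * (d⁻¹ * β d) := by group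
      _ = a * (d⁻¹ * β d) := by rw [this]
  obtain ⟨i, hi⟩ := Subgroup.mem_zpowers_iff.1 (hCa _ hz)
  have hβd : β d = d * a ^ i := by
    rw [hi]
    group
  have hdai : d * a ^ i * d⁻¹ = a ^ (2 * i) := by
    have : d * a ^ i * d⁻¹ = (d * a * d⁻¹) ^ i := by
      rw [conj_zpow]
    rw [this, hda, ← zpow_natCast, ← zpow_mul]
    rfl
  -- second normalisation: the image of `d` is `d`
  let g₁ : G := a ^ (-(2 * i))
  let γ : MulAut G := (MulAut.conj g₁)⁻¹ * β
  have hγx : ∀ x, γ x = g₁⁻¹ * β x * g₁ := fun x => by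
    show (MulAut.conj g₁)⁻¹ (β x) = _
    rw [MulAut.conj_inv_apply]
  have hg₁ : g₁⁻¹ = a ^ (2 * i) := by
    show (a ^ (-(2 * i)))⁻¹ = _
    rw [zpow_neg, inv_inv]
  have hγa : γ a = a ^ k := by
    rw [hγx, hβa, hg₁]
    show a ^ (2 * i) * a ^ k * a ^ (-(2 * i)) = a ^ k
    rw [← zpow_natCast a k, ← zpow_add, ← zpow_add]
    congr 1
    ring
  have hγd : γ d = d := by
    rw [hγx, hβd, hg₁]
    show a ^ (2 * i) * (d * a ^ i) * a ^ (-(2 * i)) = d
    have e1 : a ^ (2 * i) * d = d * a ^ i := by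
      rw [← hdai]
      group
    have e2 : i + (i + -(2 * i)) = 0 := by ring
    calc a ^ (2 * i) * (d * a ^ i) * a ^ (-(2 * i))
        = (a ^ (2 * i) * d) * (a ^ i * a ^ (-(2 * i))) := by simp only [mul_assoc]
      _ = d * (a ^ i * (a ^ i * a ^ (-(2 * i)))) := by rw [e1, mul_assoc]
      _ = d := by rw [← zpow_add, ← zpow_add, e2, zpow_zero, mul_one]
  -- the image of `c`
  have h3 : γ c * d * (γ c)⁻¹ = d ^ 3 := by
    have := congrArg γ hcd
    rw [map_mul, map_mul, map_inv, map_pow, hγd] at this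
    exact this
  have hcd' : c⁻¹ * d ^ 3 * c = d := by
    rw [← hcd]
    group
  have hz2' : (c⁻¹ * γ c) * d = d * (c⁻¹ * γ c) := by
    have : (c⁻¹ * γ c) * d * (c⁻¹ * γ c)⁻¹ = d := by
      calc (c⁻¹ * γ c) * d * (c⁻¹ * γ c)⁻¹ = c⁻¹ * (γ c * d * (γ c)⁻¹) * c := by group
        _ = d := by rw [h3, hcd']
    calc (c⁻¹ * γ c) * d = ((c⁻¹ * γ c) * d * (c⁻¹ * γ c)⁻¹) * (c⁻¹ * γ c) := by group
      _ = d * (c⁻¹ * γ c) := by rw [this]
  obtain ⟨n, hn, t, ht, hdn⟩ := hCd _ hz2'
  have hγc0 : γ c = (c * d ^ n) * t := by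
    calc γ c = c * (c⁻¹ * γ c) := by group
      _ = (c * d ^ n) * t := by rw [hdn, mul_assoc]
  have hcdn : c * d ^ n * c⁻¹ = (d ^ n) ^ 3 := by
    rw [← conj_pow, hcd, ← pow_mul, ← pow_mul, mul_comm]
  have h55 : (c * d ^ n) ^ 5 = 1 :=
    pow5_of c (d ^ n) hcdn hc5 (by rw [← pow_mul, mul_comm, pow_mul, hd, one_pow])
  have hcomm : Commute (c * d ^ n) t := by
    show (c * d ^ n) * t = t * (c * d ^ n)
    have e1 : t * d ^ n = d ^ n * t := by
      have : Commute t d := hSd t ht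
      exact (this.pow_right n)
    calc (c * d ^ n) * t = c * (d ^ n * t) := mul_assoc _ _ _
      _ = c * (t * d ^ n) := by rw [e1]
      _ = (c * t) * d ^ n := (mul_assoc _ _ _).symm
      _ = (t * c) * d ^ n := by rw [hSc t ht]
      _ = t * (c * d ^ n) := mul_assoc _ _ _
  have ht5 : t ^ 5 = 1 := by
    have e : (γ c) ^ 5 = 1 := by rw [← map_pow, hc5, map_one]
    rw [hγc0, hcomm.mul_pow, h55, one_mul] at e
    exact e
  have ht1 : t = 1 := pow5_S6 he2 hz2 hez3 hez he1 hz1 t ht ht5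
  have hγc : γ c = c * d ^ n := by rw [hγc0, ht1, mul_one]
  have h6 : (a ^ k * (c * d ^ n)) ^ 6 = 1 := by
    have := congrArg γ hr1
    rw [map_pow, map_mul, map_one, hγa, hγc] at this
    exact this
  have h5 : (a ^ k * (c * d ^ n) ^ 2) ^ 5 = 1 := by
    have := congrArg γ hr2
    rw [map_pow, map_mul, map_pow, map_one, hγa, hγc] at this
    exact this
  obtain ⟨rfl, rfl⟩ := hpin k hk n hn h6 h5
  rw [pow_one] at hγa
  rw [pow_zero, mul_one] at hγc
  -- elements commuting with `d` and `c` are mapped into `S`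
  have hS : ∀ x : G, x * d = d * x → x * c = c * x → γ x ∈ S6 e z := by
    intro x hxd hxc
    have k1 : γ x * d = d * γ x := by
      have := congrArg γ hxd
      rw [map_mul, map_mul, hγd] at this
      exact this
    have k2 : γ x * c = c * γ x := by
      have := congrArg γ hxc
      rw [map_mul, map_mul, hγc] at this
      exact this
    obtain ⟨m, _, u, hu, hxu⟩ := hCd _ k1
    have k3 : d ^ m * c = c * d ^ m := by
      have e1 : d ^ m = γ x * u⁻¹ := by rw [hxu]; group
      have e2 : u⁻¹ * c = c * u⁻¹ := by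
        have := hSc u hu
        calc u⁻¹ * c = u⁻¹ * (c * u) * u⁻¹ := by group
          _ = u⁻¹ * (u * c) * u⁻¹ := by rw [this]
          _ = c * u⁻¹ := by group
      rw [e1, mul_assoc, e2, ← mul_assoc, k2, mul_assoc]
    rw [hxu, pow_eq_one_of_comm c d hd hcd m k3, one_mul]
    exact hu
  -- the image of `e`
  have hγe : γ e = e := by
    have m1 := hS e hed hec
    have m2 : γ e * γ e = 1 := by rw [← map_mul, he2, map_one]
    have m3 : γ e ≠ 1 := fun h => he1 (γ.injective (h.trans (map_one γ).symm))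
    have m4 : γ e * (a * γ e * a⁻¹) = (a * γ e * a⁻¹) * γ e := by
      have := congrArg γ hea
      simp only [map_mul, map_inv, hγa] at this
      exact this
    rcases invol_S6 he2 hz2 hez3 hez _ m1 m2 m3 with h | h | h
    · exact h
    · rw [h] at m4
      exact absurd m4 hnz
    · rw [h] at m4
      exact absurd m4 hnw
  -- the image of `z`
  have hγz : γ z = z := by
    have m1 := hS z hzd hzc
    have m2 : γ z * γ z = 1 := by rw [← map_mul, hz2, map_one]
    have m3 : γ z ≠ 1 := fun h => hz1 (γ.injective (h.trans (map_one γ).symm))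
    have m4 : (a * γ z) ^ 12 = 1 := by
      have := congrArg γ haz
      rw [map_pow, map_mul, map_one, hγa] at this
      exact this
    rcases invol_S6 he2 hz2 hez3 hez _ m1 m2 m3 with h | h | h
    · exfalso
      apply hez
      apply γ.injective
      rw [hγe, h]
    · exact h
    · rw [h] at m4
      exact absurd m4 hnaz
  -- the image of `b`
  have hγb : γ b = b := by
    have h3 : γ b * d * (γ b)⁻¹ = d⁻¹ := by
      have := congrArg γ hbd
      rw [map_mul, map_mul, map_inv, map_inv, hγd] at this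
      exact this
    have hbd' : b⁻¹ * d⁻¹ * b = d := by
      rw [← hbd]
      group
    have hzb : (b⁻¹ * γ b) * d = d * (b⁻¹ * γ b) := by
      have : (b⁻¹ * γ b) * d * (b⁻¹ * γ b)⁻¹ = d := by
        calc (b⁻¹ * γ b) * d * (b⁻¹ * γ b)⁻¹ = b⁻¹ * (γ b * d * (γ b)⁻¹) * b := by group
          _ = d := by rw [h3, hbd']
      calc (b⁻¹ * γ b) * d = ((b⁻¹ * γ b) * d * (b⁻¹ * γ b)⁻¹) * (b⁻¹ * γ b) := by group
        _ = d * (b⁻¹ * γ b) := by rw [this]
    have hzc' : (b⁻¹ * γ b) * c = c * (b⁻¹ * γ b) := by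
      have k2 : γ b * c = c * γ b := by
        have := congrArg γ hbc
        rw [map_mul, map_mul, hγc] at this
        exact this
      have k3 : b⁻¹ * c = c * b⁻¹ := by
        calc b⁻¹ * c = b⁻¹ * (c * b) * b⁻¹ := by group
          _ = b⁻¹ * (b * c) * b⁻¹ := by rw [hbc]
          _ = c * b⁻¹ := by group
      rw [mul_assoc, k2, ← mul_assoc, k3, mul_assoc]
    obtain ⟨m, _, u, hu, hxu⟩ := hCd _ hzb
    have k3 : d ^ m * c = c * d ^ m := by
      have e1 : d ^ m = (b⁻¹ * γ b) * u⁻¹ := by rw [hxu]; group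
      have e2 : u⁻¹ * c = c * u⁻¹ := by
        have := hSc u hu
        calc u⁻¹ * c = u⁻¹ * (c * u) * u⁻¹ := by group
          _ = u⁻¹ * (u * c) * u⁻¹ := by rw [this]
          _ = c * u⁻¹ := by group
      rw [e1, mul_assoc, e2, ← mul_assoc, hzc', mul_assoc]
    rw [pow_eq_one_of_comm c d hd hcd m k3, one_mul] at hxu
    have hγbu : γ b = b * u := by rw [← hxu]; group
    -- `u` commutes with `e` and `z`
    have c1 : u * e = e * u := by
      have := congrArg γ hbe
      rw [map_mul, map_mul, hγe, hγbu] at this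
      -- `b u e = e b u = b e u`
      have e3 : b * (u * e) = b * (e * u) := by
        rw [← mul_assoc, this, ← mul_assoc, ← hbe, mul_assoc]
      exact mul_left_cancel e3
    have c2 : u * z = z * u := by
      have := congrArg γ hbz
      rw [map_mul, map_mul, map_mul, map_mul, hγe, hγz, hγbu] at this
      -- `b u z = e z e b u = b z u`
      have e3 : b * (u * z) = b * (z * u) := by
        rw [← mul_assoc, this, ← mul_assoc, ← hbz, mul_assoc]
      exact mul_left_cancel e3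
    rw [hγbu, center_S6 he2 hz2 hez3 hez u hu c1 c2, mul_one]
  have hαγ : ∀ x, α x = (g₀ * g₁) * γ x * (g₀ * g₁)⁻¹ := by
    intro x
    rw [hγx, hβx]
    group
  refine ⟨g₀ * g₁, ?_, ?_, ?_, ?_, ?_, ?_⟩
  · rw [hαγ, hγa]
  · rw [hαγ, hγd]
  · rw [hαγ, hγc]
  · rw [hαγ, hγb]
  · rw [hαγ, hγe]
  · rw [hαγ, hγz]

end norm

/-! ### normalisers -/

/-- The normaliser of `⟨d⟩` lies in any subgroup containing `c`, `w` and the centraliser of
`d`. -/
theorem normalizer_le_of' {G : Type*} [Group G] (d c w : G) (hd : d ^ 11 = 1)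
    (hcd : c * d * c⁻¹ = d ^ 3) (hwd : w * d * w⁻¹ = d⁻¹)
    (K : Subgroup G) (hCd : ∀ g : G, g * d = d * g → g ∈ K) (hcK : c ∈ K) (hwK : w ∈ K) :
    Subgroup.normalizer (Subgroup.zpowers d : Set G) ≤ K := by
  intro g hg
  have hgd : g * d * g⁻¹ ∈ Subgroup.zpowers d :=
    (Subgroup.mem_normalizer_iff.mp hg d).mp (Subgroup.mem_zpowers d)
  obtain ⟨k, hk, hdk⟩ := exists_pow_lt hd hgd
  have hwd10 : w * d * w⁻¹ = d ^ 10 := by
    rw [hwd]
    apply inv_eq_of_mul_eq_one_left
    rw [← pow_succ, hd]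
  by_cases hk0 : k = 0
  · -- then `d = 1`
    rw [hk0, pow_zero] at hdk
    have hd1 : d = 1 := by
      have : g * d * g⁻¹ = 1 := hdk.symm
      calc d = g⁻¹ * (g * d * g⁻¹) * g := by group
        _ = 1 := by rw [this]; group
    apply hCd
    rw [hd1, mul_one, one_mul]
  · obtain ⟨i, _, j, _, hij⟩ := cover11 k hk hk0
    set n : G := c ^ i * w ^ j with hn
    have hnK : n ∈ K := K.mul_mem (K.pow_mem hcK i) (K.pow_mem hwK j)
    have hnd : n * d * n⁻¹ = d ^ k := by
      have e1 : w ^ j * d * (w ^ j)⁻¹ = d ^ (10 ^ j) := by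
        have := conj_pow_of hwd10 j 1
        rw [pow_one, one_mul] at this
        exact this
      have e2 : c ^ i * d ^ (10 ^ j) * (c ^ i)⁻¹ = d ^ (10 ^ j * 3 ^ i) := conj_pow_of hcd i (10 ^ j)
      have e3 : n * d * n⁻¹ = c ^ i * (w ^ j * d * (w ^ j)⁻¹) * (c ^ i)⁻¹ := by
        rw [hn]; group
      rw [e3, e1, e2, ← pow_mod_orderOf d (10 ^ j * 3 ^ i), ← pow_mod_orderOf d k]
      have hod : orderOf d ∣ 11 := orderOf_dvd_of_pow_eq_one hd
      have hmod : (10 ^ j * 3 ^ i) % orderOf d = k % orderOf d := by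
        have h1 : (10 ^ j * 3 ^ i) % 11 % orderOf d = (10 ^ j * 3 ^ i) % orderOf d :=
          Nat.mod_mod_of_dvd _ hod
        rw [← h1, hij]
      rw [hmod]
    have hcomm : (n⁻¹ * g) * d = d * (n⁻¹ * g) := by
      have : (n⁻¹ * g) * d * (n⁻¹ * g)⁻¹ = d := by
        calc (n⁻¹ * g) * d * (n⁻¹ * g)⁻¹ = n⁻¹ * (g * d * g⁻¹) * n := by group
          _ = n⁻¹ * (n * d * n⁻¹) * n := by rw [← hdk, hnd]
          _ = d := by group
      calc (n⁻¹ * g) * d = ((n⁻¹ * g) * d * (n⁻¹ * g)⁻¹) * (n⁻¹ * g) := by group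
        _ = d * (n⁻¹ * g) := by rw [this]
    have hmem : n⁻¹ * g ∈ K := hCd _ hcomm
    have : g = n * (n⁻¹ * g) := by group
    rw [this]
    exact K.mul_mem hnK hmem

/-! ### the order argument -/

theorem divisors_table : ∀ j < 389, j ≠ 0 → 98280 % (253 * j + 1) ≠ 0 := by
  decide +kernel

theorem divisors_cases (m : ℕ) (hm : m ∣ 98280) (h23 : m % 23 = 1) (h11 : m % 11 = 1) : m = 1 := by
  have hle : m ≤ 98280 := Nat.le_of_dvd (by norm_num) hm
  have h253 : m % 253 = 1 := by omega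
  by_contra hne
  have hj : m = 253 * (m / 253) + 1 := by omega
  have hj1 : m / 253 < 389 := by omega
  have hj0 : m / 253 ≠ 0 := by omega
  have := divisors_table (m / 253) hj1 hj0
  rw [← hj] at this
  exact this (Nat.mod_eq_zero_of_dvd hm)

/-- A subgroup of a group of order `4157776806543360000` of index congruent to `1` modulo `23` and
`11` containing a subgroup of order `42305421312000` is the whole group. -/
theorem eq_top_of_index1 {G : Type*} [Group G] [Finite G] (K : Subgroup G)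
    (hcard : Nat.card G = 4157776806543360000)
    (h23 : K.index ≡ 1 [MOD 23]) (h11 : K.index ≡ 1 [MOD 11])
    (H : Subgroup G) (h1 : H ≤ K) (c1 : Nat.card H = 42305421312000) : K = ⊤ := by
  have d1 : 42305421312000 ∣ Nat.card K := by
    rw [← c1]; exact Subgroup.card_dvd_of_le h1
  obtain ⟨t, ht⟩ := d1
  have hmul := K.card_mul_index
  rw [hcard, ht] at hmul
  have hdiv : K.index ∣ 98280 := by
    refine ⟨t, ?_⟩
    have : 42305421312000 * (t * K.index) = 42305421312000 * 98280 := by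
      rw [← mul_assoc, hmul]
    have := Nat.eq_of_mul_eq_mul_left (by norm_num) this
    rw [← this, mul_comm]
  have hidx := divisors_cases K.index hdiv h23 h11
  exact Subgroup.index_eq_one.mp hidx

end Cfsg.Agent.Lib.Helper92_OutNorm3
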