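import Cfsg.Agent.Lib.Helper7_Xi
import Cfsg.Agent.Lib.Helper7_Mono

/-!
Automorphisms of the rank-24 lattice given by an integer matrix `B` with `Bᵀ B = 16`, mapping the
lattice into four times itself (the automorphism is `B / 4`).  Generalises the construction of
`ξ` in `Helper7_Xi` (a matrix with `A A = 4`).
-/

set_option autoImplicit false
open Cfsg

namespace Cfsg.Agent.Lib.Helper92_QuadAut

open Cfsg.Agent.Lib.Helper7_M24 Cfsg.Agent.Lib.Helper7_Leech Cfsg.Agent.Lib.Helper92_LeechParity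
  Cfsg.Agent.Lib.Helper92_Monomial Cfsg.Agent.S0393 Cfsg.Agent.S0358
  Cfsg.Agent.Lib.Helper7_LeechGen Cfsg.Agent.Lib.Helper7_Bits Cfsg.Agent.Lib.Helper7_Xi
open Cfsg.Agent.S5546 (Lam)

/-- `4 x`. -/
def quad : (GolayPt → ℤ) →+ (GolayPt → ℤ) := dbl.comp dbl

theorem quad_apply (x : GolayPt → ℤ) (i : GolayPt) : quad x i = 4 * x i := by
  show dbl (dbl x) i = 4 * x i
  rw [dbl_apply, dbl_apply]; ring

theorem quad_injective : Function.Injective quad := by
  intro x y h
  exact dbl_injective (dbl_injective h)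

/-- Multiplication by a matrix. -/
def mulB (B : Matrix GolayPt GolayPt ℤ) : (GolayPt → ℤ) →+ (GolayPt → ℤ) :=
  AddMonoidHom.mk' (fun x => B.mulVec x) (fun a b => Matrix.mulVec_add B a b)

theorem mulB_apply (B : Matrix GolayPt GolayPt ℤ) (x : GolayPt → ℤ) : mulB B x = B.mulVec x := rfl

/-- The condition checked for each generator `g`: `B g = 4 y` with `y` in the lattice. -/
def GenOK4 (B : Matrix GolayPt GolayPt ℤ) (g y : GolayPt → ℤ) (m : ℕ) : Prop :=
  (∀ p, B.mulVec g p = 4 * y p) ∧ LeechCert y m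

instance (B : Matrix GolayPt GolayPt ℤ) (g y : GolayPt → ℤ) (m : ℕ) :
    Decidable (GenOK4 B g y m) := by
  unfold GenOK4
  infer_instance

theorem mem_of_genOK4 (B : Matrix GolayPt GolayPt ℤ) (g y : GolayPt → ℤ) (m : ℕ)
    (h : GenOK4 B g y m) : mulB B g ∈ leechLattice.map quad := by
  refine ⟨y, mem_of_cert y m h.2, ?_⟩
  funext p
  rw [quad_apply, mulB_apply, h.1 p]

/-- `B` maps the lattice into four times the lattice. -/
def Maps (B : Matrix GolayPt GolayPt ℤ) : Prop :=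
  ∀ x ∈ leechLattice, mulB B x ∈ leechLattice.map quad

theorem maps_of_gens (B : Matrix GolayPt GolayPt ℤ)
    (h0 : mulB B u0 ∈ leechLattice.map quad)
    (h1 : ∀ k : Fin 12, mulB B (twoInd (bvec k)) ∈ leechLattice.map quad)
    (h2 : ∀ i, mulB B (eDiff i) ∈ leechLattice.map quad)
    (h3 : mulB B e8 ∈ leechLattice.map quad) : Maps B := fun x hx =>
  le_of_gens ((leechLattice.map quad).comap (mulB B)) h0 h1 h2 h3 hx

/-- The generators as explicit lists. -/
def gU : List ℤ := [1, 1, 1, 1, 1, 1, 1, 1, 1, 1, 1, 1, 1, 1, 1, 1, 1, 1, 1, 1, 1, 1, 1, -3]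

/-- The tables of a certificate: the images of the 38 generators, divided by 4, with the masks of
their code words. -/
structure Tables where
  yU : List ℤ
  mU : ℕ
  yB : List (List ℤ)
  mB : List ℕ
  yE : List (List ℤ)
  mE : List ℕ
  y8 : List ℤ
  m8 : ℕ

/-- The certificate that `B` maps the generators as in the tables. -/
def TablesOK (B : Matrix GolayPt GolayPt ℤ) (T : Tables) : Prop :=
  GenOK4 B (vecL gU) (vecL T.yU) T.mU ∧
  (∀ k : Fin 12, GenOK4 B (vecL (gB.getD k.val [])) (vecL (T.yB.getD k.val [])) (T.mB.getD k.val 0)) ∧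
  (∀ i : GolayPt, GenOK4 B (eDiff i) (vecL (T.yE.getD (enc i) [])) (T.mE.getD (enc i) 0)) ∧
  GenOK4 B e8 (vecL T.y8) T.m8

instance (B : Matrix GolayPt GolayPt ℤ) (T : Tables) : Decidable (TablesOK B T) := by
  unfold TablesOK
  infer_instance

theorem maps_of_tables (B : Matrix GolayPt GolayPt ℤ) (T : Tables) (h : TablesOK B T) : Maps B := by
  obtain ⟨hU, hB, hE, h8⟩ := h
  apply maps_of_gens
  · rw [u0_eq]
    exact mem_of_genOK4 B _ _ _ hU
  · intro k
    rw [show twoInd (bvec k) = vecL (gB.getD k.val []) from funext (gB_eq k)]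
    exact mem_of_genOK4 B _ _ _ (hB k)
  · intro i
    exact mem_of_genOK4 B _ _ _ (hE i)
  · exact mem_of_genOK4 B _ _ _ h8

/-! ### The automorphism -/

/-- Division by 4. -/
def quarter (z : GolayPt → ℤ) : GolayPt → ℤ := fun i => z i / 4

theorem quarter_quad (y : GolayPt → ℤ) : quarter (quad y) = y := by
  funext i
  unfold quarter
  rw [quad_apply]
  omega

/-- The underlying function. -/
def autF (B : Matrix GolayPt GolayPt ℤ) (x : GolayPt → ℤ) : GolayPt → ℤ := quarter (mulB B x)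

theorem autF_spec (B : Matrix GolayPt GolayPt ℤ) (hM : Maps B) (x : GolayPt → ℤ)
    (hx : x ∈ leechLattice) : autF B x ∈ leechLattice ∧ quad (autF B x) = mulB B x := by
  obtain ⟨y, hy, hyx⟩ := hM x hx
  have : autF B x = y := by
    unfold autF
    rw [← hyx, quarter_quad]
  rw [this]
  exact ⟨hy, hyx⟩

theorem mulB_quad (B : Matrix GolayPt GolayPt ℤ) (y : GolayPt → ℤ) :
    mulB B (quad y) = quad (mulB B y) := by
  have h : ∀ w : GolayPt → ℤ, quad w = w + w + (w + w) := by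
    intro w
    funext i
    rw [quad_apply, Pi.add_apply, Pi.add_apply]; ring
  rw [h y, map_add, map_add, h (mulB B y)]

section pair

variable (B B' : Matrix GolayPt GolayPt ℤ)

theorem mulB_mulB (h1 : B' * B = (16 : ℤ) • (1 : Matrix GolayPt GolayPt ℤ)) (x : GolayPt → ℤ) :
    mulB B' (mulB B x) = quad (quad x) := by
  rw [mulB_apply, mulB_apply, Matrix.mulVec_mulVec, h1, Matrix.smul_mulVec, Matrix.one_mulVec]
  funext i
  rw [quad_apply, quad_apply, Pi.smul_apply, smul_eq_mul]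
  ring

theorem autF_autF (h1 : B' * B = (16 : ℤ) • (1 : Matrix GolayPt GolayPt ℤ)) (hM : Maps B)
    (hM' : Maps B') (x : GolayPt → ℤ) (hx : x ∈ leechLattice) : autF B' (autF B x) = x := by
  obtain ⟨k1, k2⟩ := autF_spec B hM x hx
  obtain ⟨_, k4⟩ := autF_spec B' hM' (autF B x) k1
  apply quad_injective
  apply quad_injective
  rw [k4, ← mulB_quad, k2, mulB_mulB B B' h1]

theorem sqNorm_mulB (ht : B' = B.transpose)
    (h1 : B' * B = (16 : ℤ) • (1 : Matrix GolayPt GolayPt ℤ)) (x : GolayPt → ℤ) :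
    sqNorm (mulB B x) = 16 * sqNorm x := by
  rw [sqNorm_eq_dot, sqNorm_eq_dot, mulB_apply]
  have e1 : B.mulVec x = Matrix.vecMul x B' := by
    rw [ht, Matrix.vecMul_transpose]
  have e2 : dotProduct (B.mulVec x) (B.mulVec x) = dotProduct x (B'.mulVec (B.mulVec x)) := by
    nth_rewrite 1 [e1]
    rw [← Matrix.dotProduct_mulVec]
  rw [e2, Matrix.mulVec_mulVec, h1, Matrix.smul_mulVec, Matrix.one_mulVec]
  unfold dotProduct
  rw [Finset.mul_sum]
  apply Finset.sum_congr rfl
  intro i _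
  rw [Pi.smul_apply, smul_eq_mul]
  ring

theorem sqNorm_quad (x : GolayPt → ℤ) : sqNorm (quad x) = 16 * sqNorm x := by
  show sqNorm (dbl (dbl x)) = 16 * sqNorm x
  rw [sqNorm_dbl, sqNorm_dbl]; ring

/-- The automorphism `B / 4` of the lattice. -/
def aut (h1 : B' * B = (16 : ℤ) • (1 : Matrix GolayPt GolayPt ℤ))
    (h2 : B * B' = (16 : ℤ) • (1 : Matrix GolayPt GolayPt ℤ)) (hM : Maps B) (hM' : Maps B') :
    Equiv.Perm leechLattice where
  toFun v := ⟨autF B v.1, (autF_spec B hM v.1 v.2).1⟩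
  invFun v := ⟨autF B' v.1, (autF_spec B' hM' v.1 v.2).1⟩
  left_inv v := Subtype.ext (autF_autF B B' h1 hM hM' v.1 v.2)
  right_inv v := Subtype.ext (autF_autF B' B h2 hM' hM v.1 v.2)

theorem aut_mem_Co0 (ht : B' = B.transpose)
    (h1 : B' * B = (16 : ℤ) • (1 : Matrix GolayPt GolayPt ℤ))
    (h2 : B * B' = (16 : ℤ) • (1 : Matrix GolayPt GolayPt ℤ)) (hM : Maps B) (hM' : Maps B') :
    aut B B' h1 h2 hM hM' ∈ Co0 := by
  constructor
  · intro v w
    apply Subtype.ext
    apply quad_injective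
    show quad (autF B (v.1 + w.1)) = quad (autF B v.1 + autF B w.1)
    rw [map_add, (autF_spec B hM _ (leechLattice.add_mem v.2 w.2)).2, (autF_spec B hM _ v.2).2,
      (autF_spec B hM _ w.2).2, map_add]
  · intro v
    have k1 := sqNorm_quad (autF B v.1)
    rw [(autF_spec B hM _ v.2).2, sqNorm_mulB B B' ht h1] at k1
    show sqNorm (autF B v.1) = sqNorm v.1
    omega

/-- The automorphism, as an element of the group. -/
def autE (ht : B' = B.transpose)
    (h1 : B' * B = (16 : ℤ) • (1 : Matrix GolayPt GolayPt ℤ))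
    (h2 : B * B' = (16 : ℤ) • (1 : Matrix GolayPt GolayPt ℤ)) (hM : Maps B) (hM' : Maps B') :
    ↥Co0 := ⟨aut B B' h1 h2 hM hM', aut_mem_Co0 B B' ht h1 h2 hM hM'⟩

theorem quad_autE (ht : B' = B.transpose)
    (h1 : B' * B = (16 : ℤ) • (1 : Matrix GolayPt GolayPt ℤ))
    (h2 : B * B' = (16 : ℤ) • (1 : Matrix GolayPt GolayPt ℤ)) (hM : Maps B) (hM' : Maps B')
    (v : Lam) : quad ((autE B B' ht h1 h2 hM hM' • v : Lam) : GolayPt → ℤ) = B.mulVec v.1 :=
  (autF_spec B hM v.1 v.2).2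

/-- Explicit description: if `B x = 4 y` then the automorphism maps `x` to `y`. -/
theorem autE_eq_of (ht : B' = B.transpose)
    (h1 : B' * B = (16 : ℤ) • (1 : Matrix GolayPt GolayPt ℤ))
    (h2 : B * B' = (16 : ℤ) • (1 : Matrix GolayPt GolayPt ℤ)) (hM : Maps B) (hM' : Maps B')
    (v : Lam) (y : GolayPt → ℤ) (h : ∀ p, B.mulVec v.1 p = 4 * y p) :
    ((autE B B' ht h1 h2 hM hM' • v : Lam) : GolayPt → ℤ) = y := by
  apply quad_injective
  rw [quad_autE]
  funext p
  rw [h p, quad_apply]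

end pair

end Cfsg.Agent.Lib.Helper92_QuadAut
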