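import Cfsg.Agent.Lib.Helper92_LeechMod2
import Cfsg.Agent.S0400

/-!
Uniqueness of the invariant quadratic form on the rank-24 lattice modulo twice the lattice,
assuming transitivity of the automorphism group on the vectors of sum of squares 48 and on the
classes of the vectors of sum of squares 64.
-/

set_option autoImplicit false
open Cfsg

namespace Cfsg.Agent.Lib.Helper92_QuadForm

open Cfsg.Agent.Lib.Helper7_M24 Cfsg.Agent.Lib.Helper7_Leech Cfsg.Agent.Lib.Helper92_LeechMod2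
open Cfsg.Agent.Lib.Helper7_Bits
open Cfsg.Agent.S0394 (sgn fO)

abbrev Lam : Type := ↥leechLattice

/-! ### explicit vectors -/

/-- `4 e_0 + 4 e_1`. -/
def v0 : GolayPt → ℤ := sgn 4 {dec 0, dec 1} ∅

/-- `-4 e_0 + 4 e_5`. -/
def w0 : GolayPt → ℤ := sgn 4 {dec 0, dec 5} {dec 0}

/-- An odd vector with coordinates `1, 1, 3` at the points `0, 1, 5`. -/
def u1 : GolayPt → ℤ := fO (dec 5) (toWord 5279)

/-- An odd vector with coordinates `1, 1, -1` at the points `0, 1, 5`. -/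
def u2 : GolayPt → ℤ := fO (dec 6) (toWord 5279)

theorem v0_mem : v0 ∈ leechLattice :=
  (mem_leechLattice_iff _).mpr
    (Cfsg.Agent.S0394.sgn_four_mem _ _ (by decide) (Finset.empty_subset _))

theorem w0_mem : w0 ∈ leechLattice :=
  (mem_leechLattice_iff _).mpr (Cfsg.Agent.S0394.sgn_four_mem _ _ (by decide) (by decide))

theorem code_mem : toWord 5279 ∈ golayCode := toWord_mem_of_inCode (by decide +kernel)

theorem u1_mem : u1 ∈ leechLattice :=
  (mem_leechLattice_iff _).mpr (Cfsg.Agent.S0394.fO_mem _ _ code_mem)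

theorem u2_mem : u2 ∈ leechLattice :=
  (mem_leechLattice_iff _).mpr (Cfsg.Agent.S0394.fO_mem _ _ code_mem)

theorem n_v0 : sqNorm v0 = 32 := by decide +kernel
theorem n_w0 : sqNorm w0 = 32 := by decide +kernel
theorem n_vw : sqNorm (v0 + w0) = 32 := by decide +kernel
theorem n_u1 : sqNorm u1 = 32 := by decide +kernel
theorem n_u2 : sqNorm u2 = 32 := by decide +kernel
theorem n_u1_v : sqNorm (u1 - v0) = 48 := by decide +kernel
theorem n_u1_w : sqNorm (u1 - w0) = 48 := by decide +kernel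
theorem n_u1_vw : sqNorm (u1 - (v0 + w0)) = 32 := by decide +kernel
theorem n_u2_v : sqNorm (u2 - v0) = 48 := by decide +kernel
theorem n_u2_w : sqNorm (u2 + w0) = 48 := by decide +kernel
theorem n_u2_vw : sqNorm (u2 + (v0 + w0)) = 64 := by decide +kernel

/-! ### the reduced squared length is constant on classes -/

/-- The candidate form: the sum of squares divided by 16, modulo 2. -/
def q0 (v : Lam) : ZMod 2 := ((sqNorm (v : GolayPt → ℤ) / 16 : ℤ) : ZMod 2)

theorem q0_congr (v y : Lam) (h : ∃ z ∈ leechLattice, (v : GolayPt → ℤ) - y = 2 • z) :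
    q0 v = q0 y := by
  obtain ⟨z, hz, hvy⟩ := h
  have hv : (v : GolayPt → ℤ) = y + 2 • z := by rw [← hvy]; abel
  have h1 := Cfsg.Agent.Lib.Helper92_Monomial.sqNorm_add' (y : GolayPt → ℤ) (2 • z)
  rw [← hv, Cfsg.Agent.S5551.sqNorm_two_smul] at h1
  have h2 : dotInt (y : GolayPt → ℤ) (2 • z) = 2 * dotInt (y : GolayPt → ℤ) z := by
    unfold dotInt
    rw [Finset.mul_sum]
    apply Finset.sum_congr rfl
    intro i _
    rw [Pi.smul_apply, two_nsmul]; ring
  obtain ⟨a, ha⟩ := Cfsg.Agent.S0392.result z hz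
  obtain ⟨b, hb⟩ := Cfsg.Agent.Lib.Helper92_Monomial.eight_dvd_dot y z y.2 hz
  obtain ⟨c, hc⟩ := Cfsg.Agent.S0392.result y y.2
  rw [h2, ha, hb, hc] at h1
  unfold q0
  rw [h1, hc]
  have e1 : (16 * c + 4 * (16 * a) + 2 * (2 * (8 * b))) / 16 = c + 2 * (2 * a + b) := by omega
  have e2 : 16 * c / 16 = c := by omega
  rw [e1, e2]
  push_cast
  have : (2 : ZMod 2) = 0 := by decide
  rw [this, zero_mul, add_zero]

/-! ### the main argument -/

section main

variable (Q : Lam → ZMod 2)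
  (hcoset : ∀ v w : Lam, Q (v + (w + w)) = Q v)
  (hquad : ∀ u v w : Lam, Q (u + v + w) + Q u + Q v + Q w = Q (u + v) + Q (u + w) + Q (v + w))
  (hinv : ∀ (g : ↥Co0) (v : Lam), Q (g • v) = Q v)
  (h48 : ∀ v w : Lam, sqNorm (v : GolayPt → ℤ) = 48 → sqNorm (w : GolayPt → ℤ) = 48 →
    ∃ g : ↥Co0, g • v = w)
  (h64 : ∀ v w : Lam, sqNorm (v : GolayPt → ℤ) = 64 → sqNorm (w : GolayPt → ℤ) = 64 →
    ∃ g : ↥Co0, ∃ z ∈ leechLattice, ((g • v : Lam) : GolayPt → ℤ) - (w : GolayPt → ℤ) = 2 • z)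

include hcoset in
theorem Q_congr (v y : Lam) (h : ∃ z ∈ leechLattice, (v : GolayPt → ℤ) - y = 2 • z) :
    Q v = Q y := by
  obtain ⟨z, hz, hvy⟩ := h
  have hv : v = y + (⟨z, hz⟩ + ⟨z, hz⟩) := by
    apply Subtype.ext
    show (v : GolayPt → ℤ) = (y : GolayPt → ℤ) + (z + z)
    rw [← two_smul ℕ z, ← hvy]
    abel
  rw [hv, hcoset]

include hquad in
theorem Q_zero : Q 0 = 0 := by
  have h := hquad 0 0 0
  simp only [add_zero] at h
  have h2 : ∀ a : ZMod 2, a + a + a + a = a + a + a → a = 0 := by decide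
  exact h2 _ h

include hinv in
theorem const32 (x y : Lam) (hx : sqNorm (x : GolayPt → ℤ) = 32)
    (hy : sqNorm (y : GolayPt → ℤ) = 32) : Q x = Q y := by
  obtain ⟨g, hg⟩ := Cfsg.Agent.S0400.result x y hx hy
  rw [← hg, hinv]

include hinv h48 in
theorem const48 (x y : Lam) (hx : sqNorm (x : GolayPt → ℤ) = 48)
    (hy : sqNorm (y : GolayPt → ℤ) = 48) : Q x = Q y := by
  obtain ⟨g, hg⟩ := h48 x y hx hy
  rw [← hg, hinv]

include hcoset hinv h64 in
theorem const64 (x y : Lam) (hx : sqNorm (x : GolayPt → ℤ) = 64)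
    (hy : sqNorm (y : GolayPt → ℤ) = 64) : Q x = Q y := by
  obtain ⟨g, z, hz, hg⟩ := h64 x y hx hy
  rw [← hinv g x]
  exact Q_congr Q hcoset (g • x) y ⟨z, hz, hg⟩

/-- The explicit vectors, as elements of the lattice. -/
def V0 : Lam := ⟨v0, v0_mem⟩
def W0 : Lam := ⟨w0, w0_mem⟩
def U1 : Lam := ⟨u1, u1_mem⟩
def U2 : Lam := ⟨u2, u2_mem⟩

include hcoset hquad hinv h48 in
/-- The form vanishes on the vectors of sum of squares 32. -/
theorem Q32 (x : Lam) (hx : sqNorm (x : GolayPt → ℤ) = 32) : Q x = 0 := by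
  have hq := hquad U1 V0 W0
  -- the four values on minimal vectors agree
  have a1 : Q U1 = Q x := const32 Q hinv U1 x n_u1 hx
  have a2 : Q V0 = Q x := const32 Q hinv V0 x n_v0 hx
  have a3 : Q W0 = Q x := const32 Q hinv W0 x n_w0 hx
  have a4 : Q (V0 + W0) = Q x := const32 Q hinv (V0 + W0) x n_vw hx
  -- the values on the sums
  have b1 : Q (U1 + V0) = Q (U1 - V0) := by
    apply Q_congr Q hcoset
    refine ⟨v0, v0_mem, ?_⟩
    show u1 + v0 - (u1 - v0) = 2 • v0
    rw [two_smul]; abel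
  have b2 : Q (U1 + W0) = Q (U1 - W0) := by
    apply Q_congr Q hcoset
    refine ⟨w0, w0_mem, ?_⟩
    show u1 + w0 - (u1 - w0) = 2 • w0
    rw [two_smul]; abel
  have b3 : Q (U1 + V0 + W0) = Q (U1 - (V0 + W0)) := by
    apply Q_congr Q hcoset
    refine ⟨v0 + w0, leechLattice.add_mem v0_mem w0_mem, ?_⟩
    show u1 + v0 + w0 - (u1 - (v0 + w0)) = 2 • (v0 + w0)
    rw [two_smul]; abel
  have c1 : Q (U1 - V0) = Q (U1 - W0) := const48 Q hinv h48 _ _ n_u1_v n_u1_w
  have c2 : Q (U1 - (V0 + W0)) = Q x := const32 Q hinv _ x n_u1_vw hx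
  rw [b1, b2, b3, c1, c2, a1, a2, a3, a4] at hq
  have h2 : ∀ a b : ZMod 2, a + a + a + a = b + b + a → a = 0 := by decide
  exact h2 _ _ hq

include hcoset hquad hinv h48 h64 in
/-- The form vanishes on the vectors of sum of squares 64. -/
theorem Q64 (x : Lam) (hx : sqNorm (x : GolayPt → ℤ) = 64) : Q x = 0 := by
  have hq := hquad U2 V0 W0
  have a1 : Q U2 = 0 := Q32 Q hcoset hquad hinv h48 U2 n_u2
  have a2 : Q V0 = 0 := Q32 Q hcoset hquad hinv h48 V0 n_v0
  have a3 : Q W0 = 0 := Q32 Q hcoset hquad hinv h48 W0 n_w0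
  have a4 : Q (V0 + W0) = 0 := Q32 Q hcoset hquad hinv h48 (V0 + W0) n_vw
  have b1 : Q (U2 + V0) = Q (U2 - V0) := by
    apply Q_congr Q hcoset
    refine ⟨v0, v0_mem, ?_⟩
    show u2 + v0 - (u2 - v0) = 2 • v0
    rw [two_smul]; abel
  have c1 : Q (U2 - V0) = Q (U2 + W0) := const48 Q hinv h48 _ _ n_u2_v n_u2_w
  have c2 : Q (U2 + V0 + W0) = Q x := by
    apply const64 Q hcoset hinv h64 _ x _ hx
    show sqNorm (u2 + v0 + w0) = 64
    rw [add_assoc]; exact n_u2_vw
  rw [b1, c1, c2, a1, a2, a3, a4] at hq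
  have h2 : ∀ a b : ZMod 2, a + 0 + 0 + 0 = b + b + 0 → a = 0 := by decide
  exact h2 _ _ hq

include hcoset hquad hinv h48 h64 in
/-- A nonzero invariant quadratic form is the reduced squared length. -/
theorem unique (hne : ∃ v : Lam, Q v ≠ 0) (v : Lam) : Q v = q0 v := by
  -- the value on the vectors of sum of squares 48
  have hshort : ∀ x : Lam, ∃ y : Lam, sqNorm (y : GolayPt → ℤ) ≤ 64 ∧ Q x = Q y ∧ q0 x = q0 y := by
    intro x
    obtain ⟨y, hy, hyn, hc⟩ := exists_short x x.2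
    exact ⟨⟨y, hy⟩, hyn, Q_congr Q hcoset x ⟨y, hy⟩ hc, q0_congr x ⟨y, hy⟩ hc⟩
  have hb : ∀ y : Lam, sqNorm (y : GolayPt → ℤ) = 48 → Q y = 1 := by
    intro y hy
    obtain ⟨x, hx⟩ := hne
    obtain ⟨y', hy'n, hQ, _⟩ := hshort x
    rw [hQ] at hx
    rcases norm_vals y' hy'n with h | h | h | h
    · exfalso
      apply hx
      have : y' = 0 := Subtype.ext (sqNorm_eq_zero h)
      rw [this]; exact Q_zero Q hquad
    · exact absurd (Q32 Q hcoset hquad hinv h48 y' h) hx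
    · rw [const48 Q hinv h48 y y' hy h]
      have h2 : ∀ a : ZMod 2, a ≠ 0 → a = 1 := by decide
      exact h2 _ hx
    · exact absurd (Q64 Q hcoset hquad hinv h48 h64 y' h) hx
  obtain ⟨y, hyn, hQ, hq⟩ := hshort v
  rw [hQ, hq]
  unfold q0
  rcases norm_vals y hyn with h | h | h | h
  · have h' : sqNorm (y : GolayPt → ℤ) = 0 := h
    have : y = 0 := Subtype.ext (sqNorm_eq_zero h)
    rw [h', this, Q_zero Q hquad]; rfl
  · have h' : sqNorm (y : GolayPt → ℤ) = 32 := h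
    rw [h', Q32 Q hcoset hquad hinv h48 y h]; rfl
  · have h' : sqNorm (y : GolayPt → ℤ) = 48 := h
    rw [h', hb y h]; rfl
  · have h' : sqNorm (y : GolayPt → ℤ) = 64 := h
    rw [h', Q64 Q hcoset hquad hinv h48 h64 y h]; rfl

end main

end Cfsg.Agent.Lib.Helper92_QuadForm
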