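import Cfsg.Agent.Lib.Helper92_RankSimple
import Cfsg.Agent.Lib.Helper92_MaxN1

/-!
Complements to `Helper92_RankSimple`: the hypotheses of the criterion from a list of orbits of
the point stabiliser with known sizes, and normal subgroups of order twice an odd number.
-/

set_option autoImplicit false
open scoped Pointwise

namespace Cfsg.Agent.Lib.Helper92_RankSimple

open MulAction
open Cfsg.Agent.Lib.Helper92_MaxN (ncard_of_classes)

/-! ### normal subgroups of order twice an odd number -/

/-- An element of odd order lies in every subgroup of index `2`. -/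
theorem mem_of_odd_order {G : Type*} [Group G] (K : Subgroup G) (hK : K.index = 2) (x : G)
    (hx : Odd (orderOf x)) : x ∈ K := by
  obtain ⟨r, hr⟩ := hx
  have h1 : x = (x ^ 2) ^ (r + 1) := by
    rw [← pow_mul, show 2 * (r + 1) = orderOf x + 1 by omega, pow_succ, pow_orderOf_eq_one, one_mul]
  rw [h1]
  exact K.pow_mem (Subgroup.sq_mem_of_index_two hK x) _

theorem exists_normal_half {G : Type*} [Group G] [Finite G] (N : Subgroup G) (hN : N.Normal)
    (m : ℕ) (hm : Odd m) (hc : Nat.card N = 2 * m) :
    ∃ C : Subgroup G, C.Normal ∧ C ≤ N ∧ Nat.card C = m := by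
  have : Fact (Nat.Prime 2) := ⟨Nat.prime_two⟩
  obtain ⟨P⟩ : Nonempty (Sylow 2 ↥N) := Sylow.nonempty
  obtain ⟨n, hn⟩ := IsPGroup.iff_card.mp P.isPGroup'
  have hn' : Nat.card (P : Subgroup ↥N) = 2 ^ n := hn
  have hmul := (P : Subgroup N).card_mul_index
  have hnd := P.not_dvd_index
  rw [hc, hn'] at hmul
  have hmpos : 0 < m := hm.pos
  have hn1 : n = 1 := by
    rcases Nat.lt_trichotomy n 1 with h | h | h
    · exfalso
      have h0 : n = 0 := by omega
      rw [h0, pow_zero, one_mul] at hmul
      exact hnd ⟨m, hmul⟩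
    · exact h
    · exfalso
      obtain ⟨k, rfl⟩ : ∃ k, n = k + 2 := ⟨n - 2, by omega⟩
      have : 2 * (2 ^ (k + 1) * (P : Subgroup N).index) = 2 * m := by
        rw [← hmul]; ring
      have h2 : 2 ^ (k + 1) * (P : Subgroup N).index = m := by omega
      obtain ⟨r, hr⟩ := hm
      have : 2 ^ (k + 1) = 2 * 2 ^ k := by ring
      rw [this] at h2
      have : 2 * (2 ^ k * (P : Subgroup N).index) = 2 * r + 1 := by
        rw [← hr, ← h2]; ring
      omega
  subst hn1
  rw [pow_one] at hn' hmul
  have hidx : (P : Subgroup N).index = m := by omega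
  have hP : Subgroup.normalizer ((P : Subgroup N) : Set N) ≤
      Subgroup.centralizer ((P : Subgroup N) : Set N) := by
    intro g hg
    rw [Subgroup.mem_centralizer_iff]
    intro h hh
    -- `g⁻¹ * h * g` is in `P`; it is `1` iff `h` is
    by_cases h1 : h = 1
    · rw [h1, one_mul, mul_one]
    · have hg' := (Subgroup.mem_normalizer_iff.mp hg h).mp hh
      -- `P` has two elements
      obtain ⟨a, b, hab, huniv⟩ := Nat.card_eq_two_iff.mp hn'
      have hcases : ∀ z : (P : Subgroup N), z = a ∨ z = b := by
        intro z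
        have : z ∈ ({a, b} : Set (P : Subgroup N)) := by rw [huniv]; exact Set.mem_univ z
        exact this
      have key : ∀ z w : (P : Subgroup N), z ≠ 1 → w ≠ 1 → z = w := by
        intro z w hz hw
        rcases hcases 1 with e | e <;> rcases hcases z with ez | ez <;>
          rcases hcases w with ew | ew
        · exact absurd (ez.trans e.symm) hz
        · exact absurd (ez.trans e.symm) hz
        · exact absurd (ew.trans e.symm) hw
        · rw [ez, ew]
        · rw [ez, ew]
        · exact absurd (ew.trans e.symm) hw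
        · exact absurd (ez.trans e.symm) hz
        · exact absurd (ez.trans e.symm) hz
      have h2 : g * h * g⁻¹ ≠ 1 := by
        intro h2
        apply h1
        have : h = g⁻¹ * (g * h * g⁻¹) * g := by group
        rw [this, h2]; group
      have := key ⟨g * h * g⁻¹, hg'⟩ ⟨h, hh⟩ (fun e => h2 (congrArg Subtype.val e))
        (fun e => h1 (congrArg Subtype.val e))
      have h3 : g * h * g⁻¹ = h := congrArg Subtype.val this
      calc h * g = (g * h * g⁻¹) * g := by rw [h3]
        _ = g * h := by group
  have hcompl := MonoidHom.ker_transferSylow_isComplement' P hP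
  set K : Subgroup N := (MonoidHom.transferSylow P hP).ker with hK
  have hKc : Nat.card K = m := by
    rw [← hcompl.index_eq_card, hidx]
  have hKi : K.index = 2 := by
    have := K.card_mul_index
    rw [hKc, hc] at this
    have : m * K.index = m * 2 := by rw [this]; ring
    exact Nat.eq_of_mul_eq_mul_left hmpos this
  have hKch : K.Characteristic := by
    rw [Subgroup.characteristic_iff_map_le]
    intro φ x hx
    obtain ⟨y, hy, rfl⟩ := hx
    apply mem_of_odd_order K hKi
    have h1 : orderOf (φ.toMonoidHom y) = orderOf y := by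
      exact MulEquiv.orderOf_eq φ y
    rw [h1]
    have h2 : orderOf y = orderOf (⟨y, hy⟩ : K) := (Subgroup.orderOf_mk y hy).symm
    rw [h2]
    have h3 : orderOf (⟨y, hy⟩ : K) ∣ m := by
      rw [← hKc]; exact orderOf_dvd_natCard _
    exact Odd.of_dvd_nat hm h3
  have hcard : Nat.card (K.map N.subtype) = m := by
    rw [Subgroup.card_map_of_injective N.subtype_injective, hKc]
  exact ⟨K.map N.subtype, ConjAct.normal_of_characteristic_of_normal, Subgroup.map_subtype_le _,
    hcard⟩

/-! ### the hypotheses from a list of orbits -/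

section orbits

variable {G α : Type*} [Group G] [MulAction G α]

/-- The classes: the base point and the listed orbits of its stabiliser. -/
def ClO (x0 : α) {k : ℕ} (ys : Fin k → α) : Option (Fin k) → Set α
  | none => {x0}
  | some i => orbit ↥(stabilizer G x0) (ys i)

theorem orbit_stab_self (x0 : α) : orbit ↥(stabilizer G x0) x0 = {x0} := by
  ext x
  constructor
  · rintro ⟨h, rfl⟩
    exact h.2
  · intro hx
    rw [show x = x0 from hx]
    exact mem_orbit_self _

theorem ClO_orbit (x0 : α) {k : ℕ} (ys : Fin k → α) (i : Option (Fin k)) :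
    ∃ y, ClO (G := G) x0 ys i = orbit ↥(stabilizer G x0) y := by
  cases i with
  | none => exact ⟨x0, (orbit_stab_self x0).symm⟩
  | some i => exact ⟨ys i, rfl⟩

variable (x0 : α) {k : ℕ} (ys : Fin k → α) (s : Fin k → ℕ)
  (hs : ∀ i, (orbit ↥(stabilizer G x0) (ys i)).ncard = s i)
  (hs1 : ∀ i, 1 < s i) (hinj : Function.Injective s)

/-- The sizes of the classes. -/
def szO : Option (Fin k) → ℕ
  | none => 1
  | some i => s i

include hs in
theorem ClO_ncard (i : Option (Fin k)) : (ClO (G := G) x0 ys i).ncard = szO s i := by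
  cases i with
  | none => exact Set.ncard_singleton _
  | some i => exact hs i

include hs1 in
theorem szO_pos (i : Option (Fin k)) : 0 < szO s i := by
  cases i with
  | none => exact Nat.one_pos
  | some i => exact lt_trans Nat.one_pos (hs1 i)

include hs1 hinj in
theorem szO_injective : Function.Injective (szO s) := by
  intro i j h
  cases i with
  | none =>
    cases j with
    | none => rfl
    | some j =>
      have : 1 = s j := h
      have := hs1 j
      omega
  | some i =>
    cases j with
    | none =>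
      have : s i = 1 := h
      have := hs1 i
      omega
    | some j =>
      have : s i = s j := h
      rw [hinj this]

include hs hs1 in
theorem ClO_finite (i : Option (Fin k)) : (ClO (G := G) x0 ys i).Finite := by
  apply Set.finite_of_ncard_pos
  rw [ClO_ncard x0 ys s hs]
  exact szO_pos s hs1 i

include hs hs1 hinj in
theorem ClO_disj : ∀ i j : Option (Fin k), i ≠ j →
    Disjoint (ClO (G := G) x0 ys i) (ClO (G := G) x0 ys j) := by
  intro i j hij
  obtain ⟨a, ha⟩ := ClO_orbit (G := G) x0 ys i
  obtain ⟨b, hb⟩ := ClO_orbit (G := G) x0 ys j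
  rcases orbit.eq_or_disjoint (G := ↥(stabilizer G x0)) a b with h | h
  · exfalso
    have e : (ClO (G := G) x0 ys i).ncard = (ClO (G := G) x0 ys j).ncard := by rw [ha, hb, h]
    rw [ClO_ncard x0 ys s hs, ClO_ncard x0 ys s hs] at e
    exact hij (szO_injective s hs1 hinj e)
  · rw [ha, hb]; exact h

theorem ClO_homog (i : Option (Fin k)) :
    ∀ y ∈ ClO (G := G) x0 ys i, ∀ y' ∈ ClO (G := G) x0 ys i,
      ∃ h ∈ stabilizer G x0, h • y = y' := by
  intro y hy y' hy'
  obtain ⟨a, ha⟩ := ClO_orbit (G := G) x0 ys i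
  rw [ha] at hy hy'
  obtain ⟨c, rfl⟩ := hy
  obtain ⟨c', rfl⟩ := hy'
  refine ⟨(c' * c⁻¹ : ↥(stabilizer G x0)), (c' * c⁻¹ : ↥(stabilizer G x0)).2, ?_⟩
  show (c' * c⁻¹ : ↥(stabilizer G x0)) • (c • a) = c' • a
  rw [mul_smul, inv_smul_smul]

include hs hs1 hinj in
/-- The condition on invariant subsets, from the list of the orbits of the stabiliser. -/
theorem hprim_of_orbits (n : ℕ) (hn : (orbit G x0).ncard = n)
    (hcov : orbit G x0 ⊆ ⋃ i, ClO (G := G) x0 ys i)
    (harith : ∀ e : Fin k → Bool, (1 + ∑ i, if e i = true then s i else 0) ∣ n →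
      (∀ i, e i = true) ∨ (∀ i, e i = false)) :
    ∀ O : Set α, x0 ∈ O → O ⊆ orbit G x0 →
      (∀ h ∈ stabilizer G x0, ∀ y ∈ O, h • y ∈ O) → O.ncard ∣ (orbit G x0).ncard →
      O = {x0} ∨ O = orbit G x0 := by
  intro O h0 hsub hinv hdvd
  rw [hn] at hdvd
  have hdich : ∀ i, ClO (G := G) x0 ys i ⊆ O ∨ Disjoint (ClO (G := G) x0 ys i) O := by
    intro i
    by_cases h : ∃ y ∈ ClO (G := G) x0 ys i, y ∈ O
    · left
      obtain ⟨y, hy, hyO⟩ := h
      intro y' hy'
      obtain ⟨c, hc, hc'⟩ := ClO_homog x0 ys i y hy y' hy'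
      rw [← hc']
      exact hinv c hc y hyO
    · right
      rw [Set.disjoint_left]
      intro y hy hyO
      exact h ⟨y, hy, hyO⟩
  obtain ⟨e, he1, he0, hsum⟩ := ncard_of_classes O (ClO (G := G) x0 ys) (ClO_finite x0 ys s hs hs1)
    (ClO_disj x0 ys s hs hs1 hinj) (hsub.trans hcov) hdich
  have e0 : e none = true := by
    cases hh : e none
    · exact absurd h0 (Set.disjoint_left.mp (he0 none hh) rfl)
    · rfl
  have hsum' : O.ncard = 1 + ∑ i, if e (some i) = true then s i else 0 := by
    rw [hsum, Fintype.sum_option, if_pos e0, ClO_ncard x0 ys s hs]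
    congr 1
    apply Finset.sum_congr rfl
    intro i _
    rw [ClO_ncard x0 ys s hs]
    rfl
  rw [hsum'] at hdvd
  rcases harith (fun i => e (some i)) hdvd with hall | hall
  · right
    apply Set.Subset.antisymm hsub
    intro y hy
    obtain ⟨i, hi⟩ := Set.mem_iUnion.mp (hcov hy)
    cases i with
    | none => exact he1 none e0 hi
    | some i => exact he1 (some i) (hall i) hi
  · left
    apply Set.Subset.antisymm
    · intro y hy
      obtain ⟨i, hi⟩ := Set.mem_iUnion.mp (hcov (hsub hy))
      cases i with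
      | none => exact hi
      | some i => exact absurd hy (Set.disjoint_left.mp (he0 (some i) (hall i)) hi)
    · intro y hy
      rw [show y = x0 from hy]; exact h0

include hs hs1 in
/-- The stabiliser moves a point of the orbit, as soon as one orbit is listed. -/
theorem hmove_of_orbits (i0 : Fin k) (hy : ys i0 ∈ orbit G x0) :
    ∃ h ∈ stabilizer G x0, ∃ g : G, h • (g • x0) ≠ g • x0 := by
  have h22 : 1 < (ClO (G := G) x0 ys (some i0)).ncard := by
    rw [ClO_ncard x0 ys s hs]; exact hs1 i0
  obtain ⟨y, y', hy1, hy2, hne⟩ :=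
    (Set.one_lt_ncard_iff (ClO_finite x0 ys s hs hs1 (some i0))).mp h22
  -- both are images of `ys i0`; one of them differs from it
  obtain ⟨c, hc⟩ : ∃ c : ↥(stabilizer G x0), c • ys i0 ≠ ys i0 := by
    by_contra hcon
    rw [not_exists] at hcon
    apply hne
    obtain ⟨c1, rfl⟩ := hy1
    obtain ⟨c2, rfl⟩ := hy2
    have e1 := not_not.mp (hcon c1)
    have e2 := not_not.mp (hcon c2)
    show c1 • ys i0 = c2 • ys i0
    rw [e1, e2]
  obtain ⟨g, hg⟩ := hy
  refine ⟨c.1, c.2, g, ?_⟩
  have hg' : g • x0 = ys i0 := hg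
  rw [hg']
  exact hc

end orbits

/-- The criterion for an action whose orbit has twice an odd number of points. -/
theorem simple_of_action_two_odd {G α : Type*} [Group G] [MulAction G α] [Finite G] (x0 : α)
    (hH : IsSimpleGroup ↥(stabilizer G x0)) (m : ℕ) (hm : Odd m) (hm1 : 1 < m)
    (hcard : (orbit G x0).ncard = 2 * m)
    (hprim : ∀ O : Set α, x0 ∈ O → O ⊆ orbit G x0 →
      (∀ h ∈ stabilizer G x0, ∀ y ∈ O, h • y ∈ O) → O.ncard ∣ (orbit G x0).ncard →
      O = {x0} ∨ O = orbit G x0)
    (hmove : ∃ h ∈ stabilizer G x0, ∃ g : G, h • (g • x0) ≠ g • x0) :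
    IsSimpleGroup G := by
  apply simple_of_action x0 hH hprim hmove
  intro N hN hc
  rw [hcard] at hc ⊢
  obtain ⟨C, h1, h2, h3⟩ := exists_normal_half N hN m hm hc
  refine ⟨C, h1, ?_, h2, by rw [h3]; omega⟩
  intro h
  rw [h, Subgroup.card_bot] at h3
  omega

end Cfsg.Agent.Lib.Helper92_RankSimple
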