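import Cfsg.Agent.Lib.Helper33_S3AmDefs
import Cfsg.Agent.Lib.Helper33_DCDefs
import Cfsg.Prelude.Def_Amalgam

/-!
# S2858 market (architect helper33), package C-2 (helper92): the ball lemma

If `bb` is the critical distance then `Z_{w 0}` fixes every vertex at distance at most `bb` on a walk
and lies in `Q_{w j}` for `j < bb`.
-/

set_option autoImplicit false

namespace Cfsg.Agent.Lib.Helper92_S3Am_C2

open MulAction Cfsg.Agent.Lib.Helper13_SimsDefs Cfsg.Agent.Lib.Helper33_S3AmDefs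

variable {G : Type*} {V : Type*} [Group G] [MulAction G V] {Adj : V → V → Prop}

/-- `Z_x ≤ G_x` -/
theorem Zst_le_stab (x : V) : Zst G Adj x ≤ stabilizer G x := by
  unfold Cfsg.Agent.Lib.Helper33_S3AmDefs.Zst
  apply iSup_le
  rintro ⟨y, hy⟩
  intro g hg
  have h1 : g ∈ Tst G x y := ((mem_Om1Z_iff (Tst G x y) g).mp hg).1
  exact mem_stabilizer_iff.mpr ((mem_Tst_iff x y g).mp h1).1

/-- C2 (ball). -/
theorem ball (A : S3Am G Adj) {bb : ℕ} (hb : IsCrit G Adj bb) (w : ℕ → V) (j : ℕ) (hw : IsWalk Adj w j) :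
    (j ≤ bb → Zst G Adj (w 0) ≤ stabilizer G (w j)) ∧ (j < bb → Zst G Adj (w 0) ≤ Qst G Adj (w j)) := by
  have hQ : ∀ i, i ≤ j → i < bb → Zst G Adj (w 0) ≤ Qst G Adj (w i) := by
    intro i hij hi
    by_contra hcon
    exact hb.2 i hi w ⟨fun k hk => hw k (lt_of_lt_of_le hk hij), hcon⟩
  refine ⟨?_, fun hj => hQ j le_rfl hj⟩
  intro hj
  rcases Nat.eq_zero_or_pos j with h0 | hpos
  · rw [h0]
    exact Zst_le_stab (w 0)
  · have h1 : j - 1 < bb := by omega
    have h2 : j - 1 ≤ j := Nat.sub_le j 1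
    have hadj : Adj (w (j - 1)) (w j) := by
      have := hw (j - 1) (by omega)
      rwa [Nat.sub_add_cancel hpos] at this
    exact (hQ (j - 1) h2 h1).trans (Qst_le_stab_of_adj hadj)

end Cfsg.Agent.Lib.Helper92_S3Am_C2
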