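import Mathlib
import Cfsg.Agent.Lib.Helper41_SLRDefs
import Cfsg.Agent.Lib.Helper68_AutUMat

/-!
SLR market (helper41, sub-market of S4613 package PSL), package DIAG: the diagonal part of an
upper triangular element of `SL_n` lies in `SL_n`.
-/

set_option autoImplicit false
set_option linter.unusedSectionVars false
set_option linter.unusedVariables false

namespace Cfsg.Agent.Lib.Helper92_SLR_DIAG

open Matrix Cfsg.Agent.Lib.Helper68_MatGrp Cfsg.Agent.Lib.Helper41_SLRDefs Cfsg.Agent.Lib.Helper68_AutU

variable {n : ℕ} {F : Type*} [Field F]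

theorem exists_diag (b : Matrix.SpecialLinearGroup (Fin n) F) (hb : b ∈ Bsl n F) :
    ∃ t ∈ Tsl n F, ∀ a, t.1 a a = b.1 a a := by
  have hT : b.1.BlockTriangular id := by
    intro i j hij
    exact (mem_Bsl.mp hb) i j hij
  have hdet : (Matrix.diagonal fun a => b.1 a a).det = 1 := by
    rw [Matrix.det_diagonal, ← Matrix.det_of_upperTriangular hT]
    exact b.2
  refine ⟨⟨Matrix.diagonal fun a => b.1 a a, hdet⟩, ?_, ?_⟩
  · refine mem_Tsl.mpr ?_
    intro a c hac
    exact Matrix.diagonal_apply_ne _ hac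
  · intro a
    exact Matrix.diagonal_apply_eq _ a

end Cfsg.Agent.Lib.Helper92_SLR_DIAG
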