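import Mathlib
import Cfsg.Agent.Lib.Helper22_StOmDefs
import Cfsg.Agent.Lib.Helper68_StAbs
import Cfsg.Agent.Lib.Helper69_BlockEmb

set_option autoImplicit false
set_option linter.unusedSectionVars false
set_option linter.unusedVariables false

/-!
# S2549 package R3S (architect helper22): the rank one relation for the twisted root of `Ω⁻_{2m+2}(q)`.

Method (as in the twin `Helper69_StOo_R3S`): all matrices are block extensions (`Helper69_BlockEmb.blockExt`)
of explicit 4x4 matrices on the indices `ie i, d0, d1, jf i`.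
-/

namespace Cfsg.Agent.Lib.Helper92_StOm_R3S

open Matrix Cfsg.Agent.Lib.Helper68_MatGrp Cfsg.Agent.Lib.Helper22_BlkGrp Cfsg.Agent.Lib.Helper22_StOmDefs
  Cfsg.Agent.Lib.Helper69_BlockEmb

variable {m : ℕ} {F : Type*} [Field F] [Fintype F] {A B : F} [Fact (Aniso A B)]

/-- a block extension is block upper triangular (w.r.t. a height function) if the small matrix vanishes at the
pairs `(p, q)` with `h (f q) < h (f p)` -/
theorem blockExt_upperH' {ι κ : Type*} [Fintype ι] [DecidableEq ι] [Fintype κ] [DecidableEq κ]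
    {R : Type*} [CommRing R]
    (h : ι → ℕ) (f : κ → ι) (hf : Function.Injective f) (M : Matrix κ κ R)
    (hM : ∀ p q, h (f q) < h (f p) → M p q = 0) (r s : ι) (hsr : h s < h r) :
    blockExt f hf M r s = 0 := by
  have hne : r ≠ s := fun e => by rw [e] at hsr; exact lt_irrefl _ hsr
  by_cases hr : r ∈ Set.range f
  · by_cases hs : s ∈ Set.range f
    · obtain ⟨p, rfl⟩ := hr
      obtain ⟨q, rfl⟩ := hs
      rw [blockExt_apply]
      exact hM p q hsr
    · rw [blockExt_apply_right_notin f hf M r s hs, if_neg hne]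
  · rw [blockExt_apply_left_notin f hf M r s hr, if_neg hne]

/-- the four indices `e_i, d0, d1, f_i` -/
def idx (i : Fin m) : Fin 4 → I m := ![ie i, d0, d1, jf i]

theorem idx_injective (i : Fin m) : Function.Injective (idx i) := by
  intro p q h
  fin_cases p <;> fin_cases q <;> first
    | rfl
    | (exfalso; revert h
       simp [idx, ie_ne_jf, (ie_ne_jf _ _).symm, ie_ne_d0, ie_ne_d1, jf_ne_d0, jf_ne_d1,
         (ie_ne_d0 _).symm, (ie_ne_d1 _).symm, (jf_ne_d0 _).symm, (jf_ne_d1 _).symm, d0_ne_d1,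
         d0_ne_d1.symm])

theorem notin_range_idx {i : Fin m} {r : I m} (hr : r ∉ Set.range (idx i)) :
    r ≠ ie i ∧ r ≠ d0 ∧ r ≠ d1 ∧ r ≠ jf i := by
  refine ⟨fun h => hr ⟨0, h.symm⟩, fun h => hr ⟨1, h.symm⟩, fun h => hr ⟨2, h.symm⟩,
    fun h => hr ⟨3, h.symm⟩⟩

theorem sxM_eq (i : Fin m) (s t : F) :
    sxM A B (ie i) s t = blockExt (idx i) (idx_injective i)
      !![1, -(2 * s + A * t), -(A * s + 2 * B * t), -(nrm A B s t);
         0, 1, 0, s;
         0, 0, 1, t;
         0, 0, 0, 1] := by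
  apply eq_blockExt
  · intro p q
    fin_cases p <;> fin_cases q <;>
      simp [sxM, idx, Matrix.single_apply, Matrix.one_apply, ie_ne_jf, (ie_ne_jf _ _).symm,
        ie_ne_d0, ie_ne_d1, jf_ne_d0, jf_ne_d1, (ie_ne_d0 _).symm, (ie_ne_d1 _).symm,
        (jf_ne_d0 _).symm, (jf_ne_d1 _).symm, d0_ne_d1, d0_ne_d1.symm]
  · intro r s' hr
    obtain ⟨e1, e2, e3, e4⟩ := notin_range_idx hr
    simp [sxM, Matrix.single_apply, Matrix.one_apply, e1.symm, e2.symm, e3.symm, e4.symm]
  · intro r s' hs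
    obtain ⟨e1, e2, e3, e4⟩ := notin_range_idx hs
    simp [sxM, Matrix.single_apply, Matrix.one_apply, e1.symm, e2.symm, e3.symm, e4.symm]

theorem wsM_eq (i : Fin m) :
    (wsM A (ie i) : Matrix (I m) (I m) F) = blockExt (idx i) (idx_injective i)
      !![0, 0, 0, -1;
         0, -1, -A, 0;
         0, 0, 1, 0;
         -1, 0, 0, 0] := by
  apply eq_blockExt
  · intro p q
    fin_cases p <;> fin_cases q <;>
      simp [wsM, idx, Matrix.single_apply, Matrix.one_apply, ie_ne_jf, (ie_ne_jf _ _).symm,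
        ie_ne_d0, ie_ne_d1, jf_ne_d0, jf_ne_d1, (ie_ne_d0 _).symm, (ie_ne_d1 _).symm,
        (jf_ne_d0 _).symm, (jf_ne_d1 _).symm, d0_ne_d1, d0_ne_d1.symm]
    all_goals norm_num
  · intro r s' hr
    obtain ⟨e1, e2, e3, e4⟩ := notin_range_idx hr
    simp [wsM, Matrix.single_apply, Matrix.one_apply, e1.symm, e2.symm, e3.symm, e4.symm]
  · intro r s' hs
    obtain ⟨e1, e2, e3, e4⟩ := notin_range_idx hs
    simp [wsM, Matrix.single_apply, Matrix.one_apply, e1.symm, e2.symm, e3.symm, e4.symm]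

/-- the 4x4 identity behind the rank one relation -/
theorem four_identity (A B s t N : F) (hN : s ^ 2 + A * s * t + B * t ^ 2 = N) (hN0 : N ≠ 0) :
    (!![1 / N, (2 * s + A * t) / N, (A * s + 2 * B * t) / N, -1;
        0, -1 + (2 * s + A * t) * (s + A * t) / N, -A + (s + A * t) * (A * s + 2 * B * t) / N,
          -(s + A * t);
        0, -(t * (2 * s + A * t)) / N, 1 - t * (A * s + 2 * B * t) / N, t;
        0, 0, 0, N] : Matrix (Fin 4) (Fin 4) F) *
      ((!![0, 0, 0, -1; 0, -1, -A, 0; 0, 0, 1, 0; -1, 0, 0, 0] : Matrix (Fin 4) (Fin 4) F) *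
        !![1, -(2 * (-(s + A * t) / N) + A * (t / N)),
            -(A * (-(s + A * t) / N) + 2 * B * (t / N)),
            -(nrm A B (-(s + A * t) / N) (t / N));
           0, 1, 0, -(s + A * t) / N;
           0, 0, 1, t / N;
           0, 0, 0, 1] *
        !![0, 0, 0, -1; 0, -1, -A, 0; 0, 0, 1, 0; -1, 0, 0, 0]) =
    (!![0, 0, 0, -1; 0, -1, -A, 0; 0, 0, 1, 0; -1, 0, 0, 0] : Matrix (Fin 4) (Fin 4) F) *
      !![1, -(2 * s + A * t), -(A * s + 2 * B * t), -(nrm A B s t);
         0, 1, 0, s;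
         0, 0, 1, t;
         0, 0, 0, 1] := by
  ext p q
  fin_cases p <;> fin_cases q <;>
    simp [Matrix.mul_apply, Fin.sum_univ_four, nrm]
  all_goals (try field_simp)
  all_goals (first | ring1 | (rw [← hN]; ring1))

theorem r3S (i : Fin m) (s t : F) (hst : s ≠ 0 ∨ t ≠ 0) :
    ∃ b ∈ Boo m F A B, ∃ s' t' : F,
      ws A B (ie i) * sx A B (ie i) s t * (ws A B (ie i))⁻¹ =
        b * ws A B (ie i) * sx A B (ie i) s' t' := by
  have hz : ¬ IsPl (ie i : I m) := not_isPl_ie i
  have hN0 : nrm A B s t ≠ 0 := nrm_ne_zero hst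
  have hN : s ^ 2 + A * s * t + B * t ^ 2 = nrm A B s t := rfl
  set N := nrm A B s t with hNdef
  set w := ws A B (ie i : I m) with hw
  set x := sx A B (ie i : I m) s t with hx
  set x' := sx A B (ie i : I m) (-(s + A * t) / N) (t / N) with hx'
  have hwv : φ m F A B w = wsM A (ie i) := ws_val hz
  have hxv : φ m F A B x = sxM A B (ie i) s t := sx_val hz s t
  have hxv' : φ m F A B x' = sxM A B (ie i) (-(s + A * t) / N) (t / N) := sx_val hz _ _
  have heq : w * x * w⁻¹ = (w * x * w⁻¹) * (w * x')⁻¹ * w * x' := by group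
  refine ⟨(w * x * w⁻¹) * (w * x')⁻¹, ?_, -(s + A * t) / N, t / N, heq⟩
  have e1 : ((w * x * w⁻¹) * (w * x')⁻¹) * (w * x' * w) = w * x := by group
  have e2 : φ m F A B ((w * x * w⁻¹) * (w * x')⁻¹) *
      (wsM A (ie i) * sxM A B (ie i) (-(s + A * t) / N) (t / N) * wsM A (ie i)) =
        wsM A (ie i) * sxM A B (ie i) s t := by
    have := congrArg (φ m F A B) e1
    rw [map_mul, map_mul (φ m F A B) (w * x') w, map_mul (φ m F A B) w x', map_mul (φ m F A B) w x,
      hwv, hxv, hxv'] at this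
    exact this
  have e3 : blockExt (idx i) (idx_injective i)
        (!![1 / N, (2 * s + A * t) / N, (A * s + 2 * B * t) / N, -1;
            0, -1 + (2 * s + A * t) * (s + A * t) / N,
              -A + (s + A * t) * (A * s + 2 * B * t) / N, -(s + A * t);
            0, -(t * (2 * s + A * t)) / N, 1 - t * (A * s + 2 * B * t) / N, t;
            0, 0, 0, N] : Matrix (Fin 4) (Fin 4) F) *
      (wsM A (ie i) * sxM A B (ie i) (-(s + A * t) / N) (t / N) * wsM A (ie i)) =
        wsM A (ie i) * sxM A B (ie i) s t := by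
    rw [wsM_eq i, sxM_eq i, sxM_eq i, blockExt_mul, blockExt_mul, blockExt_mul, blockExt_mul]
    congr 1
    exact four_identity A B s t N hN hN0
  have e4 : (wsM A (ie i) * sxM A B (ie i) (-(s + A * t) / N) (t / N) * wsM A (ie i)) *
      φ m F A B (w * x' * w)⁻¹ = 1 := by
    rw [← hwv, ← hxv', ← map_mul, ← map_mul, ← map_mul, mul_inv_cancel, map_one]
  have key : φ m F A B ((w * x * w⁻¹) * (w * x')⁻¹) = blockExt (idx i) (idx_injective i)
        (!![1 / N, (2 * s + A * t) / N, (A * s + 2 * B * t) / N, -1;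
            0, -1 + (2 * s + A * t) * (s + A * t) / N,
              -A + (s + A * t) * (A * s + 2 * B * t) / N, -(s + A * t);
            0, -(t * (2 * s + A * t)) / N, 1 - t * (A * s + 2 * B * t) / N, t;
            0, 0, 0, N] : Matrix (Fin 4) (Fin 4) F) := by
    calc φ m F A B ((w * x * w⁻¹) * (w * x')⁻¹)
        = φ m F A B ((w * x * w⁻¹) * (w * x')⁻¹) *
            ((wsM A (ie i) * sxM A B (ie i) (-(s + A * t) / N) (t / N) * wsM A (ie i)) *
              φ m F A B (w * x' * w)⁻¹) := by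
          rw [e4, mul_one]
      _ = (wsM A (ie i) * sxM A B (ie i) s t) * φ m F A B (w * x' * w)⁻¹ := by
          rw [← Matrix.mul_assoc, e2]
      _ = blockExt (idx i) (idx_injective i)
            (!![1 / N, (2 * s + A * t) / N, (A * s + 2 * B * t) / N, -1;
                0, -1 + (2 * s + A * t) * (s + A * t) / N,
                  -A + (s + A * t) * (A * s + 2 * B * t) / N, -(s + A * t);
                0, -(t * (2 * s + A * t)) / N, 1 - t * (A * s + 2 * B * t) / N, t;
                0, 0, 0, N] : Matrix (Fin 4) (Fin 4) F) *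
            ((wsM A (ie i) * sxM A B (ie i) (-(s + A * t) / N) (t / N) * wsM A (ie i)) *
              φ m F A B (w * x' * w)⁻¹) := by
          rw [← Matrix.mul_assoc, e3]
      _ = _ := by rw [e4, mul_one]
  rw [mem_Boo]
  intro r s' hsr
  rw [key]
  apply blockExt_upperH' (ht m) (idx i) (idx_injective i)
  · intro p q hqp
    have hi := i.2
    fin_cases p <;> fin_cases q <;> first
      | rfl
      | (exfalso; simp [idx] at hqp; done)
      | (exfalso; simp [idx] at hqp; omega)
  · exact hsr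

end Cfsg.Agent.Lib.Helper92_StOm_R3S
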