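import Mathlib
import Cfsg.Agent.Lib.Helper92_TTDefs
import Cfsg.Agent.Lib.Helper49_CharP
import Cfsg.Agent.Lib.Helper1_Frattini
import Cfsg.Agent.Lib.Helper8_ThreeTransp
import Cfsg.Agent.S0029
import Cfsg.Prelude.Def_SporadicB
import Cfsg.Prelude.Def_Solvable

/-!
# S5559, package TT-RED (helper92): the Frattini quotient module

For a finite group `H` with `C_H(O_2(H)) ≤ O_2(H)` the group `H / O_2(H)` acts faithfully on the
commutative 2-group `W = V / Φ(V)` (`V = O_2(H)`, realised as a subgroup of `H / Φ(V)`), by Burnside's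
theorem (S0029).  If `H` is generated by a class `E` of 3-transpositions, `d ∈ E`, and `a` is a
non-trivial element of a 3-subgroup of `H / V` inverted by the image of `d`, then the fixed points of
`a` on `W` are fixed by the image of `d`.
-/

set_option autoImplicit false
set_option linter.unusedSectionVars false
set_option linter.unusedVariables false

namespace Cfsg.Agent.Lib.Helper92_TTRed

open Cfsg
open scoped commutatorElement

/-! ### a computation with involutions -/

section core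

variable {G : Type*} [Group G]

theorem comm_of_inv_sq {d u : G} (hd : d * d = 1) (hu2 : u * u = 1) (hdu : d * u * d = u⁻¹) :
    d * u = u * d := by
  have hu' : u⁻¹ = u := inv_eq_of_mul_eq_one_left hu2
  rw [hu'] at hdu
  calc d * u = d * u * (d * d) := by rw [hd, mul_one]
    _ = (d * u * d) * d := by group
    _ = u * d := by rw [hdu]

theorem conj_sq {d w : G} (hd : d * d = 1) : (w⁻¹ * d * w) * (w⁻¹ * d * w) = 1 := by
  calc (w⁻¹ * d * w) * (w⁻¹ * d * w) = w⁻¹ * (d * d) * w := by group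
    _ = 1 := by rw [hd]; group

theorem inv_conj {d d' : G} (hd : d * d = 1) (hd' : d' * d' = 1) : d * (d * d') * d = (d * d')⁻¹ := by
  have hdinv : d⁻¹ = d := inv_eq_of_mul_eq_one_left hd
  have hdinv' : d'⁻¹ = d' := inv_eq_of_mul_eq_one_left hd'
  rw [mul_inv_rev, hdinv, hdinv']
  calc d * (d * d') * d = (d * d) * d' * d := by group
    _ = d' * d := by rw [hd, one_mul]

theorem core {d e w : G} (hd : d * d = 1) (he : e * e = 1) (hx3 : (d * e) ^ 3 = 1)
    (hx1 : d * e ≠ 1) (hw : w * (d * e) = (d * e) * w)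
    (hu2 : (d * (w⁻¹ * d * w)) * (d * (w⁻¹ * d * w)) = 1)
    (hu2' : (e * (w⁻¹ * e * w)) * (e * (w⁻¹ * e * w)) = 1)
    (h3 : (d * (d * (w⁻¹ * d * w)) * e) ^ 2 = 1 ∨ (d * (d * (w⁻¹ * d * w)) * e) ^ 3 = 1) :
    d * w = w * d := by
  have hd' : (w⁻¹ * d * w) * (w⁻¹ * d * w) = 1 := conj_sq hd
  have he' : (w⁻¹ * e * w) * (w⁻¹ * e * w) = 1 := conj_sq he
  have hdu : d * (d * (w⁻¹ * d * w)) = (d * (w⁻¹ * d * w)) * d :=
    comm_of_inv_sq hd hu2 (inv_conj hd hd')
  have heu' : e * (e * (w⁻¹ * e * w)) = (e * (w⁻¹ * e * w)) * e :=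
    comm_of_inv_sq he hu2' (inv_conj he he')
  -- `u = u'`
  have hconj : (w⁻¹ * d * w) * (w⁻¹ * e * w) = d * e := by
    calc (w⁻¹ * d * w) * (w⁻¹ * e * w) = w⁻¹ * ((d * e) * w) := by group
      _ = w⁻¹ * (w * (d * e)) := by rw [hw]
      _ = d * e := by group
  have huu' : d * (w⁻¹ * d * w) = e * (w⁻¹ * e * w) := by
    have h1 : (d * (w⁻¹ * d * w)) * ((w⁻¹ * e * w) * e) = 1 := by
      calc (d * (w⁻¹ * d * w)) * ((w⁻¹ * e * w) * e)
          = d * ((w⁻¹ * d * w) * (w⁻¹ * e * w)) * e := by group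
        _ = d * (d * e) * e := by rw [hconj]
        _ = (d * d) * (e * e) := by group
        _ = 1 := by rw [hd, he, one_mul]
    have h2 : (w⁻¹ * e * w) * e = (e * (w⁻¹ * e * w))⁻¹ := by
      rw [mul_inv_rev, inv_eq_of_mul_eq_one_left he, inv_eq_of_mul_eq_one_left he']
    have h3 : (e * (w⁻¹ * e * w))⁻¹ = e * (w⁻¹ * e * w) := inv_eq_of_mul_eq_one_left hu2'
    rw [h2, h3] at h1
    -- u * u' = 1, u' * u' = 1
    calc d * (w⁻¹ * d * w) = d * (w⁻¹ * d * w) * ((e * (w⁻¹ * e * w)) * (e * (w⁻¹ * e * w))) := by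
          rw [hu2', mul_one]
      _ = (d * (w⁻¹ * d * w) * (e * (w⁻¹ * e * w))) * (e * (w⁻¹ * e * w)) := by group
      _ = e * (w⁻¹ * e * w) := by rw [h1, one_mul]
  set u := d * (w⁻¹ * d * w) with hu
  have heu : e * u = u * e := by rw [huu']; exact heu'
  have hcd : Commute u d := hdu.symm
  have hce : Commute u e := heu.symm
  have hcx : Commute u (d * e) := hcd.mul_right hce
  have hform : d * u * e = u * (d * e) := by
    rw [hdu]; group
  rw [hform] at h3
  have hu1 : u = 1 := by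
    rcases h3 with h3 | h3
    · exfalso
      rw [hcx.mul_pow, pow_two u, hu2, one_mul] at h3
      apply hx1
      have h5 : (d * e) ^ 3 = (d * e) ^ 2 * (d * e) := pow_succ _ 2
      rw [h3, one_mul, hx3] at h5
      exact h5.symm
    · rw [hcx.mul_pow, hx3, mul_one, pow_succ, pow_two, hu2, one_mul] at h3
      exact h3
  -- `d (w⁻¹ d w) = 1`
  have h4 : w⁻¹ * d * w = d := by
    have : d * (w⁻¹ * d * w) = d * d := by rw [← hu, hu1, hd]
    exact mul_left_cancel this
  calc d * w = w * (w⁻¹ * d * w) := by group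
    _ = w * d := by rw [h4]


end core

/-! ### the module -/

section module

universe u
variable {H : Type u} [Group H]

/-- `O_2(H)` -/
abbrev V (H : Type u) [Group H] : Subgroup H := Cfsg.pCore 2 H

instance V_normal : (V H).Normal := Cfsg.Agent.Lib.Helper49_CharP.pCoreNormal 2 H

theorem V_isPGroup : IsPGroup 2 (V H) := Cfsg.Agent.Lib.Helper49_CharP.pCore_isPGroup 2 H

/-- the Frattini subgroup of `O_2(H)` as a subgroup of `H` -/
def Phi (H : Type u) [Group H] : Subgroup H := (frattini ↥(V H)).map (V H).subtype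

instance Phi_normal : (Phi H).Normal :=
  ConjAct.normal_of_characteristic_of_normal

theorem Phi_le : Phi H ≤ V H := by
  intro x hx
  obtain ⟨y, -, rfl⟩ := hx
  exact y.2

/-- the quotient map -/
def q (H : Type u) [Group H] : H →* H ⧸ Phi H := QuotientGroup.mk' (Phi H)

theorem q_surjective : Function.Surjective (q H) := QuotientGroup.mk'_surjective _

theorem q_eq_one_iff (x : H) : q H x = 1 ↔ x ∈ Phi H := QuotientGroup.eq_one_iff x

/-- the image of `O_2(H)` -/
def V1 (H : Type u) [Group H] : Subgroup (H ⧸ Phi H) := (V H).map (q H)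

instance V1_normal : (V1 H).Normal := Subgroup.Normal.map inferInstance (q H) q_surjective

theorem comm_mem_Phi [Finite H] {x y : H} (hx : x ∈ V H) (hy : y ∈ V H) : x * y * x⁻¹ * y⁻¹ ∈ Phi H := by
  have h2 : Fact (Nat.Prime 2) := ⟨Nat.prime_two⟩
  have h1 : ⁅(⟨x, hx⟩ : V H), (⟨y, hy⟩ : V H)⁆ ∈ frattini ↥(V H) :=
    Cfsg.Agent.Lib.Helper1_Frattini.commutator_le_frattini_of_isPGroup (p := 2) V_isPGroup
      (Subgroup.commutator_mem_commutator (Subgroup.mem_top _) (Subgroup.mem_top _))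
  refine ⟨_, h1, ?_⟩
  rw [commutatorElement_def]
  rfl

theorem V1_comm [Finite H] {a b : H ⧸ Phi H} (ha : a ∈ V1 H) (hb : b ∈ V1 H) : a * b = b * a := by
  obtain ⟨x, hx, rfl⟩ := ha
  obtain ⟨y, hy, rfl⟩ := hb
  have h1 : q H (x * y * x⁻¹ * y⁻¹) = 1 := (q_eq_one_iff _).mpr (comm_mem_Phi hx hy)
  rw [map_mul, map_mul, map_mul, map_inv, map_inv] at h1
  calc q H x * q H y = (q H x * q H y * (q H x)⁻¹ * (q H y)⁻¹) * (q H y * q H x) := by group
    _ = q H y * q H x := by rw [h1, one_mul]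

theorem V1_isPGroup : IsPGroup 2 (V1 H) := V_isPGroup.map (q H)

/-- the action of `H` on `W = V1` -/
def rho0 (H : Type u) [Group H] : H →* MulAut ↥(V1 H) := (MulAut.conjNormal).comp (q H)

theorem rho0_apply (h : H) (w : V1 H) : ((rho0 H h w : V1 H) : H ⧸ Phi H) = q H h * w * (q H h)⁻¹ := by
  show ((MulAut.conjNormal (q H h) w : V1 H) : H ⧸ Phi H) = _
  rw [MulAut.conjNormal_apply]

theorem rho0_fix_iff (h : H) (w : V1 H) :
    rho0 H h w = w ↔ q H h * (w : H ⧸ Phi H) = (w : H ⧸ Phi H) * q H h := by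
  rw [Subtype.ext_iff, rho0_apply]
  constructor
  · intro h1
    calc q H h * (w : H ⧸ Phi H) = (q H h * w * (q H h)⁻¹) * q H h := by group
      _ = w * q H h := by rw [h1]
  · intro h1
    rw [h1]; group

theorem rho0_eq_one_of_mem [Finite H] {v : H} (hv : v ∈ V H) : rho0 H v = 1 := by
  ext w
  rw [rho0_apply]
  have h1 : q H v ∈ V1 H := ⟨v, hv, rfl⟩
  rw [V1_comm h1 w.2]
  simp

/-- the action of `H / O_2(H)` on `W` -/
def rho (H : Type u) [Group H] [Finite H] : H ⧸ V H →* MulAut ↥(V1 H) :=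
  QuotientGroup.lift (V H) (rho0 H) (fun _ hv => rho0_eq_one_of_mem hv)

theorem rho_mk [Finite H] (h : H) : rho H (QuotientGroup.mk h) = rho0 H h := rfl


/-! ### faithfulness -/

theorem eq_one_of_mem_V_of_coprime [Finite H] {x : H} (hx : x ∈ V H) (hcop : (orderOf x).Coprime 2) :
    x = 1 := by
  obtain ⟨k, hk⟩ := V_isPGroup (H := H) ⟨x, hx⟩
  have h1 : x ^ 2 ^ k = 1 := by
    have := congrArg Subtype.val hk
    simpa using this
  have h2 : orderOf x ∣ 2 ^ k := orderOf_dvd_of_pow_eq_one h1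
  have h3 : (orderOf x).Coprime (2 ^ k) := Nat.Coprime.pow_right k hcop
  exact orderOf_eq_one_iff.mp (Nat.Coprime.eq_one_of_dvd h3 h2)

theorem ker_rho0_le [Finite H] (hC : Subgroup.centralizer (V H : Set H) ≤ V H) :
    (rho0 H).ker ≤ V H := by
  have h2 : Fact (Nat.Prime 2) := ⟨Nat.prime_two⟩
  apply Cfsg.Agent.Lib.Helper49_CharP.le_pCore (MonoidHom.normal_ker _)
  apply Cfsg.Agent.Lib.Helper49_CharP.isPGroup_of_forall_coprime_eq_one
  intro x hx hcop
  have hA : Subgroup.zpowers x ≤ Subgroup.centralizer (V H : Set H) := by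
    apply Cfsg.Agent.S0029.result (Subgroup.zpowers x) (V H)
    · rw [Subgroup.normalizer_eq_top]; exact le_top
    · rw [Nat.card_zpowers]
      have hfr : IsPGroup 2 ↥(frattini ↥(V H)) := (V_isPGroup (H := H)).to_subgroup _
      obtain ⟨n, hn⟩ := hfr.exists_card_eq
      rw [hn]
      exact Nat.Coprime.pow_right n hcop
    · intro a ha k hk
      have ha' : a ∈ (rho0 H).ker := (Subgroup.zpowers_le.mpr hx) ha
      have h1 : rho0 H a = 1 := ha'
      have h3 : rho0 H a ⟨q H k, ⟨k, hk, rfl⟩⟩ = ⟨q H k, ⟨k, hk, rfl⟩⟩ := by rw [h1]; rfl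
      have h4 := congrArg Subtype.val h3
      rw [rho0_apply] at h4
      show a * k * a⁻¹ * k⁻¹ ∈ Phi H
      rw [← q_eq_one_iff, map_mul, map_mul, map_mul, map_inv, map_inv]
      simp only at h4
      rw [h4, mul_inv_cancel]
  have hxV : x ∈ V H := hC (hA (Subgroup.mem_zpowers x))
  exact eq_one_of_mem_V_of_coprime hxV hcop

theorem rho_injective [Finite H] (hC : Subgroup.centralizer (V H : Set H) ≤ V H) :
    Function.Injective (rho H) := by
  rw [injective_iff_map_eq_one]
  intro k hk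
  obtain ⟨h, rfl⟩ := QuotientGroup.mk_surjective k
  rw [rho_mk] at hk
  exact (QuotientGroup.eq_one_iff h).mpr (ker_rho0_le hC hk)


/-! ### the fixed point condition -/

/-- a 2-element whose square or cube is trivial is an involution or trivial -/
theorem sq_eq_one_of_mem_V [Finite H] {u : H} (hu : u ∈ V H) (h : u ^ 2 = 1 ∨ u ^ 3 = 1) :
    u * u = 1 := by
  rcases h with h | h
  · rw [← pow_two]; exact h
  · have h1 : u = 1 := by
      apply eq_one_of_mem_V_of_coprime hu
      have : orderOf u ∣ 3 := orderOf_dvd_of_pow_eq_one h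
      exact Nat.Coprime.coprime_dvd_left this (by norm_num)
    rw [h1, one_mul]

/-- an element of a 3-group whose square is trivial is trivial -/
theorem eq_one_of_sq_of_three {K : Type*} [Group K] {P : Subgroup K} (hP3 : IsPGroup 3 P) {y : K}
    (hy : y ∈ P) (h2 : y * y = 1) : y = 1 := by
  obtain ⟨k, hk⟩ := hP3 ⟨y, hy⟩
  have h1 : y ^ 3 ^ k = 1 := by
    have := congrArg Subtype.val hk
    simpa using this
  have h3 : orderOf y ∣ 3 ^ k := orderOf_dvd_of_pow_eq_one h1
  have h4 : orderOf y ∣ 2 := orderOf_dvd_of_pow_eq_one (by rw [pow_two]; exact h2)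
  have h5 : Nat.Coprime 2 (3 ^ k) := Nat.Coprime.pow_right k (by norm_num)
  exact orderOf_eq_one_iff.mp (Nat.eq_one_of_dvd_coprimes h5 h4 h3)

theorem conj_mem_class {E : Set H} (hE : Cfsg.IsThreeTranspositionClass E) {d : H} (hd : d ∈ E)
    (g : H) : g⁻¹ * d * g ∈ E := by
  obtain ⟨-, ⟨d₀, hd₀, hconj⟩, -⟩ := hE
  rw [hconj] at hd ⊢
  have hd' : IsConj d₀ d := hd
  have : IsConj d (g⁻¹ * d * g) := isConj_iff.mpr ⟨g⁻¹, by rw [inv_inv]⟩
  exact hd'.trans this

theorem fix_cond [Finite H] {E : Set H} (hE : Cfsg.IsThreeTranspositionClass E) {d : H}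
    (hd : d ∈ E) (P : Subgroup (H ⧸ V H)) (hP3 : IsPGroup 3 P) (a : H ⧸ V H) (ha : a ∈ P)
    (ha1 : a ≠ 1)
    (hinv : (QuotientGroup.mk d : H ⧸ V H) * a * QuotientGroup.mk d = a⁻¹)
    (w : V1 H) (hw : rho H a w = w) : rho H (QuotientGroup.mk d) w = w := by
  have hE3 := hE.1
  obtain ⟨h, rfl⟩ := QuotientGroup.mk_surjective a
  obtain ⟨v, hv, hvw⟩ := w.2
  have hdd : d * d = 1 := Cfsg.Agent.Lib.Helper8_ThreeTransp.mem_sq hE3 hd
  have he : h⁻¹ * d * h ∈ E := conj_mem_class hE hd h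
  have hee : (h⁻¹ * d * h) * (h⁻¹ * d * h) = 1 := Cfsg.Agent.Lib.Helper8_ThreeTransp.mem_sq hE3 he
  set e := h⁻¹ * d * h with he_def
  set t : H ⧸ V H := QuotientGroup.mk d with ht
  set a : H ⧸ V H := QuotientGroup.mk h with ha_def
  have htt : t * t = 1 := by rw [ht, ← QuotientGroup.mk_mul, hdd]; rfl
  have htinv : t⁻¹ = t := inv_eq_of_mul_eq_one_left htt
  -- the image of `d * e` is `a * a`
  have hinv' : t * a⁻¹ * t = a := by
    have := congrArg Inv.inv hinv
    rw [mul_inv_rev, mul_inv_rev, htinv, inv_inv] at this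
    rw [mul_assoc]; exact this
  have hmk : (QuotientGroup.mk (d * e) : H ⧸ V H) = a * a := by
    rw [he_def]
    simp only [QuotientGroup.mk_mul, QuotientGroup.mk_inv]
    calc t * (a⁻¹ * t * a) = (t * a⁻¹ * t) * a := by group
      _ = a * a := by rw [hinv']
  have haa1 : a * a ≠ 1 := fun h2 => ha1 (eq_one_of_sq_of_three hP3 ha h2)
  have haaP : a * a ∈ P := mul_mem ha ha
  have hx3 : (d * e) ^ 3 = 1 := by
    rcases hE3.2 d hd e he with h2 | h3
    · exfalso
      apply haa1
      apply eq_one_of_sq_of_three hP3 haaP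
      rw [← hmk, ← QuotientGroup.mk_mul, ← pow_two, h2]; rfl
    · exact h3
  have hxV : d * e ∉ V H := by
    intro hmem
    apply haa1
    rw [← hmk]
    exact (QuotientGroup.eq_one_iff _).mpr hmem
  have hqx1 : q H d * q H e ≠ 1 := by
    intro h1
    apply hxV
    rw [← map_mul, q_eq_one_iff] at h1
    exact Phi_le h1
  -- `w` commutes with the image of `d * e`
  have hwx : rho0 H (d * e) w = w := by
    have h1 : rho H (a * a) w = w := by
      rw [map_mul, MulAut.mul_apply, hw, hw]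
    rw [← hmk, rho_mk] at h1
    exact h1
  rw [rho0_fix_iff, map_mul] at hwx
  -- conjugates by `v`
  have hd' : v⁻¹ * d * v ∈ E := conj_mem_class hE hd v
  have he' : v⁻¹ * e * v ∈ E := conj_mem_class hE he v
  have hVn : (V H).Normal := V_normal
  have hdinv : d⁻¹ = d := inv_eq_of_mul_eq_one_left hdd
  have heinv : e⁻¹ = e := inv_eq_of_mul_eq_one_left hee
  have hudV : d * (v⁻¹ * d * v) ∈ V H := by
    have h1 : d * v⁻¹ * d⁻¹ ∈ V H := hVn.conj_mem _ (inv_mem hv) d
    have h2 : d * (v⁻¹ * d * v) = (d * v⁻¹ * d⁻¹) * v := by rw [hdinv]; group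
    rw [h2]
    exact mul_mem h1 hv
  have hueV : e * (v⁻¹ * e * v) ∈ V H := by
    have h1 : e * v⁻¹ * e⁻¹ ∈ V H := hVn.conj_mem _ (inv_mem hv) e
    have h2 : e * (v⁻¹ * e * v) = (e * v⁻¹ * e⁻¹) * v := by rw [heinv]; group
    rw [h2]
    exact mul_mem h1 hv
  have hud2 := sq_eq_one_of_mem_V hudV (hE3.2 d hd _ hd')
  have hue2 := sq_eq_one_of_mem_V hueV (hE3.2 e he _ he')
  -- apply the core computation in `H / Phi`
  have hwv : (w : H ⧸ Phi H) = q H v := hvw.symm
  have hcore : q H d * (w : H ⧸ Phi H) = (w : H ⧸ Phi H) * q H d := by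
    apply core (d := q H d) (e := q H e) (w := (w : H ⧸ Phi H))
    · rw [← map_mul, hdd, map_one]
    · rw [← map_mul, hee, map_one]
    · rw [← map_mul, ← map_pow, hx3, map_one]
    · exact hqx1
    · exact hwx.symm
    · rw [hwv]
      simp only [← map_mul, ← map_inv]
      rw [hud2, map_one]
    · rw [hwv]
      simp only [← map_mul, ← map_inv]
      rw [hue2, map_one]
    · rw [hwv]
      have h1 : q H d * (q H d * ((q H v)⁻¹ * q H d * q H v)) * q H e
          = q H ((v⁻¹ * d * v) * e) := by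
        simp only [map_mul, map_inv]
        have : q H d * q H d = 1 := by rw [← map_mul, hdd, map_one]
        calc q H d * (q H d * ((q H v)⁻¹ * q H d * q H v)) * q H e
            = (q H d * q H d) * ((q H v)⁻¹ * q H d * q H v) * q H e := by group
          _ = (q H v)⁻¹ * q H d * q H v * q H e := by rw [this, one_mul]
      rw [h1]
      rcases hE3.2 _ hd' e he with h2 | h3
      · left; rw [← map_pow, h2, map_one]
      · right; rw [← map_pow, h3, map_one]
  rw [rho_mk, rho0_fix_iff]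
  exact hcore


/-- TT-RED: the faithful module with the fixed point condition -/
theorem red [Finite H] {E : Set H}
    (hE : Cfsg.IsThreeTranspositionClass E)
    (hC : Subgroup.centralizer (Cfsg.pCore 2 H : Set H) ≤ Cfsg.pCore 2 H)
    {d : H} (hd : d ∈ E) (P : Subgroup (H ⧸ Cfsg.pCore 2 H)) (hP3 : IsPGroup 3 P) :
    ∃ (W : Type u) (_ : Group W) (_ : Finite W) (rho : H ⧸ Cfsg.pCore 2 H →* MulAut W),
      (∀ x y : W, x * y = y * x) ∧ IsPGroup 2 W ∧ Function.Injective rho ∧
      ∀ a ∈ P, a ≠ 1 → (QuotientGroup.mk d : H ⧸ Cfsg.pCore 2 H) * a * QuotientGroup.mk d = a⁻¹ →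
        ∀ w : W, rho a w = w → rho (QuotientGroup.mk d) w = w :=
  ⟨↥(V1 H), inferInstance, inferInstance, rho H, fun x y => Subtype.ext (V1_comm x.2 y.2),
    V1_isPGroup, rho_injective hC,
    fun a ha ha1 hinv w hw => fix_cond hE hd P hP3 a ha ha1 hinv w hw⟩

end module

end Cfsg.Agent.Lib.Helper92_TTRed
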