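import Cfsg.Agent.Lib.Helper93_E8C_Tab
import Cfsg.Agent.Lib.Helper58_E8C_TADD
import Cfsg.Agent.Lib.Helper8_E8C_TX

set_option autoImplicit false

/-!
Common lemmas for the packages CONJX and BADJ of S5751 (architect helper4): the level function as a grading, the
coordinates `tco` of words in root elements, and the commutator formula of `E₈` (every chain has length one).
Everything is parametrised by the certificates of the datum.
-/

namespace Cfsg.Agent.Lib.Helper93_E8C_Core

open Cfsg Cfsg.Lie Cfsg.Agent.Lib.Helper18_ChevFast Cfsg.Agent.Lib.Helper18_ChevEngine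
  Cfsg.Agent.Lib.Helper18_ChevR1 Cfsg.Agent.Lib.Helper18_ChevN Cfsg.Agent.Lib.Helper18_ChevR4
  Cfsg.Agent.Lib.Helper18_ChevSimple Cfsg.Agent.Lib.Helper18_ChevSimple2 Cfsg.Agent.Lib.Helper18_ChevFacts
  Cfsg.Agent.Lib.Helper18_ChevWeyl Cfsg.Agent.Lib.Helper18_ChevDiag Cfsg.Agent.Lib.Helper18_ChevCar
  Cfsg.Agent.Lib.Helper18_ChevTorus Cfsg.Agent.Lib.Helper18_ChevGL Cfsg.Agent.Lib.Helper18_ChevComm
  Cfsg.Agent.Lib.Helper18_ChevComm2 Cfsg.Agent.Lib.Helper18_MatTri Cfsg.Agent.Lib.Helper18_ChevTri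
  Cfsg.Agent.Lib.Helper18_ChevBorel Cfsg.Agent.Lib.Helper18_ChevAdd Cfsg.Agent.Lib.Helper18_ChevUni
  Cfsg.Agent.Lib.Helper4_E8Defs Cfsg.Agent.Lib.Helper93_E8C_Tab

open Cfsg.Agent.Lib.Helper58_E8C_TADD (tco_mul)

open Cfsg.Agent.Lib.Helper8_E8C_TX (tco_x)

variable {Ns : List NData} {wl : List ℤ} {ws : List (List ℤ)} {sc : ℤ}

/-! ### The level function is a grading -/

/-- The level of a root of `Φ_J` is zero. -/
theorem lv_of_inRootSub (β : ℕ) (hβ : D8.InRootSub J3 β) : lv β = 0 := by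
  have := hβ.2 3 three_lt_rank (by simp [J3])
  unfold lv
  exact this

theorem lv_neg (c : DCert D8 Ns) (tc : TCert D8) (r : ℕ) (hr : r < 240) : lv (D8.neg r) = - lv r := by
  unfold ChevalleyDatum.neg
  exact (isGrading_lv_of c tc).neg r (lt_nroots hr)

/-! ### The root elements in the groups `T j` -/

theorem xGL_mem_T (c : DCert D8 Ns) (tc : TCert D8) (j : ℕ) (hj : 1 ≤ j) (r : ℕ) (hr : r < 240)
    (hlv : (j : ℤ) ≤ lv r) (t : F2) : xGL c r t ∈ T j := by
  show Raises _ _ _
  rw [xGL_coe]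
  exact x_sub_one_raises (isGrading_lv_of c tc) r (lt_nroots hr) j (by exact_mod_cast hj) hlv t

theorem wordGL_mem_T (c : DCert D8 Ns) (tc : TCert D8) (j : ℕ) (hj : 1 ≤ j) (w : List (ℕ × F2))
    (hw : ∀ p ∈ w, p.1 < 240 ∧ (j : ℤ) ≤ lv p.1) : wordGL c w ∈ T j := by
  apply wordGL_mem
  intro p hp
  exact xGL_mem_T c tc j hj p.1 (hw p hp).1 (hw p hp).2 p.2

theorem Q_le_T_of (c : DCert D8 Ns) (tc : TCert D8) (j : ℕ) (hj : 1 ≤ j) : Q j ≤ T j := by
  unfold Q
  rw [Subgroup.closure_le]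
  rintro g ⟨r, t, hr, hlv, hg⟩
  rw [eq_xGL c hg]
  exact xGL_mem_T c tc j hj r (lt_240 hr.1) hlv t

/-! ### The coordinates of a word -/

/-- The coordinate at a root of level `j` of a word in root elements of level at least `j`. -/
theorem tco_wordGL (c : DCert D8 Ns) (tc : TCert D8) (j : ℕ) (hj : 1 ≤ j) (s : ℕ) (hs : s < 240)
    (hlv : lv s = j) :
    ∀ (w : List (ℕ × F2)), (∀ p ∈ w, p.1 < 240 ∧ (j : ℤ) ≤ lv p.1) →
      tco s (wordGL c w) = (w.map fun p => if p.1 = s then p.2 else 0).sum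
  | [], _ => by
    rw [wordGL_nil, List.map_nil, List.sum_nil]
    have h := tco_x s s hs hs 0 (1 : GLE) (by rw [x_zero]; rfl)
    rw [h]
    simp
  | p :: w, hw => by
    have ih := tco_wordGL c tc j hj s hs hlv w (fun q hq => hw q (List.mem_cons_of_mem _ hq))
    have hp := hw p (by simp)
    rw [wordGL_cons, List.map_cons, List.sum_cons, ← ih]
    rw [(tco_mul j hj s hs hlv).1 _ (xGL_mem_T c tc j hj p.1 hp.1 hp.2 p.2) _
      (wordGL_mem_T c tc j hj w (fun q hq => hw q (List.mem_cons_of_mem _ hq)))]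
    rw [tco_x s p.1 hs hp.1 p.2 (xGL c p.1 p.2) (xGL_coe c p.1 p.2)]

/-- The coordinate at a root of level `j` of a product over a list without repetition. -/
theorem tco_wordGL_map (c : DCert D8 Ns) (tc : TCert D8) (j : ℕ) (hj : 1 ≤ j) (s : ℕ) (hs : s < 240)
    (hlv : lv s = j) (L : List ℕ) (hL : ∀ r ∈ L, r < 240 ∧ (j : ℤ) ≤ lv r) (t : ℕ → F2) :
    tco s (wordGL c (L.map fun r => (r, t r))) = (L.map fun r => if r = s then t r else 0).sum := by
  rw [tco_wordGL c tc j hj s hs hlv]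
  · rw [List.map_map]
    rfl
  · intro p hp
    rw [List.mem_map] at hp
    obtain ⟨r, hr, rfl⟩ := hp
    exact hL r hr

theorem wordGL_append (c : DCert D8 Ns) (w w' : List (ℕ × F2)) :
    wordGL c (w ++ w') = wordGL c w * wordGL c w' := by
  unfold wordGL
  rw [List.map_append, List.prod_append]

/-! ### The list of the roots of level at least `j` -/

theorem mem_lvRoots (j r : ℕ) : r ∈ lvRoots j ↔ D8.IsPosRoot r ∧ (j : ℤ) ≤ lv r := by
  unfold lvRoots
  rw [List.mem_filter, mem_posRoots, decide_eq_true_eq]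

theorem lvRoots_lt (j r : ℕ) (h : r ∈ lvRoots j) : r < 240 ∧ (j : ℤ) ≤ lv r :=
  ⟨lt_240 ((mem_lvRoots j r).mp h).1.1, ((mem_lvRoots j r).mp h).2⟩

theorem lvRoots_nodup (j : ℕ) : (lvRoots j).Nodup := by
  unfold lvRoots
  exact List.Nodup.filter _ posRoots_nodup

/-! ### The chains of `E₈` -/

theorem chainEntry_small (x y : ℕ) :
    (D8.chainEntry x y).length ≤ 1 ∧ ∀ q ∈ D8.chainEntry x y, q.2 % 2 = 1 := by
  unfold ChevalleyDatum.chainEntry
  by_cases hx : x < 240
  · cases hf : (D8.chain.getD x #[]).toList.find? (fun e => e.1 = y) with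
    | none => simp
    | some e =>
      have hmem := List.mem_of_find?_eq_some hf
      obtain ⟨h1, h2⟩ := chain_small x hx e hmem
      simp only
      refine ⟨?_, h2⟩
      rw [Array.length_toList]
      exact h1
  · have h0 : D8.chain.getD x #[] = #[] := by
      unfold Array.getD
      rw [dif_neg (by rw [chain_size]; exact hx)]
    rw [h0]
    simp

theorem chainRoot_eq_none (x y i : ℕ) (hi : 2 ≤ i) : D8.chainRoot x y i = none := by
  unfold ChevalleyDatum.chainRoot
  have h := (chainEntry_small x y).1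
  rw [List.getElem?_eq_none (by omega)]
  rfl

/-- In `E₈` the commutator formula has at most one term. -/
theorem commTerms_eq (x y : ℕ) :
    D8.commTerms x y = (D8.chainRoot x y 1).toList.map fun k => (k, D8.chainM x y 1, 1, 1) := by
  unfold ChevalleyDatum.commTerms
  simp only [chainRoot_eq_none x y 2 (le_refl 2), chainRoot_eq_none x y 3 (by norm_num),
    chainRoot_eq_none y x 2 (le_refl 2), chainRoot_eq_none y x 3 (by norm_num)]
  cases D8.chainRoot x y 1 <;> simp

theorem chainM_odd (x y k : ℕ) (h : D8.chainRoot x y 1 = some k) : D8.chainM x y 1 % 2 = 1 := by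
  unfold ChevalleyDatum.chainRoot at h
  unfold ChevalleyDatum.chainM
  rw [Option.map_eq_some_iff] at h
  obtain ⟨q, hq, -⟩ := h
  rw [hq]
  simp only [Option.map_some, Option.getD_some]
  exact (chainEntry_small x y).2 q (List.mem_of_getElem? hq)

theorem intCast_F2_of_odd (M : ℤ) (h : M % 2 = 1) : ((M : ℤ) : F2) = 1 := by
  rw [ZMod.intCast_eq_one_iff_odd, Int.odd_iff]
  exact h

/-- The right-hand side of the commutator formula for `x_β(-1)`, in `E₈(2)`. -/
theorem commWord_eq (β a : ℕ) (t : F2) :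
    D8.commWord F2 β a (-1) t = (D8.chainRoot β a 1).toList.map fun k => (k, t) := by
  unfold ChevalleyDatum.commWord
  rw [commTerms_eq]
  cases h : D8.chainRoot β a 1 with
  | none => simp
  | some k =>
    have := intCast_F2_of_odd _ (chainM_odd β a k h)
    simp [this]

/-! ### Conjugation by `x_β(1)` -/

/-- The word obtained by conjugating the factors of a word by `x_β(1)`. -/
def conjWord (β : ℕ) (w : List (ℕ × F2)) : List (ℕ × F2) :=
  w.flatMap fun p => p :: (D8.chainRoot β p.1 1).toList.map fun k => (k, p.2)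

theorem conjWord_nil (β : ℕ) : conjWord β [] = [] := rfl

theorem conjWord_cons (β : ℕ) (p : ℕ × F2) (w : List (ℕ × F2)) :
    conjWord β (p :: w) = (p :: (D8.chainRoot β p.1 1).toList.map fun k => (k, p.2)) ++ conjWord β w := by
  unfold conjWord
  rw [List.flatMap_cons]

theorem conj_xGL (c : DCert D8 Ns) (hR2 : R2All D8 F2) (β a : ℕ) (hβ : β < 240) (ha : a < 240)
    (h1 : a ≠ β) (h2 : a ≠ D8.neg β) (t : F2) :
    xGL c β 1 * xGL c a t * (xGL c β 1)⁻¹ =
      wordGL c ((a, t) :: (D8.chainRoot β a 1).toList.map fun k => (k, t)) := by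
  have h := conj_of_R2 c (hR2 β a (lt_nroots hβ) (lt_nroots ha) h1 h2) (-1 : F2) t
  rw [← xGL_inv, inv_inv, commWord_eq] at h
  rw [wordGL_cons, h]

theorem conj_wordGL (c : DCert D8 Ns) (hR2 : R2All D8 F2) (β : ℕ) (hβ : β < 240) :
    ∀ (w : List (ℕ × F2)), (∀ p ∈ w, p.1 < 240 ∧ p.1 ≠ β ∧ p.1 ≠ D8.neg β) →
      xGL c β 1 * wordGL c w * (xGL c β 1)⁻¹ = wordGL c (conjWord β w)
  | [], _ => by
    rw [conjWord_nil, wordGL_nil, mul_one, mul_inv_cancel]
  | p :: w, hw => by
    have ih := conj_wordGL c hR2 β hβ w (fun q hq => hw q (List.mem_cons_of_mem _ hq))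
    obtain ⟨hp1, hp2, hp3⟩ := hw p (by simp)
    rw [conjWord_cons, wordGL_append, ← ih, ← conj_xGL c hR2 β p.1 hβ hp1 hp2 hp3 p.2, wordGL_cons]
    group

/-- The factors of the conjugated word have level at least `j`. -/
theorem conjWord_lv (c : DCert D8 Ns) (tc : TCert D8) (ac : ACert D8 wl ws sc) (j : ℕ) (β : ℕ) (hβ : β < 240)
    (hlβ : lv β = 0) (w : List (ℕ × F2)) (hw : ∀ p ∈ w, p.1 < 240 ∧ (j : ℤ) ≤ lv p.1) :
    ∀ q ∈ conjWord β w, q.1 < 240 ∧ (j : ℤ) ≤ lv q.1 := by
  intro q hq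
  unfold conjWord at hq
  rw [List.mem_flatMap] at hq
  obtain ⟨p, hp, hq⟩ := hq
  rcases List.mem_cons.mp hq with rfl | hq
  · exact hw q hp
  · rw [List.mem_map] at hq
    obtain ⟨k, hk, rfl⟩ := hq
    rw [Option.mem_toList] at hk
    obtain ⟨-, h2, h3⟩ := chainRoot_grading c.rows ac.in_range (isGrading_lv_of c tc) (lt_nroots hβ)
      (le_refl 1) hk
    refine ⟨lt_240 h2, ?_⟩
    show (j : ℤ) ≤ lv k
    rw [h3, hlβ]
    have := (hw p hp).2
    omega

/-- The sum of the parameters at `s` of the conjugated word. -/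
theorem conjWord_sum (β s : ℕ) : ∀ (w : List (ℕ × F2)),
    ((conjWord β w).map fun p => if p.1 = s then p.2 else 0).sum =
      (w.map fun p => (if p.1 = s then p.2 else 0) + if D8.chainRoot β p.1 1 = some s then p.2 else 0).sum
  | [] => by rw [conjWord_nil, List.map_nil, List.map_nil]
  | p :: w => by
    have key : (((D8.chainRoot β p.1 1).toList.map fun k => (k, p.2)).map
        fun q : ℕ × F2 => if q.1 = s then q.2 else 0).sum =
          if D8.chainRoot β p.1 1 = some s then p.2 else 0 := by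
      cases h : D8.chainRoot β p.1 1 with
      | none => simp
      | some k =>
        by_cases hk : k = s
        · subst hk; simp
        · have : (some k : Option ℕ) ≠ some s := fun h => hk (Option.some.inj h)
          simp [hk, this]
    rw [conjWord_cons, List.map_append, List.sum_append, conjWord_sum β s w, List.map_cons (l := w),
      List.sum_cons, List.map_cons, List.sum_cons, key]

/-- `a ↦ β + a` is injective. -/
theorem chainRoot_inj (c : DCert D8 Ns) (tc : TCert D8) (ac : ACert D8 wl ws sc) (β a r s : ℕ) (hβ : β < 240)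
    (ha : D8.chainRoot β a 1 = some s) (hr : D8.chainRoot β r 1 = some s) : a = r := by
  have hg := isGrading_w c tc wl
  obtain ⟨ha1, -, ha3⟩ := chainRoot_grading c.rows ac.in_range hg (lt_nroots hβ) (le_refl 1) ha
  obtain ⟨hr1, -, hr3⟩ := chainRoot_grading c.rows ac.in_range hg (lt_nroots hβ) (le_refl 1) hr
  apply gl_inj ac a r ha1 hr1
  unfold gl
  omega

end Cfsg.Agent.Lib.Helper93_E8C_Core
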