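import Cfsg.Agent.Lib.Helper93_E8C_Tab
import Cfsg.Agent.Lib.Helper18_ChevData5

set_option autoImplicit false

/-!
Package GRAD-A of S5751 (architect helper4): the level function `lv` of `E₈` is a grading.
-/

namespace Cfsg.Agent.Lib.Helper93_E8C_GRADA

open Cfsg Cfsg.Lie Cfsg.Agent.Lib.Helper18_MatTri Cfsg.Agent.Lib.Helper18_ChevTri
  Cfsg.Agent.Lib.Helper4_E8Defs Cfsg.Agent.Lib.Helper93_E8C_Tab

/-- The datum `E₈` is one of the tabulated data. -/
theorem D8_mem : D8 ∈ [chevG2, chevB2, chevD4, chevF4, chevE6, chevE7, chevE8] := by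
  unfold D8
  simp only [List.mem_cons, List.not_mem_nil, or_false]
  right; right; right; right; right; right
  trivial

/-- GRAD-A.  `lv` is a grading. -/
theorem isGrading_lv : IsGrading D8 lv := by
  obtain ⟨Ns, w, d, Ts, hT, K, base, stepT, wl, ws, sc, c, tc, -, -, -⟩ :=
    Cfsg.Agent.Lib.Helper18_ChevData5.exists_cert5 D8 D8_mem
  exact isGrading_lv_of c tc

end Cfsg.Agent.Lib.Helper93_E8C_GRADA
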