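import Cfsg.Agent.Lib.Helper4_E8Defs

set_option autoImplicit false

/-!
Table facts of the datum `E₈` used by the packages GRAD-A, CONJX and BADJ of S5751 (architect helper4), all checked by
the kernel on the tables.
-/

namespace Cfsg.Agent.Lib.Helper93_E8C_Tab

open Cfsg Cfsg.Lie Cfsg.Agent.Lib.Helper18_MatTri Cfsg.Agent.Lib.Helper18_ChevTri
  Cfsg.Agent.Lib.Helper4_E8Defs

/-! ### Sizes -/

theorem nroots_eq : D8.nroots = 240 := by decide +kernel

theorem rank_eq : D8.rank = 8 := by decide +kernel

theorem lt_nroots {r : ℕ} (h : r < 240) : r < D8.nroots := by rw [nroots_eq]; exact h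

theorem lt_240 {r : ℕ} (h : r < D8.nroots) : r < 240 := by rw [nroots_eq] at h; exact h

theorem three_lt_rank : 3 < D8.rank := by rw [rank_eq]; norm_num

/-! ### The level function -/

/-- The weights of the level function: the coefficients of the fundamental weight `ω₄`. -/
def w8 : List ℤ := [10, 15, 20, 30, 24, 18, 12, 6]

set_option maxHeartbeats 0 in
theorem lv_eq_grL : ∀ r < 240, lv r = grL D8 w8 r := by decide +kernel

theorem lv_eq_grRoot (r : ℕ) (hr : r < 240) : lv r = grRoot D8 w8 r := by
  rw [lv_eq_grL r hr, grL_eq]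

theorem lv_simple_three : lv (D8.simple 3) = 1 := by decide +kernel

theorem simple_three_lt : D8.simple 3 < 240 := by decide +kernel

set_option maxHeartbeats 0 in
theorem cartan_three_le : ∀ r < 240, r ≠ D8.simple 3 → r ≠ D8.neg (D8.simple 3) →
    -1 ≤ D8.cartan 3 r ∧ D8.cartan 3 r ≤ 1 := by decide +kernel

set_option maxHeartbeats 0 in
theorem pos_of_lv_pos : ∀ r < 240, 0 < lv r → D8.IsPosRoot r := by decide +kernel

/-- The level function is a grading, from the certificates. -/
theorem isGrading_lv_of {Ns : List Cfsg.Agent.Lib.Helper18_ChevN.NData}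
    (c : Cfsg.Agent.Lib.Helper18_ChevWeyl.DCert D8 Ns) (tc : Cfsg.Agent.Lib.Helper18_ChevTorus.TCert D8) :
    IsGrading D8 lv := by
  have hg := Cfsg.Agent.Lib.Helper18_ChevAdd.isGrading_w c tc w8
  constructor
  · intro s hs
    have h1 := Cfsg.Agent.Lib.Helper18_ChevTorus.DCert.neg_lt c s hs
    unfold ChevalleyDatum.neg at h1
    rw [lv_eq_grRoot _ (lt_240 h1), lv_eq_grRoot s (lt_240 hs)]
    exact hg.neg s hs
  · intro r s u hr hs hu km hkm
    rw [lv_eq_grRoot u (lt_240 hu), lv_eq_grRoot s (lt_240 hs), lv_eq_grRoot r (lt_240 hr)]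
    exact hg.chain r s u hr hs hu km hkm

/-! ### The chains of `E₈` have length one and odd structure constants -/

set_option maxHeartbeats 0 in
theorem chain_small : ∀ r < 240, ∀ e ∈ (D8.chain.getD r #[]).toList,
    e.2.size ≤ 1 ∧ ∀ q ∈ e.2.toList, q.2 % 2 = 1 := by decide +kernel

theorem chain_size : D8.chain.size = 240 := by decide +kernel

end Cfsg.Agent.Lib.Helper93_E8C_Tab
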