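import Mathlib
import Cfsg.Agent.Lib.Helper27_EA2SUDefs
import Cfsg.Agent.Lib.Helper27_StSU_Asm
import Cfsg.Agent.Lib.Helper68_EA2
import Cfsg.Agent.Lib.Helper93_EA2_SUSQaux
import Cfsg.Agent.Lib.Helper48_EA2_SUMEM

/-!
Package EA2 SU-SQ (helper27 for architect helper68, S4625): squares of the positive root elements of `SUJ n σ` in
characteristic 2 are commutators of unitriangular elements.
-/

set_option autoImplicit false
set_option linter.unusedSectionVars false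
set_option linter.unusedVariables false

namespace Cfsg.Agent.Lib.Helper93_EA2_SUSQ

open Matrix Cfsg.Agent.Lib.Helper68_MatGrp Cfsg.Agent.Lib.Helper27_StSUDefs
  Cfsg.Agent.Lib.Helper27_StSUBasic Cfsg.Agent.Lib.Helper27_GenRow Cfsg.Agent.Lib.Helper27_EA2SUDefs
  Cfsg.Agent.Lib.Helper27_StSU_Asm
open scoped commutatorElement

variable {n : ℕ} {F : Type*} [Field F] (σ : F →+* F)

theorem rootSU_sq [CharP F 2] (hσ : ∀ x, σ (σ x) = x) (hne : ∃ e : F, σ e ≠ e) (s : ↥(SUJ n σ))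
    (hs : s ∈ rootSU n σ) : s ^ 2 ∈ ⁅UUsu n σ, UUsu n σ⁆ :=
  Cfsg.Agent.Lib.Helper93_EA2_SUSQaux.rootSU_sq_of σ hσ hne
    (Cfsg.Agent.Lib.Helper48_EA2_SUMEM.rootSU_subset σ hσ) s hs

end Cfsg.Agent.Lib.Helper93_EA2_SUSQ
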