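import Mathlib
import Cfsg.Prelude.Def_Characters
import Cfsg.Agent.Lib.Helper80_CharBasic
import Cfsg.Agent.Lib.Helper80_CharComplete
import Cfsg.Agent.Lib.Helper3_CharBridge
import Cfsg.Agent.Lib.Helper30_SelfCent3
import Cfsg.Agent.Lib.Helper17_H27Defs

/-!
# S3701, package FIN (architect helper17)

`card_lt_gen` : the character-theoretic endgame for a real element `y` of order three and an element `z`:
from PAIR (exactly two irreducible characters `θ, conj θ` separate `z` and `z⁻¹`, with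
`(θ(z) - θ(z⁻¹))² = -27`) and the class equation
`|G| ∑ (χ(z) - χ(z⁻¹)) χ(z) conj(χ(y)) / χ(1) = -729`  we get `|G| < 729`.

`card_lt_aux` : the package statement with PAIR, EQ27, FUS27.real_of as hypotheses.
-/

set_option autoImplicit false
open scoped ComplexConjugate

namespace Cfsg.Agent.Lib.Helper93_H27_FIN

open Cfsg Cfsg.Agent.Lib.Helper80_CharBasic Cfsg.Agent.Lib.Helper80_CharComplete
  Cfsg.Agent.Lib.Helper17_H27Defs

section grp
variable {G : Type*} [Group G] [Finite G]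

theorem card_lt_gen (z y : G) (hy : orderOf y = 3) (hreal : IsConj y y⁻¹)
    (hpair : ∃ θ θ' : IrrCharacter G, (∀ g : G, (θ' : G → ℂ) g = conj ((θ : G → ℂ) g)) ∧ θ ≠ θ' ∧
      ((θ : G → ℂ) z - (θ : G → ℂ) z⁻¹) ^ 2 = -27 ∧
      ∀ χ : IrrCharacter G, χ ≠ θ → χ ≠ θ' → (χ : G → ℂ) z = (χ : G → ℂ) z⁻¹)
    (hceq : (Nat.card G : ℂ) * ∑ᶠ χ : IrrCharacter G,
      ((χ : G → ℂ) z - (χ : G → ℂ) z⁻¹) * (χ : G → ℂ) z *
        conj ((χ : G → ℂ) y) / (χ : G → ℂ) 1 = -729) :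
    Nat.card G < 729 := by
  classical
  haveI := Fintype.ofFinite G
  haveI := Fintype.ofFinite (IrrCharacter G)
  obtain ⟨θ, θ', hconj, hne, hL, hrest⟩ := hpair
  obtain ⟨n, d, hn, hd, -⟩ := Cfsg.Agent.Lib.Helper30_SelfCent3.value_at_three
    (Cfsg.Agent.Lib.Helper3_CharBridge.isCharacter_of_isIrrCharacter θ.2) hy hreal
  obtain ⟨d', hd'pos, hd'⟩ := irr_apply_one θ
  have hdd : d = d' := by
    have : (d : ℂ) = (d' : ℂ) := by rw [← hd, ← hd']
    exact_mod_cast this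
  have hdpos : 0 < d := hdd ▸ hd'pos
  have hdne : (d : ℂ) ≠ 0 := by exact_mod_cast hdpos.ne'
  -- the sum has two terms
  rw [finsum_eq_sum_of_fintype] at hceq
  rw [Fintype.sum_eq_add θ θ' hne] at hceq
  swap
  · rintro χ ⟨h1, h2⟩
    rw [hrest χ h1 h2, sub_self, zero_mul, zero_mul, zero_div]
  have t1 : (θ' : G → ℂ) z = (θ : G → ℂ) z⁻¹ := by rw [hconj, ← irr_inv]
  have t2 : (θ' : G → ℂ) z⁻¹ = (θ : G → ℂ) z := by rw [hconj, ← irr_inv, inv_inv]
  have t3 : (θ' : G → ℂ) y = (n : ℂ) := by rw [hconj, hn, map_intCast]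
  have t4 : (θ' : G → ℂ) 1 = (d : ℂ) := by rw [hconj, hd, map_natCast]
  rw [t1, t2, t3, t4, hn, hd, map_intCast] at hceq
  have hsum : ((θ : G → ℂ) z - (θ : G → ℂ) z⁻¹) * (θ : G → ℂ) z * (n : ℂ) / (d : ℂ) +
      ((θ : G → ℂ) z⁻¹ - (θ : G → ℂ) z) * (θ : G → ℂ) z⁻¹ * (n : ℂ) / (d : ℂ) =
      -27 * (n : ℂ) / (d : ℂ) := by
    rw [← hL]; ring
  rw [hsum] at hceq
  -- `g n = 27 d`
  have hgn : (Nat.card G : ℂ) * (n : ℂ) = 27 * (d : ℂ) := by
    have h1 : (Nat.card G : ℂ) * (-27 * (n : ℂ) / (d : ℂ)) * (d : ℂ) = -729 * (d : ℂ) := by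
      rw [hceq]
    have h2 : (Nat.card G : ℂ) * (-27 * (n : ℂ) / (d : ℂ)) * (d : ℂ) =
        -27 * ((Nat.card G : ℂ) * (n : ℂ)) := by
      field_simp
    rw [h2] at h1
    linear_combination (-1 / 27 : ℂ) * h1
  have hgnZ : (Nat.card G : ℤ) * n = 27 * (d : ℤ) := by
    have : (((Nat.card G : ℤ) * n : ℤ) : ℂ) = ((27 * (d : ℤ) : ℤ) : ℂ) := by
      push_cast
      exact hgn
    exact_mod_cast this
  have hgpos : 0 < (Nat.card G : ℤ) := by exact_mod_cast Nat.card_pos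
  have hnpos : 0 < n := by
    by_contra hcon
    push Not at hcon
    have : (Nat.card G : ℤ) * n ≤ 0 := mul_nonpos_of_nonneg_of_nonpos hgpos.le hcon
    have : (0 : ℤ) < 27 * (d : ℤ) := by positivity
    omega
  have hgle : (Nat.card G : ℤ) ≤ 27 * (d : ℤ) := by
    rw [← hgnZ]
    nlinarith
  -- `2 d² ≤ g`
  choose deg hdegpos hdeg using fun χ : IrrCharacter G => irr_apply_one χ
  have hssd := sum_sq_degrees (G := G)
  rw [finsum_eq_sum_of_fintype] at hssd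
  have hssdN : ∑ χ : IrrCharacter G, (deg χ) ^ 2 = Nat.card G := by
    have : ((∑ χ : IrrCharacter G, (deg χ) ^ 2 : ℕ) : ℂ) = (Nat.card G : ℂ) := by
      push_cast
      rw [← hssd]
      exact Finset.sum_congr rfl fun χ _ => by rw [hdeg χ]
    exact_mod_cast this
  have hdegθ : deg θ = d := by
    have : (deg θ : ℂ) = (d : ℂ) := by rw [← hdeg θ, hd]
    exact_mod_cast this
  have hdegθ' : deg θ' = d := by
    have : (deg θ' : ℂ) = (d : ℂ) := by rw [← hdeg θ', t4]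
    exact_mod_cast this
  have h2d : d ^ 2 + d ^ 2 ≤ Nat.card G := by
    have := Finset.sum_le_sum_of_subset_of_nonneg (Finset.subset_univ ({θ, θ'} : Finset _))
      (f := fun χ => (deg χ) ^ 2) (fun χ _ _ => Nat.zero_le _)
    rw [Finset.sum_pair hne, hssdN, hdegθ, hdegθ'] at this
    exact this
  have hgleN : Nat.card G ≤ 27 * d := by exact_mod_cast hgle
  have hd13 : d ≤ 13 := by
    have h1 : d * (2 * d) ≤ d * 27 := by nlinarith
    have := Nat.le_of_mul_le_mul_left h1 hdpos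
    omega
  omega

variable {T : Subgroup G} {a b c u v : G}

theorem orderOf_ab (h : Hyp G T a b c u v) : orderOf (a * b) = 3 := by
  haveI : Fact (Nat.Prime 3) := ⟨by norm_num⟩
  have ha3 : a ^ 3 = 1 := by rw [← h.oa]; exact pow_orderOf_eq_one a
  have hb3 : b ^ 3 = 1 := by rw [← h.ob]; exact pow_orderOf_eq_one b
  have hcomm : Commute a b := h.ab
  apply orderOf_eq_prime
  · rw [hcomm.mul_pow, ha3, hb3, one_mul]
  · intro h1
    have e1 : elt a b c ((1, 1, 0) : ZMod 3 × ZMod 3 × ZMod 3) = a * b := by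
      simp [elt, ZMod.val_one]
    have e0 : elt a b c ((0, 0, 0) : ZMod 3 × ZMod 3 × ZMod 3) = 1 := by
      simp [elt]
    have := h.inj (e1.trans (h1.trans e0.symm))
    simp at this

/-- FIN with the used packages (PAIR, EQ27, FUS27.real_of) as hypotheses. -/
theorem card_lt_aux (h : Hyp G T a b c u v)
    (hreal : ∀ e : ZMod 3 × ZMod 3 × ZMod 3, (e.1 = 0 ∨ e.2.1 = 0 ∨ e.2.2 = 0) →
      IsConj (elt a b c e) (elt a b c e)⁻¹)
    (hpair : ∃ θ θ' : IrrCharacter G, (∀ g : G, (θ' : G → ℂ) g = conj ((θ : G → ℂ) g)) ∧ θ ≠ θ' ∧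
      ((θ : G → ℂ) (a * b * c) - (θ : G → ℂ) (a * b * c)⁻¹) ^ 2 = -27 ∧
      ∀ χ : IrrCharacter G, χ ≠ θ → χ ≠ θ' →
        (χ : G → ℂ) (a * b * c) = (χ : G → ℂ) (a * b * c)⁻¹)
    (hceq : (Nat.card G : ℂ) * ∑ᶠ χ : IrrCharacter G,
      ((χ : G → ℂ) (a * b * c) - (χ : G → ℂ) (a * b * c)⁻¹) * (χ : G → ℂ) (a * b * c) *
        conj ((χ : G → ℂ) (a * b)) / (χ : G → ℂ) 1 = -729) :
    Nat.card G < 729 := by
  have e1 : elt a b c ((1, 1, 0) : ZMod 3 × ZMod 3 × ZMod 3) = a * b := by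
    simp [elt, ZMod.val_one]
  have hr := hreal (1, 1, 0) (Or.inr (Or.inr rfl))
  rw [e1] at hr
  exact card_lt_gen (a * b * c) (a * b) (orderOf_ab h) hr hpair hceq

end grp

end Cfsg.Agent.Lib.Helper93_H27_FIN
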