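import Mathlib
import Cfsg.Prelude.Def_Characters
import Cfsg.Agent.Lib.Helper80_CharBasic
import Cfsg.Agent.Lib.Helper80_CharComplete
import Cfsg.Agent.Lib.Helper3_RealClasses
import Cfsg.Agent.Lib.Helper17_H27Defs

/-!
# S3701, package PAIR (architect helper17)

`pair_gen` : for an element `z` of a finite group with `|C(z)| = 27`, `z` not conjugate to `z⁻¹`, and
`(χ(z) - χ(z⁻¹))² = -27 k_χ²` with `k_χ ∈ ℤ` for all irreducible `χ`: exactly two irreducible characters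
`θ, θ' = conj θ` have `χ(z) ≠ χ(z⁻¹)`, and `(θ(z) - θ(z⁻¹))² = -27`.

`pair_aux` : the package statement with LAM, CENT27, FUS27.not_conj as hypotheses.
-/

set_option autoImplicit false
open scoped ComplexConjugate

namespace Cfsg.Agent.Lib.Helper93_H27_PAIR

open Cfsg Cfsg.Agent.Lib.Helper80_CharBasic Cfsg.Agent.Lib.Helper80_CharComplete
  Cfsg.Agent.Lib.Helper17_H27Defs Cfsg.Agent.Lib.Helper3_RealClasses

section grp
variable {G : Type*} [Group G] [Finite G]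

theorem pair_gen (z : G)
    (hlam : ∀ χ : IrrCharacter G, ∃ k : ℤ,
      ((χ : G → ℂ) z - (χ : G → ℂ) z⁻¹) ^ 2 = -27 * (k : ℂ) ^ 2)
    (hc : Nat.card (Subgroup.centralizer ({z} : Set G)) = 27)
    (hnc : ¬ IsConj z z⁻¹) :
    ∃ θ θ' : IrrCharacter G, (∀ g : G, (θ' : G → ℂ) g = conj ((θ : G → ℂ) g)) ∧ θ ≠ θ' ∧
      ((θ : G → ℂ) z - (θ : G → ℂ) z⁻¹) ^ 2 = -27 ∧
      ∀ χ : IrrCharacter G, χ ≠ θ → χ ≠ θ' → (χ : G → ℂ) z = (χ : G → ℂ) z⁻¹ := by
  classical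
  haveI := Fintype.ofFinite G
  haveI := Fintype.ofFinite (IrrCharacter G)
  choose k hk using hlam
  have hnc' : ¬ IsConj z⁻¹ z := fun h => hnc h.symm
  -- the three second orthogonality relations
  have h1 := (second_orthogonality z z⁻¹).2 hnc
  have h2 := (second_orthogonality z⁻¹ z).2 hnc'
  have h3 := (second_orthogonality z z).1 (IsConj.refl z)
  rw [finsum_eq_sum_of_fintype] at h1 h2 h3
  rw [hc] at h3
  have e1 : ∀ χ : IrrCharacter G, (χ : G → ℂ) z * conj ((χ : G → ℂ) z⁻¹) = (χ : G → ℂ) z ^ 2 := by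
    intro χ
    rw [irr_inv, Complex.conj_conj, sq]
  have e2 : ∀ χ : IrrCharacter G,
      (χ : G → ℂ) z⁻¹ * conj ((χ : G → ℂ) z) = (χ : G → ℂ) z⁻¹ ^ 2 := by
    intro χ
    rw [← irr_inv, sq]
  have e3 : ∀ χ : IrrCharacter G,
      (χ : G → ℂ) z * conj ((χ : G → ℂ) z) = (χ : G → ℂ) z * (χ : G → ℂ) z⁻¹ := by
    intro χ
    rw [← irr_inv]
  simp only [e1] at h1
  simp only [e2] at h2
  simp only [e3] at h3
  have hsum : ∑ χ : IrrCharacter G, ((χ : G → ℂ) z - (χ : G → ℂ) z⁻¹) ^ 2 = -54 := by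
    have : ∀ χ : IrrCharacter G, ((χ : G → ℂ) z - (χ : G → ℂ) z⁻¹) ^ 2 =
        (χ : G → ℂ) z ^ 2 - 2 * ((χ : G → ℂ) z * (χ : G → ℂ) z⁻¹) + (χ : G → ℂ) z⁻¹ ^ 2 := by
      intro χ; ring
    simp only [this]
    rw [Finset.sum_add_distrib, Finset.sum_sub_distrib, ← Finset.mul_sum, h1, h2, h3]
    norm_num
  have hsumk : ∑ χ : IrrCharacter G, (k χ) ^ 2 = 2 := by
    have : ∑ χ : IrrCharacter G, (-27 : ℂ) * ((k χ : ℂ)) ^ 2 = -54 := by
      rw [← hsum]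
      exact Finset.sum_congr rfl fun χ _ => (hk χ).symm
    rw [← Finset.mul_sum] at this
    have h2' : ∑ χ : IrrCharacter G, ((k χ : ℂ)) ^ 2 = 2 := by
      have h27 : (-27 : ℂ) ≠ 0 := by norm_num
      apply mul_left_cancel₀ h27
      rw [this]; norm_num
    have : ((∑ χ : IrrCharacter G, (k χ) ^ 2 : ℤ) : ℂ) = ((2 : ℤ) : ℂ) := by
      push_cast
      exact h2'
    exact_mod_cast this
  -- some `k θ ≠ 0`
  obtain ⟨θ, hθ⟩ : ∃ θ : IrrCharacter G, k θ ≠ 0 := by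
    by_contra hcon
    push Not at hcon
    have : ∑ χ : IrrCharacter G, (k χ) ^ 2 = 0 :=
      Finset.sum_eq_zero fun χ _ => by rw [hcon χ]; ring
    omega
  set θ' : IrrCharacter G := conjIrr θ with hθ'
  have hθ'app : ∀ g : G, (θ' : G → ℂ) g = conj ((θ : G → ℂ) g) := fun g => conjIrr_apply θ g
  have hneg : (θ' : G → ℂ) z - (θ' : G → ℂ) z⁻¹ = -((θ : G → ℂ) z - (θ : G → ℂ) z⁻¹) := by
    rw [hθ'app, hθ'app, ← irr_inv, ← irr_inv, inv_inv]
    ring
  have hLne : ((θ : G → ℂ) z - (θ : G → ℂ) z⁻¹) ≠ 0 := by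
    intro h0
    have := hk θ
    rw [h0] at this
    have hk0 : (k θ : ℂ) ^ 2 = 0 := by
      have h27 : (-27 : ℂ) ≠ 0 := by norm_num
      apply mul_left_cancel₀ h27
      rw [← this]; norm_num
    have : (k θ : ℂ) = 0 := by simpa using hk0
    exact hθ (by exact_mod_cast this)
  have hne : θ ≠ θ' := by
    intro heq
    rw [← heq] at hneg
    apply hLne
    have : (2 : ℂ) * ((θ : G → ℂ) z - (θ : G → ℂ) z⁻¹) = 0 := by
      linear_combination hneg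
    rcases mul_eq_zero.mp this with h | h
    · norm_num at h
    · exact h
  have hksq : (k θ') ^ 2 = (k θ) ^ 2 := by
    have h1' := hk θ'
    rw [hneg, neg_sq, hk θ] at h1'
    have h27 : (-27 : ℂ) ≠ 0 := by norm_num
    have := mul_left_cancel₀ h27 h1'
    have : (((k θ') ^ 2 : ℤ) : ℂ) = (((k θ) ^ 2 : ℤ) : ℂ) := by
      push_cast
      exact this.symm
    exact_mod_cast this
  have hk1 : 1 ≤ (k θ) ^ 2 := by
    have := sq_nonneg (k θ)
    have h0 : (k θ) ^ 2 ≠ 0 := pow_ne_zero 2 hθ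
    omega
  have hnn : ∀ χ ∈ (Finset.univ : Finset (IrrCharacter G)), 0 ≤ (k χ) ^ 2 :=
    fun χ _ => sq_nonneg _
  have hpairle : (k θ) ^ 2 + (k θ') ^ 2 ≤ 2 := by
    have := Finset.sum_le_sum_of_subset_of_nonneg (Finset.subset_univ ({θ, θ'} : Finset _))
      (f := fun χ => (k χ) ^ 2) (fun χ _ _ => sq_nonneg _)
    rw [Finset.sum_pair hne, hsumk] at this
    exact this
  have hk1' : (k θ) ^ 2 = 1 := by omega
  refine ⟨θ, θ', hθ'app, hne, ?_, ?_⟩
  · rw [hk θ]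
    have : ((k θ : ℂ)) ^ 2 = 1 := by exact_mod_cast hk1'
    rw [this]; norm_num
  · intro χ hχ1 hχ2
    have h3le : (k χ) ^ 2 + ((k θ) ^ 2 + (k θ') ^ 2) ≤ 2 := by
      have := Finset.sum_le_sum_of_subset_of_nonneg
        (Finset.subset_univ ({χ, θ, θ'} : Finset _))
        (f := fun χ => (k χ) ^ 2) (fun χ _ _ => sq_nonneg _)
      rw [Finset.sum_insert (by simp [hχ1, hχ2]), Finset.sum_pair hne, hsumk] at this
      exact this
    have hk0 : (k χ) ^ 2 = 0 := by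
      have := sq_nonneg (k χ)
      omega
    have := hk χ
    have hk0' : ((k χ : ℂ)) ^ 2 = 0 := by exact_mod_cast hk0
    rw [hk0', mul_zero] at this
    have : (χ : G → ℂ) z - (χ : G → ℂ) z⁻¹ = 0 := by simpa using this
    exact sub_eq_zero.mp this

variable {T : Subgroup G} {a b c u v : G}

/-- PAIR with the used packages (LAM, CENT27, FUS27.not_conj) as hypotheses. -/
theorem pair_aux
    (hlam : ∀ χ : IrrCharacter G, ∃ k : ℤ,
      ((χ : G → ℂ) (a * b * c) - (χ : G → ℂ) (a * b * c)⁻¹) ^ 2 = -27 * (k : ℂ) ^ 2)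
    (hcent : Nat.card (Subgroup.centralizer ({a * b * c} : Set G)) = 27 ∧
      Nat.card (Subgroup.centralizer ({(a * b * c)⁻¹} : Set G)) = 27)
    (hnc : ¬ IsConj (a * b * c) (a * b * c)⁻¹ ∧ ¬ IsConj (a * b) (a * b * c) ∧
      ¬ IsConj (a * b) (a * b * c)⁻¹) :
    ∃ θ θ' : IrrCharacter G, (∀ g : G, (θ' : G → ℂ) g = conj ((θ : G → ℂ) g)) ∧ θ ≠ θ' ∧
      ((θ : G → ℂ) (a * b * c) - (θ : G → ℂ) (a * b * c)⁻¹) ^ 2 = -27 ∧
      ∀ χ : IrrCharacter G, χ ≠ θ → χ ≠ θ' →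
        (χ : G → ℂ) (a * b * c) = (χ : G → ℂ) (a * b * c)⁻¹ :=
  pair_gen (a * b * c) hlam hcent.1 hnc.1

end grp

end Cfsg.Agent.Lib.Helper93_H27_PAIR
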