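import Mathlib
import Cfsg.Prelude.Def_Characters
import Cfsg.Prelude.Def_TwoFusion
import Cfsg.Prelude.Def_Solvable
import Cfsg.Agent.Lib.Helper80_CharBasic
import Cfsg.Agent.Lib.Helper80_CharComplete
import Cfsg.Agent.Lib.Helper17_H27Defs
import Cfsg.Agent.Lib.Helper76_H648Defs
import Cfsg.Agent.Lib.Helper93_H648_CLSCaux
import Cfsg.Agent.Lib.Helper52_H648_PERM
import Cfsg.Agent.Lib.Helper86_H648_STRUCT
import Cfsg.Agent.Lib.Helper99_H648_CONJJ
import Cfsg.Agent.Lib.Helper99_H648_CENTJ
import Cfsg.Agent.Lib.Helper10_H648_NORM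
import Cfsg.Agent.Lib.Helper2_H648_FUS

/-!
S3702 (architect helper76, market `h648_packages`), package CLS-C, verbatim: the nine special class representatives
are pairwise non-conjugate in `G`.  Assembled from `Helper93_H648_CLSCaux.rep_nconj_aux`, PERM (helper52), and
`special_fus` obtained from the landed `special_fus_aux` (helper2), `normalizer_eq_aux` (helper10), CONJJ, CENTJ
(helper99), STRUCT (helper86).
-/

set_option autoImplicit false
set_option linter.unusedVariables false
set_option linter.unusedSectionVars false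
open scoped ComplexConjugate

namespace Cfsg.Agent.Lib.Helper93_H648_CLSC

open Cfsg Cfsg.Agent.Lib.Helper80_CharBasic
  Cfsg.Agent.Lib.Helper76_H648Defs
open Cfsg.Agent.Lib.Helper17_H27Defs (elt)

section grp
variable {G : Type*} [Group G] [Finite G]
variable {H J : Subgroup G} {a b c σ u v s : G}

/-- NORM (`N_G(J) = H`), assembled from the landed pieces -/
theorem normalizer_eq' (h : Hyp G H J a b c σ u v s) :
    Subgroup.normalizer (J : Set G) = H := by
  have hs := Cfsg.Agent.Lib.Helper86_H648_STRUCT.struct h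
  exact Cfsg.Agent.Lib.Helper10_H648_NORM.normalizer_eq_aux h
    (fun e he => Cfsg.Agent.Lib.Helper99_H648_CONJJ.conjJ h e he)
    (Cfsg.Agent.Lib.Helper99_H648_CENTJ.centJ h) hs.2.2.2.2.2.1 hs.2.2.2.2.2.2.1

/-- FUS, third statement, assembled from the landed pieces -/
theorem special_fus' (h : Hyp G H J a b c σ u v s) {x g : G} {m : ℕ} (hm : x ^ m ∈ J)
    (hm1 : x ^ m ≠ 1) (hg : g * x * g⁻¹ ∈ H) : g ∈ H :=
  Cfsg.Agent.Lib.Helper2_H648_FUS.special_fus_aux h (normalizer_eq' h)
    (Cfsg.Agent.Lib.Helper86_H648_STRUCT.struct h).2.2.2.1 hm hm1 hg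

theorem rep_nconj (h : Hyp G H J a b c σ u v s) (i k : Fin 9) (hik : i ≠ k) :
    ¬ IsConj (rep9 a b c σ u v s i) (rep9 a b c σ u v s k) :=
  Cfsg.Agent.Lib.Helper93_H648_CLSCaux.rep_nconj_aux h (fun hm hm1 hg => special_fus' h hm hm1 hg)
    Cfsg.Agent.Lib.Helper52_H648_PERM.perm_param.1 i k hik

end grp

end Cfsg.Agent.Lib.Helper93_H648_CLSC
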