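import Mathlib
import Cfsg.Agent.Lib.Helper83_HP2Defs
import Cfsg.Agent.Lib.Helper43_HP2_BASIC
import Cfsg.Agent.Lib.Helper10_HP2_Z4
import Cfsg.Agent.Lib.Helper61_HP2_ROT
import Cfsg.Agent.Lib.Helper65_HP2_ROTB
import Cfsg.Agent.Lib.Helper53_HP2_RINV
import Cfsg.Agent.Lib.Helper70_Q2_TAN
import Cfsg.Agent.Lib.Helper93_HP2_T2B

set_option autoImplicit false
set_option linter.unusedSectionVars false
set_option linter.unusedVariables false

/-!
HP2 market (helper83 architect), package **HP2-T2N**: a vector whose reflection lies in `M₁` and which has at least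
two nonzero coordinates has no singular coordinate.
-/

namespace Cfsg.Agent.Lib.Helper93_HP2_T2N

open Module Cfsg.Agent.Lib.Helper94_Symp Cfsg.Agent.Lib.Helper94_OrthSmall
  Cfsg.Agent.Lib.Helper94_OrthSiegel Cfsg.Agent.Lib.Helper94_OrthNondeg
  Cfsg.Agent.Lib.Helper29_ODDefs Cfsg.Agent.Lib.Helper94_Q2Defs Cfsg.Agent.Lib.Helper83_HP2Defs
  Cfsg.Agent.Lib.Helper43_HP2_BASIC
open scoped commutatorElement

variable {F : Type*} [Field F] [Finite F] {t : ℕ} {S M L : Subgroup (PV F t ≃ₗ[F] PV F t)}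

/-- **HP2-T2N** -/
theorem T2N (hC : PCtx2 F t S M) (h2 : (2 : F) ≠ 0) {d : F} (hd : d ≠ 0)
    (hFS : ∀ g ∈ M, g ∉ S → ∀ x, IsPBl x → ¬ IsSquare (d * pQ F t x) → ∀ l, g x l ≠ 0)
    {M₁ : Subgroup (PV F t ≃ₗ[F] PV F t)} (hM₁ : M ≤ M₁) (hM₁O : M₁ ≤ oG (pQ F t))
    (hM₁F : ∀ g ∈ M₁, ∃ g' ∈ M, ∃ r ∈ S, r ∈ oG (pQ F t) ∧ g = g' * r)
    (hB : ∀ v, PInRc M₁ v → 2 ≤ (PSupp v).card → ∀ l, v l ≠ 0) :
    ∀ v, PInRc M₁ v → 2 ≤ (PSupp v).card → ∀ l, ¬ Sing (v l) := by
  classical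
  intro v hv hcard l hsing
  have hvall := hB v hv hcard
  have hvl := hvall l
  obtain ⟨hQv, hrM⟩ := hv
  have ht := hC.ht
  -- the rotation
  obtain ⟨a, ha0, ha4⟩ := Cfsg.Agent.Lib.Helper10_HP2_Z4.Z4 (F := F) hC.hq
  set c₀ : F := a ^ 2 with hc₀
  have hc₀0 : c₀ ≠ 0 := pow_ne_zero 2 ha0
  have hc₀1 : c₀ ≠ 1 := by
    intro h
    apply ha4
    have : a ^ 4 = c₀ ^ 2 := by rw [hc₀]; ring
    rw [this, h, one_pow]
  have hc₀i : c₀⁻¹ ≠ 1 := by
    intro h
    apply hc₀1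
    rw [← inv_inv c₀, h, inv_one]
  obtain ⟨h, hhO, hhS, hhx⟩ := Cfsg.Agent.Lib.Helper61_HP2_ROT.ROT S hC.hS
    (Function.update (fun _ => (1 : F)) l c₀) (by
      intro j
      by_cases hj : j = l
      · subst hj; rw [Function.update_self]; exact hc₀0
      · rw [Function.update_of_ne hj]; exact one_ne_zero)
  have hhx' : ∀ x j, h x j = if j = l then rotAct (a ^ 2) (x j) else x j := by
    intro x j
    rw [hhx]
    by_cases hj : j = l
    · subst hj
      rw [Function.update_self, if_pos rfl]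
    · rw [Function.update_of_ne hj, if_neg hj]
      unfold rotAct
      simp
  have hhOm : h ∈ pOm F t := Cfsg.Agent.Lib.Helper65_HP2_ROTB.ROTB ha0 h hhx'
  have hHM : S ⊓ pOm F t ≤ M := hC.hmin.le
  have hhM : h ∈ M := hHM ⟨hhS, hhOm⟩
  have hhM₁ : h ∈ M₁ := hM₁ hhM
  -- `h v`
  have hhv := Cfsg.Agent.Lib.Helper53_HP2_RINV.RINV hM₁O (⟨hQv, hrM⟩ : PInRc M₁ v) hhM₁
  obtain ⟨hQhv, hrhM⟩ := hhv
  have hQeq : pQ F t v = pQ F t (h v) := (hhO v).symm
  -- `u = v - h v`
  set u : PV F t := v - h v with hu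
  have hul : u l = ((1 - c₀) * (v l).1, (1 - c₀⁻¹) * (v l).2) := by
    rw [hu, Pi.sub_apply, hhx', if_pos rfl]
    unfold rotAct
    ext
    · simp only [Prod.fst_sub, ← hc₀]; ring
    · simp only [Prod.snd_sub, ← hc₀]; ring
  have huj : ∀ j, j ≠ l → u j = 0 := by
    intro j hj
    rw [hu, Pi.sub_apply, hhx', if_neg hj, sub_self]
  have humem : u ∈ pD F t l := huj
  have hQu : pQ F t u = 0 := by
    rw [pQ_of_mem humem, hul]
    have hs : (v l).1 * (v l).2 = 0 := hsing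
    show (1 - c₀) * (v l).1 * ((1 - c₀⁻¹) * (v l).2) = 0
    linear_combination ((1 - c₀) * (1 - c₀⁻¹)) * hs
  have hul0 : u l ≠ 0 := by
    intro h0
    rw [hul] at h0
    have h1 := congrArg Prod.fst h0
    have h2' := congrArg Prod.snd h0
    simp only [Prod.fst_zero, Prod.snd_zero] at h1 h2'
    have e1 : (v l).1 = 0 := by
      rcases mul_eq_zero.mp h1 with h | h
      · exact absurd (sub_eq_zero.mp h).symm hc₀1
      · exact h
    have e2 : (v l).2 = 0 := by
      rcases mul_eq_zero.mp h2' with h | h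
      · exact absurd (sub_eq_zero.mp h).symm hc₀i
      · exact h
    apply hvl
    ext
    · exact e1
    · exact e2
  -- `ψ`
  set ψ : PV F t ≃ₗ[F] PV F t := prefl F t hQhv * prefl F t hQv with hψ
  have hψM₁ : ψ ∈ M₁ := M₁.mul_mem hrhM hrM
  have hψsieg : ψ = sieg (pQ F t) (pB F t) u ((pQ F t v)⁻¹ • v) :=
    Cfsg.Agent.Lib.Helper70_Q2_TAN.TAN (pQ F t) (pB F t) (pQs F t) (pQp F t) hQv hQhv hQeq hQu
  have hψOm : ψ ∈ pOm F t := by
    have hconj := conj_refl (pQ F t) (pB F t) (pQs F t) (pQp F t) hhO hQv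
    have e : ψ = ⁅h, prefl F t hQv⁆ := by
      rw [commutatorElement_def, refl_inv, hconj]
    rw [e]
    exact Subgroup.commutator_mem_commutator hhO (refl_mem (pQ F t) (pB F t) (pQs F t) (pQp F t) hQv)
  have hψM : ψ ∈ M := by
    obtain ⟨g', hg'M, r, hrS, hrO, hfac⟩ := hM₁F ψ hψM₁
    have hr : r = g'⁻¹ * ψ := by rw [hfac]; group
    have hrOm : r ∈ pOm F t := by
      rw [hr]
      exact (pOm F t).mul_mem ((pOm F t).inv_mem (hC.hMO hg'M)) hψOm
    rw [hfac]
    exact M.mul_mem hg'M (hHM ⟨hrS, hrOm⟩)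
  -- the action of `ψ` on the other planes
  have hψx : ∀ j, j ≠ l → ∀ x ∈ pD F t j,
      ψ x = x - ((pQ F t v)⁻¹ * pB F t x v) • u := by
    intro j hj x hx
    have hBxu : pB F t x u = 0 := by
      rw [pB_of_mem humem x, hx l (Ne.symm hj)]
      simp
    have hBuz : pB F t u ((pQ F t v)⁻¹ • v) = 0 := by
      rw [map_smul, smul_eq_mul]
      have := Cfsg.Agent.Lib.Helper70_Q2_TAN.tan_orth (pQ F t) (pB F t) (pQs F t) (pQp F t) hQeq hQu
      rw [this, mul_zero]
    rw [hψsieg, sieg_apply (pQ F t) (pB F t) (pQs F t) (pQp F t) hQu hBuz, hBxu, map_smul,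
      smul_eq_mul]
    simp
  -- another coordinate
  obtain ⟨j, hjl⟩ : ∃ j : Fin t, j ≠ l := by
    by_cases h0 : l = ⟨0, by omega⟩
    · exact ⟨⟨1, by omega⟩, by rw [h0]; intro h; simpa using congrArg Fin.val h⟩
    · exact ⟨⟨0, by omega⟩, fun h => h0 h.symm⟩
  have hvj := hvall j
  -- `ψ ∉ S`
  have hψS : ψ ∉ S := by
    intro hmem
    obtain ⟨σ, hσ⟩ := (hC.hS _).mp hmem
    obtain ⟨ξ, hξB⟩ : ∃ ξ : F × F, (v j).1 * ξ.2 + (v j).2 * ξ.1 ≠ 0 := by
      by_cases hβ : (v j).2 = 0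
      · have hα : (v j).1 ≠ 0 := by
          intro h
          apply hvj
          ext
          · exact h
          · exact hβ
        exact ⟨(0, 1), by simpa [hβ] using hα⟩
      · exact ⟨(1, 0), by simpa using hβ⟩
    set x : PV F t := Pi.single j ξ with hxdef
    have hxj : x ∈ pD F t j := single_mem j _
    have hBxv : pB F t x v = (v j).1 * ξ.2 + (v j).2 * ξ.1 := by
      rw [Cfsg.Agent.Lib.Helper93_HP2_T2B.pB_of_mem_left hxj, hxdef, Pi.single_eq_same]
    set c : F := (pQ F t v)⁻¹ * pB F t x v with hcdef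
    have hc : c ≠ 0 := by
      rw [hcdef, hBxv]
      exact mul_ne_zero (inv_ne_zero hQv) hξB
    have hξ0 : ξ ≠ 0 := by
      intro h
      apply hξB
      rw [h]
      simp
    have himg : ψ x ∈ pD F t (σ j) := by
      rw [← hσ j]
      exact Submodule.mem_map_of_mem hxj
    have hcl : (ψ x) l ≠ 0 := by
      rw [hψx j hjl x hxj, Pi.sub_apply, Pi.smul_apply, hxdef, Pi.single_eq_of_ne (Ne.symm hjl),
        zero_sub, neg_ne_zero]
      exact smul_ne_zero hc hul0
    have hcj : (ψ x) j ≠ 0 := by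
      rw [hψx j hjl x hxj, Pi.sub_apply, Pi.smul_apply, huj j hjl, smul_zero, sub_zero, hxdef,
        Pi.single_eq_same]
      exact hξ0
    have h1 : l = σ j := by
      by_contra hne
      exact hcl (himg l hne)
    have h3 : j = σ j := by
      by_contra hne
      exact hcj (himg j hne)
    exact hjl (h3.trans h1.symm)
  -- a non-square
  have hchar : ringChar F ≠ 2 := by
    intro h
    apply h2
    have h0 : ((ringChar F : ℕ) : F) = 0 := ringChar.Nat.cast_ringChar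
    rw [h] at h0
    exact_mod_cast h0
  obtain ⟨n, hn⟩ := FiniteField.exists_nonsquare hchar
  have hn0 : n ≠ 0 := by
    intro h
    apply hn
    rw [h]
    exact ⟨0, by ring⟩
  set x : PV F t := Pi.single j (n / d, 1) with hxdef
  have hxj : x ∈ pD F t j := single_mem j _
  have hQx : pQ F t x = n / d := by
    rw [pQ_of_mem hxj, hxdef, Pi.single_eq_same, mul_one]
  have hdn : d * (n / d) = n := by field_simp
  have hxBl : IsPBl x := ⟨by rw [hQx]; exact div_ne_zero hn0 hd, j, hxj⟩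
  -- a third coordinate
  obtain ⟨i, hil, hij⟩ : ∃ i : Fin t, i ≠ l ∧ i ≠ j := by
    have hcard3 : 2 < (Finset.univ : Finset (Fin t)).card := by
      rw [Finset.card_univ, Fintype.card_fin]; omega
    have hlt : ({l, j} : Finset (Fin t)).card < (Finset.univ : Finset (Fin t)).card :=
      lt_of_le_of_lt Finset.card_le_two hcard3
    obtain ⟨i, -, hi⟩ := Finset.exists_mem_notMem_of_card_lt_card hlt
    simp only [Finset.mem_insert, Finset.mem_singleton, not_or] at hi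
    exact ⟨i, hi.1, hi.2⟩
  have hkey := hFS ψ hψM hψS x hxBl (by rw [hQx, hdn]; exact hn) i
  apply hkey
  rw [hψx j hjl x hxj, Pi.sub_apply, Pi.smul_apply, huj i hil, smul_zero, sub_zero, hxdef,
    Pi.single_eq_of_ne hij]

end Cfsg.Agent.Lib.Helper93_HP2_T2N
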