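import Cfsg.Agent.Lib.Helper47_IsoBase
import Cfsg.Agent.Lib.Helper21_FStar
import Cfsg.Agent.Lib.Helper22_Layer
import Cfsg.Agent.Lib.Helper22_Quasisimple
import Cfsg.Agent.Lib.Helper29_Local
import Cfsg.Agent.Lib.Helper48_Trans2

/-!
# S3044 / S3045, package QUOT (architect helper47)

For `Y ⊴ G`: `O_p(Y) = O_p(G) ∩ Y` and `Y / O_p(Y)` embeds in `G / O_p(G)`.
-/

set_option autoImplicit false

open Cfsg
open Cfsg.Agent.Lib.Helper47_IsoBase Cfsg.Agent.Lib.Helper47_SubAPI Cfsg.Agent.Lib.Helper48_Op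
open scoped commutatorElement Pointwise

namespace Cfsg.Agent.Lib.Helper93_Iso_QUOT

universe u

variable {G : Type u} [Group G] [Finite G] {p : ℕ} [Fact p.Prime] {S : Sylow p G} {P L : Subgroup G}

theorem pCore_eq_subgroupOf (Y : Subgroup G) [Y.Normal] :
    Cfsg.pCore p ↥Y = (Cfsg.pCore p G).subgroupOf Y := by
  apply le_antisymm
  · intro y hy
    rw [Subgroup.mem_subgroupOf]
    have hchar : (Cfsg.pCore p ↥Y).Characteristic :=
      Cfsg.Agent.Lib.Helper1_Cores.instPCoreCharacteristic p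
    have hn : ((Cfsg.pCore p ↥Y).map Y.subtype).Normal :=
      ConjAct.normal_of_characteristic_of_normal
    have hpg : IsPGroup p ↥((Cfsg.pCore p ↥Y).map Y.subtype) :=
      (Cfsg.Agent.Lib.Helper1_Cores.pCore_isPGroup p).map _
    exact Cfsg.Agent.Lib.Helper1_Cores.le_pCore hn hpg (Subgroup.mem_map_of_mem _ hy)
  · apply Cfsg.Agent.Lib.Helper1_Cores.le_pCore
    · exact Subgroup.Normal.subgroupOf (Cfsg.Agent.Lib.Helper1_Cores.pCore_normal p) Y
    · exact (Cfsg.Agent.Lib.Helper1_Cores.pCore_isPGroup p).comap_subtype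

theorem exists_quot_hom (Y : Subgroup G) [Y.Normal] :
    ∃ φ : (↥Y ⧸ Cfsg.pCore p ↥Y) →* (G ⧸ Cfsg.pCore p G), Function.Injective φ ∧
      ∀ y : ↥Y, φ (QuotientGroup.mk y) = QuotientGroup.mk (y : G) := by
  have hle : Cfsg.pCore p ↥Y ≤ (Cfsg.pCore p G).comap Y.subtype := by
    rw [pCore_eq_subgroupOf Y]
    exact le_refl _
  refine ⟨QuotientGroup.map (Cfsg.pCore p ↥Y) (Cfsg.pCore p G) Y.subtype hle, ?_, ?_⟩
  · rw [injective_iff_map_eq_one]
    intro x
    induction x using QuotientGroup.induction_on with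
    | H y =>
      intro hy
      rw [QuotientGroup.map_mk] at hy
      have h1 : (y : G) ∈ Cfsg.pCore p G := (QuotientGroup.eq_one_iff _).mp hy
      have h2 : y ∈ Cfsg.pCore p ↥Y := by
        rw [pCore_eq_subgroupOf Y, Subgroup.mem_subgroupOf]
        exact h1
      exact (QuotientGroup.eq_one_iff _).mpr h2
  · intro y
    rfl

end Cfsg.Agent.Lib.Helper93_Iso_QUOT
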