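/-
Helper library (helper93): short vectors of the Leech lattice congruent modulo 2Λ, assuming the minimum norm.
-/
import Mathlib
import Cfsg.Prelude.Def_Sporadic_a

set_option autoImplicit false

namespace Cfsg.Agent.Lib.Helper93_LeechShort

open Cfsg

theorem sqNorm_add_sub (x y : GolayPt → ℤ) :
    sqNorm (x + y) + sqNorm (x - y) = 2 * sqNorm x + 2 * sqNorm y := by
  unfold sqNorm
  rw [← Finset.sum_add_distrib, Finset.mul_sum, Finset.mul_sum, ← Finset.sum_add_distrib]
  apply Finset.sum_congr rfl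
  intro i _
  simp only [Pi.add_apply, Pi.sub_apply]
  ring

theorem sqNorm_add_eq (x y : GolayPt → ℤ) :
    sqNorm (x + y) = sqNorm x + sqNorm y + 2 * dotInt x y := by
  unfold sqNorm dotInt
  rw [Finset.mul_sum, ← Finset.sum_add_distrib, ← Finset.sum_add_distrib]
  apply Finset.sum_congr rfl
  intro i _
  simp only [Pi.add_apply]
  ring

theorem sqNorm_two_smul (z : GolayPt → ℤ) : sqNorm (2 • z) = 4 * sqNorm z := by
  unfold sqNorm
  rw [Finset.mul_sum]
  apply Finset.sum_congr rfl
  intro i _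
  simp only [Pi.smul_apply]
  ring

/-- Given the minimum norm 32 of the lattice, the statement on short vectors congruent mod 2Λ. -/
theorem short_congruent (hmin : ∀ v : GolayPt → ℤ, v ∈ leechLattice → v ≠ 0 → 32 ≤ sqNorm v)
    (x y : GolayPt → ℤ) (_hx : x ∈ leechLattice) (hy : y ∈ leechLattice) (hxy : x ≠ y)
    (hxn : sqNorm x ≤ 64) (hyn : sqNorm y ≤ 64) (hc : ∃ z ∈ leechLattice, x - y = 2 • z) :
    x = -y ∨ (sqNorm x = 64 ∧ sqNorm y = 64 ∧ dotInt x y = 0) := by
  obtain ⟨z, hz, hxyz⟩ := hc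
  by_cases hneg : x = -y
  · left; exact hneg
  right
  have hz0 : z ≠ 0 := by
    intro h
    rw [h, smul_zero, sub_eq_zero] at hxyz
    exact hxy hxyz
  have h1 : 32 ≤ sqNorm z := hmin z hz hz0
  have h2 : sqNorm (x - y) = 4 * sqNorm z := by rw [hxyz, sqNorm_two_smul]
  -- x + y = 2 (z + y)
  have hzy : z + y ∈ leechLattice := leechLattice.add_mem hz hy
  have hxy2 : x + y = 2 • (z + y) := by
    have : x = 2 • z + y := by rw [← hxyz]; abel
    rw [this, smul_add, two_smul, two_smul]; abel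
  have hzy0 : z + y ≠ 0 := by
    intro h
    rw [h, smul_zero] at hxy2
    apply hneg
    exact eq_neg_of_add_eq_zero_left hxy2
  have h3 : 32 ≤ sqNorm (z + y) := hmin _ hzy hzy0
  have h4 : sqNorm (x + y) = 4 * sqNorm (z + y) := by rw [hxy2, sqNorm_two_smul]
  have h5 := sqNorm_add_sub x y
  have h6 := sqNorm_add_eq x y
  refine ⟨by omega, by omega, by omega⟩

end Cfsg.Agent.Lib.Helper93_LeechShort
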