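import Mathlib
import Cfsg.Agent.Lib.Helper93_M24Count4

/-!
Centralisers and normalisers of cyclic subgroups of `M24`, as sets of permutations; transport
under conjugation; the link with subgroups of `↥M24`.
-/

set_option autoImplicit false
open Cfsg
open scoped Pointwise
open Cfsg.Agent.Lib.Helper26_Golay

namespace Cfsg.Agent.Lib.Helper93_M24Obj

section General

variable {G : Type*} [Group G] [Finite G]

theorem mem_normalizer_zpowers_iff (g x : G) :
    x ∈ Subgroup.normalizer (Subgroup.zpowers g : Set G) ↔ ∃ i : ℕ, x * g * x⁻¹ = g ^ i := by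
  constructor
  · intro hx
    have h1 := (Subgroup.mem_normalizer_iff.mp hx g).mp (Subgroup.mem_zpowers g)
    rw [← mem_powers_iff_mem_zpowers] at h1
    obtain ⟨i, hi⟩ := h1
    exact ⟨i, hi.symm⟩
  · rintro ⟨i, hi⟩
    apply Subgroup.mem_normalizer_fintype
    intro n hn
    obtain ⟨j, rfl⟩ := Subgroup.mem_zpowers_iff.mp hn
    have : x * g ^ j * x⁻¹ = (x * g * x⁻¹) ^ j := (conj_zpow).symm
    rw [SetLike.mem_coe, this, hi]
    exact Subgroup.zpow_mem _ (Subgroup.pow_mem _ (Subgroup.mem_zpowers g) i) j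

omit [Finite G] in
theorem mem_centralizer_zpowers_iff (g x : G) :
    x ∈ Subgroup.centralizer (Subgroup.zpowers g : Set G) ↔ x * g = g * x := by
  constructor
  · intro hx
    exact (Subgroup.mem_centralizer_iff.mp hx g (Subgroup.mem_zpowers g)).symm
  · intro hx
    rw [Subgroup.mem_centralizer_iff]
    intro h hh
    obtain ⟨j, rfl⟩ := Subgroup.mem_zpowers_iff.mp hh
    have hc : Commute x g := hx
    exact (hc.zpow_right j).eq.symm

end General

/-- The elements of `M24` normalising the cyclic group generated by `γ`. -/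
def Nset (γ : Equiv.Perm GolayPt) : Set (Equiv.Perm GolayPt) :=
  {n | n ∈ M24 ∧ ∃ i : ℕ, n * γ * n⁻¹ = γ ^ i}

/-- The elements of `M24` centralising `γ`. -/
def Cset (γ : Equiv.Perm GolayPt) : Set (Equiv.Perm GolayPt) :=
  {n | n ∈ M24 ∧ n * γ = γ * n}

theorem Nset_inv (γ : Equiv.Perm GolayPt) : Nset γ⁻¹ = Nset γ := by
  ext n
  unfold Nset
  simp only [Set.mem_ofPred_eq]
  constructor
  · rintro ⟨hn, i, hi⟩
    refine ⟨hn, i, ?_⟩
    have := congrArg (fun σ : Equiv.Perm GolayPt => σ⁻¹) hi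
    simpa [mul_inv_rev, mul_assoc] using this
  · rintro ⟨hn, i, hi⟩
    refine ⟨hn, i, ?_⟩
    have := congrArg (fun σ : Equiv.Perm GolayPt => σ⁻¹) hi
    simpa [mul_inv_rev, mul_assoc] using this

theorem Cset_inv (γ : Equiv.Perm GolayPt) : Cset γ⁻¹ = Cset γ := by
  ext n
  unfold Cset
  simp only [Set.mem_ofPred_eq]
  constructor
  · rintro ⟨hn, h⟩
    refine ⟨hn, ?_⟩
    have hc : Commute n γ⁻¹ := h
    have := (hc.inv_right).eq
    rwa [inv_inv] at this
  · rintro ⟨hn, h⟩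
    refine ⟨hn, ?_⟩
    have hc : Commute n γ := h
    exact (hc.inv_right).eq

theorem Nset_conj {γ k : Equiv.Perm GolayPt} (hk : k ∈ M24) :
    Nset (k * γ * k⁻¹) = (fun n => k * n * k⁻¹) '' Nset γ := by
  ext n
  unfold Nset
  simp only [Set.mem_ofPred_eq, Set.mem_image]
  constructor
  · rintro ⟨hn, i, hi⟩
    refine ⟨k⁻¹ * n * k, ⟨M24.mul_mem (M24.mul_mem (M24.inv_mem hk) hn) hk, i, ?_⟩, by group⟩
    have e1 : k⁻¹ * n * k * γ * (k⁻¹ * n * k)⁻¹ = k⁻¹ * (n * (k * γ * k⁻¹) * n⁻¹) * k := by group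
    rw [e1, hi, conj_pow]
    group
  · rintro ⟨m, ⟨hm, i, hi⟩, rfl⟩
    refine ⟨M24.mul_mem (M24.mul_mem hk hm) (M24.inv_mem hk), i, ?_⟩
    have e1 : k * m * k⁻¹ * (k * γ * k⁻¹) * (k * m * k⁻¹)⁻¹ = k * (m * γ * m⁻¹) * k⁻¹ := by group
    rw [e1, hi, conj_pow]

theorem Cset_conj {γ k : Equiv.Perm GolayPt} (hk : k ∈ M24) :
    Cset (k * γ * k⁻¹) = (fun n => k * n * k⁻¹) '' Cset γ := by
  ext n
  unfold Cset
  simp only [Set.mem_ofPred_eq, Set.mem_image]
  constructor
  · rintro ⟨hn, h⟩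
    refine ⟨k⁻¹ * n * k, ⟨M24.mul_mem (M24.mul_mem (M24.inv_mem hk) hn) hk, ?_⟩, by group⟩
    have e1 : k⁻¹ * n * k * γ = k⁻¹ * (n * (k * γ * k⁻¹)) * k := by group
    rw [e1, h]
    group
  · rintro ⟨m, ⟨hm, h⟩, rfl⟩
    refine ⟨M24.mul_mem (M24.mul_mem hk hm) (M24.inv_mem hk), ?_⟩
    have e1 : k * m * k⁻¹ * (k * γ * k⁻¹) = k * (m * γ) * k⁻¹ := by group
    rw [e1, h]
    group

theorem conj_injective (k : Equiv.Perm GolayPt) :
    Function.Injective (fun n : Equiv.Perm GolayPt => k * n * k⁻¹) := by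
  intro a b h
  simpa using h

/-- The normaliser in `↥M24` of a cyclic subgroup, as a set of permutations. -/
theorem coe_normalizer_zpowers (g : ↥M24) :
    (fun x : ↥M24 => (x : Equiv.Perm GolayPt)) ''
      (Subgroup.normalizer (Subgroup.zpowers g : Set ↥M24) : Set ↥M24) = Nset (g : Equiv.Perm GolayPt) := by
  ext n
  unfold Nset
  simp only [Set.mem_image, SetLike.mem_coe, Set.mem_ofPred_eq, mem_normalizer_zpowers_iff]
  constructor
  · rintro ⟨x, ⟨i, hi⟩, rfl⟩
    refine ⟨x.2, i, ?_⟩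
    have := congrArg (fun y : ↥M24 => (y : Equiv.Perm GolayPt)) hi
    simpa using this
  · rintro ⟨hn, i, hi⟩
    refine ⟨⟨n, hn⟩, ⟨i, ?_⟩, rfl⟩
    apply Subtype.ext
    simpa using hi

/-- The centraliser in `↥M24` of a cyclic subgroup, as a set of permutations. -/
theorem coe_centralizer_zpowers (g : ↥M24) :
    (fun x : ↥M24 => (x : Equiv.Perm GolayPt)) ''
      (Subgroup.centralizer (Subgroup.zpowers g : Set ↥M24) : Set ↥M24) = Cset (g : Equiv.Perm GolayPt) := by
  ext n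
  unfold Cset
  simp only [Set.mem_image, SetLike.mem_coe, Set.mem_ofPred_eq, mem_centralizer_zpowers_iff]
  constructor
  · rintro ⟨x, hx, rfl⟩
    refine ⟨x.2, ?_⟩
    have := congrArg (fun y : ↥M24 => (y : Equiv.Perm GolayPt)) hx
    simpa using this
  · rintro ⟨hn, h⟩
    refine ⟨⟨n, hn⟩, ?_, rfl⟩
    apply Subtype.ext
    simpa using h

theorem card_normalizer_zpowers (g : ↥M24) :
    Nat.card ↥(Subgroup.normalizer (Subgroup.zpowers g : Set ↥M24)) =
      (Nset (g : Equiv.Perm GolayPt)).ncard := by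
  rw [← coe_normalizer_zpowers, Set.ncard_image_of_injective _ Subtype.val_injective]
  rfl

theorem card_centralizer_zpowers (g : ↥M24) :
    Nat.card ↥(Subgroup.centralizer (Subgroup.zpowers g : Set ↥M24)) =
      (Cset (g : Equiv.Perm GolayPt)).ncard := by
  rw [← coe_centralizer_zpowers, Set.ncard_image_of_injective _ Subtype.val_injective]
  rfl

end Cfsg.Agent.Lib.Helper93_M24Obj
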