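import Mathlib
import Cfsg.Agent.S0364
import Cfsg.Agent.Lib.Helper26_OctStabThms

/-!
Pairs of octads under `M24`: the orbits on ordered pairs of octads are given by the size of the
intersection, and the orders of the joint stabilisers.
-/

set_option autoImplicit false
set_option linter.constructorNameAsVariable false
open Cfsg
open scoped Pointwise
open Cfsg.Agent.Lib.Helper26_Golay

namespace Cfsg.Agent.Lib.Helper93_M24Pairs

/-- The stabiliser of a pair is the intersection of the stabilisers. -/
theorem stabilizer_pair {G α β : Type*} [Group G] [MulAction G α] [MulAction G β] (a : α) (b : β) :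
    MulAction.stabilizer G (a, b) = MulAction.stabilizer G a ⊓ MulAction.stabilizer G b := by
  ext g
  simp only [MulAction.mem_stabilizer_iff, Subgroup.mem_inf, Prod.smul_mk, Prod.mk.injEq]

theorem card_smul_inter (g : Equiv.Perm GolayPt) (s t : Finset GolayPt) :
    ((g • s) ∩ (g • t)).card = (s ∩ t).card := by
  rw [← Finset.smul_finset_inter, Finset.card_smul_finset]

/-- Number of octads meeting the base octad in `k` points. -/
theorem count_oct0 (k : ℕ) :
    (octFinset.filter (fun y => (oct0 ∩ y).card = k)).card =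
      countOct (fun n => pop (octAt 0 &&& n) == k) := by
  apply card_filter_octFinset
  intro n hn
  have hlt : n < 2 ^ 24 := lt_of_isCode ((mem_octList_iff n).mp hn).1
  rw [card_inter_eq_pop, enc_oct0, enc_dec n hlt, beq_iff_eq]

theorem count_oct0_0 : countOct (fun n => pop (octAt 0 &&& n) == 0) = 30 := by decide +kernel
theorem count_oct0_2 : countOct (fun n => pop (octAt 0 &&& n) == 2) = 448 := by decide +kernel
theorem count_oct0_4 : countOct (fun n => pop (octAt 0 &&& n) == 4) = 280 := by decide +kernel

/-- Number of octads meeting a given octad in `k` points: independent of the octad. -/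
theorem count_oct {x : Finset GolayPt} (hx : x ∈ octads) (k : ℕ) :
    (octFinset.filter (fun y => (x ∩ y).card = k)).card =
      (octFinset.filter (fun y => (oct0 ∩ y).card = k)).card := by
  obtain ⟨g, hg, rfl⟩ := exists_smul_oct0_eq hx
  apply card_filter_octFinset_smul hg
  intro y _
  rw [card_smul_inter]

/-- The number `N k` of octads meeting a given one in `k` points. -/
def octNum (k : ℕ) : ℕ := countOct (fun n => pop (octAt 0 &&& n) == k)

theorem count_oct' {x : Finset GolayPt} (hx : x ∈ octads) (k : ℕ) :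
    (octFinset.filter (fun y => (x ∩ y).card = k)).card = octNum k := by
  rw [count_oct hx, count_oct0]; rfl

/-- The ordered pairs of octads meeting in `k` points. -/
def pairsK (k : ℕ) : Finset (Finset GolayPt × Finset GolayPt) :=
  (octFinset ×ˢ octFinset).filter (fun p => (p.1 ∩ p.2).card = k)

theorem mem_pairsK (k : ℕ) (p : Finset GolayPt × Finset GolayPt) :
    p ∈ pairsK k ↔ p.1 ∈ octads ∧ p.2 ∈ octads ∧ (p.1 ∩ p.2).card = k := by
  unfold pairsK
  rw [Finset.mem_filter, Finset.mem_product, mem_octFinset_iff, mem_octFinset_iff, and_assoc]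

/-- Counting pairs in a family with constant fibre size. -/
theorem card_pairs_gen {α : Type*} [DecidableEq α] (F : Finset (Finset α)) (k N : ℕ)
    (h : ∀ x ∈ F, (F.filter (fun y => (x ∩ y).card = k)).card = N) :
    ((F ×ˢ F).filter (fun p => (p.1 ∩ p.2).card = k)).card = F.card * N := by
  rw [Finset.card_eq_sum_card_fiberwise (f := Prod.fst) (t := F)]
  · have : ∀ x ∈ F, (((F ×ˢ F).filter (fun p => (p.1 ∩ p.2).card = k)).filter
        (fun p => p.1 = x)).card = N := by
      intro x hx
      refine Eq.trans ?_ (h x hx)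
      refine Eq.trans ?_ (Finset.card_image_of_injective
        (F.filter (fun y => (x ∩ y).card = k))
        (f := fun y => (x, y)) (fun a b h => (Prod.mk.inj h).2))
      congr 1
      ext ⟨a, b⟩
      simp only [Finset.mem_filter, Finset.mem_image, Finset.mem_product, Prod.mk.injEq]
      constructor
      · rintro ⟨⟨⟨_, hb⟩, hk⟩, rfl⟩
        exact ⟨b, ⟨hb, hk⟩, rfl, rfl⟩
      · rintro ⟨y, ⟨hy, hk⟩, rfl, rfl⟩
        exact ⟨⟨⟨hx, hy⟩, hk⟩, rfl⟩
    rw [Finset.sum_congr rfl this, Finset.sum_const, smul_eq_mul]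
  · intro p hp
    rw [Finset.mem_coe, Finset.mem_filter, Finset.mem_product] at hp
    exact hp.1.1

theorem card_pairsK (k : ℕ) : (pairsK k).card = 759 * octNum k := by
  unfold pairsK
  rw [card_pairs_gen octFinset k (octNum k)
    (fun x hx => count_oct' ((mem_octFinset_iff x).mp hx) k), octFinset_card]

/-- `M24` is transitive on the ordered pairs of octads meeting in `k` points. -/
theorem orbit_pair {o o' : Finset GolayPt} (ho : o ∈ octads) (ho' : o' ∈ octads) :
    MulAction.orbit M24 (o, o') = (pairsK (o ∩ o').card : Set (Finset GolayPt × Finset GolayPt)) := by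
  ext ⟨x, y⟩
  rw [Finset.mem_coe, mem_pairsK]
  constructor
  · rintro ⟨g, hg⟩
    have h1 : (g : Equiv.Perm GolayPt) • o = x := congrArg Prod.fst hg
    have h2 : (g : Equiv.Perm GolayPt) • o' = y := congrArg Prod.snd hg
    refine ⟨?_, ?_, ?_⟩
    · show x ∈ octads
      rw [← h1]; exact smul_mem_octads g.2 ho
    · show y ∈ octads
      rw [← h2]; exact smul_mem_octads g.2 ho'
    · show (x ∩ y).card = _
      rw [← h1, ← h2, card_smul_inter]
  · rintro ⟨hx, hy, hk⟩
    change x ∈ octads at hx
    change y ∈ octads at hy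
    change (x ∩ y).card = _ at hk
    obtain ⟨g1, hg1, hg1o⟩ := exists_smul_oct0_eq ho
    obtain ⟨g2, hg2, hg2x⟩ := exists_smul_oct0_eq hx
    have hA : g1⁻¹ • o' ∈ octads := smul_mem_octads (M24.inv_mem hg1) ho'
    have hB : g2⁻¹ • y ∈ octads := smul_mem_octads (M24.inv_mem hg2) hy
    have hcard : (oct0 ∩ g1⁻¹ • o').card = (oct0 ∩ g2⁻¹ • y).card := by
      have e1 : (oct0 ∩ g1⁻¹ • o').card = (o ∩ o').card := by
        rw [← card_smul_inter g1, smul_inv_smul, hg1o]
      have e2 : (oct0 ∩ g2⁻¹ • y).card = (x ∩ y).card := by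
        rw [← card_smul_inter g2, smul_inv_smul, hg2x]
      rw [e1, e2, hk]
    obtain ⟨h, hh, hhy⟩ := octStab_orbit hA hB hcard
    have hhM : h ∈ M24 := (Subgroup.mem_inf.mp hh).1
    have hh0 : h • oct0 = oct0 := MulAction.mem_stabilizer_iff.mp (Subgroup.mem_inf.mp hh).2
    refine ⟨⟨g2 * h * g1⁻¹, M24.mul_mem (M24.mul_mem hg2 hhM) (M24.inv_mem hg1)⟩, ?_⟩
    show ((g2 * h * g1⁻¹) • o, (g2 * h * g1⁻¹) • o') = (x, y)
    rw [Prod.mk.injEq]
    constructor
    · rw [mul_smul, mul_smul, ← hg1o, inv_smul_smul, hh0, hg2x]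
    · rw [mul_smul, mul_smul, hhy, smul_inv_smul]

/-- The order of the joint stabiliser of two octads. -/
theorem card_stab_pair {o o' : Finset GolayPt} (ho : o ∈ octads) (ho' : o' ∈ octads) :
    Nat.card ↥(MulAction.stabilizer M24 o ⊓ MulAction.stabilizer M24 o') *
      (759 * octNum (o ∩ o').card) = 244823040 := by
  rw [← stabilizer_pair, ← card_pairsK, ← Cfsg.Agent.S0364.result,
    ← Subgroup.card_mul_index (MulAction.stabilizer M24 (o, o')), MulAction.index_stabilizer,
    orbit_pair ho ho', Set.ncard_coe_finset]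

end Cfsg.Agent.Lib.Helper93_M24Pairs
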