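import Mathlib
import Cfsg.Agent.Lib.Helper93_M24Classes

/-!
Certificate data for the class of elements of order 3 with six fixed points in `M24`.
-/

set_option autoImplicit false
open Cfsg
open scoped Pointwise
open Cfsg.Agent.Lib.Helper26_Golay Cfsg.Agent.Lib.Helper93_M24Obj

namespace Cfsg.Agent.Lib.Helper93_S5602a

/-- For each entry of the table of the five-point stabiliser: index of a conjugating entry (low
bits) and whether the conjugate is the inverse of the representative (bit 7). -/
def conjTab : ℕ := 0x88838c86898f818a858d828e84878b800a04060d01080b0f020c07030e05090000000000000000000000000000000000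

/-- Index of the conjugating entry. -/
def cIdx (j : ℕ) : ℕ := get8 conjTab j &&& 63

/-- Whether the conjugate is the inverse of the representative. -/
def useInv (j : ℕ) : Bool := get8 conjTab j >>> 7 == 1

/-- The table-level test: order dividing 3 and six fixed points. -/
def ok (T : ℕ) : Bool := cubeId (img T) && (fixCount (img T) == 6)

theorem class_ok : allFold (fun j => !(ok (f5At j)) || (tblInM24 (f5At (cIdx j)) &&
    conjOK (img (f5At (cIdx j))) (img (f5At j))
      (img (if useInv j = true then f5At 32 else f5At 16)))) 48 = true := by
  decide +kernel

theorem rep_in : tblInM24 (f5At 16) = true := by decide +kernel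

theorem inv_ok : invOK (img (f5At 16)) (img (f5At 32)) = true := by decide +kernel

theorem cnt_oct : sumFold (fun j => if maskCoding.step (f5At 16) (octAt j) (octAt j) = true
    then 1 else 0) 759 = 21 := by decide +kernel

theorem cnt_trio : sumFold (fun j => if (objCoding 3).step (f5At 16) (trioAt j) (trioAt j) = true
    then 1 else 0) 3795 = 15 := by decide +kernel

theorem cnt_sext : sumFold (fun j => if (objCoding 6).step (f5At 16) (sextAt j) (sextAt j) = true
    then 1 else 0) 1771 = 16 := by decide +kernel

theorem cnt_dod : sumFold (fun j => if maskCoding.step (f5At 16) (dodAt j) (dodAt j) = true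
    then 1 else 0) 2576 = 20 := by decide +kernel

end Cfsg.Agent.Lib.Helper93_S5602a
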