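import Mathlib
import Cfsg.Agent.S5603
import Cfsg.Agent.Lib.Helper93_S5602a
import Cfsg.Agent.Lib.Helper93_M24Fix

/-!
Subgroups of prime order of `M24`: generators, fixed points, conjugation; the two classes of
elements of order 3.
-/

set_option autoImplicit false
open Cfsg
open scoped Pointwise
open Cfsg.Agent.Lib.Helper26_Golay

namespace Cfsg.Agent.Lib.Helper93_M24Obj

/-- A subgroup of prime order is generated by each of its nontrivial elements, which have that
order. -/
theorem exists_gen_of_card_prime {G : Type*} [Group G] (X : Subgroup G) {p : ℕ} (hp : p.Prime)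
    (hX : Nat.card X = p) : ∃ g : G, orderOf g = p ∧ X = Subgroup.zpowers g := by
  have : Finite X := Nat.finite_of_card_ne_zero (by rw [hX]; exact hp.ne_zero)
  have hnt : X ≠ ⊥ := by
    intro h
    rw [h, Subgroup.card_bot] at hX
    exact hp.one_lt.ne hX
  obtain ⟨⟨g, hgX⟩, hg1'⟩ := Subgroup.ne_bot_iff_exists_ne_one.mp hnt
  have hg1 : g ≠ 1 := fun h => hg1' (Subtype.ext h)
  have hdvd : orderOf g ∣ p := by
    rw [← hX]
    exact Subgroup.orderOf_dvd_natCard X hgX
  have hord : orderOf g = p := by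
    rcases (Nat.dvd_prime hp).mp hdvd with h | h
    · exact (hg1 (orderOf_eq_one_iff.mp h)).elim
    · exact h
  refine ⟨g, hord, ?_⟩
  symm
  apply Subgroup.eq_of_le_of_card_ge
  · rw [Subgroup.zpowers_le]; exact hgX
  · rw [Nat.card_zpowers, hord, hX]

/-- The points fixed by a cyclic subgroup of `M24` are those fixed by the generator. -/
theorem fixed_zpowers (g : ↥M24) :
    {p : GolayPt | ∀ x ∈ Subgroup.zpowers g, ((x : ↥M24) : Equiv.Perm GolayPt) p = p} =
      ↑(Finset.univ.filter fun p => (g : Equiv.Perm GolayPt) p = p) := by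
  ext p
  simp only [Set.mem_ofPred_eq, Finset.coe_filter, Finset.mem_univ, true_and]
  constructor
  · intro h
    exact h g (Subgroup.mem_zpowers g)
  · intro h x hx
    obtain ⟨n, rfl⟩ := Subgroup.mem_zpowers_iff.mp hx
    rw [Subgroup.coe_zpow]
    exact Equiv.Perm.zpow_apply_eq_self_of_apply_eq_self h n

theorem ncard_fixed_zpowers (g : ↥M24) :
    {p : GolayPt | ∀ x ∈ Subgroup.zpowers g, ((x : ↥M24) : Equiv.Perm GolayPt) p = p}.ncard =
      (Finset.univ.filter fun p => (g : Equiv.Perm GolayPt) p = p).card := by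
  rw [fixed_zpowers, Set.ncard_coe_finset]

theorem conj_smul_zpowers {G : Type*} [Group G] (k g : G) :
    MulAut.conj k • Subgroup.zpowers g = Subgroup.zpowers (k * g * k⁻¹) := by
  change (Subgroup.zpowers g).map (MulAut.conj k).toMonoidHom = _
  rw [MonoidHom.map_zpowers]
  rfl

/-- If a conjugate of `g` is `ε` or its inverse, the cyclic subgroups are conjugate. -/
theorem conj_zpowers_of_conj {g ε k : Equiv.Perm GolayPt} (hg : g ∈ M24) (hε : ε ∈ M24)
    (hk : k ∈ M24) (h : k * g * k⁻¹ = ε ∨ k * g * k⁻¹ = ε⁻¹) :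
    MulAut.conj (⟨k, hk⟩ : ↥M24) • Subgroup.zpowers (⟨g, hg⟩ : ↥M24) =
      Subgroup.zpowers (⟨ε, hε⟩ : ↥M24) := by
  rw [conj_smul_zpowers]
  rcases h with h | h
  · congr 1
    exact Subtype.ext h
  · have : Subgroup.zpowers (⟨ε, hε⟩ : ↥M24) = Subgroup.zpowers (⟨ε, hε⟩ : ↥M24)⁻¹ :=
      Subgroup.zpowers_inv.symm
    rw [this]
    congr 1
    exact Subtype.ext h

/-- An element of order 3 of `M24` with six fixed points is conjugate to the representative or
to its inverse. -/
theorem reduce3A {g : Equiv.Perm GolayPt} (hg : g ∈ M24) (h₃ : orderOf g = 3)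
    (h₆ : (Finset.univ.filter fun p => g p = p).card = 6) :
    ∃ ε ∈ M24, Represents ε (f5At 16) ∧ ∃ k ∈ M24, (k * g * k⁻¹ = ε ∨ k * g * k⁻¹ = ε⁻¹) := by
  obtain ⟨A, hAsub, hAcard⟩ := Finset.exists_subset_card_eq
    (s := Finset.univ.filter fun p => g p = p) (n := 5) (by omega)
  have hfix : ∀ p ∈ A, g p = p := fun p hp => (Finset.mem_filter.mp (hAsub hp)).2
  have hg3 : g ^ 3 = 1 := by rw [← h₃]; exact pow_orderOf_eq_one g
  exact class_reduce (f5At 16) (f5At 32) Helper93_S5602a.rep_in Helper93_S5602a.inv_ok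
    Helper93_S5602a.ok (fun j => f5At (Helper93_S5602a.cIdx j)) Helper93_S5602a.useInv
    Helper93_S5602a.class_ok hg A hAcard hfix (by
      intro k _ j _ hrep
      unfold Helper93_S5602a.ok
      rw [Bool.and_eq_true, beq_iff_eq]
      constructor
      · apply cubeId_of_pow (repF_of_represents hrep)
        rw [conj_pow', hg3, mul_one, mul_inv_cancel]
      · rw [← card_fixed_eq (repF_of_represents hrep), card_fixed_conj, h₆])

/-- Two subgroups of `M24` conjugate to the same subgroup are conjugate. -/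
theorem conj_of_conj_same {X Y Z : Subgroup ↥M24} {k k' : ↥M24}
    (h1 : MulAut.conj k • X = Z) (h2 : MulAut.conj k' • Y = Z) :
    ∃ c : ↥M24, MulAut.conj c • X = Y := by
  refine ⟨k'⁻¹ * k, ?_⟩
  rw [map_mul, mul_smul, h1, ← h2, map_inv, inv_smul_smul]

end Cfsg.Agent.Lib.Helper93_M24Obj
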