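import Mathlib
import Cfsg.Agent.Lib.Helper93_M24Pairs
import Cfsg.Agent.Lib.Helper93_M24F5

/-!
Subgroups of `M24` acting faithfully as the full symmetric group on a set of points.
-/

set_option autoImplicit false
open Cfsg
open scoped Pointwise
open Cfsg.Agent.Lib.Helper26_Golay

namespace Cfsg.Agent.Lib.Helper93_M24Obj

/-- A subgroup of `M24` preserving a set `D` of `n` points, acting faithfully on it and of order
`n!` is isomorphic to the symmetric group of degree `n`. -/
theorem nonempty_mulEquiv_perm {H : Subgroup ↥M24} (D : Finset GolayPt) (n : ℕ) (hD : D.card = n)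
    (hpres : ∀ h ∈ H, ∀ p, ((h : ↥M24) : Equiv.Perm GolayPt) p ∈ D ↔ p ∈ D)
    (hfaith : ∀ h ∈ H, (∀ p ∈ D, ((h : ↥M24) : Equiv.Perm GolayPt) p = p) → h = 1)
    (hcard : Nat.card H = n.factorial) : Nonempty (↥H ≃* Equiv.Perm (Fin n)) := by
  let φ : ↥H →* Equiv.Perm {p // p ∈ D} := MonoidHom.mk'
    (fun h => ((h : ↥M24) : Equiv.Perm GolayPt).subtypePerm (hpres h.1 h.2)) (by
      intro a b
      apply Equiv.ext
      intro p
      apply Subtype.ext
      rfl)
  have hinj : Function.Injective φ := by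
    rw [injective_iff_map_eq_one]
    intro h hh
    have : (h : ↥M24) = 1 := by
      apply hfaith h.1 h.2
      intro p hp
      have := congrArg (fun σ : Equiv.Perm {p // p ∈ D} => (σ ⟨p, hp⟩).1) hh
      simpa [φ, Equiv.Perm.subtypePerm_apply] using this
    exact Subtype.ext this
  have hcardD : Nat.card (Equiv.Perm {p // p ∈ D}) = n.factorial := by
    rw [Nat.card_eq_fintype_card, Fintype.card_perm, Fintype.card_coe, hD]
  have : Finite (Equiv.Perm {p // p ∈ D}) := inferInstance
  have hbij : Function.Bijective φ :=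
    (Nat.bijective_iff_injective_and_card φ).mpr ⟨hinj, by rw [hcard, hcardD]⟩
  have e1 : ↥H ≃* Equiv.Perm {p // p ∈ D} := MulEquiv.ofBijective φ hbij
  have e2 : {p // p ∈ D} ≃ Fin n := Fintype.equivFinOfCardEq (by rw [Fintype.card_coe, hD])
  exact ⟨e1.trans e2.permCongrHom⟩

end Cfsg.Agent.Lib.Helper93_M24Obj
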