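import Mathlib
import Cfsg.Agent.Lib.Helper93_M24Sym

/-!
The order of the setwise stabiliser of a set of points on which `M24` induces the full symmetric
group.
-/

set_option autoImplicit false
open Cfsg
open scoped Pointwise
open Cfsg.Agent.Lib.Helper26_Golay

namespace Cfsg.Agent.Lib.Helper93_M24Obj

theorem apply_mem_iff_of_smul_eq {σ : Equiv.Perm GolayPt} {s : Finset GolayPt} (hs : σ • s = s)
    (p : GolayPt) : σ p ∈ s ↔ p ∈ s := by
  conv_lhs => rw [← hs]
  rw [← Equiv.Perm.smul_def, Finset.smul_mem_smul_finset_iff]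

theorem smul_eq_of_forall_mem {σ : Equiv.Perm GolayPt} {s : Finset GolayPt}
    (h : ∀ p ∈ s, σ p ∈ s) : σ • s = s := by
  apply Finset.eq_of_subset_of_card_le
  · intro q hq
    obtain ⟨p, hp, rfl⟩ := Finset.mem_smul_finset.mp hq
    exact h p hp
  · rw [Finset.card_smul_finset]

/-- If `M24` induces the full symmetric group on `E`, the order of the setwise stabiliser of `E`
is the order of the pointwise stabiliser times `|E|!`. -/
theorem card_stabilizer_eq (E : Finset GolayPt)
    (hfull : ∀ σ : Equiv.Perm {p // p ∈ E}, ∃ g ∈ M24, ∀ p : {p // p ∈ E}, g p = σ p) :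
    Nat.card ↥(MulAction.stabilizer M24 E) =
      Nat.card {g : Equiv.Perm GolayPt // g ∈ M24 ∧ ∀ p ∈ E, g p = p} * (E.card).factorial := by
  have hpres : ∀ h ∈ MulAction.stabilizer M24 E, ∀ p,
      ((h : ↥M24) : Equiv.Perm GolayPt) p ∈ E ↔ p ∈ E := by
    intro h hh p
    exact apply_mem_iff_of_smul_eq (MulAction.mem_stabilizer_iff.mp hh) p
  let ρ : ↥(MulAction.stabilizer M24 E) →* Equiv.Perm {p // p ∈ E} := MonoidHom.mk'
    (fun h => ((h : ↥M24) : Equiv.Perm GolayPt).subtypePerm (hpres h.1 h.2)) (by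
      intro a b
      apply Equiv.ext
      intro p
      apply Subtype.ext
      rfl)
  have hρ : ∀ (h : ↥(MulAction.stabilizer M24 E)) (p : {p // p ∈ E}),
      ((ρ h) p).1 = ((h : ↥M24) : Equiv.Perm GolayPt) p.1 := fun _ _ => rfl
  have hsurj : Function.Surjective ρ := by
    intro σ
    obtain ⟨g, hg, hgσ⟩ := hfull σ
    have hgE : g • E = E := by
      apply smul_eq_of_forall_mem
      intro p hp
      rw [hgσ ⟨p, hp⟩]
      exact (σ ⟨p, hp⟩).2
    refine ⟨⟨⟨g, hg⟩, MulAction.mem_stabilizer_iff.mpr hgE⟩, ?_⟩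
    apply Equiv.ext
    intro p
    apply Subtype.ext
    rw [hρ]
    exact hgσ p
  have hrange : Nat.card ρ.range = (E.card).factorial := by
    rw [MonoidHom.range_eq_top.mpr hsurj, Subgroup.card_top, Nat.card_eq_fintype_card,
      Fintype.card_perm, Fintype.card_coe]
  have hker : Nat.card ρ.ker =
      Nat.card {g : Equiv.Perm GolayPt // g ∈ M24 ∧ ∀ p ∈ E, g p = p} := by
    apply Nat.card_congr
    refine ⟨fun x => ⟨((x.1 : ↥M24) : Equiv.Perm GolayPt), (x.1 : ↥M24).2, ?_⟩,
      fun y => ⟨⟨⟨y.1, y.2.1⟩, ?_⟩, ?_⟩, ?_, ?_⟩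
    · intro p hp
      have h1 := MonoidHom.mem_ker.mp x.2
      have h2 := congrArg (fun τ : Equiv.Perm {p // p ∈ E} => (τ ⟨p, hp⟩).1) h1
      exact h2
    · rw [MulAction.mem_stabilizer_iff]
      exact smul_eq_of_forall_mem (fun p hp => by
        show y.1 p ∈ E
        rw [y.2.2 p hp]; exact hp)
    · rw [MonoidHom.mem_ker]
      apply Equiv.ext
      intro p
      apply Subtype.ext
      rw [hρ]
      exact y.2.2 p.1 p.2
    · intro x
      rfl
    · intro y
      rfl
  rw [← Subgroup.card_mul_index ρ.ker, Subgroup.index_ker, hrange, hker]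

end Cfsg.Agent.Lib.Helper93_M24Obj
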