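import Cfsg.Agent.Lib.Helper93_McLRep

/-!
Base matrices: coordinate permutations, the element `e` and its powers, the involution `z`;
the relations `e⁵ = 1`, `z e = e⁻¹ z`, `z t = t e² z`, `(a e)⁷ = 1`, `(a t e)⁶ = 1`.
(Generated data: integer matrices of `8 g` for automorphisms `g` of the rank-24 lattice, and the
products relating them.)
-/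

set_option autoImplicit false
set_option linter.constructorNameAsVariable false
open Cfsg
open scoped Pointwise

namespace Cfsg.Agent.Lib.Helper93_McLData

open Cfsg.Agent.Lib.Helper7_M24 Cfsg.Agent.Lib.Helper7_Leech Cfsg.Agent.Lib.Helper92_Monomial
  Cfsg.Agent.Lib.Helper7_Mono Cfsg.Agent.Lib.Helper92_QuadAut Cfsg.Agent.Lib.Helper93_McLElt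
  Cfsg.Agent.Lib.Helper92_ZElt Cfsg.Agent.Lib.Helper7_Bits Cfsg.Agent.Lib.Helper93_McLRep
  Cfsg.Agent.Lib.Helper93_McLPerm Cfsg.Agent.Lib.Helper92_Co3Cent
  Cfsg.Agent.Lib.Helper93_OutM24 Cfsg.Agent.Lib.Helper93_M24Obj
open Cfsg.Agent.S5546 (Lam vec8 e8)

/-- `8` times the identity matrix. -/
abbrev I8 : Matrix GolayPt GolayPt ℤ := (8 : ℤ) • (1 : Matrix GolayPt GolayPt ℤ)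

/-- The element `t` of the group of the permutations of the code, and of the automorphism group of
the lattice. -/
noncomputable def mT : ↥M24 := ⟨gT, gT_mem⟩
noncomputable def PT : ↥Co0 := perm mT

/-- The matrix `Ma`. -/
def Ma : Matrix GolayPt GolayPt ℤ := ofL
  [[8, 0, 0, 0, 0, 0, 0, 0, 0, 0, 0, 0, 0, 0, 0, 0, 0, 0, 0, 0, 0, 0, 0, 0],
   [0, 0, 0, 0, 0, 0, 0, 0, 0, 0, 0, 0, 8, 0, 0, 0, 0, 0, 0, 0, 0, 0, 0, 0],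
   [0, 8, 0, 0, 0, 0, 0, 0, 0, 0, 0, 0, 0, 0, 0, 0, 0, 0, 0, 0, 0, 0, 0, 0],
   [0, 0, 0, 0, 0, 0, 0, 0, 0, 0, 0, 0, 0, 8, 0, 0, 0, 0, 0, 0, 0, 0, 0, 0],
   [0, 0, 8, 0, 0, 0, 0, 0, 0, 0, 0, 0, 0, 0, 0, 0, 0, 0, 0, 0, 0, 0, 0, 0],
   [0, 0, 0, 0, 0, 0, 0, 0, 0, 0, 0, 0, 0, 0, 8, 0, 0, 0, 0, 0, 0, 0, 0, 0],
   [0, 0, 0, 8, 0, 0, 0, 0, 0, 0, 0, 0, 0, 0, 0, 0, 0, 0, 0, 0, 0, 0, 0, 0],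
   [0, 0, 0, 0, 0, 0, 0, 0, 0, 0, 0, 0, 0, 0, 0, 8, 0, 0, 0, 0, 0, 0, 0, 0],
   [0, 0, 0, 0, 8, 0, 0, 0, 0, 0, 0, 0, 0, 0, 0, 0, 0, 0, 0, 0, 0, 0, 0, 0],
   [0, 0, 0, 0, 0, 0, 0, 0, 0, 0, 0, 0, 0, 0, 0, 0, 8, 0, 0, 0, 0, 0, 0, 0],
   [0, 0, 0, 0, 0, 8, 0, 0, 0, 0, 0, 0, 0, 0, 0, 0, 0, 0, 0, 0, 0, 0, 0, 0],
   [0, 0, 0, 0, 0, 0, 0, 0, 0, 0, 0, 0, 0, 0, 0, 0, 0, 8, 0, 0, 0, 0, 0, 0],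
   [0, 0, 0, 0, 0, 0, 8, 0, 0, 0, 0, 0, 0, 0, 0, 0, 0, 0, 0, 0, 0, 0, 0, 0],
   [0, 0, 0, 0, 0, 0, 0, 0, 0, 0, 0, 0, 0, 0, 0, 0, 0, 0, 8, 0, 0, 0, 0, 0],
   [0, 0, 0, 0, 0, 0, 0, 8, 0, 0, 0, 0, 0, 0, 0, 0, 0, 0, 0, 0, 0, 0, 0, 0],
   [0, 0, 0, 0, 0, 0, 0, 0, 0, 0, 0, 0, 0, 0, 0, 0, 0, 0, 0, 8, 0, 0, 0, 0],
   [0, 0, 0, 0, 0, 0, 0, 0, 8, 0, 0, 0, 0, 0, 0, 0, 0, 0, 0, 0, 0, 0, 0, 0],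
   [0, 0, 0, 0, 0, 0, 0, 0, 0, 0, 0, 0, 0, 0, 0, 0, 0, 0, 0, 0, 8, 0, 0, 0],
   [0, 0, 0, 0, 0, 0, 0, 0, 0, 8, 0, 0, 0, 0, 0, 0, 0, 0, 0, 0, 0, 0, 0, 0],
   [0, 0, 0, 0, 0, 0, 0, 0, 0, 0, 0, 0, 0, 0, 0, 0, 0, 0, 0, 0, 0, 8, 0, 0],
   [0, 0, 0, 0, 0, 0, 0, 0, 0, 0, 8, 0, 0, 0, 0, 0, 0, 0, 0, 0, 0, 0, 0, 0],
   [0, 0, 0, 0, 0, 0, 0, 0, 0, 0, 0, 0, 0, 0, 0, 0, 0, 0, 0, 0, 0, 0, 8, 0],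
   [0, 0, 0, 0, 0, 0, 0, 0, 0, 0, 0, 8, 0, 0, 0, 0, 0, 0, 0, 0, 0, 0, 0, 0],
   [0, 0, 0, 0, 0, 0, 0, 0, 0, 0, 0, 0, 0, 0, 0, 0, 0, 0, 0, 0, 0, 0, 0, 8]]

theorem Ma_eq : permM (pf (fD)) = Ma := by decide +kernel

theorem rep_Ma : Rep8 (perm (mD)) Ma := by
  rw [← Ma_eq]
  exact rep8_perm (mD) _ (apply_of_repF (gD_rep))

/-- The matrix `Ma10`. -/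
def Ma10 : Matrix GolayPt GolayPt ℤ := ofL
  [[8, 0, 0, 0, 0, 0, 0, 0, 0, 0, 0, 0, 0, 0, 0, 0, 0, 0, 0, 0, 0, 0, 0, 0],
   [0, 0, 8, 0, 0, 0, 0, 0, 0, 0, 0, 0, 0, 0, 0, 0, 0, 0, 0, 0, 0, 0, 0, 0],
   [0, 0, 0, 0, 8, 0, 0, 0, 0, 0, 0, 0, 0, 0, 0, 0, 0, 0, 0, 0, 0, 0, 0, 0],
   [0, 0, 0, 0, 0, 0, 8, 0, 0, 0, 0, 0, 0, 0, 0, 0, 0, 0, 0, 0, 0, 0, 0, 0],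
   [0, 0, 0, 0, 0, 0, 0, 0, 8, 0, 0, 0, 0, 0, 0, 0, 0, 0, 0, 0, 0, 0, 0, 0],
   [0, 0, 0, 0, 0, 0, 0, 0, 0, 0, 8, 0, 0, 0, 0, 0, 0, 0, 0, 0, 0, 0, 0, 0],
   [0, 0, 0, 0, 0, 0, 0, 0, 0, 0, 0, 0, 8, 0, 0, 0, 0, 0, 0, 0, 0, 0, 0, 0],
   [0, 0, 0, 0, 0, 0, 0, 0, 0, 0, 0, 0, 0, 0, 8, 0, 0, 0, 0, 0, 0, 0, 0, 0],
   [0, 0, 0, 0, 0, 0, 0, 0, 0, 0, 0, 0, 0, 0, 0, 0, 8, 0, 0, 0, 0, 0, 0, 0],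
   [0, 0, 0, 0, 0, 0, 0, 0, 0, 0, 0, 0, 0, 0, 0, 0, 0, 0, 8, 0, 0, 0, 0, 0],
   [0, 0, 0, 0, 0, 0, 0, 0, 0, 0, 0, 0, 0, 0, 0, 0, 0, 0, 0, 0, 8, 0, 0, 0],
   [0, 0, 0, 0, 0, 0, 0, 0, 0, 0, 0, 0, 0, 0, 0, 0, 0, 0, 0, 0, 0, 0, 8, 0],
   [0, 8, 0, 0, 0, 0, 0, 0, 0, 0, 0, 0, 0, 0, 0, 0, 0, 0, 0, 0, 0, 0, 0, 0],
   [0, 0, 0, 8, 0, 0, 0, 0, 0, 0, 0, 0, 0, 0, 0, 0, 0, 0, 0, 0, 0, 0, 0, 0],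
   [0, 0, 0, 0, 0, 8, 0, 0, 0, 0, 0, 0, 0, 0, 0, 0, 0, 0, 0, 0, 0, 0, 0, 0],
   [0, 0, 0, 0, 0, 0, 0, 8, 0, 0, 0, 0, 0, 0, 0, 0, 0, 0, 0, 0, 0, 0, 0, 0],
   [0, 0, 0, 0, 0, 0, 0, 0, 0, 8, 0, 0, 0, 0, 0, 0, 0, 0, 0, 0, 0, 0, 0, 0],
   [0, 0, 0, 0, 0, 0, 0, 0, 0, 0, 0, 8, 0, 0, 0, 0, 0, 0, 0, 0, 0, 0, 0, 0],
   [0, 0, 0, 0, 0, 0, 0, 0, 0, 0, 0, 0, 0, 8, 0, 0, 0, 0, 0, 0, 0, 0, 0, 0],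
   [0, 0, 0, 0, 0, 0, 0, 0, 0, 0, 0, 0, 0, 0, 0, 8, 0, 0, 0, 0, 0, 0, 0, 0],
   [0, 0, 0, 0, 0, 0, 0, 0, 0, 0, 0, 0, 0, 0, 0, 0, 0, 8, 0, 0, 0, 0, 0, 0],
   [0, 0, 0, 0, 0, 0, 0, 0, 0, 0, 0, 0, 0, 0, 0, 0, 0, 0, 0, 8, 0, 0, 0, 0],
   [0, 0, 0, 0, 0, 0, 0, 0, 0, 0, 0, 0, 0, 0, 0, 0, 0, 0, 0, 0, 0, 8, 0, 0],
   [0, 0, 0, 0, 0, 0, 0, 0, 0, 0, 0, 0, 0, 0, 0, 0, 0, 0, 0, 0, 0, 0, 0, 8]]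

theorem Ma10_eq : permM (pf (itr fD 10)) = Ma10 := by decide +kernel

theorem rep_Ma10 : Rep8 (perm (mD ^ 10)) Ma10 := by
  rw [← Ma10_eq]
  exact rep8_perm (mD ^ 10) _ (apply_of_repF (repF_npow gD_rep 10))

/-- The matrix `Mt`. -/
def Mt : Matrix GolayPt GolayPt ℤ := ofL
  [[8, 0, 0, 0, 0, 0, 0, 0, 0, 0, 0, 0, 0, 0, 0, 0, 0, 0, 0, 0, 0, 0, 0, 0],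
   [0, 0, 0, 0, 0, 0, 8, 0, 0, 0, 0, 0, 0, 0, 0, 0, 0, 0, 0, 0, 0, 0, 0, 0],
   [0, 0, 8, 0, 0, 0, 0, 0, 0, 0, 0, 0, 0, 0, 0, 0, 0, 0, 0, 0, 0, 0, 0, 0],
   [0, 0, 0, 0, 0, 0, 0, 0, 0, 0, 0, 0, 0, 0, 0, 8, 0, 0, 0, 0, 0, 0, 0, 0],
   [0, 8, 0, 0, 0, 0, 0, 0, 0, 0, 0, 0, 0, 0, 0, 0, 0, 0, 0, 0, 0, 0, 0, 0],
   [0, 0, 0, 0, 0, 0, 0, 0, 8, 0, 0, 0, 0, 0, 0, 0, 0, 0, 0, 0, 0, 0, 0, 0],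
   [0, 0, 0, 0, 0, 0, 0, 0, 0, 0, 0, 0, 0, 0, 0, 0, 0, 0, 8, 0, 0, 0, 0, 0],
   [0, 0, 0, 0, 0, 0, 0, 0, 0, 0, 0, 0, 0, 8, 0, 0, 0, 0, 0, 0, 0, 0, 0, 0],
   [0, 0, 0, 0, 0, 0, 0, 0, 0, 0, 8, 0, 0, 0, 0, 0, 0, 0, 0, 0, 0, 0, 0, 0],
   [0, 0, 0, 0, 0, 0, 0, 0, 0, 0, 0, 0, 0, 0, 0, 0, 0, 0, 0, 0, 8, 0, 0, 0],
   [0, 0, 0, 0, 0, 0, 0, 0, 0, 0, 0, 0, 8, 0, 0, 0, 0, 0, 0, 0, 0, 0, 0, 0],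
   [0, 0, 0, 0, 0, 0, 0, 0, 0, 0, 0, 8, 0, 0, 0, 0, 0, 0, 0, 0, 0, 0, 0, 0],
   [0, 0, 0, 0, 0, 8, 0, 0, 0, 0, 0, 0, 0, 0, 0, 0, 0, 0, 0, 0, 0, 0, 0, 0],
   [0, 0, 0, 0, 0, 0, 0, 8, 0, 0, 0, 0, 0, 0, 0, 0, 0, 0, 0, 0, 0, 0, 0, 0],
   [0, 0, 0, 0, 0, 0, 0, 0, 0, 0, 0, 0, 0, 0, 0, 0, 0, 8, 0, 0, 0, 0, 0, 0],
   [0, 0, 0, 8, 0, 0, 0, 0, 0, 0, 0, 0, 0, 0, 0, 0, 0, 0, 0, 0, 0, 0, 0, 0],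
   [0, 0, 0, 0, 0, 0, 0, 0, 0, 0, 0, 0, 0, 0, 0, 0, 0, 0, 0, 0, 0, 8, 0, 0],
   [0, 0, 0, 0, 0, 0, 0, 0, 0, 0, 0, 0, 0, 0, 0, 0, 0, 0, 0, 0, 0, 0, 8, 0],
   [0, 0, 0, 0, 8, 0, 0, 0, 0, 0, 0, 0, 0, 0, 0, 0, 0, 0, 0, 0, 0, 0, 0, 0],
   [0, 0, 0, 0, 0, 0, 0, 0, 0, 0, 0, 0, 0, 0, 8, 0, 0, 0, 0, 0, 0, 0, 0, 0],
   [0, 0, 0, 0, 0, 0, 0, 0, 0, 0, 0, 0, 0, 0, 0, 0, 8, 0, 0, 0, 0, 0, 0, 0],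
   [0, 0, 0, 0, 0, 0, 0, 0, 0, 8, 0, 0, 0, 0, 0, 0, 0, 0, 0, 0, 0, 0, 0, 0],
   [0, 0, 0, 0, 0, 0, 0, 0, 0, 0, 0, 0, 0, 0, 0, 0, 0, 0, 0, 8, 0, 0, 0, 0],
   [0, 0, 0, 0, 0, 0, 0, 0, 0, 0, 0, 0, 0, 0, 0, 0, 0, 0, 0, 0, 0, 0, 0, 8]]

theorem Mt_eq : permM (pf (fT)) = Mt := by decide +kernel

theorem rep_Mt : Rep8 (perm (mT)) Mt := by
  rw [← Mt_eq]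
  exact rep8_perm (mT) _ (apply_of_repF (gT_rep))

/-- The matrix `Mat`. -/
def Mat : Matrix GolayPt GolayPt ℤ := ofL
  [[8, 0, 0, 0, 0, 0, 0, 0, 0, 0, 0, 0, 0, 0, 0, 0, 0, 0, 0, 0, 0, 0, 0, 0],
   [0, 0, 0, 0, 0, 8, 0, 0, 0, 0, 0, 0, 0, 0, 0, 0, 0, 0, 0, 0, 0, 0, 0, 0],
   [0, 0, 0, 0, 0, 0, 8, 0, 0, 0, 0, 0, 0, 0, 0, 0, 0, 0, 0, 0, 0, 0, 0, 0],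
   [0, 0, 0, 0, 0, 0, 0, 8, 0, 0, 0, 0, 0, 0, 0, 0, 0, 0, 0, 0, 0, 0, 0, 0],
   [0, 0, 8, 0, 0, 0, 0, 0, 0, 0, 0, 0, 0, 0, 0, 0, 0, 0, 0, 0, 0, 0, 0, 0],
   [0, 0, 0, 0, 0, 0, 0, 0, 0, 0, 0, 0, 0, 0, 0, 0, 0, 8, 0, 0, 0, 0, 0, 0],
   [0, 0, 0, 0, 0, 0, 0, 0, 0, 0, 0, 0, 0, 0, 0, 8, 0, 0, 0, 0, 0, 0, 0, 0],
   [0, 0, 0, 8, 0, 0, 0, 0, 0, 0, 0, 0, 0, 0, 0, 0, 0, 0, 0, 0, 0, 0, 0, 0],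
   [0, 8, 0, 0, 0, 0, 0, 0, 0, 0, 0, 0, 0, 0, 0, 0, 0, 0, 0, 0, 0, 0, 0, 0],
   [0, 0, 0, 0, 0, 0, 0, 0, 0, 0, 0, 0, 0, 0, 0, 0, 0, 0, 0, 0, 0, 8, 0, 0],
   [0, 0, 0, 0, 0, 0, 0, 0, 8, 0, 0, 0, 0, 0, 0, 0, 0, 0, 0, 0, 0, 0, 0, 0],
   [0, 0, 0, 0, 0, 0, 0, 0, 0, 0, 0, 0, 0, 0, 0, 0, 0, 0, 0, 0, 0, 0, 8, 0],
   [0, 0, 0, 0, 0, 0, 0, 0, 0, 0, 0, 0, 0, 0, 0, 0, 0, 0, 8, 0, 0, 0, 0, 0],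
   [0, 0, 0, 0, 8, 0, 0, 0, 0, 0, 0, 0, 0, 0, 0, 0, 0, 0, 0, 0, 0, 0, 0, 0],
   [0, 0, 0, 0, 0, 0, 0, 0, 0, 0, 0, 0, 0, 8, 0, 0, 0, 0, 0, 0, 0, 0, 0, 0],
   [0, 0, 0, 0, 0, 0, 0, 0, 0, 0, 0, 0, 0, 0, 8, 0, 0, 0, 0, 0, 0, 0, 0, 0],
   [0, 0, 0, 0, 0, 0, 0, 0, 0, 0, 8, 0, 0, 0, 0, 0, 0, 0, 0, 0, 0, 0, 0, 0],
   [0, 0, 0, 0, 0, 0, 0, 0, 0, 0, 0, 0, 0, 0, 0, 0, 8, 0, 0, 0, 0, 0, 0, 0],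
   [0, 0, 0, 0, 0, 0, 0, 0, 0, 0, 0, 0, 0, 0, 0, 0, 0, 0, 0, 0, 8, 0, 0, 0],
   [0, 0, 0, 0, 0, 0, 0, 0, 0, 8, 0, 0, 0, 0, 0, 0, 0, 0, 0, 0, 0, 0, 0, 0],
   [0, 0, 0, 0, 0, 0, 0, 0, 0, 0, 0, 0, 8, 0, 0, 0, 0, 0, 0, 0, 0, 0, 0, 0],
   [0, 0, 0, 0, 0, 0, 0, 0, 0, 0, 0, 0, 0, 0, 0, 0, 0, 0, 0, 8, 0, 0, 0, 0],
   [0, 0, 0, 0, 0, 0, 0, 0, 0, 0, 0, 8, 0, 0, 0, 0, 0, 0, 0, 0, 0, 0, 0, 0],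
   [0, 0, 0, 0, 0, 0, 0, 0, 0, 0, 0, 0, 0, 0, 0, 0, 0, 0, 0, 0, 0, 0, 0, 8]]

theorem Mat_eq : permM (pf (fun x => fD (fT x))) = Mat := by decide +kernel

theorem rep_Mat : Rep8 (perm (mD * mT)) Mat := by
  rw [← Mat_eq]
  exact rep8_perm (mD * mT) _ (apply_of_repF (gD_rep.mul gT_rep))

/-- The matrix `Ma10t`. -/
def Ma10t : Matrix GolayPt GolayPt ℤ := ofL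
  [[8, 0, 0, 0, 0, 0, 0, 0, 0, 0, 0, 0, 0, 0, 0, 0, 0, 0, 0, 0, 0, 0, 0, 0],
   [0, 0, 8, 0, 0, 0, 0, 0, 0, 0, 0, 0, 0, 0, 0, 0, 0, 0, 0, 0, 0, 0, 0, 0],
   [0, 8, 0, 0, 0, 0, 0, 0, 0, 0, 0, 0, 0, 0, 0, 0, 0, 0, 0, 0, 0, 0, 0, 0],
   [0, 0, 0, 0, 0, 0, 0, 0, 0, 0, 0, 0, 0, 0, 0, 0, 0, 0, 8, 0, 0, 0, 0, 0],
   [0, 0, 0, 0, 0, 0, 0, 0, 0, 0, 8, 0, 0, 0, 0, 0, 0, 0, 0, 0, 0, 0, 0, 0],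
   [0, 0, 0, 0, 0, 0, 0, 0, 0, 0, 0, 0, 8, 0, 0, 0, 0, 0, 0, 0, 0, 0, 0, 0],
   [0, 0, 0, 0, 0, 8, 0, 0, 0, 0, 0, 0, 0, 0, 0, 0, 0, 0, 0, 0, 0, 0, 0, 0],
   [0, 0, 0, 0, 0, 0, 0, 0, 0, 0, 0, 0, 0, 0, 0, 0, 0, 8, 0, 0, 0, 0, 0, 0],
   [0, 0, 0, 0, 0, 0, 0, 0, 0, 0, 0, 0, 0, 0, 0, 0, 0, 0, 0, 0, 0, 8, 0, 0],
   [0, 0, 0, 0, 8, 0, 0, 0, 0, 0, 0, 0, 0, 0, 0, 0, 0, 0, 0, 0, 0, 0, 0, 0],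
   [0, 0, 0, 0, 0, 0, 0, 0, 0, 0, 0, 0, 0, 0, 0, 0, 8, 0, 0, 0, 0, 0, 0, 0],
   [0, 0, 0, 0, 0, 0, 0, 0, 0, 0, 0, 0, 0, 0, 0, 0, 0, 0, 0, 8, 0, 0, 0, 0],
   [0, 0, 0, 0, 0, 0, 8, 0, 0, 0, 0, 0, 0, 0, 0, 0, 0, 0, 0, 0, 0, 0, 0, 0],
   [0, 0, 0, 0, 0, 0, 0, 0, 0, 0, 0, 0, 0, 0, 0, 8, 0, 0, 0, 0, 0, 0, 0, 0],
   [0, 0, 0, 0, 0, 0, 0, 0, 8, 0, 0, 0, 0, 0, 0, 0, 0, 0, 0, 0, 0, 0, 0, 0],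
   [0, 0, 0, 0, 0, 0, 0, 0, 0, 0, 0, 0, 0, 8, 0, 0, 0, 0, 0, 0, 0, 0, 0, 0],
   [0, 0, 0, 0, 0, 0, 0, 0, 0, 0, 0, 0, 0, 0, 0, 0, 0, 0, 0, 0, 8, 0, 0, 0],
   [0, 0, 0, 0, 0, 0, 0, 0, 0, 0, 0, 8, 0, 0, 0, 0, 0, 0, 0, 0, 0, 0, 0, 0],
   [0, 0, 0, 0, 0, 0, 0, 8, 0, 0, 0, 0, 0, 0, 0, 0, 0, 0, 0, 0, 0, 0, 0, 0],
   [0, 0, 0, 8, 0, 0, 0, 0, 0, 0, 0, 0, 0, 0, 0, 0, 0, 0, 0, 0, 0, 0, 0, 0],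
   [0, 0, 0, 0, 0, 0, 0, 0, 0, 0, 0, 0, 0, 0, 0, 0, 0, 0, 0, 0, 0, 0, 8, 0],
   [0, 0, 0, 0, 0, 0, 0, 0, 0, 0, 0, 0, 0, 0, 8, 0, 0, 0, 0, 0, 0, 0, 0, 0],
   [0, 0, 0, 0, 0, 0, 0, 0, 0, 8, 0, 0, 0, 0, 0, 0, 0, 0, 0, 0, 0, 0, 0, 0],
   [0, 0, 0, 0, 0, 0, 0, 0, 0, 0, 0, 0, 0, 0, 0, 0, 0, 0, 0, 0, 0, 0, 0, 8]]

theorem Ma10t_eq : permM (pf (fun x => itr fD 10 (fT x))) = Ma10t := by decide +kernel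

theorem rep_Ma10t : Rep8 (perm (mD ^ 10 * mT)) Ma10t := by
  rw [← Ma10t_eq]
  exact rep8_perm (mD ^ 10 * mT) _ (apply_of_repF ((repF_npow gD_rep 10).mul gT_rep))

/-- The matrix `Ma2t`. -/
def Ma2t : Matrix GolayPt GolayPt ℤ := ofL
  [[8, 0, 0, 0, 0, 0, 0, 0, 0, 0, 0, 0, 0, 0, 0, 0, 0, 0, 0, 0, 0, 0, 0, 0],
   [0, 0, 0, 0, 0, 0, 0, 0, 0, 0, 0, 0, 0, 0, 0, 0, 0, 0, 8, 0, 0, 0, 0, 0],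
   [0, 0, 0, 0, 0, 8, 0, 0, 0, 0, 0, 0, 0, 0, 0, 0, 0, 0, 0, 0, 0, 0, 0, 0],
   [0, 0, 0, 0, 8, 0, 0, 0, 0, 0, 0, 0, 0, 0, 0, 0, 0, 0, 0, 0, 0, 0, 0, 0],
   [0, 0, 0, 0, 0, 0, 8, 0, 0, 0, 0, 0, 0, 0, 0, 0, 0, 0, 0, 0, 0, 0, 0, 0],
   [0, 0, 0, 0, 0, 0, 0, 0, 0, 0, 0, 0, 0, 8, 0, 0, 0, 0, 0, 0, 0, 0, 0, 0],
   [0, 0, 0, 0, 0, 0, 0, 8, 0, 0, 0, 0, 0, 0, 0, 0, 0, 0, 0, 0, 0, 0, 0, 0],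
   [0, 0, 0, 0, 0, 0, 0, 0, 0, 0, 0, 0, 0, 0, 8, 0, 0, 0, 0, 0, 0, 0, 0, 0],
   [0, 0, 8, 0, 0, 0, 0, 0, 0, 0, 0, 0, 0, 0, 0, 0, 0, 0, 0, 0, 0, 0, 0, 0],
   [0, 0, 0, 0, 0, 0, 0, 0, 0, 0, 8, 0, 0, 0, 0, 0, 0, 0, 0, 0, 0, 0, 0, 0],
   [0, 0, 0, 0, 0, 0, 0, 0, 0, 0, 0, 0, 0, 0, 0, 0, 0, 8, 0, 0, 0, 0, 0, 0],
   [0, 0, 0, 0, 0, 0, 0, 0, 0, 0, 0, 0, 0, 0, 0, 0, 8, 0, 0, 0, 0, 0, 0, 0],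
   [0, 0, 0, 0, 0, 0, 0, 0, 0, 0, 0, 0, 0, 0, 0, 8, 0, 0, 0, 0, 0, 0, 0, 0],
   [0, 0, 0, 0, 0, 0, 0, 0, 0, 0, 0, 0, 0, 0, 0, 0, 0, 0, 0, 0, 8, 0, 0, 0],
   [0, 0, 0, 8, 0, 0, 0, 0, 0, 0, 0, 0, 0, 0, 0, 0, 0, 0, 0, 0, 0, 0, 0, 0],
   [0, 0, 0, 0, 0, 0, 0, 0, 0, 8, 0, 0, 0, 0, 0, 0, 0, 0, 0, 0, 0, 0, 0, 0],
   [0, 8, 0, 0, 0, 0, 0, 0, 0, 0, 0, 0, 0, 0, 0, 0, 0, 0, 0, 0, 0, 0, 0, 0],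
   [0, 0, 0, 0, 0, 0, 0, 0, 0, 0, 0, 0, 8, 0, 0, 0, 0, 0, 0, 0, 0, 0, 0, 0],
   [0, 0, 0, 0, 0, 0, 0, 0, 0, 0, 0, 0, 0, 0, 0, 0, 0, 0, 0, 0, 0, 8, 0, 0],
   [0, 0, 0, 0, 0, 0, 0, 0, 0, 0, 0, 0, 0, 0, 0, 0, 0, 0, 0, 8, 0, 0, 0, 0],
   [0, 0, 0, 0, 0, 0, 0, 0, 8, 0, 0, 0, 0, 0, 0, 0, 0, 0, 0, 0, 0, 0, 0, 0],
   [0, 0, 0, 0, 0, 0, 0, 0, 0, 0, 0, 8, 0, 0, 0, 0, 0, 0, 0, 0, 0, 0, 0, 0],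
   [0, 0, 0, 0, 0, 0, 0, 0, 0, 0, 0, 0, 0, 0, 0, 0, 0, 0, 0, 0, 0, 0, 8, 0],
   [0, 0, 0, 0, 0, 0, 0, 0, 0, 0, 0, 0, 0, 0, 0, 0, 0, 0, 0, 0, 0, 0, 0, 8]]

theorem Ma2t_eq : permM (pf (fun x => itr fD 2 (fT x))) = Ma2t := by decide +kernel

theorem rep_Ma2t : Rep8 (perm (mD ^ 2 * mT)) Ma2t := by
  rw [← Ma2t_eq]
  exact rep8_perm (mD ^ 2 * mT) _ (apply_of_repF ((repF_npow gD_rep 2).mul gT_rep))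

/-- The matrix of `8 e`. -/
def E8 : Matrix GolayPt GolayPt ℤ := ofL
  [[6, 0, 0, 2, 0, -2, 0, -2, 0, 0, -2, 0, 0, 0, 0, 0, 0, 0, 0, 0, -2, -2, 0, 2],
   [0, -2, 2, 0, 2, 0, 2, 0, -2, -2, 0, -2, 2, 2, 2, -2, 2, -2, 2, 2, 0, 0, 2, 0],
   [0, 2, -2, 0, 2, 0, 2, 0, 2, -2, 0, 2, 2, 2, -2, -2, -2, 2, 2, 2, 0, 0, -2, 0],
   [0, -2, -2, 0, -2, 0, -2, 0, 2, 2, 0, 2, 2, 2, 2, -2, 2, 2, -2, 2, 0, 0, 2, 0],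
   [0, 2, 2, 0, -2, 0, 2, 0, -2, 2, 0, 2, 2, -2, 2, -2, 2, 2, 2, -2, 0, 0, -2, 0],
   [0, 2, 2, 0, -2, 0, 2, 0, 2, -2, 0, 2, 2, 2, -2, 2, 2, -2, -2, -2, 0, 0, 2, 0],
   [0, 2, 2, 0, 2, 0, -2, 0, 2, 2, 0, 2, -2, -2, -2, -2, 2, -2, 2, 2, 0, 0, 2, 0],
   [0, -2, 2, 0, 2, 0, 2, 0, 2, 2, 0, -2, 2, -2, -2, 2, 2, 2, -2, 2, 0, 0, -2, 0],
   [-2, 0, 0, 2, 0, -2, 0, -2, 0, 0, -2, 0, 0, 0, 0, 0, 0, 0, 0, 0, 6, -2, 0, 2],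
   [-2, 0, 0, 2, 0, 6, 0, -2, 0, 0, -2, 0, 0, 0, 0, 0, 0, 0, 0, 0, -2, -2, 0, 2],
   [0, -2, 2, 0, 2, 0, -2, 0, 2, 2, 0, 2, 2, 2, 2, 2, -2, -2, 2, -2, 0, 0, -2, 0],
   [0, 2, 2, 0, -2, 0, -2, 0, 2, -2, 0, -2, 2, -2, 2, 2, -2, 2, 2, 2, 0, 0, 2, 0],
   [-2, 0, 0, 2, 0, -2, 0, -2, 0, 0, -2, 0, 0, 0, 0, 0, 0, 0, 0, 0, -2, 6, 0, 2],
   [-2, 0, 0, 2, 0, -2, 0, 6, 0, 0, -2, 0, 0, 0, 0, 0, 0, 0, 0, 0, -2, -2, 0, 2],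
   [0, -2, 2, 0, -2, 0, 2, 0, -2, 2, 0, 2, -2, 2, -2, 2, -2, 2, 2, 2, 0, 0, 2, 0],
   [2, 0, 0, 6, 0, 2, 0, 2, 0, 0, 2, 0, 0, 0, 0, 0, 0, 0, 0, 0, 2, 2, 0, -2],
   [-2, 0, 0, 2, 0, -2, 0, -2, 0, 0, 6, 0, 0, 0, 0, 0, 0, 0, 0, 0, -2, -2, 0, 2],
   [0, 2, -2, 0, 2, 0, 2, 0, -2, 2, 0, 2, 2, -2, 2, 2, -2, -2, -2, 2, 0, 0, 2, 0],
   [0, 2, 2, 0, 2, 0, 2, 0, 2, 2, 0, -2, -2, 2, 2, -2, -2, 2, -2, -2, 0, 0, 2, 0],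
   [0, -2, -2, 0, 2, 0, 2, 0, 2, -2, 0, 2, -2, -2, 2, 2, 2, 2, 2, -2, 0, 0, 2, 0],
   [0, 2, -2, 0, 2, 0, -2, 0, -2, 2, 0, -2, 2, 2, -2, 2, 2, 2, 2, -2, 0, 0, 2, 0],
   [0, 2, -2, 0, -2, 0, 2, 0, 2, 2, 0, -2, -2, 2, 2, 2, 2, -2, 2, 2, 0, 0, -2, 0],
   [0, 2, 2, 0, 2, 0, -2, 0, -2, -2, 0, 2, -2, 2, 2, 2, 2, 2, -2, 2, 0, 0, -2, 0],
   [2, 0, 0, -2, 0, 2, 0, 2, 0, 0, 2, 0, 0, 0, 0, 0, 0, 0, 0, 0, 2, 2, 0, 6]]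

/-- The matrix of `8 e⁻¹`. -/
def E8' : Matrix GolayPt GolayPt ℤ := ofL
  [[6, 0, 0, 0, 0, 0, 0, 0, -2, -2, 0, 0, -2, -2, 0, 2, -2, 0, 0, 0, 0, 0, 0, 2],
   [0, -2, 2, -2, 2, 2, 2, -2, 0, 0, -2, 2, 0, 0, -2, 0, 0, 2, 2, -2, 2, 2, 2, 0],
   [0, 2, -2, -2, 2, 2, 2, 2, 0, 0, 2, 2, 0, 0, 2, 0, 0, -2, 2, -2, -2, -2, 2, 0],
   [2, 0, 0, 0, 0, 0, 0, 0, 2, 2, 0, 0, 2, 2, 0, 6, 2, 0, 0, 0, 0, 0, 0, -2],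
   [0, 2, 2, -2, -2, -2, 2, 2, 0, 0, 2, -2, 0, 0, -2, 0, 0, 2, 2, 2, 2, -2, 2, 0],
   [-2, 0, 0, 0, 0, 0, 0, 0, -2, 6, 0, 0, -2, -2, 0, 2, -2, 0, 0, 0, 0, 0, 0, 2],
   [0, 2, 2, -2, 2, 2, -2, 2, 0, 0, -2, -2, 0, 0, 2, 0, 0, 2, 2, 2, -2, 2, -2, 0],
   [-2, 0, 0, 0, 0, 0, 0, 0, -2, -2, 0, 0, -2, 6, 0, 2, -2, 0, 0, 0, 0, 0, 0, 2],
   [0, -2, 2, 2, -2, 2, 2, 2, 0, 0, 2, 2, 0, 0, -2, 0, 0, -2, 2, 2, -2, 2, -2, 0],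
   [0, -2, -2, 2, 2, -2, 2, 2, 0, 0, 2, -2, 0, 0, 2, 0, 0, 2, 2, -2, 2, 2, -2, 0],
   [-2, 0, 0, 0, 0, 0, 0, 0, -2, -2, 0, 0, -2, -2, 0, 2, 6, 0, 0, 0, 0, 0, 0, 2],
   [0, -2, 2, 2, 2, 2, 2, -2, 0, 0, 2, -2, 0, 0, 2, 0, 0, 2, -2, 2, -2, -2, 2, 0],
   [0, 2, 2, 2, 2, 2, -2, 2, 0, 0, 2, 2, 0, 0, -2, 0, 0, 2, -2, -2, 2, -2, -2, 0],
   [0, 2, 2, 2, -2, 2, -2, -2, 0, 0, 2, -2, 0, 0, 2, 0, 0, -2, 2, -2, 2, 2, 2, 0],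
   [0, 2, -2, 2, 2, -2, -2, -2, 0, 0, 2, 2, 0, 0, -2, 0, 0, 2, 2, 2, -2, 2, 2, 0],
   [0, -2, -2, -2, -2, 2, -2, 2, 0, 0, 2, 2, 0, 0, 2, 0, 0, 2, -2, 2, 2, 2, 2, 0],
   [0, 2, -2, 2, 2, 2, 2, 2, 0, 0, -2, -2, 0, 0, -2, 0, 0, -2, -2, 2, 2, 2, 2, 0],
   [0, -2, 2, 2, 2, -2, -2, 2, 0, 0, -2, 2, 0, 0, 2, 0, 0, -2, 2, 2, 2, -2, 2, 0],
   [0, 2, 2, -2, 2, -2, 2, -2, 0, 0, 2, 2, 0, 0, 2, 0, 0, -2, -2, 2, 2, 2, -2, 0],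
   [0, 2, 2, 2, -2, -2, 2, 2, 0, 0, -2, 2, 0, 0, 2, 0, 0, 2, -2, -2, -2, 2, 2, 0],
   [-2, 0, 0, 0, 0, 0, 0, 0, 6, -2, 0, 0, -2, -2, 0, 2, -2, 0, 0, 0, 0, 0, 0, 2],
   [-2, 0, 0, 0, 0, 0, 0, 0, -2, -2, 0, 0, 6, -2, 0, 2, -2, 0, 0, 0, 0, 0, 0, 2],
   [0, 2, -2, 2, -2, 2, 2, -2, 0, 0, -2, 2, 0, 0, 2, 0, 0, 2, 2, 2, 2, -2, -2, 0],
   [2, 0, 0, 0, 0, 0, 0, 0, 2, 2, 0, 0, 2, 2, 0, -2, 2, 0, 0, 0, 0, 0, 0, 6]]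

/-- The matrix of `8 z`. -/
def Z8 : Matrix GolayPt GolayPt ℤ := ofL
  [[-4, 0, 0, 0, 0, 2, 0, 2, 0, 0, 2, 2, 0, 0, 2, 2, 0, 2, 0, 2, 2, 2, 2, -2],
   [0, -4, 0, 0, 0, 2, 0, -2, 0, 0, -2, -2, 0, 0, 2, 2, 0, -2, 0, 2, 2, 2, -2, 2],
   [0, 0, -4, 0, 0, 2, 0, 2, 0, 0, 2, -2, 0, 0, -2, 2, 0, 2, 0, 2, -2, -2, -2, 2],
   [0, 0, 0, -4, 0, -2, 0, -2, 0, 0, -2, 2, 0, 0, 2, 2, 0, 2, 0, 2, -2, -2, 2, 2],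
   [0, 0, 0, 0, -4, -2, 0, 2, 0, 0, 2, 2, 0, 0, 2, 2, 0, -2, 0, -2, 2, -2, -2, 2],
   [2, 2, 2, -2, -2, 4, 2, 0, 2, 2, 0, 0, -2, -2, 0, 0, 2, 0, -2, 0, 0, 0, 0, 0],
   [0, 0, 0, 0, 0, 2, -4, 2, 0, 0, -2, 2, 0, 0, -2, 2, 0, -2, 0, -2, -2, 2, 2, 2],
   [2, -2, 2, -2, 2, 0, 2, 4, 2, -2, 0, 0, 2, 2, 0, 0, -2, 0, -2, 0, 0, 0, 0, 0],
   [0, 0, 0, 0, 0, 2, 0, 2, -4, 0, -2, -2, 0, 0, 2, -2, 0, 2, 0, -2, 2, -2, 2, 2],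
   [0, 0, 0, 0, 0, 2, 0, -2, 0, -4, 2, 2, 0, 0, -2, -2, 0, -2, 0, 2, 2, -2, 2, 2],
   [2, -2, 2, -2, 2, 0, -2, 0, -2, 2, 4, 0, 2, -2, 0, 0, 2, 0, 2, 0, 0, 0, 0, 0],
   [2, -2, -2, 2, 2, 0, 2, 0, -2, 2, 0, 4, -2, 2, 0, 0, 2, 0, -2, 0, 0, 0, 0, 0],
   [0, 0, 0, 0, 0, -2, 0, 2, 0, 0, 2, -2, -4, 0, 2, -2, 0, -2, 0, 2, -2, 2, 2, 2],
   [0, 0, 0, 0, 0, -2, 0, 2, 0, 0, -2, 2, 0, -4, -2, -2, 0, 2, 0, 2, 2, 2, -2, 2],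
   [2, 2, -2, 2, 2, 0, -2, 0, 2, -2, 0, 0, 2, -2, 4, 0, 2, 0, -2, 0, 0, 0, 0, 0],
   [2, 2, 2, 2, 2, 0, 2, 0, -2, -2, 0, 0, -2, -2, 0, 4, -2, 0, 2, 0, 0, 0, 0, 0],
   [0, 0, 0, 0, 0, 2, 0, -2, 0, 0, 2, 2, 0, 0, 2, -2, -4, 2, 0, -2, -2, 2, -2, 2],
   [2, -2, 2, 2, -2, 0, -2, 0, 2, -2, 0, 0, -2, 2, 0, 0, 2, 4, 2, 0, 0, 0, 0, 0],
   [0, 0, 0, 0, 0, -2, 0, -2, 0, 0, 2, -2, 0, 0, -2, 2, 0, 2, -4, -2, 2, 2, 2, 2],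
   [2, 2, 2, 2, -2, 0, -2, 0, -2, 2, 0, 0, 2, 2, 0, 0, -2, 0, -2, 4, 0, 0, 0, 0],
   [2, 2, -2, -2, 2, 0, -2, 0, 2, 2, 0, 0, -2, 2, 0, 0, -2, 0, 2, 0, 4, 0, 0, 0],
   [2, 2, -2, -2, -2, 0, 2, 0, -2, -2, 0, 0, 2, 2, 0, 0, 2, 0, 2, 0, 0, 4, 0, 0],
   [2, -2, -2, 2, -2, 0, 2, 0, 2, 2, 0, 0, 2, -2, 0, 0, -2, 0, 2, 0, 0, 0, 4, 0],
   [-2, 2, 2, 2, 2, 0, 2, 0, 2, 2, 0, 0, 2, 2, 0, 0, 2, 0, 2, 0, 0, 0, 0, 4]]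

theorem E8_eq : (2 : ℤ) • EB = E8 := by decide +kernel
theorem E8'_eq : (2 : ℤ) • EB' = E8' := by decide +kernel
theorem Z8_eq : (2 : ℤ) • ZB = Z8 := by decide +kernel

theorem rep_e : Rep8 eE E8 := by rw [← E8_eq]; exact rep8_eE
theorem rep_e' : Rep8 eE' E8' := by rw [← E8'_eq]; exact rep8_eE'
theorem rep_z : Rep8 zE Z8 := by rw [← Z8_eq]; exact rep8_zE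

/-- The matrix of `8 e²`. -/
def E2 : Matrix GolayPt GolayPt ℤ := ofL
  [[5, -1, -1, 1, -1, -1, -1, -1, -1, -1, -1, 1, -1, -1, 1, -3, -1, 1, -1, 1, -1, -1, 1, 3],
   [-1, 1, 1, -1, 1, -3, 1, 1, 1, 1, 1, 3, -3, 1, -1, -1, 1, 3, 1, -1, -3, 1, -1, 1],
   [-1, 1, 1, -1, 1, -3, 1, 1, 1, 1, -3, -1, 1, -3, 3, -1, 1, -1, 1, -1, 1, 1, 3, 1],
   [-3, -1, -1, 1, -1, -1, -1, -1, -1, -1, -1, 1, -1, -1, 1, 5, -1, 1, -1, 1, -1, -1, 1, 3],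
   [-1, 1, 1, -1, 1, 1, 1, -3, 1, 1, 1, -1, 1, 1, -1, -1, -3, -1, 1, 3, -3, 1, 3, 1],
   [-1, 1, 1, 3, 1, -3, -3, 1, 1, -3, 1, -1, 1, 1, -1, -1, 1, -1, 1, 3, 1, 1, -1, 1],
   [-1, 1, 1, -1, 1, 1, 1, -3, 1, -3, 1, -1, 1, 1, 3, -1, 1, 3, 1, -1, 1, -3, -1, 1],
   [-1, 1, -3, 3, 1, 1, 1, -3, 1, 1, 1, 3, 1, -3, -1, -1, 1, -1, 1, -1, 1, 1, -1, 1],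
   [-1, 1, -3, -1, 1, 1, -3, 1, -3, 1, 1, -1, 1, 1, -1, -1, 1, 3, 1, -1, 1, 1, 3, 1],
   [-1, 1, 1, -1, -3, 1, 1, 1, 1, -3, 1, 3, 1, 1, -1, -1, 1, -1, -3, -1, 1, 1, 3, 1],
   [-1, 1, 1, 3, -3, 1, 1, 1, 1, 1, -3, -1, 1, 1, -1, -1, -3, 3, 1, -1, 1, 1, -1, 1],
   [1, -1, -1, 1, 3, -1, 3, -1, -1, -1, -1, 1, -1, 3, 1, 1, -1, 1, -1, 1, 3, 3, 1, -1],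
   [-1, 1, -3, -1, -3, 1, 1, 1, 1, 1, 1, -1, -3, 1, 3, -1, 1, -1, 1, 3, 1, 1, -1, 1],
   [-1, -3, 1, -1, 1, 1, 1, 1, 1, 1, 1, -1, 1, -3, -1, -1, 1, 3, -3, 3, 1, 1, -1, 1],
   [1, 3, -1, 1, 3, 3, -1, 3, 3, -1, -1, 1, -1, -1, 1, 1, -1, 1, -1, 1, -1, -1, 1, -1],
   [1, -1, -1, 1, -1, -1, -1, -1, 3, 3, -1, 1, 3, 3, 1, 1, 3, 1, -1, 1, -1, -1, 1, -1],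
   [-1, -3, 1, -1, 1, 1, -3, 1, 1, 1, 1, 3, 1, 1, 3, -1, -3, -1, 1, -1, 1, 1, -1, 1],
   [1, -1, 3, 1, -1, 3, -1, -1, -1, -1, -1, 1, -1, -1, 1, 1, 3, 1, 3, 1, -1, 3, 1, -1],
   [-1, 1, 1, -1, 1, 1, 1, 1, -3, 1, -3, 3, 1, 1, -1, -1, 1, -1, 1, 3, 1, -3, -1, 1],
   [1, 3, 3, 1, -1, -1, -1, -1, -1, 3, 3, 1, -1, -1, 1, 1, -1, 1, -1, 1, 3, -1, 1, -1],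
   [-1, 1, 1, 3, 1, 1, 1, 1, -3, 1, 1, -1, 1, 1, 3, -1, 1, -1, -3, -1, -3, 1, -1, 1],
   [-1, -3, 1, 3, 1, 1, 1, 1, 1, 1, 1, -1, -3, 1, -1, -1, 1, -1, 1, -1, 1, -3, 3, 1],
   [1, -1, -1, 1, -1, -1, 3, 3, -1, -1, 3, 1, 3, -1, 1, 1, -1, 1, 3, 1, -1, -1, 1, -1],
   [3, 1, 1, -1, 1, 1, 1, 1, 1, 1, 1, -1, 1, 1, -1, 3, 1, -1, 1, -1, 1, 1, -1, 5]]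

/-- The matrix of `8 e³ = 8 e⁻²`. -/
def E3 : Matrix GolayPt GolayPt ℤ := ofL
  [[5, -1, -1, -3, -1, -1, -1, -1, -1, -1, -1, 1, -1, -1, 1, 1, -1, 1, -1, 1, -1, -1, 1, 3],
   [-1, 1, 1, -1, 1, 1, 1, 1, 1, 1, 1, -1, 1, -3, 3, -1, -3, -1, 1, 3, 1, -3, -1, 1],
   [-1, 1, 1, -1, 1, 1, 1, -3, -3, 1, 1, -1, -3, 1, -1, -1, 1, 3, 1, 3, 1, 1, -1, 1],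
   [1, -1, -1, 1, -1, 3, -1, 3, -1, -1, 3, 1, -1, -1, 1, 1, -1, 1, -1, 1, 3, 3, 1, -1],
   [-1, 1, 1, -1, 1, 1, 1, 1, 1, -3, -3, 3, -3, 1, 3, -1, 1, -1, 1, -1, 1, 1, -1, 1],
   [-1, -3, -3, -1, 1, -3, 1, 1, 1, 1, 1, -1, 1, 1, 3, -1, 1, 3, 1, -1, 1, 1, -1, 1],
   [-1, 1, 1, -1, 1, -3, 1, 1, -3, 1, 1, 3, 1, 1, -1, -1, -3, -1, 1, -1, 1, 1, 3, 1],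
   [-1, 1, 1, -1, -3, 1, -3, -3, 1, 1, 1, -1, 1, 1, 3, -1, 1, -1, 1, -1, 1, 1, 3, 1],
   [-1, 1, 1, -1, 1, 1, 1, 1, -3, 1, 1, -1, 1, 1, 3, 3, 1, -1, -3, -1, -3, 1, -1, 1],
   [-1, 1, 1, -1, 1, -3, -3, 1, 1, -3, 1, -1, 1, 1, -1, 3, 1, -1, 1, 3, 1, 1, -1, 1],
   [-1, 1, -3, -1, 1, 1, 1, 1, 1, 1, -3, -1, 1, 1, -1, -1, 1, -1, -3, 3, 1, 1, 3, 1],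
   [1, 3, -1, 1, -1, -1, -1, 3, -1, 3, -1, 1, -1, -1, 1, 1, 3, 1, 3, 1, -1, -1, 1, -1],
   [-1, -3, 1, -1, 1, 1, 1, 1, 1, 1, 1, -1, -3, 1, -1, 3, 1, -1, 1, -1, 1, -3, 3, 1],
   [-1, 1, -3, -1, 1, 1, 1, -3, 1, 1, 1, 3, 1, -3, -1, 3, 1, -1, 1, -1, 1, 1, -1, 1],
   [1, -1, 3, 1, -1, -1, 3, -1, -1, -1, -1, 1, 3, -1, 1, 1, 3, 1, -1, 1, 3, -1, 1, -1],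
   [-3, -1, -1, 5, -1, -1, -1, -1, -1, -1, -1, 1, -1, -1, 1, 1, -1, 1, -1, 1, -1, -1, 1, 3],
   [-1, 1, 1, -1, -3, 1, 1, 1, 1, 1, -3, -1, 1, 1, -1, 3, -3, 3, 1, -1, 1, 1, -1, 1],
   [1, 3, -1, 1, -1, -1, 3, -1, 3, -1, 3, 1, -1, 3, 1, 1, -1, 1, -1, 1, -1, -1, 1, -1],
   [-1, 1, 1, -1, 1, 1, 1, 1, 1, -3, 1, -1, 1, -3, -1, -1, 1, 3, 1, -1, -3, 1, 3, 1],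
   [1, -1, -1, 1, 3, 3, -1, -1, -1, -1, -1, 1, 3, 3, 1, 1, -1, 1, 3, 1, -1, -1, 1, -1],
   [-1, -3, 1, -1, -3, 1, 1, 1, 1, 1, 1, 3, 1, 1, -1, -1, 1, -1, 1, 3, -3, 1, -1, 1],
   [-1, 1, 1, -1, 1, 1, -3, 1, 1, 1, 1, 3, 1, 1, -1, -1, 1, 3, -3, -1, 1, -3, -1, 1],
   [1, -1, 3, 1, 3, -1, -1, -1, 3, 3, -1, 1, -1, -1, 1, 1, -1, 1, -1, 1, -1, 3, 1, -1],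
   [3, 1, 1, 3, 1, 1, 1, 1, 1, 1, 1, -1, 1, 1, -1, -1, 1, -1, 1, -1, 1, 1, -1, 5]]

theorem E2_mul : E8 * E8 = (8 : ℤ) • E2 := by decide +kernel

theorem E4_mul : E2 * E2 = (8 : ℤ) • E8' := by decide +kernel

theorem E3_mul : E8' * E8' = (8 : ℤ) • E3 := by decide +kernel

theorem rep_e2 : Rep8 (eE * eE) E2 := rep8_mul rep_e rep_e E2 E2_mul

theorem rep_e3 : Rep8 (eE' * eE') E3 := rep8_mul rep_e' rep_e' E3 E3_mul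

theorem eE_four : eE ^ 4 = eE' := by
  have h : Rep8 ((eE * eE) * (eE * eE)) E8' := rep8_mul rep_e2 rep_e2 E8' E4_mul
  have e : eE ^ 4 = (eE * eE) * (eE * eE) := by
    simp only [pow_succ, pow_zero, one_mul, mul_assoc]
  rw [e]
  exact rep8_ext h rep_e'

theorem eE_five : eE ^ 5 = 1 := by
  rw [pow_succ, eE_four, eE'_mul]

theorem eE_two : eE ^ 2 = eE * eE := pow_two eE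

theorem eE_three : eE ^ 3 = eE' * eE' := by
  have h1 : eE' = eE⁻¹ := eE_inv.symm
  have h2 : eE ^ 3 * eE ^ 2 = 1 := by rw [← pow_add]; exact eE_five
  rw [h1, ← mul_inv_rev, ← pow_two]
  exact eq_inv_of_mul_eq_one_left h2

/-- The matrix of `8 z e`. -/
def K1 : Matrix GolayPt GolayPt ℤ := ofL
  [[-3, 1, 1, 1, 1, 1, 1, 1, 1, 1, 1, 1, 1, 1, 1, 5, 1, 1, 1, 1, 1, 1, 1, -3],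
   [1, 1, -3, 1, -3, 1, 1, 1, 1, 1, 1, 1, -3, 1, -3, 1, 1, 1, 1, -3, 1, 1, 1, 1],
   [1, -3, 1, 1, 1, 1, 1, 1, 1, 1, 1, 1, 1, -3, 1, 1, 1, -3, -3, -3, 1, 1, 1, 1],
   [1, 1, 1, 1, 1, 1, 1, 1, -3, -3, 1, 1, -3, -3, 1, 1, -3, 1, 1, 1, 1, 1, 1, 1],
   [1, -3, 1, 1, 1, 1, -3, 1, 1, 1, 1, -3, 1, 1, -3, 1, -3, 1, 1, 1, 1, 1, 1, 1],
   [1, 1, 1, 1, 1, 1, 1, -3, 1, -3, 1, 1, 1, 1, -3, 1, 1, -3, 1, 1, 1, -3, 1, 1],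
   [1, 1, 1, 1, -3, 1, 1, 1, 1, -3, 1, -3, 1, 1, 1, 1, 1, 1, -3, 1, 1, 1, -3, 1],
   [1, 1, 1, 1, 1, -3, 1, 1, 1, 1, -3, 1, 1, -3, -3, 1, 1, 1, 1, 1, 1, 1, -3, 1],
   [1, 1, 1, -3, 1, 1, 1, 1, -3, 1, 1, 1, 1, 1, -3, 1, 1, 1, -3, 1, -3, 1, 1, 1],
   [1, 1, 1, -3, 1, -3, -3, 1, 1, -3, 1, 1, 1, 1, 1, 1, 1, 1, 1, -3, 1, 1, 1, 1],
   [1, 1, 1, 1, 1, 1, 1, -3, 1, 1, 1, 1, 1, 1, 1, 1, -3, 1, 1, -3, -3, 1, -3, 1],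
   [1, 1, 1, 1, -3, 1, -3, 1, 1, 1, 1, 1, 1, -3, 1, 1, 1, 1, 1, 1, -3, -3, 1, 1],
   [1, -3, 1, -3, 1, 1, 1, 1, 1, 1, 1, 1, -3, 1, 1, 1, 1, 1, 1, 1, 1, -3, -3, 1],
   [1, 1, -3, -3, 1, 1, 1, -3, 1, 1, 1, -3, 1, -3, 1, 1, 1, 1, 1, 1, 1, 1, 1, 1],
   [1, -3, 1, 1, -3, -3, 1, -3, -3, 1, 1, 1, 1, 1, 1, 1, 1, 1, 1, 1, 1, 1, 1, 1],
   [5, 1, 1, 1, 1, 1, 1, 1, 1, 1, 1, 1, 1, 1, 1, -3, 1, 1, 1, 1, 1, 1, 1, -3],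
   [1, 1, 1, -3, -3, 1, 1, 1, 1, 1, -3, 1, 1, 1, 1, 1, -3, -3, 1, 1, 1, 1, 1, 1],
   [1, 1, -3, 1, 1, -3, 1, 1, 1, 1, 1, 1, 1, 1, 1, 1, -3, 1, -3, 1, 1, -3, 1, 1],
   [1, 1, -3, 1, 1, 1, -3, 1, -3, 1, 1, 1, 1, 1, 1, 1, 1, -3, 1, 1, 1, 1, -3, 1],
   [1, -3, -3, 1, 1, 1, 1, 1, 1, -3, -3, 1, 1, 1, 1, 1, 1, 1, 1, 1, -3, 1, 1, 1],
   [1, 1, 1, 1, 1, 1, 1, 1, -3, 1, -3, -3, 1, 1, 1, 1, 1, 1, 1, -3, 1, -3, 1, 1],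
   [1, 1, 1, 1, 1, -3, 1, 1, 1, 1, 1, -3, -3, 1, 1, 1, 1, -3, 1, 1, -3, 1, 1, 1],
   [1, 1, 1, 1, 1, 1, -3, -3, 1, 1, -3, 1, -3, 1, 1, 1, 1, 1, -3, 1, 1, 1, 1, 1],
   [-3, 1, 1, 1, 1, 1, 1, 1, 1, 1, 1, 1, 1, 1, 1, -3, 1, 1, 1, 1, 1, 1, 1, 5]]

theorem K1_mul : Z8 * E8 = (8 : ℤ) • K1 := by decide +kernel

theorem K1_mul' : E8' * Z8 = (8 : ℤ) • K1 := by decide +kernel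

/-- The matrix of `8 z t`. -/
def K2 : Matrix GolayPt GolayPt ℤ := ofL
  [[-4, 0, 0, 2, 0, 0, 0, 0, 2, 2, 0, 2, 2, 2, 2, 0, 2, 2, 0, 2, 0, 0, 2, -2],
   [0, 0, 0, 2, 0, 0, -4, 0, 2, 2, 0, -2, -2, -2, 2, 0, 2, 2, 0, -2, 0, 0, -2, 2],
   [0, 0, -4, 2, 0, 0, 0, 0, 2, -2, 0, -2, 2, 2, 2, 0, -2, -2, 0, -2, 0, 0, 2, 2],
   [0, 0, 0, 2, 0, 0, 0, 0, -2, -2, 0, 2, -2, -2, 2, -4, -2, 2, 0, 2, 0, 0, 2, 2],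
   [0, -4, 0, 2, 0, 0, 0, 0, -2, -2, 0, 2, 2, 2, -2, 0, 2, 2, 0, -2, 0, 0, -2, 2],
   [2, -2, 2, 0, -2, -2, 2, -2, 4, 0, 2, 0, 0, 0, 0, -2, 0, 0, 2, 0, 2, 2, 0, 0],
   [0, 0, 0, 2, 0, 0, 0, 0, 2, 2, 0, 2, -2, 2, -2, 0, -2, -2, -4, 2, 0, 0, -2, 2],
   [2, 2, 2, 0, -2, 2, -2, 2, 0, 0, 2, 0, 0, 4, 0, -2, 0, 0, 2, 0, -2, -2, 0, 0],
   [0, 0, 0, -2, 0, 0, 0, 0, 2, -2, -4, -2, -2, 2, -2, 0, 2, 2, 0, 2, 0, 0, 2, 2],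
   [0, 0, 0, -2, 0, 0, 0, 0, 2, -2, 0, 2, 2, -2, 2, 0, 2, -2, 0, 2, -4, 0, -2, 2],
   [2, 2, 2, 0, 2, 2, -2, -2, 0, 0, -2, 0, 4, 0, 0, -2, 0, 0, -2, 0, 2, 2, 0, 0],
   [2, 2, -2, 0, -2, -2, -2, 2, 0, 0, -2, 4, 0, 0, 0, 2, 0, 0, 2, 0, 2, 2, 0, 0],
   [0, 0, 0, -2, 0, -4, 0, 0, -2, 2, 0, -2, 2, 2, 2, 0, -2, 2, 0, 2, 0, 0, -2, 2],
   [0, 0, 0, -2, 0, 0, 0, -4, -2, 2, 0, 2, -2, 2, 2, 0, 2, -2, 0, -2, 0, 0, 2, 2],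
   [2, 2, -2, 0, -2, 2, 2, -2, 0, 0, 2, 0, 0, 0, 0, 2, 0, 4, -2, 0, -2, 2, 0, 0],
   [2, 2, 2, 4, 2, -2, 2, -2, 0, 0, -2, 0, 0, 0, 0, 2, 0, 0, 2, 0, -2, -2, 0, 0],
   [0, 0, 0, -2, 0, 0, 0, 0, 2, 2, 0, 2, 2, -2, -2, 0, -2, 2, 0, -2, 0, -4, 2, 2],
   [2, -2, 2, 0, 2, -2, -2, 2, 0, 0, 2, 0, 0, 0, 0, 2, 0, 0, -2, 0, -2, 2, 4, 0],
   [0, 0, 0, 2, -4, 0, 0, 0, -2, 2, 0, -2, 2, -2, -2, 0, 2, -2, 0, 2, 0, 0, 2, 2],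
   [2, -2, 2, 0, -2, 2, 2, 2, 0, 0, -2, 0, 0, 0, 4, 2, 0, 0, -2, 0, 2, -2, 0, 0],
   [2, 2, -2, 0, 2, -2, 2, 2, 0, 0, 2, 0, 0, 0, 0, -2, 4, 0, -2, 0, 2, -2, 0, 0],
   [2, -2, -2, 0, 2, 2, 2, 2, 0, 4, -2, 0, 0, 0, 0, -2, 0, 0, 2, 0, -2, 2, 0, 0],
   [2, -2, -2, 0, 2, 2, -2, -2, 0, 0, 2, 0, 0, 0, 0, 2, 0, 0, 2, 4, 2, -2, 0, 0],
   [-2, 2, 2, 0, 2, 2, 2, 2, 0, 0, 2, 0, 0, 0, 0, 2, 0, 0, 2, 0, 2, 2, 0, 4]]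

/-- The matrix of `8 t e²`. -/
def K3 : Matrix GolayPt GolayPt ℤ := ofL
  [[5, -1, -1, 1, -1, -1, -1, -1, -1, -1, -1, 1, -1, -1, 1, -3, -1, 1, -1, 1, -1, -1, 1, 3],
   [-1, 1, 1, -1, 1, 1, 1, -3, 1, -3, 1, -1, 1, 1, 3, -1, 1, 3, 1, -1, 1, -3, -1, 1],
   [-1, 1, 1, -1, 1, -3, 1, 1, 1, 1, -3, -1, 1, -3, 3, -1, 1, -1, 1, -1, 1, 1, 3, 1],
   [1, -1, -1, 1, -1, -1, -1, -1, 3, 3, -1, 1, 3, 3, 1, 1, 3, 1, -1, 1, -1, -1, 1, -1],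
   [-1, 1, 1, -1, 1, -3, 1, 1, 1, 1, 1, 3, -3, 1, -1, -1, 1, 3, 1, -1, -3, 1, -1, 1],
   [-1, 1, -3, -1, 1, 1, -3, 1, -3, 1, 1, -1, 1, 1, -1, -1, 1, 3, 1, -1, 1, 1, 3, 1],
   [-1, 1, 1, -1, 1, 1, 1, 1, -3, 1, -3, 3, 1, 1, -1, -1, 1, -1, 1, 3, 1, -3, -1, 1],
   [-1, -3, 1, -1, 1, 1, 1, 1, 1, 1, 1, -1, 1, -3, -1, -1, 1, 3, -3, 3, 1, 1, -1, 1],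
   [-1, 1, 1, 3, -3, 1, 1, 1, 1, 1, -3, -1, 1, 1, -1, -1, -3, 3, 1, -1, 1, 1, -1, 1],
   [-1, 1, 1, 3, 1, 1, 1, 1, -3, 1, 1, -1, 1, 1, 3, -1, 1, -1, -3, -1, -3, 1, -1, 1],
   [-1, 1, -3, -1, -3, 1, 1, 1, 1, 1, 1, -1, -3, 1, 3, -1, 1, -1, 1, 3, 1, 1, -1, 1],
   [1, -1, -1, 1, 3, -1, 3, -1, -1, -1, -1, 1, -1, 3, 1, 1, -1, 1, -1, 1, 3, 3, 1, -1],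
   [-1, 1, 1, 3, 1, -3, -3, 1, 1, -3, 1, -1, 1, 1, -1, -1, 1, -1, 1, 3, 1, 1, -1, 1],
   [-1, 1, -3, 3, 1, 1, 1, -3, 1, 1, 1, 3, 1, -3, -1, -1, 1, -1, 1, -1, 1, 1, -1, 1],
   [1, -1, 3, 1, -1, 3, -1, -1, -1, -1, -1, 1, -1, -1, 1, 1, 3, 1, 3, 1, -1, 3, 1, -1],
   [-3, -1, -1, 1, -1, -1, -1, -1, -1, -1, -1, 1, -1, -1, 1, 5, -1, 1, -1, 1, -1, -1, 1, 3],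
   [-1, -3, 1, 3, 1, 1, 1, 1, 1, 1, 1, -1, -3, 1, -1, -1, 1, -1, 1, -1, 1, -3, 3, 1],
   [1, -1, -1, 1, -1, -1, 3, 3, -1, -1, 3, 1, 3, -1, 1, 1, -1, 1, 3, 1, -1, -1, 1, -1],
   [-1, 1, 1, -1, 1, 1, 1, -3, 1, 1, 1, -1, 1, 1, -1, -1, -3, -1, 1, 3, -3, 1, 3, 1],
   [1, 3, -1, 1, 3, 3, -1, 3, 3, -1, -1, 1, -1, -1, 1, 1, -1, 1, -1, 1, -1, -1, 1, -1],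
   [-1, -3, 1, -1, 1, 1, -3, 1, 1, 1, 1, 3, 1, 1, 3, -1, -3, -1, 1, -1, 1, 1, -1, 1],
   [-1, 1, 1, -1, -3, 1, 1, 1, 1, -3, 1, 3, 1, 1, -1, -1, 1, -1, -3, -1, 1, 1, 3, 1],
   [1, 3, 3, 1, -1, -1, -1, -1, -1, 3, 3, 1, -1, -1, 1, 1, -1, 1, -1, 1, 3, -1, 1, -1],
   [3, 1, 1, -1, 1, 1, 1, 1, 1, 1, 1, -1, 1, 1, -1, 3, 1, -1, 1, -1, 1, 1, -1, 5]]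

theorem K2_mul : Z8 * Mt = (8 : ℤ) • K2 := by decide +kernel

theorem K3_mul : Mt * E2 = (8 : ℤ) • K3 := by decide +kernel

theorem K2_mul' : K3 * Z8 = (8 : ℤ) • K2 := by decide +kernel

theorem zE_eE : zE * eE = eE' * zE :=
  rep8_ext (rep8_mul rep_z rep_e K1 K1_mul) (rep8_mul rep_e' rep_z K1 K1_mul')

theorem zE_PT : zE * PT = (PT * (eE * eE)) * zE :=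
  rep8_ext (rep8_mul rep_z rep_Mt K2 K2_mul)
    (rep8_mul (rep8_mul rep_Mt rep_e2 K3 K3_mul) rep_z K2 K2_mul')

/-- The matrix `AE`. -/
def AE : Matrix GolayPt GolayPt ℤ := ofL
  [[6, 0, 0, 2, 0, -2, 0, -2, 0, 0, -2, 0, 0, 0, 0, 0, 0, 0, 0, 0, -2, -2, 0, 2],
   [-2, 0, 0, 2, 0, -2, 0, -2, 0, 0, -2, 0, 0, 0, 0, 0, 0, 0, 0, 0, -2, 6, 0, 2],
   [0, -2, 2, 0, 2, 0, 2, 0, -2, -2, 0, -2, 2, 2, 2, -2, 2, -2, 2, 2, 0, 0, 2, 0],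
   [-2, 0, 0, 2, 0, -2, 0, 6, 0, 0, -2, 0, 0, 0, 0, 0, 0, 0, 0, 0, -2, -2, 0, 2],
   [0, 2, -2, 0, 2, 0, 2, 0, 2, -2, 0, 2, 2, 2, -2, -2, -2, 2, 2, 2, 0, 0, -2, 0],
   [0, -2, 2, 0, -2, 0, 2, 0, -2, 2, 0, 2, -2, 2, -2, 2, -2, 2, 2, 2, 0, 0, 2, 0],
   [0, -2, -2, 0, -2, 0, -2, 0, 2, 2, 0, 2, 2, 2, 2, -2, 2, 2, -2, 2, 0, 0, 2, 0],
   [2, 0, 0, 6, 0, 2, 0, 2, 0, 0, 2, 0, 0, 0, 0, 0, 0, 0, 0, 0, 2, 2, 0, -2],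
   [0, 2, 2, 0, -2, 0, 2, 0, -2, 2, 0, 2, 2, -2, 2, -2, 2, 2, 2, -2, 0, 0, -2, 0],
   [-2, 0, 0, 2, 0, -2, 0, -2, 0, 0, 6, 0, 0, 0, 0, 0, 0, 0, 0, 0, -2, -2, 0, 2],
   [0, 2, 2, 0, -2, 0, 2, 0, 2, -2, 0, 2, 2, 2, -2, 2, 2, -2, -2, -2, 0, 0, 2, 0],
   [0, 2, -2, 0, 2, 0, 2, 0, -2, 2, 0, 2, 2, -2, 2, 2, -2, -2, -2, 2, 0, 0, 2, 0],
   [0, 2, 2, 0, 2, 0, -2, 0, 2, 2, 0, 2, -2, -2, -2, -2, 2, -2, 2, 2, 0, 0, 2, 0],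
   [0, 2, 2, 0, 2, 0, 2, 0, 2, 2, 0, -2, -2, 2, 2, -2, -2, 2, -2, -2, 0, 0, 2, 0],
   [0, -2, 2, 0, 2, 0, 2, 0, 2, 2, 0, -2, 2, -2, -2, 2, 2, 2, -2, 2, 0, 0, -2, 0],
   [0, -2, -2, 0, 2, 0, 2, 0, 2, -2, 0, 2, -2, -2, 2, 2, 2, 2, 2, -2, 0, 0, 2, 0],
   [-2, 0, 0, 2, 0, -2, 0, -2, 0, 0, -2, 0, 0, 0, 0, 0, 0, 0, 0, 0, 6, -2, 0, 2],
   [0, 2, -2, 0, 2, 0, -2, 0, -2, 2, 0, -2, 2, 2, -2, 2, 2, 2, 2, -2, 0, 0, 2, 0],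
   [-2, 0, 0, 2, 0, 6, 0, -2, 0, 0, -2, 0, 0, 0, 0, 0, 0, 0, 0, 0, -2, -2, 0, 2],
   [0, 2, -2, 0, -2, 0, 2, 0, 2, 2, 0, -2, -2, 2, 2, 2, 2, -2, 2, 2, 0, 0, -2, 0],
   [0, -2, 2, 0, 2, 0, -2, 0, 2, 2, 0, 2, 2, 2, 2, 2, -2, -2, 2, -2, 0, 0, -2, 0],
   [0, 2, 2, 0, 2, 0, -2, 0, -2, -2, 0, 2, -2, 2, 2, 2, 2, 2, -2, 2, 0, 0, -2, 0],
   [0, 2, 2, 0, -2, 0, -2, 0, 2, -2, 0, -2, 2, -2, 2, 2, -2, 2, 2, 2, 0, 0, 2, 0],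
   [2, 0, 0, -2, 0, 2, 0, 2, 0, 0, 2, 0, 0, 0, 0, 0, 0, 0, 0, 0, 2, 2, 0, 6]]

/-- The matrix `AE2`. -/
def AE2 : Matrix GolayPt GolayPt ℤ := ofL
  [[4, 0, -2, 0, 0, -2, 0, 0, 0, 0, -2, -2, 0, -2, 0, -2, 0, 0, 0, 0, -2, -2, 0, 4],
   [-2, 2, 0, -2, 2, 0, -2, 2, -2, -2, 0, 0, -2, 0, 2, 0, 2, 2, -2, 2, 0, 0, -2, 2],
   [0, 0, 2, 0, 0, 2, 0, 0, 4, 0, -2, -2, 0, 2, 0, -2, 0, 0, 0, 4, 2, -2, 0, 0],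
   [0, 0, -2, 4, 0, 2, 0, 4, 0, 0, 2, -2, 0, -2, 0, -2, 0, 0, 0, 0, 2, 2, 0, 0],
   [0, 4, -2, 0, 0, 2, 0, 0, 0, 4, -2, 2, 0, 2, 0, -2, 0, 0, 0, 0, -2, 2, 0, 0],
   [0, 0, -2, 0, 0, 2, 0, 0, 0, 0, 2, -2, 0, 2, 4, 2, 0, 0, 0, 0, -2, -2, 4, 0],
   [0, 4, 2, 0, 0, -2, 0, 0, 0, 4, 2, -2, 0, -2, 0, 2, 0, 0, 0, 0, 2, -2, 0, 0],
   [0, 0, 2, 4, 0, -2, 0, 4, 0, 0, -2, 2, 0, 2, 0, 2, 0, 0, 0, 0, -2, -2, 0, 0],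
   [-2, -2, 0, 2, 2, 0, -2, -2, -2, 2, 0, 0, 2, 0, -2, 0, 2, -2, -2, 2, 0, 0, 2, 2],
   [-2, 2, 0, -2, -2, 0, 2, 2, 2, -2, 0, 0, 2, 0, -2, 0, 2, -2, -2, -2, 0, 0, 2, 2],
   [0, 0, 2, 0, 0, -2, 0, 0, 0, 0, -2, 2, 0, -2, 4, -2, 0, 0, 0, 0, 2, 2, 4, 0],
   [0, 0, -2, 0, 0, -2, 0, 0, 4, 0, 2, 2, 0, -2, 0, 2, 0, 0, 0, 4, -2, 2, 0, 0],
   [-2, 2, 0, 2, -2, 0, 2, -2, -2, -2, 0, 0, 2, 0, 2, 0, -2, -2, 2, 2, 0, 0, -2, 2],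
   [0, 0, 2, 0, 0, -2, 0, 0, 0, 0, 2, -2, 4, 2, 0, -2, 0, 4, 0, 0, -2, 2, 0, 0],
   [0, 0, -2, 0, 0, -2, 0, 0, 0, 0, 2, 2, 0, 2, 0, -2, 4, 0, 4, 0, 2, -2, 0, 0],
   [0, 0, -2, 0, 0, 2, 0, 0, 0, 0, -2, 2, 4, -2, 0, 2, 0, 4, 0, 0, 2, -2, 0, 0],
   [-2, -2, 0, -2, 2, 0, -2, 2, 2, 2, 0, 0, 2, 0, 2, 0, -2, -2, 2, -2, 0, 0, -2, 2],
   [-2, 2, 0, 2, 2, 0, -2, -2, 2, -2, 0, 0, -2, 0, -2, 0, -2, 2, 2, -2, 0, 0, 2, 2],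
   [-2, -2, 0, -2, -2, 0, 2, 2, -2, 2, 0, 0, -2, 0, -2, 0, -2, 2, 2, 2, 0, 0, 2, 2],
   [-2, -2, 0, 2, -2, 0, 2, -2, 2, 2, 0, 0, -2, 0, 2, 0, 2, 2, -2, -2, 0, 0, -2, 2],
   [0, 0, 2, 0, 4, 2, 4, 0, 0, 0, 2, 2, 0, -2, 0, -2, 0, 0, 0, 0, -2, -2, 0, 0],
   [0, 0, -2, 0, 4, -2, 4, 0, 0, 0, -2, -2, 0, 2, 0, 2, 0, 0, 0, 0, 2, 2, 0, 0],
   [0, 0, 2, 0, 0, 2, 0, 0, 0, 0, -2, -2, 0, -2, 0, 2, 4, 0, 4, 0, -2, 2, 0, 0],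
   [4, 0, 2, 0, 0, 2, 0, 0, 0, 0, 2, 2, 0, 2, 0, 2, 0, 0, 0, 0, 2, 2, 0, 4]]

/-- The matrix `AE4`. -/
def AE4 : Matrix GolayPt GolayPt ℤ := ofL
  [[4, 0, 0, 0, -2, 0, -2, 0, -2, 0, 0, 0, -2, 0, -2, 0, 0, -2, 0, -2, 0, 0, -2, 4],
   [0, 0, 0, 0, 2, 0, -2, 0, 2, 0, 0, 4, -2, 4, 2, 0, 0, 2, 0, -2, 0, 0, -2, 0],
   [-2, -2, 2, 2, 0, 2, 0, -2, 0, 2, 2, -2, 0, 2, 0, -2, 2, 0, -2, 0, -2, -2, 0, 2],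
   [0, 0, 0, 4, 2, 0, 2, 4, -2, 0, 0, 0, -2, 0, 2, 0, 0, -2, 0, -2, 0, 0, 2, 0],
   [-2, 2, -2, -2, 0, -2, 0, 2, 0, -2, 2, -2, 0, 2, 0, 2, 2, 0, -2, 0, -2, 2, 0, 2],
   [0, 0, 0, 0, -2, 0, -2, 0, -2, 0, 0, 0, 2, 0, 2, 0, 4, 2, 4, -2, 0, 0, 2, 0],
   [-2, 2, 2, -2, 0, 2, 0, 2, 0, -2, -2, 2, 0, -2, 0, -2, 2, 0, -2, 0, 2, -2, 0, 2],
   [0, 0, 0, 4, -2, 0, -2, 4, 2, 0, 0, 0, 2, 0, -2, 0, 0, 2, 0, 2, 0, 0, -2, 0],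
   [0, 0, 0, 0, -2, 4, 2, 0, 2, 0, 0, 0, 2, 0, 2, 0, 0, -2, 0, -2, 0, 4, -2, 0],
   [0, 0, 4, 0, 2, 0, -2, 0, -2, 0, 0, 0, 2, 0, 2, 4, 0, -2, 0, 2, 0, 0, -2, 0],
   [0, 0, 0, 0, 2, 0, 2, 0, 2, 0, 0, 0, -2, 0, -2, 0, 4, -2, 4, 2, 0, 0, -2, 0],
   [-2, -2, -2, 2, 0, -2, 0, -2, 0, 2, -2, 2, 0, -2, 0, 2, 2, 0, -2, 0, 2, 2, 0, 2],
   [0, 0, 0, 0, -2, 0, 2, 0, -2, 0, 4, 0, -2, 0, 2, 0, 0, 2, 0, 2, 4, 0, -2, 0],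
   [-2, 2, 2, 2, 0, -2, 0, -2, 0, -2, -2, -2, 0, 2, 0, -2, -2, 0, 2, 0, 2, 2, 0, 2],
   [-2, -2, 2, -2, 0, -2, 0, 2, 0, 2, 2, 2, 0, -2, 0, -2, -2, 0, 2, 0, -2, 2, 0, 2],
   [-2, 2, -2, 2, 0, 2, 0, -2, 0, -2, 2, 2, 0, -2, 0, 2, -2, 0, 2, 0, -2, -2, 0, 2],
   [0, 0, 0, 0, -2, 0, 2, 0, -2, 0, 0, 4, 2, 4, -2, 0, 0, -2, 0, 2, 0, 0, 2, 0],
   [0, 0, 0, 0, 2, 4, -2, 0, -2, 0, 0, 0, -2, 0, -2, 0, 0, 2, 0, 2, 0, 4, 2, 0],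
   [0, 0, 4, 0, -2, 0, 2, 0, 2, 0, 0, 0, -2, 0, -2, 4, 0, 2, 0, -2, 0, 0, 2, 0],
   [0, 0, 0, 0, 2, 0, -2, 0, 2, 0, 4, 0, 2, 0, -2, 0, 0, -2, 0, -2, 4, 0, 2, 0],
   [0, 4, 0, 0, -2, 0, -2, 0, 2, 4, 0, 0, -2, 0, 2, 0, 0, -2, 0, 2, 0, 0, 2, 0],
   [0, 4, 0, 0, 2, 0, 2, 0, -2, 4, 0, 0, 2, 0, -2, 0, 0, 2, 0, -2, 0, 0, -2, 0],
   [-2, -2, -2, -2, 0, 2, 0, 2, 0, 2, -2, -2, 0, 2, 0, 2, -2, 0, 2, 0, 2, -2, 0, 2],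
   [4, 0, 0, 0, 2, 0, 2, 0, 2, 0, 0, 0, 2, 0, 2, 0, 0, 2, 0, 2, 0, 0, 2, 4]]

/-- The matrix `AE6`. -/
def AE6 : Matrix GolayPt GolayPt ℤ := ofL
  [[6, -2, 0, -2, 0, 0, 0, 2, 0, -2, 0, 0, 0, 0, 0, 0, -2, 0, -2, 0, 0, 0, 0, 2],
   [0, 0, -2, 0, 2, -2, -2, 0, 2, 0, 2, 2, 2, 2, -2, -2, 0, 2, 0, 2, -2, 2, 2, 0],
   [0, 0, 2, 0, -2, 2, -2, 0, 2, 0, 2, -2, 2, 2, 2, -2, 0, -2, 0, -2, 2, 2, 2, 0],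
   [2, 2, 0, 2, 0, 0, 0, 6, 0, 2, 0, 0, 0, 0, 0, 0, 2, 0, 2, 0, 0, 0, 0, -2],
   [0, 0, 2, 0, 2, -2, -2, 0, -2, 0, -2, 2, 2, 2, 2, 2, 0, 2, 0, -2, 2, 2, -2, 0],
   [-2, -2, 0, -2, 0, 0, 0, 2, 0, -2, 0, 0, 0, 0, 0, 0, -2, 0, 6, 0, 0, 0, 0, 2],
   [0, 0, 2, 0, 2, 2, -2, 0, 2, 0, 2, 2, -2, 2, 2, 2, 0, -2, 0, 2, -2, -2, -2, 0],
   [-2, -2, 0, 6, 0, 0, 0, 2, 0, -2, 0, 0, 0, 0, 0, 0, -2, 0, -2, 0, 0, 0, 0, 2],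
   [0, 0, -2, 0, 2, -2, 2, 0, -2, 0, 2, -2, 2, 2, 2, 2, 0, -2, 0, 2, 2, -2, 2, 0],
   [0, 0, -2, 0, -2, 2, 2, 0, 2, 0, -2, 2, 2, 2, 2, -2, 0, 2, 0, 2, 2, -2, -2, 0],
   [-2, -2, 0, -2, 0, 0, 0, 2, 0, 6, 0, 0, 0, 0, 0, 0, -2, 0, -2, 0, 0, 0, 0, 2],
   [0, 0, -2, 0, 2, 2, 2, 0, 2, 0, 2, 2, 2, -2, -2, 2, 0, -2, 0, -2, 2, 2, -2, 0],
   [0, 0, 2, 0, 2, -2, 2, 0, 2, 0, 2, 2, -2, -2, 2, -2, 0, 2, 0, -2, 2, -2, 2, 0],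
   [0, 0, 2, 0, 2, 2, 2, 0, -2, 0, 2, -2, -2, 2, -2, -2, 0, 2, 0, 2, 2, 2, -2, 0],
   [0, 0, 2, 0, -2, -2, 2, 0, 2, 0, -2, 2, -2, 2, -2, 2, 0, -2, 0, 2, 2, 2, 2, 0],
   [0, 0, -2, 0, -2, 2, -2, 0, -2, 0, 2, 2, -2, -2, 2, 2, 0, 2, 0, 2, 2, 2, 2, 0],
   [0, 0, 2, 0, -2, -2, 2, 0, 2, 0, 2, -2, 2, -2, 2, 2, 0, 2, 0, 2, -2, 2, -2, 0],
   [0, 0, -2, 0, 2, 2, 2, 0, 2, 0, -2, -2, -2, 2, 2, 2, 0, 2, 0, -2, -2, 2, 2, 0],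
   [0, 0, 2, 0, 2, 2, -2, 0, 2, 0, -2, -2, 2, -2, -2, 2, 0, 2, 0, 2, 2, -2, 2, 0],
   [0, 0, 2, 0, 2, 2, 2, 0, -2, 0, -2, 2, 2, -2, 2, -2, 0, -2, 0, 2, -2, 2, 2, 0],
   [-2, -2, 0, -2, 0, 0, 0, 2, 0, -2, 0, 0, 0, 0, 0, 0, 6, 0, -2, 0, 0, 0, 0, 2],
   [-2, 6, 0, -2, 0, 0, 0, 2, 0, -2, 0, 0, 0, 0, 0, 0, -2, 0, -2, 0, 0, 0, 0, 2],
   [0, 0, 2, 0, -2, 2, 2, 0, -2, 0, 2, 2, 2, 2, -2, 2, 0, 2, 0, -2, -2, -2, 2, 0],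
   [2, 2, 0, 2, 0, 0, 0, -2, 0, 2, 0, 0, 0, 0, 0, 0, 2, 0, 2, 0, 0, 0, 0, 6]]

theorem AE_mul : Ma * E8 = (8 : ℤ) • AE := by decide +kernel

theorem AE2_mul : AE * AE = (8 : ℤ) • AE2 := by decide +kernel

theorem AE4_mul : AE2 * AE2 = (8 : ℤ) • AE4 := by decide +kernel

theorem AE6_mul : AE4 * AE2 = (8 : ℤ) • AE6 := by decide +kernel

theorem AE7_mul : AE6 * AE = (8 : ℤ) • I8 := by decide +kernel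

theorem rel_ae7 : (PD * eE) ^ 7 = 1 :=
  eq_one_of_rep8 (rep8_pow7 (rep8_mul rep_Ma rep_e AE AE_mul) AE2_mul AE4_mul AE6_mul AE7_mul)

/-- The matrix `ATE`. -/
def ATE : Matrix GolayPt GolayPt ℤ := ofL
  [[6, 0, 0, 2, 0, -2, 0, -2, 0, 0, -2, 0, 0, 0, 0, 0, 0, 0, 0, 0, -2, -2, 0, 2],
   [0, 2, 2, 0, -2, 0, 2, 0, 2, -2, 0, 2, 2, 2, -2, 2, 2, -2, -2, -2, 0, 0, 2, 0],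
   [0, 2, 2, 0, 2, 0, -2, 0, 2, 2, 0, 2, -2, -2, -2, -2, 2, -2, 2, 2, 0, 0, 2, 0],
   [0, -2, 2, 0, 2, 0, 2, 0, 2, 2, 0, -2, 2, -2, -2, 2, 2, 2, -2, 2, 0, 0, -2, 0],
   [0, 2, -2, 0, 2, 0, 2, 0, 2, -2, 0, 2, 2, 2, -2, -2, -2, 2, 2, 2, 0, 0, -2, 0],
   [0, 2, -2, 0, 2, 0, 2, 0, -2, 2, 0, 2, 2, -2, 2, 2, -2, -2, -2, 2, 0, 0, 2, 0],
   [2, 0, 0, 6, 0, 2, 0, 2, 0, 0, 2, 0, 0, 0, 0, 0, 0, 0, 0, 0, 2, 2, 0, -2],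
   [0, -2, -2, 0, -2, 0, -2, 0, 2, 2, 0, 2, 2, 2, 2, -2, 2, 2, -2, 2, 0, 0, 2, 0],
   [0, -2, 2, 0, 2, 0, 2, 0, -2, -2, 0, -2, 2, 2, 2, -2, 2, -2, 2, 2, 0, 0, 2, 0],
   [0, 2, -2, 0, -2, 0, 2, 0, 2, 2, 0, -2, -2, 2, 2, 2, 2, -2, 2, 2, 0, 0, -2, 0],
   [-2, 0, 0, 2, 0, -2, 0, -2, 0, 0, -2, 0, 0, 0, 0, 0, 0, 0, 0, 0, 6, -2, 0, 2],
   [0, 2, 2, 0, 2, 0, -2, 0, -2, -2, 0, 2, -2, 2, 2, 2, 2, 2, -2, 2, 0, 0, -2, 0],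
   [0, 2, 2, 0, 2, 0, 2, 0, 2, 2, 0, -2, -2, 2, 2, -2, -2, 2, -2, -2, 0, 0, 2, 0],
   [0, 2, 2, 0, -2, 0, 2, 0, -2, 2, 0, 2, 2, -2, 2, -2, 2, 2, 2, -2, 0, 0, -2, 0],
   [-2, 0, 0, 2, 0, -2, 0, 6, 0, 0, -2, 0, 0, 0, 0, 0, 0, 0, 0, 0, -2, -2, 0, 2],
   [0, -2, 2, 0, -2, 0, 2, 0, -2, 2, 0, 2, -2, 2, -2, 2, -2, 2, 2, 2, 0, 0, 2, 0],
   [0, -2, 2, 0, 2, 0, -2, 0, 2, 2, 0, 2, 2, 2, 2, 2, -2, -2, 2, -2, 0, 0, -2, 0],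
   [-2, 0, 0, 2, 0, -2, 0, -2, 0, 0, 6, 0, 0, 0, 0, 0, 0, 0, 0, 0, -2, -2, 0, 2],
   [0, 2, -2, 0, 2, 0, -2, 0, -2, 2, 0, -2, 2, 2, -2, 2, 2, 2, 2, -2, 0, 0, 2, 0],
   [-2, 0, 0, 2, 0, 6, 0, -2, 0, 0, -2, 0, 0, 0, 0, 0, 0, 0, 0, 0, -2, -2, 0, 2],
   [-2, 0, 0, 2, 0, -2, 0, -2, 0, 0, -2, 0, 0, 0, 0, 0, 0, 0, 0, 0, -2, 6, 0, 2],
   [0, -2, -2, 0, 2, 0, 2, 0, 2, -2, 0, 2, -2, -2, 2, 2, 2, 2, 2, -2, 0, 0, 2, 0],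
   [0, 2, 2, 0, -2, 0, -2, 0, 2, -2, 0, -2, 2, -2, 2, 2, -2, 2, 2, 2, 0, 0, 2, 0],
   [2, 0, 0, -2, 0, 2, 0, 2, 0, 0, 2, 0, 0, 0, 0, 0, 0, 0, 0, 0, 2, 2, 0, 6]]

/-- The matrix `ATE2`. -/
def ATE2 : Matrix GolayPt GolayPt ℤ := ofL
  [[6, 0, 2, 0, 0, 0, 0, 0, 0, 0, 0, -2, 0, 0, -2, 0, 0, 0, 0, 0, -2, -2, -2, 2],
   [2, 0, 6, 0, 0, 0, 0, 0, 0, 0, 0, 2, 0, 0, 2, 0, 0, 0, 0, 0, 2, 2, 2, -2],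
   [0, 2, 0, -2, 2, 2, -2, -2, 2, -2, -2, 0, 2, 2, 0, 2, 2, -2, 2, 2, 0, 0, 0, 0],
   [0, -2, 0, 2, 2, 2, 2, -2, 2, 2, 2, 0, -2, 2, 0, -2, -2, -2, 2, 2, 0, 0, 0, 0],
   [0, 2, 0, 2, 2, 2, 2, -2, -2, -2, 2, 0, 2, 2, 0, -2, 2, 2, -2, -2, 0, 0, 0, 0],
   [0, 2, 0, 2, -2, 2, 2, 2, 2, -2, -2, 0, -2, 2, 0, 2, -2, 2, -2, 2, 0, 0, 0, 0],
   [0, -2, 0, 2, 2, -2, 2, -2, 2, 2, -2, 0, 2, -2, 0, 2, 2, 2, -2, 2, 0, 0, 0, 0],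
   [-2, 0, 2, 0, 0, 0, 0, 0, 0, 0, 0, -2, 0, 0, 6, 0, 0, 0, 0, 0, -2, -2, -2, 2],
   [0, 2, 0, 2, 2, 2, -2, 2, 2, 2, -2, 0, 2, -2, 0, -2, -2, 2, 2, -2, 0, 0, 0, 0],
   [0, -2, 0, 2, -2, 2, 2, 2, -2, 2, -2, 0, 2, 2, 0, 2, 2, -2, 2, -2, 0, 0, 0, 0],
   [-2, 0, 2, 0, 0, 0, 0, 0, 0, 0, 0, -2, 0, 0, -2, 0, 0, 0, 0, 0, -2, 6, -2, 2],
   [-2, 0, 2, 0, 0, 0, 0, 0, 0, 0, 0, 6, 0, 0, -2, 0, 0, 0, 0, 0, -2, -2, -2, 2],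
   [0, 2, 0, 2, -2, -2, 2, 2, 2, -2, 2, 0, 2, -2, 0, -2, 2, -2, 2, 2, 0, 0, 0, 0],
   [0, 2, 0, 2, 2, -2, -2, 2, 2, 2, 2, 0, -2, 2, 0, 2, 2, -2, -2, -2, 0, 0, 0, 0],
   [0, -2, 0, -2, -2, 2, -2, 2, 2, 2, 2, 0, 2, 2, 0, -2, 2, 2, -2, 2, 0, 0, 0, 0],
   [0, 2, 0, 2, -2, 2, -2, -2, -2, 2, 2, 0, -2, -2, 0, 2, 2, 2, 2, 2, 0, 0, 0, 0],
   [0, 2, 0, -2, 2, -2, 2, 2, -2, 2, -2, 0, -2, 2, 0, -2, 2, 2, 2, 2, 0, 0, 0, 0],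
   [-2, 0, 2, 0, 0, 0, 0, 0, 0, 0, 0, -2, 0, 0, -2, 0, 0, 0, 0, 0, 6, -2, -2, 2],
   [0, 2, 0, -2, -2, -2, 2, -2, 2, 2, 2, 0, 2, 2, 0, 2, -2, 2, 2, -2, 0, 0, 0, 0],
   [0, 2, 0, -2, 2, 2, 2, 2, -2, 2, 2, 0, 2, -2, 0, 2, -2, -2, -2, 2, 0, 0, 0, 0],
   [0, -2, 0, -2, 2, 2, 2, 2, 2, -2, 2, 0, -2, -2, 0, 2, 2, 2, 2, -2, 0, 0, 0, 0],
   [0, -2, 0, 2, 2, -2, -2, 2, -2, -2, 2, 0, 2, 2, 0, 2, -2, 2, 2, 2, 0, 0, 0, 0],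
   [-2, 0, 2, 0, 0, 0, 0, 0, 0, 0, 0, -2, 0, 0, -2, 0, 0, 0, 0, 0, -2, -2, 6, 2],
   [2, 0, -2, 0, 0, 0, 0, 0, 0, 0, 0, 2, 0, 0, 2, 0, 0, 0, 0, 0, 2, 2, 2, 6]]

/-- The matrix `ATE4`. -/
def ATE4 : Matrix GolayPt GolayPt ℤ := ofL
  [[6, 2, 0, 0, 0, 0, 0, -2, 0, 0, -2, -2, 0, 0, 0, 0, 0, -2, 0, 0, 0, 0, -2, 2],
   [0, 0, 2, -2, 2, 2, -2, 0, 2, -2, 0, 0, 2, 2, -2, 2, 2, 0, 2, 2, -2, -2, 0, 0],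
   [2, 6, 0, 0, 0, 0, 0, 2, 0, 0, 2, 2, 0, 0, 0, 0, 0, 2, 0, 0, 0, 0, 2, -2],
   [0, 0, -2, 2, 2, 2, 2, 0, 2, 2, 0, 0, 2, 2, -2, 2, -2, 0, -2, -2, -2, 2, 0, 0],
   [0, 0, 2, 2, 2, -2, 2, 0, 2, -2, 0, 0, -2, 2, -2, -2, 2, 0, -2, 2, 2, 2, 0, 0],
   [0, 0, 2, 2, 2, 2, -2, 0, 2, 2, 0, 0, -2, -2, 2, 2, -2, 0, -2, 2, 2, -2, 0, 0],
   [0, 0, -2, 2, 2, 2, 2, 0, -2, 2, 0, 0, 2, -2, -2, -2, 2, 0, 2, 2, 2, -2, 0, 0],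
   [0, 0, -2, -2, -2, 2, -2, 0, 2, 2, 0, 0, 2, 2, 2, -2, 2, 0, -2, 2, 2, 2, 0, 0],
   [0, 0, 2, 2, -2, 2, 2, 0, 2, -2, 0, 0, 2, 2, 2, -2, -2, 0, 2, -2, 2, -2, 0, 0],
   [0, 0, -2, 2, -2, -2, 2, 0, 2, 2, 0, 0, -2, 2, 2, 2, 2, 0, 2, 2, -2, -2, 0, 0],
   [0, 0, -2, 2, 2, -2, -2, 0, -2, -2, 0, 0, 2, 2, 2, 2, -2, 0, 2, 2, 2, 2, 0, 0],
   [-2, 2, 0, 0, 0, 0, 0, -2, 0, 0, -2, 6, 0, 0, 0, 0, 0, -2, 0, 0, 0, 0, -2, 2],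
   [0, 0, 2, -2, 2, -2, 2, 0, 2, 2, 0, 0, 2, -2, 2, -2, -2, 0, 2, 2, -2, 2, 0, 0],
   [0, 0, 2, 2, 2, 2, -2, 0, -2, 2, 0, 0, -2, 2, 2, -2, 2, 0, 2, -2, -2, 2, 0, 0],
   [-2, 2, 0, 0, 0, 0, 0, 6, 0, 0, -2, -2, 0, 0, 0, 0, 0, -2, 0, 0, 0, 0, -2, 2],
   [0, 0, 2, -2, -2, 2, 2, 0, -2, 2, 0, 0, -2, 2, -2, 2, -2, 0, 2, 2, 2, 2, 0, 0],
   [0, 0, 2, -2, 2, -2, 2, 0, -2, 2, 0, 0, 2, 2, 2, 2, 2, 0, -2, -2, 2, -2, 0, 0],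
   [0, 0, -2, -2, 2, 2, 2, 0, 2, -2, 0, 0, -2, -2, 2, 2, 2, 0, 2, -2, 2, 2, 0, 0],
   [0, 0, 2, 2, -2, -2, -2, 0, 2, 2, 0, 0, 2, -2, -2, 2, 2, 0, 2, -2, 2, 2, 0, 0],
   [0, 0, 2, 2, -2, 2, 2, 0, -2, -2, 0, 0, 2, -2, 2, 2, 2, 0, -2, 2, -2, 2, 0, 0],
   [-2, 2, 0, 0, 0, 0, 0, -2, 0, 0, -2, -2, 0, 0, 0, 0, 0, 6, 0, 0, 0, 0, -2, 2],
   [-2, 2, 0, 0, 0, 0, 0, -2, 0, 0, 6, -2, 0, 0, 0, 0, 0, -2, 0, 0, 0, 0, -2, 2],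
   [-2, 2, 0, 0, 0, 0, 0, -2, 0, 0, -2, -2, 0, 0, 0, 0, 0, -2, 0, 0, 0, 0, 6, 2],
   [2, -2, 0, 0, 0, 0, 0, 2, 0, 0, 2, 2, 0, 0, 0, 0, 0, 2, 0, 0, 0, 0, 2, 6]]

theorem ATE_mul : Mat * E8 = (8 : ℤ) • ATE := by decide +kernel

theorem ATE2_mul : ATE * ATE = (8 : ℤ) • ATE2 := by decide +kernel

theorem ATE4_mul : ATE2 * ATE2 = (8 : ℤ) • ATE4 := by decide +kernel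

theorem ATE6_mul : ATE4 * ATE2 = (8 : ℤ) • I8 := by decide +kernel

theorem rel_ate6 : (perm (mD * mT) * eE) ^ 6 = 1 :=
  eq_one_of_rep8 (rep8_pow6 (rep8_mul rep_Mat rep_e ATE ATE_mul) ATE2_mul ATE4_mul ATE6_mul)

end Cfsg.Agent.Lib.Helper93_McLData
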