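import Cfsg.Agent.Lib.Helper93_McLFix
import Cfsg.Agent.Lib.Helper93_McLData0

/-!
The centraliser of the cube twist `c` in the common stabiliser of `(-5, -1^23)` and `(4, 4, 0^22)`
in the automorphism group of the rank-24 lattice: it consists of the `25` elements `c^i e^j`, with
`e` the element of order `5` of `Helper93_McLElt`.

An element `g` of the centraliser maps `(4, -4, 0^22)` to a vector fixed by `c` with the same norm
and inner products; there are five of them (`Helper93_McLFix`), the images of `(4, -4, 0^22)` under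
the powers of `e`.  So `e^(-m) g` fixes the three vectors, hence is a coordinate permutation fixing
two points, and commutes with `c`: a power of `c` (`Helper93_McLPerm.cent_C22`).
-/

set_option autoImplicit false
set_option linter.constructorNameAsVariable false
open Cfsg
open scoped Pointwise

namespace Cfsg.Agent.Lib.Helper93_McLCent

open Cfsg.Agent.Lib.Helper7_M24 Cfsg.Agent.Lib.Helper7_Leech Cfsg.Agent.Lib.Helper92_Monomial
  Cfsg.Agent.Lib.Helper7_Mono Cfsg.Agent.Lib.Helper92_QuadAut Cfsg.Agent.Lib.Helper93_McLElt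
  Cfsg.Agent.Lib.Helper92_ZElt Cfsg.Agent.Lib.Helper7_Bits Cfsg.Agent.Lib.Helper93_McLRep
  Cfsg.Agent.Lib.Helper93_McLPerm Cfsg.Agent.Lib.Helper92_Co3Cent
  Cfsg.Agent.Lib.Helper93_OutM24 Cfsg.Agent.Lib.Helper93_M24Obj
  Cfsg.Agent.Lib.Helper93_McLData Cfsg.Agent.Lib.Helper93_McLFix
  Cfsg.Agent.Lib.Helper92_FixMono Cfsg.Agent.Lib.Helper92_FixLat Cfsg.Agent.Lib.Helper92_Co0Order
open Cfsg.Agent.Lib.Helper26_Golay (idx pt pt_idx idx_pt)
open Cfsg.Agent.S5546 (Lam vec8 e8)
open Cfsg.Spor (vecV vecU vecU' leechU leechU' leechV)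

/-! ### fixed vectors -/

theorem smul_pow_fix {g : ↥Co0} {x : Lam} (h : g • x = x) (m : ℕ) : g ^ m • x = x := by
  induction m with
  | zero => rw [pow_zero, one_smul]
  | succ n ih => rw [pow_succ, mul_smul', h, ih]

theorem smul_inv_fix {g : ↥Co0} {x : Lam} (h : g • x = x) : g⁻¹ • x = x := by
  have e := congrArg (fun y => g⁻¹ • y) h
  simp only [inv_smul_smul] at e
  exact e.symm

theorem PC_fix_UL : PC • UL = UL := perm_fix_UL mC gC_none gC_zero

theorem PC_fix_UL' : PC • UL' = UL' := by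
  have h1 : PC • e8 none = e8 none := perm_fix_e8 mC gC_none
  rw [e8_eq, smul_add', PC_fix_UL] at h1
  exact add_left_cancel h1

theorem PT_fix_VL : PT • VL = VL := perm_fix_VL mT gT_none

theorem PT_fix_UL : PT • UL = UL := perm_fix_UL mT gT_none gT_zero

theorem eE_fix_VL : eE • VL = VL := Subtype.ext (eE_eq_of VL _ (by decide +kernel))

theorem eE_fix_UL : eE • UL = UL := Subtype.ext (eE_eq_of UL _ (by decide +kernel))

/-! ### commutation with the coordinate permutations -/

/-- A matrix is carried to another one by a map of the coordinates. -/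
def InvBB (B B' : Matrix GolayPt GolayPt ℤ) (f : GolayPt → GolayPt) : Prop :=
  ∀ i : GolayPt, ∀ j : GolayPt, decide (B (f i) (f j) = B' i j) = true

instance (B B' : Matrix GolayPt GolayPt ℤ) (f : GolayPt → GolayPt) : Decidable (InvBB B B' f) := by
  unfold InvBB
  infer_instance

theorem invBB_C : InvBB EB EB cubeTwistFun := by
  decide +kernel

theorem invBB_T : InvBB EB' EB (fun p => pt (fT (idx p))) := by
  decide +kernel

theorem EB_inv_C : ∀ i j, EB (mC.1 i) (mC.1 j) = EB i j := by
  intro i j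
  rw [show mC.1 = gC from rfl, gC_apply, gC_apply]
  exact of_decide_eq_true (invBB_C i j)

theorem eE_PC : eE * PC = PC * eE := quad_comm quad_eE quad_eE mC EB_inv_C

theorem EB_inv_T : ∀ i j, EB' (mT.1 i) (mT.1 j) = EB i j := by
  intro i j
  rw [show mT.1 = gT from rfl, gT_apply, gT_apply]
  exact of_decide_eq_true (invBB_T i j)

theorem eE'_PT : eE' * PT = PT * eE := quad_comm quad_eE' quad_eE mT EB_inv_T

/-! ### the images of `(4, -4, 0^22)` under the powers of `e` -/

theorem chain0 : ((UL' : Lam) : GolayPt → ℤ) = shape 4 (-4) 0 0 0 0 0 0 := by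
  funext p; revert p; decide

theorem chain1 : ((eE • UL' : Lam) : GolayPt → ℤ) = shape 2 (-2) 0 (-2) 0 0 2 0 :=
  eE_eq_of UL' _ (by rw [chain0]; decide +kernel)

theorem chain2 : ((eE • (eE • UL') : Lam) : GolayPt → ℤ) = shape 1 (-1) 3 (-1) 1 1 1 (-1) :=
  eE_eq_of (eE • UL') _ (by rw [chain1]; decide +kernel)

theorem chain3 : ((eE • (eE • (eE • UL')) : Lam) : GolayPt → ℤ) =
    shape 1 (-1) (-1) 3 1 1 1 (-1) :=
  eE_eq_of (eE • (eE • UL')) _ (by rw [chain2]; decide +kernel)

theorem chain4 : ((eE • (eE • (eE • (eE • UL'))) : Lam) : GolayPt → ℤ) =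
    shape 2 (-2) (-2) 0 0 2 0 0 :=
  eE_eq_of (eE • (eE • (eE • UL'))) _ (by rw [chain3]; decide +kernel)

theorem eE_UL'_ne : eE • UL' ≠ UL' := by
  intro h
  have h1 : ((eE • UL' : Lam) : GolayPt → ℤ) none = ((UL' : Lam) : GolayPt → ℤ) none := by rw [h]
  rw [chain1, chain0] at h1
  revert h1
  decide

theorem eE_ne_one : eE ≠ 1 := by
  intro h
  apply eE_UL'_ne
  rw [h, one_smul]

/-! ### the centraliser -/

theorem PC_pow5 : PC ^ 5 = 1 := by
  rw [show PC = permHom mC from rfl, ← map_pow, (Subtype.ext gC_pow5 : mC ^ 5 = 1), map_one]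

theorem vecU_eq_four (p : GolayPt) (h : vecU p = 4) : p = none ∨ p = some 0 := by
  unfold vecU at h
  by_contra hc
  rw [if_neg hc] at h
  exact absurd h (by norm_num)

/-- A coordinate permutation fixing `∞` and `(4, 4, 0^22)` fixes `0`. -/
theorem zero_of_fix_UL (σ : ↥M24) (h : σ.1 none = none) (hU : perm σ • UL = UL) :
    σ.1 (some 0) = some 0 := by
  have h1 := coord_of_fix σ UL hU (some 0)
  have h2 : vecU (σ.1 (some 0)) = 4 := by
    have : (UL : GolayPt → ℤ) (some 0) = 4 := by decide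
    rw [this] at h1
    exact h1
  rcases vecU_eq_four _ h2 with h3 | h3
  · exfalso
    rw [← h] at h3
    exact absurd (σ.1.injective h3) (by decide)
  · exact h3

/-- The centraliser of the cube twist in the common stabiliser of `(-5, -1^23)` and
`(4, 4, 0^22)`. -/
theorem cent_PC (g : ↥Co0) (hV : g • VL = VL) (hU : g • UL = UL) (hc : g * PC = PC * g) :
    ∃ i < 5, ∃ j < 5, g = PC ^ i * eE ^ j := by
  set x : Lam := g • UL' with hx
  have hfix : PC • x = x := by
    rw [hx, ← mul_smul', ← hc, mul_smul', PC_fix_UL']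
  have hinv : ∀ i, x.1 (cubeTwistFun i) = x.1 i := by
    intro i
    have := coord_of_fix mC x hfix i
    rw [show mC.1 = gC from rfl, gC_apply] at this
    exact this
  have hn : sqNorm (x : GolayPt → ℤ) = 32 := by
    rw [hx, sqNorm_smul, norm_UL']
  have hd : dotInt vecV (x : GolayPt → ℤ) = -16 := by
    have := Cfsg.Agent.S5593.dot_smul g VL UL'
    rw [hV, dot_V_UL'] at this
    exact this
  have hu : dotInt vecU (x : GolayPt → ℤ) = 0 := by
    have := Cfsg.Agent.S5593.dot_smul g UL UL'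
    rw [hU, dot_U_UL'] at this
    exact this
  have key : ∃ m < 5, x = eE ^ m • UL' := by
    have e2 : eE ^ 2 = eE * eE := pow_two eE
    have e3 : eE ^ 3 = eE * (eE * eE) := by rw [pow_succ', e2]
    have e4 : eE ^ 4 = eE * (eE * (eE * eE)) := by rw [pow_succ', e3]
    rcases fix_classify x.1 x.2 hinv hn hd hu with h | h | h | h | h
    · exact ⟨0, by norm_num, by rw [pow_zero, one_smul]; exact Subtype.ext (h.trans chain0.symm)⟩
    · exact ⟨1, by norm_num, by rw [pow_one]; exact Subtype.ext (h.trans chain1.symm)⟩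
    · exact ⟨4, by norm_num, by
        rw [e4, mul_smul', mul_smul', mul_smul']; exact Subtype.ext (h.trans chain4.symm)⟩
    · exact ⟨3, by norm_num, by
        rw [e3, mul_smul', mul_smul']; exact Subtype.ext (h.trans chain3.symm)⟩
    · exact ⟨2, by norm_num, by
        rw [e2, mul_smul']; exact Subtype.ext (h.trans chain2.symm)⟩
  obtain ⟨m, hm, hxm⟩ := key
  set g' : ↥Co0 := (eE ^ m)⁻¹ * g with hg'
  have hU'' : g' • UL' = UL' := by
    rw [hg', mul_smul', ← hx, hxm, inv_smul_smul]
  have hV' : g' • VL = VL := by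
    rw [hg', mul_smul', hV, smul_inv_fix (smul_pow_fix eE_fix_VL m)]
  have hU' : g' • UL = UL := by
    rw [hg', mul_smul', hU, smul_inv_fix (smul_pow_fix eE_fix_UL m)]
  have h8 : g' • e8 none = e8 none := by
    rw [e8_eq, smul_add', hU', hU'']
  obtain ⟨σ, hσ, hgσ⟩ := mono_of_fix g' h8 hV'
  have hσ0 : σ.1 (some 0) = some 0 := zero_of_fix_UL σ hσ (by rw [← hgσ]; exact hU')
  have c1 : Commute eE PC := eE_PC
  have c2 : Commute ((eE ^ m)⁻¹) PC := (c1.pow_left m).inv_left
  have c3 : Commute g PC := hc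
  have c4 : Commute g' PC := c2.mul_left c3
  have hcm : σ * mC = mC * σ := by
    apply perm_comm
    rw [← hgσ]
    exact c4
  have hcm' : σ.1 * gC = gC * σ.1 := congrArg Subtype.val hcm
  obtain ⟨n, hn⟩ := Subgroup.mem_zpowers_iff.1 (cent_C22 σ.1 σ.2 hσ hσ0 hcm')
  have hσn : σ = mC ^ n := by
    apply Subtype.ext
    rw [Subgroup.coe_zpow]
    exact hn.symm
  have hgn : g' = PC ^ n := by rw [hgσ, hσn, perm_zpow]; rfl
  have hg : g = eE ^ m * PC ^ n := by
    rw [← hgn, hg', mul_inv_cancel_left]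
  have hmod : PC ^ n = PC ^ ((n % 5).toNat) := by
    have h5 : PC ^ (5 : ℤ) = 1 := by
      rw [show (5 : ℤ) = ((5 : ℕ) : ℤ) from rfl, zpow_natCast, PC_pow5]
    rw [zpow_eq_zpow_emod n h5, ← zpow_natCast, Int.toNat_of_nonneg (Int.emod_nonneg n (by norm_num))]
  refine ⟨(n % 5).toNat, ?_, m, hm, ?_⟩
  · have := Int.emod_lt_of_pos n (show (0 : ℤ) < 5 by norm_num)
    omega
  · rw [hg, hmod]
    exact ((c1.pow_left m).pow_right _).eq

end Cfsg.Agent.Lib.Helper93_McLCent
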