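import Cfsg.Agent.Lib.Helper92_QuadAut

/-!
An element `e` of order 5 of the automorphism group of the rank-24 lattice which is not monomial
(its matrix has entries in `(1/4) ℤ`): it fixes `(-5, -1^23)` and `(4, 4, 0^22)` and commutes with
the cube twist.  (Matrix and certificate tables are generated data.)
-/

set_option autoImplicit false
open Cfsg

namespace Cfsg.Agent.Lib.Helper93_McLElt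

open Cfsg.Agent.Lib.Helper7_M24 Cfsg.Agent.Lib.Helper7_Leech Cfsg.Agent.Lib.Helper92_LeechParity
  Cfsg.Agent.Lib.Helper92_Monomial Cfsg.Agent.S0393 Cfsg.Agent.S0358
  Cfsg.Agent.Lib.Helper7_LeechGen Cfsg.Agent.Lib.Helper7_Bits Cfsg.Agent.Lib.Helper7_Xi
  Cfsg.Agent.Lib.Helper92_QuadAut Cfsg.Agent.Lib.Helper7_Mono
open Cfsg.Agent.S5546 (Lam)

/-- The matrix with the given rows. -/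
def ofL (L : List (List ℤ)) : Matrix GolayPt GolayPt ℤ :=
  fun i j => (L.getD (enc i) []).getD (enc j) 0

/-- The rows of `4 e`. -/
def EL : List (List ℤ) :=
  [[3, 0, 0, 1, 0, -1, 0, -1, 0, 0, -1, 0, 0, 0, 0, 0, 0, 0, 0, 0, -1, -1, 0, 1],
   [0, -1, 1, 0, 1, 0, 1, 0, -1, -1, 0, -1, 1, 1, 1, -1, 1, -1, 1, 1, 0, 0, 1, 0],
   [0, 1, -1, 0, 1, 0, 1, 0, 1, -1, 0, 1, 1, 1, -1, -1, -1, 1, 1, 1, 0, 0, -1, 0],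
   [0, -1, -1, 0, -1, 0, -1, 0, 1, 1, 0, 1, 1, 1, 1, -1, 1, 1, -1, 1, 0, 0, 1, 0],
   [0, 1, 1, 0, -1, 0, 1, 0, -1, 1, 0, 1, 1, -1, 1, -1, 1, 1, 1, -1, 0, 0, -1, 0],
   [0, 1, 1, 0, -1, 0, 1, 0, 1, -1, 0, 1, 1, 1, -1, 1, 1, -1, -1, -1, 0, 0, 1, 0],
   [0, 1, 1, 0, 1, 0, -1, 0, 1, 1, 0, 1, -1, -1, -1, -1, 1, -1, 1, 1, 0, 0, 1, 0],
   [0, -1, 1, 0, 1, 0, 1, 0, 1, 1, 0, -1, 1, -1, -1, 1, 1, 1, -1, 1, 0, 0, -1, 0],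
   [-1, 0, 0, 1, 0, -1, 0, -1, 0, 0, -1, 0, 0, 0, 0, 0, 0, 0, 0, 0, 3, -1, 0, 1],
   [-1, 0, 0, 1, 0, 3, 0, -1, 0, 0, -1, 0, 0, 0, 0, 0, 0, 0, 0, 0, -1, -1, 0, 1],
   [0, -1, 1, 0, 1, 0, -1, 0, 1, 1, 0, 1, 1, 1, 1, 1, -1, -1, 1, -1, 0, 0, -1, 0],
   [0, 1, 1, 0, -1, 0, -1, 0, 1, -1, 0, -1, 1, -1, 1, 1, -1, 1, 1, 1, 0, 0, 1, 0],
   [-1, 0, 0, 1, 0, -1, 0, -1, 0, 0, -1, 0, 0, 0, 0, 0, 0, 0, 0, 0, -1, 3, 0, 1],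
   [-1, 0, 0, 1, 0, -1, 0, 3, 0, 0, -1, 0, 0, 0, 0, 0, 0, 0, 0, 0, -1, -1, 0, 1],
   [0, -1, 1, 0, -1, 0, 1, 0, -1, 1, 0, 1, -1, 1, -1, 1, -1, 1, 1, 1, 0, 0, 1, 0],
   [1, 0, 0, 3, 0, 1, 0, 1, 0, 0, 1, 0, 0, 0, 0, 0, 0, 0, 0, 0, 1, 1, 0, -1],
   [-1, 0, 0, 1, 0, -1, 0, -1, 0, 0, 3, 0, 0, 0, 0, 0, 0, 0, 0, 0, -1, -1, 0, 1],
   [0, 1, -1, 0, 1, 0, 1, 0, -1, 1, 0, 1, 1, -1, 1, 1, -1, -1, -1, 1, 0, 0, 1, 0],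
   [0, 1, 1, 0, 1, 0, 1, 0, 1, 1, 0, -1, -1, 1, 1, -1, -1, 1, -1, -1, 0, 0, 1, 0],
   [0, -1, -1, 0, 1, 0, 1, 0, 1, -1, 0, 1, -1, -1, 1, 1, 1, 1, 1, -1, 0, 0, 1, 0],
   [0, 1, -1, 0, 1, 0, -1, 0, -1, 1, 0, -1, 1, 1, -1, 1, 1, 1, 1, -1, 0, 0, 1, 0],
   [0, 1, -1, 0, -1, 0, 1, 0, 1, 1, 0, -1, -1, 1, 1, 1, 1, -1, 1, 1, 0, 0, -1, 0],
   [0, 1, 1, 0, 1, 0, -1, 0, -1, -1, 0, 1, -1, 1, 1, 1, 1, 1, -1, 1, 0, 0, -1, 0],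
   [1, 0, 0, -1, 0, 1, 0, 1, 0, 0, 1, 0, 0, 0, 0, 0, 0, 0, 0, 0, 1, 1, 0, 3]]

/-- The rows of `4 e⁻¹`. -/
def EL' : List (List ℤ) :=
  [[3, 0, 0, 0, 0, 0, 0, 0, -1, -1, 0, 0, -1, -1, 0, 1, -1, 0, 0, 0, 0, 0, 0, 1],
   [0, -1, 1, -1, 1, 1, 1, -1, 0, 0, -1, 1, 0, 0, -1, 0, 0, 1, 1, -1, 1, 1, 1, 0],
   [0, 1, -1, -1, 1, 1, 1, 1, 0, 0, 1, 1, 0, 0, 1, 0, 0, -1, 1, -1, -1, -1, 1, 0],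
   [1, 0, 0, 0, 0, 0, 0, 0, 1, 1, 0, 0, 1, 1, 0, 3, 1, 0, 0, 0, 0, 0, 0, -1],
   [0, 1, 1, -1, -1, -1, 1, 1, 0, 0, 1, -1, 0, 0, -1, 0, 0, 1, 1, 1, 1, -1, 1, 0],
   [-1, 0, 0, 0, 0, 0, 0, 0, -1, 3, 0, 0, -1, -1, 0, 1, -1, 0, 0, 0, 0, 0, 0, 1],
   [0, 1, 1, -1, 1, 1, -1, 1, 0, 0, -1, -1, 0, 0, 1, 0, 0, 1, 1, 1, -1, 1, -1, 0],
   [-1, 0, 0, 0, 0, 0, 0, 0, -1, -1, 0, 0, -1, 3, 0, 1, -1, 0, 0, 0, 0, 0, 0, 1],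
   [0, -1, 1, 1, -1, 1, 1, 1, 0, 0, 1, 1, 0, 0, -1, 0, 0, -1, 1, 1, -1, 1, -1, 0],
   [0, -1, -1, 1, 1, -1, 1, 1, 0, 0, 1, -1, 0, 0, 1, 0, 0, 1, 1, -1, 1, 1, -1, 0],
   [-1, 0, 0, 0, 0, 0, 0, 0, -1, -1, 0, 0, -1, -1, 0, 1, 3, 0, 0, 0, 0, 0, 0, 1],
   [0, -1, 1, 1, 1, 1, 1, -1, 0, 0, 1, -1, 0, 0, 1, 0, 0, 1, -1, 1, -1, -1, 1, 0],
   [0, 1, 1, 1, 1, 1, -1, 1, 0, 0, 1, 1, 0, 0, -1, 0, 0, 1, -1, -1, 1, -1, -1, 0],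
   [0, 1, 1, 1, -1, 1, -1, -1, 0, 0, 1, -1, 0, 0, 1, 0, 0, -1, 1, -1, 1, 1, 1, 0],
   [0, 1, -1, 1, 1, -1, -1, -1, 0, 0, 1, 1, 0, 0, -1, 0, 0, 1, 1, 1, -1, 1, 1, 0],
   [0, -1, -1, -1, -1, 1, -1, 1, 0, 0, 1, 1, 0, 0, 1, 0, 0, 1, -1, 1, 1, 1, 1, 0],
   [0, 1, -1, 1, 1, 1, 1, 1, 0, 0, -1, -1, 0, 0, -1, 0, 0, -1, -1, 1, 1, 1, 1, 0],
   [0, -1, 1, 1, 1, -1, -1, 1, 0, 0, -1, 1, 0, 0, 1, 0, 0, -1, 1, 1, 1, -1, 1, 0],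
   [0, 1, 1, -1, 1, -1, 1, -1, 0, 0, 1, 1, 0, 0, 1, 0, 0, -1, -1, 1, 1, 1, -1, 0],
   [0, 1, 1, 1, -1, -1, 1, 1, 0, 0, -1, 1, 0, 0, 1, 0, 0, 1, -1, -1, -1, 1, 1, 0],
   [-1, 0, 0, 0, 0, 0, 0, 0, 3, -1, 0, 0, -1, -1, 0, 1, -1, 0, 0, 0, 0, 0, 0, 1],
   [-1, 0, 0, 0, 0, 0, 0, 0, -1, -1, 0, 0, 3, -1, 0, 1, -1, 0, 0, 0, 0, 0, 0, 1],
   [0, 1, -1, 1, -1, 1, 1, -1, 0, 0, -1, 1, 0, 0, 1, 0, 0, 1, 1, 1, 1, -1, -1, 0],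
   [1, 0, 0, 0, 0, 0, 0, 0, 1, 1, 0, 0, 1, 1, 0, -1, 1, 0, 0, 0, 0, 0, 0, 3]]

/-- The matrices `4 e` and `4 e⁻¹`. -/
def EB : Matrix GolayPt GolayPt ℤ := ofL EL
def EB' : Matrix GolayPt GolayPt ℤ := ofL EL'

theorem EB_tr : EB' = EB.transpose := by decide +kernel

theorem EB_mul : EB' * EB = (16 : ℤ) • (1 : Matrix GolayPt GolayPt ℤ) := by decide +kernel

theorem EB_mul' : EB * EB' = (16 : ℤ) • (1 : Matrix GolayPt GolayPt ℤ) := by decide +kernel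

def eT : Tables where
  yU := [-1, 1, 1, 1, 1, 1, 1, 1, -1, -1, 1, 1, -1, -1, 1, 3, -1, 1, 1, 1, 1, 1, 1, -1]
  mU := 8277246
  yB := [[2, 2, 2, 0, 2, 2, 2, 2, 0, 0, 2, 0, 0, 0, 0, 2, 0, 0, 2, 0, 2, 2, 0, 0],
   [-1, 1, 1, 1, 1, -1, 1, 1, -1, 1, 1, 1, -1, 1, 1, 3, 1, 1, 3, -1, 1, 1, 3, 1],
   [-1, 1, 1, -1, 1, 1, 1, 1, 1, 1, 3, 1, -1, -1, 1, 3, 1, 1, 1, 3, -1, 1, 1, 1],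
   [-1, 1, 1, 1, 1, 1, 1, 3, -1, 1, 1, -1, 1, 1, 1, 3, -1, 3, -1, 1, 1, 1, 1, 1],
   [-2, 2, 2, 2, 0, 2, 0, 2, 0, 0, 0, 0, -2, 0, 0, 2, 0, 0, 2, 2, 2, 0, 0, 2],
   [0, 0, 2, 2, 2, 0, 0, 0, -2, 0, 2, 0, 0, 0, 2, 2, -2, 0, 2, 2, 0, 2, 0, 2],
   [-1, 1, 1, 1, 1, 1, 1, 1, -1, -1, 1, 3, -1, 1, 1, 1, 1, 3, 1, 1, 1, 3, -1, 1],
   [0, 0, 0, 2, 0, 2, 2, 2, 0, -2, 2, 0, -2, 0, 2, 2, 0, 0, 0, 0, 0, 2, 2, 2],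
   [-1, -1, 1, 3, 3, 1, 1, 1, 1, -1, 1, 1, 1, -1, -1, 3, 1, 1, 1, 1, 1, 1, 1, 1],
   [-1, 1, 1, 1, 1, 1, 1, 1, -1, -1, 3, 1, 1, -1, 3, 1, 1, 1, 1, 1, 3, -1, 1, 1],
   [1, 3, 1, 3, 1, 1, 1, -1, -1, 1, 1, 1, -1, -1, 1, 3, 1, 1, -1, 1, 1, 1, 1, 1],
   [0, 2, 2, 2, 2, 2, 2, 2, 0, 0, 2, 2, 0, 0, 2, 4, 0, 2, 2, 2, 2, 2, 2, 4]]
  mB := [3441911, 11759326, 15158262, 16283262, 10260655, 11388188, 10347774, 14735080, 16719332, 13605118, 16469621, 8277246]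
  yE := [[2, 0, 0, 0, 0, 0, 0, 0, -2, -2, 0, 0, -2, -2, 0, 2, -2, 0, 0, 0, 0, 0, 0, -2],
   [-1, -1, 1, -1, 1, 1, 1, -1, -1, -1, -1, 1, -1, -1, -1, 1, -1, 1, 1, -1, 1, 1, 1, -3],
   [-1, 1, -1, -1, 1, 1, 1, 1, -1, -1, 1, 1, -1, -1, 1, 1, -1, -1, 1, -1, -1, -1, 1, -3],
   [0, 0, 0, 0, 0, 0, 0, 0, 0, 0, 0, 0, 0, 0, 0, 4, 0, 0, 0, 0, 0, 0, 0, -4],
   [-1, 1, 1, -1, -1, -1, 1, 1, -1, -1, 1, -1, -1, -1, -1, 1, -1, 1, 1, 1, 1, -1, 1, -3],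
   [-2, 0, 0, 0, 0, 0, 0, 0, -2, 2, 0, 0, -2, -2, 0, 2, -2, 0, 0, 0, 0, 0, 0, -2],
   [-1, 1, 1, -1, 1, 1, -1, 1, -1, -1, -1, -1, -1, -1, 1, 1, -1, 1, 1, 1, -1, 1, -1, -3],
   [-2, 0, 0, 0, 0, 0, 0, 0, -2, -2, 0, 0, -2, 2, 0, 2, -2, 0, 0, 0, 0, 0, 0, -2],
   [-1, -1, 1, 1, -1, 1, 1, 1, -1, -1, 1, 1, -1, -1, -1, 1, -1, -1, 1, 1, -1, 1, -1, -3],
   [-1, -1, -1, 1, 1, -1, 1, 1, -1, -1, 1, -1, -1, -1, 1, 1, -1, 1, 1, -1, 1, 1, -1, -3],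
   [-2, 0, 0, 0, 0, 0, 0, 0, -2, -2, 0, 0, -2, -2, 0, 2, 2, 0, 0, 0, 0, 0, 0, -2],
   [-1, -1, 1, 1, 1, 1, 1, -1, -1, -1, 1, -1, -1, -1, 1, 1, -1, 1, -1, 1, -1, -1, 1, -3],
   [-1, 1, 1, 1, 1, 1, -1, 1, -1, -1, 1, 1, -1, -1, -1, 1, -1, 1, -1, -1, 1, -1, -1, -3],
   [-1, 1, 1, 1, -1, 1, -1, -1, -1, -1, 1, -1, -1, -1, 1, 1, -1, -1, 1, -1, 1, 1, 1, -3],
   [-1, 1, -1, 1, 1, -1, -1, -1, -1, -1, 1, 1, -1, -1, -1, 1, -1, 1, 1, 1, -1, 1, 1, -3],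
   [-1, -1, -1, -1, -1, 1, -1, 1, -1, -1, 1, 1, -1, -1, 1, 1, -1, 1, -1, 1, 1, 1, 1, -3],
   [-1, 1, -1, 1, 1, 1, 1, 1, -1, -1, -1, -1, -1, -1, -1, 1, -1, -1, -1, 1, 1, 1, 1, -3],
   [-1, -1, 1, 1, 1, -1, -1, 1, -1, -1, -1, 1, -1, -1, 1, 1, -1, -1, 1, 1, 1, -1, 1, -3],
   [-1, 1, 1, -1, 1, -1, 1, -1, -1, -1, 1, 1, -1, -1, 1, 1, -1, -1, -1, 1, 1, 1, -1, -3],
   [-1, 1, 1, 1, -1, -1, 1, 1, -1, -1, -1, 1, -1, -1, 1, 1, -1, 1, -1, -1, -1, 1, 1, -3],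
   [-2, 0, 0, 0, 0, 0, 0, 0, 2, -2, 0, 0, -2, -2, 0, 2, -2, 0, 0, 0, 0, 0, 0, -2],
   [-2, 0, 0, 0, 0, 0, 0, 0, -2, -2, 0, 0, 2, -2, 0, 2, -2, 0, 0, 0, 0, 0, 0, -2],
   [-1, 1, -1, 1, -1, 1, 1, -1, -1, -1, -1, 1, -1, -1, 1, 1, -1, 1, 1, 1, 1, -1, -1, -3],
   [0, 0, 0, 0, 0, 0, 0, 0, 0, 0, 0, 0, 0, 0, 0, 0, 0, 0, 0, 0, 0, 0, 0, 0]]
  mE := [8499969, 16156788, 12897522, 0, 14582982, 8499969, 11452598, 8499969, 11308268, 11977944, 8499969, 13288572, 9604286, 16041006, 15633434, 16436384, 16285946, 14469276, 12110934, 14862542, 8499969, 8499969, 10405994, 0]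
  y8 := [2, 0, 0, 0, 0, 0, 0, 0, 2, 2, 0, 0, 2, 2, 0, -2, 2, 0, 0, 0, 0, 0, 0, 6]
  m8 := 8499969

def eT' : Tables where
  yU := [-1, 1, 1, 3, 1, -1, 1, -1, 1, 1, -1, 1, 1, 1, 1, 1, 1, 1, 1, 1, -1, -1, 1, -1]
  mU := 5241686
  yB := [[-1, 1, 1, 3, 1, -1, 1, -1, 1, 1, -1, 1, 1, 1, 1, -3, 1, 1, 1, 1, -1, -1, 1, 3],
   [-1, -1, 1, 1, 1, 1, 3, 1, 1, 1, -1, 3, 3, 1, 1, 1, 1, 1, 1, 1, -1, -1, 1, 1],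
   [0, 2, 2, 2, 0, 0, 0, 0, 2, 2, 0, 2, 2, 2, 0, 0, 0, 2, 2, 0, 2, 0, 2, 0],
   [-1, 1, 1, 3, -1, 1, 1, -1, 3, 1, 1, 1, 1, -1, 1, 1, 3, 1, 1, 1, -1, 1, 1, 1],
   [-2, 2, 2, 2, 2, -2, 0, 0, 0, 2, 0, 2, 2, 0, 0, 2, 2, 0, 0, 0, 0, 0, 0, 2],
   [0, 2, 2, 2, 0, 0, 2, 0, 2, 2, -2, 0, 0, 0, 0, 2, 0, 0, 0, 2, 0, -2, 2, 2],
   [-1, -1, 3, 3, 3, 1, 1, -1, 1, 1, -1, 1, -1, 1, 1, 1, 1, 1, 1, 1, 1, 1, 1, 1],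
   [0, 0, 0, 4, 2, 0, 0, 0, 2, 0, 0, 0, 2, 0, 0, 2, 0, 2, 2, 0, 0, -2, 0, 2],
   [-2, 0, 0, 2, 0, 0, 0, -2, 0, 2, 0, 0, 2, 2, 2, 2, 0, 0, 2, 2, 0, 0, 2, 2],
   [-1, 3, 1, 3, 1, 1, 1, 1, 1, 1, -1, 1, 1, 1, 3, 1, -1, 1, 1, 1, -1, 1, -1, 1],
   [0, 0, 2, 2, 0, -2, 0, 0, 2, 0, 0, 2, 0, 2, 2, 2, 0, 2, 0, 0, -2, 0, 2, 2],
   [0, 2, 2, 4, 2, 0, 2, 0, 2, 2, 0, 2, 2, 2, 2, 2, 2, 2, 2, 2, 0, 0, 2, 4]]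
  mB := [5241686, 13624252, 5651214, 15654502, 8493631, 15238990, 16771936, 10916112, 13431433, 11451380, 13822252, 5241686]
  yE := [[2, 0, 0, 2, 0, -2, 0, -2, 0, 0, -2, 0, 0, 0, 0, 0, 0, 0, 0, 0, -2, -2, 0, -2],
   [-1, -1, 1, 1, 1, -1, 1, -1, -1, -1, -1, -1, 1, 1, 1, -1, 1, -1, 1, 1, -1, -1, 1, -3],
   [-1, 1, -1, 1, 1, -1, 1, -1, 1, -1, -1, 1, 1, 1, -1, -1, -1, 1, 1, 1, -1, -1, -1, -3],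
   [-1, -1, -1, 1, -1, -1, -1, -1, 1, 1, -1, 1, 1, 1, 1, -1, 1, 1, -1, 1, -1, -1, 1, -3],
   [-1, 1, 1, 1, -1, -1, 1, -1, -1, 1, -1, 1, 1, -1, 1, -1, 1, 1, 1, -1, -1, -1, -1, -3],
   [-1, 1, 1, 1, -1, -1, 1, -1, 1, -1, -1, 1, 1, 1, -1, 1, 1, -1, -1, -1, -1, -1, 1, -3],
   [-1, 1, 1, 1, 1, -1, -1, -1, 1, 1, -1, 1, -1, -1, -1, -1, 1, -1, 1, 1, -1, -1, 1, -3],
   [-1, -1, 1, 1, 1, -1, 1, -1, 1, 1, -1, -1, 1, -1, -1, 1, 1, 1, -1, 1, -1, -1, -1, -3],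
   [-2, 0, 0, 2, 0, -2, 0, -2, 0, 0, -2, 0, 0, 0, 0, 0, 0, 0, 0, 0, 2, -2, 0, -2],
   [-2, 0, 0, 2, 0, 2, 0, -2, 0, 0, -2, 0, 0, 0, 0, 0, 0, 0, 0, 0, -2, -2, 0, -2],
   [-1, -1, 1, 1, 1, -1, -1, -1, 1, 1, -1, 1, 1, 1, 1, 1, -1, -1, 1, -1, -1, -1, -1, -3],
   [-1, 1, 1, 1, -1, -1, -1, -1, 1, -1, -1, -1, 1, -1, 1, 1, -1, 1, 1, 1, -1, -1, 1, -3],
   [-2, 0, 0, 2, 0, -2, 0, -2, 0, 0, -2, 0, 0, 0, 0, 0, 0, 0, 0, 0, -2, 2, 0, -2],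
   [-2, 0, 0, 2, 0, -2, 0, 2, 0, 0, -2, 0, 0, 0, 0, 0, 0, 0, 0, 0, -2, -2, 0, -2],
   [-1, -1, 1, 1, -1, -1, 1, -1, -1, 1, -1, 1, -1, 1, -1, 1, -1, 1, 1, 1, -1, -1, 1, -3],
   [0, 0, 0, 4, 0, 0, 0, 0, 0, 0, 0, 0, 0, 0, 0, 0, 0, 0, 0, 0, 0, 0, 0, -4],
   [-2, 0, 0, 2, 0, -2, 0, -2, 0, 0, 2, 0, 0, 0, 0, 0, 0, 0, 0, 0, -2, -2, 0, -2],
   [-1, 1, -1, 1, 1, -1, 1, -1, -1, 1, -1, 1, 1, -1, 1, 1, -1, -1, -1, 1, -1, -1, 1, -3],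
   [-1, 1, 1, 1, 1, -1, 1, -1, 1, 1, -1, -1, -1, 1, 1, -1, -1, 1, -1, -1, -1, -1, 1, -3],
   [-1, -1, -1, 1, 1, -1, 1, -1, 1, -1, -1, 1, -1, -1, 1, 1, 1, 1, 1, -1, -1, -1, 1, -3],
   [-1, 1, -1, 1, 1, -1, -1, -1, -1, 1, -1, -1, 1, 1, -1, 1, 1, 1, 1, -1, -1, -1, 1, -3],
   [-1, 1, -1, 1, -1, -1, 1, -1, 1, 1, -1, -1, -1, 1, 1, 1, 1, -1, 1, 1, -1, -1, -1, -3],
   [-1, 1, 1, 1, 1, -1, -1, -1, -1, -1, -1, 1, -1, 1, 1, 1, 1, 1, -1, 1, -1, -1, -1, -3],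
   [0, 0, 0, 0, 0, 0, 0, 0, 0, 0, 0, 0, 0, 0, 0, 0, 0, 0, 0, 0, 0, 0, 0, 0]]
  mE := [11535529, 13463644, 9320794, 13335304, 8870478, 12695886, 13437726, 9147228, 11535529, 11535529, 8715036, 13553934, 11535529, 11535529, 13544012, 0, 11535529, 13163098, 12739422, 13093208, 13087258, 9298762, 9168926, 0]
  y8 := [2, 0, 0, -2, 0, 2, 0, 2, 0, 0, 2, 0, 0, 0, 0, 0, 0, 0, 0, 0, 2, 2, 0, 6]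
  m8 := 11535529

theorem eT_ok : TablesOK EB eT := by decide +kernel

theorem eT'_ok : TablesOK EB' eT' := by decide +kernel

theorem EB_maps : Maps EB := maps_of_tables EB eT eT_ok

theorem EB'_maps : Maps EB' := maps_of_tables EB' eT' eT'_ok

/-- The element `e`. -/
def eE : ↥Co0 := autE EB EB' EB_tr EB_mul EB_mul' EB_maps EB'_maps

/-- Its inverse, constructed in the same way. -/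
def eE' : ↥Co0 := autE EB' EB (by rw [EB_tr, Matrix.transpose_transpose]) EB_mul' EB_mul EB'_maps EB_maps

theorem quad_eE (v : Lam) : quad ((eE • v : Lam) : GolayPt → ℤ) = EB.mulVec v.1 :=
  quad_autE EB EB' EB_tr EB_mul EB_mul' EB_maps EB'_maps v

theorem quad_eE' (v : Lam) : quad ((eE' • v : Lam) : GolayPt → ℤ) = EB'.mulVec v.1 :=
  quad_autE EB' EB (by rw [EB_tr, Matrix.transpose_transpose]) EB_mul' EB_mul EB'_maps EB_maps v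

theorem eE_eq_of (v : Lam) (y : GolayPt → ℤ) (h : ∀ p, EB.mulVec v.1 p = 4 * y p) :
    ((eE • v : Lam) : GolayPt → ℤ) = y :=
  autE_eq_of EB EB' EB_tr EB_mul EB_mul' EB_maps EB'_maps v y h

theorem eE'_mul : eE' * eE = 1 := by
  apply ext_elt
  intro v
  rw [mul_smul', one_smul]
  exact autF_autF EB EB' EB_mul EB_maps EB'_maps v.1 v.2

theorem eE_inv : eE⁻¹ = eE' := inv_eq_of_mul_eq_one_left eE'_mul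

end Cfsg.Agent.Lib.Helper93_McLElt
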