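import Mathlib
import Cfsg.Agent.Lib.Helper92_FixLat
import Cfsg.Agent.Lib.Helper26_GolayMem
import Cfsg.Agent.Lib.Helper7_Leech
import Cfsg.Agent.Lib.Helper7_Bits

/-!
Integer vectors on the 24 points invariant under the cube twist: they are constant on its eight
orbits (four fixed points and four cycles of length five).  The vectors of the rank-24 lattice of
this shape with sum of squares `32` and inner products `-16`, `0` with `(-5, -1^23)`,
`(4, 4, 0^22)` are five explicit vectors.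
-/

set_option autoImplicit false
open Cfsg

namespace Cfsg.Agent.Lib.Helper93_McLFix

open Cfsg.Agent.Lib.Helper92_FixLat Cfsg.Agent.Lib.Helper7_M24 Cfsg.Agent.Lib.Helper7_Leech
open Cfsg.Spor (vecV vecU vecU')

/-- The number of the orbit of each point under the cube twist (by code of the point). -/
def ocL : List ℕ := [1, 4, 4, 2, 4, 5, 4, 5, 6, 6, 5, 7, 6, 6, 7, 3, 6, 7, 4, 7, 5, 5, 7, 0]

/-- The number of the orbit of a point. -/
def oc (i : GolayPt) : ℕ := ocL.getD (Cfsg.Agent.Lib.Helper7_Bits.enc i) 0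

/-- The vector with given values on the eight orbits `{∞}, {0}, {3}, {15}` and the cycles of
`1, 5, 8, 11`. -/
def shape (s t p q a b c d : ℤ) : GolayPt → ℤ :=
  fun i => ([s, t, p, q, a, b, c, d] : List ℤ).getD (oc i) 0

/-- Representatives of the orbits. -/
def rep8L : List GolayPt := [none, some 0, some 3, some 15, some 1, some 5, some 8, some 11]

/-- The representative of the orbit of a point. -/
def repOf (i : GolayPt) : GolayPt := rep8L.getD (oc i) none

theorem orbit_ok : ∀ i : GolayPt, ∃ n < 5, cubeTwistFun^[n] (repOf i) = i := by decide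

theorem shape_vals (s t p q a b c d : ℤ) :
    shape s t p q a b c d none = s ∧
    shape s t p q a b c d (some 0) = t ∧
    shape s t p q a b c d (some 1) = a ∧
    shape s t p q a b c d (some 2) = a ∧
    shape s t p q a b c d (some 3) = p ∧
    shape s t p q a b c d (some 4) = a ∧
    shape s t p q a b c d (some 5) = b ∧
    shape s t p q a b c d (some 6) = a ∧
    shape s t p q a b c d (some 7) = b ∧
    shape s t p q a b c d (some 8) = c ∧
    shape s t p q a b c d (some 9) = c ∧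
    shape s t p q a b c d (some 10) = b ∧
    shape s t p q a b c d (some 11) = d ∧
    shape s t p q a b c d (some 12) = c ∧
    shape s t p q a b c d (some 13) = c ∧
    shape s t p q a b c d (some 14) = d ∧
    shape s t p q a b c d (some 15) = q ∧
    shape s t p q a b c d (some 16) = c ∧
    shape s t p q a b c d (some 17) = d ∧
    shape s t p q a b c d (some 18) = a ∧
    shape s t p q a b c d (some 19) = d ∧
    shape s t p q a b c d (some 20) = b ∧
    shape s t p q a b c d (some 21) = b ∧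
    shape s t p q a b c d (some 22) = d :=
  ⟨rfl, rfl, rfl, rfl, rfl, rfl, rfl, rfl, rfl, rfl, rfl, rfl, rfl, rfl, rfl, rfl, rfl, rfl, rfl, rfl, rfl, rfl, rfl, rfl⟩

section inv

variable (x : GolayPt → ℤ) (hinv : ∀ i, x (cubeTwistFun i) = x i)

include hinv in
theorem inv_iter (n : ℕ) (i : GolayPt) : x (cubeTwistFun^[n] i) = x i := by
  induction n with
  | zero => rfl
  | succ n ih => rw [Function.iterate_succ_apply', hinv, ih]

include hinv in
theorem eq_shape : x = shape (x none) (x (some 0)) (x (some 3)) (x (some 15)) (x (some 1))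
    (x (some 5)) (x (some 8)) (x (some 11)) := by
  funext i
  have h1 : x i = x (repOf i) := by
    obtain ⟨n, _, hn⟩ := orbit_ok i
    conv_lhs => rw [← hn]
    exact inv_iter x hinv n _
  rw [h1]
  rcases i with _ | k
  · rfl
  · fin_cases k <;> rfl

end inv

theorem sqNorm_shape (s t p q a b c d : ℤ) : sqNorm (shape s t p q a b c d) =
    s ^ 2 + t ^ 2 + p ^ 2 + q ^ 2 + 5 * (a ^ 2 + b ^ 2 + c ^ 2 + d ^ 2) := by
  obtain ⟨hN, h0, h1, h2, h3, h4, h5, h6, h7, h8, h9, h10, h11, h12, h13, h14, h15, h16, h17, h18, h19, h20, h21, h22⟩ := shape_vals s t p q a b c d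
  unfold sqNorm
  rw [Fintype.sum_option, sum23, hN, h0, h1, h2, h3, h4, h5, h6, h7, h8, h9, h10, h11, h12, h13, h14, h15, h16, h17, h18, h19, h20, h21, h22]
  ring

theorem vecV_some (k : ZMod 23) : vecV (some k) = -1 := if_neg (by simp)

theorem dotV_shape (s t p q a b c d : ℤ) : dotInt vecV (shape s t p q a b c d) =
    -5 * s - t - p - q - 5 * (a + b + c + d) := by
  obtain ⟨hN, h0, h1, h2, h3, h4, h5, h6, h7, h8, h9, h10, h11, h12, h13, h14, h15, h16, h17, h18, h19, h20, h21, h22⟩ := shape_vals s t p q a b c d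
  unfold dotInt
  rw [Fintype.sum_option, sum23]
  simp only [vecV_some]
  have hV : vecV none = -5 := if_pos rfl
  rw [hV, hN, h0, h1, h2, h3, h4, h5, h6, h7, h8, h9, h10, h11, h12, h13, h14, h15, h16, h17, h18, h19, h20, h21, h22]
  ring

theorem dotU_shape (s t p q a b c d : ℤ) : dotInt vecU (shape s t p q a b c d) = 4 * s + 4 * t := by
  obtain ⟨hN, h0, h1, h2, h3, h4, h5, h6, h7, h8, h9, h10, h11, h12, h13, h14, h15, h16, h17, h18, h19, h20, h21, h22⟩ := shape_vals s t p q a b c d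
  rw [dotU, hN, h0]

/-! ### the lattice conditions -/

/-- The two conditions on the residues modulo 4 used below. -/
def CodeOK (x : GolayPt → ℤ) : Prop :=
  Cfsg.Agent.Lib.Helper26_Golay.isCode (Cfsg.Agent.Lib.Helper26_Golay.enc
    (Finset.univ.filter fun i => x i ≡ 1 [ZMOD 4])) = true ∧
  Cfsg.Agent.Lib.Helper26_Golay.isCode (Cfsg.Agent.Lib.Helper26_Golay.enc
    (Finset.univ.filter fun i => x i ≡ 2 [ZMOD 4])) = true

instance (x : GolayPt → ℤ) : Decidable (CodeOK x) := by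
  unfold CodeOK
  infer_instance

theorem codeOK_of_mem (x : GolayPt → ℤ) (hx : x ∈ leechLattice) : CodeOK x := by
  rw [mem_leechLattice_iff] at hx
  obtain ⟨m, _, _, h3⟩ := hx
  exact ⟨(Cfsg.Agent.Lib.Helper26_Golay.mem_supports_iff _).mp (h3 1),
    (Cfsg.Agent.Lib.Helper26_Golay.mem_supports_iff _).mp (h3 2)⟩

/-- The five solutions. -/
def sols : List (ℤ × ℤ × ℤ × ℤ × ℤ × ℤ × ℤ × ℤ) :=
  [(4, -4, 0, 0, 0, 0, 0, 0),
   (2, -2, 0, -2, 0, 0, 2, 0),
   (2, -2, -2, 0, 0, 2, 0, 0),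
   (1, -1, -1, 3, 1, 1, 1, -1),
   (1, -1, 3, -1, 1, 1, 1, -1)]

/-- The condition checked for each candidate. -/
def Cond (s p a b c d : ℤ) : Prop :=
  s ^ 2 + (-s) ^ 2 + p ^ 2 + (16 - 5 * s - (-s) - p - 5 * (a + b + c + d)) ^ 2 +
      5 * (a ^ 2 + b ^ 2 + c ^ 2 + d ^ 2) = 32 →
    CodeOK (shape s (-s) p (16 - 5 * s - (-s) - p - 5 * (a + b + c + d)) a b c d) →
    (s, -s, p, 16 - 5 * s - (-s) - p - 5 * (a + b + c + d), a, b, c, d) ∈ sols

instance (s p a b c d : ℤ) : Decidable (Cond s p a b c d) := by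
  unfold Cond
  infer_instance

/-- The enumeration: the unknowns are shifted to natural numbers. -/
theorem enum_ok : ∀ a' : ℕ, a' < 5 → ∀ b' : ℕ, b' < 5 → ∀ c' : ℕ, c' < 5 → ∀ d' : ℕ, d' < 5 →
    ∀ s' : ℕ, s' < 11 → ∀ p' : ℕ, p' < 11 →
    Cond ((s' : ℤ) - 5) ((p' : ℤ) - 5) ((a' : ℤ) - 2) ((b' : ℤ) - 2) ((c' : ℤ) - 2)
      ((d' : ℤ) - 2) := by
  decide +kernel

/-- The solutions of the three equations with the conditions on the residues. -/
theorem sols_of_eqs (s t p q a b c d : ℤ)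
    (h1 : s ^ 2 + t ^ 2 + p ^ 2 + q ^ 2 + 5 * (a ^ 2 + b ^ 2 + c ^ 2 + d ^ 2) = 32)
    (h2 : -5 * s - t - p - q - 5 * (a + b + c + d) = -16) (h3 : 4 * s + 4 * t = 0)
    (h4 : CodeOK (shape s t p q a b c d)) : (s, t, p, q, a, b, c, d) ∈ sols := by
  obtain rfl : t = -s := by linarith
  obtain rfl : q = 16 - 5 * s - (-s) - p - 5 * (a + b + c + d) := by linarith
  have hs : -5 ≤ s ∧ s ≤ 5 := by
    constructor <;>
    nlinarith [sq_nonneg s, sq_nonneg p, sq_nonneg (16 - 5 * s - (-s) - p - 5 * (a + b + c + d)),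
      sq_nonneg a, sq_nonneg b, sq_nonneg c, sq_nonneg d]
  have hp : -5 ≤ p ∧ p ≤ 5 := by
    constructor <;>
    nlinarith [sq_nonneg s, sq_nonneg p, sq_nonneg (16 - 5 * s - (-s) - p - 5 * (a + b + c + d)),
      sq_nonneg a, sq_nonneg b, sq_nonneg c, sq_nonneg d]
  have ha : -2 ≤ a ∧ a ≤ 2 := by
    constructor <;>
    nlinarith [sq_nonneg s, sq_nonneg p, sq_nonneg (16 - 5 * s - (-s) - p - 5 * (a + b + c + d)),
      sq_nonneg a, sq_nonneg b, sq_nonneg c, sq_nonneg d]
  have hb : -2 ≤ b ∧ b ≤ 2 := by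
    constructor <;>
    nlinarith [sq_nonneg s, sq_nonneg p, sq_nonneg (16 - 5 * s - (-s) - p - 5 * (a + b + c + d)),
      sq_nonneg a, sq_nonneg b, sq_nonneg c, sq_nonneg d]
  have hc : -2 ≤ c ∧ c ≤ 2 := by
    constructor <;>
    nlinarith [sq_nonneg s, sq_nonneg p, sq_nonneg (16 - 5 * s - (-s) - p - 5 * (a + b + c + d)),
      sq_nonneg a, sq_nonneg b, sq_nonneg c, sq_nonneg d]
  have hd : -2 ≤ d ∧ d ≤ 2 := by
    constructor <;>
    nlinarith [sq_nonneg s, sq_nonneg p, sq_nonneg (16 - 5 * s - (-s) - p - 5 * (a + b + c + d)),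
      sq_nonneg a, sq_nonneg b, sq_nonneg c, sq_nonneg d]
  obtain ⟨s', hs'⟩ : ∃ s' : ℕ, (s' : ℤ) = s + 5 := ⟨(s + 5).toNat, by omega⟩
  obtain ⟨p', hp'⟩ : ∃ p' : ℕ, (p' : ℤ) = p + 5 := ⟨(p + 5).toNat, by omega⟩
  obtain ⟨a', ha'⟩ : ∃ a' : ℕ, (a' : ℤ) = a + 2 := ⟨(a + 2).toNat, by omega⟩
  obtain ⟨b', hb'⟩ : ∃ b' : ℕ, (b' : ℤ) = b + 2 := ⟨(b + 2).toNat, by omega⟩
  obtain ⟨c', hc'⟩ : ∃ c' : ℕ, (c' : ℤ) = c + 2 := ⟨(c + 2).toNat, by omega⟩
  obtain ⟨d', hd'⟩ : ∃ d' : ℕ, (d' : ℤ) = d + 2 := ⟨(d + 2).toNat, by omega⟩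
  have key := enum_ok a' (by omega) b' (by omega) c' (by omega) d' (by omega) s' (by omega)
    p' (by omega)
  have e1 : (s' : ℤ) - 5 = s := by omega
  have e2 : (p' : ℤ) - 5 = p := by omega
  have e3 : (a' : ℤ) - 2 = a := by omega
  have e4 : (b' : ℤ) - 2 = b := by omega
  have e5 : (c' : ℤ) - 2 = c := by omega
  have e6 : (d' : ℤ) - 2 = d := by omega
  rw [e1, e2, e3, e4, e5, e6] at key
  exact key h1 h4

/-- The lattice vectors invariant under the cube twist with sum of squares `32` and inner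
products `-16`, `0` with `(-5, -1^23)`, `(4, 4, 0^22)`. -/
theorem fix_classify (x : GolayPt → ℤ) (hx : x ∈ leechLattice)
    (hinv : ∀ i, x (cubeTwistFun i) = x i) (hn : sqNorm x = 32) (hV : dotInt vecV x = -16)
    (hU : dotInt vecU x = 0) :
    x = shape 4 (-4) 0 0 0 0 0 0 ∨ x = shape 2 (-2) 0 (-2) 0 0 2 0 ∨
      x = shape 2 (-2) (-2) 0 0 2 0 0 ∨ x = shape 1 (-1) (-1) 3 1 1 1 (-1) ∨
      x = shape 1 (-1) 3 (-1) 1 1 1 (-1) := by
  have hsh := eq_shape x hinv
  have hc := codeOK_of_mem x hx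
  have key := sols_of_eqs (x none) (x (some 0)) (x (some 3)) (x (some 15)) (x (some 1))
    (x (some 5)) (x (some 8)) (x (some 11))
    (by rw [← sqNorm_shape, ← hsh]; exact hn)
    (by rw [← dotV_shape, ← hsh]; exact hV)
    (by rw [← dotU_shape (x none) (x (some 0)) (x (some 3)) (x (some 15)) (x (some 1))
      (x (some 5)) (x (some 8)) (x (some 11)), ← hsh]; exact hU)
    (by rw [← hsh]; exact hc)
  simp only [sols, List.mem_cons, Prod.mk.injEq, List.not_mem_nil, or_false] at key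
  rcases key with ⟨k1, k2, k3, k4, k5, k6, k7, k8⟩ | ⟨k1, k2, k3, k4, k5, k6, k7, k8⟩ |
    ⟨k1, k2, k3, k4, k5, k6, k7, k8⟩ | ⟨k1, k2, k3, k4, k5, k6, k7, k8⟩ |
    ⟨k1, k2, k3, k4, k5, k6, k7, k8⟩
  · left
    rw [hsh, k1, k2, k3, k4, k5, k6, k7, k8]
  · right; left
    rw [hsh, k1, k2, k3, k4, k5, k6, k7, k8]
  · right; right; left
    rw [hsh, k1, k2, k3, k4, k5, k6, k7, k8]
  · right; right; right; left
    rw [hsh, k1, k2, k3, k4, k5, k6, k7, k8]
  · right; right; right; right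
    rw [hsh, k1, k2, k3, k4, k5, k6, k7, k8]

end Cfsg.Agent.Lib.Helper93_McLFix
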