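import Cfsg.Agent.Lib.Helper93_McLCent
import Cfsg.Agent.Lib.Helper92_Co3Main
import Cfsg.Agent.S1634
import Cfsg.Agent.S0404

/-!
The common stabiliser `Gs` of `(4, 4, 0^22)` and `(1, -3, 1^22)` in the automorphism group of the
rank-24 lattice (equivalently, of `(-5, -1^23)` and `(4, 4, 0^22)`) is generated by the coordinate
permutations `a : x ↦ 2 x`, `d` (the cube twist), `t` and the element `e` of order `5`.

`Gs` acts on `2025` vectors with the stabiliser of `(4, -4, 0^22)` having orbits of lengths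
`1, 330, 462, 1232`; no proper union of them containing the first has a size dividing `2025`, so
this stabiliser is maximal.  It consists of the coordinate permutations fixing two points, which
are products of `a`, `d`, `t`, and `e` is not in it.
-/

set_option autoImplicit false
set_option linter.constructorNameAsVariable false
open Cfsg
open scoped Pointwise

namespace Cfsg.Agent.Lib.Helper93_McLGen

open Cfsg.Agent.Lib.Helper7_M24 Cfsg.Agent.Lib.Helper7_Leech Cfsg.Agent.Lib.Helper92_Monomial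
  Cfsg.Agent.Lib.Helper7_Mono Cfsg.Agent.Lib.Helper92_QuadAut Cfsg.Agent.Lib.Helper93_McLElt
  Cfsg.Agent.Lib.Helper92_ZElt Cfsg.Agent.Lib.Helper7_Bits Cfsg.Agent.Lib.Helper93_McLRep
  Cfsg.Agent.Lib.Helper93_McLPerm Cfsg.Agent.Lib.Helper92_Co3Cent
  Cfsg.Agent.Lib.Helper93_OutM24 Cfsg.Agent.Lib.Helper93_M24Obj
  Cfsg.Agent.Lib.Helper93_McLData Cfsg.Agent.Lib.Helper93_McLCent
  Cfsg.Agent.Lib.Helper92_FixMono Cfsg.Agent.Lib.Helper92_FixLat Cfsg.Agent.Lib.Helper92_Co0Order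
  Cfsg.Agent.Lib.Helper92_RankSimple Cfsg.Agent.Lib.Helper92_Co3 Cfsg.Agent.Lib.Helper92_MaxN
open Cfsg.Agent.Lib.Helper26_Golay (idx pt pt_idx idx_pt)
open Cfsg.Agent.S5546 (Lam vec8 e8)
open Cfsg.Spor (vecV vecU vecU' leechU leechU' leechV)
open MulAction

/-! ### covering an orbit by the orbits of a point stabiliser, by counting -/

section cover

variable {G α : Type*} [Group G] [MulAction G α]
variable (x0 : α) {k : ℕ} (ys : Fin k → α) (s : Fin k → ℕ)
  (hs : ∀ i, (orbit ↥(stabilizer G x0) (ys i)).ncard = s i)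
  (hs1 : ∀ i, 1 < s i) (hinj : Function.Injective s)

include hs hs1 hinj in
theorem hcov_of_card (n : ℕ) (hn : (orbit G x0).ncard = n) (hys : ∀ i, ys i ∈ orbit G x0)
    (hsum : 1 + ∑ i, s i = n) : orbit G x0 ⊆ ⋃ i, ClO (G := G) x0 ys i := by
  have hfin : (orbit G x0).Finite := Set.finite_of_ncard_pos (by rw [hn, ← hsum]; omega)
  have hsub : (⋃ i, ClO (G := G) x0 ys i) ⊆ orbit G x0 := by
    apply Set.iUnion_subset
    intro i
    cases i with
    | none =>
      intro y hy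
      rw [show y = x0 from hy]
      exact mem_orbit_self x0
    | some i =>
      rintro _ ⟨h, rfl⟩
      obtain ⟨g, hg⟩ := hys i
      refine ⟨h.1 * g, ?_⟩
      show (h.1 * g) • x0 = h.1 • ys i
      rw [mul_smul]
      exact congrArg (fun z => h.1 • z) hg
  obtain ⟨e, he1, he0, hsum'⟩ := ncard_of_classes (⋃ i, ClO (G := G) x0 ys i)
    (ClO (G := G) x0 ys) (ClO_finite x0 ys s hs hs1) (ClO_disj x0 ys s hs hs1 hinj) (le_refl _)
    (fun i => Or.inl (Set.subset_iUnion _ i))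
  have hall : ∀ i, e i = true := by
    intro i
    cases hh : e i
    · exfalso
      have hne : (ClO (G := G) x0 ys i).Nonempty := by
        rw [← Set.ncard_pos (ClO_finite x0 ys s hs hs1 i), ClO_ncard x0 ys s hs]
        exact szO_pos s hs1 i
      obtain ⟨y, hy⟩ := hne
      exact Set.disjoint_left.mp (he0 i hh) hy (Set.mem_iUnion.mpr ⟨i, hy⟩)
    · rfl
  have hcard : (⋃ i, ClO (G := G) x0 ys i).ncard = n := by
    rw [hsum', Fintype.sum_option, if_pos (hall none), ClO_ncard x0 ys s hs, ← hsum]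
    congr 1
    apply Finset.sum_congr rfl
    intro i _
    rw [if_pos (hall (some i)), ClO_ncard x0 ys s hs]
    rfl
  have := Set.eq_of_subset_of_ncard_le hsub (by rw [hcard, hn]) hfin
  rw [this]

end cover

/-! ### the group and its action on `2025` vectors -/

/-- The common stabiliser of `(4, 4, 0^22)` and `(1, -3, 1^22)`. -/
abbrev Gs : Subgroup ↥Co0 := stabilizer ↥Co0 UL ⊓ stabilizer ↥Co0 M3

theorem smul_neg4 (g : ↥Co0) (a : Lam) : g • (-a) = -(g • a) :=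
  Cfsg.Agent.Lib.Helper26_HSPair.co0_neg g.1 g.2 a

theorem VL_eq : VL = -(M3 + UL) := by
  unfold M3
  abel

theorem mem_Gs_iff (g : ↥Co0) : g ∈ Gs ↔ g • VL = VL ∧ g • UL = UL := by
  constructor
  · rintro ⟨h1, h2⟩
    have h1' : g • UL = UL := h1
    have h2' : g • M3 = M3 := h2
    refine ⟨?_, h1'⟩
    rw [VL_eq, smul_neg4, smul_add', h1', h2']
  · rintro ⟨h1, h2⟩
    refine ⟨h2, ?_⟩
    show g • M3 = M3
    unfold M3
    rw [smul_neg4, smul_add', h1, h2]

theorem norm_M3 : sqNorm (M3 : GolayPt → ℤ) = 32 := by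
  show sqNorm (-(vecV + vecU)) = 32
  decide +kernel

theorem dot_UL_M3 : dotInt (UL : GolayPt → ℤ) (M3 : GolayPt → ℤ) = -8 := by
  show dotInt vecU (-(vecV + vecU)) = -8
  decide +kernel

theorem dot_M3_UL' : dotInt (M3 : GolayPt → ℤ) (UL' : GolayPt → ℤ) = 16 := by
  show dotInt (-(vecV + vecU)) vecU' = 16
  decide +kernel

/-- The `2025` points. -/
def XM : Set Lam := {x : ↥leechLattice | sqNorm (x : GolayPt → ℤ) = 32 ∧
  dotInt (UL : GolayPt → ℤ) (x : GolayPt → ℤ) = 0 ∧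
  dotInt (M3 : GolayPt → ℤ) (x : GolayPt → ℤ) = 16}

theorem UL'_mem : UL' ∈ XM := ⟨norm_UL', dot_U_UL', dot_M3_UL'⟩

theorem XM_smul (g : ↥Co0) (h1 : g • UL = UL) (h2 : g • M3 = M3) (x : Lam) (hx : x ∈ XM) :
    g • x ∈ XM := by
  refine ⟨?_, ?_, ?_⟩
  · show sqNorm ((g • x : Lam) : GolayPt → ℤ) = 32
    rw [sqNorm_smul]; exact hx.1
  · show dotInt (UL : GolayPt → ℤ) ((g • x : Lam) : GolayPt → ℤ) = 0
    have := Cfsg.Agent.S5593.dot_smul g UL x
    rw [h1] at this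
    rw [this]; exact hx.2.1
  · show dotInt (M3 : GolayPt → ℤ) ((g • x : Lam) : GolayPt → ℤ) = 16
    have := Cfsg.Agent.S5593.dot_smul g M3 x
    rw [h2] at this
    rw [this]; exact hx.2.2

theorem rank4 : XM.ncard = 2025 ∧
    (∀ x ∈ XM, ∀ x' ∈ XM, ∃ g : ↥Co0, g • UL = UL ∧ g • M3 = M3 ∧ g • x = x') ∧
    ∀ x ∈ XM, ∃ y₁ ∈ XM, ∃ y₂ ∈ XM, ∃ y₃ ∈ XM,
      (orbit ↥(Gs ⊓ stabilizer ↥Co0 x) y₁).ncard = 330 ∧
      (orbit ↥(Gs ⊓ stabilizer ↥Co0 x) y₂).ncard = 462 ∧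
      (orbit ↥(Gs ⊓ stabilizer ↥Co0 x) y₃).ncard = 1232 :=
  Cfsg.Agent.S1634.result UL M3 norm_UL norm_M3 dot_UL_M3

theorem orbit_eq : orbit ↥Gs UL' = XM := by
  ext x
  constructor
  · rintro ⟨g, rfl⟩
    exact XM_smul (g : ↥Co0) g.2.1 g.2.2 UL' UL'_mem
  · intro hx
    obtain ⟨g, h1, h2, h3⟩ := rank4.2.1 UL' UL'_mem x hx
    exact ⟨⟨g, h1, h2⟩, h3⟩

theorem orbit_ncard : (orbit ↥Gs UL').ncard = 2025 := by
  rw [orbit_eq]; exact rank4.1

theorem arith2025' : ∀ e : Fin 3 → Bool,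
    (1 + ∑ i, if e i = true then (![330, 462, 1232] : Fin 3 → ℕ) i else 0) ∣ 2025 →
    (∀ i, e i = true) ∨ (∀ i, e i = false) := by
  decide

/-- The stabiliser of `(4, -4, 0^22)` is maximal. -/
theorem stab_max : ∀ K : Subgroup ↥Gs, stabilizer ↥Gs UL' ≤ K →
    K = stabilizer ↥Gs UL' ∨ K = ⊤ := by
  obtain ⟨y₁, m1, y₂, m2, y₃, m3, h1, h2, h3⟩ := rank4.2.2 UL' UL'_mem
  rw [orbit_inf_eq] at h1 h2 h3
  have hs : ∀ i, (orbit ↥(stabilizer ↥Gs UL') ((![y₁, y₂, y₃] : Fin 3 → Lam) i)).ncard =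
      (![330, 462, 1232] : Fin 3 → ℕ) i := by
    intro i
    fin_cases i
    · exact h1
    · exact h2
    · exact h3
  have hs1 : ∀ i, 1 < (![330, 462, 1232] : Fin 3 → ℕ) i := by decide
  have hinj : Function.Injective (![330, 462, 1232] : Fin 3 → ℕ) := by decide
  have hys : ∀ i, (![y₁, y₂, y₃] : Fin 3 → Lam) i ∈ orbit ↥Gs UL' := by
    intro i
    rw [orbit_eq]
    fin_cases i
    · exact m1
    · exact m2
    · exact m3
  have hcov := hcov_of_card (G := ↥Gs) UL' _ _ hs hs1 hinj 2025 orbit_ncard hys (by decide)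
  exact max_of_orbit (G := ↥Gs) UL'
    (hprim_of_orbits UL' _ _ hs hs1 hinj 2025 orbit_ncard hcov arith2025')

/-! ### generation -/

/-- The subgroup generated by the four elements. -/
def KM : Subgroup ↥Co0 := Subgroup.closure {PD, PC, PT, eE}

theorem PD_mem : PD ∈ KM := Subgroup.subset_closure (by simp)
theorem PC_mem : PC ∈ KM := Subgroup.subset_closure (by simp)
theorem PT_mem : PT ∈ KM := Subgroup.subset_closure (by simp)
theorem eE_mem : eE ∈ KM := Subgroup.subset_closure (by simp)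

/-- The coordinate permutations fixing `∞` and `0` lie in the subgroup. -/
theorem perm_mem (σ : ↥M24) (h : σ.1 none = none) (h0 : σ.1 (some 0) = some 0) :
    perm σ ∈ KM := by
  have h1 : σ.1 ∈ K22 := mem_K22 σ.1 σ.2 h h0
  have h2 : K22 = (Subgroup.closure ({mD, mC, mT} : Set ↥M24)).map M24.subtype := by
    rw [MonoidHom.map_closure]
    unfold K22
    congr 1
    ext x
    simp only [Set.mem_insert_iff, Set.mem_singleton_iff, Set.mem_image]
    constructor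
    · rintro (rfl | rfl | rfl)
      · exact ⟨mD, Or.inl rfl, rfl⟩
      · exact ⟨mC, Or.inr (Or.inl rfl), rfl⟩
      · exact ⟨mT, Or.inr (Or.inr rfl), rfl⟩
    · rintro ⟨y, (rfl | rfl | rfl), rfl⟩
      · exact Or.inl rfl
      · exact Or.inr (Or.inl rfl)
      · exact Or.inr (Or.inr rfl)
  rw [h2] at h1
  obtain ⟨τ, hτ, hτσ⟩ := h1
  have e : τ = σ := Subtype.ext hτσ
  rw [e] at hτ
  have h3 : (Subgroup.closure ({mD, mC, mT} : Set ↥M24)).map permHom ≤ KM := by
    rw [MonoidHom.map_closure]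
    unfold KM
    apply Subgroup.closure_mono
    rintro x ⟨y, (rfl | rfl | rfl), rfl⟩
    · exact Or.inl rfl
    · exact Or.inr (Or.inl rfl)
    · exact Or.inr (Or.inr (Or.inl rfl))
  exact h3 ⟨σ, hτ, rfl⟩

/-- The stabiliser of the three vectors lies in the subgroup. -/
theorem stab_le_KM (g : ↥Co0) (hg : g ∈ Gs) (hU' : g • UL' = UL') : g ∈ KM := by
  obtain ⟨hV, hU⟩ := (mem_Gs_iff g).mp hg
  have h8 : g • e8 none = e8 none := by
    rw [e8_eq, smul_add', hU, hU']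
  obtain ⟨σ, hσ, rfl⟩ := mono_of_fix g h8 hV
  exact perm_mem σ hσ (zero_of_fix_UL σ hσ hU)

theorem eE_mem_Gs : eE ∈ Gs := (mem_Gs_iff eE).mpr ⟨eE_fix_VL, eE_fix_UL⟩
theorem PD_mem_Gs : PD ∈ Gs := (mem_Gs_iff PD).mpr ⟨PD_fix, PD_fix_UL⟩
theorem PC_mem_Gs : PC ∈ Gs := (mem_Gs_iff PC).mpr ⟨PC_fix, PC_fix_UL⟩
theorem PT_mem_Gs : PT ∈ Gs := (mem_Gs_iff PT).mpr ⟨PT_fix_VL, PT_fix_UL⟩

/-- The group is generated by the four elements. -/
theorem Gs_le_KM (g : ↥Co0) (hg : g ∈ Gs) : g ∈ KM := by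
  have hmax := stab_max (KM.subgroupOf Gs) (by
    intro h hh
    rw [Subgroup.mem_subgroupOf]
    exact stab_le_KM h.1 h.2 hh)
  rcases hmax with h | h
  · exfalso
    apply eE_UL'_ne
    have hmem : (⟨eE, eE_mem_Gs⟩ : ↥Gs) ∈ KM.subgroupOf Gs := by
      rw [Subgroup.mem_subgroupOf]
      exact eE_mem
    rw [h] at hmem
    exact hmem
  · have hmem : (⟨g, hg⟩ : ↥Gs) ∈ KM.subgroupOf Gs := by
      rw [h]; exact Subgroup.mem_top _
    rw [Subgroup.mem_subgroupOf] at hmem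
    exact hmem

theorem card_Gs : Nat.card ↥Gs = 11 * 81648000 :=
  (Cfsg.Agent.S0404.result UL M3 norm_UL norm_M3 dot_UL_M3).2

end Cfsg.Agent.Lib.Helper93_McLGen
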