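import Mathlib
import Cfsg.Agent.Lib.Helper93_OutM24b

/-!
Inside the group of the permutations of the length-24 code fixing the two points `∞` and `0`: an
element `t` of order 4 normalising the group generated by the cube twist `c` (`t c t⁻¹ = c²`);
relations between `t` and the doubling map `d`; the centraliser of `c` in this group is `⟨c⟩`; the
group is generated by `d`, `c` and `t`.  (Words and tables are generated data.)
-/

set_option autoImplicit false
set_option linter.constructorNameAsVariable false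
open Cfsg
open scoped Pointwise
open Cfsg.Agent.Lib.Helper26_Golay Cfsg.Agent.Lib.Helper93_M24Obj Cfsg.Agent.Lib.Helper93_OutM24

namespace Cfsg.Agent.Lib.Helper93_McLPerm

/-- The table of `t`. -/
def TT : ℕ := 0xbc609b19d41ccea5a2a56859278880

/-- The point map of `t`. -/
def fT : ℕ → ℕ := img TT

theorem tblT : tblInM24 TT = true := by decide +kernel

/-- The element `t`. -/
noncomputable def gT : Equiv.Perm GolayPt := tblPerm TT

theorem gT_mem : gT ∈ M24 := (tblPerm_spec tblT).1

theorem gT_rep : RepF gT fT := repF_of_represents (tblPerm_spec tblT).2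

/-- The explicit action of `t`. -/
theorem gT_apply (p : GolayPt) : gT p = pt (fT (idx p)) := by
  rw [← gT_rep p, pt_idx]

theorem gC_apply' (p : GolayPt) : gC p = pt (fC (idx p)) := by
  rw [← gC_rep p, pt_idx]

theorem gD_apply' (p : GolayPt) : gD p = pt (fD (idx p)) := by
  rw [← gD_rep p, pt_idx]

/-! ### relations -/

theorem relT_ok : (sameF (fun x => fT (fC x)) (fun x => fC (fC (fT x)))
    && isId (itr fC 5) && !(fC 1 == 1)
    && isId (itr (fun x => fD (itr fT 2 x)) 5)
    && isId (itr (fun x => itr fD 2 (itr fT 2 x)) 6)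
    && isId (itr (fun x => fD (fT x)) 6)
    && isId (itr (fun x => itr fD 2 (fT x)) 5)
    && (fT 23 == 23) && (fT 0 == 0) && (fC 23 == 23) && (fC 0 == 0) && (fD 23 == 23)
    && (fD 0 == 0)) = true := by
  decide +kernel

theorem rel_TC : gT * gC * gT⁻¹ = gC ^ 2 := by
  have h := relT_ok
  simp only [Bool.and_eq_true] at h
  have h1 : gT * gC = gC ^ 2 * gT := by
    apply eq_of_sameF (gT_rep.mul gC_rep) ((repF_npow gC_rep 2).mul gT_rep)
    exact h.1.1.1.1.1.1.1.1.1.1.1.1
  rw [h1]
  group

theorem gC_pow5 : gC ^ 5 = 1 := by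
  have h := relT_ok
  simp only [Bool.and_eq_true] at h
  exact (eq_one_iff (repF_npow gC_rep 5)).mpr h.1.1.1.1.1.1.1.1.1.1.1.2

theorem gC_ne_one : gC ≠ 1 := by
  have h := relT_ok
  simp only [Bool.and_eq_true] at h
  have h1 := h.1.1.1.1.1.1.1.1.1.1.2
  intro e
  have h2 := (eq_one_iff gC_rep).mp e
  unfold isId at h2
  rw [sameF_iff] at h2
  have h3 := h2 1 (by norm_num)
  rw [h3] at h1
  simp at h1

theorem rel_r1 : (gD * gT ^ 2) ^ 5 = 1 := by
  have h := relT_ok
  simp only [Bool.and_eq_true] at h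
  exact (eq_one_iff (repF_npow (gD_rep.mul (repF_npow gT_rep 2)) 5)).mpr h.1.1.1.1.1.1.1.1.1.2

theorem rel_r2 : (gD ^ 2 * gT ^ 2) ^ 6 = 1 := by
  have h := relT_ok
  simp only [Bool.and_eq_true] at h
  exact (eq_one_iff (repF_npow ((repF_npow gD_rep 2).mul (repF_npow gT_rep 2)) 6)).mpr
    h.1.1.1.1.1.1.1.1.2

theorem rel_r4 : (gD * gT) ^ 6 = 1 := by
  have h := relT_ok
  simp only [Bool.and_eq_true] at h
  exact (eq_one_iff (repF_npow (gD_rep.mul gT_rep) 6)).mpr h.1.1.1.1.1.1.1.2

theorem rel_r5 : (gD ^ 2 * gT) ^ 5 = 1 := by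
  have h := relT_ok
  simp only [Bool.and_eq_true] at h
  exact (eq_one_iff (repF_npow ((repF_npow gD_rep 2).mul gT_rep) 5)).mpr h.1.1.1.1.1.1.2

theorem fix_ok : fT 23 = 23 ∧ fT 0 = 0 ∧ fC 23 = 23 ∧ fC 0 = 0 ∧ fD 23 = 23 ∧ fD 0 = 0 := by
  have h := relT_ok
  simp only [Bool.and_eq_true, beq_iff_eq] at h
  exact ⟨h.1.1.1.1.1.2, h.1.1.1.1.2, h.1.1.1.2, h.1.1.2, h.1.2, h.2⟩

theorem gT_none : gT none = none := by
  rw [gT_apply]
  show pt (fT 23) = pt 23
  rw [fix_ok.1]

theorem gT_zero : gT (some 0) = some 0 := by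
  rw [gT_apply]
  show pt (fT 0) = pt 0
  rw [fix_ok.2.1]

/-! ### the first pin -/

/-- The point map of `d ^ k * (c ^ i * t ^ 2)`. -/
def fP1 (k i : ℕ) (x : ℕ) : ℕ := itr fD k (itr fC i (itr fT 2 x))

/-- The point map of `(d ^ k) ^ 2 * (c ^ i * t ^ 2)`. -/
def fP2 (k i : ℕ) (x : ℕ) : ℕ := itr (itr fD k) 2 (itr fC i (itr fT 2 x))

theorem pinP1_ok : allFold (fun i =>
    (!(isId (itr (fP1 1 i) 5)) || !(isId (itr (fP2 1 i) 6)) || i == 0) &&
    (!(isId (itr (fP1 10 i) 5)) || !(isId (itr (fP2 10 i) 6)) || i == 0)) 5 = true := by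
  decide +kernel

theorem pinP1 (k : ℕ) (hk : k ∈ ([1, 10] : List ℕ)) (i : ℕ) (hi : i < 5)
    (h5 : (gD ^ k * (gC ^ i * gT ^ 2)) ^ 5 = 1)
    (h6 : ((gD ^ k) ^ 2 * (gC ^ i * gT ^ 2)) ^ 6 = 1) : i = 0 := by
  have hP : RepF (gD ^ k * (gC ^ i * gT ^ 2)) (fP1 k i) :=
    (repF_npow gD_rep k).mul ((repF_npow gC_rep i).mul (repF_npow gT_rep 2))
  have hQ : RepF ((gD ^ k) ^ 2 * (gC ^ i * gT ^ 2)) (fP2 k i) :=
    (repF_npow (repF_npow gD_rep k) 2).mul ((repF_npow gC_rep i).mul (repF_npow gT_rep 2))
  have e5 := (eq_one_iff (repF_npow hP 5)).mp h5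
  have e6 := (eq_one_iff (repF_npow hQ 6)).mp h6
  have h := (allFold_eq_true _ _).mp pinP1_ok i hi
  rw [Bool.and_eq_true] at h
  have hk' : k = 1 ∨ k = 10 := by simpa using hk
  rcases hk' with rfl | rfl
  · have h1 := h.1
    rw [e5, e6] at h1
    simpa using h1
  · have h1 := h.2
    rw [e5, e6] at h1
    simpa using h1

/-! ### the centraliser of `c` -/

/-- Tables of elements fixing `∞` and `0` and mapping `1`, `2` to `u`, `c³ u`. -/
def TUP : ℕ := 0xbdab49ca307b9ac5a928398a418820ba451ab50f3c24c98546750642aec0b99b0929d3244342b1634592279ea0b9a0d75572146c33a26a491e161680bb48e2c18f5202959a82b54723c660bba8ab116d7c52899d90286a219a40bba61a89b25258642cef21470a5a20b862971c5341955235ebb4865a3200bdab49ca307b9ac5a928398a418820bd96629201a35226454f91c68acdc0b91e548ecea1e2608a6a8324baa1a0b99f440e2b3d672205c54c05653580bbd8249d01a10c59d6d250db08b960bc26e59e260b6c5192547a04965540b89f560dd15156191ac76a093a4120b85ea80d732d2c414a35634ce3a500bc58571ac21bc885aaa90b6129d0e0bc5505b6c998d947a255114e1710c0b8a080d2cb938d53a62364da47a8a0ba607b4eac2ca341a1eb1354670480bdab49ca307b9ac5a928398a418820bace589acc7cd0d75609a11411c840bdab49ca307b9ac5a928398a418820bdab49ca307b9ac5a928398a418820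

def TU (u : ℕ) : ℕ := get120 TUP u

theorem TU_ok : allFold (fun u => (fC u == u) || (tblInM24 (TU u) && (img (TU u) 23 == 23) &&
    (img (TU u) 0 == 0) && (img (TU u) 1 == u) && (img (TU u) 2 == itr fC 3 u))) 24 = true := by
  decide +kernel

/-- The point map is that of a power of `c`. -/
def isPowC (g : ℕ → ℕ) : Bool := !(allFold (fun j => !(sameF g (itr fC j))) 5)

theorem centC_ok : allFold (fun u => (fC u == u) || allFold (fun m =>
    !(sameF (fun x => cand4 (TU u) m (fC x)) (fun x => fC (cand4 (TU u) m x))) ||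
      isPowC (cand4 (TU u) m)) 960) 24 = true := by
  decide +kernel

theorem two_eq : itr fC 3 1 = 2 := by decide +kernel

/-- A permutation of the code fixing `∞` and `0` and commuting with `c` is a power of `c`. -/
theorem cent_C22 (π : Equiv.Perm GolayPt) (hπ : π ∈ M24) (h23 : π (pt 23) = pt 23)
    (h0 : π (pt 0) = pt 0) (h : π * gC = gC * π) : π ∈ Subgroup.zpowers gC := by
  have hc := comm_ptMap gC_rep h
  have hu : ptMap π 1 < 24 := ptMap_lt π 1
  have hfix : (fC (ptMap π 1) == ptMap π 1) = false := by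
    rw [beq_eq_false_iff_ne]
    intro e
    have h1 := hc 1 (by norm_num)
    rw [e] at h1
    have hlt : fC 1 < 24 := gC_rep.lt _ (by norm_num)
    have h2 := ptMap_inj π hlt (by norm_num) h1
    have h3 := relT_ok
    simp only [Bool.and_eq_true] at h3
    have h4 := h3.1.1.1.1.1.1.1.1.1.1.2
    rw [h2] at h4
    simp at h4
  have hT := (allFold_eq_true _ _).mp TU_ok (ptMap π 1) hu
  rw [hfix, Bool.false_or] at hT
  simp only [Bool.and_eq_true, beq_iff_eq] at hT
  obtain ⟨⟨⟨⟨hin, e23⟩, e0⟩, e1⟩, e2⟩ := hT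
  have k1 : π (pt 1) = pt (img (TU (ptMap π 1)) 1) := by
    rw [e1]
    unfold ptMap
    rw [pt_idx]
  have k2 : π (pt 2) = pt (img (TU (ptMap π 1)) 2) := by
    rw [e2]
    have := (comm_itr gC_rep h 3 1 (by norm_num)).2
    rw [two_eq] at this
    rw [← this]
    unfold ptMap
    rw [pt_idx]
  obtain ⟨m, hm, hrep⟩ := cand4_enum hin hπ (by rw [e23]; exact h23) (by rw [e0]; exact h0) k1 k2
  have hcm : sameF (fun x => cand4 (TU (ptMap π 1)) m (fC x))
      (fun x => fC (cand4 (TU (ptMap π 1)) m x)) = true :=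
    sameF_of_eq (hrep.mul gC_rep) (gC_rep.mul hrep) h
  have hCu := (allFold_eq_true _ _).mp centC_ok (ptMap π 1) hu
  rw [hfix, Bool.false_or, allFold_eq_true] at hCu
  have hCm := hCu m hm
  rw [hcm] at hCm
  simp only [Bool.not_true, Bool.false_or] at hCm
  unfold isPowC at hCm
  have hex : ∃ j < 5, sameF (cand4 (TU (ptMap π 1)) m) (itr fC j) = true := by
    by_contra hne
    push Not at hne
    have hall : allFold (fun j => !(sameF (cand4 (TU (ptMap π 1)) m) (itr fC j))) 5 = true := by
      rw [allFold_eq_true]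
      intro j hj
      have := hne j hj
      simpa using this
    rw [hall] at hCm
    simp at hCm
  obtain ⟨j, _, hs⟩ := hex
  have : π = gC ^ j := eq_of_sameF hrep (repF_npow gC_rep j) hs
  rw [this]
  exact Subgroup.pow_mem _ (Subgroup.mem_zpowers gC) _

/-! ### generation -/

/-- The letters `d, c, t, d⁻¹, c⁻¹, t⁻¹` (numbered from `0`). -/
noncomputable def letP2 (k : ℕ) : Equiv.Perm GolayPt :=
  if k = 0 then gD else if k = 1 then gC else if k = 2 then gT
  else if k = 3 then gD ^ 10 else if k = 4 then gC ^ 4 else gT ^ 3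

/-- The point maps of the letters. -/
def letF2 (k : ℕ) : ℕ → ℕ :=
  if k = 0 then fD else if k = 1 then fC else if k = 2 then fT
  else if k = 3 then itr fD 10 else if k = 4 then itr fC 4 else itr fT 3

theorem letP2_rep (k : ℕ) : RepF (letP2 k) (letF2 k) := by
  unfold letP2 letF2
  split_ifs
  · exact gD_rep
  · exact gC_rep
  · exact gT_rep
  · exact repF_npow gD_rep 10
  · exact repF_npow gC_rep 4
  · exact repF_npow gT_rep 3

/-- The subgroup generated by `d`, `c`, `t`. -/
def K22 : Subgroup (Equiv.Perm GolayPt) := Subgroup.closure {gD, gC, gT}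

theorem K22_le : K22 ≤ M24 := by
  unfold K22
  rw [Subgroup.closure_le]
  intro x hx
  rcases hx with rfl | rfl | rfl
  · exact gD_mem
  · exact gC_mem
  · exact gT_mem

theorem letP2_mem (k : ℕ) : letP2 k ∈ K22 := by
  have hD : gD ∈ K22 := Subgroup.subset_closure (by simp)
  have hC : gC ∈ K22 := Subgroup.subset_closure (by simp)
  have hT : gT ∈ K22 := Subgroup.subset_closure (by simp)
  unfold letP2
  split_ifs
  · exact hD
  · exact hC
  · exact hT
  · exact K22.pow_mem hD 10
  · exact K22.pow_mem hC 4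
  · exact K22.pow_mem hT 3

/-- The point map of a packed word of given length. -/
def evalW2 (w len : ℕ) (x : ℕ) : ℕ :=
  Nat.rec (motive := fun _ => ℕ) x (fun i acc => letF2 (wLet w i) acc) len

/-- The product of a packed word of given length. -/
noncomputable def prodW2 (w len : ℕ) : Equiv.Perm GolayPt :=
  Nat.rec (motive := fun _ => Equiv.Perm GolayPt) 1 (fun i acc => letP2 (wLet w i) * acc) len

theorem prodW2_succ (w len : ℕ) : prodW2 w (len + 1) = letP2 (wLet w len) * prodW2 w len := rfl

theorem prodW2_rep (w len : ℕ) : RepF (prodW2 w len) (evalW2 w len) := by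
  induction len with
  | zero => exact RepF.one
  | succ n ih =>
    rw [prodW2_succ]
    exact (letP2_rep _).mul ih

theorem prodW2_mem (w len : ℕ) : prodW2 w len ∈ K22 := by
  induction len with
  | zero => exact K22.one_mem
  | succ n ih =>
    rw [prodW2_succ]
    exact K22.mul_mem (letP2_mem _) ih

/-- The packed words and lengths of the coset representatives of level `l`, by target point. -/
def lvWP2 (l : ℕ) : ℕ :=
  if l = 2 then 0x6990000009900000159000000990000000100000159000001010000009c000000eb00000001000000030000409900000013000000190000000200000081000000040000002b000000020000001c000000000000000000000000 else if l = 3 then 0x3a40000028e800000acb00013740000000140000050000000004000028ca00003ac900000102000000e80001b28000000140000000d00000005b000008800000000d00000a0a00000160000000ca000000000000000000000000 else 0xd34880088214000011088000000e50000508a000d395a001450880011a42200142228000144d0000284450000069a0012b4d30000048b000d222800000a280001b49b0008b49b0000008800000000000000000000000000000000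

def lvLP2 (l : ℕ) : ℕ :=
  if l = 2 then 0x403030401040303030201050202020301020102010000 else if l = 3 then 0x505040602060305050403060303030402040303000000 else 0x708060305070707070807040705070406070300000000

/-- The word of level `l` with target `t`. -/
def lvW2 (l t : ℕ) : ℕ := (lvWP2 l >>> (32 * t)) &&& (2 ^ 32 - 1)

/-- Its length. -/
def lvL2 (l t : ℕ) : ℕ := get8 (lvLP2 l) t

/-- The check of level `l + 2`: every admissible target is reached by a word fixing the earlier
base points. -/
def levelOK2 (l : ℕ) : Bool := allFold (fun t => isFixedPt (l + 2) t ||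
  (allFold (fun i => evalW2 (lvW2 (l + 2) t) (lvL2 (l + 2) t) (base i) == base i) (l + 2) &&
    evalW2 (lvW2 (l + 2) t) (lvL2 (l + 2) t) (base (l + 2)) == t)) 24

theorem levels2_ok : allFold levelOK2 3 = true := by decide +kernel

/-- The packed words for the 48 elements fixing the five base points, and their lengths. -/
def f5WP2 : ℕ := 0x844d0425000000001274b442000000000a668a020000000053a134800000000003a5d74b00000000d109cac9000000002268201000000000026dd09b000000000baeb81000000000004d0ac8000000016389a6e90000000025748a4500000000d206b41400000000226884e8000000000badd6820000000093413ac8000000000015a005000000006ba14690000000015d6eb410000000001c09d15b000000001d6eba29000000008bae8a5d0000000008b1d15b000000012044572800000000804d1682000000008442b282000000006b414690000000002b94441200000000134c8411000000001d64208400000000008821100000000a456eb500000000000ba28a0400000000a395d1600000000001410500000000001369c42b000000000044229a000000000095a7400000000001429740000000002575c080000000000000849c000000015a2d3a020000000000aca413000000005d0804c90000000120a136d0000000001409a06800000000020826d00000000000000000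
def f5LP2 : ℕ := 0xb0a0b0b090b0a090a0a0b0a0b0b0a0c090b0b0a0a0b0a0b0b0b0b0a0a0a090c0a0b0a0a08090a0b060b090b0b0a0b00

def f5W2 (j : ℕ) : ℕ := (f5WP2 >>> (64 * j)) &&& (2 ^ 64 - 1)
def f5L2 (j : ℕ) : ℕ := get8 f5LP2 j

theorem f5_ok2 : allFold (fun j => sameF (evalW2 (f5W2 j) (f5L2 j)) (img (f5At j))) 48 = true := by
  decide +kernel

theorem f5Perm_mem_K22 (j : ℕ) (hj : j < 48) : f5Perm j ∈ K22 := by
  have h := (allFold_eq_true _ _).mp f5_ok2 j hj
  have : prodW2 (f5W2 j) (f5L2 j) = f5Perm j :=
    eq_of_sameF (prodW2_rep _ _) (repF_of_represents (f5Perm_spec hj).2) h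
  rw [← this]
  exact prodW2_mem _ _

/-- One step down the chain of stabilisers. -/
theorem peel2 (l : ℕ) (hl : l < 3)
    (g : Equiv.Perm GolayPt) (hg : ∀ i < l + 2, g (pt (base i)) = pt (base i)) :
    ∃ k ∈ K22, ∀ i < l + 3, (k⁻¹ * g) (pt (base i)) = pt (base i) := by
  have hl5 : l + 2 < 5 := by omega
  have hlv := (allFold_eq_true _ _).mp levels2_ok l hl
  unfold levelOK2 at hlv
  rw [allFold_eq_true] at hlv
  have ht := hlv (idx (g (pt (base (l + 2))))) (idx_lt _)
  have hnf : isFixedPt (l + 2) (idx (g (pt (base (l + 2))))) = false := by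
    unfold isFixedPt
    rw [Bool.not_eq_false', allFold_eq_true]
    intro i hi
    rw [Bool.not_eq_true', beq_eq_false_iff_ne]
    intro e
    have h1 : pt (base i) = g (pt (base (l + 2))) := by rw [e, pt_idx]
    rw [← hg i hi] at h1
    have h2 := pt_inj (base_lt i (by omega)) (base_lt (l + 2) hl5) (g.injective h1)
    have := base_inj (by omega) hl5 h2
    omega
  rw [hnf, Bool.false_or, Bool.and_eq_true, allFold_eq_true, beq_iff_eq] at ht
  obtain ⟨hfix, htgt⟩ := ht
  have hrep := prodW2_rep (lvW2 (l + 2) (idx (g (pt (base (l + 2))))))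
    (lvL2 (l + 2) (idx (g (pt (base (l + 2))))))
  refine ⟨prodW2 (lvW2 (l + 2) (idx (g (pt (base (l + 2))))))
    (lvL2 (l + 2) (idx (g (pt (base (l + 2)))))), prodW2_mem _ _, ?_⟩
  intro i hi
  rw [Equiv.Perm.mul_apply, Equiv.Perm.inv_eq_iff_eq]
  rcases Nat.lt_succ_iff_lt_or_eq.mp hi with hlt | rfl
  · rw [hg i hlt, hrep.apply_pt _ (base_lt i (by omega))]
    have := hfix i hlt
    rw [beq_iff_eq] at this
    rw [this]
  · rw [hrep.apply_pt _ (base_lt (l + 2) hl5), htgt, pt_idx]

/-- A permutation of the code fixing `∞` and `0` is a product of `d`, `c`, `t` and their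
inverses. -/
theorem mem_K22 (g : Equiv.Perm GolayPt) (hg : g ∈ M24) (h23 : g (pt 23) = pt 23)
    (h0 : g (pt 0) = pt 0) : g ∈ K22 := by
  have hb : ∀ i < 0 + 2, g (pt (base i)) = pt (base i) := by
    intro i hi
    have : i = 0 ∨ i = 1 := by omega
    rcases this with rfl | rfl
    · exact h23
    · exact h0
  obtain ⟨k2, hk2, h2⟩ := peel2 0 (by norm_num) g hb
  obtain ⟨k3, hk3, h3⟩ := peel2 1 (by norm_num) _ h2
  obtain ⟨k4, hk4, h4⟩ := peel2 2 (by norm_num) _ h3
  have hmem : k4⁻¹ * (k3⁻¹ * (k2⁻¹ * g)) ∈ M24 :=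
    M24.mul_mem (M24.inv_mem (K22_le hk4)) (M24.mul_mem (M24.inv_mem (K22_le hk3))
      (M24.mul_mem (M24.inv_mem (K22_le hk2)) hg))
  obtain ⟨j, hj, hjf⟩ := F5_enum' hmem (by
    intro i
    rw [bidx_eq]
    exact h4 i.val i.isLt)
  have hf := f5Perm_mem_K22 j hj
  rw [← hjf] at hf
  have e : g = k2 * (k3 * (k4 * (k4⁻¹ * (k3⁻¹ * (k2⁻¹ * g))))) := by group
  rw [e]
  exact K22.mul_mem hk2 (K22.mul_mem hk3 (K22.mul_mem hk4 hf))

end Cfsg.Agent.Lib.Helper93_McLPerm
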