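import Cfsg.Agent.Lib.Helper93_McLElt
import Cfsg.Agent.Lib.Helper93_McLPerm
import Cfsg.Agent.Lib.Helper92_Co3Cent

/-!
Automorphisms of the rank-24 lattice described by integer matrices: `Rep8 g M` says that `8 (g v)`
is `M v` for all lattice vectors `v`.  Products, equality and inequality of automorphisms are read
off the matrices; coordinate permutations, the element `e` of `Helper93_McLElt` and the involution
`z` of `Helper92_ZElt` have such matrices.
-/

set_option autoImplicit false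
set_option linter.constructorNameAsVariable false
open Cfsg
open scoped Pointwise

namespace Cfsg.Agent.Lib.Helper93_McLRep

open Cfsg.Agent.Lib.Helper7_M24 Cfsg.Agent.Lib.Helper7_Leech Cfsg.Agent.Lib.Helper92_Monomial
  Cfsg.Agent.Lib.Helper7_Mono Cfsg.Agent.Lib.Helper92_QuadAut Cfsg.Agent.Lib.Helper93_McLElt
  Cfsg.Agent.Lib.Helper92_ZElt Cfsg.Agent.Lib.Helper7_Bits
open Cfsg.Agent.Lib.Helper26_Golay (idx pt pt_idx idx_pt)
open Cfsg.Agent.Lib.Helper93_M24Obj (RepF)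
open Cfsg.Agent.S5546 (Lam vec8 e8)

/-- `8 (g v) = M v` for all lattice vectors `v`. -/
def Rep8 (g : ↥Co0) (M : Matrix GolayPt GolayPt ℤ) : Prop :=
  ∀ v : Lam, ∀ p, 8 * ((g • v : Lam) : GolayPt → ℤ) p = M.mulVec v.1 p

theorem rep8_one : Rep8 1 ((8 : ℤ) • (1 : Matrix GolayPt GolayPt ℤ)) := by
  intro v p
  rw [one_smul, Matrix.smul_mulVec, Matrix.one_mulVec, Pi.smul_apply, smul_eq_mul]

theorem rep8_mul {g h : ↥Co0} {M N : Matrix GolayPt GolayPt ℤ} (hg : Rep8 g M) (hh : Rep8 h N)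
    (K : Matrix GolayPt GolayPt ℤ) (hK : M * N = (8 : ℤ) • K) : Rep8 (g * h) K := by
  intro v p
  rw [mul_smul']
  have h1 := hg (h • v) p
  have h2 : M.mulVec (fun q => 8 * ((h • v : Lam) : GolayPt → ℤ) q) p =
      8 * M.mulVec ((h • v : Lam) : GolayPt → ℤ) p := by
    have : (fun q => 8 * ((h • v : Lam) : GolayPt → ℤ) q) =
        (8 : ℤ) • ((h • v : Lam) : GolayPt → ℤ) := by
      funext q
      rw [Pi.smul_apply, smul_eq_mul]
    rw [this, Matrix.mulVec_smul, Pi.smul_apply, smul_eq_mul]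
  have h3 : (fun q => 8 * ((h • v : Lam) : GolayPt → ℤ) q) = N.mulVec v.1 := by
    funext q
    exact hh v q
  rw [h3, Matrix.mulVec_mulVec, hK, Matrix.smul_mulVec, Pi.smul_apply, smul_eq_mul] at h2
  have h4 : 8 * (8 * ((g • (h • v) : Lam) : GolayPt → ℤ) p) = 8 * K.mulVec v.1 p := by
    rw [h1, ← h2]
  exact mul_left_cancel₀ (by norm_num : (8 : ℤ) ≠ 0) h4

theorem rep8_ext {g h : ↥Co0} {M : Matrix GolayPt GolayPt ℤ} (hg : Rep8 g M) (hh : Rep8 h M) :
    g = h := by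
  apply ext_elt
  intro v
  funext p
  have := (hg v p).trans (hh v p).symm
  exact mul_left_cancel₀ (by norm_num : (8 : ℤ) ≠ 0) this

theorem mulVec_vec8 (M : Matrix GolayPt GolayPt ℤ) (i p : GolayPt) :
    M.mulVec (vec8 i) p = 8 * M p i := by
  unfold Matrix.mulVec dotProduct vec8
  rw [Finset.sum_eq_single i]
  · rw [if_pos rfl]; ring
  · intro b _ hb
    rw [if_neg hb]; ring
  · intro h; exact absurd (Finset.mem_univ i) h

theorem rep8_unique {g : ↥Co0} {M N : Matrix GolayPt GolayPt ℤ} (hg : Rep8 g M) (hh : Rep8 g N) :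
    M = N := by
  funext p i
  have h1 := hg (e8 i) p
  have h2 := hh (e8 i) p
  have e1 : ((e8 i : Lam) : GolayPt → ℤ) = vec8 i := rfl
  rw [e1, mulVec_vec8] at h1 h2
  have := h1.symm.trans h2
  exact mul_left_cancel₀ (by norm_num : (8 : ℤ) ≠ 0) this

theorem rep8_ne {g h : ↥Co0} {M N : Matrix GolayPt GolayPt ℤ} (hg : Rep8 g M) (hh : Rep8 h N)
    (hne : M ≠ N) : g ≠ h := by
  rintro rfl
  exact hne (rep8_unique hg hh)

/-- The map of the points given by a map of their indices. -/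
def pf (F : ℕ → ℕ) : GolayPt → GolayPt := fun p => pt (F (idx p))

theorem apply_of_repF {σ : Equiv.Perm GolayPt} {F : ℕ → ℕ} (h : RepF σ F) (p : GolayPt) :
    σ p = pf F p := by
  unfold pf
  rw [← h p, pt_idx]

/-- The matrix of `8` times the coordinate permutation with the given map. -/
def permM (f : GolayPt → GolayPt) : Matrix GolayPt GolayPt ℤ :=
  fun i j => if f j = i then 8 else 0

theorem rep8_perm (σ : ↥M24) (f : GolayPt → GolayPt) (hf : ∀ p, σ.1 p = f p) :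
    Rep8 (perm σ) (permM f) := by
  intro v p
  rw [perm_apply, permVec_apply]
  show 8 * v.1 (σ.1.symm p) = ∑ j, (if f j = p then (8 : ℤ) else 0) * v.1 j
  rw [Finset.sum_eq_single (σ.1.symm p)]
  · rw [if_pos (by rw [← hf, Equiv.apply_symm_apply])]
  · intro b _ hb
    rw [if_neg, zero_mul]
    intro e
    apply hb
    rw [← e, ← hf, Equiv.symm_apply_apply]
  · intro h; exact absurd (Finset.mem_univ _) h

theorem rep8_of_quad {g : ↥Co0} {B : Matrix GolayPt GolayPt ℤ}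
    (h : ∀ v : Lam, quad ((g • v : Lam) : GolayPt → ℤ) = B.mulVec v.1) :
    Rep8 g ((2 : ℤ) • B) := by
  intro v p
  rw [Matrix.smul_mulVec, Pi.smul_apply, smul_eq_mul, ← h v, quad_apply]
  ring

theorem rep8_eE : Rep8 eE ((2 : ℤ) • EB) := rep8_of_quad quad_eE

theorem rep8_eE' : Rep8 eE' ((2 : ℤ) • EB') := rep8_of_quad quad_eE'

theorem rep8_zE : Rep8 zE ((2 : ℤ) • ZB) := rep8_of_quad quad_zE

/-- An automorphism given by a matrix commutes with a coordinate permutation up to the change of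
the matrix by the permutation. -/
theorem quad_comm {g g' : ↥Co0} {B B' : Matrix GolayPt GolayPt ℤ}
    (hg : ∀ v : Lam, quad ((g • v : Lam) : GolayPt → ℤ) = B.mulVec v.1)
    (hg' : ∀ v : Lam, quad ((g' • v : Lam) : GolayPt → ℤ) = B'.mulVec v.1)
    (σ : ↥M24) (hσ : ∀ i j, B (σ.1 i) (σ.1 j) = B' i j) :
    g * perm σ = perm σ * g' := by
  apply ext_elt
  intro v
  rw [mul_smul', mul_smul']
  apply quad_injective
  rw [hg, perm_apply, perm_apply]
  have hq : quad (permVec σ.1 ((g' • v : Lam) : GolayPt → ℤ)) =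
      permVec σ.1 (quad ((g' • v : Lam) : GolayPt → ℤ)) := by
    funext i
    rw [quad_apply, permVec_apply, permVec_apply, quad_apply]
  rw [hq, hg']
  funext i
  rw [permVec_apply]
  show ∑ k, B i k * permVec σ.1 v.1 k = ∑ k, B' (σ.1.symm i) k * v.1 k
  rw [← Equiv.sum_comp σ.1]
  apply Finset.sum_congr rfl
  intro k _
  rw [permVec_apply, Equiv.symm_apply_apply]
  have := hσ (σ.1.symm i) k
  rw [Equiv.apply_symm_apply] at this
  rw [this]

/-! ### powers -/

section pow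

variable {X : ↥Co0} {M M2 M4 M5 M6 M7 : Matrix GolayPt GolayPt ℤ}

theorem rep8_pow5 (hX : Rep8 X M) (h2 : M * M = (8 : ℤ) • M2) (h4 : M2 * M2 = (8 : ℤ) • M4)
    (h5 : M4 * M = (8 : ℤ) • M5) : Rep8 (X ^ 5) M5 := by
  have e : X ^ 5 = ((X * X) * (X * X)) * X := by
    simp only [pow_succ, pow_zero, one_mul, mul_assoc]
  rw [e]
  exact rep8_mul (rep8_mul (rep8_mul hX hX M2 h2) (rep8_mul hX hX M2 h2) M4 h4) hX M5 h5

theorem rep8_pow6 (hX : Rep8 X M) (h2 : M * M = (8 : ℤ) • M2) (h4 : M2 * M2 = (8 : ℤ) • M4)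
    (h6 : M4 * M2 = (8 : ℤ) • M6) : Rep8 (X ^ 6) M6 := by
  have e : X ^ 6 = ((X * X) * (X * X)) * (X * X) := by
    simp only [pow_succ, pow_zero, one_mul, mul_assoc]
  rw [e]
  exact rep8_mul (rep8_mul (rep8_mul hX hX M2 h2) (rep8_mul hX hX M2 h2) M4 h4)
    (rep8_mul hX hX M2 h2) M6 h6

theorem rep8_pow7 (hX : Rep8 X M) (h2 : M * M = (8 : ℤ) • M2) (h4 : M2 * M2 = (8 : ℤ) • M4)
    (h6 : M4 * M2 = (8 : ℤ) • M6) (h7 : M6 * M = (8 : ℤ) • M7) : Rep8 (X ^ 7) M7 := by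
  have e : X ^ 7 = X ^ 6 * X := pow_succ X 6
  rw [e]
  exact rep8_mul (rep8_pow6 hX h2 h4 h6) hX M7 h7

end pow

theorem ne_one_of_rep8 {Y : ↥Co0} {M : Matrix GolayPt GolayPt ℤ} (h : Rep8 Y M)
    (hne : M ≠ (8 : ℤ) • (1 : Matrix GolayPt GolayPt ℤ)) : Y ≠ 1 :=
  rep8_ne h rep8_one hne

theorem eq_one_of_rep8 {Y : ↥Co0} (h : Rep8 Y ((8 : ℤ) • (1 : Matrix GolayPt GolayPt ℤ))) :
    Y = 1 :=
  rep8_ext h rep8_one

end Cfsg.Agent.Lib.Helper93_McLRep
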