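import Mathlib
import Cfsg.Agent.Lib.Helper97_OX3Defs
import Cfsg.Agent.Lib.Helper94_OrthVec

set_option autoImplicit false
set_option linter.unusedSectionVars false
set_option linter.unusedVariables false

/-!
# OEXT3 market (architect helper97), package IRR2: `double_comm` (verbatim).

`x_s = ksieg (s • p) b = 1 + n_s`, `n_s = nmap s p b`.  For `y ∈ M ∩ U_L`, `L = K p + K a`, `N = y - 1`,
the conjugates `x_s y x_s⁻¹` lie in `U_L` (abelian), and
`y₂ = (x_{c+1} y x_{c+1}⁻¹) (x_c y x_c⁻¹)⁻¹ (x_1 y x_1⁻¹)⁻¹ y` has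
`y₂ - 1 = D_{c+1} - D_c - D_1 + N`, `D_s = x_s N x_s⁻¹`: the second difference of `s ↦ D_s`.
-/

namespace Cfsg.Agent.Lib.Helper93_OX3_IRR2

open Module Cfsg.Agent.Lib.Helper94_OrthSmall Cfsg.Agent.Lib.Helper94_OrthSiegel
  Cfsg.Agent.Lib.Helper98_ExtDefs Cfsg.Agent.Lib.Helper97_OX2Defs
  Cfsg.Agent.Lib.Helper97_OX3Defs
open scoped commutatorElement

/-! ## the abelian group `U_L` (no form) -/

section PureUL

variable {F V : Type*} [Field F] [AddCommGroup V] [Module F V]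

/-- `h - 1` maps `V` into `L` and `h` fixes `L` pointwise -/
def UL (L : Submodule F V) (h : V ≃ₗ[F] V) : Prop :=
  (∀ x, h x - x ∈ L) ∧ ∀ x ∈ L, h x = x

theorem UL_mul {L : Submodule F V} {h₁ h₂ : V ≃ₗ[F] V} (H₁ : UL L h₁) (H₂ : UL L h₂) :
    UL L (h₁ * h₂) ∧ ∀ v, (h₁ * h₂) v - v = (h₁ v - v) + (h₂ v - v) := by
  have key : ∀ v, (h₁ * h₂) v - v = (h₁ v - v) + (h₂ v - v) := by
    intro v
    rw [LinearEquiv.mul_apply]
    have h1 : h₂ v = v + (h₂ v - v) := by abel
    have h2 : h₁ (h₂ v) = h₁ v + (h₂ v - v) := by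
      conv_lhs => rw [h1]
      rw [map_add, H₁.2 _ (H₂.1 v)]
    rw [h2]
    abel
  refine ⟨⟨fun v => ?_, fun v hv => ?_⟩, key⟩
  · rw [key v]
    exact L.add_mem (H₁.1 v) (H₂.1 v)
  · rw [LinearEquiv.mul_apply, H₂.2 v hv, H₁.2 v hv]

theorem UL_inv {L : Submodule F V} {h : V ≃ₗ[F] V} (H : UL L h) :
    UL L h⁻¹ ∧ ∀ v, h⁻¹ v - v = -(h v - v) := by
  have key : ∀ v, h⁻¹ v - v = -(h v - v) := by
    intro v
    have h1 : h (v - (h v - v)) = v := by
      rw [map_sub, H.2 _ (H.1 v)]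
      abel
    have h2 : h⁻¹ (h (v - (h v - v))) = v - (h v - v) := by
      rw [← LinearEquiv.mul_apply, inv_mul_cancel]
      rfl
    rw [h1] at h2
    rw [h2]
    abel
  refine ⟨⟨fun v => ?_, fun v hv => ?_⟩, key⟩
  · rw [key v]
    exact L.neg_mem (H.1 v)
  · have h1 := key v
    rw [H.2 v hv, sub_self, neg_zero, sub_eq_zero] at h1
    exact h1

/-- second difference of a biadditive expression -/
theorem second_diff (B : LinearMap.BilinForm F V) (N : V →ₗ[F] V) (P P' u₁ u₂ u₁' u₂' : V) :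
    B (N (P - (u₁ + u₂))) (P' - (u₁' + u₂')) - B (N (P - u₁)) (P' - u₁')
      - B (N (P - u₂)) (P' - u₂') + B (N P) P' = B (N u₁) u₂' + B (N u₂) u₁' := by
  simp only [map_sub, map_add, LinearMap.sub_apply, LinearMap.add_apply]
  ring

/-- second difference of an additive expression -/
theorem second_diff_lin (B : LinearMap.BilinForm F V) (N : V →ₗ[F] V) (v e₁ e₂ w : V) :
    B (N (v - (e₁ + e₂))) w - B (N (v - e₁)) w - B (N (v - e₂)) w + B (N v) w = 0 := by
  simp only [map_sub, map_add, LinearMap.sub_apply, LinearMap.add_apply]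
  ring

end PureUL

/-! ## The extension setting -/

variable {F K V : Type*} [Field F] [Field K] [Algebra F K] [AddCommGroup V] [Module F V]
  [Module K V] [IsScalarTower F K V]
variable {τ : K →ₗ[F] F} {QK : V → K} {BK : LinearMap.BilinForm K V}
variable [Finite F] [Finite K] [Module.Finite F V] [Module.Finite K V]

theorem n_add {p b : V} (s t : K) (v : V) :
    nmap F BK (s + t) p b v = nmap F BK s p b v + nmap F BK t p b v := by
  rw [nmap_apply, nmap_apply, nmap_apply, add_smul]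

theorem n_kb (C : Ctx3 τ QK BK) {p p' a b : V} (fr : Frame QK BK p p' a b) (s k : K) :
    nmap F BK s p b (k • b) = 0 := by
  rw [nmap_apply]
  have h1 : BK (k • b) p = 0 := by
    rw [map_smul, LinearMap.smul_apply, C.BK_symm, fr.hpb, smul_zero]
  have h2 : BK (k • b) b = 0 := by
    rw [map_smul, LinearMap.smul_apply, C.BK_self, fr.hb, mul_zero, smul_zero]
  rw [h1, h2, zero_smul, zero_smul, sub_zero, smul_zero]

theorem n_kp (C : Ctx3 τ QK BK) {p p' a b : V} (fr : Frame QK BK p p' a b) (s k : K) :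
    nmap F BK s p b (k • p) = 0 := by
  rw [nmap_apply]
  have h1 : BK (k • p) p = 0 := by
    rw [map_smul, LinearMap.smul_apply, C.BK_self, fr.hp, mul_zero, smul_zero]
  have h2 : BK (k • p) b = 0 := by
    rw [map_smul, LinearMap.smul_apply, fr.hpb, smul_zero]
  rw [h1, h2, zero_smul, zero_smul, sub_zero, smul_zero]

theorem n_kp' (C : Ctx3 τ QK BK) {p p' a b : V} (fr : Frame QK BK p p' a b) (s k : K) :
    nmap F BK s p b (k • p') = (s * k) • b := by
  rw [nmap_apply]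
  have h1 : BK (k • p') p = k := by
    rw [map_smul, LinearMap.smul_apply, C.BK_symm, fr.hpp', smul_eq_mul, mul_one]
  have h2 : BK (k • p') b = 0 := by
    rw [map_smul, LinearMap.smul_apply, fr.hp'b, smul_zero]
  rw [h1, h2, zero_smul, sub_zero, smul_smul]

theorem n_L (C : Ctx3 τ QK BK) {p p' a b : V} (fr : Frame QK BK p p' a b) (s : K) {z : V}
    (hz : z ∈ kln F (K := K) p a) : nmap F BK s p b z ∈ kln F (K := K) p a := by
  obtain ⟨α, β, rfl⟩ := mem_kln.mp hz
  have h1 : BK (α • p + β • a) p = 0 := by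
    rw [map_add, LinearMap.add_apply, map_smul, LinearMap.smul_apply, map_smul,
      LinearMap.smul_apply, C.BK_self, fr.hp, C.BK_symm a p, fr.hpa]
    simp
  rw [nmap_apply, h1, zero_smul, zero_sub, smul_neg, smul_smul]
  exact mem_kln.mpr ⟨-(s * BK (α • p + β • a) b), 0, by rw [zero_smul, add_zero, neg_smul]⟩

theorem n_n (C : Ctx3 τ QK BK) {p p' a b : V} (fr : Frame QK BK p p' a b) (s t : K) (v : V) :
    nmap F BK s p b (nmap F BK t p b v) = 0 := by
  have hbp : BK b p = 0 := by rw [C.BK_symm, fr.hpb]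
  have hpp : BK p p = 0 := by rw [C.BK_self, fr.hp, mul_zero]
  have hbb : BK b b = 0 := by rw [C.BK_self, fr.hb, mul_zero]
  have h1 : BK (nmap F BK t p b v) p = 0 := by
    rw [nmap_apply]
    simp only [map_smul, map_sub, LinearMap.smul_apply, LinearMap.sub_apply, smul_eq_mul, hbp, hpp]
    ring
  have h2 : BK (nmap F BK t p b v) b = 0 := by
    rw [nmap_apply]
    simp only [map_smul, map_sub, LinearMap.smul_apply, LinearMap.sub_apply, smul_eq_mul, hbb,
      fr.hpb]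
    ring
  rw [nmap_apply (F := F) BK s p b, h1, h2, zero_smul, zero_smul, sub_zero, smul_zero]

/-- `x_s = ksieg (s • p) b = 1 + n_s` -/
theorem X_apply (C : Ctx3 τ QK BK) {p p' a b : V} (fr : Frame QK BK p p' a b) (s : K) (v : V) :
    ksieg F QK BK (s • p) b v = v + nmap F BK s p b v :=
  C.ksieg_eq_nmap fr.hp fr.hb fr.hpb s v

theorem X_mem (C : Ctx3 τ QK BK) {M : Subgroup (V ≃ₗ[F] V)} (hM : HypO3 τ QK BK M)
    {p p' a b : V} (fr : Frame QK BK p p' a b) (s : K) : ksieg F QK BK (s • p) b ∈ M := by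
  apply hM.sieg_mem
  · rw [C.hQs, fr.hp, mul_zero]
  · rw [map_smul, LinearMap.smul_apply, fr.hpb, smul_zero]

/-- `x_s⁻¹ = 1 - n_s` -/
theorem X_inv (C : Ctx3 τ QK BK) {p p' a b : V} (fr : Frame QK BK p p' a b) (s : K) (v : V) :
    (ksieg F QK BK (s • p) b)⁻¹ v = v - nmap F BK s p b v := by
  have h1 : ksieg F QK BK (s • p) b (v - nmap F BK s p b v) = v := by
    rw [X_apply C fr, map_sub, n_n C fr]
    abel
  have h2 : (ksieg F QK BK (s • p) b)⁻¹ (ksieg F QK BK (s • p) b (v - nmap F BK s p b v))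
      = v - nmap F BK s p b v := by
    rw [← LinearEquiv.mul_apply, inv_mul_cancel]
    rfl
  rw [h1] at h2
  exact h2

/-- the conjugate `x_s y x_s⁻¹` lies in `U_L`, with nilpotent part `D_s = x_s N x_s⁻¹` -/
theorem conj_UL (C : Ctx3 τ QK BK) {p p' a b : V} (fr : Frame QK BK p p' a b) {y : V ≃ₗ[F] V}
    (hy : UL (kln F (K := K) p a) y) (s : K) :
    UL (kln F (K := K) p a) (ksieg F QK BK (s • p) b * y * (ksieg F QK BK (s • p) b)⁻¹) ∧
    ∀ v, (ksieg F QK BK (s • p) b * y * (ksieg F QK BK (s • p) b)⁻¹) v - v =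
      ksieg F QK BK (s • p) b (y (v - nmap F BK s p b v) - (v - nmap F BK s p b v)) := by
  have key : ∀ v, (ksieg F QK BK (s • p) b * y * (ksieg F QK BK (s • p) b)⁻¹) v - v =
      ksieg F QK BK (s • p) b (y (v - nmap F BK s p b v) - (v - nmap F BK s p b v)) := by
    intro v
    rw [LinearEquiv.mul_apply, LinearEquiv.mul_apply, X_inv C fr, map_sub
      (ksieg F QK BK (s • p) b) (y (v - nmap F BK s p b v))]
    have h1 : ksieg F QK BK (s • p) b (v - nmap F BK s p b v) = v := by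
      rw [X_apply C fr, map_sub, n_n C fr]
      abel
    rw [h1]
  have hXL : ∀ z ∈ kln F (K := K) p a, ksieg F QK BK (s • p) b z ∈ kln F (K := K) p a := by
    intro z hz
    rw [X_apply C fr]
    exact Submodule.add_mem _ hz (n_L C fr s hz)
  refine ⟨⟨fun v => ?_, fun v hv => ?_⟩, key⟩
  · rw [key v]
    exact hXL _ (hy.1 _)
  · have h1 := key v
    have h2 : v - nmap F BK s p b v ∈ kln F (K := K) p a :=
      Submodule.sub_mem _ hv (n_L C fr s hv)
    rw [hy.2 _ h2, sub_self, map_zero, sub_eq_zero] at h1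
    exact h1

/-- IRR2: the double commutator with the `K`-transvections `ksieg (s • p) b` -/
theorem double_comm (C : Ctx3 τ QK BK) (M : Subgroup (V ≃ₗ[F] V)) (hM : HypO3 τ QK BK M)
    {p p' a b : V} (fr : Frame QK BK p p' a b) {y : V ≃ₗ[F] V} (hy : y ∈ M)
    (hU : InU (trQ τ QK) (kln F (K := K) p a) y) (c : K) :
    ∃ y₂ ∈ M, InU (trQ τ QK) (kpt F (K := K) p) y₂ ∧ ∀ k k' : K,
      trB τ BK (y₂ (k • p') - k • p') (k' • p') =
        trB τ BK (y ((c * k) • b) - (c * k) • b) (k' • b) +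
        trB τ BK (y (k • b) - k • b) ((c * k') • b) := by
  have hUL : UL (kln F (K := K) p a) y := ⟨hU.2.1, hU.2.2⟩
  -- abstract the family `x_s`, the maps `n_s` and `N = y - 1`
  obtain ⟨X, hX⟩ : ∃ X : K → (V ≃ₗ[F] V), ∀ s, X s = ksieg F QK BK (s • p) b :=
    ⟨_, fun _ => rfl⟩
  obtain ⟨n, hn⟩ : ∃ n : K → V → V, ∀ s v, n s v = nmap F BK s p b v := ⟨_, fun _ _ => rfl⟩
  obtain ⟨N, hN⟩ : ∃ N : V →ₗ[F] V, ∀ v, N v = y v - v :=
    ⟨y.toLinearMap - LinearMap.id, fun _ => rfl⟩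
  have hXM : ∀ s, X s ∈ M := fun s => by rw [hX]; exact X_mem C hM fr s
  have hXB : ∀ s u v, trB τ BK (X s u) (X s v) = trB τ BK u v :=
    fun s u v => C.hypO_oG_B hM (hXM s) u v
  have hXap : ∀ s v, X s v = v + n s v := fun s v => by rw [hX, hn]; exact X_apply C fr s v
  have hnadd : ∀ s t v, n (s + t) v = n s v + n t v := fun s t v => by
    rw [hn, hn, hn]; exact n_add s t v
  have hnkb : ∀ s k, n s (k • b) = 0 := fun s k => by rw [hn]; exact n_kb C fr s k
  have hnkp' : ∀ s k, n s (k • p') = (s * k) • b := fun s k => by rw [hn]; exact n_kp' C fr s k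
  have hXsub : ∀ s w, X s (w - n s w) = w := by
    intro s w
    rw [hX, hn, X_apply C fr, map_sub, n_n C fr]
    abel
  have hconj : ∀ s, UL (kln F (K := K) p a) (X s * y * (X s)⁻¹) ∧
      ∀ v, (X s * y * (X s)⁻¹) v - v = X s (N (v - n s v)) := by
    intro s
    have h := conj_UL C fr hUL s
    rw [← hX] at h
    refine ⟨h.1, fun v => ?_⟩
    rw [h.2 v, hN, hn]
  -- `trB (x_s z) w = trB z (x_s⁻¹ w)`
  have hT1 : ∀ s z w, trB τ BK (X s z) w = trB τ BK z (w - n s w) := by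
    intro s z w
    have h := hXB s z (w - n s w)
    rw [hXsub] at h
    exact h
  -- the element `y₂`
  have h1 := UL_inv (hconj c).1
  have h2 := UL_inv (hconj 1).1
  have h3 := UL_mul (hconj (c + 1)).1 h1.1
  have h4 := UL_mul h3.1 h2.1
  have h5 := UL_mul h4.1 hUL
  have hy₂ : ∀ v, (X (c + 1) * y * (X (c + 1))⁻¹ * (X c * y * (X c)⁻¹)⁻¹ *
      (X 1 * y * (X 1)⁻¹)⁻¹ * y) v - v =
      X (c + 1) (N (v - n (c + 1) v)) - X c (N (v - n c v)) - X 1 (N (v - n 1 v)) + N v := by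
    intro v
    rw [h5.2 v, h4.2 v, h3.2 v, h1.2 v, h2.2 v, (hconj (c + 1)).2 v, (hconj c).2 v,
      (hconj 1).2 v, hN v]
    abel
  refine ⟨X (c + 1) * y * (X (c + 1))⁻¹ * (X c * y * (X c)⁻¹)⁻¹ * (X 1 * y * (X 1)⁻¹)⁻¹ * y,
    ?_, ⟨?_, ?_, ?_⟩, ?_⟩
  · -- membership
    have hY : ∀ s, X s * y * (X s)⁻¹ ∈ M := fun s =>
      M.mul_mem (M.mul_mem (hXM s) hy) (M.inv_mem (hXM s))
    exact M.mul_mem (M.mul_mem (M.mul_mem (hY _) (M.inv_mem (hY _))) (M.inv_mem (hY _))) hy
  · -- isometry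
    have hY : ∀ s, X s * y * (X s)⁻¹ ∈ M := fun s =>
      M.mul_mem (M.mul_mem (hXM s) hy) (M.inv_mem (hXM s))
    exact hM.le
      (M.mul_mem (M.mul_mem (M.mul_mem (hY _) (M.inv_mem (hY _))) (M.inv_mem (hY _))) hy)
  · -- `(y₂ - 1) V ⊆ K p`
    intro v
    obtain ⟨α, β, hαβ⟩ := mem_kln.mp (h5.1.1 v)
    have hβ : BK ((X (c + 1) * y * (X (c + 1))⁻¹ * (X c * y * (X c)⁻¹)⁻¹ *
        (X 1 * y * (X 1)⁻¹)⁻¹ * y) v - v) b = β := by
      rw [hαβ, map_add, LinearMap.add_apply, map_smul, LinearMap.smul_apply, map_smul,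
        LinearMap.smul_apply, fr.hpb, fr.hab, smul_zero, zero_add, smul_eq_mul, mul_one]
    have h0 : BK ((X (c + 1) * y * (X (c + 1))⁻¹ * (X c * y * (X c)⁻¹)⁻¹ *
        (X 1 * y * (X 1)⁻¹)⁻¹ * y) v - v) b = 0 := by
      apply C.BK_eq_zero
      intro k
      have e1 : ∀ u : V, trB τ BK (k • u) b = trB τ BK u (k • b) := by
        intro u
        rw [trB_apply, trB_apply]
        congr 1
        simp only [map_smul, LinearMap.smul_apply]
      rw [e1, hy₂ v]
      simp only [map_sub, map_add, LinearMap.sub_apply, LinearMap.add_apply, hT1, hnkb, hnadd,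
        sub_zero]
      ring
    rw [hβ] at h0
    rw [hαβ, h0, zero_smul, add_zero]
    exact mem_kpt.mpr ⟨α, rfl⟩
  · -- `y₂` fixes `K p` pointwise
    intro x hx
    obtain ⟨k, rfl⟩ := mem_kpt.mp hx
    exact h5.1.2 _ (mem_kln.mpr ⟨k, 0, by rw [zero_smul, add_zero]⟩)
  · -- the formula
    intro k k'
    rw [hy₂ (k • p'), ← hN ((c * k) • b), ← hN (k • b)]
    simp only [map_sub, map_add, LinearMap.sub_apply, LinearMap.add_apply, hT1, hnkp']
    have e1 : ((c + 1) * k) • b = (c * k) • b + k • b := by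
      rw [add_mul, one_mul, add_smul]
    have e2 : ((c + 1) * k') • b = (c * k') • b + k' • b := by
      rw [add_mul, one_mul, add_smul]
    have := second_diff (trB τ BK) N (k • p') (k' • p') ((c * k) • b) (k • b) ((c * k') • b)
      (k' • b)
    rw [e1, e2, one_mul, one_mul]
    simp only [map_sub, map_add, LinearMap.sub_apply, LinearMap.add_apply] at this ⊢
    linear_combination this

end Cfsg.Agent.Lib.Helper93_OX3_IRR2
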