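import Mathlib
import Cfsg.Agent.Lib.Helper26_M24Act
import Cfsg.Agent.Lib.Helper8_GolayEven

/-!
A factor set of Parker type on the length-24 code: a map `theta` from words to words with
`⟨theta d, d⟩ = |d|/4` on code words and `theta (d + e) = theta d + theta e + d * e` modulo the
code, for code words `d`, `e`.
-/

set_option autoImplicit false
open Cfsg
open Cfsg.Agent.Lib.Helper7_M24 Cfsg.Agent.Lib.Helper26_Golay

namespace Cfsg.Agent.Lib.Helper93_Parker

/-- The standard inner product of two words. -/
def dot (u v : GolayPt → ZMod 2) : ZMod 2 := ∑ p, u p * v p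

theorem dot_comm (u v : GolayPt → ZMod 2) : dot u v = dot v u := by
  simp only [dot, mul_comm]

theorem dot_add_left (u u' v : GolayPt → ZMod 2) : dot (u + u') v = dot u v + dot u' v := by
  simp only [dot, Pi.add_apply, add_mul, Finset.sum_add_distrib]

theorem dot_add_right (u v v' : GolayPt → ZMod 2) : dot u (v + v') = dot u v + dot u v' := by
  simp only [dot, Pi.add_apply, mul_add, Finset.sum_add_distrib]

theorem dot_zero_left (v : GolayPt → ZMod 2) : dot 0 v = 0 := by simp [dot]

theorem dot_zero_right (v : GolayPt → ZMod 2) : dot v 0 = 0 := by simp [dot]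

theorem dot_code {u v : GolayPt → ZMod 2} (hu : u ∈ golayCode) (hv : v ∈ golayCode) :
    dot u v = 0 :=
  Cfsg.Agent.Lib.Helper8_GolayEven.golay_orth u v hu hv

theorem dot_permWord (σ : Equiv.Perm GolayPt) (u v : GolayPt → ZMod 2) :
    dot (permWord σ u) (permWord σ v) = dot u v := by
  unfold dot
  simp only [permWord_apply]
  exact Equiv.sum_comp σ.symm (fun p => u p * v p)

theorem permWord_mul_word (σ : Equiv.Perm GolayPt) (u v : GolayPt → ZMod 2) :
    permWord σ (u * v) = permWord σ u * permWord σ v := rfl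

theorem add_self_word (u : GolayPt → ZMod 2) : u + u = 0 := by
  funext p
  exact CharTwo.add_self_eq_zero (u p)

theorem zmod2_add_self (a : ZMod 2) : a + a = 0 := CharTwo.add_self_eq_zero a

theorem mul_self_word (u : GolayPt → ZMod 2) : u * u = u := by
  funext p
  have : ∀ a : ZMod 2, a * a = a := by decide
  exact this (u p)

/-- inner product of words given by bitmasks -/
theorem dot_wordOf (a b : ℕ) (ha : a < 2 ^ 24) (hb : b < 2 ^ 24) :
    dot (wordOf a) (wordOf b) = ((pop (a &&& b) : ℕ) : ZMod 2) := by
  unfold dot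
  rw [Cfsg.Agent.Lib.Helper8_GolayEven.ip_eq_card_inter, support₂_wordOf, support₂_wordOf,
    card_inter_eq_pop, enc_dec a ha, enc_dec b hb]

theorem wordOf_and (a b : ℕ) : wordOf (a &&& b) = wordOf a * wordOf b := by
  funext p
  simp only [wordOf_apply, Pi.mul_apply, Nat.testBit_and]
  cases a.testBit (idx p) <;> cases b.testBit (idx p) <;> decide

/-! ### The data -/

/-- the linear parts, packed 24 bits each -/
def tauPacked : ℕ := 766247770432944429179178584182391208149549253216174336

def tauMask (i : ℕ) : ℕ := (tauPacked >>> (24 * i)) &&& 0xFFFFFF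

theorem tauMask_lt (i : ℕ) : tauMask i < 2 ^ 24 := by
  unfold tauMask
  exact lt_of_le_of_lt Nat.and_le_right (by norm_num)

/-- the basis words -/
def bw (i : ℕ) : GolayPt → ZMod 2 := wordOf (basisMask i)

def tw (i : ℕ) : GolayPt → ZMod 2 := wordOf (tauMask i)

def linW (d : GolayPt → ZMod 2) : GolayPt → ZMod 2 := ∑ i ∈ Finset.range 12, d (pt i) • tw i

def LLW (d e : GolayPt → ZMod 2) : GolayPt → ZMod 2 :=
  ∑ i ∈ Finset.range 12, ∑ j ∈ Finset.range 12,
    if i < j then (d (pt i) * e (pt j)) • (bw i * bw j) else 0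

/-- the factor set, as a word-valued map -/
def theta (d : GolayPt → ZMod 2) : GolayPt → ZMod 2 := linW d + LLW d d

theorem linW_add (d e : GolayPt → ZMod 2) : linW (d + e) = linW d + linW e := by
  simp only [linW, Pi.add_apply, add_smul, Finset.sum_add_distrib]

theorem LLW_add_left (d d' e : GolayPt → ZMod 2) : LLW (d + d') e = LLW d e + LLW d' e := by
  simp only [LLW, Pi.add_apply, add_mul, add_smul]
  rw [← Finset.sum_add_distrib]
  apply Finset.sum_congr rfl
  intro i _
  rw [← Finset.sum_add_distrib]
  apply Finset.sum_congr rfl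
  intro j _
  split_ifs
  · rfl
  · rw [add_zero]

theorem LLW_add_right (d e e' : GolayPt → ZMod 2) : LLW d (e + e') = LLW d e + LLW d e' := by
  simp only [LLW, Pi.add_apply, mul_add, add_smul]
  rw [← Finset.sum_add_distrib]
  apply Finset.sum_congr rfl
  intro i _
  rw [← Finset.sum_add_distrib]
  apply Finset.sum_congr rfl
  intro j _
  split_ifs
  · rfl
  · rw [add_zero]

theorem theta_add (d e : GolayPt → ZMod 2) :
    theta (d + e) = theta d + theta e + (LLW d e + LLW e d) := by
  unfold theta
  rw [linW_add, LLW_add_left, LLW_add_right, LLW_add_right]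
  abel

theorem bw_mem (i : ℕ) (hi : i < 12) : bw i ∈ golayCode := wordOf_basisMask_mem i hi

theorem code_expand {d : GolayPt → ZMod 2} (hd : d ∈ golayCode) :
    d = ∑ i ∈ Finset.range 12, d (pt i) • bw i := by
  have h : reenc d = d := golayCode_le_eqLocus hd
  rw [reenc_apply] at h
  exact h.symm

theorem mul_expand {d e : GolayPt → ZMod 2} (hd : d ∈ golayCode) (he : e ∈ golayCode) :
    d * e = LLW d e + LLW e d + ∑ i ∈ Finset.range 12, (d (pt i) * e (pt i)) • bw i := by
  have key : ∀ i j : ℕ, (d (pt i) * e (pt j)) • (bw i * bw j) =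
      (if i < j then (d (pt i) * e (pt j)) • (bw i * bw j) else 0) +
      (if j < i then (e (pt j) * d (pt i)) • (bw j * bw i) else 0) +
      (if i = j then (d (pt i) * e (pt i)) • bw i else 0) := by
    intro i j
    rcases lt_trichotomy i j with h | h | h
    · have h1 : ¬ j < i := by omega
      have h2 : ¬ i = j := by omega
      rw [if_pos h, if_neg h1, if_neg h2, add_zero, add_zero]
    · subst h
      simp only [lt_irrefl, if_false, if_true, zero_add, mul_self_word]
    · have h1 : ¬ i < j := by omega
      have h2 : ¬ i = j := by omega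
      rw [if_neg h1, if_pos h, if_neg h2, zero_add, add_zero, mul_comm (e (pt j)),
        mul_comm (bw j)]
  conv_lhs => rw [code_expand hd, code_expand he]
  rw [Finset.sum_mul_sum]
  have step : ∀ i ∈ Finset.range 12, ∀ j ∈ Finset.range 12,
      (d (pt i) • bw i) * (e (pt j) • bw j) =
      (if i < j then (d (pt i) * e (pt j)) • (bw i * bw j) else 0) +
      (if j < i then (e (pt j) * d (pt i)) • (bw j * bw i) else 0) +
      (if i = j then (d (pt i) * e (pt i)) • bw i else 0) := by
    intro i _ j _
    rw [smul_mul_smul_comm]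
    exact key i j
  rw [Finset.sum_congr rfl (fun i hi => Finset.sum_congr rfl (fun j hj => step i hi j hj))]
  simp only [Finset.sum_add_distrib]
  have h1 : (∑ i ∈ Finset.range 12, ∑ j ∈ Finset.range 12,
      if i < j then (d (pt i) * e (pt j)) • (bw i * bw j) else 0) = LLW d e := by
    unfold LLW
    rfl
  have h2 : (∑ i ∈ Finset.range 12, ∑ j ∈ Finset.range 12,
      if j < i then (e (pt j) * d (pt i)) • (bw j * bw i) else 0) = LLW e d := by
    unfold LLW
    rw [Finset.sum_comm]
  have h3 : (∑ i ∈ Finset.range 12, ∑ j ∈ Finset.range 12,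
      if i = j then (d (pt i) * e (pt i)) • bw i else 0) =
      ∑ i ∈ Finset.range 12, (d (pt i) * e (pt i)) • bw i := by
    apply Finset.sum_congr rfl
    intro i hi
    rw [Finset.sum_ite_eq, if_pos hi]
  rw [h1, h2, h3]

/-- `theta` is additive up to the product of the two words, modulo the code. -/
theorem theta_add_code {d e : GolayPt → ZMod 2} (hd : d ∈ golayCode) (he : e ∈ golayCode) :
    ∃ s ∈ golayCode, theta (d + e) = theta d + theta e + d * e + s := by
  refine ⟨∑ i ∈ Finset.range 12, (d (pt i) * e (pt i)) • bw i, ?_, ?_⟩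
  · apply Submodule.sum_mem
    intro i hi
    exact Submodule.smul_mem _ _ (bw_mem i (Finset.mem_range.mp hi))
  · rw [theta_add, mul_expand hd he]
    have := add_self_word (∑ i ∈ Finset.range 12, (d (pt i) * e (pt i)) • bw i)
    rw [add_assoc (theta d + theta e), add_assoc (LLW d e + LLW e d), this, add_zero]

theorem dot_theta_add {d e f : GolayPt → ZMod 2} (hd : d ∈ golayCode) (he : e ∈ golayCode)
    (hf : f ∈ golayCode) :
    dot (theta (d + e)) f = dot (theta d) f + dot (theta e) f + dot (d * e) f := by
  obtain ⟨s, hs, h⟩ := theta_add_code hd he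
  rw [h, dot_add_left, dot_add_left, dot_add_left, dot_code hs hf, add_zero]

/-! ### The factor set on bitmasks -/

/-- the factor set on bitmasks -/
def thetaMask (n : ℕ) : ℕ :=
  xorFold (fun i => ((n >>> i) &&& 1) * tauMask i) 12 ^^^
  xorFold (fun i => xorFold (fun j =>
    if i < j then ((n >>> i) &&& 1) * (((n >>> j) &&& 1) * (basisMask i &&& basisMask j))
    else 0) 12) 12

theorem bit_mul_lt (n k g : ℕ) (hg : g < 2 ^ 24) : ((n >>> k) &&& 1) * g < 2 ^ 24 := by
  rw [bit_mul]
  split_ifs
  · exact hg
  · positivity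

theorem thetaMask_lt (n : ℕ) : thetaMask n < 2 ^ 24 := by
  unfold thetaMask
  apply Nat.xor_lt_two_pow
  · apply xorFold_lt
    intro i _
    exact bit_mul_lt n i _ (tauMask_lt i)
  · apply xorFold_lt
    intro i _
    apply xorFold_lt
    intro j _
    split_ifs
    · apply bit_mul_lt
      apply bit_mul_lt
      exact lt_of_le_of_lt Nat.and_le_right (basisMask_lt j)
    · positivity

theorem linW_wordOf (n : ℕ) :
    linW (wordOf n) = wordOf (xorFold (fun i => ((n >>> i) &&& 1) * tauMask i) 12) := by
  unfold linW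
  rw [wordOf_xorFold]
  apply Finset.sum_congr rfl
  intro i hi
  have hi' : i < 12 := Finset.mem_range.mp hi
  rw [wordOf_bit_mul, wordOf_pt n i (by omega)]
  split_ifs
  · rw [one_smul]; rfl
  · rw [zero_smul]

theorem LLW_wordOf (n : ℕ) :
    LLW (wordOf n) (wordOf n) = wordOf (xorFold (fun i => xorFold (fun j =>
      if i < j then ((n >>> i) &&& 1) * (((n >>> j) &&& 1) * (basisMask i &&& basisMask j))
      else 0) 12) 12) := by
  unfold LLW
  rw [wordOf_xorFold]
  apply Finset.sum_congr rfl
  intro i hi
  have hi' : i < 12 := Finset.mem_range.mp hi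
  rw [wordOf_xorFold]
  apply Finset.sum_congr rfl
  intro j hj
  have hj' : j < 12 := Finset.mem_range.mp hj
  by_cases hij : i < j
  · rw [if_pos hij, if_pos hij, wordOf_bit_mul, wordOf_bit_mul, wordOf_and,
      wordOf_pt n i (by omega), wordOf_pt n j (by omega)]
    unfold bw
    split_ifs
    · rw [one_mul, one_smul]
    · rw [mul_zero, zero_smul]
    · rw [zero_mul, zero_smul]
    · rw [zero_mul, zero_smul]
  · rw [if_neg hij, if_neg hij, wordOf_zero]

theorem theta_wordOf (n : ℕ) : theta (wordOf n) = wordOf (thetaMask n) := by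
  unfold thetaMask theta
  rw [wordOf_xor, linW_wordOf, LLW_wordOf]

set_option maxRecDepth 100000 in
theorem diag_check : ∀ m ∈ List.range 4096,
    (pop (thetaMask (codeAt m) &&& codeAt m) + pop (codeAt m) / 4) % 2 = 0 := by
  decide +kernel

/-- the quarter of the weight, modulo 2 -/
def Pw (d : GolayPt → ZMod 2) : ZMod 2 := (((support₂ d).card / 4 : ℕ) : ZMod 2)

theorem Pw_permWord (σ : Equiv.Perm GolayPt) (d : GolayPt → ZMod 2) :
    Pw (permWord σ d) = Pw d := by
  unfold Pw
  rw [support₂_permWord, Finset.card_smul_finset]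

/-- the diagonal of the factor set is the quarter of the weight -/
theorem dot_theta_self {d : GolayPt → ZMod 2} (hd : d ∈ golayCode) : dot (theta d) d = Pw d := by
  have hn : isCode (enc (support₂ d)) = true := (mem_golayCode_iff d).mp hd
  have hd' : d = wordOf (enc (support₂ d)) := (wordOf_enc_support₂ d).symm
  generalize enc (support₂ d) = n at hn hd'
  have hmem : n ∈ codeList := (mem_codeList_iff n).mpr hn
  unfold codeList at hmem
  rw [List.mem_map] at hmem
  obtain ⟨m, hm, hmn⟩ := hmem
  have hchk := diag_check m hm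
  rw [hmn] at hchk
  have hlt : n < 2 ^ 24 := lt_of_isCode hn
  rw [hd', theta_wordOf, dot_wordOf _ _ (thetaMask_lt n) hlt]
  unfold Pw
  rw [support₂_wordOf, card_eq_pop, enc_dec n hlt]
  have h0 : ((pop (thetaMask n &&& n) + pop n / 4 : ℕ) : ZMod 2) = 0 := by
    rw [ZMod.natCast_eq_zero_iff]
    exact Nat.dvd_of_mod_eq_zero hchk
  rw [Nat.cast_add] at h0
  exact CharTwo.add_eq_zero.mp h0

end Cfsg.Agent.Lib.Helper93_Parker
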