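import Mathlib

/-!
Every alternating biadditive form on a finite-dimensional space over the field with two elements
is the polarisation of a quadratic function.
-/

set_option autoImplicit false

namespace Cfsg.Agent.Lib.Helper93_QuadRefine

theorem exists_quad_refinement {V : Type*} [AddCommGroup V] [Module (ZMod 2) V]
    [Module.Finite (ZMod 2) V] (η : V → V → ZMod 2)
    (hl : ∀ u v w, η (u + v) w = η u w + η v w) (hr : ∀ u v w, η u (v + w) = η u v + η u w)
    (ha : ∀ v, η v v = 0) :
    ∃ q : V → ZMod 2, ∀ u v, q (u + v) = q u + q v + η u v := by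
  classical
  have h0l : ∀ w, η 0 w = 0 := by
    intro w
    have := hl 0 0 w
    rw [add_zero] at this
    have h2 : η 0 w + η 0 w = η 0 w + 0 := by rw [add_zero]; exact this.symm
    exact add_left_cancel h2
  have h0r : ∀ w, η w 0 = 0 := by
    intro w
    have := hr w 0 0
    rw [add_zero] at this
    have h2 : η w 0 + η w 0 = η w 0 + 0 := by rw [add_zero]; exact this.symm
    exact add_left_cancel h2
  have hc : ∀ c : ZMod 2, c = 0 ∨ c = 1 := by decide
  let B : LinearMap.BilinForm (ZMod 2) V := LinearMap.mk₂ (ZMod 2) η hl
    (by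
      intro c m n
      rcases hc c with rfl | rfl
      · rw [zero_smul, zero_smul, h0l]
      · rw [one_smul, one_smul])
    hr
    (by
      intro c m n
      rcases hc c with rfl | rfl
      · rw [zero_smul, zero_smul, h0r]
      · rw [one_smul, one_smul])
  have hB : ∀ u v, B u v = η u v := fun u v => rfl
  have hsymm : ∀ u v, η u v = η v u := by
    intro u v
    have h1 := ha (u + v)
    rw [hl, hr, hr, ha, ha, zero_add, add_zero] at h1
    exact CharTwo.add_eq_zero.mp h1
  let b := Module.finBasis (ZMod 2) V
  let M : Matrix (Fin (Module.finrank (ZMod 2) V)) (Fin (Module.finrank (ZMod 2) V)) (ZMod 2) :=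
    fun i j => if i < j then η (b i) (b j) else 0
  let B' : LinearMap.BilinForm (ZMod 2) V := Matrix.toBilin b M
  have hB' : ∀ i j, B' (b i) (b j) = M i j := by
    intro i j
    rw [← LinearMap.BilinForm.toMatrix_apply b B' i j, LinearMap.BilinForm.toMatrix_toBilin]
  have hsum : B' + B'.flip = B := by
    apply LinearMap.BilinForm.ext_basis b
    intro i j
    have hf : B'.flip (b i) (b j) = B' (b j) (b i) := rfl
    rw [LinearMap.add_apply, LinearMap.add_apply, hf, hB', hB', hB]
    show (if i < j then η (b i) (b j) else 0) + (if j < i then η (b j) (b i) else 0) = _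
    rcases lt_trichotomy i j with h | h | h
    · rw [if_pos h, if_neg (not_lt.mpr h.le), add_zero]
    · subst h
      rw [if_neg (lt_irrefl i), add_zero, ha]
    · rw [if_neg (not_lt.mpr h.le), if_pos h, zero_add, hsymm]
  refine ⟨fun v => B' v v, ?_⟩
  intro u v
  show B' (u + v) (u + v) = B' u u + B' v v + η u v
  have h1 : η u v = B' u v + B' v u := by
    rw [← hB, ← hsum, LinearMap.add_apply, LinearMap.add_apply]
    rfl
  rw [h1]
  simp only [map_add, LinearMap.add_apply]
  ring

end Cfsg.Agent.Lib.Helper93_QuadRefine
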