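import Mathlib
import Cfsg.Prelude.Def_Spor_Mathieu
import Cfsg.Agent.Lib.Helper93_ParkerTheta
import Cfsg.Agent.Lib.Helper93_QuadRefine

/-!
The extension of `M23` by the dual of the code words vanishing at the extra point, built from the
factor set `theta`: pairs `(q, π)` with `q` a quadratic refinement of the form `eta π`.
-/

set_option autoImplicit false
open Cfsg
open Cfsg.Agent.Lib.Helper7_M24 Cfsg.Agent.Lib.Helper26_Golay

namespace Cfsg.Agent.Lib.Helper93_Parker

/-- The change of the factor set under a permutation. -/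
def etaW (σ : Equiv.Perm GolayPt) (d e : GolayPt → ZMod 2) : ZMod 2 :=
  dot (theta (permWord σ d)) (permWord σ e) + dot (theta d) e

theorem etaW_one (d e : GolayPt → ZMod 2) : etaW 1 d e = 0 := by
  unfold etaW
  rw [permWord_one, permWord_one]
  exact zmod2_add_self _

theorem etaW_mul (σ ρ : Equiv.Perm GolayPt) (d e : GolayPt → ZMod 2) :
    etaW (σ * ρ) d e = etaW ρ d e + etaW σ (permWord ρ d) (permWord ρ e) := by
  unfold etaW
  rw [permWord_mul, permWord_mul]
  have := zmod2_add_self (dot (theta (permWord ρ d)) (permWord ρ e))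
  linear_combination (-1 : ZMod 2) * this

theorem etaW_add_right (σ : Equiv.Perm GolayPt) (d e e' : GolayPt → ZMod 2) :
    etaW σ d (e + e') = etaW σ d e + etaW σ d e' := by
  unfold etaW
  rw [map_add, dot_add_right, dot_add_right]
  ring

theorem etaW_add_left {σ : Equiv.Perm GolayPt} (hσ : σ ∈ M24) {d d' e : GolayPt → ZMod 2}
    (hd : d ∈ golayCode) (hd' : d' ∈ golayCode) (he : e ∈ golayCode) :
    etaW σ (d + d') e = etaW σ d e + etaW σ d' e := by
  unfold etaW
  rw [map_add, dot_theta_add (permWord_mem_of_mem_M24 hσ hd) (permWord_mem_of_mem_M24 hσ hd')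
    (permWord_mem_of_mem_M24 hσ he), dot_theta_add hd hd' he, ← permWord_mul_word, dot_permWord]
  have := zmod2_add_self (dot (d * d') e)
  linear_combination this

theorem etaW_self {σ : Equiv.Perm GolayPt} (hσ : σ ∈ M24) {d : GolayPt → ZMod 2}
    (hd : d ∈ golayCode) : etaW σ d d = 0 := by
  unfold etaW
  rw [dot_theta_self (permWord_mem_of_mem_M24 hσ hd), dot_theta_self hd, Pw_permWord]
  exact zmod2_add_self _

/-! ### The code words vanishing at the extra point -/

/-- The code words vanishing at the extra point. -/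
def C1 : Submodule (ZMod 2) (GolayPt → ZMod 2) :=
  golayCode ⊓ LinearMap.ker (LinearMap.proj (none : GolayPt))

theorem mem_C1 {d : GolayPt → ZMod 2} : d ∈ C1 ↔ d ∈ golayCode ∧ d none = 0 := by
  unfold C1
  rw [Submodule.mem_inf, LinearMap.mem_ker, LinearMap.proj_apply]

theorem mem_M24_of_M23 (π : ↥Spor.M23) : (π : Equiv.Perm GolayPt) ∈ M24 :=
  (Subgroup.mem_inf.mp π.2).1

theorem M23_apply_none (π : ↥Spor.M23) : (π : Equiv.Perm GolayPt) none = none := by
  have := (Subgroup.mem_inf.mp π.2).2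
  rw [MulAction.mem_stabilizer_iff] at this
  exact this

theorem M23_symm_none (π : ↥Spor.M23) : (π : Equiv.Perm GolayPt).symm none = none := by
  rw [Equiv.symm_apply_eq]
  exact (M23_apply_none π).symm

/-- The action of `M23` on the code words vanishing at the extra point. -/
def act (π : ↥Spor.M23) (d : ↥C1) : ↥C1 :=
  ⟨permWord (π : Equiv.Perm GolayPt) d.1, by
    have hd := mem_C1.mp d.2
    refine mem_C1.mpr ⟨permWord_mem_of_mem_M24 (mem_M24_of_M23 π) hd.1, ?_⟩
    rw [permWord_apply, M23_symm_none]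
    exact hd.2⟩

theorem act_val (π : ↥Spor.M23) (d : ↥C1) :
    (act π d : GolayPt → ZMod 2) = permWord (π : Equiv.Perm GolayPt) d.1 := rfl

theorem act_one (d : ↥C1) : act 1 d = d := by
  apply Subtype.ext
  rw [act_val]
  exact permWord_one _

theorem act_mul (π ρ : ↥Spor.M23) (d : ↥C1) : act (π * ρ) d = act π (act ρ d) := by
  apply Subtype.ext
  rw [act_val, act_val, act_val]
  exact permWord_mul _ _ _

theorem act_add (π : ↥Spor.M23) (d e : ↥C1) : act π (d + e) = act π d + act π e := by
  apply Subtype.ext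
  show permWord (π : Equiv.Perm GolayPt) (d.1 + e.1) = _
  rw [map_add]
  rfl

theorem act_inv_act (π : ↥Spor.M23) (d : ↥C1) : act π⁻¹ (act π d) = d := by
  rw [← act_mul, inv_mul_cancel, act_one]

theorem act_act_inv (π : ↥Spor.M23) (d : ↥C1) : act π (act π⁻¹ d) = d := by
  rw [← act_mul, mul_inv_cancel, act_one]

/-- The form attached to an element of `M23`. -/
def eta (π : ↥Spor.M23) (d e : ↥C1) : ZMod 2 := etaW (π : Equiv.Perm GolayPt) d.1 e.1

theorem eta_one (d e : ↥C1) : eta 1 d e = 0 := etaW_one _ _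

theorem eta_mul (π ρ : ↥Spor.M23) (d e : ↥C1) :
    eta (π * ρ) d e = eta ρ d e + eta π (act ρ d) (act ρ e) := etaW_mul _ _ _ _

theorem eta_add_right (π : ↥Spor.M23) (d e e' : ↥C1) :
    eta π d (e + e') = eta π d e + eta π d e' := etaW_add_right _ _ _ _

theorem eta_add_left (π : ↥Spor.M23) (d d' e : ↥C1) :
    eta π (d + d') e = eta π d e + eta π d' e :=
  etaW_add_left (mem_M24_of_M23 π) (mem_C1.mp d.2).1 (mem_C1.mp d'.2).1 (mem_C1.mp e.2).1

theorem eta_self (π : ↥Spor.M23) (d : ↥C1) : eta π d d = 0 :=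
  etaW_self (mem_M24_of_M23 π) (mem_C1.mp d.2).1

theorem eta_inv (π : ↥Spor.M23) (d e : ↥C1) :
    eta π (act π⁻¹ d) (act π⁻¹ e) = eta π⁻¹ d e := by
  have h := eta_mul π π⁻¹ d e
  rw [mul_inv_cancel, eta_one] at h
  exact (CharTwo.add_eq_zero.mp h.symm).symm

/-! ### The group -/

/-- The elements of the extension. -/
@[ext] structure Elt where
  q : ↥C1 → ZMod 2
  p : ↥Spor.M23
  h : ∀ d e : ↥C1, q (d + e) = q d + q e + eta p d e

instance : Mul Elt := ⟨fun a b => ⟨fun d => b.q d + a.q (act b.p d), a.p * b.p, by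
  intro d e
  rw [b.h, act_add, a.h, eta_mul]
  ring⟩⟩

instance : One Elt := ⟨⟨fun _ => 0, 1, by
  intro d e
  rw [eta_one, add_zero, add_zero]⟩⟩

instance : Inv Elt := ⟨fun a => ⟨fun d => a.q (act a.p⁻¹ d), a.p⁻¹, by
  intro d e
  rw [act_add, a.h, eta_inv]⟩⟩

theorem mul_q (a b : Elt) (d : ↥C1) : (a * b).q d = b.q d + a.q (act b.p d) := rfl
theorem mul_p (a b : Elt) : (a * b).p = a.p * b.p := rfl
theorem one_q (d : ↥C1) : (1 : Elt).q d = 0 := rfl
theorem one_p : (1 : Elt).p = 1 := rfl
theorem inv_q (a : Elt) (d : ↥C1) : a⁻¹.q d = a.q (act a.p⁻¹ d) := rfl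
theorem inv_p (a : Elt) : a⁻¹.p = a.p⁻¹ := rfl

theorem Elt.ext' {a b : Elt} (hq : ∀ d, a.q d = b.q d) (hp : a.p = b.p) : a = b :=
  Elt.ext (funext hq) hp

instance : Group Elt where
  mul_assoc a b c := by
    apply Elt.ext'
    · intro d
      rw [mul_q, mul_q, mul_q, mul_q, mul_p, act_mul, add_assoc]
    · rw [mul_p, mul_p, mul_p, mul_p, mul_assoc]
  one_mul a := by
    apply Elt.ext'
    · intro d
      rw [mul_q, one_q, add_zero]
    · rw [mul_p, one_p, one_mul]
  mul_one a := by
    apply Elt.ext'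
    · intro d
      rw [mul_q, one_q, zero_add, one_p, act_one]
    · rw [mul_p, one_p, mul_one]
  inv_mul_cancel a := by
    apply Elt.ext'
    · intro d
      rw [mul_q, inv_q, act_inv_act, one_q]
      exact zmod2_add_self _
    · rw [mul_p, inv_p, inv_mul_cancel, one_p]

instance : Finite Elt := by
  have : Function.Injective (fun a : Elt => (a.q, a.p)) := by
    intro a b hab
    rw [Prod.mk.injEq] at hab
    exact Elt.ext hab.1 hab.2
  exact Finite.of_injective _ this

/-- The projection onto `M23`. -/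
def proj : Elt →* ↥Spor.M23 where
  toFun := Elt.p
  map_one' := rfl
  map_mul' _ _ := rfl

theorem proj_apply (a : Elt) : proj a = a.p := rfl

theorem proj_surjective : Function.Surjective proj := by
  intro π
  obtain ⟨q, hq⟩ := Cfsg.Agent.Lib.Helper93_QuadRefine.exists_quad_refinement (eta π)
    (eta_add_left π) (eta_add_right π) (eta_self π)
  exact ⟨⟨q, π, hq⟩, rfl⟩

end Cfsg.Agent.Lib.Helper93_Parker
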