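import Mathlib
import Cfsg.Agent.Lib.Helper93_ParkerExt

/-!
The kernel of the extension: the words act as functionals on the code words vanishing at the
extra point; the map is onto, and its kernel is the code together with its translate by the unit
vector at the extra point.
-/

set_option autoImplicit false
open Cfsg
open Cfsg.Agent.Lib.Helper7_M24 Cfsg.Agent.Lib.Helper26_Golay

namespace Cfsg.Agent.Lib.Helper93_Parker

/-- The element of the kernel attached to a word. -/
def linElt (w : GolayPt → ZMod 2) : Elt :=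
  ⟨fun d => dot w d.1, 1, by
    intro d e
    rw [eta_one, add_zero]
    exact dot_add_right _ _ _⟩

theorem linElt_q (w : GolayPt → ZMod 2) (d : ↥C1) : (linElt w).q d = dot w d.1 := rfl
theorem linElt_p (w : GolayPt → ZMod 2) : (linElt w).p = 1 := rfl

theorem linElt_add (w w' : GolayPt → ZMod 2) : linElt (w + w') = linElt w * linElt w' := by
  apply Elt.ext'
  · intro d
    rw [mul_q, linElt_q, linElt_q, linElt_p, act_one, linElt_q, dot_add_left, add_comm]
  · rw [mul_p, linElt_p, linElt_p, linElt_p, mul_one]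

theorem linElt_mem_ker (w : GolayPt → ZMod 2) : linElt w ∈ proj.ker := by
  rw [MonoidHom.mem_ker]
  rfl

theorem linElt_add_ker (w w' : GolayPt → ZMod 2) :
    (⟨linElt (w + w'), linElt_mem_ker (w + w')⟩ : ↥proj.ker) =
      ⟨linElt w, linElt_mem_ker w⟩ * ⟨linElt w', linElt_mem_ker w'⟩ := by
  apply Subtype.ext
  exact linElt_add w w'

/-- The map from words to the kernel. -/
def Theta : (GolayPt → ZMod 2) →+ Additive ↥proj.ker :=
  AddMonoidHom.mk' (fun w => Additive.ofMul ⟨linElt w, linElt_mem_ker w⟩) (fun w w' =>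
    congrArg Additive.ofMul (linElt_add_ker w w'))

theorem Theta_apply (w : GolayPt → ZMod 2) :
    ((Theta w).toMul : Elt) = linElt w := rfl

/-- Every additive function on the code words vanishing at the extra point is the inner product
with a word. -/
theorem exists_word_of_additive (f : ↥C1 → ZMod 2) (hf : ∀ d e, f (d + e) = f d + f e) :
    ∃ w : GolayPt → ZMod 2, ∀ d : ↥C1, dot w d.1 = f d := by
  have h0 : f 0 = 0 := by
    have := hf 0 0
    rw [add_zero] at this
    have h2 : f 0 + f 0 = f 0 + 0 := by rw [add_zero]; exact this.symm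
    exact add_left_cancel h2
  have hc : ∀ c : ZMod 2, c = 0 ∨ c = 1 := by decide
  let F : ↥C1 →ₗ[ZMod 2] ZMod 2 :=
    { toFun := f
      map_add' := hf
      map_smul' := by
        intro c d
        rcases hc c with rfl | rfl
        · simp [h0]
        · simp }
  obtain ⟨g, hg⟩ := LinearMap.exists_extend F
  refine ⟨fun p => g (fun j => if p = j then 1 else 0), ?_⟩
  intro d
  have h1 : g d.1 = f d := by
    have := LinearMap.congr_fun hg d
    exact this
  rw [← h1, LinearMap.pi_apply_eq_sum_univ g d.1]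
  unfold dot
  apply Finset.sum_congr rfl
  intro p _
  rw [smul_eq_mul, mul_comm]

theorem Theta_surjective : Function.Surjective Theta := by
  have key : ∀ (a : Elt) (ha : a ∈ proj.ker),
      ∃ w, Theta w = Additive.ofMul (⟨a, ha⟩ : ↥proj.ker) := by
    intro a ha
    have hp : a.p = 1 := MonoidHom.mem_ker.mp ha
    have hadd : ∀ d e, a.q (d + e) = a.q d + a.q e := by
      intro d e
      rw [a.h, hp, eta_one, add_zero]
    obtain ⟨w, hw⟩ := exists_word_of_additive a.q hadd
    refine ⟨w, ?_⟩
    have h1 : linElt w = a := Elt.ext' (fun d => hw d) hp.symm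
    have h2 : (⟨linElt w, linElt_mem_ker w⟩ : ↥proj.ker) = ⟨a, ha⟩ := Subtype.ext h1
    exact congrArg Additive.ofMul h2
  intro n
  obtain ⟨w, hw⟩ := key (Additive.toMul n).1 (Additive.toMul n).2
  exact ⟨w, hw⟩

theorem Theta_eq_zero_iff (w : GolayPt → ZMod 2) :
    Theta w = 0 ↔ ∀ d : ↥C1, dot w d.1 = 0 := by
  constructor
  · intro h d
    have h1 : ((Theta w).toMul : Elt) = 1 := by rw [h]; rfl
    rw [Theta_apply] at h1
    rw [← linElt_q, h1, one_q]
  · intro h
    have h1 : linElt w = 1 := Elt.ext' (fun d => h d) rfl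
    have h2 : (⟨linElt w, linElt_mem_ker w⟩ : ↥proj.ker) = 1 := Subtype.ext h1
    exact congrArg Additive.ofMul h2

/-! ### The kernel of `Theta` -/

/-- code words with a single nonzero coordinate among the positions `12, …, 23`, packed -/
def gamPacked : ℕ :=
  248756156429229880086003834038450292976644127430141182300861190516141820408007927796895

def gamMask (k : ℕ) : ℕ := (gamPacked >>> (24 * k)) &&& 0xFFFFFF

theorem gamMask_lt (k : ℕ) : gamMask k < 2 ^ 24 := by
  unfold gamMask
  exact lt_of_le_of_lt Nat.and_le_right (by norm_num)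

theorem gam_ok : ∀ k ∈ List.range 11,
    isCode (gamMask k) = true ∧ (gamMask k).testBit 23 = false := by
  decide +kernel

theorem gam_mem_C1 (k : ℕ) (hk : k < 11) : wordOf (gamMask k) ∈ C1 := by
  have h := gam_ok k (List.mem_range.mpr hk)
  rw [mem_C1]
  refine ⟨(wordOf_mem_golayCode_iff _ (gamMask_lt k)).mpr h.1, ?_⟩
  rw [wordOf_apply]
  show (if (gamMask k).testBit 23 = true then (1 : ZMod 2) else 0) = 0
  rw [h.2]
  rfl

set_option maxRecDepth 100000 in
theorem synd_check : ∀ t ∈ List.range 4096,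
    allFold (fun k => pop ((t * 4096) &&& gamMask k) % 2 == 0) 11 = true → t = 0 ∨ t = 2048 := by
  decide +kernel

theorem wordOf_two_pow_23 : wordOf (2 ^ 23) = (Pi.single none 1 : GolayPt → ZMod 2) := by
  have : ∀ p : GolayPt, wordOf (2 ^ 23) p = (Pi.single none 1 : GolayPt → ZMod 2) p := by
    decide +kernel
  exact funext this

theorem dot_single_none (d : GolayPt → ZMod 2) :
    dot (Pi.single none 1) d = d none := by
  unfold dot
  rw [Finset.sum_eq_single (none : GolayPt)]
  · rw [Pi.single_eq_same, one_mul]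
  · intro b _ hb
    rw [Pi.single_eq_of_ne hb, zero_mul]
  · intro h
    exact absurd (Finset.mem_univ _) h

theorem ker_char (w : GolayPt → ZMod 2) :
    (∀ d : ↥C1, dot w d.1 = 0) ↔ (w ∈ golayCode ∨ w + Pi.single none 1 ∈ golayCode) := by
  constructor
  · intro h
    have hw : w = wordOf (enc (support₂ w)) := (wordOf_enc_support₂ w).symm
    have hn : enc (support₂ w) < 2 ^ 24 := enc_lt _
    generalize enc (support₂ w) = n at hw hn
    subst hw
    have hm'lt : n &&& 4095 < 4096 := lt_of_le_of_lt Nat.and_le_right (by norm_num)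
    have hcC : isCode (encodeMsg (n &&& 4095)) = true := isCode_encodeMsg _
    have hclt : encodeMsg (n &&& 4095) < 2 ^ 24 := encodeMsg_lt _
    have hclow : encodeMsg (n &&& 4095) &&& 4095 = n &&& 4095 := by
      rw [← codeAt_eq _ (List.mem_range.mpr hm'lt)]
      exact codeAt_low _ (List.mem_range.mpr hm'lt)
    generalize encodeMsg (n &&& 4095) = c at hcC hclt hclow
    have hmlow : (n ^^^ c) &&& 4095 = 0 := by
      rw [Nat.and_xor_distrib_right, hclow, Nat.xor_self]
    have hmlt : n ^^^ c < 2 ^ 24 := Nat.xor_lt_two_pow hn hclt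
    have hcmem : wordOf c ∈ golayCode := (wordOf_mem_golayCode_iff _ hclt).mpr hcC
    obtain ⟨t, ht, hmt⟩ : ∃ t, t < 4096 ∧ n ^^^ c = t * 4096 := by
      refine ⟨(n ^^^ c) / 4096, ?_, ?_⟩
      · omega
      · have h1 : (n ^^^ c) % 4096 = 0 := by
          have := Nat.and_two_pow_sub_one_eq_mod (n ^^^ c) 12
          norm_num at this
          rw [← this]
          exact hmlow
        omega
    have horth : ∀ k < 11, pop ((n ^^^ c) &&& gamMask k) % 2 = 0 := by
      intro k hk
      have h1 := h ⟨wordOf (gamMask k), gam_mem_C1 k hk⟩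
      have h2 : dot (wordOf c) (wordOf (gamMask k)) = 0 :=
        dot_code hcmem (mem_C1.mp (gam_mem_C1 k hk)).1
      have h3 : dot (wordOf (n ^^^ c)) (wordOf (gamMask k)) = 0 := by
        rw [wordOf_xor, dot_add_left, h1, h2, add_zero]
      rw [dot_wordOf _ _ hmlt (gamMask_lt k), ZMod.natCast_eq_zero_iff] at h3
      exact Nat.mod_eq_zero_of_dvd h3
    have hchk : allFold (fun k => pop ((t * 4096) &&& gamMask k) % 2 == 0) 11 = true := by
      rw [allFold_eq_true]
      intro k hk
      rw [beq_iff_eq, ← hmt]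
      exact horth k hk
    have hxor : ∀ s : ℕ, n ^^^ c = s → n ^^^ s = c := by
      intro s hs
      rw [← hs, ← Nat.xor_assoc, Nat.xor_self, Nat.zero_xor]
    rcases synd_check t (List.mem_range.mpr ht) hchk with rfl | rfl
    · left
      have h0 : n ^^^ c = 0 := by rw [hmt]
      have : n = c := Nat.xor_eq_zero_iff.mp h0
      rw [this]
      exact hcmem
    · right
      have h0 : n ^^^ c = 2 ^ 23 := by rw [hmt]; norm_num
      rw [← wordOf_two_pow_23, ← wordOf_xor, hxor _ h0]
      exact hcmem
  · rintro (h | h) d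
    · exact dot_code h (mem_C1.mp d.2).1
    · have h1 := dot_code h (mem_C1.mp d.2).1
      rw [dot_add_left, dot_single_none, (mem_C1.mp d.2).2, add_zero] at h1
      exact h1

theorem Theta_ker (w : GolayPt → ZMod 2) :
    Theta w = 0 ↔ (w ∈ golayCode ∨ w + Pi.single none 1 ∈ golayCode) := by
  rw [Theta_eq_zero_iff, ker_char]

/-! ### Conjugation on the kernel -/

theorem dot_comp_inv (π : Equiv.Perm GolayPt) (w d : GolayPt → ZMod 2) :
    dot (w ∘ ⇑π⁻¹) d = dot w (permWord π⁻¹ d) := by
  unfold dot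
  rw [← Equiv.sum_comp π (fun p => (w ∘ ⇑π⁻¹) p * d p)]
  apply Finset.sum_congr rfl
  intro p _
  show w (π⁻¹ (π p)) * d (π p) = w p * d (π⁻¹.symm p)
  have h1 : π⁻¹ (π p) = p := by simp
  have h2 : π⁻¹.symm p = π p := rfl
  rw [h1, h2]

theorem conj_linElt (g : Elt) (w : GolayPt → ZMod 2) :
    linElt (w ∘ ⇑((g.p : Equiv.Perm GolayPt)⁻¹)) = g * linElt w * g⁻¹ := by
  apply Elt.ext'
  · intro d
    rw [mul_q, mul_q, inv_q, inv_p, linElt_p, act_one, linElt_q, linElt_q, dot_comp_inv]
    have h1 : ((act g.p⁻¹ d : ↥C1) : GolayPt → ZMod 2) =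
        permWord ((g.p : Equiv.Perm GolayPt)⁻¹) d.1 := rfl
    rw [h1]
    have := zmod2_add_self (g.q (act g.p⁻¹ d))
    linear_combination (-1 : ZMod 2) * this
  · rw [mul_p, mul_p, inv_p, linElt_p, linElt_p, mul_one, mul_inv_cancel]

/-- The isomorphism of the quotient with `M23`. -/
noncomputable def phi : Elt ⧸ proj.ker ≃* ↥Spor.M23 :=
  QuotientGroup.quotientKerEquivOfSurjective proj proj_surjective

theorem phi_mk (g : Elt) : phi (QuotientGroup.mk g) = g.p := rfl

theorem Theta_conj (g : Elt) (w : GolayPt → ZMod 2) :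
    ((Theta (w ∘ ⇑(((phi (QuotientGroup.mk g) : ↥Spor.M23) : Equiv.Perm GolayPt)⁻¹))).toMul : Elt)
      = g * ((Theta w).toMul : Elt) * g⁻¹ := by
  rw [phi_mk, Theta_apply, Theta_apply]
  exact conj_linElt g w

end Cfsg.Agent.Lib.Helper93_Parker
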