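import Mathlib
import Cfsg.Agent.Lib.Helper26_M24Orbit
import Cfsg.Agent.Lib.Helper93_ParkerKer

/-!
The extension does not split: a quaternion subgroup of `M23` does not lift.
-/

set_option autoImplicit false
open Cfsg
open scoped Pointwise
open Cfsg.Agent.Lib.Helper7_M24 Cfsg.Agent.Lib.Helper26_Golay

namespace Cfsg.Agent.Lib.Helper93_Parker

/-! ### The factor set on bitmasks -/

/-- the form `etaW` on bitmasks -/
def etaMask (T a b : ℕ) : ℕ :=
  pop (thetaMask (permMask T a) &&& permMask T b) + pop (thetaMask a &&& b)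

theorem etaW_wordOf {σ : Equiv.Perm GolayPt} {T : ℕ} (h : Represents σ T) (a b : ℕ)
    (ha : a < 2 ^ 24) (hb : b < 2 ^ 24) :
    etaW σ (wordOf a) (wordOf b) = ((etaMask T a b : ℕ) : ZMod 2) := by
  unfold etaW etaMask
  rw [permWord_wordOf h a ha, permWord_wordOf h b hb, theta_wordOf, theta_wordOf,
    dot_wordOf _ _ (thetaMask_lt _) (permMask_lt_of_represents h b hb),
    dot_wordOf _ _ (thetaMask_lt _) hb, Nat.cast_add]

/-! ### Two elements of `M23` generating a quaternion group -/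

def Tx : ℕ := 959373570058871638742093899094152615
def Ty : ℕ := 962408825771951681495393400265147460

theorem Tx_ok : tblInM24 Tx = true := by decide +kernel
theorem Ty_ok : tblInM24 Ty = true := by decide +kernel

theorem T_fix : img Tx 23 = 23 ∧ img Ty 23 = 23 := by decide +kernel

theorem T_rel : ∀ i ∈ List.range 24, img Ty (img Ty i) = img Tx (img Tx i) ∧
    img Tx (img Ty (img Tx i)) = img Ty i := by decide +kernel

theorem mem_M23_of_represents {σ : Equiv.Perm GolayPt} {T : ℕ} (hσ : σ ∈ M24)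
    (h : Represents σ T) (hT : img T 23 = 23) : σ ∈ Spor.M23 := by
  refine Subgroup.mem_inf.mpr ⟨hσ, ?_⟩
  rw [MulAction.mem_stabilizer_iff]
  apply idx_injective
  show idx (σ none) = 23
  rw [h none]
  exact hT

/-- the certificate words -/
def m1 : ℕ := 115766
def m2 : ℕ := 3227948

theorem m_ok : isCode m1 = true ∧ m1.testBit 23 = false ∧ isCode m2 = true ∧
    m2.testBit 23 = false := by decide +kernel

theorem m_sums : m1 ^^^ permMask Tx m1 = m2 ^^^ permMask Ty (permMask Tx m2) ∧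
    m1 ^^^ permMask Ty m1 = permMask Tx m2 ^^^ m2 := by decide +kernel

theorem m_cert : (etaMask Tx m1 (permMask Tx m1) + etaMask Tx m2 (permMask Ty (permMask Tx m2)) +
    etaMask Ty m1 (permMask Ty m1) + etaMask Ty (permMask Tx m2) m2) % 2 = 1 := by
  decide +kernel

theorem wordOf_mem_C1 {n : ℕ} (h1 : isCode n = true) (h2 : n.testBit 23 = false) :
    wordOf n ∈ C1 := by
  rw [mem_C1]
  refine ⟨(wordOf_mem_golayCode_iff _ (lt_of_isCode h1)).mpr h1, ?_⟩
  rw [wordOf_apply]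
  show (if n.testBit 23 = true then (1 : ZMod 2) else 0) = 0
  rw [h2]
  rfl

theorem zmod2_combo (s s' xa1 xb1 xa2 xb2 yc1 ye1 yc2 ye2 n1 n2 n3 n4 : ZMod 2)
    (H1 : s = xa1 + xb1 + n1) (H2 : s = xa2 + xb2 + n2) (H3 : s' = yc1 + ye1 + n3)
    (H4 : s' = yc2 + ye2 + n4) (E1 : yc1 + ye1 = xa1 + xb1) (E2 : xa2 + (yc2 + xb2) = ye2) :
    n1 + n2 + n3 + n4 = 0 := by
  have h2 : (2 : ZMod 2) = 0 := by decide
  linear_combination (-1 : ZMod 2) * H1 - H2 - H3 - H4 - E1 - E2 +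
    (s + s' - xa1 - xb1 - ye2) * h2

/-- The extension does not split. -/
theorem no_complement (H : Subgroup Elt) (h1 : H ⊓ proj.ker = ⊥) (h2 : H ⊔ proj.ker = ⊤) :
    False := by
  -- lifting
  have lift : ∀ π : ↥Spor.M23, ∃ h ∈ H, h.p = π := by
    intro π
    obtain ⟨g, hg⟩ := proj_surjective π
    have hg' : g ∈ ((H ⊔ proj.ker : Subgroup Elt) : Set Elt) := by
      rw [h2]; exact Set.mem_univ _
    rw [Subgroup.mul_normal, Set.mem_mul] at hg'
    obtain ⟨h, hh, n, hn, hhn⟩ := hg'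
    refine ⟨h, hh, ?_⟩
    have hn' : n.p = 1 := MonoidHom.mem_ker.mp hn
    rw [← hg, ← hhn, proj_apply, mul_p, hn', mul_one]
  have uniq : ∀ a ∈ H, ∀ b ∈ H, a.p = b.p → a = b := by
    intro a ha b hb hab
    have h3 : a⁻¹ * b ∈ H ⊓ proj.ker := by
      refine Subgroup.mem_inf.mpr ⟨H.mul_mem (H.inv_mem ha) hb, ?_⟩
      rw [MonoidHom.mem_ker, proj_apply, mul_p, inv_p, hab, inv_mul_cancel]
    rw [h1, Subgroup.mem_bot] at h3
    exact inv_mul_eq_one.mp h3
  -- the two permutations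
  obtain ⟨σx, hσx, hTx⟩ := exists_of_tblInM24 Tx_ok
  obtain ⟨σy, hσy, hTy⟩ := exists_of_tblInM24 Ty_ok
  have hrel1 : σy * σy = σx * σx := by
    apply Equiv.ext
    intro p
    apply idx_injective
    rw [Equiv.Perm.mul_apply, Equiv.Perm.mul_apply, hTy, hTy, hTx, hTx]
    exact (T_rel _ (List.mem_range.mpr (idx_lt p))).1
  have hrel2 : σx * σy * σx = σy := by
    apply Equiv.ext
    intro p
    apply idx_injective
    rw [Equiv.Perm.mul_apply, Equiv.Perm.mul_apply, hTx, hTy, hTx, hTy]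
    exact (T_rel _ (List.mem_range.mpr (idx_lt p))).2
  let X : ↥Spor.M23 := ⟨σx, mem_M23_of_represents hσx hTx T_fix.1⟩
  let Y : ↥Spor.M23 := ⟨σy, mem_M23_of_represents hσy hTy T_fix.2⟩
  have hXY1 : Y * Y = X * X := Subtype.ext hrel1
  have hXY2 : X * Y * X = Y := Subtype.ext hrel2
  obtain ⟨hx, hxH, hxp⟩ := lift X
  obtain ⟨hy, hyH, hyp⟩ := lift Y
  have e1 : hy * hy = hx * hx := by
    apply uniq _ (H.mul_mem hyH hyH) _ (H.mul_mem hxH hxH)
    rw [mul_p, mul_p, hxp, hyp, hXY1]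
  have e2 : hx * hy * hx = hy := by
    apply uniq _ (H.mul_mem (H.mul_mem hxH hyH) hxH) _ hyH
    rw [mul_p, mul_p, hxp, hyp, hXY2]
  -- the words
  have hm := m_ok
  have hm1lt : m1 < 2 ^ 24 := lt_of_isCode hm.1
  have hm2lt : m2 < 2 ^ 24 := lt_of_isCode hm.2.2.1
  let d1 : ↥C1 := ⟨wordOf m1, wordOf_mem_C1 hm.1 hm.2.1⟩
  let d2 : ↥C1 := ⟨wordOf m2, wordOf_mem_C1 hm.2.2.1 hm.2.2.2⟩
  have hXd1 : (act X d1 : GolayPt → ZMod 2) = wordOf (permMask Tx m1) :=
    permWord_wordOf hTx m1 hm1lt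
  have hYd1 : (act Y d1 : GolayPt → ZMod 2) = wordOf (permMask Ty m1) :=
    permWord_wordOf hTy m1 hm1lt
  have hXd2 : (act X d2 : GolayPt → ZMod 2) = wordOf (permMask Tx m2) :=
    permWord_wordOf hTx m2 hm2lt
  have hXm2lt : permMask Tx m2 < 2 ^ 24 := permMask_lt_of_represents hTx m2 hm2lt
  have hYXd2 : (act Y (act X d2) : GolayPt → ZMod 2) = wordOf (permMask Ty (permMask Tx m2)) := by
    rw [act_val, hXd2]
    exact permWord_wordOf hTy _ hXm2lt
  have hS1 : d1 + act X d1 = d2 + act Y (act X d2) := by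
    apply Subtype.ext
    show wordOf m1 + (act X d1 : GolayPt → ZMod 2) =
      wordOf m2 + (act Y (act X d2) : GolayPt → ZMod 2)
    rw [hXd1, hYXd2, ← wordOf_xor, ← wordOf_xor, m_sums.1]
  have hS2 : d1 + act Y d1 = act X d2 + d2 := by
    apply Subtype.ext
    show wordOf m1 + (act Y d1 : GolayPt → ZMod 2) =
      (act X d2 : GolayPt → ZMod 2) + wordOf m2
    rw [hYd1, hXd2, ← wordOf_xor, ← wordOf_xor, m_sums.2]
  -- the values of the forms
  have n1 : eta X d1 (act X d1) = ((etaMask Tx m1 (permMask Tx m1) : ℕ) : ZMod 2) := by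
    show etaW σx (wordOf m1) (act X d1 : GolayPt → ZMod 2) = _
    rw [hXd1]
    exact etaW_wordOf hTx _ _ hm1lt (permMask_lt_of_represents hTx m1 hm1lt)
  have n2 : eta X d2 (act Y (act X d2)) =
      ((etaMask Tx m2 (permMask Ty (permMask Tx m2)) : ℕ) : ZMod 2) := by
    show etaW σx (wordOf m2) (act Y (act X d2) : GolayPt → ZMod 2) = _
    rw [hYXd2]
    exact etaW_wordOf hTx _ _ hm2lt (permMask_lt_of_represents hTy _ hXm2lt)
  have n3 : eta Y d1 (act Y d1) = ((etaMask Ty m1 (permMask Ty m1) : ℕ) : ZMod 2) := by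
    show etaW σy (wordOf m1) (act Y d1 : GolayPt → ZMod 2) = _
    rw [hYd1]
    exact etaW_wordOf hTy _ _ hm1lt (permMask_lt_of_represents hTy m1 hm1lt)
  have n4 : eta Y (act X d2) d2 = ((etaMask Ty (permMask Tx m2) m2 : ℕ) : ZMod 2) := by
    show etaW σy (act X d2 : GolayPt → ZMod 2) (wordOf m2) = _
    rw [hXd2]
    exact etaW_wordOf hTy _ _ hXm2lt hm2lt
  -- the equations
  have H1 := hx.h d1 (act X d1)
  have H2 := hx.h d2 (act Y (act X d2))
  have H3 := hy.h d1 (act Y d1)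
  have H4 := hy.h (act X d2) d2
  rw [hxp] at H1 H2
  rw [hyp] at H3 H4
  rw [← hS1] at H2
  rw [← hS2] at H4
  have E1 : hy.q d1 + hy.q (act Y d1) = hx.q d1 + hx.q (act X d1) := by
    have := congrArg (fun a : Elt => a.q d1) e1
    simp only [mul_q, hxp, hyp] at this
    exact this
  have E2 : hx.q d2 + (hy.q (act X d2) + hx.q (act Y (act X d2))) = hy.q d2 := by
    have := congrArg (fun a : Elt => a.q d2) e2
    simp only [mul_q, hxp, hyp] at this
    exact this
  have hzero := zmod2_combo _ _ _ _ _ _ _ _ _ _ _ _ _ _ H1 H2 H3 H4 E1 E2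
  rw [n1, n2, n3, n4, ← Nat.cast_add, ← Nat.cast_add, ← Nat.cast_add,
    ZMod.natCast_eq_zero_iff] at hzero
  have := m_cert
  omega

end Cfsg.Agent.Lib.Helper93_Parker
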