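import Mathlib
import Cfsg.Agent.S0364
import Cfsg.Agent.S0366
import Cfsg.Agent.Lib.Helper93_M24Sym2
import Cfsg.Agent.Lib.Helper93_M24Count4
import Cfsg.Agent.Lib.Helper26_OctRes

/-!
General counting lemmas for subgroups of `M24`: orders of pointwise stabilisers of at most five
points, a bound for the order of a subgroup stabilising a set of points, and the order of the
stabiliser of an octad and a point of it.
-/

set_option autoImplicit false
open Cfsg
open scoped Pointwise
open Cfsg.Agent.Lib.Helper26_Golay Cfsg.Agent.Lib.Helper93_M24Obj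

namespace Cfsg.Agent.Lib.Helper93_S1609b

/-- The elements of `M24` fixing every point of `E`. -/
def PFix (E : Finset GolayPt) : Set (Equiv.Perm GolayPt) := {g | g ∈ M24 ∧ ∀ p ∈ E, g p = p}

theorem PFix_anti {E E' : Finset GolayPt} (h : E ⊆ E') : PFix E' ⊆ PFix E :=
  fun _ hg => ⟨hg.1, fun p hp => hg.2 p (h hp)⟩

theorem card_golayPt : Nat.card GolayPt = 24 := by
  rw [Nat.card_eq_fintype_card]; rfl

/-- The order of the pointwise stabiliser of at most five points. -/
theorem ncard_Fix (E : Finset GolayPt) (n : ℕ) (hn : E.card = n) (h5 : n ≤ 5) :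
    (PFix E).ncard * Nat.descFactorial 24 n = 244823040 := by
  have h5' := Cfsg.Agent.S0366.result
  have hk : MulAction.IsMultiplyPretransitive M24 GolayPt n :=
    MulAction.isMultiplyPretransitive_of_le (n := 5) h5 (by rw [card_golayPt]; norm_num)
  have h := hk.index_of_fixingSubgroup_mul (s := (E : Set GolayPt))
    (by rw [Set.ncard_coe_finset, hn])
  rw [card_golayPt] at h
  have h2 : (24 - n).factorial * Nat.descFactorial 24 n = (24 : ℕ).factorial :=
    Nat.factorial_mul_descFactorial (by omega)
  have hidx : (fixingSubgroup M24 (E : Set GolayPt)).index = Nat.descFactorial 24 n := by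
    have hpos : 0 < (24 - n).factorial := Nat.factorial_pos _
    apply Nat.eq_of_mul_eq_mul_right hpos
    rw [h, ← h2, mul_comm]
  have hcard : Nat.card (fixingSubgroup M24 (E : Set GolayPt)) = (PFix E).ncard := by
    have : PFix E = (fun g : ↥M24 => (g : Equiv.Perm GolayPt)) ''
        (fixingSubgroup M24 (E : Set GolayPt) : Set ↥M24) := by
      ext g
      simp only [PFix, Set.mem_ofPred_eq, Set.mem_image, SetLike.mem_coe, mem_fixingSubgroup_iff]
      constructor
      · rintro ⟨hg, hfix⟩
        exact ⟨⟨g, hg⟩, fun p hp => hfix p (Finset.mem_coe.mp hp), rfl⟩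
      · rintro ⟨x, hx, rfl⟩
        exact ⟨x.2, fun p hp => hx p (Finset.mem_coe.mpr hp)⟩
    rw [this, Set.ncard_image_of_injective _ Subtype.val_injective]
    rfl
  rw [← hcard, ← hidx, Subgroup.card_mul_index]
  exact Cfsg.Agent.S0364.result

theorem ncard_Fix3 (E : Finset GolayPt) (hn : E.card = 3) : (PFix E).ncard = 20160 := by
  have h := ncard_Fix E 3 hn (by norm_num)
  have : Nat.descFactorial 24 3 = 12144 := by decide
  rw [this] at h
  omega

theorem ncard_Fix4 (E : Finset GolayPt) (hn : E.card = 4) : (PFix E).ncard = 960 := by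
  have h := ncard_Fix E 4 hn (by norm_num)
  have : Nat.descFactorial 24 4 = 255024 := by decide
  rw [this] at h
  omega

theorem ncard_Fix5 (E : Finset GolayPt) (hn : E.card = 5) : (PFix E).ncard = 48 := by
  have h := ncard_Fix E 5 hn (by norm_num)
  have : Nat.descFactorial 24 5 = 5100480 := by decide
  rw [this] at h
  omega

theorem ncard_Fix1 (E : Finset GolayPt) (hn : E.card = 1) : (PFix E).ncard = 10200960 := by
  have h := ncard_Fix E 1 hn (by norm_num)
  have : Nat.descFactorial 24 1 = 24 := by decide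
  rw [this] at h
  omega

theorem PFix_finite (E : Finset GolayPt) : (PFix E).Finite := Set.toFinite _

/-- At least five points: the pointwise stabiliser has at most 48 elements. -/
theorem ncard_Fix_le48 (E : Finset GolayPt) (hn : 5 ≤ E.card) : (PFix E).ncard ≤ 48 := by
  obtain ⟨E', hE', hc⟩ := Finset.exists_subset_card_eq hn
  rw [← ncard_Fix5 E' hc]
  exact Set.ncard_le_ncard (PFix_anti hE') (PFix_finite _)

/-- A subgroup of the symmetric group stabilising a set `E` of points has order at most `|E|!`
times the number of its elements fixing `E` pointwise. -/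
theorem card_le_of_stab (K : Subgroup (Equiv.Perm GolayPt)) (E : Finset GolayPt)
    (hK : ∀ k ∈ K, k • E = E) (N : ℕ)
    (hN : {g : Equiv.Perm GolayPt | g ∈ K ∧ ∀ p ∈ E, g p = p}.ncard ≤ N) :
    Nat.card K ≤ E.card.factorial * N := by
  have hpres : ∀ h : ↥K, ∀ p, (h : Equiv.Perm GolayPt) p ∈ E ↔ p ∈ E :=
    fun h p => apply_mem_iff_of_smul_eq (hK h.1 h.2) p
  let φ : ↥K →* Equiv.Perm {p // p ∈ E} := MonoidHom.mk'
    (fun h => (h : Equiv.Perm GolayPt).subtypePerm (hpres h)) (by
      intro a b
      apply Equiv.ext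
      intro p
      apply Subtype.ext
      rfl)
  have hφ : ∀ (h : ↥K) (p : {p // p ∈ E}), ((φ h) p).1 = (h : Equiv.Perm GolayPt) p.1 :=
    fun _ _ => rfl
  have h1 := Subgroup.card_mul_index φ.ker
  rw [Subgroup.index_ker] at h1
  have hr : Nat.card φ.range ≤ E.card.factorial := by
    have := Subgroup.card_le_card_group φ.range
    rwa [Nat.card_eq_fintype_card (α := Equiv.Perm {p // p ∈ E}), Fintype.card_perm,
      Fintype.card_coe] at this
  have hk : Nat.card φ.ker ≤ N := by
    refine le_trans ?_ hN
    have himg : (fun h : ↥K => (h : Equiv.Perm GolayPt)) '' (φ.ker : Set ↥K) ⊆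
        {g : Equiv.Perm GolayPt | g ∈ K ∧ ∀ p ∈ E, g p = p} := by
      rintro _ ⟨h, hh, rfl⟩
      refine ⟨h.2, fun p hp => ?_⟩
      have e1 := MonoidHom.mem_ker.mp hh
      have e2 := congrArg (fun τ : Equiv.Perm {p // p ∈ E} => (τ ⟨p, hp⟩).1) e1
      exact e2
    have hcard : Nat.card φ.ker =
        ((fun h : ↥K => (h : Equiv.Perm GolayPt)) '' (φ.ker : Set ↥K)).ncard := by
      rw [Set.ncard_image_of_injective _ Subtype.val_injective]
      rfl
    rw [hcard]
    exact Set.ncard_le_ncard himg (Set.toFinite _)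
  calc Nat.card K = Nat.card φ.ker * Nat.card φ.range := h1.symm
    _ ≤ N * E.card.factorial := Nat.mul_le_mul hk hr
    _ = E.card.factorial * N := mul_comm _ _

/-- The stabiliser of an octad is transitive on it. -/
theorem exists_setStab_map {o : Finset GolayPt} (ho : o ∈ octads) {p q : GolayPt} (hp : p ∈ o)
    (hq : q ∈ o) : ∃ g ∈ setStab o, g p = q := by
  by_cases hpq : p = q
  · exact ⟨1, Subgroup.one_mem _, by rw [hpq]; rfl⟩
  · -- a third point
    have hc : 2 < o.card := by rw [ho.2]; norm_num
    obtain ⟨r, hr, hrp, hrq⟩ : ∃ r ∈ o, r ≠ p ∧ r ≠ q := by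
      by_contra hcon
      push Not at hcon
      have hsub : o ⊆ {p, q} := by
        intro r hr
        by_cases h1 : r = p
        · rw [h1]; exact Finset.mem_insert_self _ _
        · rw [hcon r hr h1]
          exact Finset.mem_insert_of_mem (Finset.mem_singleton_self _)
      have := Finset.card_le_card hsub
      have h2 : ({p, q} : Finset GolayPt).card ≤ 2 := Finset.card_le_two
      omega
    let P : ↥o := ⟨p, hp⟩
    let Q : ↥o := ⟨q, hq⟩
    let R : ↥o := ⟨r, hr⟩
    have hPQ : P ≠ Q := fun h => hpq (congrArg Subtype.val h)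
    have hRP : R ≠ P := fun h => hrp (congrArg Subtype.val h)
    have hRQ : R ≠ Q := fun h => hrq (congrArg Subtype.val h)
    let σ : Equiv.Perm ↥o := Equiv.swap Q R * Equiv.swap P Q
    have hσ : σ ∈ alternatingGroup ↥o := by
      rw [Equiv.Perm.mem_alternatingGroup, Equiv.Perm.sign_mul, Equiv.Perm.sign_swap hRQ.symm,
        Equiv.Perm.sign_swap hPQ]
      rfl
    have hσP : σ P = R := by
      show Equiv.swap Q R (Equiv.swap P Q P) = R
      rw [Equiv.swap_apply_left, Equiv.swap_apply_left]
    rw [← range_resHom ho] at hσ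
    obtain ⟨g, hg⟩ := hσ
    -- `g` maps `p` to `r`; we want `q`: use instead the 3-cycle the other way
    let τ : Equiv.Perm ↥o := Equiv.swap R Q * Equiv.swap P R
    have hτ : τ ∈ alternatingGroup ↥o := by
      rw [Equiv.Perm.mem_alternatingGroup, Equiv.Perm.sign_mul, Equiv.Perm.sign_swap hRQ,
        Equiv.Perm.sign_swap hRP.symm]
      rfl
    have hτP : τ P = Q := by
      show Equiv.swap R Q (Equiv.swap P R P) = Q
      rw [Equiv.swap_apply_left, Equiv.swap_apply_left]
    rw [← range_resHom ho] at hτ
    obtain ⟨g', hg'⟩ := hτ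
    refine ⟨g'.1, g'.2, ?_⟩
    have := congrArg (fun ρ : Equiv.Perm ↥o => (ρ P).1) hg'
    simp only [resHom_apply] at this
    rw [this, hτP]

/-- The order of the stabiliser of an octad and a point of it. -/
theorem ncard_stab_oct_pt {o : Finset GolayPt} (ho : o ∈ octads) {x : GolayPt} (hx : x ∈ o) :
    {g : Equiv.Perm GolayPt | g ∈ M24 ∧ g x = x ∧ g • o = o}.ncard = 40320 := by
  have h := card_eq_orbit_mul_stab (setStab o) x o ?_ ?_
  · rw [card_setStab ho, ho.2] at h
    have e : {g : Equiv.Perm GolayPt | g ∈ M24 ∧ g x = x ∧ g • o = o} =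
        {n : Equiv.Perm GolayPt | n ∈ setStab o ∧ n x = x} := by
      ext g
      simp only [Set.mem_ofPred_eq, mem_setStab_iff]
      tauto
    rw [e]
    omega
  · intro h hh
    have h8 := ((mem_setStab_iff o h).mp hh).2
    exact (apply_mem_iff_of_smul_eq h8 x).mpr hx
  · intro q hq
    exact exists_setStab_map ho hx hq

end Cfsg.Agent.Lib.Helper93_S1609b
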