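import Mathlib
import Cfsg.Agent.Lib.Helper93_S1609b
import Cfsg.Agent.Lib.Helper93_M24Fix

/-!
General tools for subgroups of `M24` acting on the 24 points: fixed points modulo a prime on an
invariant set of points, the number of fixed points of elements of orders 5, 7 and 11, orbits and
point stabilisers.
-/

set_option autoImplicit false
open Cfsg
open scoped Pointwise
open Cfsg.Agent.Lib.Helper26_Golay Cfsg.Agent.Lib.Helper93_M24Obj
open Cfsg.Agent.Lib.Helper93_S1609b

namespace Cfsg.Agent.Lib.Helper93_S1589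

/-- Fixed points modulo `p` on an invariant set of points. -/
theorem sieve {p : ℕ} [hp : Fact p.Prime] {g : Equiv.Perm GolayPt} (hg : g ^ p = 1)
    (X : Finset GolayPt) (hX : ∀ x, g x ∈ X ↔ x ∈ X) :
    (X.filter (fun x => g x = x)).card ≡ X.card [MOD p] := by
  let σ : Equiv.Perm {x // x ∈ X} := g.subtypePerm hX
  have hσ : σ ^ p ^ 1 = 1 := by
    rw [pow_one]
    show (g.subtypePerm hX) ^ p = 1
    rw [Equiv.Perm.subtypePerm_pow]
    apply Equiv.ext
    intro x
    apply Subtype.ext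
    rw [Equiv.Perm.subtypePerm_apply]
    simp [hg]
  have h := Equiv.Perm.card_compl_support_modEq hσ
  rw [Fintype.card_coe] at h
  have e : σ.supportᶜ.card = (X.filter (fun x => g x = x)).card := by
    apply Finset.card_bij (fun x _ => x.1)
    · intro x hx
      rw [Finset.mem_compl, Equiv.Perm.mem_support, not_not] at hx
      rw [Finset.mem_filter]
      refine ⟨x.2, ?_⟩
      have := congrArg Subtype.val hx
      exact this
    · intro x _ y _ hxy
      exact Subtype.ext hxy
    · intro y hy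
      rw [Finset.mem_filter] at hy
      refine ⟨⟨y, hy.1⟩, ?_, rfl⟩
      rw [Finset.mem_compl, Equiv.Perm.mem_support, not_not]
      apply Subtype.ext
      exact hy.2
  rwa [e] at h

/-- The pointwise stabiliser of a set of points, as a subgroup. -/
def PFixS (E : Finset GolayPt) : Subgroup (Equiv.Perm GolayPt) where
  carrier := PFix E
  mul_mem' := by
    rintro a b ⟨ha, ha'⟩ ⟨hb, hb'⟩
    refine ⟨M24.mul_mem ha hb, fun p hp => ?_⟩
    rw [Equiv.Perm.mul_apply, hb' p hp, ha' p hp]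
  one_mem' := ⟨M24.one_mem, fun _ _ => rfl⟩
  inv_mem' := by
    rintro a ⟨ha, ha'⟩
    refine ⟨M24.inv_mem ha, fun p hp => ?_⟩
    rw [Equiv.Perm.inv_eq_iff_eq]
    exact (ha' p hp).symm

theorem mem_PFixS {E : Finset GolayPt} {g : Equiv.Perm GolayPt} :
    g ∈ PFixS E ↔ g ∈ M24 ∧ ∀ p ∈ E, g p = p := Iff.rfl

theorem card_PFixS (E : Finset GolayPt) : Nat.card ↥(PFixS E) = (PFix E).ncard :=
  Nat.card_coe_set_eq _

/-- An element of `M24` fixing five points has order dividing 48. -/
theorem pow48_of_fix5 {g : Equiv.Perm GolayPt} (hg : g ∈ M24) (E : Finset GolayPt)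
    (hE : E.card = 5) (hfix : ∀ p ∈ E, g p = p) : g ^ 48 = 1 := by
  have hc : Nat.card ↥(PFixS E) = 48 := by rw [card_PFixS, ncard_Fix5 E hE]
  have hmem : g ∈ PFixS E := ⟨hg, hfix⟩
  have h := pow_card_eq_one' (G := ↥(PFixS E)) (x := ⟨g, hmem⟩)
  rw [hc] at h
  have := congrArg Subtype.val h
  simpa using this

/-- A nonidentity element of `M24` of prime order at least 5 fixes at most four points. -/
theorem card_fix_le_four {p : ℕ} (hp : p.Prime) (hp5 : 5 ≤ p) {g : Equiv.Perm GolayPt}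
    (hg : g ∈ M24) (hgp : g ^ p = 1) (hne : g ≠ 1) :
    (Finset.univ.filter fun q => g q = q).card ≤ 4 := by
  by_contra hcon
  push Not at hcon
  obtain ⟨E, hE, hc⟩ := Finset.exists_subset_card_eq (show 5 ≤ _ from hcon)
  have h48 := pow48_of_fix5 hg E hc (fun q hq => (Finset.mem_filter.mp (hE hq)).2)
  have h1 : orderOf g ∣ 48 := orderOf_dvd_of_pow_eq_one h48
  have h2 : orderOf g ∣ p := orderOf_dvd_of_pow_eq_one hgp
  have h3 : orderOf g ∣ Nat.gcd 48 p := Nat.dvd_gcd h1 h2
  have hcop : Nat.gcd 48 p = 1 := by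
    rw [Nat.gcd_comm]
    apply (Nat.Prime.coprime_iff_not_dvd hp).mpr
    intro hd
    have h48' : (48 : ℕ) = 2 ^ 4 * 3 := by norm_num
    rw [h48'] at hd
    rcases (Nat.Prime.dvd_mul hp).mp hd with h | h
    · have := (Nat.prime_dvd_prime_iff_eq hp Nat.prime_two).mp (hp.dvd_of_dvd_pow h)
      omega
    · have := (Nat.prime_dvd_prime_iff_eq hp Nat.prime_three).mp h
      omega
  rw [hcop, Nat.dvd_one, orderOf_eq_one_iff] at h3
  exact hne h3

theorem ne_one_of_orderOf {g : Equiv.Perm GolayPt} {p : ℕ} (hp : 2 ≤ p) (h : orderOf g = p) :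
    g ≠ 1 := by
  intro h1
  rw [h1, orderOf_one] at h
  omega

theorem card_univ_golay : (Finset.univ : Finset GolayPt).card = 24 := by
  rw [Finset.card_univ]
  rfl

/-- The number of fixed points of an element of order 5, 7 or 11 of `M24`. -/
theorem card_fix_of_prime {p : ℕ} (hp : p.Prime) (hp5 : 5 ≤ p) (hp24 : p ≤ 24)
    {g : Equiv.Perm GolayPt} (hg : g ∈ M24) (ho : orderOf g = p) :
    (Finset.univ.filter fun q => g q = q).card % p = 24 % p ∧
      (Finset.univ.filter fun q => g q = q).card ≤ 4 := by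
  have : Fact p.Prime := ⟨hp⟩
  have hgp : g ^ p = 1 := by rw [← ho]; exact pow_orderOf_eq_one g
  have hne : g ≠ 1 := ne_one_of_orderOf (by omega) ho
  have h1 := sieve hgp Finset.univ (fun x => by simp)
  rw [card_univ_golay] at h1
  exact ⟨h1, card_fix_le_four hp hp5 hg hgp hne⟩

theorem card_fix_five {g : Equiv.Perm GolayPt} (hg : g ∈ M24) (ho : orderOf g = 5) :
    (Finset.univ.filter fun q => g q = q).card = 4 := by
  obtain ⟨h1, h2⟩ := card_fix_of_prime (by norm_num) (by norm_num) (by norm_num) hg ho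
  omega

theorem card_fix_seven {g : Equiv.Perm GolayPt} (hg : g ∈ M24) (ho : orderOf g = 7) :
    (Finset.univ.filter fun q => g q = q).card = 3 := by
  obtain ⟨h1, h2⟩ := card_fix_of_prime (by norm_num) (by norm_num) (by norm_num) hg ho
  omega

theorem card_fix_eleven {g : Equiv.Perm GolayPt} (hg : g ∈ M24) (ho : orderOf g = 11) :
    (Finset.univ.filter fun q => g q = q).card = 2 := by
  obtain ⟨h1, h2⟩ := card_fix_of_prime (by norm_num) (by norm_num) (by norm_num) hg ho
  omega

/-- Cauchy's theorem in a subgroup of the permutation group. -/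
theorem exists_orderOf_eq (K : Subgroup (Equiv.Perm GolayPt)) {p : ℕ} (hp : p.Prime)
    (hd : p ∣ Nat.card ↥K) : ∃ g ∈ K, orderOf g = p := by
  have : Fact p.Prime := ⟨hp⟩
  obtain ⟨x, hx⟩ := exists_prime_orderOf_dvd_card' p hd
  exact ⟨x.1, x.2, by rw [← hx, Subgroup.orderOf_coe]⟩

/-- The stabiliser of a point in a subgroup. -/
def stabP (K : Subgroup (Equiv.Perm GolayPt)) (a : GolayPt) : Subgroup (Equiv.Perm GolayPt) :=
  K ⊓ MulAction.stabilizer (Equiv.Perm GolayPt) a

theorem mem_stabP {K : Subgroup (Equiv.Perm GolayPt)} {a : GolayPt} {g : Equiv.Perm GolayPt} :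
    g ∈ stabP K a ↔ g ∈ K ∧ g a = a := by
  unfold stabP
  rw [Subgroup.mem_inf, MulAction.mem_stabilizer_iff]
  rfl

theorem stabP_le (K : Subgroup (Equiv.Perm GolayPt)) (a : GolayPt) : stabP K a ≤ K :=
  inf_le_left

/-- The orbit of a point under a subgroup, with the orbit-stabiliser equation. -/
theorem exists_orbit (K : Subgroup (Equiv.Perm GolayPt)) (a : GolayPt) :
    ∃ X : Finset GolayPt, (∀ x, x ∈ X ↔ ∃ k ∈ K, k a = x) ∧
      Nat.card ↥K = X.card * Nat.card ↥(stabP K a) := by
  classical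
  refine ⟨Finset.univ.filter (fun x => ∃ k ∈ K, k a = x), fun x => by simp, ?_⟩
  have h := card_eq_orbit_mul_stab K a (Finset.univ.filter (fun x => ∃ k ∈ K, k a = x))
    (fun h hh => by simp only [Finset.mem_filter, Finset.mem_univ, true_and]; exact ⟨h, hh, rfl⟩)
    (fun q hq => by simpa using hq)
  rw [h]
  have : {n : Equiv.Perm GolayPt | n ∈ K ∧ n a = a} = (stabP K a : Set (Equiv.Perm GolayPt)) := by
    ext n
    exact mem_stabP.symm
  rw [this, ← Nat.card_coe_set_eq]
  rfl

/-- An orbit is invariant. -/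
theorem orbit_inv {K : Subgroup (Equiv.Perm GolayPt)} {a : GolayPt} {X : Finset GolayPt}
    (hX : ∀ x, x ∈ X ↔ ∃ k ∈ K, k a = x) {g : Equiv.Perm GolayPt} (hg : g ∈ K) (x : GolayPt) :
    g x ∈ X ↔ x ∈ X := by
  rw [hX, hX]
  constructor
  · rintro ⟨k, hk, h⟩
    refine ⟨g⁻¹ * k, K.mul_mem (K.inv_mem hg) hk, ?_⟩
    rw [Equiv.Perm.mul_apply, h]
    simp
  · rintro ⟨k, hk, h⟩
    exact ⟨g * k, K.mul_mem hg hk, by rw [Equiv.Perm.mul_apply, h]⟩

/-- Lower bound for the number of fixed points on an invariant set. -/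
theorem fix_ge_of_sieve {p : ℕ} [hp : Fact p.Prime] {g : Equiv.Perm GolayPt} (hg : g ^ p = 1)
    (X : Finset GolayPt) (hX : ∀ x, g x ∈ X ↔ x ∈ X) :
    X.card % p ≤ (X.filter (fun x => g x = x)).card := by
  have h := sieve hg X hX
  unfold Nat.ModEq at h
  rw [← h]
  exact Nat.mod_le _ _

end Cfsg.Agent.Lib.Helper93_S1589
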