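import Mathlib
import Cfsg.Agent.Lib.Helper93_S2882a

/-!
Certificate data for the orbits of the stabiliser of `∞` in the Sylow 2-subgroup of `M24`.
(Generated data.)
-/

set_option autoImplicit false
open Cfsg
open scoped Pointwise
open Cfsg.Agent.Lib.Helper26_Golay Cfsg.Agent.Lib.Helper93_M24Obj Cfsg.Agent.Lib.Helper93_S5615b
open Cfsg.Agent.Lib.Helper93_S2882a

namespace Cfsg.Agent.Lib.Helper93_S1609a

/-- The representative of the orbit of the `i`-th point under the stabiliser of `∞` in the Sylow
subgroup. -/
def rep (i : ℕ) : ℕ :=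
  if i == 23 then 23 else if i == 0 then 0 else if (i == 2) || (i == 5) then 2
  else if m8.testBit i then 1 else 4

/-- Elements of the stabiliser mapping the representative of the `i`-th point to it
(packed tables). -/
def connPacked : ℕ := 0xbdab49ca307b9ac5a928398a418820b926faa22da3a0b6255231cb618820bb58455a2938d7493d069c05571420bc88c3ae2650ed56ce097a05471420bd6cb22627638cfa224a834b318820bd0ea2263660ccdac26b43c5271420bcd566102b30d3493d076d4b070a20bcd2659e2cb0d487ca846d45071420bd17661a2a23933ac1a7448af18820ba16cb186a204ed93e69a54b0889c0bc0ea332364b892451ebaccad18820baab46be3090e643d8c85a44c71420bb1f3a4232ab916218ed4a8ab18820bb1b2aa233a0e0721acf4ac4a71420bae089ca3578da6b1c945304971420bc92655a2c3b9706cea47d0a818820b924da422fa8d0a625733584771420bd9107b63498e495a9953904671420b9e9594e2868dec52d30b184471420bdab49ca307b9ac5a928398a418820ba0e4525d6605737c9a6a545089460bdab49ca307b9ac5a928398a418820bdab49ca307b9ac5a928398a418820bdab49ca307b9ac5a928398a418820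

/-- The element mapping the representative to the `i`-th point. -/
def Uc (i : ℕ) : ℕ := get120 connPacked i

theorem conn_ok : allFold (fun i => tblInM24 (Uc i) && inS0 (Uc i) && (img (Uc i) 23 == 23) &&
    (img (Uc i) (rep i) == i)) 24 = true := by decide +kernel

theorem rep_oct : allFold (fun i => (rep i == 4) == !(m8.testBit i)) 24 = true := by decide +kernel

end Cfsg.Agent.Lib.Helper93_S1609a
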