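import Mathlib
import Cfsg.Agent.Lib.Helper93_S2882a

/-!
Certificate: the number of elements of the subgroup fixing `∞`, part 3 of 7.  (Generated.)
-/

set_option autoImplicit false
open Cfsg
open scoped Pointwise
open Cfsg.Agent.Lib.Helper26_Golay Cfsg.Agent.Lib.Helper93_M24Obj
open Cfsg.Agent.Lib.Helper93_S2882a

namespace Cfsg.Agent.Lib.Helper93_S2882c

theorem count_ok2 : sumFold (fun i => sumFold (fun m =>
    if Pb (cand4 (Ts (30 * 2 + i)) m) = true then 1 else 0) 960) 30 = 0 := by decide +kernel

end Cfsg.Agent.Lib.Helper93_S2882c
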