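import Mathlib
import Cfsg.Agent.Lib.Helper93_S5615a
import Cfsg.Agent.Lib.Helper93_S5615b
import Cfsg.Agent.Lib.Helper93_S5610a
import Cfsg.Agent.Lib.Helper93_M24Six

/-!
The trios containing the octad through the five base points: there are 15 of them, the stabiliser
of the octad is doubly transitive on them, and an element of `M24` fixing the octad pointwise fixes
each of them.
-/

set_option autoImplicit false
open Cfsg
open scoped Pointwise
open Cfsg.Agent.Lib.Helper26_Golay Cfsg.Agent.Lib.Helper93_M24Obj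
open Cfsg.Agent.Lib.Helper93_S5615a Cfsg.Agent.Lib.Helper93_S5615b

namespace Cfsg.Agent.Lib.Helper93_S5615c

/-- The trio with code `c` contains the base octad. -/
def has8 (c : ℕ) : Bool := (mems 3 c).contains (octAt 36)

theorem oct8_mem_setOf (c : ℕ) : oct8 ∈ Helper93_M24Obj.setOf 3 c ↔ has8 c = true := by
  unfold oct8 has8
  rw [mem_setOf, enc_dec _ (octAt_lt 36), List.contains_iff_mem]

theorem count8 : {T | T ∈ trios ∧ oct8 ∈ T}.ncard = 15 := by
  rw [trioEnum.ncard_filter (fun T => oct8 ∈ T) has8 (fun j _ => oct8_mem_setOf (trioAt j))]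
  exact cnt15

theorem inv_ok : allFold (fun j => !(has8 (trioAt j)) ||
    (invL [octAt 36] (mems 3 (trioAt j)) == 390627)) 3795 = true := by decide +kernel

theorem exists_index {T : Finset (Finset GolayPt)} (hT : T ∈ trios) (h8 : oct8 ∈ T) :
    ∃ j < 3795, Helper93_M24Obj.setOf 3 (trioAt j) = T ∧ has8 (trioAt j) = true := by
  obtain ⟨j, hj, rfl⟩ := trioEnum.surj T hT
  exact ⟨j, hj, rfl, (oct8_mem_setOf _).mp h8⟩

theorem invPS_eq {T : Finset (Finset GolayPt)} (hT : T ∈ trios) (h8 : oct8 ∈ T) :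
    invPS oct8 T = 390627 := by
  obtain ⟨j, hj, rfl, hc⟩ := exists_index hT h8
  unfold oct8
  rw [invPS_code (octAt_lt 36) (trioAt_canon hj)]
  have := (allFold_eq_true _ _).mp inv_ok j hj
  rw [hc] at this
  simpa using this

theorem classifies8 : Classifies invPS trios oct8 := by
  obtain ⟨g₀, hg₀, h⟩ := exists_smul_oct0_eq oct8_mem
  rw [← h]
  exact Classifies.smul invPS_smul (fun g hg X hX => smul_mem_trios hg hX)
    Cfsg.Agent.Lib.Helper93_S5610a.classifies hg₀

/-- The stabiliser of the octad is transitive on the trios containing it. -/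
theorem trans15 {T T' : Finset (Finset GolayPt)} (hT : T ∈ trios) (hT' : T' ∈ trios)
    (h8 : oct8 ∈ T) (h8' : oct8 ∈ T') : ∃ g ∈ M24, g • oct8 = oct8 ∧ g • T = T' :=
  classifies8 T hT T' hT' (by rw [invPS_eq hT h8, invPS_eq hT' h8'])

/-- The reference trio. -/
def tStar : Finset (Finset GolayPt) := Helper93_M24Obj.setOf 3 (trioAt jStar)

theorem tStar_mem : tStar ∈ trios := trioEnum.mem jStar (by decide)

theorem star_has8 : has8 (trioAt jStar) = true := by decide +kernel

theorem oct8_mem_tStar : oct8 ∈ tStar := (oct8_mem_setOf _).mpr star_has8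

theorem gens_ok2 : allFold (fun g => tblInM24 (get120 gens g) &&
    maskCoding.step (get120 gens g) (octAt 36) (octAt 36) &&
    (objCoding 3).step (get120 gens g) (trioAt jStar) (trioAt jStar)) 3 = true := by decide +kernel

/-- The stabiliser of the octad and of the reference trio. -/
def H8 : Subgroup (Equiv.Perm GolayPt) :=
  M24 ⊓ (MulAction.stabilizer (Equiv.Perm GolayPt) oct8 ⊓
    MulAction.stabilizer (Equiv.Perm GolayPt) tStar)

theorem gensIn_H8 : GensIn H8 gens 3 := by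
  intro g hg
  have h1 := (allFold_eq_true _ _).mp gens_ok2 g hg
  rw [Bool.and_eq_true, Bool.and_eq_true] at h1
  obtain ⟨σ, hσ, hT⟩ := exists_of_tblInM24 h1.1.1
  refine ⟨σ, Subgroup.mem_inf.mpr ⟨hσ, Subgroup.mem_inf.mpr ⟨?_, ?_⟩⟩, hT⟩
  · rw [MulAction.mem_stabilizer_iff]
    exact maskCoding.sound σ _ _ _ hT h1.1.2
  · rw [MulAction.mem_stabilizer_iff]
    exact (objCoding 3).sound σ _ _ _ hT h1.2

/-- The stabiliser of the octad and the reference trio is transitive on the 14 other trios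
containing the octad. -/
theorem trans14 {T T' : Finset (Finset GolayPt)} (hT : T ∈ trios) (hT' : T' ∈ trios)
    (h8 : oct8 ∈ T) (h8' : oct8 ∈ T') (hne : T ≠ tStar) (hne' : T' ≠ tStar) :
    ∃ x ∈ M24, x • oct8 = oct8 ∧ x • tStar = tStar ∧ x • T = T' := by
  obtain ⟨j, hj, rfl, hc⟩ := exists_index hT h8
  obtain ⟨j', hj', rfl, hc'⟩ := exists_index hT' h8'
  have hr : ∀ i < 3795, has8 (trioAt i) = true → Helper93_M24Obj.setOf 3 (trioAt i) ≠ tStar →
      get16 fR i = r14 := by
    intro i hi hci hnei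
    have h := (allFold_eq_true _ _).mp root14_ok i hi
    have hci' : (mems 3 (trioAt i)).contains (octAt 36) = true := hci
    rw [hci'] at h
    simp only [Bool.not_true, Bool.false_or, Bool.or_eq_true, beq_iff_eq] at h
    rcases h with h | h
    · exfalso
      apply hnei
      rw [h]
      rfl
    · exact h
  obtain ⟨x, hx, hxT⟩ := rel_of_same_root (objCoding 3) H8 gens 3 gensIn_H8 trioAt fP fG fD fR 3795
    forest_ok hj hj' ((hr j hj hc hne).trans (hr j' hj' hc' hne').symm)
  obtain ⟨hxM, hx2⟩ := Subgroup.mem_inf.mp hx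
  obtain ⟨hx8, hxS⟩ := Subgroup.mem_inf.mp hx2
  exact ⟨x, hxM, MulAction.mem_stabilizer_iff.mp hx8, MulAction.mem_stabilizer_iff.mp hxS, hxT⟩

/-- The stabiliser of the octad is doubly transitive on the trios containing it. -/
theorem two_trans8 {T₁ T₂ T₁' T₂' : Finset (Finset GolayPt)} (h1 : T₁ ∈ trios) (h2 : T₂ ∈ trios)
    (h1' : T₁' ∈ trios) (h2' : T₂' ∈ trios) (o1 : oct8 ∈ T₁) (o2 : oct8 ∈ T₂) (o1' : oct8 ∈ T₁')
    (o2' : oct8 ∈ T₂') (hne : T₁ ≠ T₂) (hne' : T₁' ≠ T₂') :
    ∃ g ∈ M24, g • oct8 = oct8 ∧ g • T₁ = T₁' ∧ g • T₂ = T₂' := by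
  obtain ⟨a, ha, ha8, haT⟩ := trans15 h1 tStar_mem o1 oct8_mem_tStar
  obtain ⟨b, hb, hb8, hbT⟩ := trans15 h1' tStar_mem o1' oct8_mem_tStar
  have hmem : ∀ {c : Equiv.Perm GolayPt} {T : Finset (Finset GolayPt)}, c • oct8 = oct8 →
      oct8 ∈ T → oct8 ∈ c • T := by
    intro c T hc hT
    have := Finset.smul_mem_smul_finset (a := c) hT
    rwa [hc] at this
  have hn : a • T₂ ≠ tStar := by
    intro h
    rw [← haT] at h
    exact hne (smul_left_cancel a h).symm
  have hn' : b • T₂' ≠ tStar := by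
    intro h
    rw [← hbT] at h
    exact hne' (smul_left_cancel b h).symm
  obtain ⟨x, hx, hx8, hxS, hxT⟩ := trans14 (smul_mem_trios ha h2) (smul_mem_trios hb h2')
    (hmem ha8 o2) (hmem hb8 o2') hn hn'
  refine ⟨b⁻¹ * x * a, M24.mul_mem (M24.mul_mem (M24.inv_mem hb) hx) ha, ?_, ?_, ?_⟩
  · rw [mul_smul, mul_smul, ha8, hx8, inv_smul_eq_iff, hb8]
  · rw [mul_smul, mul_smul, haT, hxS, inv_smul_eq_iff, hbT]
  · rw [mul_smul, mul_smul, hxT, inv_smul_smul]

end Cfsg.Agent.Lib.Helper93_S5615c
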