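import Mathlib
import Cfsg.Agent.Lib.Helper93_S5615c

/-!
The kernel of the action of the stabiliser of the octad through the five base points on the 15
trios containing it is the pointwise stabiliser of the octad.
-/

set_option autoImplicit false
open Cfsg
open scoped Pointwise
open Cfsg.Agent.Lib.Helper26_Golay Cfsg.Agent.Lib.Helper93_M24Obj
open Cfsg.Agent.Lib.Helper93_S5615a Cfsg.Agent.Lib.Helper93_S5615b Cfsg.Agent.Lib.Helper93_S5615c

namespace Cfsg.Agent.Lib.Helper93_S5615d

/-! ### Conjugation -/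

theorem fixTrios_conj {o : Finset GolayPt} {g k : Equiv.Perm GolayPt} (hk : k ∈ M24)
    (h : ∀ T ∈ trios, o ∈ T → g • T = T) :
    ∀ T ∈ trios, k • o ∈ T → (k * g * k⁻¹) • T = T := by
  intro T hT ho
  have h1 : k⁻¹ • T ∈ trios := smul_mem_trios (M24.inv_mem hk) hT
  have h2 : o ∈ k⁻¹ • T := by
    rw [← Finset.smul_mem_smul_finset_iff k, smul_inv_smul]
    exact ho
  rw [mul_smul, mul_smul, h _ h1 h2, smul_inv_smul]

theorem fixPts_conj {o : Finset GolayPt} {g k : Equiv.Perm GolayPt}
    (h : ∀ p ∈ o, g p = p) : ∀ p ∈ k • o, (k * g * k⁻¹) p = p := by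
  intro p hp
  have h1 : k⁻¹ p ∈ o := by
    rw [← Finset.inv_smul_mem_iff] at hp
    exact hp
  rw [Equiv.Perm.mul_apply, Equiv.Perm.mul_apply, h _ h1]
  simp

/-! ### Pointwise stabiliser fixes the trios -/

theorem fix_ok : allFold (fun j => !((img (f5At j) 5 == 5) && (img (f5At j) 14 == 14) &&
    (img (f5At j) 17 == 17)) || allFold (fun i => !(has8 (trioAt i)) ||
      (objCoding 3).step (f5At j) (trioAt i) (trioAt i)) 3795) 48 = true := by decide +kernel

theorem bidx_mem_oct8 (i : Fin 5) : pt (bidx i) ∈ oct8 := by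
  rw [pt_mem_oct8 (bidx_lt i), isBase_bidx]
  rfl

theorem fixTrios_of_fixPts {g : Equiv.Perm GolayPt} (hg : g ∈ M24) (h : ∀ p ∈ oct8, g p = p) :
    ∀ T ∈ trios, oct8 ∈ T → g • T = T := by
  obtain ⟨j, hj, rfl⟩ := F5_enum' hg (fun i => h _ (bidx_mem_oct8 i))
  have hF := repF_of_represents (f5Perm_spec hj).2
  have hfix : ∀ i < 24, inO i = true → img (f5At j) i = i := by
    intro i hi hin
    have hm : pt i ∈ oct8 := by
      rw [pt_mem_oct8 hi, hin]
      simp
    have := h _ hm
    rw [hF.apply_pt i hi] at this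
    exact pt_inj (hF.lt i hi) hi this
  have hc := (allFold_eq_true _ _).mp fix_ok j hj
  rw [hfix 5 (by norm_num) rfl, hfix 14 (by norm_num) rfl, hfix 17 (by norm_num) rfl] at hc
  simp only [beq_self_eq_true, Bool.and_self, Bool.not_true, Bool.false_or] at hc
  intro T hT h8
  obtain ⟨i, hi, rfl, hci⟩ := exists_index hT h8
  have hs := (allFold_eq_true _ _).mp hc i hi
  rw [hci] at hs
  simp only [Bool.not_true, Bool.false_or] at hs
  exact (objCoding 3).sound (f5Perm j) _ _ _ (f5Perm_spec hj).2 hs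

/-! ### Elements fixing the trios fix the octad pointwise -/

theorem posOf_spec {x : ℕ} (hx : x < 24) (hb : m8.testBit x = true) :
    posOf x < 8 ∧ lAt (posOf x) = x := by
  have h := (allFold_eq_true _ _).mp l_ok x hx
  rw [hb] at h
  simpa using h

/-- An element mapping five points of the octad to the base points fixes the octad. -/
theorem smul_oct8_eq {k : Equiv.Perm GolayPt} (hk : k ∈ M24) {a : Fin 5 → GolayPt}
    (ha : ∀ i, a i ∈ oct8) (hka : ∀ i, k (a i) = pt (bidx i)) : k • oct8 = oct8 := by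
  have hko : k • oct8 ∈ octads := smul_mem_octads hk oct8_mem
  have hsub : baseFinset ⊆ k • oct8 ∩ oct8 := by
    intro p hp
    rw [mem_baseFinset_iff] at hp
    have hcases := base_idx_cases p hp
    have hb : isBase (idx p) = true := by
      unfold isBase
      rcases hcases with e | e | e | e | e <;> rw [e] <;> rfl
    obtain ⟨i, hi⟩ := exists_bidx_of_isBase hb
    rw [Finset.mem_inter]
    constructor
    · rw [← pt_idx p, ← hi, ← hka i, ← Equiv.Perm.smul_def, Finset.smul_mem_smul_finset_iff]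
      exact ha i
    · rw [← pt_idx p, ← hi]
      exact bidx_mem_oct8 i
  have h5 : 5 ≤ (k • oct8 ∩ oct8).card := by
    rw [← baseFinset_card]
    exact Finset.card_le_card hsub
  exact octad_eq_of_five_le hko oct8_mem h5

/-- An element of `M24` fixing the octad and the trios containing it does not map `∞` to `0`. -/
theorem not_map_inf_zero {g : Equiv.Perm GolayPt} (hg : g ∈ M24) (hg8 : g • oct8 = oct8)
    (h : ∀ T ∈ trios, oct8 ∈ T → g • T = T) (h23 : g (pt 23) = pt 0) : False := by
  have hmem8 : ∀ i, (isBase i || inO i) = true → i < 24 →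
      m8.testBit (idx (g (pt i))) = true := by
    intro i hi hi24
    have h1 : pt i ∈ oct8 := (pt_mem_oct8 hi24).mpr hi
    have h2 : g (pt i) ∈ oct8 := by
      have := Finset.smul_mem_smul_finset (a := g) h1
      rwa [hg8, Equiv.Perm.smul_def] at this
    unfold oct8 at h2
    rwa [mem_dec] at h2
  have hA8 := hmem8 0 rfl (by norm_num)
  have hB8 := hmem8 1 rfl (by norm_num)
  have hC8 := hmem8 2 rfl (by norm_num)
  obtain ⟨pa, la⟩ := posOf_spec (idx_lt _) hA8
  obtain ⟨pb, lb⟩ := posOf_spec (idx_lt _) hB8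
  obtain ⟨pc, lc⟩ := posOf_spec (idx_lt _) hC8
  have inj : ∀ i j, i < 24 → j < 24 → idx (g (pt i)) = idx (g (pt j)) → i = j := by
    intro i j hi hj hij
    have h1 : g (pt i) = g (pt j) := by rw [← pt_idx (g (pt i)), hij, pt_idx]
    exact pt_inj hi hj (g.injective h1)
  have h23' : idx (g (pt 23)) = 0 := by rw [h23, idx_pt 0 (by norm_num)]
  have hA0 : idx (g (pt 0)) ≠ 0 := fun e => by
    have := inj 0 23 (by norm_num) (by norm_num) (e.trans h23'.symm)
    omega
  have hB0 : idx (g (pt 1)) ≠ 0 := fun e => by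
    have := inj 1 23 (by norm_num) (by norm_num) (e.trans h23'.symm)
    omega
  have hC0 : idx (g (pt 2)) ≠ 0 := fun e => by
    have := inj 2 23 (by norm_num) (by norm_num) (e.trans h23'.symm)
    omega
  have hAB : posOf (idx (g (pt 0))) ≠ posOf (idx (g (pt 1))) := fun e => by
    have h1 : idx (g (pt 0)) = idx (g (pt 1)) := by rw [← la, e, lb]
    have := inj 0 1 (by norm_num) (by norm_num) h1
    omega
  have hAC : posOf (idx (g (pt 0))) ≠ posOf (idx (g (pt 2))) := fun e => by
    have h1 : idx (g (pt 0)) = idx (g (pt 2)) := by rw [← la, e, lc]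
    have := inj 0 2 (by norm_num) (by norm_num) h1
    omega
  have hBC : posOf (idx (g (pt 1))) ≠ posOf (idx (g (pt 2))) := fun e => by
    have h1 : idx (g (pt 1)) = idx (g (pt 2)) := by rw [← lb, e, lc]
    have := inj 1 2 (by norm_num) (by norm_num) h1
    omega
  obtain ⟨slot, hslot⟩ : ∃ slot, slot = 64 * posOf (idx (g (pt 0))) + 8 * posOf (idx (g (pt 1))) +
    posOf (idx (g (pt 2))) := ⟨_, rfl⟩
  have s1 : slot / 64 = posOf (idx (g (pt 0))) := by omega
  have s2 : slot / 8 % 8 = posOf (idx (g (pt 1))) := by omega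
  have s3 : slot % 8 = posOf (idx (g (pt 2))) := by omega
  have hslot512 : slot < 512 := by omega
  have hvalid : valid slot = true := by
    unfold valid
    rw [s1, s2, s3, la, lb, lc]
    simp [hA0, hB0, hC0, hAB, hAC, hBC]
  have hTs := (allFold_eq_true _ _).mp Ts_ok slot hslot512
  rw [hvalid] at hTs
  simp only [Bool.not_true, Bool.false_or, Bool.and_eq_true, beq_iff_eq] at hTs
  obtain ⟨⟨⟨⟨hin, t23⟩, t0⟩, t1⟩, t2⟩ := hTs
  rw [s1, la] at t0
  rw [s2, lb] at t1
  rw [s3, lc] at t2
  obtain ⟨m, hm, hrep⟩ := cand4_enum hin hg (by rw [t23]; exact h23) (by rw [t0, pt_idx])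
    (by rw [t1, pt_idx]) (by rw [t2, pt_idx])
  have hpre : pre (Ts slot) m = true := by
    unfold pre
    have e : ∀ i, i < 24 → cand4 (Ts slot) m i = idx (g (pt i)) := fun i hi => by
      rw [hrep (pt i), idx_pt i hi]
    rw [e 3 (by norm_num), e 5 (by norm_num), e 14 (by norm_num), e 17 (by norm_num),
      hmem8 3 rfl (by norm_num), hmem8 5 rfl (by norm_num), hmem8 14 rfl (by norm_num),
      hmem8 17 rfl (by norm_num)]
    rfl
  have hg_eq : g = candPerm (Ts slot) m := hrep.unique (candPerm_spec hin hm).2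
  have hmask : ∀ a, a < 2 ^ 24 → enc (g • dec a) = cmask (Ts slot) m a := by
    intro a ha
    have h1 : m / 48 < 20 := by omega
    have h2 : m % 48 < 48 := by omega
    rw [hg_eq]
    unfold candPerm cmask
    rw [mul_smul, mul_smul, enc_smul (tblPerm_spec hin).2, enc_smul (tblPerm_spec (r4_in h1)).2,
      enc_smul (f5Perm_spec h2).2, enc_dec a ha]
  have htest : ∀ i < 15, test (Ts slot) m (t15 i) = true := by
    intro i hi
    have ht := (allFold_eq_true _ _).mp t15_ok i hi
    rw [Bool.and_eq_true, decide_eq_true_eq] at ht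
    obtain ⟨hlt, hc⟩ := ht
    have hT : Helper93_M24Obj.setOf 3 (t15 i) ∈ trios := trioEnum.mem _ hlt
    have h8 : oct8 ∈ Helper93_M24Obj.setOf 3 (t15 i) := (oct8_mem_setOf _).mpr hc
    have hfix := h _ hT h8
    unfold test
    rw [List.all_eq_true]
    intro a ha
    rw [Bool.or_eq_true]
    right
    rw [List.contains_iff_mem, ← hmask a (lt_of_mem_mems ha), ← mem_setOf, ← hfix]
    exact Finset.smul_mem_smul_finset (dec_mem_setOf ha)
  have hk := (allFold_eq_true _ _).mp key_ok slot hslot512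
  rw [hvalid] at hk
  simp only [Bool.not_true, Bool.false_or] at hk
  have hk2 := (allFold_eq_true _ _).mp hk m hm
  rw [hpre, (allFold_eq_true _ _).mpr htest] at hk2
  simp at hk2

/-- An element of `M24` fixing the octad and the trios containing it fixes the octad pointwise. -/
theorem fixPts_of_fixTrios {g : Equiv.Perm GolayPt} (hg : g ∈ M24) (hg8 : g • oct8 = oct8)
    (h : ∀ T ∈ trios, oct8 ∈ T → g • T = T) : ∀ p ∈ oct8, g p = p := by
  by_contra hcon
  push Not at hcon
  obtain ⟨p, hp, hgp⟩ := hcon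
  have hq : g p ∈ oct8 := by
    have := Finset.smul_mem_smul_finset (a := g) hp
    rwa [hg8, Equiv.Perm.smul_def] at this
  have hcard : 3 ≤ ((oct8.erase p).erase (g p)).card := by
    rw [Finset.card_erase_of_mem (Finset.mem_erase.mpr ⟨hgp, hq⟩), Finset.card_erase_of_mem hp,
      oct8_mem.2]
    norm_num
  obtain ⟨S, hS, hScard⟩ := Finset.exists_subset_card_eq hcard
  obtain ⟨r, s, u, hrs, hru, hsu, rfl⟩ := Finset.card_eq_three.mp hScard
  have hr := hS (show r ∈ ({r, s, u} : Finset GolayPt) by simp)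
  have hs := hS (show s ∈ ({r, s, u} : Finset GolayPt) by simp)
  have hu := hS (show u ∈ ({r, s, u} : Finset GolayPt) by simp)
  rw [Finset.mem_erase, Finset.mem_erase] at hr hs hu
  obtain ⟨r1, r2, r3⟩ := hr
  obtain ⟨s1, s2, s3⟩ := hs
  obtain ⟨u1, u2, u3⟩ := hu
  have hinj : Function.Injective ![p, g p, r, s, u] := by
    rw [← List.nodup_ofFn]
    simp only [List.ofFn_succ, List.ofFn_zero, Matrix.cons_val_zero, Matrix.cons_val_succ,
      List.nodup_cons, List.mem_cons,
      List.not_mem_nil, or_false, not_or, List.nodup_nil, and_true, not_false_eq_true]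
    exact ⟨⟨Ne.symm hgp, Ne.symm r2, Ne.symm s2, Ne.symm u2⟩, ⟨Ne.symm r1, Ne.symm s1, Ne.symm u1⟩,
      ⟨hrs, hru⟩, hsu⟩
  obtain ⟨k, hk, hka⟩ := exists_map5' _ hinj
  have hk8 : k • oct8 = oct8 := by
    apply smul_oct8_eq hk _ hka
    intro i
    fin_cases i
    · exact hp
    · exact hq
    · exact r3
    · exact s3
    · exact u3
  have hg' : k * g * k⁻¹ ∈ M24 := M24.mul_mem (M24.mul_mem hk hg) (M24.inv_mem hk)
  have hg'8 : (k * g * k⁻¹) • oct8 = oct8 := by
    rw [mul_smul, mul_smul, inv_smul_eq_iff.mpr hk8.symm, hg8, hk8]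
  have h' : ∀ T ∈ trios, oct8 ∈ T → (k * g * k⁻¹) • T = T := by
    intro T hT h8
    exact fixTrios_conj hk h T hT (by rw [hk8]; exact h8)
  have h23 : (k * g * k⁻¹) (pt 23) = pt 0 := conj_apply_of_map hka 0 1 rfl
  exact not_map_inf_zero hg' hg'8 h' h23

end Cfsg.Agent.Lib.Helper93_S5615d
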