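import Mathlib
import Cfsg.Agent.Lib.Helper93_S2882a
import Cfsg.Agent.Lib.Helper93_S2882c0
import Cfsg.Agent.Lib.Helper93_S2882c1
import Cfsg.Agent.Lib.Helper93_S2882c2
import Cfsg.Agent.Lib.Helper93_S2882c3
import Cfsg.Agent.Lib.Helper93_S2882c4
import Cfsg.Agent.Lib.Helper93_S2882c5
import Cfsg.Agent.Lib.Helper93_S2882c6
import Cfsg.Agent.Lib.Helper93_S5615d
import Cfsg.Agent.Lib.Helper93_M24Sextets
import Cfsg.Agent.Lib.Helper93_M24Classes

/-!
A subgroup of order `2 ^ 10` of `M24` which contains every element of `M24` normalising it.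
-/

set_option autoImplicit false
open Cfsg
open scoped Pointwise
open Cfsg.Agent.Lib.Helper26_Golay Cfsg.Agent.Lib.Helper93_M24Obj
open Cfsg.Agent.Lib.Helper93_S5615b (m8 posOf lAt)
open Cfsg.Agent.Lib.Helper93_S2882a

namespace Cfsg.Agent.Lib.Helper93_S2882b

/-- The central involution. -/
noncomputable def v : Equiv.Perm GolayPt := f5Perm 1

theorem v_spec : v ∈ M24 ∧ Represents v vT := f5Perm_spec (by norm_num)

theorem v_rep : RepF v (img vT) := repF_of_represents v_spec.2

/-- The trio. -/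
def tS : Finset (Finset GolayPt) := Helper93_M24Obj.setOf 3 (trioAt jT)

/-- The sextet. -/
def sS : Finset (Finset GolayPt) := Helper93_M24Obj.setOf 6 (sextAt jS)

/-- The subgroup: the centraliser of the involution in the stabiliser of the octad, the trio and
the sextet. -/
def S0 : Subgroup (Equiv.Perm GolayPt) :=
  M24 ⊓ (MulAction.stabilizer (Equiv.Perm GolayPt) oct8 ⊓
    (MulAction.stabilizer (Equiv.Perm GolayPt) tS ⊓
      (MulAction.stabilizer (Equiv.Perm GolayPt) sS ⊓ Subgroup.centralizer {v})))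

theorem mem_S0_iff {n : Equiv.Perm GolayPt} : n ∈ S0 ↔
    n ∈ M24 ∧ n • oct8 = oct8 ∧ n • tS = tS ∧ n • sS = sS ∧ v * n = n * v := by
  unfold S0
  simp only [Subgroup.mem_inf, MulAction.mem_stabilizer_iff, Subgroup.mem_centralizer_iff,
    Set.mem_singleton_iff, forall_eq]

theorem S0_le : S0 ≤ M24 := fun _ hn => (mem_S0_iff.mp hn).1

/-- Membership in the subgroup, on tables. -/
theorem inS0_iff {n : Equiv.Perm GolayPt} {T : ℕ} (hn : n ∈ M24) (hT : Represents n T) :
    n ∈ S0 ↔ inS0 T = true := by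
  rw [mem_S0_iff]
  unfold inS0 inB
  rw [Bool.and_eq_true, Bool.and_eq_true, Bool.and_eq_true]
  have h1 : n • oct8 = oct8 ↔ maskCoding.step T m8 m8 = true :=
    maskCoding_step_iff hT (octAt_lt 36) (octAt_lt 36)
  have h2 : n • tS = tS ↔ (objCoding 3).step T (trioAt jT) (trioAt jT) = true :=
    objCoding_step_iff hT 3 _ _
  have h3 : n • sS = sS ↔ (objCoding 6).step T (sextAt jS) (sextAt jS) = true :=
    objCoding_step_iff hT 6 _ _
  have hF := repF_of_represents hT
  constructor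
  · rintro ⟨-, a1, a2, a3, a4⟩
    exact ⟨⟨⟨h1.mp a1, h2.mp a2⟩, h3.mp a3⟩, commOK_of_commute hF v_rep a4.symm⟩
  · rintro ⟨⟨⟨a1, a2⟩, a3⟩, a4⟩
    exact ⟨hn, h1.mpr a1, h2.mpr a2, h3.mpr a3, (mul_comm_of_commOK hF v_rep a4).symm⟩

theorem v_mem : v ∈ S0 := (inS0_iff v_spec.1 v_spec.2).mpr v_ok

/-- The `g`-th generator. -/
noncomputable def gen (g : ℕ) : Equiv.Perm GolayPt := tblPerm (get120 gens g)

theorem gen_spec {g : ℕ} (hg : g < nG) :
    gen g ∈ S0 ∧ Represents (gen g) (get120 gens g) := by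
  have h := (allFold_eq_true _ _).mp gens_ok g hg
  rw [Bool.and_eq_true] at h
  have hs := tblPerm_spec h.1
  exact ⟨(inS0_iff hs.1 hs.2).mpr h.2, hs.2⟩

/-! ### The objects fixed by the subgroup -/

theorem fixed_oct {o : Finset GolayPt} (ho : o ∈ octads) (h : ∀ s ∈ S0, s • o = o) :
    o = oct8 := by
  obtain ⟨j, hj, rfl⟩ := octEnum.surj o ho
  have hc := (allFold_eq_true _ _).mp fixOct_ok j hj
  rw [Bool.or_eq_true, beq_iff_eq] at hc
  rcases hc with hc | hc
  · rw [hc]
    rfl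
  · exfalso
    rw [Bool.not_eq_true', ← Bool.not_eq_true, allFold_eq_true] at hc
    apply hc
    intro g hg
    obtain ⟨hm, hT⟩ := gen_spec hg
    exact (maskCoding_step_iff hT (octAt_lt j) (octAt_lt j)).mp (h _ hm)

theorem fixed_trio {T : Finset (Finset GolayPt)} (hT : T ∈ trios) (h : ∀ s ∈ S0, s • T = T) :
    T = tS := by
  obtain ⟨j, hj, rfl⟩ := trioEnum.surj T hT
  have hc := (allFold_eq_true _ _).mp fixTrio_ok j hj
  rw [Bool.or_eq_true, beq_iff_eq] at hc
  rcases hc with hc | hc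
  · rw [hc]
    rfl
  · exfalso
    rw [Bool.not_eq_true', ← Bool.not_eq_true, allFold_eq_true] at hc
    apply hc
    intro g hg
    obtain ⟨hm, hT⟩ := gen_spec hg
    exact (objCoding_step_iff hT 3 _ _).mp (h _ hm)

theorem fixed_sext {T : Finset (Finset GolayPt)} (hT : T ∈ sextets) (h : ∀ s ∈ S0, s • T = T) :
    T = sS := by
  obtain ⟨j, hj, rfl⟩ := sextEnum.surj T hT
  have hc := (allFold_eq_true _ _).mp fixSext_ok j hj
  rw [Bool.or_eq_true, beq_iff_eq] at hc
  rcases hc with hc | hc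
  · rw [hc]
    rfl
  · exfalso
    rw [Bool.not_eq_true', ← Bool.not_eq_true, allFold_eq_true] at hc
    apply hc
    intro g hg
    obtain ⟨hm, hT⟩ := gen_spec hg
    exact (objCoding_step_iff hT 6 _ _).mp (h _ hm)

theorem tS_mem : tS ∈ trios := trioEnum.mem jT (by decide)

theorem sS_mem : sS ∈ sextets := sextEnum.mem jS (by decide)

/-! ### Elements normalising the subgroup -/

theorem v_fix8 : ∀ p ∈ oct8, v p = p := by
  intro p hp
  unfold oct8 at hp
  rw [mem_dec] at hp
  have h := (allFold_eq_true _ _).mp v_fix (idx p) (idx_lt p)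
  have hp' : m8.testBit (idx p) = true := hp
  rw [hp'] at h
  simp only [Bool.not_true, Bool.false_or, beq_iff_eq] at h
  apply idx_injective
  rw [v_rep p, h]

theorem f5Perm_zero : f5Perm 0 = 1 := by
  apply (repF_of_represents (f5Perm_spec (by norm_num : 0 < 48)).2).unique
  apply RepF.one.congr
  intro i hi
  have := (allFold_eq_true _ _).mp id0_ok i hi
  rw [beq_iff_eq] at this
  exact this.symm

theorem v_ne_one : v ≠ 1 := by
  intro h
  have : f5Perm 1 = f5Perm 0 := by rw [f5Perm_zero]; exact h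
  exact absurd (f5Perm_inj (by norm_num) (by norm_num) this) (by norm_num)

/-- An element of `M24` normalising the subgroup lies in it. -/
theorem mem_of_normalizes {n : Equiv.Perm GolayPt} (hn : n ∈ M24)
    (hnorm : ∀ s ∈ S0, n⁻¹ * s * n ∈ S0) : n ∈ S0 := by
  have key : ∀ {X : Type} [MulAction (Equiv.Perm GolayPt) X] (x : X),
      (∀ s ∈ S0, s • x = x) → ∀ s ∈ S0, s • n • x = n • x := by
    intro X _ x hx s hs
    have h := hx _ (hnorm s hs)
    have e : s * n = n * (n⁻¹ * s * n) := by group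
    rw [← mul_smul, e, mul_smul, h]
  have h8 : n • oct8 = oct8 :=
    fixed_oct (smul_mem_octads hn oct8_mem)
      (key oct8 (fun s hs => (mem_S0_iff.mp hs).2.1))
  have hT : n • tS = tS :=
    fixed_trio (smul_mem_trios hn tS_mem) (key tS (fun s hs => (mem_S0_iff.mp hs).2.2.1))
  have hS : n • sS = sS :=
    fixed_sext (smul_mem_sextets hn sS_mem) (key sS (fun s hs => (mem_S0_iff.mp hs).2.2.2.1))
  -- the conjugate of the involution
  have hw : n * v * n⁻¹ ∈ M24 := M24.mul_mem (M24.mul_mem hn v_spec.1) (M24.inv_mem hn)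
  have hwfix : ∀ p ∈ oct8, (n * v * n⁻¹) p = p := by
    have := Cfsg.Agent.Lib.Helper93_S5615d.fixPts_conj (k := n) v_fix8
    rwa [h8] at this
  obtain ⟨j, hj, hwj⟩ := F5_enum' hw
    (fun i => hwfix _ (Cfsg.Agent.Lib.Helper93_S5615d.bidx_mem_oct8 i))
  have hF := repF_of_represents (f5Perm_spec hj).2
  have hfix : ∀ i < 24, inO i = true → img (f5At j) i = i := by
    intro i hi hin
    have hm : pt i ∈ oct8 := by
      rw [pt_mem_oct8 hi, hin]
      simp
    have := hwfix _ hm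
    rw [hwj, hF.apply_pt i hi] at this
    exact pt_inj (hF.lt i hi) hi this
  have hcomm : ∀ g < nG, commOK (img (f5At j)) (img (get120 gens g)) = true := by
    intro g hg
    obtain ⟨hm, hT⟩ := gen_spec hg
    apply commOK_of_commute hF (repF_of_represents hT)
    have hc := (mem_S0_iff.mp (hnorm _ hm)).2.2.2.2
    show f5Perm j * gen g = gen g * f5Perm j
    rw [← hwj]
    calc n * v * n⁻¹ * gen g = n * (v * (n⁻¹ * gen g * n)) * n⁻¹ := by group
      _ = n * ((n⁻¹ * gen g * n) * v) * n⁻¹ := by rw [hc]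
      _ = gen g * (n * v * n⁻¹) := by group
  have hc := (allFold_eq_true _ _).mp centK_ok j hj
  rw [hfix 5 (by norm_num) rfl, hfix 14 (by norm_num) rfl, hfix 17 (by norm_num) rfl,
    (allFold_eq_true _ _).mpr hcomm] at hc
  simp only [beq_self_eq_true, Bool.and_self, Bool.not_true, Bool.or_false, Bool.or_eq_true,
    beq_iff_eq] at hc
  have hwv : n * v * n⁻¹ = v := by
    rcases hc with hc | hc
    · exfalso
      rw [hc, f5Perm_zero] at hwj
      apply v_ne_one
      have : v = n⁻¹ * (n * v * n⁻¹) * n := by group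
      rw [this, hwj]
      group
    · rw [hwj, hc]
      rfl
  rw [mem_S0_iff]
  refine ⟨hn, h8, hT, hS, ?_⟩
  calc v * n = (n * v * n⁻¹) * n := by rw [hwv]
    _ = n * v := by group

/-! ### The order of the subgroup -/

/-- The elements of the subgroup fixing `∞`. -/
def A0 : Set (Equiv.Perm GolayPt) := {n | n ∈ S0 ∧ n (pt 23) = pt 23}

theorem hT210 : ∀ i < 210, tblInM24 (Ts i) = true := (allFold_eq_true _ _).mp Ts_in

theorem hsig210 : ∀ i < 210, ∀ i' < 210, img (Ts i) 23 = img (Ts i') 23 →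
    img (Ts i) 0 = img (Ts i') 0 → img (Ts i) 1 = img (Ts i') 1 →
    img (Ts i) 2 = img (Ts i') 2 → i = i' := by
  intro i hi i' hi' h23 h0 h1 h2
  have hc := (allFold_eq_true _ _).mp ((allFold_eq_true _ _).mp Ts_sig i hi) i' hi'
  rw [h23, h0, h1, h2] at hc
  simpa using hc

theorem mem8_of_mem {n : Equiv.Perm GolayPt} (h8 : n • oct8 = oct8) {i : ℕ} (hi : i < 24)
    (hin : (isBase i || inO i) = true) : m8.testBit (idx (n (pt i))) = true := by
  have h1 : pt i ∈ oct8 := (pt_mem_oct8 hi).mpr hin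
  have h2 : n (pt i) ∈ oct8 := by
    have := Finset.smul_mem_smul_finset (a := n) h1
    rwa [h8, Equiv.Perm.smul_def] at this
  unfold oct8 at h2
  rwa [mem_dec] at h2

theorem hA1 : ∀ n ∈ A0, n ∈ M24 ∧ ∃ i < 210, n (pt 23) = pt (img (Ts i) 23) ∧
    n (pt 0) = pt (img (Ts i) 0) ∧ n (pt 1) = pt (img (Ts i) 1) ∧
    n (pt 2) = pt (img (Ts i) 2) := by
  rintro n ⟨hn, h23⟩
  obtain ⟨hM, h8, -⟩ := mem_S0_iff.mp hn
  refine ⟨hM, ?_⟩
  have hA8 := mem8_of_mem h8 (i := 0) (by norm_num) rfl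
  have hB8 := mem8_of_mem h8 (i := 1) (by norm_num) rfl
  have hC8 := mem8_of_mem h8 (i := 2) (by norm_num) rfl
  obtain ⟨pa, la⟩ := Cfsg.Agent.Lib.Helper93_S5615d.posOf_spec (idx_lt _) hA8
  obtain ⟨pb, lb⟩ := Cfsg.Agent.Lib.Helper93_S5615d.posOf_spec (idx_lt _) hB8
  obtain ⟨pc, lc⟩ := Cfsg.Agent.Lib.Helper93_S5615d.posOf_spec (idx_lt _) hC8
  have inj : ∀ i j, i < 24 → j < 24 → idx (n (pt i)) = idx (n (pt j)) → i = j := by
    intro i j hi hj hij
    have h1 : n (pt i) = n (pt j) := by rw [← pt_idx (n (pt i)), hij, pt_idx]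
    exact pt_inj hi hj (n.injective h1)
  have h23' : idx (n (pt 23)) = 23 := by rw [h23, idx_pt 23 (by norm_num)]
  have hA0 : idx (n (pt 0)) ≠ 23 := fun e => by
    have := inj 0 23 (by norm_num) (by norm_num) (e.trans h23'.symm)
    omega
  have hB0 : idx (n (pt 1)) ≠ 23 := fun e => by
    have := inj 1 23 (by norm_num) (by norm_num) (e.trans h23'.symm)
    omega
  have hC0 : idx (n (pt 2)) ≠ 23 := fun e => by
    have := inj 2 23 (by norm_num) (by norm_num) (e.trans h23'.symm)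
    omega
  have hAB : posOf (idx (n (pt 0))) ≠ posOf (idx (n (pt 1))) := fun e => by
    have h1 : idx (n (pt 0)) = idx (n (pt 1)) := by rw [← la, e, lb]
    have := inj 0 1 (by norm_num) (by norm_num) h1
    omega
  have hAC : posOf (idx (n (pt 0))) ≠ posOf (idx (n (pt 2))) := fun e => by
    have h1 : idx (n (pt 0)) = idx (n (pt 2)) := by rw [← la, e, lc]
    have := inj 0 2 (by norm_num) (by norm_num) h1
    omega
  have hBC : posOf (idx (n (pt 1))) ≠ posOf (idx (n (pt 2))) := fun e => by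
    have h1 : idx (n (pt 1)) = idx (n (pt 2)) := by rw [← lb, e, lc]
    have := inj 1 2 (by norm_num) (by norm_num) h1
    omega
  obtain ⟨slot, hslot⟩ : ∃ slot, slot = 64 * posOf (idx (n (pt 0))) + 8 * posOf (idx (n (pt 1))) +
    posOf (idx (n (pt 2))) := ⟨_, rfl⟩
  have s1 : slot / 64 = posOf (idx (n (pt 0))) := by omega
  have s2 : slot / 8 % 8 = posOf (idx (n (pt 1))) := by omega
  have s3 : slot % 8 = posOf (idx (n (pt 2))) := by omega
  have hslot512 : slot < 512 := by omega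
  have hvalid : valid slot = true := by
    unfold valid
    rw [s1, s2, s3, la, lb, lc]
    simp [hA0, hB0, hC0, hAB, hAC, hBC]
  have hTs := (allFold_eq_true _ _).mp slot_ok slot hslot512
  rw [hvalid] at hTs
  simp only [Bool.not_true, Bool.false_or, Bool.and_eq_true, beq_iff_eq, decide_eq_true_eq] at hTs
  obtain ⟨⟨⟨⟨hlt, t23⟩, t0⟩, t1⟩, t2⟩ := hTs
  rw [s1, la] at t0
  rw [s2, lb] at t1
  rw [s3, lc] at t2
  exact ⟨slotIdx slot, hlt, by rw [t23]; exact h23, by rw [t0, pt_idx], by rw [t1, pt_idx],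
    by rw [t2, pt_idx]⟩

theorem hA2 : ∀ n ∈ M24, ∀ f, RepF n f → (n ∈ A0 ↔ Pb f = true) := by
  intro n hn f hf
  have hT := represents_tblOf hf
  have h23iff : n (pt 23) = pt 23 ↔ f 23 = 23 := by
    constructor
    · intro h
      have := hf (pt 23)
      rw [h, idx_pt 23 (by norm_num)] at this
      exact this.symm
    · intro h
      rw [hf.apply_pt 23 (by norm_num), h]
  have hin : n ∈ S0 ↔ (inB (tblOf f) = true ∧ commOK f (img vT) = true) := by
    rw [inS0_iff hn hT]
    unfold inS0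
    rw [Bool.and_eq_true]
    have hco : commOK (img (tblOf f)) (img vT) = commOK f (img vT) := by
      have e1 : commOK (img (tblOf f)) (img vT) = true ↔ commOK f (img vT) = true :=
        ⟨fun h => commOK_of_commute hf v_rep
            (mul_comm_of_commOK (repF_of_represents hT) v_rep h),
          fun h => commOK_of_commute (repF_of_represents hT) v_rep
            (mul_comm_of_commOK hf v_rep h)⟩
      exact Bool.eq_iff_iff.mpr e1
    rw [hco]
  unfold Pb
  rw [Bool.and_eq_true, Bool.and_eq_true, Bool.and_eq_true, beq_iff_eq]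
  constructor
  · rintro ⟨hS, h23⟩
    obtain ⟨hB, hC⟩ := hin.mp hS
    refine ⟨⟨⟨h23iff.mp h23, ?_⟩, hC⟩, hB⟩
    have h8 := (mem_S0_iff.mp hS).2.1
    have e : ∀ i, i < 24 → f i = idx (n (pt i)) := fun i hi => by rw [hf (pt i), idx_pt i hi]
    unfold pre
    rw [e 3 (by norm_num), e 5 (by norm_num), e 14 (by norm_num), e 17 (by norm_num),
      mem8_of_mem h8 (i := 3) (by norm_num) rfl, mem8_of_mem h8 (i := 5) (by norm_num) rfl,
      mem8_of_mem h8 (i := 14) (by norm_num) rfl, mem8_of_mem h8 (i := 17) (by norm_num) rfl]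
    rfl
  · rintro ⟨⟨⟨h23, -⟩, hC⟩, hB⟩
    exact ⟨hin.mpr ⟨hB, hC⟩, h23iff.mpr h23⟩

theorem count_all : sumFold (fun i => sumFold (fun m =>
    if Pb (cand4 (Ts i) m) = true then 1 else 0) 960) 210 = 128 :=
  sumFold_chunks7 (fun i => sumFold (fun m =>
    if Pb (cand4 (Ts i) m) = true then 1 else 0) 960) 30 (by norm_num) 128 0 0 0 0 0 0
    Cfsg.Agent.Lib.Helper93_S2882c.count_ok0 Cfsg.Agent.Lib.Helper93_S2882c.count_ok1
    Cfsg.Agent.Lib.Helper93_S2882c.count_ok2 Cfsg.Agent.Lib.Helper93_S2882c.count_ok3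
    Cfsg.Agent.Lib.Helper93_S2882c.count_ok4 Cfsg.Agent.Lib.Helper93_S2882c.count_ok5
    Cfsg.Agent.Lib.Helper93_S2882c.count_ok6

theorem A0_ncard : A0.ncard = 128 := by
  rw [count4 Ts 210 hT210 hsig210 A0 Pb hA1 hA2,
    sumFold_div_mod (fun i m => if Pb (cand4 (Ts i) m) = true then 1 else 0) 960 (by norm_num) 210]
  exact count_all

/-- The subgroup has order `2 ^ 10`. -/
theorem card_S0 : Nat.card S0 = 1024 := by
  have h := card_eq_orbit_mul_stab S0 (pt 23) oct8 ?_ ?_
  · have hA : {n : Equiv.Perm GolayPt | n ∈ S0 ∧ n (pt 23) = pt 23}.ncard = 128 := A0_ncard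
    rw [h, hA, oct8_mem.2]
  · intro h hh
    have h8 := (mem_S0_iff.mp hh).2.1
    have h1 : pt 23 ∈ oct8 := (pt_mem_oct8 (by norm_num)).mpr rfl
    have := Finset.smul_mem_smul_finset (a := h) h1
    rwa [h8, Equiv.Perm.smul_def] at this
  · intro q hq
    have hq' : m8.testBit (idx q) = true := by
      unfold oct8 at hq
      rwa [mem_dec] at hq
    obtain ⟨hp, hl⟩ := Cfsg.Agent.Lib.Helper93_S5615d.posOf_spec (idx_lt q) hq'
    have hc := (allFold_eq_true _ _).mp W_ok _ hp
    rw [Bool.and_eq_true, Bool.and_eq_true, beq_iff_eq] at hc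
    obtain ⟨⟨hin, hS⟩, h23⟩ := hc
    have hs := tblPerm_spec hin
    refine ⟨_, (inS0_iff hs.1 hs.2).mpr hS, ?_⟩
    rw [(repF_of_represents hs.2).apply_pt 23 (by norm_num), h23, hl, pt_idx]

end Cfsg.Agent.Lib.Helper93_S2882b
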