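import Mathlib
import Cfsg.Agent.Lib.Helper93_S1609a
import Cfsg.Agent.Lib.Helper93_S1609b
import Cfsg.Agent.Lib.Helper93_S2882b

/-!
Subgroups of order `40320` of the stabiliser of `∞` in `M24` containing the stabiliser of `∞` in the
Sylow 2-subgroup: they stabilise the octad or a pair of points.
-/

set_option autoImplicit false
open Cfsg
open scoped Pointwise
open Cfsg.Agent.Lib.Helper26_Golay Cfsg.Agent.Lib.Helper93_M24Obj
open Cfsg.Agent.Lib.Helper93_S5615b (m8 posOf lAt)
open Cfsg.Agent.Lib.Helper93_S2882a Cfsg.Agent.Lib.Helper93_S2882b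
open Cfsg.Agent.Lib.Helper93_S1609a Cfsg.Agent.Lib.Helper93_S1609b

namespace Cfsg.Agent.Lib.Helper93_S1609c

/-- The connecting elements. -/
noncomputable def uc (i : ℕ) : Equiv.Perm GolayPt := tblPerm (Uc i)

theorem rep_cases (i : ℕ) : rep i = 23 ∨ rep i = 0 ∨ rep i = 2 ∨ rep i = 1 ∨ rep i = 4 := by
  unfold rep
  split_ifs <;> simp

theorem rep_lt (i : ℕ) : rep i < 24 := by
  rcases rep_cases i with h | h | h | h | h <;> rw [h] <;> norm_num

theorem uc_spec {i : ℕ} (hi : i < 24) :
    uc i ∈ S0 ∧ uc i (pt 23) = pt 23 ∧ uc i (pt (rep i)) = pt i := by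
  have hc := (allFold_eq_true _ _).mp conn_ok i hi
  rw [Bool.and_eq_true, Bool.and_eq_true, Bool.and_eq_true, beq_iff_eq, beq_iff_eq] at hc
  obtain ⟨⟨⟨hin, hS⟩, h23⟩, hr⟩ := hc
  have hs := tblPerm_spec hin
  have hF := repF_of_represents hs.2
  refine ⟨(inS0_iff hs.1 hs.2).mpr hS, ?_, ?_⟩
  · show tblPerm (Uc i) (pt 23) = pt 23
    rw [hF.apply_pt 23 (by norm_num), h23]
  · show tblPerm (Uc i) (pt (rep i)) = pt i
    rw [hF.apply_pt (rep i) (rep_lt i), hr]

/-- The selection function of the complement of the orbit. -/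
def sel (b0 b2 b1 : Bool) (r : ℕ) : Bool :=
  if r == 23 then true else if r == 0 then !b0 else if r == 2 then !b2 else if r == 1 then !b1
  else false

/-- The mask of the complement of the orbit. -/
def cmask (b0 b2 b1 : Bool) : ℕ :=
  2 ^ 23 + (if b0 then 0 else 1) + (if b2 then 0 else 36) +
    (if b1 then 0 else 2 ^ 1 + 2 ^ 3 + 2 ^ 14 + 2 ^ 17)

theorem cmask_ok : ∀ b0 b2 b1 : Bool,
    allFold (fun i => (cmask b0 b2 b1).testBit i == sel b0 b2 b1 (rep i)) 24 = true := by decide

theorem cmask_lt (b0 b2 b1 : Bool) : cmask b0 b2 b1 < 2 ^ 24 := by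
  cases b0 <;> cases b2 <;> cases b1 <;> decide

theorem cmask_fff : cmask false false false = m8 := by decide

/-- The pair of points. -/
def duad : Finset GolayPt := dec 36

theorem duad_ok : allFold (fun i => (2 ^ 23 + 36 : ℕ).testBit i == ((36 : ℕ).testBit i || (i == 23)))
    24 = true := by decide

theorem card_dec {n : ℕ} (hn : n < 2 ^ 24) : (dec n).card = pop n := by
  rw [card_eq_pop, enc_dec n hn]

/-- The main lemma: a subgroup of order `40320` of `M24` fixing `∞` and containing the stabiliser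
of `∞` in the Sylow subgroup stabilises the octad or the pair. -/
theorem main_lemma (K : Subgroup (Equiv.Perm GolayPt)) (hM : K ≤ M24)
    (hfix : ∀ k ∈ K, k (pt 23) = pt 23)
    (hA : ∀ a ∈ S0, a (pt 23) = pt 23 → a ∈ K) (hc : Nat.card K = 40320) :
    (∀ k ∈ K, k • oct8 = oct8) ∨ (∀ k ∈ K, k • duad = duad) := by
  classical
  -- the orbit of the point `4`
  let O : Set GolayPt := {p | ∃ k ∈ K, k (pt 4) = p}
  have hinv : ∀ k ∈ K, ∀ p, k p ∈ O ↔ p ∈ O := by
    intro k hk p
    constructor
    · rintro ⟨k', hk', h⟩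
      refine ⟨k⁻¹ * k', K.mul_mem (K.inv_mem hk) hk', ?_⟩
      rw [Equiv.Perm.mul_apply, h]
      simp
    · rintro ⟨k', hk', h⟩
      exact ⟨k * k', K.mul_mem hk hk', by rw [Equiv.Perm.mul_apply, h]⟩
  have hrep : ∀ i < 24, pt i ∈ O ↔ pt (rep i) ∈ O := by
    intro i hi
    obtain ⟨h1, h2, h3⟩ := uc_spec hi
    rw [← h3]
    exact hinv _ (hA _ h1 h2) _
  have h4 : pt 4 ∈ O := ⟨1, K.one_mem, rfl⟩
  have h23 : pt 23 ∉ O := by
    rintro ⟨k, hk, h⟩
    have h1 := hfix k hk
    have h2 : pt 4 = pt 23 := k.injective (h.trans h1.symm)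
    have := congrArg idx h2
    rw [idx_pt 4 (by norm_num), idx_pt 23 (by norm_num)] at this
    norm_num at this
  -- the size of the orbit divides the order
  have hdvd : O.ncard ∣ 40320 := by
    have horb : MulAction.orbit ↥K (pt 4) = O := by
      ext q
      constructor
      · rintro ⟨k, rfl⟩
        exact ⟨k.1, k.2, rfl⟩
      · rintro ⟨k, hk, rfl⟩
        exact ⟨⟨k, hk⟩, rfl⟩
    have h := Subgroup.card_mul_index (MulAction.stabilizer ↥K (pt 4))
    rw [MulAction.index_stabilizer, horb, hc] at h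
    exact Dvd.intro_left _ h
  -- the complement
  let C : Finset GolayPt := Finset.univ.filter (fun p => p ∉ O)
  have hCmem : ∀ p, p ∈ C ↔ p ∉ O := fun p => by simp [C]
  have hKC : ∀ k ∈ K, k • C = C := by
    intro k hk
    apply smul_eq_of_forall_mem
    intro p hp
    rw [hCmem] at hp ⊢
    rwa [hinv k hk]
  have hsum : C.card + O.ncard = 24 := by
    have h1 : O.ncard = (Finset.univ.filter (fun p => p ∈ O)).card := by
      rw [← Set.ncard_coe_finset]
      congr 1
      ext p
      simp
    rw [h1, add_comm]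
    have := Finset.card_filter_add_card_filter_not (s := (Finset.univ : Finset GolayPt))
      (fun p => p ∈ O)
    rw [this]
    rfl
  obtain ⟨b0, hb0⟩ : ∃ b : Bool, pt 0 ∈ O ↔ b = true := ⟨decide (pt 0 ∈ O), by simp⟩
  obtain ⟨b2, hb2⟩ : ∃ b : Bool, pt 2 ∈ O ↔ b = true := ⟨decide (pt 2 ∈ O), by simp⟩
  obtain ⟨b1, hb1⟩ : ∃ b : Bool, pt 1 ∈ O ↔ b = true := ⟨decide (pt 1 ∈ O), by simp⟩
  have hC : C = dec (cmask b0 b2 b1) := by
    ext p
    rw [hCmem, mem_dec]
    have hi := idx_lt p
    have hp : p = pt (idx p) := (pt_idx p).symm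
    have hck := (allFold_eq_true _ _).mp (cmask_ok b0 b2 b1) (idx p) hi
    rw [beq_iff_eq] at hck
    rw [hck]
    conv_lhs => rw [hp, hrep (idx p) hi]
    rcases rep_cases (idx p) with h | h | h | h | h <;> rw [h]
    · simp [sel, h23]
    · rw [hb0]; cases b0 <;> simp [sel]
    · rw [hb2]; cases b2 <;> simp [sel]
    · rw [hb1]; cases b1 <;> simp [sel]
    · simp [sel, h4]
  have hCcard : C.card = pop (cmask b0 b2 b1) := by
    rw [hC, card_dec (cmask_lt _ _ _)]
  have hfixle : ∀ E : Finset GolayPt, {g : Equiv.Perm GolayPt | g ∈ K ∧ ∀ p ∈ E, g p = p}.ncard ≤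
      (PFix E).ncard := by
    intro E
    apply Set.ncard_le_ncard _ (PFix_finite E)
    rintro g ⟨hg, hgE⟩
    exact ⟨hM hg, hgE⟩
  cases b0 <;> cases b2 <;> cases b1
  · -- the octad
    left
    intro k hk
    have := hKC k hk
    rw [hC, cmask_fff] at this
    exact this
  · -- four points
    exfalso
    have h4c : C.card = 4 := by rw [hCcard]; decide
    have hb := card_le_of_stab K C hKC 960 ((hfixle C).trans (ncard_Fix4 C h4c).le)
    rw [hc, h4c] at hb
    norm_num [Nat.factorial] at hb
  · -- six points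
    exfalso
    have h6c : C.card = 6 := by rw [hCcard]; decide
    have hb := card_le_of_stab K C hKC 48
      ((hfixle C).trans (ncard_Fix_le48 C (by rw [h6c]; norm_num)))
    rw [hc, h6c] at hb
    norm_num [Nat.factorial] at hb
  · exfalso
    have h2c : C.card = 2 := by rw [hCcard]; decide
    have : O.ncard = 22 := by omega
    rw [this] at hdvd
    norm_num at hdvd
  · exfalso
    have h7c : C.card = 7 := by rw [hCcard]; decide
    have : O.ncard = 17 := by omega
    rw [this] at hdvd
    norm_num at hdvd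
  · -- the pair
    right
    intro k hk
    have hkC := hKC k hk
    apply smul_eq_of_forall_mem
    intro p hp
    have hpC : p ∈ C := by
      rw [hC, mem_dec]
      unfold duad at hp
      rw [mem_dec] at hp
      have := (allFold_eq_true _ _).mp duad_ok (idx p) (idx_lt p)
      rw [beq_iff_eq] at this
      show (2 ^ 23 + 0 + 36 + 0 : ℕ).testBit (idx p) = true
      rw [show (2 ^ 23 + 0 + 36 + 0 : ℕ) = 2 ^ 23 + 36 by norm_num, this, hp]
      rfl
    have hkp : k p ∈ C := (apply_mem_iff_of_smul_eq hkC p).mpr hpC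
    rw [hC, mem_dec] at hkp
    have hkp' : (2 ^ 23 + 36 : ℕ).testBit (idx (k p)) = true := by
      have e : cmask true false true = 2 ^ 23 + 36 := by decide
      rwa [e] at hkp
    have := (allFold_eq_true _ _).mp duad_ok (idx (k p)) (idx_lt _)
    rw [beq_iff_eq, hkp'] at this
    have hor := this.symm
    rw [Bool.or_eq_true, beq_iff_eq] at hor
    rcases hor with hor | hor
    · unfold duad
      rw [mem_dec]
      exact hor
    · exfalso
      have h1 : k p = pt 23 := by rw [← pt_idx (k p), hor]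
      have h2 : p = pt 23 := k.injective (h1.trans (hfix k hk).symm)
      unfold duad at hp
      rw [mem_dec, h2, idx_pt 23 (by norm_num)] at hp
      revert hp
      decide
  · exfalso
    have h5c : C.card = 5 := by rw [hCcard]; decide
    have : O.ncard = 19 := by omega
    rw [this] at hdvd
    norm_num at hdvd
  · exfalso
    have h1c : C.card = 1 := by rw [hCcard]; decide
    have : O.ncard = 23 := by omega
    rw [this] at hdvd
    norm_num at hdvd

end Cfsg.Agent.Lib.Helper93_S1609c
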