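import Mathlib
import Cfsg.Agent.Lib.Helper93_S1609c
import Cfsg.Agent.S2882

/-!
Reduction of a subgroup of order `40320` of a point stabiliser of `M24` to the standard position:
a Sylow 2-subgroup of it is conjugate to the stabiliser of `∞` in the standard Sylow 2-subgroup.
-/

set_option autoImplicit false
open Cfsg
open scoped Pointwise
open Cfsg.Agent.Lib.Helper26_Golay Cfsg.Agent.Lib.Helper93_M24Obj
open Cfsg.Agent.Lib.Helper93_S5615b (m8 posOf lAt)
open Cfsg.Agent.Lib.Helper93_S2882a Cfsg.Agent.Lib.Helper93_S2882b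
open Cfsg.Agent.Lib.Helper93_S1609a Cfsg.Agent.Lib.Helper93_S1609b Cfsg.Agent.Lib.Helper93_S1609c

namespace Cfsg.Agent.Lib.Helper93_S1609d

theorem inv_app (f : Equiv.Perm GolayPt) (x : GolayPt) : f⁻¹ (f x) = x :=
  Equiv.Perm.inv_eq_iff_eq.mpr rfl

theorem mem_oct8_iff (p : GolayPt) : p ∈ oct8 ↔ m8.testBit (idx p) = true := by
  unfold oct8
  rw [mem_dec]
  rfl

theorem exists_S0_map {q : GolayPt} (hq : q ∈ oct8) : ∃ w ∈ S0, w (pt 23) = q := by
  have hq' : m8.testBit (idx q) = true := (mem_oct8_iff q).mp hq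
  obtain ⟨hp, hl⟩ := Cfsg.Agent.Lib.Helper93_S5615d.posOf_spec (idx_lt q) hq'
  have hc := (allFold_eq_true _ _).mp W_ok _ hp
  rw [Bool.and_eq_true, Bool.and_eq_true, beq_iff_eq] at hc
  obtain ⟨⟨hin, hS⟩, h23⟩ := hc
  have hs := tblPerm_spec hin
  refine ⟨_, (inS0_iff hs.1 hs.2).mpr hS, ?_⟩
  rw [(repF_of_represents hs.2).apply_pt 23 (by norm_num), h23, hl, pt_idx]

theorem S0_pres {s : Equiv.Perm GolayPt} (hs : s ∈ S0) (p : GolayPt) : s p ∈ oct8 ↔ p ∈ oct8 :=
  apply_mem_iff_of_smul_eq (mem_S0_iff.mp hs).2.1 p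

theorem rep_eq_four {p : GolayPt} (hp : p ∉ oct8) : rep (idx p) = 4 := by
  have h := (allFold_eq_true _ _).mp rep_oct (idx p) (idx_lt p)
  rw [beq_iff_eq] at h
  rw [mem_oct8_iff, Bool.not_eq_true] at hp
  rw [hp] at h
  simpa using h

/-- The stabiliser in the Sylow subgroup of a point off the octad has order `64`. -/
theorem ncard_stab_off {x : GolayPt} (hx : x ∉ oct8) :
    {n : Equiv.Perm GolayPt | n ∈ S0 ∧ n x = x}.ncard = 64 := by
  have h := card_eq_orbit_mul_stab S0 x oct8ᶜ ?_ ?_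
  · rw [card_S0, Finset.card_compl, oct8_mem.2] at h
    have : Fintype.card GolayPt = 24 := rfl
    rw [this] at h
    omega
  · intro s hs
    rw [Finset.mem_compl, S0_pres hs]
    exact hx
  · intro q hq
    rw [Finset.mem_compl] at hq
    obtain ⟨a1, _, a3⟩ := uc_spec (idx_lt x)
    obtain ⟨b1, _, b3⟩ := uc_spec (idx_lt q)
    rw [rep_eq_four hx, pt_idx] at a3
    rw [rep_eq_four hq, pt_idx] at b3
    refine ⟨uc (idx q) * (uc (idx x))⁻¹, S0.mul_mem b1 (S0.inv_mem a1), ?_⟩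
    have e : (uc (idx x))⁻¹ x = pt 4 := by
      rw [Equiv.Perm.inv_eq_iff_eq]
      exact a3.symm
    rw [Equiv.Perm.mul_apply, e]
    exact b3

theorem fact2' : (40320 : ℕ).factorization 2 = 7 := by
  have h : (40320 : ℕ) = 2 ^ 7 * 315 := by norm_num
  rw [h, Nat.factorization_mul (by norm_num) (by norm_num),
    Nat.Prime.factorization_pow Nat.prime_two]
  simp [Nat.factorization_eq_zero_of_not_dvd (show ¬ 2 ∣ 315 by norm_num)]

/-- A subgroup of order `40320` of `M24` contains a subgroup of order `128` which is conjugate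
in `M24` into the standard Sylow 2-subgroup. -/
theorem exists_conj_into_S0 (K : Subgroup (Equiv.Perm GolayPt)) (hK : K ≤ M24)
    (hc : Nat.card K = 40320) :
    ∃ g ∈ M24, ∃ T : Set (Equiv.Perm GolayPt), T ⊆ K ∧ T.ncard = 128 ∧
      ∀ t ∈ T, g * t * g⁻¹ ∈ S0 := by
  have : Fact (Nat.Prime 2) := ⟨Nat.prime_two⟩
  let K' : Subgroup ↥M24 := K.subgroupOf M24
  have hK' : Nat.card ↥K' = 40320 := by
    rw [Nat.card_congr (Subgroup.subgroupOfEquivOfLe hK).toEquiv, hc]
  have : Finite ↥K' := Nat.finite_of_card_ne_zero (by rw [hK']; norm_num)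
  obtain ⟨P⟩ : Nonempty (Sylow 2 ↥K') := inferInstance
  have hP : Nat.card ↥(P : Subgroup ↥K') = 128 := by
    rw [Sylow.card_eq_multiplicity, hK', fact2']
    norm_num
  let T' : Subgroup ↥M24 := (P : Subgroup ↥K').map K'.subtype
  have hT'card : Nat.card ↥T' = 128 := by
    rw [Subgroup.card_map_of_injective K'.subtype_injective, hP]
  have hT'le : T' ≤ K' := Subgroup.map_subtype_le _
  have hT'2 : IsPGroup 2 ↥T' := P.isPGroup'.map _
  obtain ⟨Q, hQ⟩ := hT'2.exists_le_sylow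
  let P0 : Sylow 2 ↥M24 := Sylow.ofCard Cfsg.Agent.S2882.S0'
    (by rw [Cfsg.Agent.S2882.card_S0', Cfsg.Agent.S0364.result, Cfsg.Agent.S2882.fact2]; norm_num)
  obtain ⟨g, hg⟩ := MulAction.exists_smul_eq ↥M24 Q P0
  refine ⟨g.1, g.2, (fun t : ↥M24 => (t : Equiv.Perm GolayPt)) '' (T' : Set ↥M24), ?_, ?_, ?_⟩
  · rintro _ ⟨t, ht, rfl⟩
    exact Subgroup.mem_subgroupOf.mp (hT'le ht)
  · rw [Set.ncard_image_of_injective _ Subtype.val_injective]
    exact hT'card
  · rintro _ ⟨t, ht, rfl⟩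
    have h1 : g * t * g⁻¹ ∈ (MulAut.conj g • (Q : Subgroup ↥M24) : Subgroup ↥M24) := by
      rw [Cfsg.Agent.S2882.mem_conj_smul]
      have e : g⁻¹ * (g * t * g⁻¹) * g = t := by group
      rw [e]
      exact hQ ht
    rw [← Sylow.coe_subgroup_smul, hg] at h1
    exact Subgroup.mem_subgroupOf.mp h1

/-- The reduction: a subgroup of order `40320` of `M24` fixing a point is conjugate to one fixing
`∞` and containing the stabiliser of `∞` in the standard Sylow 2-subgroup. -/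
theorem reduction (K : Subgroup (Equiv.Perm GolayPt)) (hK : K ≤ M24) (x : GolayPt)
    (hx : ∀ k ∈ K, k x = x) (hc : Nat.card K = 40320) :
    ∃ g ∈ M24, g x = pt 23 ∧ ∀ a ∈ S0, a (pt 23) = pt 23 → g⁻¹ * a * g ∈ K := by
  obtain ⟨g1, hg1, T, hTK, hTc, hTS⟩ := exists_conj_into_S0 K hK hc
  have hTfin : T.Finite := Set.toFinite _
  -- the point `g1 x` lies on the octad
  have hx1 : g1 x ∈ oct8 := by
    by_contra hcon
    have h64 := ncard_stab_off hcon
    have hsub : (fun t => g1 * t * g1⁻¹) '' T ⊆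
        {n : Equiv.Perm GolayPt | n ∈ S0 ∧ n (g1 x) = g1 x} := by
      rintro _ ⟨t, ht, rfl⟩
      refine ⟨hTS t ht, ?_⟩
      show (g1 * t * g1⁻¹) (g1 x) = g1 x
      rw [Equiv.Perm.mul_apply, Equiv.Perm.mul_apply, inv_app, hx t (hTK ht)]
    have hle := Set.ncard_le_ncard hsub (Set.toFinite _)
    have hinj : Function.Injective (fun t : Equiv.Perm GolayPt => g1 * t * g1⁻¹) := by
      intro a b hab
      simpa using hab
    rw [Set.ncard_image_of_injective _ hinj, hTc, h64] at hle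
    norm_num at hle
  obtain ⟨w, hw, hw23⟩ := exists_S0_map hx1
  refine ⟨w⁻¹ * g1, M24.mul_mem (M24.inv_mem (S0_le hw)) hg1, ?_, ?_⟩
  · rw [Equiv.Perm.mul_apply, Equiv.Perm.inv_eq_iff_eq]
    exact hw23.symm
  · -- the conjugate of `T` is the whole stabiliser
    let g := w⁻¹ * g1
    have hgx : g x = pt 23 := by
      show (w⁻¹ * g1) x = pt 23
      rw [Equiv.Perm.mul_apply, Equiv.Perm.inv_eq_iff_eq]
      exact hw23.symm
    have hsub : (fun t => g * t * g⁻¹) '' T ⊆ A0 := by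
      rintro _ ⟨t, ht, rfl⟩
      refine ⟨?_, ?_⟩
      · have e : g * t * g⁻¹ = w⁻¹ * (g1 * t * g1⁻¹) * w := by
          show w⁻¹ * g1 * t * (w⁻¹ * g1)⁻¹ = _
          group
        show g * t * g⁻¹ ∈ S0
        rw [e]
        exact S0.mul_mem (S0.mul_mem (S0.inv_mem hw) (hTS t ht)) hw
      · show (g * t * g⁻¹) (pt 23) = pt 23
        rw [← hgx, Equiv.Perm.mul_apply, Equiv.Perm.mul_apply, inv_app,
          hx t (hTK ht)]
    have hinj : Function.Injective (fun t : Equiv.Perm GolayPt => g * t * g⁻¹) := by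
      intro a b hab
      simpa using hab
    have heq : (fun t => g * t * g⁻¹) '' T = A0 := by
      apply Set.eq_of_subset_of_ncard_le hsub _ (Set.toFinite _)
      rw [Set.ncard_image_of_injective _ hinj, hTc, A0_ncard]
    intro a ha ha23
    have haA : a ∈ A0 := ⟨ha, ha23⟩
    rw [← heq] at haA
    obtain ⟨t, ht, rfl⟩ := haA
    have e : g⁻¹ * (g * t * g⁻¹) * g = t := by group
    show g⁻¹ * (g * t * g⁻¹) * g ∈ K
    rw [e]
    exact hTK ht

end Cfsg.Agent.Lib.Helper93_S1609d
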