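import Mathlib
import Cfsg.Agent.Lib.Helper93_S1609d
import Cfsg.Agent.Lib.Helper26_M24Act

/-!
Subgroups of order `40320` of a point stabiliser of `M24`.
-/

set_option autoImplicit false
open Cfsg
open scoped Pointwise
open Cfsg.Agent.Lib.Helper26_Golay Cfsg.Agent.Lib.Helper93_M24Obj
open Cfsg.Agent.Lib.Helper93_S2882b
open Cfsg.Agent.Lib.Helper93_S1609b Cfsg.Agent.Lib.Helper93_S1609c Cfsg.Agent.Lib.Helper93_S1609d

namespace Cfsg.Agent.Lib.Helper93_S1609e

theorem pt23_mem_oct8 : pt 23 ∈ oct8 := (pt_mem_oct8 (by norm_num)).mpr rfl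

theorem duad_card : duad.card = 2 := by
  unfold duad
  rw [card_dec (by norm_num)]
  decide

theorem pt23_notMem_duad : pt 23 ∉ duad := by
  unfold duad
  rw [mem_dec, idx_pt 23 (by norm_num)]
  decide

/-- The order of the stabiliser of a point and a pair of points. -/
theorem ncard_stab_duad_le (x : GolayPt) (s : Finset GolayPt) (hs : s.card = 2) (hx : x ∉ s) :
    {g : Equiv.Perm GolayPt | g ∈ M24 ∧ g x = x ∧ g • s = s}.ncard ≤ 40320 := by
  let L : Subgroup (Equiv.Perm GolayPt) :=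
    M24 ⊓ (MulAction.stabilizer (Equiv.Perm GolayPt) x ⊓ MulAction.stabilizer (Equiv.Perm GolayPt) s)
  have hL : ∀ g, g ∈ L ↔ g ∈ M24 ∧ g x = x ∧ g • s = s := by
    intro g
    simp only [L, Subgroup.mem_inf, MulAction.mem_stabilizer_iff, Equiv.Perm.smul_def]
  have hset : {g : Equiv.Perm GolayPt | g ∈ M24 ∧ g x = x ∧ g • s = s} = (L : Set _) := by
    ext g
    exact (hL g).symm
  have hb := card_le_of_stab L s (fun k hk => ((hL k).mp hk).2.2) 20160 ?_
  · rw [hset]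
    rw [hs] at hb
    have : Nat.card ↥L = (L : Set (Equiv.Perm GolayPt)).ncard := (Nat.card_coe_set_eq _)
    rw [← this]
    norm_num [Nat.factorial] at hb
    exact hb
  · have h3 : (insert x s).card = 3 := by rw [Finset.card_insert_of_notMem hx, hs]
    rw [← ncard_Fix3 (insert x s) h3]
    apply Set.ncard_le_ncard _ (PFix_finite _)
    rintro g ⟨hg, hgs⟩
    refine ⟨((hL g).mp hg).1, ?_⟩
    intro p hp
    rcases Finset.mem_insert.mp hp with rfl | hp
    · exact ((hL g).mp hg).2.1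
    · exact hgs p hp

/-- Subgroups of order `40320` of a point stabiliser in `M24`. -/
theorem perm_main (K : Subgroup (Equiv.Perm GolayPt)) (hK : K ≤ M24) (x : GolayPt)
    (hx : ∀ k ∈ K, k x = x) (hc : Nat.card K = 40320) :
    (∃ s : Finset GolayPt, s.card = 2 ∧ x ∉ s ∧
      ∀ g, g ∈ K ↔ g ∈ M24 ∧ g x = x ∧ g • s = s) ∨
    (∃ o ∈ octads, x ∈ o ∧ ∀ g, g ∈ K ↔ g ∈ M24 ∧ g x = x ∧ g • o = o) := by
  obtain ⟨g0, hg0, hg0x, hA⟩ := reduction K hK x hx hc
  have hg0inv : g0⁻¹ (pt 23) = x := by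
    rw [Equiv.Perm.inv_eq_iff_eq]; exact hg0x.symm
  let K1 : Subgroup (Equiv.Perm GolayPt) := K.map (MulAut.conj g0).toMonoidHom
  have hK1mem : ∀ y, y ∈ K1 ↔ ∃ k ∈ K, g0 * k * g0⁻¹ = y := by
    intro y
    simp only [K1, Subgroup.mem_map, MulEquiv.coe_toMonoidHom, MulAut.conj_apply]
  have hK1card : Nat.card ↥K1 = 40320 := by
    rw [Subgroup.card_map_of_injective (MulAut.conj g0).injective, hc]
  have hK1M : K1 ≤ M24 := by
    intro y hy
    obtain ⟨k, hk, rfl⟩ := (hK1mem y).mp hy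
    exact M24.mul_mem (M24.mul_mem hg0 (hK hk)) (M24.inv_mem hg0)
  have hK1fix : ∀ y ∈ K1, y (pt 23) = pt 23 := by
    intro y hy
    obtain ⟨k, hk, rfl⟩ := (hK1mem y).mp hy
    rw [Equiv.Perm.mul_apply, Equiv.Perm.mul_apply, hg0inv, hx k hk, hg0x]
  have hK1A : ∀ a ∈ S0, a (pt 23) = pt 23 → a ∈ K1 := by
    intro a ha ha23
    rw [hK1mem]
    refine ⟨g0⁻¹ * a * g0, hA a ha ha23, ?_⟩
    group
  have hKfin : (K : Set (Equiv.Perm GolayPt)).Finite := Set.toFinite _
  have hKncard : (K : Set (Equiv.Perm GolayPt)).ncard = 40320 := by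
    rw [← hc]; exact (Nat.card_coe_set_eq _).symm
  -- transport of an invariant set
  have htrans : ∀ E : Finset GolayPt, (∀ y ∈ K1, y • E = E) → ∀ k ∈ K, k • (g0⁻¹ • E) = g0⁻¹ • E := by
    intro E hE k hk
    have h1 := hE (g0 * k * g0⁻¹) ((hK1mem _).mpr ⟨k, hk, rfl⟩)
    rw [mul_smul, mul_smul] at h1
    have h2 := congrArg (fun F : Finset GolayPt => g0⁻¹ • F) h1
    simpa only [inv_smul_smul] using h2
  rcases main_lemma K1 hK1M hK1fix hK1A hK1card with h | h
  · right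
    refine ⟨g0⁻¹ • oct8, smul_mem_octads (M24.inv_mem hg0) oct8_mem, ?_, ?_⟩
    · rw [← hg0inv]
      exact Finset.smul_mem_smul_finset pt23_mem_oct8
    · have ho : g0⁻¹ • oct8 ∈ octads := smul_mem_octads (M24.inv_mem hg0) oct8_mem
      have hxo : x ∈ g0⁻¹ • oct8 := by
        rw [← hg0inv]
        exact Finset.smul_mem_smul_finset pt23_mem_oct8
      have hsub : (K : Set (Equiv.Perm GolayPt)) ⊆
          {g : Equiv.Perm GolayPt | g ∈ M24 ∧ g x = x ∧ g • (g0⁻¹ • oct8) = g0⁻¹ • oct8} :=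
        fun k hk => ⟨hK hk, hx k hk, htrans oct8 h k hk⟩
      have heq := Set.eq_of_subset_of_ncard_le hsub
        (by rw [hKncard, ncard_stab_oct_pt ho hxo]) (Set.toFinite _)
      intro g
      exact ⟨fun hg => hsub hg, fun hg => by rw [← SetLike.mem_coe, heq]; exact hg⟩
  · left
    have hsc : (g0⁻¹ • duad).card = 2 := by rw [Finset.card_smul_finset, duad_card]
    have hxs : x ∉ g0⁻¹ • duad := by
      intro hcon
      rw [← hg0inv, ← Equiv.Perm.smul_def, Finset.smul_mem_smul_finset_iff] at hcon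
      exact pt23_notMem_duad hcon
    refine ⟨g0⁻¹ • duad, hsc, hxs, ?_⟩
    have hsub : (K : Set (Equiv.Perm GolayPt)) ⊆
        {g : Equiv.Perm GolayPt | g ∈ M24 ∧ g x = x ∧ g • (g0⁻¹ • duad) = g0⁻¹ • duad} :=
      fun k hk => ⟨hK hk, hx k hk, htrans duad h k hk⟩
    have heq := Set.eq_of_subset_of_ncard_le hsub
      (by rw [hKncard]; exact ncard_stab_duad_le x _ hsc hxs) (Set.toFinite _)
    intro g
    exact ⟨fun hg => hsub hg, fun hg => by rw [← SetLike.mem_coe, heq]; exact hg⟩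

end Cfsg.Agent.Lib.Helper93_S1609e
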