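import Mathlib
import Cfsg.Agent.Lib.Helper93_S1589a
import Cfsg.Agent.Lib.Helper93_S1609e

/-!
Subgroups of `M24` whose order is divisible by `1024`: conjugation into the standard position,
transitivity, the orbits of the stabiliser of `∞`, and the block lemma.
-/

set_option autoImplicit false
open Cfsg
open scoped Pointwise
open Cfsg.Agent.Lib.Helper26_Golay Cfsg.Agent.Lib.Helper93_M24Obj
open Cfsg.Agent.Lib.Helper93_S5615b (m8 posOf lAt)
open Cfsg.Agent.Lib.Helper93_S2882a Cfsg.Agent.Lib.Helper93_S2882b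
open Cfsg.Agent.Lib.Helper93_S1609a Cfsg.Agent.Lib.Helper93_S1609b Cfsg.Agent.Lib.Helper93_S1609c
open Cfsg.Agent.Lib.Helper93_S1609d

namespace Cfsg.Agent.Lib.Helper93_S1589

/-- A subgroup of `M24` of order divisible by `1024` contains a conjugate of the standard Sylow
2-subgroup. -/
theorem exists_conj_S0_le (K : Subgroup (Equiv.Perm GolayPt)) (hK : K ≤ M24)
    (hd : 1024 ∣ Nat.card ↥K) :
    ∃ g ∈ M24, ∀ s ∈ S0, g⁻¹ * s * g ∈ K := by
  have : Fact (Nat.Prime 2) := ⟨Nat.prime_two⟩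
  let K' : Subgroup ↥M24 := K.subgroupOf M24
  have hK' : Nat.card ↥K' = Nat.card ↥K :=
    Nat.card_congr (Subgroup.subgroupOfEquivOfLe hK).toEquiv
  obtain ⟨T0, hT0⟩ := Sylow.exists_subgroup_card_pow_prime (G := ↥K') 2 (n := 10)
    (by rw [hK']; exact hd)
  let T' : Subgroup ↥M24 := T0.map K'.subtype
  have hT'card : Nat.card ↥T' = 2 ^ 10 := by
    rw [Subgroup.card_map_of_injective K'.subtype_injective, hT0]
  have hT'le : T' ≤ K' := Subgroup.map_subtype_le _
  have hT'2 : IsPGroup 2 ↥T' := IsPGroup.of_card hT'card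
  obtain ⟨Q, hQ⟩ := hT'2.exists_le_sylow
  let P0 : Sylow 2 ↥M24 := Sylow.ofCard Cfsg.Agent.S2882.S0'
    (by rw [Cfsg.Agent.S2882.card_S0', Cfsg.Agent.S0364.result, Cfsg.Agent.S2882.fact2]; norm_num)
  obtain ⟨g, hg⟩ := MulAction.exists_smul_eq ↥M24 Q P0
  refine ⟨g.1, g.2, ?_⟩
  let T : Set (Equiv.Perm GolayPt) := (fun t : ↥M24 => (t : Equiv.Perm GolayPt)) '' (T' : Set ↥M24)
  have hTK : T ⊆ K := by
    rintro _ ⟨t, ht, rfl⟩
    exact Subgroup.mem_subgroupOf.mp (hT'le ht)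
  have hTc : T.ncard = 1024 := by
    rw [Set.ncard_image_of_injective _ Subtype.val_injective]
    exact hT'card
  have hTS : ∀ t ∈ T, g.1 * t * g.1⁻¹ ∈ S0 := by
    rintro _ ⟨t, ht, rfl⟩
    have h1 : g * t * g⁻¹ ∈ (MulAut.conj g • (Q : Subgroup ↥M24) : Subgroup ↥M24) := by
      rw [Cfsg.Agent.S2882.mem_conj_smul]
      have e : g⁻¹ * (g * t * g⁻¹) * g = t := by group
      rw [e]
      exact hQ ht
    rw [← Sylow.coe_subgroup_smul, hg] at h1
    exact Subgroup.mem_subgroupOf.mp h1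
  have hinj : Function.Injective (fun t : Equiv.Perm GolayPt => g.1 * t * g.1⁻¹) := by
    intro a b hab
    simpa using hab
  have hsub : (fun t => g.1 * t * g.1⁻¹) '' T ⊆ (S0 : Set (Equiv.Perm GolayPt)) := by
    rintro _ ⟨t, ht, rfl⟩
    exact hTS t ht
  have hS0c : (S0 : Set (Equiv.Perm GolayPt)).ncard = 1024 := by
    rw [← card_S0]
    exact (Nat.card_coe_set_eq _).symm
  have heq : (fun t => g.1 * t * g.1⁻¹) '' T = (S0 : Set (Equiv.Perm GolayPt)) := by
    apply Set.eq_of_subset_of_ncard_le hsub _ (Set.toFinite _)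
    rw [Set.ncard_image_of_injective _ hinj, hTc, hS0c]
  intro s hs
  have hs' : s ∈ (S0 : Set (Equiv.Perm GolayPt)) := hs
  rw [← heq] at hs'
  obtain ⟨t, ht, rfl⟩ := hs'
  have e : g.1⁻¹ * (g.1 * t * g.1⁻¹) * g.1 = t := by group
  show g.1⁻¹ * (g.1 * t * g.1⁻¹) * g.1 ∈ K
  rw [e]
  exact hTK ht

/-- The standard Sylow subgroup is transitive on the complement of the octad. -/
theorem exists_S0_map_off {x q : GolayPt} (hx : x ∉ oct8) (hq : q ∉ oct8) :
    ∃ u ∈ S0, u x = q := by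
  obtain ⟨a1, _, a3⟩ := uc_spec (idx_lt x)
  obtain ⟨b1, _, b3⟩ := uc_spec (idx_lt q)
  rw [rep_eq_four hx, pt_idx] at a3
  rw [rep_eq_four hq, pt_idx] at b3
  refine ⟨uc (idx q) * (uc (idx x))⁻¹, S0.mul_mem b1 (S0.inv_mem a1), ?_⟩
  have e : (uc (idx x))⁻¹ x = pt 4 := by
    rw [Equiv.Perm.inv_eq_iff_eq]
    exact a3.symm
  rw [Equiv.Perm.mul_apply, e]
  exact b3

/-- A subgroup containing the standard Sylow subgroup stabilises the octad or is transitive. -/
theorem pres_or_trans (K : Subgroup (Equiv.Perm GolayPt)) (hS : S0 ≤ K) :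
    (∀ k ∈ K, k • oct8 = oct8) ∨ ∀ x, ∃ k ∈ K, k (pt 23) = x := by
  by_cases h : ∀ k ∈ K, k • oct8 = oct8
  · left; exact h
  right
  push Not at h
  obtain ⟨k, hk, hk8⟩ := h
  obtain ⟨p, hp, hkp⟩ : ∃ p ∈ oct8, k p ∉ oct8 := by
    by_contra hcon
    push Not at hcon
    exact hk8 (smul_eq_of_forall_mem hcon)
  obtain ⟨w, hw, hw23⟩ := exists_S0_map hp
  intro x
  by_cases hx : x ∈ oct8
  · obtain ⟨w', hw', hw'23⟩ := exists_S0_map hx
    exact ⟨w', hS hw', hw'23⟩
  · obtain ⟨u, hu, hux⟩ := exists_S0_map_off hkp hx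
    refine ⟨u * k * w, K.mul_mem (K.mul_mem (hS hu) hk) (hS hw), ?_⟩
    rw [Equiv.Perm.mul_apply, Equiv.Perm.mul_apply, hw23, hux]

/-- The order of a transitive subgroup. -/
theorem card_of_trans (K : Subgroup (Equiv.Perm GolayPt)) (a : GolayPt)
    (ht : ∀ x, ∃ k ∈ K, k a = x) :
    Nat.card ↥K = 24 * Nat.card ↥(stabP K a) := by
  obtain ⟨X, hX, hc⟩ := exists_orbit K a
  have : X = Finset.univ := by
    ext x
    simp only [Finset.mem_univ, iff_true]
    exact (hX x).mpr (ht x)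
  rw [this, card_univ_golay] at hc
  exact hc

/-- The orbits of a subgroup fixing `∞` and containing the stabiliser of `∞` in the standard Sylow
subgroup: the complement of the orbit of the point `4`. -/
theorem orbit_cases (K : Subgroup (Equiv.Perm GolayPt))
    (hfix : ∀ k ∈ K, k (pt 23) = pt 23)
    (hA : ∀ a ∈ S0, a (pt 23) = pt 23 → a ∈ K) :
    ∃ b0 b2 b1 : Bool, (∀ k ∈ K, k • dec (cmask b0 b2 b1) = dec (cmask b0 b2 b1)) ∧
      (24 - pop (cmask b0 b2 b1)) ∣ Nat.card ↥K ∧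
      (∀ p, p ∉ dec (cmask b0 b2 b1) → ∃ k ∈ K, k (pt 4) = p) ∧
      (∀ p, p ∈ dec (cmask b0 b2 b1) → ∀ k ∈ K, k (pt 4) ≠ p) := by
  classical
  -- the orbit of the point `4`
  let O : Set GolayPt := {p | ∃ k ∈ K, k (pt 4) = p}
  have hinv : ∀ k ∈ K, ∀ p, k p ∈ O ↔ p ∈ O := by
    intro k hk p
    constructor
    · rintro ⟨k', hk', h⟩
      refine ⟨k⁻¹ * k', K.mul_mem (K.inv_mem hk) hk', ?_⟩
      rw [Equiv.Perm.mul_apply, h]
      simp
    · rintro ⟨k', hk', h⟩
      exact ⟨k * k', K.mul_mem hk hk', by rw [Equiv.Perm.mul_apply, h]⟩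
  have hrep : ∀ i < 24, pt i ∈ O ↔ pt (rep i) ∈ O := by
    intro i hi
    obtain ⟨h1, h2, h3⟩ := uc_spec hi
    rw [← h3]
    exact hinv _ (hA _ h1 h2) _
  have h4 : pt 4 ∈ O := ⟨1, K.one_mem, rfl⟩
  have h23 : pt 23 ∉ O := by
    rintro ⟨k, hk, h⟩
    have h1 := hfix k hk
    have h2 : pt 4 = pt 23 := k.injective (h.trans h1.symm)
    have := congrArg idx h2
    rw [idx_pt 4 (by norm_num), idx_pt 23 (by norm_num)] at this
    norm_num at this
  -- the size of the orbit divides the order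
  have hdvd : O.ncard ∣ Nat.card ↥K := by
    have horb : MulAction.orbit ↥K (pt 4) = O := by
      ext q
      constructor
      · rintro ⟨k, rfl⟩
        exact ⟨k.1, k.2, rfl⟩
      · rintro ⟨k, hk, rfl⟩
        exact ⟨⟨k, hk⟩, rfl⟩
    have h := Subgroup.card_mul_index (MulAction.stabilizer ↥K (pt 4))
    rw [MulAction.index_stabilizer, horb] at h
    exact Dvd.intro_left _ h
  -- the complement
  let C : Finset GolayPt := Finset.univ.filter (fun p => p ∉ O)
  have hCmem : ∀ p, p ∈ C ↔ p ∉ O := fun p => by simp [C]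
  have hKC : ∀ k ∈ K, k • C = C := by
    intro k hk
    apply smul_eq_of_forall_mem
    intro p hp
    rw [hCmem] at hp ⊢
    rwa [hinv k hk]
  have hsum : C.card + O.ncard = 24 := by
    have h1 : O.ncard = (Finset.univ.filter (fun p => p ∈ O)).card := by
      rw [← Set.ncard_coe_finset]
      congr 1
      ext p
      simp
    rw [h1, add_comm]
    have := Finset.card_filter_add_card_filter_not (s := (Finset.univ : Finset GolayPt))
      (fun p => p ∈ O)
    rw [this]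
    rfl
  obtain ⟨b0, hb0⟩ : ∃ b : Bool, pt 0 ∈ O ↔ b = true := ⟨decide (pt 0 ∈ O), by simp⟩
  obtain ⟨b2, hb2⟩ : ∃ b : Bool, pt 2 ∈ O ↔ b = true := ⟨decide (pt 2 ∈ O), by simp⟩
  obtain ⟨b1, hb1⟩ : ∃ b : Bool, pt 1 ∈ O ↔ b = true := ⟨decide (pt 1 ∈ O), by simp⟩
  have hC : C = dec (cmask b0 b2 b1) := by
    ext p
    rw [hCmem, mem_dec]
    have hi := idx_lt p
    have hp : p = pt (idx p) := (pt_idx p).symm
    have hck := (allFold_eq_true _ _).mp (cmask_ok b0 b2 b1) (idx p) hi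
    rw [beq_iff_eq] at hck
    rw [hck]
    conv_lhs => rw [hp, hrep (idx p) hi]
    rcases rep_cases (idx p) with h | h | h | h | h <;> rw [h]
    · simp [sel, h23]
    · rw [hb0]; cases b0 <;> simp [sel]
    · rw [hb2]; cases b2 <;> simp [sel]
    · rw [hb1]; cases b1 <;> simp [sel]
    · simp [sel, h4]
  have hCcard : C.card = pop (cmask b0 b2 b1) := by
    rw [hC, card_dec (cmask_lt _ _ _)]
  refine ⟨b0, b2, b1, ?_, ?_, ?_, ?_⟩
  · rw [← hC]; exact hKC
  · rw [← hCcard]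
    have : 24 - C.card = O.ncard := by omega
    rw [this]
    exact hdvd
  · intro p hp
    rw [← hC, hCmem, not_not] at hp
    exact hp
  · intro p hp k hk hkp
    rw [← hC, hCmem] at hp
    exact hp ⟨k, hk, hkp⟩

/-- The block lemma: a transitive subgroup of `M24` with a block of `3` or `8` points has no
element of order `5`. -/
theorem block_false (K : Subgroup (Equiv.Perm GolayPt)) (hK : K ≤ M24) (B : Finset GolayPt)
    (htr : ∀ x, ∃ k ∈ K, k (pt 23) = x)
    (hblk : ∀ k ∈ K, k (pt 23) ∈ B → k • B = B) (hB : pt 23 ∈ B)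
    (hc : B.card = 3 ∨ B.card = 8)
    (g : Equiv.Perm GolayPt) (hg : g ∈ K) (hg5 : orderOf g = 5) : False := by
  have hp5 : Fact (Nat.Prime 5) := ⟨by norm_num⟩
  -- block property
  have hblock : ∀ k ∈ K, ∀ x ∈ B, k x ∈ B → k • B = B := by
    intro k hk x hx hkx
    obtain ⟨k1, hk1, hk1x⟩ := htr x
    have e1 : k1 • B = B := hblk k1 hk1 (by rw [hk1x]; exact hx)
    have e2 : (k * k1) • B = B := hblk (k * k1) (K.mul_mem hk hk1) (by
      rw [Equiv.Perm.mul_apply, hk1x]; exact hkx)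
    rw [mul_smul, e1] at e2
    exact e2
  -- a fixed point of `g`
  have hf4 := card_fix_five (hK hg) hg5
  obtain ⟨x, hx⟩ : ∃ x, g x = x := by
    have : (Finset.univ.filter fun q => g q = q).Nonempty := by
      rw [← Finset.card_pos, hf4]; norm_num
    obtain ⟨x, hx⟩ := this
    exact ⟨x, (Finset.mem_filter.mp hx).2⟩
  obtain ⟨k, hk, hkx⟩ := htr x
  -- the conjugate fixing `∞`
  let g' : Equiv.Perm GolayPt := k⁻¹ * g * k
  have hg'K : g' ∈ K := K.mul_mem (K.mul_mem (K.inv_mem hk) hg) hk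
  have hg'o : orderOf g' = 5 := by
    have : g' = (MulAut.conj k⁻¹) g := by
      show k⁻¹ * g * k = _
      rw [MulAut.conj_apply, inv_inv]
    rw [this, MulEquiv.orderOf_eq, hg5]
  have hg'5 : g' ^ 5 = 1 := by rw [← hg'o]; exact pow_orderOf_eq_one g'
  have hg'23 : g' (pt 23) = pt 23 := by
    show (k⁻¹ * g * k) (pt 23) = pt 23
    rw [Equiv.Perm.mul_apply, Equiv.Perm.mul_apply, hkx, hx, Equiv.Perm.inv_eq_iff_eq, hkx]
  have hg'B : g' • B = B := hblk g' hg'K (by rw [hg'23]; exact hB)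
  have hf4' := card_fix_five (hK hg'K) hg'o
  -- fixed points on `B`
  have h1 := fix_ge_of_sieve hg'5 B (fun x => apply_mem_iff_of_smul_eq hg'B x)
  -- fixed points on the complement
  have hcompl : ∀ x, g' x ∈ Bᶜ ↔ x ∈ Bᶜ := by
    intro x
    rw [Finset.mem_compl, Finset.mem_compl, apply_mem_iff_of_smul_eq hg'B x]
  have h2 := fix_ge_of_sieve hg'5 Bᶜ hcompl
  have hcc : Bᶜ.card = 24 - B.card := by
    rw [Finset.card_compl]
    rfl
  have h2' : 1 ≤ (Bᶜ.filter (fun x => g' x = x)).card := by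
    rcases hc with hc | hc <;> rw [hcc, hc] at h2 <;> exact h2
  obtain ⟨y, hy⟩ : (Bᶜ.filter (fun x => g' x = x)).Nonempty := by
    rw [← Finset.card_pos]; omega
  rw [Finset.mem_filter, Finset.mem_compl] at hy
  obtain ⟨hyB, hgy⟩ := hy
  obtain ⟨k2, hk2, hk2y⟩ := htr y
  -- the second block
  have hg'B2 : g' • (k2 • B) = k2 • B := by
    have hmem : k2⁻¹ * g' * k2 ∈ K := K.mul_mem (K.mul_mem (K.inv_mem hk2) hg'K) hk2
    have h23 : (k2⁻¹ * g' * k2) (pt 23) = pt 23 := by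
      rw [Equiv.Perm.mul_apply, Equiv.Perm.mul_apply, hk2y, hgy, Equiv.Perm.inv_eq_iff_eq, hk2y]
    have e := hblk _ hmem (by rw [h23]; exact hB)
    rw [mul_smul, mul_smul] at e
    have e2 := congrArg (fun F : Finset GolayPt => k2 • F) e
    simpa only [smul_inv_smul] using e2
  have hdisj : Disjoint B (k2 • B) := by
    rw [Finset.disjoint_left]
    intro z hzB hz2
    obtain ⟨z', hz', rfl⟩ := Finset.mem_smul_finset.mp hz2
    have e := hblock k2 hk2 z' hz' hzB
    apply hyB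
    rw [← e, ← hk2y]
    exact Finset.smul_mem_smul_finset hB
  have h3 := fix_ge_of_sieve hg'5 (k2 • B) (fun x => apply_mem_iff_of_smul_eq hg'B2 x)
  rw [Finset.card_smul_finset] at h3
  have h13 : 3 ≤ (B.filter (fun x => g' x = x)).card := by
    rcases hc with hc | hc <;> rw [hc] at h1 <;> exact h1
  have h33 : 3 ≤ ((k2 • B).filter (fun x => g' x = x)).card := by
    rcases hc with hc | hc <;> rw [hc] at h3 <;> exact h3
  have hd2 : Disjoint (B.filter (fun x => g' x = x)) ((k2 • B).filter (fun x => g' x = x)) :=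
    Finset.disjoint_filter_filter hdisj
  have hle : ((B.filter (fun x => g' x = x)) ∪ ((k2 • B).filter (fun x => g' x = x))).card ≤
      (Finset.univ.filter fun q => g' q = q).card := by
    apply Finset.card_le_card
    intro z hz
    rw [Finset.mem_union, Finset.mem_filter, Finset.mem_filter] at hz
    rw [Finset.mem_filter]
    rcases hz with hz | hz <;> exact ⟨Finset.mem_univ _, hz.2⟩
  rw [Finset.card_union_of_disjoint hd2, hf4'] at hle
  omega

end Cfsg.Agent.Lib.Helper93_S1589
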