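import Mathlib
import Cfsg.Agent.Lib.Helper93_S1589b
import Cfsg.Agent.Lib.Helper26_SextStab

/-!
Subgroups of `M24` of orders `967680`, `322560` and `138240` containing the standard Sylow
2-subgroup.
-/

set_option autoImplicit false
open Cfsg
open scoped Pointwise
open Cfsg.Agent.Lib.Helper26_Golay Cfsg.Agent.Lib.Helper93_M24Obj
open Cfsg.Agent.Lib.Helper93_S5615b (m8 posOf lAt)
open Cfsg.Agent.Lib.Helper93_S2882a Cfsg.Agent.Lib.Helper93_S2882b
open Cfsg.Agent.Lib.Helper93_S1609a Cfsg.Agent.Lib.Helper93_S1609b Cfsg.Agent.Lib.Helper93_S1609c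
open Cfsg.Agent.Lib.Helper93_S1609d Cfsg.Agent.Lib.Helper93_S1609e

namespace Cfsg.Agent.Lib.Helper93_S1589

/-- The octad cannot be a block of a transitive subgroup of order divisible by 5. -/
theorem oct_block_false (K : Subgroup (Equiv.Perm GolayPt)) (hK : K ≤ M24) (hS : S0 ≤ K)
    (htr : ∀ x, ∃ k ∈ K, k (pt 23) = x)
    (h8 : ∀ k ∈ K, k (pt 23) = pt 23 → k • oct8 = oct8)
    (h5 : 5 ∣ Nat.card ↥K) : False := by
  obtain ⟨g, hg, hg5⟩ := exists_orderOf_eq K (by norm_num) h5
  refine block_false K hK oct8 htr ?_ pt23_mem_oct8 (Or.inr oct8_mem.2) g hg hg5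
  intro k hk hk8
  obtain ⟨w, hw, hw23⟩ := exists_S0_map hk8
  have h1 : (w⁻¹ * k) • oct8 = oct8 := h8 _ (K.mul_mem (K.inv_mem (hS hw)) hk) (by
    rw [Equiv.Perm.mul_apply, Equiv.Perm.inv_eq_iff_eq]; exact hw23.symm)
  have h2 : w • oct8 = oct8 := (mem_S0_iff.mp hw).2.1
  have e : k = w * (w⁻¹ * k) := by group
  rw [e, mul_smul, h1, h2]

/-- The pointwise stabiliser of three points is transitive on the remaining points. -/
theorem PFix_trans (t : Finset GolayPt) (ht : t.card = 3) {y z : GolayPt} (hy : y ∉ t)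
    (hz : z ∉ t) : ∃ l ∈ M24, (∀ p ∈ t, l p = p) ∧ l y = z := by
  obtain ⟨X, hX, hc⟩ := exists_orbit (PFixS t) y
  have h1 : Nat.card ↥(PFixS t) = 20160 := by rw [card_PFixS, ncard_Fix3 t ht]
  have h2 : Nat.card ↥(stabP (PFixS t) y) = 960 := by
    have e : stabP (PFixS t) y = PFixS (insert y t) := by
      ext l
      rw [mem_stabP, mem_PFixS, mem_PFixS]
      constructor
      · rintro ⟨⟨a, b⟩, c⟩
        refine ⟨a, fun p hp => ?_⟩
        rcases Finset.mem_insert.mp hp with rfl | hp
        · exact c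
        · exact b p hp
      · rintro ⟨a, b⟩
        exact ⟨⟨a, fun p hp => b p (Finset.mem_insert_of_mem hp)⟩, b y (Finset.mem_insert_self _ _)⟩
    rw [e, card_PFixS, ncard_Fix4 _ (by rw [Finset.card_insert_of_notMem hy, ht])]
  rw [h1, h2] at hc
  have hXsub : X ⊆ tᶜ := by
    intro x hx
    obtain ⟨l, hl, rfl⟩ := (hX x).mp hx
    rw [Finset.mem_compl]
    intro hmem
    have h3 := hl.2 (l y) hmem
    have h4 : l y = y := l.injective h3
    rw [h4] at hmem
    exact hy hmem
  have h24 : Fintype.card GolayPt = 24 := rfl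
  have hXeq : X = tᶜ := by
    apply Finset.eq_of_subset_of_card_le hXsub
    rw [Finset.card_compl, ht, h24]
    omega
  have hz' : z ∈ X := by rw [hXeq, Finset.mem_compl]; exact hz
  obtain ⟨l, hl, hlz⟩ := (hX z).mp hz'
  exact ⟨l, hl.1, hl.2, hlz⟩

/-- A triple cannot be a block of a transitive subgroup of order divisible by 5 containing the
pointwise stabiliser of the triple. -/
theorem triple_block_false (K : Subgroup (Equiv.Perm GolayPt)) (hK : K ≤ M24)
    (t : Finset GolayPt) (ht : t.card = 3) (h23 : pt 23 ∈ t)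
    (htr : ∀ x, ∃ k ∈ K, k (pt 23) = x)
    (hfix : ∀ k ∈ K, k (pt 23) = pt 23 → k • t = t)
    (hL : ∀ l ∈ M24, (∀ p ∈ t, l p = p) → l ∈ K)
    (h5 : 5 ∣ Nat.card ↥K) : False := by
  obtain ⟨g, hg, hg5⟩ := exists_orderOf_eq K (by norm_num) h5
  refine block_false K hK t htr ?_ h23 (Or.inl ht) g hg hg5
  intro k hk hkt
  by_contra hne
  obtain ⟨y, hy, hyt⟩ : ∃ y ∈ k • t, y ∉ t := by
    by_contra hcon
    push Not at hcon
    apply hne
    exact Finset.eq_of_subset_of_card_le hcon (by rw [Finset.card_smul_finset])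
  have hall : ∀ z, z ∉ t → z ∈ k • t := by
    intro z hz
    obtain ⟨l, hl, hlt, hlz⟩ := PFix_trans t ht hyt hz
    have hlK := hL l hl hlt
    have hmem : k⁻¹ * l * k ∈ K := K.mul_mem (K.mul_mem (K.inv_mem hk) hlK) hk
    have h23' : (k⁻¹ * l * k) (pt 23) = pt 23 := by
      rw [Equiv.Perm.mul_apply, Equiv.Perm.mul_apply, hlt _ hkt, Equiv.Perm.inv_eq_iff_eq]
    have e := hfix _ hmem h23'
    rw [mul_smul, mul_smul] at e
    have e2 := congrArg (fun F : Finset GolayPt => k • F) e
    simp only [smul_inv_smul] at e2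
    rw [← e2, ← hlz]
    exact Finset.smul_mem_smul_finset hy
  have hsub : tᶜ ⊆ k • t := fun z hz => hall z (Finset.mem_compl.mp hz)
  have hle := Finset.card_le_card hsub
  rw [Finset.card_compl, Finset.card_smul_finset, ht] at hle
  have h24 : Fintype.card GolayPt = 24 := rfl
  omega

/-- No subgroup of order `967680`. -/
theorem no_967680 (K : Subgroup (Equiv.Perm GolayPt)) (hK : K ≤ M24) (hS : S0 ≤ K)
    (hc : Nat.card ↥K = 967680) : False := by
  rcases pres_or_trans K hS with h | htr
  · have hle : K ≤ setStab oct8 := fun k hk => (mem_setStab_iff oct8 k).mpr ⟨hK hk, h k hk⟩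
    have := Subgroup.card_le_of_le hle
    rw [hc, card_setStab oct8_mem] at this
    omega
  · have hc1 := card_of_trans K (pt 23) htr
    rw [hc] at hc1
    have hK1 : Nat.card ↥(stabP K (pt 23)) = 40320 := by omega
    have hfix : ∀ k ∈ stabP K (pt 23), k (pt 23) = pt 23 := fun k hk => (mem_stabP.mp hk).2
    have hA : ∀ a ∈ S0, a (pt 23) = pt 23 → a ∈ stabP K (pt 23) :=
      fun a ha h => mem_stabP.mpr ⟨hS ha, h⟩
    have h5 : 5 ∣ Nat.card ↥K := by rw [hc]; norm_num
    rcases main_lemma (stabP K (pt 23)) ((stabP_le K _).trans hK) hfix hA hK1 with h | h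
    · exact oct_block_false K hK hS htr (fun k hk h23 => h k (mem_stabP.mpr ⟨hk, h23⟩)) h5
    · let t : Finset GolayPt := insert (pt 23) duad
      have ht : t.card = 3 := by
        show (insert (pt 23) duad).card = 3
        rw [Finset.card_insert_of_notMem pt23_notMem_duad, duad_card]
      have hfix' : ∀ k ∈ K, k (pt 23) = pt 23 → k • t = t := by
        intro k hk h23
        show k • insert (pt 23) duad = insert (pt 23) duad
        rw [Finset.smul_finset_insert, h k (mem_stabP.mpr ⟨hk, h23⟩), Equiv.Perm.smul_def, h23]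
      have hsub : (stabP K (pt 23) : Set (Equiv.Perm GolayPt)) ⊆
          {g | g ∈ M24 ∧ g (pt 23) = pt 23 ∧ g • duad = duad} :=
        fun k hk => ⟨hK (stabP_le K _ hk), hfix k hk, h k hk⟩
      have hnc : (stabP K (pt 23) : Set (Equiv.Perm GolayPt)).ncard = 40320 := by
        rw [← hK1]; exact (Nat.card_coe_set_eq _).symm
      have heq := Set.eq_of_subset_of_ncard_le hsub
        (by rw [hnc]; exact ncard_stab_duad_le (pt 23) duad duad_card pt23_notMem_duad)
        (Set.toFinite _)
      have hL : ∀ l ∈ M24, (∀ p ∈ t, l p = p) → l ∈ K := by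
        intro l hl hlt
        have : l ∈ (stabP K (pt 23) : Set (Equiv.Perm GolayPt)) := by
          rw [heq]
          refine ⟨hl, hlt _ (Finset.mem_insert_self _ _), smul_eq_of_forall_mem (fun p hp => ?_)⟩
          rw [hlt p (Finset.mem_insert_of_mem hp)]
          exact hp
        exact stabP_le K _ this
      exact triple_block_false K hK t ht (Finset.mem_insert_self _ _) htr hfix' hL h5

theorem pt23_mem_C (b0 b2 b1 : Bool) : pt 23 ∈ dec (cmask b0 b2 b1) := by
  rw [mem_dec, idx_pt 23 (by norm_num)]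
  cases b0 <;> cases b2 <;> cases b1 <;> decide

/-- The orbit-stabiliser equation for a point of the big orbit. -/
theorem card_stab_of_orbit_compl (K1 : Subgroup (Equiv.Perm GolayPt)) (C : Finset GolayPt)
    (htrO : ∀ p, p ∉ C → ∃ k ∈ K1, k (pt 4) = p)
    (hnot : ∀ p, p ∈ C → ∀ k ∈ K1, k (pt 4) ≠ p) {y : GolayPt} (hy : y ∉ C) :
    Nat.card ↥K1 = (24 - C.card) * Nat.card ↥(stabP K1 y) := by
  obtain ⟨X, hX, hc⟩ := exists_orbit K1 y
  obtain ⟨k, hk, hky⟩ := htrO y hy
  have hXeq : X = Cᶜ := by
    ext x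
    rw [hX, Finset.mem_compl]
    constructor
    · rintro ⟨k', hk', rfl⟩ hmem
      refine hnot _ hmem (k' * k) (K1.mul_mem hk' hk) ?_
      rw [Equiv.Perm.mul_apply, hky]
    · intro hx
      obtain ⟨k'', hk'', hk''x⟩ := htrO x hx
      refine ⟨k'' * k⁻¹, K1.mul_mem hk'' (K1.inv_mem hk), ?_⟩
      rw [Equiv.Perm.mul_apply, ← hky, inv_app, hk''x]
  rw [hXeq, Finset.card_compl] at hc
  exact hc

/-- Subgroups of order `322560` containing the standard Sylow subgroup stabilise the octad. -/
theorem pres_of_card_322560 (K : Subgroup (Equiv.Perm GolayPt)) (hK : K ≤ M24) (hS : S0 ≤ K)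
    (hc : Nat.card ↥K = 322560) : ∀ k ∈ K, k • oct8 = oct8 := by
  rcases pres_or_trans K hS with h | htr
  · exact h
  exfalso
  have hc1 := card_of_trans K (pt 23) htr
  rw [hc] at hc1
  have hK1 : Nat.card ↥(stabP K (pt 23)) = 13440 := by omega
  have hK1M : stabP K (pt 23) ≤ M24 := (stabP_le K _).trans hK
  have hfix : ∀ k ∈ stabP K (pt 23), k (pt 23) = pt 23 := fun k hk => (mem_stabP.mp hk).2
  have hA : ∀ a ∈ S0, a (pt 23) = pt 23 → a ∈ stabP K (pt 23) :=
    fun a ha h => mem_stabP.mpr ⟨hS ha, h⟩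
  have h5 : 5 ∣ Nat.card ↥K := by rw [hc]; norm_num
  obtain ⟨b0, b2, b1, hC, hdvd, htrO, hnot⟩ := orbit_cases (stabP K (pt 23)) hfix hA
  rw [hK1] at hdvd
  cases b0 <;> cases b2 <;> cases b1
  · -- the octad
    refine oct_block_false K hK hS htr (fun k hk h23 => ?_) h5
    have := hC k (mem_stabP.mpr ⟨hk, h23⟩)
    rw [cmask_fff] at this
    exact this
  · -- four points
    have h4c : (dec (cmask false false true)).card = 4 := by
      rw [card_dec (cmask_lt _ _ _)]; decide
    let E : Finset GolayPt := (dec (cmask false false true)).erase (pt 23)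
    have hEc : E.card = 3 := by
      show ((dec (cmask false false true)).erase (pt 23)).card = 3
      rw [Finset.card_erase_of_mem (pt23_mem_C _ _ _), h4c]
    have hpres : ∀ k ∈ stabP K (pt 23), k • E = E := by
      intro k hk
      apply smul_eq_of_forall_mem
      intro p hp
      rw [Finset.mem_erase] at hp ⊢
      refine ⟨fun h => hp.1 (k.injective (h.trans (hfix k hk).symm)), ?_⟩
      exact (apply_mem_iff_of_smul_eq (hC k hk) p).mpr hp.2
    have hN : {g : Equiv.Perm GolayPt | g ∈ stabP K (pt 23) ∧ ∀ p ∈ E, g p = p}.ncard ≤ 960 := by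
      rw [← ncard_Fix4 _ h4c]
      apply Set.ncard_le_ncard _ (PFix_finite _)
      rintro g ⟨hg, hgE⟩
      refine ⟨hK1M hg, fun p hp => ?_⟩
      by_cases hp23 : p = pt 23
      · rw [hp23]; exact hfix g hg
      · exact hgE p (Finset.mem_erase.mpr ⟨hp23, hp⟩)
    have hb := card_le_of_stab (stabP K (pt 23)) E hpres 960 hN
    rw [hK1, hEc] at hb
    norm_num [Nat.factorial] at hb
  · have : 24 - pop (cmask false true false) = 18 := by decide
    rw [this] at hdvd
    norm_num at hdvd
  · have : 24 - pop (cmask false true true) = 22 := by decide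
    rw [this] at hdvd
    norm_num at hdvd
  · have : 24 - pop (cmask true false false) = 17 := by decide
    rw [this] at hdvd
    norm_num at hdvd
  · -- the triple
    have h3c : (dec (cmask true false true)).card = 3 := by
      rw [card_dec (cmask_lt _ _ _)]; decide
    obtain ⟨g, hg, hg3⟩ := exists_orderOf_eq (stabP K (pt 23)) (show Nat.Prime 3 by norm_num)
      (by rw [hK1]; norm_num)
    have hp3 : Fact (Nat.Prime 3) := ⟨by norm_num⟩
    have hg3' : g ^ 3 = 1 := by rw [← hg3]; exact pow_orderOf_eq_one g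
    have hs := sieve hg3' (dec (cmask true false true))
      (fun x => apply_mem_iff_of_smul_eq (hC g hg) x)
    rw [h3c] at hs
    have hpos : 0 < ((dec (cmask true false true)).filter (fun x => g x = x)).card := by
      rw [Finset.card_pos]
      exact ⟨pt 23, Finset.mem_filter.mpr ⟨pt23_mem_C _ _ _, hfix g hg⟩⟩
    have hle : ((dec (cmask true false true)).filter (fun x => g x = x)).card ≤ 3 := by
      rw [← h3c]; exact Finset.card_filter_le _ _
    have hfc : ((dec (cmask true false true)).filter (fun x => g x = x)).card = 3 := by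
      unfold Nat.ModEq at hs
      omega
    have hsubF : (dec (cmask true false true)).filter (fun x => g x = x) ⊆
        (Finset.univ.filter fun p => g p = p) := by
      intro x hx
      exact Finset.mem_filter.mpr ⟨Finset.mem_univ _, (Finset.mem_filter.mp hx).2⟩
    have h6 : (Finset.univ.filter fun p => g p = p).card = 6 := by
      rcases fix_of_order3 (hK1M hg) hg3 with h | h
      · exact h
      · have := Finset.card_le_card hsubF
        rw [hfc, h] at this
        omega
    obtain ⟨y, hyF, hyC⟩ := Finset.exists_mem_notMem_of_card_lt_card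
      (s := dec (cmask true false true)) (t := Finset.univ.filter fun p => g p = p)
      (by rw [h3c, h6]; norm_num)
    have hcs := card_stab_of_orbit_compl (stabP K (pt 23)) _ htrO hnot hyC
    rw [hK1, h3c] at hcs
    have h640 : Nat.card ↥(stabP (stabP K (pt 23)) y) = 640 := by omega
    have hgm : g ∈ stabP (stabP K (pt 23)) y := mem_stabP.mpr ⟨hg, (Finset.mem_filter.mp hyF).2⟩
    have hd := orderOf_dvd_natCard (⟨g, hgm⟩ : ↥(stabP (stabP K (pt 23)) y))
    rw [h640, ← Subgroup.orderOf_coe] at hd
    simp only at hd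
    rw [hg3] at hd
    norm_num at hd
  · have : 24 - pop (cmask true true false) = 19 := by decide
    rw [this] at hdvd
    norm_num at hdvd
  · have : 24 - pop (cmask true true true) = 23 := by decide
    rw [this] at hdvd
    norm_num at hdvd

/-- A sextet is determined by any of its tetrads. -/
theorem sextet_unique {S S' : Finset (Finset GolayPt)} (hS : S ∈ sextets) (hS' : S' ∈ sextets)
    {t : Finset GolayPt} (ht : t ∈ S) (ht' : t ∈ S') : S = S' := by
  apply Finset.eq_of_subset_of_card_le _ (by rw [hS.1, hS'.1])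
  intro u hu
  by_cases hut : u = t
  · rw [hut]; exact ht'
  obtain ⟨x, hx⟩ : u.Nonempty := by rw [← Finset.card_pos, hS.2.1 u hu]; norm_num
  obtain ⟨u', hu', hxu'⟩ := sextet_cover hS' x
  have hxt : x ∉ t := fun hxt => Finset.disjoint_left.mp (sextet_disjoint hS hu ht hut) hx hxt
  have hu't : u' ≠ t := by
    rintro rfl
    exact hxt hxu'
  have ho : t ∪ u ∈ octads := hS.2.2 t ht u hu (Ne.symm hut)
  have ho' : t ∪ u' ∈ octads := hS'.2.2 t ht' u' hu' (Ne.symm hu't)
  have h5 : 5 ≤ ((t ∪ u) ∩ (t ∪ u')).card := by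
    have hsub : insert x t ⊆ (t ∪ u) ∩ (t ∪ u') := by
      intro z hz
      rcases Finset.mem_insert.mp hz with rfl | hz
      · exact Finset.mem_inter.mpr ⟨Finset.mem_union_right _ hx, Finset.mem_union_right _ hxu'⟩
      · exact Finset.mem_inter.mpr ⟨Finset.mem_union_left _ hz, Finset.mem_union_left _ hz⟩
    calc 5 = (insert x t).card := by rw [Finset.card_insert_of_notMem hxt, hS.2.1 t ht]
      _ ≤ _ := Finset.card_le_card hsub
  have heq := octad_eq_of_five_le ho ho' h5
  have hd1 : Disjoint t u := sextet_disjoint hS ht hu (Ne.symm hut)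
  have hd2 : Disjoint t u' := sextet_disjoint hS' ht' hu' (Ne.symm hu't)
  have e1 : (t ∪ u) \ t = u := Finset.union_sdiff_cancel_left hd1
  have e2 : (t ∪ u') \ t = u' := Finset.union_sdiff_cancel_left hd2
  rw [← e1, heq, e2]
  exact hu'

theorem C4_mem_sS : dec (cmask false false true) ∈ sS := by
  unfold sS
  rw [mem_setOf, enc_dec _ (cmask_lt _ _ _)]
  decide +kernel

theorem C6_sub : allFold (fun i => !((cmask false true false).testBit i) || m8.testBit i) 24 = true := by
  decide

/-- Subgroups of order `138240` containing the standard Sylow subgroup stabilise the sextet. -/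
theorem pres_of_card_138240 (K : Subgroup (Equiv.Perm GolayPt)) (hK : K ≤ M24) (hS : S0 ≤ K)
    (hc : Nat.card ↥K = 138240) : ∀ k ∈ K, k • sS = sS := by
  rcases pres_or_trans K hS with h | htr
  · exfalso
    have hle : K ≤ setStab oct8 := fun k hk => (mem_setStab_iff oct8 k).mpr ⟨hK hk, h k hk⟩
    have := Subgroup.card_dvd_of_le hle
    rw [hc, card_setStab oct8_mem] at this
    norm_num at this
  have hc1 := card_of_trans K (pt 23) htr
  rw [hc] at hc1
  have hK1 : Nat.card ↥(stabP K (pt 23)) = 5760 := by omega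
  have hK1M : stabP K (pt 23) ≤ M24 := (stabP_le K _).trans hK
  have hfix : ∀ k ∈ stabP K (pt 23), k (pt 23) = pt 23 := fun k hk => (mem_stabP.mp hk).2
  have hA : ∀ a ∈ S0, a (pt 23) = pt 23 → a ∈ stabP K (pt 23) :=
    fun a ha h => mem_stabP.mpr ⟨hS ha, h⟩
  have h5 : 5 ∣ Nat.card ↥K := by rw [hc]; norm_num
  obtain ⟨b0, b2, b1, hC, hdvd, htrO, hnot⟩ := orbit_cases (stabP K (pt 23)) hfix hA
  rw [hK1] at hdvd
  cases b0 <;> cases b2 <;> cases b1
  · -- the octad
    exfalso
    refine oct_block_false K hK hS htr (fun k hk h23 => ?_) h5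
    have := hC k (mem_stabP.mpr ⟨hk, h23⟩)
    rw [cmask_fff] at this
    exact this
  · -- the tetrad: the sextet
    have hK1S : ∀ k ∈ stabP K (pt 23), k • sS = sS := by
      intro k hk
      have h1 : k • sS ∈ sextets := smul_mem_sextets (hK1M hk) sS_mem
      have h2 : dec (cmask false false true) ∈ k • sS := by
        rw [← hC k hk]
        exact Finset.smul_mem_smul_finset C4_mem_sS
      exact sextet_unique h1 sS_mem h2 C4_mem_sS
    have hS0S : ∀ s ∈ S0, s • sS = sS := fun s hs => (mem_S0_iff.mp hs).2.2.2.1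
    have h1C : pt 1 ∉ dec (cmask false false true) := by
      rw [mem_dec, idx_pt 1 (by norm_num)]; decide
    obtain ⟨k1, hk1, hk14⟩ := htrO _ h1C
    have h18 : pt 1 ∈ oct8 := by
      rw [mem_oct8_iff, idx_pt 1 (by norm_num)]; decide
    have h48 : pt 4 ∉ oct8 := by
      rw [mem_oct8_iff, idx_pt 4 (by norm_num)]; decide
    obtain ⟨w1, hw1, hw123⟩ := exists_S0_map h18
    -- every point is reached by an element stabilising the sextet
    have hreach : ∀ x, ∃ k' ∈ K, k' (pt 23) = x ∧ k' • sS = sS := by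
      intro x
      by_cases hx : x ∈ oct8
      · obtain ⟨w, hw, hw23⟩ := exists_S0_map hx
        exact ⟨w, hS hw, hw23, hS0S w hw⟩
      · obtain ⟨u, hu, hux⟩ := exists_S0_map_off h48 hx
        refine ⟨u * k1⁻¹ * w1, K.mul_mem (K.mul_mem (hS hu) (K.inv_mem (stabP_le K _ hk1)))
          (hS hw1), ?_, ?_⟩
        · rw [Equiv.Perm.mul_apply, Equiv.Perm.mul_apply, hw123, ← hk14, inv_app, hux]
        · have e1 : k1⁻¹ • sS = sS := by
            rw [inv_smul_eq_iff]; exact (hK1S k1 hk1).symm
          rw [mul_smul, mul_smul, hS0S w1 hw1, e1, hS0S u hu]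
    intro k hk
    obtain ⟨k', hk', hk'23, hk'S⟩ := hreach (k (pt 23))
    have hmem : k'⁻¹ * k ∈ stabP K (pt 23) := by
      rw [mem_stabP]
      refine ⟨K.mul_mem (K.inv_mem hk') hk, ?_⟩
      rw [Equiv.Perm.mul_apply, Equiv.Perm.inv_eq_iff_eq]
      exact hk'23.symm
    have e := hK1S _ hmem
    have e2 : k = k' * (k'⁻¹ * k) := by group
    rw [e2, mul_smul, e, hk'S]
  · -- six points of the octad
    exfalso
    have h6c : (dec (cmask false true false)).card = 6 := by
      rw [card_dec (cmask_lt _ _ _)]; decide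
    have hsub8 : dec (cmask false true false) ⊆ oct8 := by
      intro p hp
      rw [mem_dec] at hp
      rw [mem_oct8_iff]
      have := (allFold_eq_true _ _).mp C6_sub (idx p) (idx_lt p)
      rw [hp] at this
      simpa using this
    have h2C : pt 2 ∉ dec (cmask false true false) := by
      rw [mem_dec, idx_pt 2 (by norm_num)]; decide
    obtain ⟨k, hk, hk4⟩ := htrO _ h2C
    have hk8 : oct8 = k • oct8 := by
      apply octad_eq_of_five_le oct8_mem (smul_mem_octads (hK1M hk) oct8_mem)
      have hsub : dec (cmask false true false) ⊆ oct8 ∩ k • oct8 := by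
        intro p hp
        rw [Finset.mem_inter]
        refine ⟨hsub8 hp, ?_⟩
        rw [← hC k hk] at hp
        obtain ⟨p', hp', rfl⟩ := Finset.mem_smul_finset.mp hp
        exact Finset.smul_mem_smul_finset (hsub8 hp')
      have := Finset.card_le_card hsub
      rw [h6c] at this
      omega
    have h28 : pt 2 ∈ oct8 := by
      rw [mem_oct8_iff, idx_pt 2 (by norm_num)]; decide
    have h48 : pt 4 ∉ oct8 := by
      rw [mem_oct8_iff, idx_pt 4 (by norm_num)]; decide
    rw [← hk4] at h28
    exact h48 ((apply_mem_iff_of_smul_eq hk8.symm (pt 4)).mp h28)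
  · exfalso
    have : 24 - pop (cmask false true true) = 22 := by decide
    rw [this] at hdvd
    norm_num at hdvd
  · exfalso
    have : 24 - pop (cmask true false false) = 17 := by decide
    rw [this] at hdvd
    norm_num at hdvd
  · exfalso
    have : 24 - pop (cmask true false true) = 21 := by decide
    rw [this] at hdvd
    norm_num at hdvd
  · exfalso
    have : 24 - pop (cmask true true false) = 19 := by decide
    rw [this] at hdvd
    norm_num at hdvd
  · exfalso
    have : 24 - pop (cmask true true true) = 23 := by decide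
    rw [this] at hdvd
    norm_num at hdvd

end Cfsg.Agent.Lib.Helper93_S1589
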