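import Mathlib
import Cfsg.Agent.Lib.Helper93_S1589a

/-!
Subgroups of order `887040` of `M24` stabilise a pair of points.
-/

set_option autoImplicit false
open Cfsg
open scoped Pointwise
open Cfsg.Agent.Lib.Helper26_Golay Cfsg.Agent.Lib.Helper93_M24Obj
open Cfsg.Agent.Lib.Helper93_S1609b

namespace Cfsg.Agent.Lib.Helper93_S1589

/-- A set partitioned into pairs has even cardinality. -/
theorem even_card_of_pairs {α : Type*} [DecidableEq α] (T : Finset α) (F : α → Finset α)
    (h1 : ∀ x ∈ T, F x ⊆ T) (h2 : ∀ x ∈ T, x ∈ F x) (h3 : ∀ x ∈ T, (F x).card = 2)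
    (h4 : ∀ x ∈ T, ∀ y ∈ F x, F y = F x) : Even T.card := by
  have hT : T = (T.image F).biUnion id := by
    ext z
    simp only [Finset.mem_biUnion, Finset.mem_image, id]
    constructor
    · intro hz
      exact ⟨F z, ⟨z, hz, rfl⟩, h2 z hz⟩
    · rintro ⟨_, ⟨x, hx, rfl⟩, hz⟩
      exact h1 x hx hz
  have hcard : T.card = ∑ s ∈ T.image F, (id s).card := by
    conv_lhs => rw [hT]
    apply Finset.card_biUnion
    intro s hs t ht hne
    obtain ⟨x, hx, rfl⟩ := Finset.mem_image.mp hs
    obtain ⟨y, hy, rfl⟩ := Finset.mem_image.mp ht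
    show Disjoint (F x) (F y)
    rw [Finset.disjoint_left]
    intro z hzx hzy
    apply hne
    rw [← h4 x hx z hzx, h4 y hy z hzy]
  have hsum : ∑ s ∈ T.image F, (id s).card = ∑ _s ∈ T.image F, 2 := by
    apply Finset.sum_congr rfl
    intro s hs
    obtain ⟨x, hx, rfl⟩ := Finset.mem_image.mp hs
    exact h3 x hx
  rw [hcard, hsum, Finset.sum_const, smul_eq_mul]
  exact even_two.mul_left _

theorem fix_subset_card {g : Equiv.Perm GolayPt} (X : Finset GolayPt) :
    (X.filter (fun x => g x = x)).card ≤ (Finset.univ.filter fun q => g q = q).card := by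
  apply Finset.card_le_card
  intro x hx
  exact Finset.mem_filter.mpr ⟨Finset.mem_univ _, (Finset.mem_filter.mp hx).2⟩

/-- An invariant set of 12 points is impossible in the presence of an element of order 7. -/
theorem no_inv12 {g : Equiv.Perm GolayPt} (hg : g ∈ M24) (ho : orderOf g = 7)
    (X : Finset GolayPt) (hX : ∀ x, g x ∈ X ↔ x ∈ X) (hc : X.card = 12) : False := by
  have hp7 : Fact (Nat.Prime 7) := ⟨by norm_num⟩
  have hg7 : g ^ 7 = 1 := by rw [← ho]; exact pow_orderOf_eq_one g
  have h1 := fix_ge_of_sieve hg7 X hX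
  have h2 := fix_subset_card (g := g) X
  rw [card_fix_seven hg ho] at h2
  rw [hc] at h1
  omega

/-- Subgroups of order `887040` of `M24` stabilise a pair of points. -/
theorem pres_of_card_887040 (K : Subgroup (Equiv.Perm GolayPt)) (hK : K ≤ M24)
    (hc : Nat.card ↥K = 887040) : ∃ s : Finset GolayPt, s.card = 2 ∧ ∀ k ∈ K, k • s = s := by
  classical
  have hp11 : Fact (Nat.Prime 11) := ⟨by norm_num⟩
  have h24 : Fintype.card GolayPt = 24 := rfl
  obtain ⟨g11, hg11, ho11⟩ := exists_orderOf_eq K (show Nat.Prime 11 by norm_num)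
    (by rw [hc]; norm_num)
  obtain ⟨g7, hg7, ho7⟩ := exists_orderOf_eq K (show Nat.Prime 7 by norm_num)
    (by rw [hc]; norm_num)
  have hf11 := card_fix_eleven (hK hg11) ho11
  have hg11p : g11 ^ 11 = 1 := by rw [← ho11]; exact pow_orderOf_eq_one g11
  obtain ⟨a, ha⟩ : (Finset.univ.filter fun q => g11 q = q).Nonempty := by
    rw [← Finset.card_pos, hf11]; norm_num
  have hga : g11 a = a := (Finset.mem_filter.mp ha).2
  obtain ⟨X, hX, hcX⟩ := exists_orbit K a
  rw [hc] at hcX
  have haX : a ∈ X := (hX a).mpr ⟨1, K.one_mem, rfl⟩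
  -- the stabiliser lies in the point stabiliser of `M24`
  have hdvd : Nat.card ↥(stabP K a) ∣ 10200960 := by
    have hle : stabP K a ≤ PFixS {a} := by
      intro k hk
      rw [mem_stabP] at hk
      exact ⟨hK hk.1, fun p hp => by rw [Finset.mem_singleton.mp hp]; exact hk.2⟩
    have := Subgroup.card_dvd_of_le hle
    rwa [card_PFixS, ncard_Fix1 {a} (Finset.card_singleton a)] at this
  obtain ⟨m, hm⟩ := hdvd
  have hs := sieve hg11p X (fun x => orbit_inv hX hg11 x)
  have hle2 := fix_subset_card (g := g11) X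
  rw [hf11] at hle2
  have hge1 : 1 ≤ (X.filter (fun x => g11 x = x)).card := by
    rw [Nat.one_le_iff_ne_zero, ← Nat.pos_iff_ne_zero, Finset.card_pos]
    exact ⟨a, Finset.mem_filter.mpr ⟨haX, hga⟩⟩
  have hX24 : X.card ≤ 24 := by
    have := Finset.card_le_univ X
    rwa [h24] at this
  have hXpos : 1 ≤ X.card := by
    rw [Nat.one_le_iff_ne_zero, ← Nat.pos_iff_ne_zero, Finset.card_pos]
    exact ⟨a, haX⟩
  unfold Nat.ModEq at hs
  have hcases : X.card = 2 ∨ X.card = 12 ∨ X.card = 24 := by
    obtain ⟨n, hn⟩ : ∃ n, X.card = n := ⟨_, rfl⟩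
    obtain ⟨f, hf⟩ : ∃ f, (X.filter (fun x => g11 x = x)).card = f := ⟨_, rfl⟩
    obtain ⟨s, hs'⟩ : ∃ s, Nat.card ↥(stabP K a) = s := ⟨_, rfl⟩
    rw [hn] at hcX hs hX24 hXpos ⊢
    rw [hf] at hs hle2 hge1
    rw [hs'] at hcX hm
    clear hn hf hs'
    interval_cases n <;> first | omega | (have h0 : s = 887040 := by omega
                                          subst h0
                                          omega)
  rcases hcases with h2 | h12 | h24'
  · exact ⟨X, h2, fun k hk => smul_eq_of_forall_mem (fun p hp => (orbit_inv hX hk p).mpr hp)⟩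
  · exfalso
    exact no_inv12 (hK hg7) ho7 X (fun x => orbit_inv hX hg7 x) h12
  · exfalso
    have hXu : X = Finset.univ := Finset.eq_univ_of_card X (by rw [h24', h24])
    have htr : ∀ x y, ∃ k ∈ K, k x = y := by
      intro x y
      obtain ⟨k1, hk1, hk1x⟩ := (hX x).mp (by rw [hXu]; exact Finset.mem_univ _)
      obtain ⟨k2, hk2, hk2y⟩ := (hX y).mp (by rw [hXu]; exact Finset.mem_univ _)
      refine ⟨k2 * k1⁻¹, K.mul_mem hk2 (K.inv_mem hk1), ?_⟩
      have e : k1⁻¹ x = a := by
        rw [Equiv.Perm.inv_eq_iff_eq]; exact hk1x.symm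
      rw [Equiv.Perm.mul_apply, e, hk2y]
    have hKx : ∀ x, Nat.card ↥(stabP K x) = 36960 := by
      intro x
      obtain ⟨X', hX', hcX'⟩ := exists_orbit K x
      have : X' = Finset.univ := by
        ext y
        simp only [Finset.mem_univ, iff_true]
        exact (hX' y).mpr (htr x y)
      rw [this, Finset.card_univ, h24, hc] at hcX'
      omega
    -- the points fixed by the stabiliser of a point
    let F : GolayPt → Finset GolayPt := fun x =>
      Finset.univ.filter (fun y => ∀ k ∈ stabP K x, k y = y)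
    have hFmem : ∀ x y, y ∈ F x ↔ ∀ k ∈ stabP K x, k y = y := by
      intro x y
      simp only [F, Finset.mem_filter, Finset.mem_univ, true_and]
    have hFself : ∀ x, x ∈ F x := fun x => (hFmem x x).mpr (fun k hk => (mem_stabP.mp hk).2)
    have hFcard : ∀ x, (F x).card = 2 := by
      intro x
      obtain ⟨h11, hh11, hoh11⟩ := exists_orderOf_eq (stabP K x) (show Nat.Prime 11 by norm_num)
        (by rw [hKx x]; norm_num)
      obtain ⟨h7, hh7, hoh7⟩ := exists_orderOf_eq (stabP K x) (show Nat.Prime 7 by norm_num)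
        (by rw [hKx x]; norm_num)
      have hh11M : h11 ∈ M24 := hK (stabP_le K x hh11)
      have hh7M : h7 ∈ M24 := hK (stabP_le K x hh7)
      have hfh11 := card_fix_eleven hh11M hoh11
      have hh11p : h11 ^ 11 = 1 := by rw [← hoh11]; exact pow_orderOf_eq_one h11
      have hsub : F x ⊆ (Finset.univ.filter fun q => h11 q = q) := by
        intro y hy
        exact Finset.mem_filter.mpr ⟨Finset.mem_univ _, (hFmem x y).mp hy h11 hh11⟩
      have hxfix : x ∈ (Finset.univ.filter fun q => h11 q = q) := hsub (hFself x)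
      obtain ⟨x', hx', hne⟩ := Finset.exists_mem_ne (by rw [hfh11]; norm_num) x
      have hh11x' : h11 x' = x' := (Finset.mem_filter.mp hx').2
      -- the orbit of `x'`
      obtain ⟨Y, hY, hcY⟩ := exists_orbit (stabP K x) x'
      rw [hKx x] at hcY
      have hx'Y : x' ∈ Y := (hY x').mpr ⟨1, Subgroup.one_mem _, rfl⟩
      have hxY : x ∉ Y := by
        intro hxY
        obtain ⟨k, hk, hkx⟩ := (hY x).mp hxY
        have : k x' = k x := by rw [hkx, (mem_stabP.mp hk).2]
        exact hne (k.injective this)
      have hsY := sieve hh11p Y (fun z => orbit_inv hY hh11 z)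
      have hfY : (Y.filter (fun z => h11 z = z)).card = 1 := by
        have hsubY : Y.filter (fun z => h11 z = z) ⊆
            (Finset.univ.filter fun q => h11 q = q).erase x := by
          intro z hz
          rw [Finset.mem_filter] at hz
          rw [Finset.mem_erase]
          refine ⟨fun h => hxY (h ▸ hz.1), Finset.mem_filter.mpr ⟨Finset.mem_univ _, hz.2⟩⟩
        have hle := Finset.card_le_card hsubY
        rw [Finset.card_erase_of_mem hxfix, hfh11] at hle
        have hpos : 0 < (Y.filter (fun z => h11 z = z)).card := by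
          rw [Finset.card_pos]
          exact ⟨x', Finset.mem_filter.mpr ⟨hx'Y, hh11x'⟩⟩
        omega
      rw [hfY] at hsY
      unfold Nat.ModEq at hsY
      have hY24 : Y.card ≤ 24 := by
        have := Finset.card_le_univ Y
        rwa [h24] at this
      have hYcases : Y.card = 1 ∨ Y.card = 12 := by
        obtain ⟨n, hn⟩ : ∃ n, Y.card = n := ⟨_, rfl⟩
        obtain ⟨s, hs'⟩ : ∃ s, Nat.card ↥(stabP (stabP K x) x') = s := ⟨_, rfl⟩
        rw [hn] at hcY hsY hY24 ⊢
        rw [hs'] at hcY
        clear hn hs'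
        interval_cases n <;> omega
      rcases hYcases with hY1 | hY12
      · -- the stabiliser fixes `x'`
        have hx'F : x' ∈ F x := by
          rw [hFmem]
          intro k hk
          have hmem : k x' ∈ Y := (hY _).mpr ⟨k, hk, rfl⟩
          obtain ⟨y0, hy0⟩ := Finset.card_eq_one.mp hY1
          rw [hy0, Finset.mem_singleton] at hmem hx'Y
          rw [hmem, hx'Y]
        apply le_antisymm
        · rw [← hfh11]; exact Finset.card_le_card hsub
        · have hsub2 : ({x, x'} : Finset GolayPt) ⊆ F x := by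
            intro z hz
            rcases Finset.mem_insert.mp hz with rfl | hz
            · exact hFself _
            · rw [Finset.mem_singleton.mp hz]; exact hx'F
          have := Finset.card_le_card hsub2
          rwa [Finset.card_pair (Ne.symm hne)] at this
      · exfalso
        exact no_inv12 hh7M hoh7 Y (fun z => orbit_inv hY hh7 z) hY12
    have hFeq : ∀ x, ∀ y ∈ F x, F y = F x := by
      intro x y hy
      have hle : stabP K x ≤ stabP K y := by
        intro k hk
        exact mem_stabP.mpr ⟨stabP_le K x hk, (hFmem x y).mp hy k hk⟩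
      have heq : stabP K x = stabP K y :=
        Subgroup.eq_of_le_of_card_ge hle (by rw [hKx x, hKx y])
      ext z
      rw [hFmem, hFmem, heq]
    -- the fixed points of an element of order 7
    have hf7 := card_fix_seven (hK hg7) ho7
    have hev := even_card_of_pairs (Finset.univ.filter fun q => g7 q = q) F
      (fun x hx y hy => by
        have hx' : g7 x = x := (Finset.mem_filter.mp hx).2
        exact Finset.mem_filter.mpr ⟨Finset.mem_univ _,
          (hFmem x y).mp hy g7 (mem_stabP.mpr ⟨hg7, hx'⟩)⟩)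
      (fun x _ => hFself x) (fun x _ => hFcard x) (fun x _ => hFeq x)
    rw [hf7] at hev
    exact absurd hev (by decide)

end Cfsg.Agent.Lib.Helper93_S1589
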