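import Mathlib
import Cfsg.Agent.Lib.Helper93_S1589c
import Cfsg.Agent.Lib.Helper93_S1589d

/-!
Subgroups of `M24` of index 759, 276, 1771 and 253, at the level of permutations.
-/

set_option autoImplicit false
open Cfsg
open scoped Pointwise
open Cfsg.Agent.Lib.Helper26_Golay Cfsg.Agent.Lib.Helper93_M24Obj
open Cfsg.Agent.Lib.Helper93_S2882a Cfsg.Agent.Lib.Helper93_S2882b
open Cfsg.Agent.Lib.Helper93_S1609b

namespace Cfsg.Agent.Lib.Helper93_S1589

/-- Conjugation into the standard position. -/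
theorem conj_reduce (K : Subgroup (Equiv.Perm GolayPt)) (hK : K ≤ M24)
    (hd : 1024 ∣ Nat.card ↥K) :
    ∃ g ∈ M24, ∃ K1 : Subgroup (Equiv.Perm GolayPt), K1 ≤ M24 ∧ S0 ≤ K1 ∧
      Nat.card ↥K1 = Nat.card ↥K ∧ ∀ k ∈ K, g * k * g⁻¹ ∈ K1 := by
  obtain ⟨g, hg, hS⟩ := exists_conj_S0_le K hK hd
  let K1 : Subgroup (Equiv.Perm GolayPt) := K.map (MulAut.conj g).toMonoidHom
  have hK1mem : ∀ y, y ∈ K1 ↔ ∃ k ∈ K, g * k * g⁻¹ = y := by
    intro y
    simp only [K1, Subgroup.mem_map, MulEquiv.coe_toMonoidHom, MulAut.conj_apply]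
  refine ⟨g, hg, K1, ?_, ?_, ?_, ?_⟩
  · intro y hy
    obtain ⟨k, hk, rfl⟩ := (hK1mem y).mp hy
    exact M24.mul_mem (M24.mul_mem hg (hK hk)) (M24.inv_mem hg)
  · intro s hs
    rw [hK1mem]
    refine ⟨g⁻¹ * s * g, hS s hs, ?_⟩
    group
  · exact Subgroup.card_map_of_injective (MulAut.conj g).injective
  · intro k hk
    exact (hK1mem _).mpr ⟨k, hk, rfl⟩

/-- Transport of a stabilised object back along a conjugation. -/
theorem smul_of_conj_smul {Ω : Type*} [MulAction (Equiv.Perm GolayPt) Ω]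
    {g k : Equiv.Perm GolayPt} {ω : Ω} (h : (g * k * g⁻¹) • ω = ω) :
    k • (g⁻¹ • ω) = g⁻¹ • ω := by
  rw [mul_smul, mul_smul] at h
  have h2 := congrArg (fun F : Ω => g⁻¹ • F) h
  simpa only [inv_smul_smul] using h2

/-- Index 759: the subgroup stabilises an octad. -/
theorem perm_759 (K : Subgroup (Equiv.Perm GolayPt)) (hK : K ≤ M24)
    (hc : Nat.card ↥K = 322560) : ∃ o ∈ octads, ∀ k ∈ K, k • o = o := by
  obtain ⟨g, hg, K1, hK1M, hS, hc1, hconj⟩ := conj_reduce K hK (by rw [hc]; norm_num)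
  rw [hc] at hc1
  have h := pres_of_card_322560 K1 hK1M hS hc1
  refine ⟨g⁻¹ • oct8, smul_mem_octads (M24.inv_mem hg) oct8_mem, fun k hk => ?_⟩
  exact smul_of_conj_smul (h _ (hconj k hk))

/-- Index 1771: the subgroup stabilises a sextet. -/
theorem perm_1771 (K : Subgroup (Equiv.Perm GolayPt)) (hK : K ≤ M24)
    (hc : Nat.card ↥K = 138240) : ∃ S ∈ sextets, ∀ k ∈ K, k • S = S := by
  obtain ⟨g, hg, K1, hK1M, hS, hc1, hconj⟩ := conj_reduce K hK (by rw [hc]; norm_num)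
  rw [hc] at hc1
  have h := pres_of_card_138240 K1 hK1M hS hc1
  refine ⟨g⁻¹ • sS, smul_mem_sextets (M24.inv_mem hg) sS_mem, fun k hk => ?_⟩
  exact smul_of_conj_smul (h _ (hconj k hk))

/-- Index 253: impossible. -/
theorem perm_253 (K : Subgroup (Equiv.Perm GolayPt)) (hK : K ≤ M24)
    (hc : Nat.card ↥K = 967680) : False := by
  obtain ⟨g, hg, K1, hK1M, hS, hc1, hconj⟩ := conj_reduce K hK (by rw [hc]; norm_num)
  rw [hc] at hc1
  exact no_967680 K1 hK1M hS hc1

/-- The order of a subgroup of `M24` stabilising a pair of points is at most `887040`. -/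
theorem card_le_of_pair (L : Subgroup (Equiv.Perm GolayPt)) (hL : L ≤ M24)
    (s : Finset GolayPt) (hs : s.card = 2) (hLs : ∀ k ∈ L, k • s = s) :
    Nat.card ↥L ≤ 887040 := by
  have hN : {g : Equiv.Perm GolayPt | g ∈ L ∧ ∀ p ∈ s, g p = p}.ncard ≤ 443520 := by
    have h := ncard_Fix s 2 hs (by norm_num)
    have hd : Nat.descFactorial 24 2 = 552 := by decide
    rw [hd] at h
    have h2 : (PFix s).ncard = 443520 := by omega
    rw [← h2]
    apply Set.ncard_le_ncard _ (PFix_finite _)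
    rintro g ⟨hg, hgs⟩
    exact ⟨hL hg, hgs⟩
  have hb := card_le_of_stab L s hLs 443520 hN
  rw [hs] at hb
  norm_num [Nat.factorial] at hb
  exact hb

end Cfsg.Agent.Lib.Helper93_S1589
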