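import Mathlib
import Cfsg.Prelude.Def_Sporadic_a
import Cfsg.Agent.S0370
import Cfsg.Agent.S0371
import Cfsg.Agent.S0372

/-!
The affine group `23:11` on the 24 points: explicit description and order.
-/

set_option autoImplicit false
open Cfsg
open scoped Pointwise

namespace Cfsg.Agent.Lib.Helper93_S1643

/-- `t ↦ t + 1`. -/
abbrev alpha : Equiv.Perm GolayPt := Equiv.optionCongr (Equiv.addRight (1 : ZMod 23))

/-- `t ↦ u t`. -/
abbrev beta (u : (ZMod 23)ˣ) : Equiv.Perm GolayPt := Equiv.optionCongr (Units.mulLeft u)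

/-- The generating set of the affine group. -/
abbrev genF : Set (Equiv.Perm GolayPt) :=
  {alpha} ∪ {g : Equiv.Perm GolayPt | ∃ u : (ZMod 23)ˣ, IsSquare u ∧ g = beta u}

/-- The generating set of the projective group. -/
abbrev genL : Set (Equiv.Perm GolayPt) :=
  {alpha, Cfsg.projInv} ∪ {g : Equiv.Perm GolayPt | ∃ u : (ZMod 23)ˣ, IsSquare u ∧ g = beta u}

/-- The affine map `t ↦ u t + c`. -/
def aff (u : (ZMod 23)ˣ) (c : ZMod 23) : Equiv.Perm GolayPt :=
  Equiv.optionCongr ((Units.mulLeft u).trans (Equiv.addRight c))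

@[simp] theorem aff_none (u : (ZMod 23)ˣ) (c : ZMod 23) : aff u c none = none := rfl

@[simp] theorem aff_some (u : (ZMod 23)ˣ) (c t : ZMod 23) :
    aff u c (some t) = some ((u : ZMod 23) * t + c) := rfl

theorem aff_mul (u v : (ZMod 23)ˣ) (c d : ZMod 23) :
    aff u c * aff v d = aff (u * v) ((u : ZMod 23) * d + c) := by
  apply Equiv.ext
  intro p
  cases p with
  | none => rfl
  | some t =>
    simp only [Equiv.Perm.mul_apply, aff_some, Units.val_mul]
    congr 1
    ring

theorem aff_one : aff 1 0 = 1 := by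
  apply Equiv.ext
  intro p
  cases p with
  | none => rfl
  | some t => simp

theorem aff_inv (u : (ZMod 23)ˣ) (c : ZMod 23) :
    (aff u c)⁻¹ = aff u⁻¹ (-((u⁻¹ : (ZMod 23)ˣ) : ZMod 23) * c) := by
  rw [inv_eq_iff_mul_eq_one, aff_mul, ← aff_one]
  congr 1
  · simp
  · ring_nf
    simp

theorem alpha_eq : alpha = aff 1 1 := by
  apply Equiv.ext
  intro p
  cases p with
  | none => rfl
  | some t => simp [alpha]

theorem beta_eq (u : (ZMod 23)ˣ) : beta u = aff u 0 := by
  apply Equiv.ext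
  intro p
  cases p with
  | none => rfl
  | some t => simp [beta]

/-- The affine group as an explicit subgroup. -/
def affSq : Subgroup (Equiv.Perm GolayPt) where
  carrier := {g | ∃ u : (ZMod 23)ˣ, ∃ c : ZMod 23, IsSquare u ∧ g = aff u c}
  mul_mem' := by
    rintro _ _ ⟨u, c, hu, rfl⟩ ⟨v, d, hv, rfl⟩
    exact ⟨u * v, _, hu.mul hv, aff_mul u v c d⟩
  one_mem' := ⟨1, 0, IsSquare.one, aff_one.symm⟩
  inv_mem' := by
    rintro _ ⟨u, c, hu, rfl⟩
    exact ⟨u⁻¹, _, hu.inv, aff_inv u c⟩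

theorem mem_affSq {g : Equiv.Perm GolayPt} :
    g ∈ affSq ↔ ∃ u : (ZMod 23)ˣ, ∃ c : ZMod 23, IsSquare u ∧ g = aff u c := Iff.rfl

theorem alpha_pow (n : ℕ) : alpha ^ n = aff 1 (n : ZMod 23) := by
  induction n with
  | zero => simp [aff_one]
  | succ k ih =>
    rw [pow_succ, ih, alpha_eq, aff_mul]
    congr 1
    push_cast
    ring

theorem aff_eq (u : (ZMod 23)ˣ) (c : ZMod 23) : aff u c = alpha ^ c.val * beta u := by
  rw [alpha_pow, beta_eq, aff_mul]
  congr 1
  · simp
  · simp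

theorem closure_genF : Subgroup.closure genF = affSq := by
  apply le_antisymm
  · rw [Subgroup.closure_le]
    rintro g (hg | ⟨u, hu, rfl⟩)
    · rw [Set.mem_singleton_iff] at hg
      rw [hg]
      exact ⟨1, 1, IsSquare.one, alpha_eq⟩
    · exact ⟨u, 0, hu, beta_eq u⟩
  · rintro g ⟨u, c, hu, rfl⟩
    rw [aff_eq]
    have h1 : alpha ∈ Subgroup.closure genF := Subgroup.subset_closure (Or.inl rfl)
    have h2 : beta u ∈ Subgroup.closure genF := Subgroup.subset_closure (Or.inr ⟨u, hu, rfl⟩)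
    exact (Subgroup.closure genF).mul_mem ((Subgroup.closure genF).pow_mem h1 _) h2

theorem aff_injective {u v : (ZMod 23)ˣ} {c d : ZMod 23} (h : aff u c = aff v d) :
    u = v ∧ c = d := by
  have h0 := congrArg (fun g : Equiv.Perm GolayPt => g (some 0)) h
  have h1 := congrArg (fun g : Equiv.Perm GolayPt => g (some 1)) h
  simp only [aff_some, mul_zero, zero_add, mul_one, Option.some.injEq] at h0 h1
  subst h0
  refine ⟨Units.ext ?_, rfl⟩
  exact add_right_cancel h1

theorem card_squares : Nat.card {u : (ZMod 23)ˣ // IsSquare u} = 11 := by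
  rw [Nat.card_eq_fintype_card]
  decide

theorem card_affSq : Nat.card ↥affSq = 253 := by
  have e : ({u : (ZMod 23)ˣ // IsSquare u} × ZMod 23) ≃ ↥affSq :=
    Equiv.ofBijective (fun x => ⟨aff x.1.1 x.2, x.1.1, x.2, x.1.2, rfl⟩) (by
      constructor
      · rintro ⟨⟨u, hu⟩, c⟩ ⟨⟨v, hv⟩, d⟩ h
        have := aff_injective (congrArg Subtype.val h)
        obtain ⟨rfl, rfl⟩ := this
        rfl
      · rintro ⟨g, u, c, hu, rfl⟩
        exact ⟨⟨⟨u, hu⟩, c⟩, rfl⟩)
  rw [← Nat.card_congr e, Nat.card_prod, card_squares]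
  simp

end Cfsg.Agent.Lib.Helper93_S1643
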