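import Mathlib
import Cfsg.Agent.Lib.Helper93_S1643a

/-!
The projective group `L₂(23)` on the 24 points: its elements are fractional linear maps with
square determinant, hence the stabiliser of the extra point is the affine group.
-/

set_option autoImplicit false
open Cfsg
open scoped Pointwise

namespace Cfsg.Agent.Lib.Helper93_S1643

instance fact23 : Fact (Nat.Prime 23) := ⟨by norm_num⟩

/-- The fractional linear map `t ↦ (a t + b) / (c t + d)`. -/
def mob (a b c d : ZMod 23) : GolayPt → GolayPt
  | none => if c = 0 then none else some (a / c)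
  | some t => if c * t + d = 0 then none else some ((a * t + b) / (c * t + d))

/-- `g` is a fractional linear map with square determinant. -/
def IsMob (g : Equiv.Perm GolayPt) : Prop :=
  ∃ a b c d : ZMod 23, a * d - b * c ≠ 0 ∧ IsSquare (a * d - b * c) ∧ ∀ p, g p = mob a b c d p

theorem isMob_one : IsMob 1 := by
  refine ⟨1, 0, 0, 1, by simp, by simp, ?_⟩
  intro p
  cases p with
  | none => simp [mob]
  | some t => simp [mob]

theorem aff_mob (u : (ZMod 23)ˣ) (e a b c d : ZMod 23) (p : GolayPt) :
    aff u e (mob a b c d p) = mob (u * a + e * c) (u * b + e * d) c d p := by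
  cases p with
  | none =>
    by_cases hc : c = 0
    · simp [mob, hc]
    · simp only [mob, hc, if_false, aff_some, Option.some.injEq]
      field_simp
  | some t =>
    by_cases hc : c * t + d = 0
    · simp [mob, hc]
    · have hc' : c * t + d ≠ 0 := hc
      simp only [mob, hc, if_false, aff_some, Option.some.injEq]
      rw [eq_div_iff hc', add_mul, mul_assoc, div_mul_cancel₀ _ hc']
      ring

theorem isMob_aff_mul {u : (ZMod 23)ˣ} (hu : IsSquare u) (e : ZMod 23) {g : Equiv.Perm GolayPt}
    (hg : IsMob g) : IsMob (aff u e * g) := by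
  obtain ⟨a, b, c, d, h0, hsq, hg⟩ := hg
  have hdet : (u * a + e * c) * d - (u * b + e * d) * c = u * (a * d - b * c) := by ring
  refine ⟨u * a + e * c, u * b + e * d, c, d, ?_, ?_, ?_⟩
  · rw [hdet]
    exact mul_ne_zero u.ne_zero h0
  · rw [hdet]
    obtain ⟨r, hr⟩ := hu
    have : IsSquare (u : ZMod 23) := ⟨r, by rw [hr]; simp⟩
    exact this.mul hsq
  · intro p
    rw [Equiv.Perm.mul_apply, hg, aff_mob]

theorem pow21 (x : ZMod 23) (hx : x ≠ 0) : x ^ 21 = x⁻¹ := by
  have h := ZMod.pow_card_sub_one_eq_one hx
  have h2 : x ^ 21 * x = 1 := by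
    rw [← pow_succ]
    exact h
  exact eq_inv_of_mul_eq_one_left h2

theorem projInv_some {x : ZMod 23} (hx : x ≠ 0) : projInv (some x) = some (-x⁻¹) := by
  change projInvFun (some x) = _
  simp [projInvFun, hx, pow21 x hx]

theorem projInv_zero : projInv (some 0) = none := rfl

theorem projInv_none : projInv none = some 0 := rfl

theorem projInv_mob {a b c d : ZMod 23} (h0 : a * d - b * c ≠ 0) (p : GolayPt) :
    projInv (mob a b c d p) = mob (-c) (-d) a b p := by
  cases p with
  | none =>
    by_cases hc : c = 0
    · have ha : a ≠ 0 := by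
        rintro rfl
        apply h0
        rw [hc]
        ring
      simp [mob, hc, ha, projInv_none]
    · by_cases ha : a = 0
      · simp [mob, hc, ha, projInv_zero]
      · simp only [mob, hc, ha, if_false]
        rw [projInv_some (div_ne_zero ha hc)]
        congr 1
        field_simp
  | some t =>
    by_cases hc : c * t + d = 0
    · have ha : a * t + b ≠ 0 := by
        intro h
        apply h0
        have h1 : d = -(c * t) := by linear_combination hc
        have h2 : b = -(a * t) := by linear_combination h
        rw [h1, h2]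
        ring
      simp only [mob, hc, ha, if_true, if_false, projInv_none]
      congr 1
      rw [eq_div_iff ha]
      linear_combination hc
    · by_cases ha : a * t + b = 0
      · simp [mob, hc, ha, projInv_zero]
      · simp only [mob, hc, ha, if_false]
        rw [projInv_some (div_ne_zero ha hc)]
        congr 1
        field_simp
        ring

theorem isMob_projInv_mul {g : Equiv.Perm GolayPt} (hg : IsMob g) : IsMob (projInv * g) := by
  obtain ⟨a, b, c, d, h0, hsq, hg⟩ := hg
  have hdet : (-c) * b - (-d) * a = a * d - b * c := by ring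
  refine ⟨-c, -d, a, b, by rw [hdet]; exact h0, by rw [hdet]; exact hsq, ?_⟩
  intro p
  rw [Equiv.Perm.mul_apply, hg, projInv_mob h0]

theorem projInv_inv : projInv⁻¹ = projInv := rfl

theorem isMob_of_mem {g : Equiv.Perm GolayPt} (hg : g ∈ Subgroup.closure genL) : IsMob g := by
  induction hg using Subgroup.closure_induction_left with
  | one => exact isMob_one
  | mul_left x hx y _ ih =>
    rcases hx with (hx | hx) | ⟨u, hu, rfl⟩
    · rw [hx, alpha_eq]
      exact isMob_aff_mul IsSquare.one _ ih
    · rw [Set.mem_singleton_iff] at hx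
      rw [hx]
      exact isMob_projInv_mul ih
    · rw [beta_eq]
      exact isMob_aff_mul hu _ ih
  | inv_mul_cancel x hx y _ ih =>
    rcases hx with (hx | hx) | ⟨u, hu, rfl⟩
    · rw [hx, alpha_eq, aff_inv]
      exact isMob_aff_mul IsSquare.one.inv _ ih
    · rw [Set.mem_singleton_iff] at hx
      rw [hx, projInv_inv]
      exact isMob_projInv_mul ih
    · rw [beta_eq, aff_inv]
      exact isMob_aff_mul hu.inv _ ih

theorem mem_affSq_of_isMob {g : Equiv.Perm GolayPt} (hg : IsMob g) (h : g none = none) :
    g ∈ affSq := by
  obtain ⟨a, b, c, d, h0, hsq, hg⟩ := hg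
  have hc : c = 0 := by
    by_contra hc
    have := hg none
    rw [h] at this
    simp [mob, hc] at this
  subst hc
  have had : a * d ≠ 0 := by simpa using h0
  have ha : a ≠ 0 := left_ne_zero_of_mul had
  have hd : d ≠ 0 := right_ne_zero_of_mul had
  have hsq' : IsSquare (a / d) := by
    have h1 : a / d = (a * d - b * 0) * (d⁻¹ * d⁻¹) := by
      field_simp
      ring
    rw [h1]
    exact hsq.mul ⟨d⁻¹, rfl⟩
  obtain ⟨r, hr⟩ := hsq'
  have hr0 : r ≠ 0 := by
    rintro rfl
    have : a / d = 0 := by rw [hr]; ring
    exact div_ne_zero ha hd this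
  refine ⟨Units.mk0 (a / d) (div_ne_zero ha hd), b / d, ⟨Units.mk0 r hr0, ?_⟩, ?_⟩
  · apply Units.ext
    simp [hr]
  · apply Equiv.ext
    intro p
    rw [hg]
    cases p with
    | none => simp [mob]
    | some t =>
      simp only [mob, zero_mul, zero_add, hd, if_false, aff_some, Units.val_mk0,
        Option.some.injEq]
      field_simp

theorem affSq_le_closure_genL : affSq ≤ Subgroup.closure genL := by
  rw [← closure_genF]
  apply Subgroup.closure_mono
  rintro g (hg | hg)
  · exact Or.inl (Or.inl hg)
  · exact Or.inr hg

theorem closure_genL_inf_stab :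
    Subgroup.closure genL ⊓ MulAction.stabilizer (Equiv.Perm GolayPt) (none : GolayPt) = affSq := by
  apply le_antisymm
  · rintro g ⟨hg, hs⟩
    exact mem_affSq_of_isMob (isMob_of_mem hg) (MulAction.mem_stabilizer_iff.mp hs)
  · intro g hg
    refine ⟨affSq_le_closure_genL hg, ?_⟩
    obtain ⟨u, c, _, rfl⟩ := hg
    exact MulAction.mem_stabilizer_iff.mpr rfl

end Cfsg.Agent.Lib.Helper93_S1643
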