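import Mathlib
import Cfsg.Agent.Lib.Helper93_S1643b
import Cfsg.Agent.Lib.Helper93_S1609b

/-!
Sylow counting in a subgroup of an ambient group, the order of `M23`, orders of transitive
subgroups of `M24`, and the order of `L₂(23)`.
-/

set_option autoImplicit false
open Cfsg
open scoped Pointwise
open Cfsg.Agent.Lib.Helper93_M24Obj

namespace Cfsg.Agent.Lib.Helper93_S1643

theorem sylow_count {G : Type*} [Group G] [Finite G] (p : ℕ) [Fact p.Prime] (P : Subgroup G)
    (hP : Nat.card P = p) (hG : ¬ p ^ 2 ∣ Nat.card G) :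
    ∃ m, m % p = 1 ∧ Nat.card G = Nat.card ↥(Subgroup.normalizer (P : Set G)) * m := by
  have hp : p.Prime := Fact.out
  have hn : Nat.card G ≠ 0 := Nat.card_pos.ne'
  have hdvd : p ∣ Nat.card G := hP ▸ Subgroup.card_subgroup_dvd_card P
  have hfac : (Nat.card G).factorization p = 1 := by
    have h1 : 1 ≤ (Nat.card G).factorization p :=
      (hp.dvd_iff_one_le_factorization hn).mp hdvd
    have h2 : (Nat.card G).factorization p < 2 := by
      by_contra h
      push Not at h
      apply hG
      exact (pow_dvd_pow p h).trans (Nat.ordProj_dvd _ _)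
    omega
  let S : Sylow p G := Sylow.ofCard P (by rw [hP, hfac, pow_one])
  have h1 := Sylow.card_eq_index_normalizer S
  have h2 := card_sylow_modEq_one p G
  refine ⟨Nat.card (Sylow p G), ?_, ?_⟩
  · have : 1 % p = 1 := Nat.mod_eq_of_lt hp.one_lt
    rw [← this]
    exact h2
  · rw [h1]
    have : (S : Set G) = (P : Set G) := by
      have h3 : (S : Subgroup G) = P := Sylow.coe_ofCard P _
      rw [← h3]
      rfl
    rw [this]
    exact (Subgroup.card_mul_index _).symm

/-- Version inside a subgroup `K` of an ambient group. -/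
theorem sylow_count_sub {G : Type*} [Group G] (K P : Subgroup G) [Finite K] (p : ℕ) [Fact p.Prime]
    (hPK : P ≤ K) (hP : Nat.card P = p) (hK : ¬ p ^ 2 ∣ Nat.card K) :
    ∃ m, m % p = 1 ∧
      Nat.card K = Nat.card ↥((Subgroup.normalizer (P : Set G)).subgroupOf K) * m := by
  have h1 : Nat.card ↥(P.subgroupOf K) = p := by
    rw [Nat.card_congr (Subgroup.subgroupOfEquivOfLe hPK).toEquiv, hP]
  obtain ⟨m, hm, h⟩ := sylow_count p (P.subgroupOf K) h1 hK
  refine ⟨m, hm, ?_⟩
  rw [h, Subgroup.subgroupOf_normalizer_eq hPK]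

/-- The stabiliser of the extra point in `M24`, as a group of permutations. -/
def M23 : Subgroup (Equiv.Perm GolayPt) :=
  M24 ⊓ MulAction.stabilizer (Equiv.Perm GolayPt) (none : GolayPt)

theorem mem_M23 {g : Equiv.Perm GolayPt} : g ∈ M23 ↔ g ∈ M24 ∧ g none = none := by
  unfold M23
  rw [Subgroup.mem_inf, MulAction.mem_stabilizer_iff]
  rfl

theorem card_M23 : Nat.card ↥M23 = 10200960 := by
  have h := Cfsg.Agent.Lib.Helper93_S1609b.ncard_Fix1 {none} (by simp)
  have h2 : (M23 : Set (Equiv.Perm GolayPt)) = Cfsg.Agent.Lib.Helper93_S1609b.PFix {none} := by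
    ext g
    rw [SetLike.mem_coe, mem_M23]
    unfold Cfsg.Agent.Lib.Helper93_S1609b.PFix
    simp
  have h3 : Nat.card ↥M23 = (M23 : Set (Equiv.Perm GolayPt)).ncard := Nat.card_coe_set_eq _
  rw [h3, h2, h]

/-- A subgroup containing the projective group is transitive, so its order is 24 times the
order of the stabiliser of the extra point. -/
theorem card_eq_of_genL_le (H : Subgroup (Equiv.Perm GolayPt))
    (hH : Subgroup.closure genL ≤ H) :
    Nat.card ↥H =
      24 * Nat.card ↥(H ⊓ MulAction.stabilizer (Equiv.Perm GolayPt) (none : GolayPt)) := by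
  have h := card_eq_orbit_mul_stab H none Finset.univ (fun _ _ => Finset.mem_univ _) (by
    intro q _
    cases q with
    | none => exact ⟨1, H.one_mem, rfl⟩
    | some c =>
      refine ⟨aff 1 c * projInv, ?_, ?_⟩
      · apply hH
        apply Subgroup.mul_mem
        · exact affSq_le_closure_genL ⟨1, c, IsSquare.one, rfl⟩
        · exact Subgroup.subset_closure (Or.inl (Or.inr rfl))
      · rw [Equiv.Perm.mul_apply, projInv_none, aff_some]
        simp)
  rw [h]
  have h2 : ((H ⊓ MulAction.stabilizer (Equiv.Perm GolayPt) (none : GolayPt) :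
      Subgroup (Equiv.Perm GolayPt)) : Set (Equiv.Perm GolayPt)) =
      {n : Equiv.Perm GolayPt | n ∈ H ∧ n none = none} := by
    ext g
    rw [SetLike.mem_coe, Subgroup.mem_inf, MulAction.mem_stabilizer_iff]
    rfl
  have h3 : Nat.card ↥(H ⊓ MulAction.stabilizer (Equiv.Perm GolayPt) (none : GolayPt)) =
      ((H ⊓ MulAction.stabilizer (Equiv.Perm GolayPt) (none : GolayPt) :
      Subgroup (Equiv.Perm GolayPt)) : Set (Equiv.Perm GolayPt)).ncard := Nat.card_coe_set_eq _
  rw [h3, h2]
  rfl

theorem card_closure_genL : Nat.card ↥(Subgroup.closure genL) = 6072 := by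
  rw [card_eq_of_genL_le _ le_rfl, closure_genL_inf_stab, card_affSq]

theorem genL_le_M24 : Subgroup.closure genL ≤ M24 := by
  rw [Subgroup.closure_le]
  rintro g ((hg | hg) | ⟨u, hu, rfl⟩)
  · rw [hg]
    exact Cfsg.Agent.S0370.result
  · rw [Set.mem_singleton_iff] at hg
    rw [hg]
    exact Cfsg.Agent.S0372.result
  · exact Cfsg.Agent.S0371.result u hu

theorem affSq_le_M23 : affSq ≤ M23 := by
  intro g hg
  rw [mem_M23]
  refine ⟨genL_le_M24 (affSq_le_closure_genL hg), ?_⟩
  obtain ⟨u, c, _, rfl⟩ := hg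
  rfl

theorem card_M24 : Nat.card ↥M24 = 244823040 := Cfsg.Agent.S0364.result

end Cfsg.Agent.Lib.Helper93_S1643
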