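import Mathlib
import Cfsg.Agent.Lib.Helper93_S1643c
import Cfsg.Agent.Lib.Helper93_M24Cyc
import Cfsg.Agent.Lib.Helper93_M24Tbl

/-!
The normaliser in `M23` of the group generated by `t ↦ t + 1` is the affine group `23:11`.
-/

set_option autoImplicit false
open Cfsg
open scoped Pointwise
open Cfsg.Agent.Lib.Helper26_Golay Cfsg.Agent.Lib.Helper93_M24Obj

namespace Cfsg.Agent.Lib.Helper93_S1643

/-- The table of `t ↦ -t`. -/
def fneg (i : ℕ) : ℕ := if i = 23 then 23 else (23 - i) % 23

theorem repF_neg : RepF (aff (-1) 0) fneg := by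
  intro p
  cases p with
  | none => rfl
  | some t =>
    revert t
    decide

theorem neg_check : isCode (permMask (tblOf fneg) (genMask 0)) = false := by decide +kernel

theorem genMask_zero_isCode : isCode (genMask 0) = true := by decide +kernel

theorem neg_not_mem : aff (-1) 0 ∉ M24 := by
  intro h
  have h1 := isCode_permMask_of_mem (represents_tblOf repF_neg) h genMask_zero_isCode
  rw [neg_check] at h1
  exact absurd h1 (by decide)

theorem isSquare_or_neg : ∀ u : (ZMod 23)ˣ, IsSquare u ∨ IsSquare (-u) := by decide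

theorem alpha_some (t : ZMod 23) : alpha (some t) = some (t + 1) := rfl

theorem mem_affSq_of_normalizes {g : Equiv.Perm GolayPt} (hg : g ∈ M24) (h0 : g none = none)
    (i : ℕ) (hi : g * alpha * g⁻¹ = alpha ^ i) : g ∈ affSq := by
  have hcomm : ∀ p, g (alpha p) = (alpha ^ i) (g p) := by
    intro p
    have h1 : g * alpha = alpha ^ i * g := by
      rw [← hi]
      group
    have h2 := congrArg (fun f : Equiv.Perm GolayPt => f p) h1
    simpa [Equiv.Perm.mul_apply] using h2
  obtain ⟨c, hc⟩ : ∃ c, g (some 0) = some c := by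
    cases h : g (some 0) with
    | none =>
      exfalso
      have := g.injective (h.trans h0.symm)
      exact absurd this (by simp)
    | some c => exact ⟨c, rfl⟩
  have key : ∀ n : ℕ, g (some (n : ZMod 23)) = some ((i : ZMod 23) * n + c) := by
    intro n
    induction n with
    | zero => simpa using hc
    | succ n ih =>
      have h1 : (some ((n + 1 : ℕ) : ZMod 23) : GolayPt) = alpha (some (n : ZMod 23)) := by
        rw [alpha_some]
        push_cast
        rfl
      rw [h1, hcomm, ih, alpha_pow, aff_some]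
      congr 1
      push_cast
      ring
  have key2 : ∀ t : ZMod 23, g (some t) = some ((i : ZMod 23) * t + c) := by
    intro t
    have := key t.val
    rwa [ZMod.natCast_zmod_val] at this
  have hi0 : (i : ZMod 23) ≠ 0 := by
    intro h
    have h1 := key2 0
    have h2 := key2 1
    rw [h] at h1 h2
    have : g (some 0) = g (some 1) := by
      rw [h1, h2]
      simp
    have := g.injective this
    exact absurd this (by decide)
  have hgaff : g = aff (Units.mk0 (i : ZMod 23) hi0) c := by
    apply Equiv.ext
    intro p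
    cases p with
    | none => rw [h0]; rfl
    | some t => rw [key2, aff_some, Units.val_mk0]
  rcases isSquare_or_neg (Units.mk0 (i : ZMod 23) hi0) with hsq | hsq
  · exact ⟨_, c, hsq, hgaff⟩
  · exfalso
    apply neg_not_mem
    set u := Units.mk0 (i : ZMod 23) hi0 with hu
    have h1 : aff (-u)⁻¹ 0 ∈ M24 := by
      rw [← beta_eq]
      exact Cfsg.Agent.S0371.result _ hsq.inv
    have h2 : aff 1 (-c) ∈ M24 := (affSq_le_M23.trans inf_le_left) ⟨1, -c, IsSquare.one, rfl⟩
    have h3 : aff (-u)⁻¹ 0 * (aff 1 (-c) * g) = aff (-1) 0 := by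
      rw [hgaff, aff_mul, aff_mul]
      congr 1
      · rw [one_mul, ← neg_inv, neg_mul, inv_mul_cancel]
      · simp only [Units.val_one, one_mul, add_neg_cancel, mul_zero, add_zero]
    rw [← h3]
    exact M24.mul_mem h1 (M24.mul_mem h2 hg)

theorem aff_conj_alpha (u : (ZMod 23)ˣ) (c : ZMod 23) :
    aff u c * alpha * (aff u c)⁻¹ = alpha ^ (u : ZMod 23).val := by
  rw [alpha_pow, alpha_eq, aff_inv, aff_mul, aff_mul, ZMod.natCast_zmod_val]
  congr 1
  · simp
  · simp only [Units.val_mul, Units.val_one, mul_one]
    have : (u : ZMod 23) * ((u⁻¹ : (ZMod 23)ˣ) : ZMod 23) = 1 := by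
      rw [← Units.val_mul, mul_inv_cancel, Units.val_one]
    linear_combination (-c) * this

/-- The normaliser of `⟨t ↦ t+1⟩` in a subgroup `K` of `M23` containing `23:11`. -/
theorem normalizer_alpha_subgroupOf (K : Subgroup (Equiv.Perm GolayPt)) (hK : K ≤ M23) :
    (Subgroup.normalizer (Subgroup.zpowers alpha : Set (Equiv.Perm GolayPt))).subgroupOf K =
      affSq.subgroupOf K := by
  ext x
  rw [Subgroup.mem_subgroupOf, Subgroup.mem_subgroupOf, mem_normalizer_zpowers_iff]
  constructor
  · rintro ⟨i, hi⟩
    have hx := mem_M23.mp (hK x.2)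
    exact mem_affSq_of_normalizes hx.1 hx.2 i hi
  · rintro ⟨u, c, _, hx⟩
    exact ⟨_, by rw [hx]; exact aff_conj_alpha u c⟩

theorem card_zpowers_alpha : Nat.card ↥(Subgroup.zpowers alpha) = 23 := by
  rw [Nat.card_zpowers]
  apply orderOf_eq_prime
  · rw [alpha_pow, ← aff_one]
    congr 1
  · intro h
    have := congrArg (fun f : Equiv.Perm GolayPt => f (some 0)) h
    exact absurd this (by decide)

theorem zpowers_alpha_le : Subgroup.zpowers alpha ≤ affSq := by
  rw [Subgroup.zpowers_le]
  exact ⟨1, 1, IsSquare.one, alpha_eq⟩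

end Cfsg.Agent.Lib.Helper93_S1643
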