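import Mathlib
import Cfsg.Agent.Lib.Helper93_S1643d

/-!
The normaliser in `M23` of the group of order 11 generated by `t ↦ 2 t` has at most 55 elements
and no involutions.
-/

set_option autoImplicit false
open Cfsg
open scoped Pointwise
open Cfsg.Agent.Lib.Helper26_Golay Cfsg.Agent.Lib.Helper93_M24Obj

namespace Cfsg.Agent.Lib.Helper93_S1643

/-- The unit `2` of `ZMod 23`. -/
def two : (ZMod 23)ˣ := Units.mk0 2 (by decide)

theorem two_val : (two : ZMod 23) = 2 := rfl

theorem isSquare_two : IsSquare two := ⟨Units.mk0 5 (by decide), by apply Units.ext; decide⟩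

/-- `t ↦ 2 t`. -/
def beta2 : Equiv.Perm GolayPt := aff two 0

theorem aff_pow (u : (ZMod 23)ˣ) (n : ℕ) : (aff u 0) ^ n = aff (u ^ n) 0 := by
  induction n with
  | zero => simp [aff_one]
  | succ k ih =>
    rw [pow_succ, ih, aff_mul, pow_succ, mul_zero, add_zero]

def dlogL : List ℕ := [0, 0, 1, 8, 2, 0, 9, 9, 3, 5, 1, 4, 10, 7, 10, 8, 4, 3, 6, 7, 2, 6, 5]
def clsL : List ℕ := [0, 1, 1, 1, 1, 5, 1, 5, 1, 1, 5, 5, 1, 1, 5, 5, 1, 5, 1, 5, 5, 5, 5]
def dlogN (x : ℕ) : ℕ := dlogL.getD x 0
def clsN (x : ℕ) : ℕ := clsL.getD x 0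

/-- The candidate table with parameters `j`, `a`, `b`. -/
def fN (j a b x : ℕ) : ℕ :=
  if x = 23 then 23 else if x = 0 then 0 else
    (2 ^ ((j * dlogN x) % 11) * (if clsN x = 1 then a else b)) % 23

theorem decomp : ∀ t : ZMod 23, t ≠ 0 →
    (clsN t.val = 1 ∨ clsN t.val = 5) ∧
      t = 2 ^ (dlogN t.val) * ((clsN t.val : ℕ) : ZMod 23) := by decide

theorem two_pow_eleven : (2 : ZMod 23) ^ 11 = 1 := by decide

theorem val_two_pow_mul (e : ℕ) (y : ZMod 23) :
    ((2 : ZMod 23) ^ e * y).val = (2 ^ e * y.val) % 23 := by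
  rw [ZMod.val_mul]
  have h : ((2 : ZMod 23) ^ e) = ((2 ^ e : ℕ) : ZMod 23) := by push_cast; rfl
  rw [h, ZMod.val_natCast, Nat.mod_mul_mod]

theorem repF_of_normalizes {g : Equiv.Perm GolayPt} (h0 : g none = none) (i : ℕ)
    (hi : g * beta2 * g⁻¹ = beta2 ^ i) :
    ∃ a b : ℕ, a < 23 ∧ b < 23 ∧ RepF g (fN (i % 11) a b) := by
  have hcomm : ∀ p, g (beta2 p) = (beta2 ^ i) (g p) := by
    intro p
    have h1 : g * beta2 = beta2 ^ i * g := by
      rw [← hi]
      group
    have h2 := congrArg (fun f : Equiv.Perm GolayPt => f p) h1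
    simpa [Equiv.Perm.mul_apply] using h2
  have hpow : beta2 ^ i = aff (two ^ i) 0 := aff_pow two i
  have hsome : ∀ x : ZMod 23, ∃ y, g (some x) = some y := by
    intro x
    cases h : g (some x) with
    | none =>
      exfalso
      have := g.injective (h.trans h0.symm)
      exact absurd this (by simp)
    | some c => exact ⟨c, rfl⟩
  have hstep : ∀ x y : ZMod 23, g (some x) = some y → g (some (2 * x)) = some (2 ^ i * y) := by
    intro x y hxy
    have h1 : (some (2 * x) : GolayPt) = beta2 (some x) := by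
      unfold beta2
      rw [aff_some, two_val, add_zero]
    rw [h1, hcomm, hxy, hpow, aff_some]
    simp [two_val]
  have hne : (2 : ZMod 23) ^ i ≠ 1 := by
    intro h
    have h1 : two ^ i = 1 := by
      apply Units.ext
      simpa [two_val] using h
    rw [hpow, h1, aff_one] at hi
    have h2 : beta2 = 1 := by
      have : g * beta2 = g := by
        calc g * beta2 = g * beta2 * g⁻¹ * g := by group
          _ = g := by rw [hi, one_mul]
      exact mul_eq_left.mp this
    have := congrArg (fun f : Equiv.Perm GolayPt => f (some 1)) h2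
    exact absurd this (by decide)
  have hzero : g (some 0) = some 0 := by
    obtain ⟨z, hz⟩ := hsome 0
    have h1 := hstep 0 z hz
    rw [mul_zero, hz, Option.some.injEq] at h1
    have h2 : ((2 : ZMod 23) ^ i - 1) * z = 0 := by linear_combination -h1
    rcases mul_eq_zero.mp h2 with h3 | h3
    · exact absurd (sub_eq_zero.mp h3) hne
    · rw [hz, h3]
  obtain ⟨a, ha⟩ := hsome 1
  obtain ⟨b, hb⟩ := hsome 5
  have key : ∀ k : ℕ, ∀ x y : ZMod 23, g (some x) = some y →
      g (some (2 ^ k * x)) = some (2 ^ (i * k) * y) := by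
    intro k
    induction k with
    | zero => intro x y h; simpa using h
    | succ k ih =>
      intro x y h
      have := hstep _ _ (ih x y h)
      rw [pow_succ, mul_comm (2 ^ k) 2, mul_assoc, this]
      congr 1
      ring
  refine ⟨a.val, b.val, ZMod.val_lt a, ZMod.val_lt b, ?_⟩
  intro p
  cases p with
  | none =>
    rw [h0]
    rfl
  | some t =>
    by_cases ht : t = 0
    · subst ht
      rw [hzero]
      rfl
    · obtain ⟨hcls, hdec⟩ := decomp t ht
      have hidx : idx (some t : GolayPt) = t.val := rfl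
      have ht0 : t.val ≠ 0 := by
        intro h
        exact ht ((ZMod.val_eq_zero t).mp h)
      have ht23 : t.val ≠ 23 := (ZMod.val_lt t).ne
      have hexp : (2 : ZMod 23) ^ (i * dlogN t.val) = 2 ^ ((i % 11 * dlogN t.val) % 11) := by
        rw [pow_eq_pow_mod _ two_pow_eleven, Nat.mod_mul_mod]
      rw [hidx]
      unfold fN
      rw [if_neg ht23, if_neg ht0]
      rcases hcls with hc | hc
      · rw [hc, Nat.cast_one] at hdec
        have h1 := key (dlogN t.val) 1 a ha
        rw [← hdec] at h1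
        rw [h1, hexp, if_pos hc]
        exact val_two_pow_mul _ _
      · have h5 : ((5 : ℕ) : ZMod 23) = 5 := rfl
        rw [hc, h5] at hdec
        have h1 := key (dlogN t.val) 5 b hb
        rw [← hdec] at h1
        rw [h1, hexp, if_neg (by rw [hc]; decide)]
        exact val_two_pow_mul _ _

/-- The Boolean test on a candidate table. -/
def chk (j a b : ℕ) : Bool :=
  allFold (fun m => isCodeF (permMask (tblOf (fN j a b)) (basisMask m))) 12

def JL : List ℕ := [1, 3, 4, 5, 9]
def AL : List ℕ := [1, 2, 3, 4, 6, 8, 9, 12, 13, 16, 18]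

def good (j a b : ℕ) : Bool := JL.contains j && AL.contains a && (b == 5 * a % 23)

set_option maxRecDepth 100000 in
theorem chk_all : allFold (fun j => allFold (fun a => allFold (fun b =>
    !(chk j a b) || good j a b) 23) 23) 11 = true := by decide +kernel

theorem basis_isCode : ∀ m < 12, isCode (basisMask m) = true := by decide +kernel

theorem good_of_mem {g : Equiv.Perm GolayPt} (hg : g ∈ M24) {j a b : ℕ} (hj : j < 11)
    (ha : a < 23) (hb : b < 23) (hrep : RepF g (fN j a b)) : good j a b = true := by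
  have h := chk_all
  rw [allFold_eq_true] at h
  have h1 := h j hj
  rw [allFold_eq_true] at h1
  have h2 := h1 a ha
  rw [allFold_eq_true] at h2
  have h3 := h2 b hb
  have hchk : chk j a b = true := by
    unfold chk
    rw [allFold_eq_true]
    intro m hm
    rw [isCodeF_eq]
    exact isCode_permMask_of_mem (represents_tblOf hrep) hg (basis_isCode m hm)
  rw [hchk] at h3
  simpa using h3

/-- The elements of `M23` normalising `⟨t ↦ 2t⟩`. -/
def NQ : Set (Equiv.Perm GolayPt) :=
  {g | g ∈ M24 ∧ g none = none ∧ ∃ i : ℕ, g * beta2 * g⁻¹ = beta2 ^ i}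

theorem NQ_rep {g : Equiv.Perm GolayPt} (hg : g ∈ NQ) :
    ∃ j ∈ JL, ∃ a ∈ AL, RepF g (fN j a (5 * a % 23)) := by
  obtain ⟨hM, h0, i, hi⟩ := hg
  obtain ⟨a, b, ha, hb, hrep⟩ := repF_of_normalizes h0 i hi
  have hgood := good_of_mem hM (Nat.mod_lt i (by norm_num)) ha hb hrep
  unfold good at hgood
  rw [Bool.and_eq_true, Bool.and_eq_true, beq_iff_eq] at hgood
  obtain ⟨⟨h1, h2⟩, h3⟩ := hgood
  refine ⟨i % 11, by simpa using h1, a, by simpa using h2, ?_⟩
  rw [← h3]
  exact hrep

theorem NQ_ncard_le : NQ.ncard ≤ 55 := by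
  classical
  let ψ : ℕ × ℕ → Equiv.Perm GolayPt := fun x =>
    if h : ∃ g : Equiv.Perm GolayPt, RepF g (fN x.1 x.2 (5 * x.2 % 23)) then h.choose else 1
  let JA : Finset (ℕ × ℕ) := (JL.toFinset) ×ˢ (AL.toFinset)
  have hsub : NQ ⊆ ψ '' (JA : Set (ℕ × ℕ)) := by
    intro g hg
    obtain ⟨j, hj, a, ha, hrep⟩ := NQ_rep hg
    refine ⟨(j, a), ?_, ?_⟩
    · simp only [JA, Finset.coe_product, Set.mem_prod, Finset.mem_coe, List.mem_toFinset]
      exact ⟨hj, ha⟩
    · have hex : ∃ g : Equiv.Perm GolayPt, RepF g (fN j a (5 * a % 23)) := ⟨g, hrep⟩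
      simp only [ψ, dif_pos hex]
      exact RepF.unique hex.choose_spec hrep
  calc NQ.ncard ≤ (ψ '' (JA : Set (ℕ × ℕ))).ncard := Set.ncard_le_ncard hsub (Set.toFinite _)
    _ ≤ (JA : Set (ℕ × ℕ)).ncard := Set.ncard_image_le (Set.toFinite _)
    _ = JA.card := Set.ncard_coe_finset _
    _ ≤ 55 := by decide

theorem invol_check : ∀ j ∈ JL, ∀ a ∈ AL, sqId (fN j a (5 * a % 23)) = true → j = 1 ∧ a = 1 := by
  decide +kernel

theorem fN_id : ∀ i < 24, fN 1 1 5 i = i := by decide +kernel

theorem NQ_no_invol {g : Equiv.Perm GolayPt} (hg : g ∈ NQ) (h2 : g ^ 2 = 1) : g = 1 := by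
  obtain ⟨j, hj, a, ha, hrep⟩ := NQ_rep hg
  have h := invol_check j hj a ha (sqId_of_pow hrep h2)
  obtain ⟨rfl, rfl⟩ := h
  have h1 : RepF g (fun i => i) := hrep.congr fN_id
  exact RepF.unique h1 RepF.one

end Cfsg.Agent.Lib.Helper93_S1643
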