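import Mathlib
import Cfsg.Agent.Lib.Helper93_S1643e

/-!
`23:11` is maximal in `M23` and `L₂(23)` is maximal in `M24`.
-/

set_option autoImplicit false
open Cfsg
open scoped Pointwise
open Cfsg.Agent.Lib.Helper26_Golay Cfsg.Agent.Lib.Helper93_M24Obj

namespace Cfsg.Agent.Lib.Helper93_S1643

theorem isCoatom_subgroupOf {G : Type*} [Group G] {Y S : Subgroup G} (hYS : Y ≤ S) (hne : Y ≠ S)
    (h : ∀ K : Subgroup G, Y ≤ K → K ≤ S → K = Y ∨ K = S) : IsCoatom (Y.subgroupOf S) := by
  constructor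
  · intro htop
    rw [Subgroup.subgroupOf_eq_top] at htop
    exact hne (le_antisymm hYS htop)
  · intro b hb
    have hbK : (b.map S.subtype).subgroupOf S = b :=
      Subgroup.comap_map_eq_self_of_injective Subtype.coe_injective b
    have h1 : Y ≤ b.map S.subtype := by
      intro y hy
      exact ⟨⟨y, hYS hy⟩, hb.le (show (⟨y, hYS hy⟩ : ↥S) ∈ Y.subgroupOf S from hy), rfl⟩
    rcases h _ h1 (Subgroup.map_subtype_le b) with h2 | h2
    · exfalso
      rw [h2] at hbK
      exact hb.ne hbK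
    · rw [← hbK, h2, Subgroup.subgroupOf_eq_top]

instance fact11 : Fact (Nat.Prime 11) := ⟨by norm_num⟩

theorem two_pow : two ^ 11 = 1 := by
  apply Units.ext
  decide

theorem card_zpowers_beta2 : Nat.card ↥(Subgroup.zpowers beta2) = 11 := by
  rw [Nat.card_zpowers]
  apply orderOf_eq_prime
  · unfold beta2
    rw [aff_pow, two_pow, aff_one]
  · intro h
    have := congrArg (fun f : Equiv.Perm GolayPt => f (some 1)) h
    exact absurd this (by decide)

theorem zpowers_beta2_le : Subgroup.zpowers beta2 ≤ affSq := by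
  rw [Subgroup.zpowers_le]
  exact ⟨two, 0, isSquare_two, rfl⟩

theorem card_subgroupOf_of_le {G : Type*} [Group G] {H K : Subgroup G} (h : H ≤ K) :
    Nat.card ↥(H.subgroupOf K) = Nat.card ↥H :=
  Nat.card_congr (Subgroup.subgroupOfEquivOfLe h).toEquiv

/-- The order of the normaliser of `⟨t ↦ 2t⟩` in a subgroup of `M23`. -/
theorem card_normalizer_beta2 (K : Subgroup (Equiv.Perm GolayPt)) (hK : K ≤ M23)
    (hQ : Subgroup.zpowers beta2 ≤ K) :
    Nat.card ↥((Subgroup.normalizer
      (Subgroup.zpowers beta2 : Set (Equiv.Perm GolayPt))).subgroupOf K) = 11 ∨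
    Nat.card ↥((Subgroup.normalizer
      (Subgroup.zpowers beta2 : Set (Equiv.Perm GolayPt))).subgroupOf K) = 33 ∨
    Nat.card ↥((Subgroup.normalizer
      (Subgroup.zpowers beta2 : Set (Equiv.Perm GolayPt))).subgroupOf K) = 55 := by
  set N := (Subgroup.normalizer
      (Subgroup.zpowers beta2 : Set (Equiv.Perm GolayPt))).subgroupOf K with hN
  have hmemNQ : ∀ x : ↥N, (x.1.1 : Equiv.Perm GolayPt) ∈ NQ := by
    intro x
    have hx : (x.1 : ↥K).1 ∈ Subgroup.normalizer
        (Subgroup.zpowers beta2 : Set (Equiv.Perm GolayPt)) := x.2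
    rw [mem_normalizer_zpowers_iff] at hx
    have hx2 := mem_M23.mp (hK x.1.2)
    exact ⟨hx2.1, hx2.2, hx⟩
  have hle : Nat.card ↥N ≤ 55 := by
    have hfin : Finite ↥NQ := Subtype.finite
    have hinj : Function.Injective (fun x : ↥N => (⟨x.1.1, hmemNQ x⟩ : ↥NQ)) := by
      intro x y hxy
      apply Subtype.ext
      apply Subtype.ext
      exact congrArg (fun z : ↥NQ => (z : Equiv.Perm GolayPt)) hxy
    have h1 := Nat.card_le_card_of_injective _ hinj
    have h2 : Nat.card ↥NQ = NQ.ncard := Nat.card_coe_set_eq _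
    rw [h2] at h1
    exact h1.trans NQ_ncard_le
  have hdvd : 11 ∣ Nat.card ↥N := by
    have h1 : (Subgroup.zpowers beta2).subgroupOf K ≤ N := by
      intro x hx
      exact Subgroup.le_normalizer (show (x : Equiv.Perm GolayPt) ∈ Subgroup.zpowers beta2 from hx)
    have h2 := Subgroup.card_dvd_of_le h1
    rwa [card_subgroupOf_of_le hQ, card_zpowers_beta2] at h2
  have hodd : ¬ 2 ∣ Nat.card ↥N := by
    intro h2
    haveI : Fact (Nat.Prime 2) := ⟨Nat.prime_two⟩
    obtain ⟨x, hx⟩ := exists_prime_orderOf_dvd_card' 2 h2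
    have hx2 : x ^ 2 = 1 := by
      rw [← hx]
      exact pow_orderOf_eq_one x
    have h3 : (x.1.1 : Equiv.Perm GolayPt) ^ 2 = 1 := by
      have := congrArg (fun y : ↥N => (y.1.1 : Equiv.Perm GolayPt)) hx2
      simpa using this
    have h4 := NQ_no_invol (hmemNQ x) h3
    have h5 : x = 1 := by
      apply Subtype.ext
      apply Subtype.ext
      exact h4
    rw [h5, orderOf_one] at hx
    omega
  have hpos : 0 < Nat.card ↥N := Nat.card_pos
  omega

theorem arith1 : ∀ q < 1754, (23 * q + 1) ∣ 40320 →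
    q = 0 ∨ q = 1 ∨ q = 3 ∨ q = 25 ∨ q = 73 ∨ q = 1753 := by decide +kernel

theorem arith (m c m' : ℕ) (hm : m % 23 = 1) (hm2 : m ∣ 40320) (hc : c = 11 ∨ c = 33 ∨ c = 55)
    (h : 253 * m = c * m') (hm' : m' % 11 = 1) : m = 1 ∨ m = 40320 := by
  have hle : m ≤ 40320 := Nat.le_of_dvd (by norm_num) hm2
  obtain ⟨q, hq⟩ : ∃ q, m = 23 * q + 1 := ⟨m / 23, by omega⟩
  have hq2 : q < 1754 := by omega
  rw [hq] at hm2
  rcases arith1 q hq2 hm2 with h1 | h1 | h1 | h1 | h1 | h1 <;> subst h1 <;> subst hq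
  · left; rfl
  · exfalso; rcases hc with rfl | rfl | rfl <;> omega
  · exfalso; rcases hc with rfl | rfl | rfl <;> omega
  · exfalso; rcases hc with rfl | rfl | rfl <;> omega
  · exfalso; rcases hc with rfl | rfl | rfl <;> omega
  · right; rfl

/-- `23:11` is maximal in `M23`. -/
theorem main_M23 (K : Subgroup (Equiv.Perm GolayPt)) (hF : affSq ≤ K) (hK : K ≤ M23) :
    K = affSq ∨ K = M23 := by
  have hdvd : Nat.card ↥K ∣ 10200960 := by
    rw [← card_M23]
    exact Subgroup.card_dvd_of_le hK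
  have h23 : ¬ 23 ^ 2 ∣ Nat.card ↥K := by
    intro h
    have := h.trans hdvd
    revert this
    decide
  have h11 : ¬ 11 ^ 2 ∣ Nat.card ↥K := by
    intro h
    have := h.trans hdvd
    revert this
    decide
  obtain ⟨m, hm, hcard⟩ := sylow_count_sub K (Subgroup.zpowers alpha) 23
    (zpowers_alpha_le.trans hF) card_zpowers_alpha h23
  rw [normalizer_alpha_subgroupOf K hK, card_subgroupOf_of_le hF, card_affSq] at hcard
  obtain ⟨m', hm', hcard'⟩ := sylow_count_sub K (Subgroup.zpowers beta2) 11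
    (zpowers_beta2_le.trans hF) card_zpowers_beta2 h11
  have hc := card_normalizer_beta2 K hK (zpowers_beta2_le.trans hF)
  have hm2 : m ∣ 40320 := by
    rw [hcard] at hdvd
    have : (10200960 : ℕ) = 253 * 40320 := by norm_num
    rw [this] at hdvd
    exact Nat.dvd_of_mul_dvd_mul_left (by norm_num) hdvd
  have := arith m _ m' hm hm2 hc (hcard.symm.trans hcard') hm'
  rcases this with h1 | h1
  · left
    symm
    apply Subgroup.eq_of_le_of_card_ge hF
    rw [hcard, h1, card_affSq]
  · right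
    apply Subgroup.eq_of_le_of_card_ge hK
    rw [hcard, h1, card_M23]

/-- `L₂(23)` is maximal in `M24`. -/
theorem main_M24 (H : Subgroup (Equiv.Perm GolayPt)) (hL : Subgroup.closure genL ≤ H)
    (hH : H ≤ M24) : H = Subgroup.closure genL ∨ H = M24 := by
  have h1 : affSq ≤ H ⊓ MulAction.stabilizer (Equiv.Perm GolayPt) (none : GolayPt) := by
    rw [← closure_genL_inf_stab]
    exact inf_le_inf_right _ hL
  have h2 : H ⊓ MulAction.stabilizer (Equiv.Perm GolayPt) (none : GolayPt) ≤ M23 :=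
    inf_le_inf_right _ hH
  have hcard := card_eq_of_genL_le H hL
  rcases main_M23 _ h1 h2 with h3 | h3
  · left
    symm
    apply Subgroup.eq_of_le_of_card_ge hL
    rw [hcard, h3, card_affSq, card_closure_genL]
  · right
    apply Subgroup.eq_of_le_of_card_ge hH
    rw [hcard, h3, card_M23, card_M24]

end Cfsg.Agent.Lib.Helper93_S1643
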