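import Mathlib
import Cfsg.Agent.Lib.Helper93_S3171a
import Cfsg.Agent.Lib.Helper93_S2882b

/-!
The quotient of the Sylow 2-subgroup `S0` of `M24` by its centre, described by 512 coset
representatives given as tables: every surjective homomorphism from `S0` with kernel the centre
yields a *model* in which products of representatives are compared by Boolean checks on tables.
-/

set_option autoImplicit false
open Cfsg
open scoped Pointwise
open Cfsg.Agent.Lib.Helper26_Golay Cfsg.Agent.Lib.Helper93_M24Obj
open Cfsg.Agent.Lib.Helper93_S2882a Cfsg.Agent.Lib.Helper93_S2882b Cfsg.Agent.Lib.Helper93_S3171a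

namespace Cfsg.Agent.Lib.Helper93_S3171b

/-- The `i`-th representative. -/
noncomputable def rp (i : ℕ) : Equiv.Perm GolayPt := tblPerm (R i)

theorem rp_spec {i : ℕ} (hi : i < 512) : rp i ∈ S0 ∧ RepF (rp i) (img (R i)) := by
  have h := (allFold_eq_true _ _).mp reps_ok i hi
  rw [Bool.and_eq_true] at h
  have hs := tblPerm_spec h.1
  exact ⟨(inS0_iff hs.1 hs.2).mpr h.2, repF_of_represents hs.2⟩

theorem v_mul_self : v * v = 1 := by
  have := pow_of_sqId v_rep v_sq
  rwa [pow_two] at this

theorem v_comm {s : Equiv.Perm GolayPt} (hs : s ∈ S0) : v * s = s * v := (mem_S0_iff.mp hs).2.2.2.2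

theorem orFold_congr {f g : ℕ → ℕ} {n : ℕ} (h : ∀ k < n, f k = g k) : orFold f n = orFold g n := by
  induction n with
  | zero => rfl
  | succ n ih =>
    rw [orFold_succ, orFold_succ, ih (fun k hk => h k (Nat.lt_succ_of_lt hk)), h n (Nat.lt_succ_self n)]

theorem tblOf_congr {f g : ℕ → ℕ} (h : ∀ i < 24, f i = g i) : tblOf f = tblOf g := by
  unfold tblOf
  apply orFold_congr
  intro k hk
  rw [h k hk]

/-- Two index functions describing the same permutation agree on the indices. -/
theorem RepF_agree {σ : Equiv.Perm GolayPt} {f g : ℕ → ℕ} (hf : RepF σ f) (hg : RepF σ g) :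
    ∀ i < 24, f i = g i := by
  intro i hi
  have h1 := hf (pt i)
  have h2 := hg (pt i)
  rw [idx_pt i hi] at h1 h2
  rw [← h1, ← h2]

theorem eqF_iff {σ τ : Equiv.Perm GolayPt} {f g : ℕ → ℕ} (hf : RepF σ f) (hg : RepF τ g) :
    eqF f g = true ↔ σ = τ := by
  unfold eqF
  rw [allFold_eq_true]
  constructor
  · intro h
    apply hf.unique
    apply hg.congr
    intro i hi
    have := h i hi
    rw [beq_iff_eq] at this
    exact this.symm
  · rintro rfl i hi
    rw [beq_iff_eq]
    exact RepF_agree hf hg i hi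

theorem eqZ_iff {σ τ : Equiv.Perm GolayPt} {f g : ℕ → ℕ} (hf : RepF σ f) (hg : RepF τ g) :
    eqZ f g = true ↔ σ = τ ∨ σ = v * τ := by
  unfold eqZ
  rw [Bool.or_eq_true, eqF_iff hf hg, eqF_iff hf (v_rep.mul hg)]

theorem key1_eq {i : ℕ} (hi : i < 512) {f : ℕ → ℕ} (hf : RepF (rp i) f) : tblOf f = key1 i :=
  tblOf_congr (RepF_agree hf (rp_spec hi).2)

theorem key2_eq {i : ℕ} (hi : i < 512) {f : ℕ → ℕ} (hf : RepF (v * rp i) f) : tblOf f = key2 i :=
  tblOf_congr (RepF_agree hf (v_rep.mul (rp_spec hi).2))

theorem key1_lt_key2 {i : ℕ} (hi : i < 512) : key1 i < key2 i := by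
  have h := (allFold_eq_true _ _).mp sorted_ok i hi
  rw [Bool.and_eq_true, decide_eq_true_eq] at h
  exact h.1

theorem key1_lt_succ {i : ℕ} (hi : i + 1 < 512) : key1 i < key1 (i + 1) := by
  have h := (allFold_eq_true _ _).mp sorted_ok i (by omega)
  rw [Bool.and_eq_true, Bool.or_eq_true, beq_iff_eq] at h
  rcases h.2 with h | h
  · omega
  · exact of_decide_eq_true h

theorem key1_strictMono {i j : ℕ} (hij : i < j) (hj : j < 512) : key1 i < key1 j := by
  induction j with
  | zero => omega
  | succ j ih =>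
    rcases Nat.lt_succ_iff_lt_or_eq.mp hij with h | h
    · exact lt_trans (ih h (by omega)) (key1_lt_succ hj)
    · rw [h]; exact key1_lt_succ hj

theorem key1_inj {i j : ℕ} (hi : i < 512) (hj : j < 512) (h : key1 i = key1 j) : i = j := by
  rcases Nat.lt_trichotomy i j with hlt | heq | hgt
  · exact absurd h (key1_strictMono hlt hj).ne
  · exact heq
  · exact absurd h.symm (key1_strictMono hgt hi).ne

theorem rp_inj {i j : ℕ} (hi : i < 512) (hj : j < 512) (h : rp i = rp j) : i = j := by
  apply key1_inj hi hj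
  have h1 := (rp_spec hi).2
  rw [h] at h1
  exact key1_eq hj h1

theorem rp_ne_vrp {i j : ℕ} (hi : i < 512) (hj : j < 512) : rp i ≠ v * rp j := by
  intro h
  -- then `v * rp i = rp j`
  have h' : v * rp i = rp j := by rw [h, ← mul_assoc, v_mul_self, one_mul]
  have e1 : key1 i = key2 j := by
    have h1 := (rp_spec hi).2
    rw [h] at h1
    exact key2_eq hj h1
  have e2 : key2 i = key1 j := by
    have h1 := v_rep.mul (rp_spec hi).2
    rw [h'] at h1
    exact key1_eq hj h1
  have a1 := key1_lt_key2 hi
  have a2 := key1_lt_key2 hj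
  rw [e2] at a1
  rw [← e1] at a2
  exact absurd a1 (not_lt.mpr a2.le)

/-- Every element of the Sylow subgroup is a representative or its product with the central
involution. -/
theorem exists_rp {t : Equiv.Perm GolayPt} (ht : t ∈ S0) : ∃ i < 512, t = rp i ∨ t = v * rp i := by
  classical
  let E1 : Finset (Equiv.Perm GolayPt) := (Finset.range 512).image rp
  let E2 : Finset (Equiv.Perm GolayPt) := (Finset.range 512).image (fun i => v * rp i)
  have h1 : E1.card = 512 := by
    rw [Finset.card_image_of_injOn, Finset.card_range]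
    intro i hi j hj h
    exact rp_inj (Finset.mem_range.mp hi) (Finset.mem_range.mp hj) h
  have h2 : E2.card = 512 := by
    rw [Finset.card_image_of_injOn, Finset.card_range]
    intro i hi j hj h
    exact rp_inj (Finset.mem_range.mp hi) (Finset.mem_range.mp hj) (mul_left_cancel h)
  have hdis : Disjoint E1 E2 := by
    rw [Finset.disjoint_left]
    intro x hx1 hx2
    obtain ⟨i, hi, rfl⟩ := Finset.mem_image.mp hx1
    obtain ⟨j, hj, h⟩ := Finset.mem_image.mp hx2
    exact rp_ne_vrp (Finset.mem_range.mp hi) (Finset.mem_range.mp hj) h.symm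
  have hcard : (E1 ∪ E2).card = 1024 := by rw [Finset.card_union_of_disjoint hdis, h1, h2]
  have hsub : ((E1 ∪ E2 : Finset (Equiv.Perm GolayPt)) : Set (Equiv.Perm GolayPt)) ⊆ (S0 : Set _) := by
    intro x hx
    rw [Finset.mem_coe, Finset.mem_union] at hx
    rcases hx with hx | hx
    · obtain ⟨i, hi, rfl⟩ := Finset.mem_image.mp hx
      exact (rp_spec (Finset.mem_range.mp hi)).1
    · obtain ⟨i, hi, rfl⟩ := Finset.mem_image.mp hx
      exact S0.mul_mem v_mem (rp_spec (Finset.mem_range.mp hi)).1
  have hS0 : (S0 : Set (Equiv.Perm GolayPt)).ncard = 1024 := by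
    rw [← card_S0]; exact (Nat.card_coe_set_eq _).symm
  have heq := Set.eq_of_subset_of_ncard_le hsub
    (by rw [hS0, Set.ncard_coe_finset, hcard]) (Set.toFinite _)
  have : t ∈ ((E1 ∪ E2 : Finset (Equiv.Perm GolayPt)) : Set (Equiv.Perm GolayPt)) := by
    rw [heq]; exact ht
  rw [Finset.mem_coe, Finset.mem_union] at this
  rcases this with hx | hx
  · obtain ⟨i, hi, rfl⟩ := Finset.mem_image.mp hx
    exact ⟨i, Finset.mem_range.mp hi, Or.inl rfl⟩
  · obtain ⟨i, hi, rfl⟩ := Finset.mem_image.mp hx
    exact ⟨i, Finset.mem_range.mp hi, Or.inr rfl⟩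

theorem rp_i1 : rp i1 = 1 ∨ rp i1 = v := by
  have h := (eqZ_iff (rp_spec (by decide : i1 < 512)).2 RepF.one).mp id_ok
  rcases h with h | h
  · exact Or.inl h
  · right; rw [h, mul_one]

/-- The central elements of the Sylow subgroup. -/
theorem central_iff {z : Equiv.Perm GolayPt} (hz : z ∈ S0) :
    (∀ s ∈ S0, z * s = s * z) ↔ z = 1 ∨ z = v := by
  constructor
  · intro hc
    obtain ⟨i, hi, h⟩ := exists_rp hz
    -- the representative is central as well
    have hrc : ∀ s ∈ S0, rp i * s = s * rp i := by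
      intro s hs
      rcases h with h | h
      · rw [← h]; exact hc s hs
      · have h3 : rp i = v * z := by rw [h, ← mul_assoc, v_mul_self, one_mul]
        rw [h3, mul_assoc, hc s hs, ← mul_assoc, v_comm hs, mul_assoc]
    have hi1 : i = i1 := by
      by_contra hne
      have hck := (allFold_eq_true _ _).mp cw_ok i hi
      rw [Bool.or_eq_true, beq_iff_eq] at hck
      rcases hck with hck | hck
      · exact hne hck
      · have hlt := (allFold_eq_true _ _).mp cw_lt i hi
        rw [decide_eq_true_eq] at hlt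
        obtain ⟨hg, hgT⟩ := gen_spec hlt
        have := commOK_of_commute (rp_spec hi).2 (repF_of_represents hgT) (hrc _ hg)
        rw [this] at hck
        exact Bool.false_ne_true hck
    rw [hi1] at h
    rcases rp_i1 with h1 | h1 <;> rw [h1] at h
    · rcases h with h | h
      · exact Or.inl h
      · right; rw [h, mul_one]
    · rcases h with h | h
      · exact Or.inr h
      · left; rw [h, v_mul_self]
  · rintro (rfl | rfl) s hs
    · rw [one_mul, mul_one]
    · exact v_comm hs

/-- The models of the quotient of the Sylow subgroup by its centre. -/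
structure Model (Q : Type*) [Group Q] where
  /-- the images of the representatives -/
  q : ℕ → Q
  surj : ∀ x : Q, ∃ i < 512, q i = x
  inj : ∀ i < 512, ∀ j < 512, q i = q j → i = j
  mul_iff : ∀ a < 512, ∀ b < 512, ∀ c < 512, ∀ d < 512,
    (q a * q b = q c * q d ↔ eqZ (comp a b) (comp c d) = true)
  sq_iff : ∀ a < 512, (q a * q a = 1 ↔ eqZ (comp a a) (fun p => p) = true)

/-- A surjective homomorphism from the Sylow subgroup with kernel the centre gives a model. -/
theorem exists_model {Q : Type*} [Group Q] (φ : ↥S0 →* Q) (hsurj : Function.Surjective φ)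
    (hker : φ.ker = Subgroup.center ↥S0) : Nonempty (Model Q) := by
  -- equality of images
  have hφ : ∀ s t : ↥S0, φ s = φ t ↔ (s : Equiv.Perm GolayPt) = t ∨
      (s : Equiv.Perm GolayPt) = v * t := by
    intro s t
    have h1 : φ s = φ t ↔ s * t⁻¹ ∈ φ.ker := by
      rw [MonoidHom.mem_ker, map_mul, map_inv, mul_inv_eq_one]
    rw [h1, hker, Subgroup.mem_center_iff]
    have h2 : (∀ g : ↥S0, g * (s * t⁻¹) = s * t⁻¹ * g) ↔
        ∀ g ∈ S0, ((s : Equiv.Perm GolayPt) * (t : Equiv.Perm GolayPt)⁻¹) * g =
          g * ((s : Equiv.Perm GolayPt) * (t : Equiv.Perm GolayPt)⁻¹) := by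
      constructor
      · intro h g hg
        have := congrArg Subtype.val (h ⟨g, hg⟩)
        exact this.symm
      · intro h g
        apply Subtype.ext
        exact (h g.1 g.2).symm
    rw [h2, central_iff (S0.mul_mem s.2 (S0.inv_mem t.2))]
    constructor
    · rintro (h | h)
      · left; exact mul_inv_eq_one.mp h
      · right; exact mul_inv_eq_iff_eq_mul.mp h
    · rintro (h | h)
      · left; exact mul_inv_eq_one.mpr h
      · right; exact mul_inv_eq_iff_eq_mul.mpr h
  let r : ℕ → ↥S0 := fun i => if h : i < 512 then ⟨rp i, (rp_spec h).1⟩ else 1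
  have hr : ∀ i, i < 512 → ((r i : ↥S0) : Equiv.Perm GolayPt) = rp i := by
    intro i hi
    simp only [r, dif_pos hi]
  -- equality of images through tables
  have hkey : ∀ (s t : ↥S0) (f g : ℕ → ℕ), RepF (s : Equiv.Perm GolayPt) f →
      RepF (t : Equiv.Perm GolayPt) g → (φ s = φ t ↔ eqZ f g = true) := by
    intro s t f g hf hg
    rw [hφ, eqZ_iff hf hg]
  refine ⟨⟨fun i => φ (r i), ?_, ?_, ?_, ?_⟩⟩
  · intro x
    obtain ⟨t, rfl⟩ := hsurj x
    obtain ⟨i, hi, h⟩ := exists_rp t.2
    refine ⟨i, hi, ?_⟩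
    rw [hφ, hr i hi]
    rcases h with h | h
    · left; exact h.symm
    · right
      rw [h, ← mul_assoc, v_mul_self, one_mul]
  · intro i hi j hj h
    rw [hφ, hr i hi, hr j hj] at h
    rcases h with h | h
    · exact rp_inj hi hj h
    · exact absurd h (rp_ne_vrp hi hj)
  · intro a ha b hb c hc d hd
    rw [← map_mul, ← map_mul]
    apply hkey
    · show RepF ((r a : Equiv.Perm GolayPt) * (r b : Equiv.Perm GolayPt)) _
      rw [hr a ha, hr b hb]
      exact (rp_spec ha).2.mul (rp_spec hb).2
    · show RepF ((r c : Equiv.Perm GolayPt) * (r d : Equiv.Perm GolayPt)) _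
      rw [hr c hc, hr d hd]
      exact (rp_spec hc).2.mul (rp_spec hd).2
  · intro a ha
    rw [← map_mul, ← map_one φ]
    apply hkey
    · show RepF ((r a : Equiv.Perm GolayPt) * (r a : Equiv.Perm GolayPt)) _
      rw [hr a ha]
      exact (rp_spec ha).2.mul (rp_spec ha).2
    · exact RepF.one

end Cfsg.Agent.Lib.Helper93_S3171b
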