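import Mathlib
import Cfsg.Agent.Lib.Helper93_S3171b
import Cfsg.Prelude.Def_Transfer

/-!
The structure of the quotient of the Sylow 2-subgroup of `M24` by its centre, derived from a model:
centres of maximal subgroups, the elementary abelian subgroup of order `64` and its uniqueness.
-/

set_option autoImplicit false
open Cfsg
open Cfsg.Agent.Lib.Helper26_Golay Cfsg.Agent.Lib.Helper93_M24Obj
open Cfsg.Agent.Lib.Helper93_S3171a Cfsg.Agent.Lib.Helper93_S3171b

namespace Cfsg.Agent.Lib.Helper93_S3171c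

/-! ### General lemmas -/

/-- A maximal subgroup of a finite `p`-group has index `p`. -/
theorem index_of_isCoatom {G : Type*} [Group G] [Finite G] {p : ℕ} [hp : Fact p.Prime]
    (hG : IsPGroup p G) (M : Subgroup G) (hM : IsCoatom M) : M.index = p := by
  have hnil : Group.IsNilpotent G := hG.isNilpotent
  have hn : M.Normal :=
    Subgroup.NormalizerCondition.normal_of_coatom M (Group.normalizerCondition_of_isNilpotent) hM
  have hQ : IsPGroup p (G ⧸ M) := hG.to_quotient M
  have hidx : M.index ≠ 1 := fun h => hM.1 (Subgroup.index_eq_one.mp h)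
  have hcard : Nat.card (G ⧸ M) = M.index := rfl
  obtain ⟨k, hk⟩ := (IsPGroup.iff_card).mp hQ
  have hk0 : k ≠ 0 := by
    rintro rfl
    rw [pow_zero] at hk
    exact hidx (hcard ▸ hk)
  have hpd : p ∣ Nat.card (G ⧸ M) := by rw [hk]; exact dvd_pow_self p hk0
  obtain ⟨g, hg⟩ := exists_prime_orderOf_dvd_card' p hpd
  let M' : Subgroup G := (Subgroup.zpowers g).comap (QuotientGroup.mk' M)
  have hle : M ≤ M' := by
    intro m hm
    show (QuotientGroup.mk' M) m ∈ Subgroup.zpowers g
    have : (QuotientGroup.mk' M) m = 1 := (QuotientGroup.eq_one_iff m).mpr hm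
    rw [this]; exact Subgroup.one_mem _
  have hne : M ≠ M' := by
    intro h
    obtain ⟨g', rfl⟩ := QuotientGroup.mk_surjective g
    have hg'M' : g' ∈ M' := by
      show (QuotientGroup.mk' M) g' ∈ Subgroup.zpowers _
      exact Subgroup.mem_zpowers _
    rw [← h] at hg'M'
    have : (QuotientGroup.mk g' : G ⧸ M) = 1 := (QuotientGroup.eq_one_iff g').mpr hg'M'
    rw [this, orderOf_one] at hg
    exact hp.out.one_lt.ne hg
  have htop : M' = ⊤ := hM.2 M' (lt_of_le_of_ne hle hne)
  have hz : Subgroup.zpowers g = ⊤ := by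
    rw [eq_top_iff]
    intro q _
    obtain ⟨q', rfl⟩ := QuotientGroup.mk_surjective q
    have : q' ∈ M' := by rw [htop]; exact Subgroup.mem_top _
    exact this
  have h1 : Nat.card (Subgroup.zpowers g) = p := by rw [Nat.card_zpowers, hg]
  rw [hz] at h1
  rw [← hcard, ← h1]
  exact (Nat.card_congr Subgroup.topEquiv.toEquiv).symm

/-- A lower bound for the size of a conjugacy class bounds the centraliser. -/
theorem class_bound {Q : Type*} [Group Q] [Finite Q] (x : Q) (m : ℕ) (a y : ℕ → Q)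
    (h : ∀ j < m, a j * x = y j * a j) (hy : ∀ j < m, ∀ j' < m, y j = y j' → j = j') :
    m * Nat.card (Subgroup.centralizer ({x} : Set Q)) ≤ Nat.card Q := by
  let C : Subgroup Q := Subgroup.centralizer ({x} : Set Q)
  let f : Fin m → Q ⧸ C := fun j => (a j : Q ⧸ C)
  have hf : Function.Injective f := by
    intro j j' hjj'
    have h1 : (a j)⁻¹ * a j' ∈ C := QuotientGroup.eq.mp hjj'
    have h2 : x * ((a j)⁻¹ * a j') = (a j)⁻¹ * a j' * x := by
      have := Subgroup.mem_centralizer_iff.mp h1 x (Set.mem_singleton x)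
      exact this
    have e1 : y j = a j * x * (a j)⁻¹ := by rw [h j j.2]; group
    have e2 : y j' = a j' * x * (a j')⁻¹ := by rw [h j' j'.2]; group
    have e3 : a j' * x * (a j')⁻¹ = a j * x * (a j)⁻¹ := by
      have : a j' = a j * ((a j)⁻¹ * a j') := by group
      calc a j' * x * (a j')⁻¹ = a j * ((a j)⁻¹ * a j' * x) * (a j')⁻¹ := by group
        _ = a j * (x * ((a j)⁻¹ * a j')) * (a j')⁻¹ := by rw [h2]
        _ = a j * x * (a j)⁻¹ := by group
    apply Fin.ext
    exact hy j j.2 j' j'.2 (by rw [e1, e2, e3])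
  have hm : m ≤ C.index := by
    have := Nat.card_le_card_of_injective f hf
    rwa [Nat.card_fin] at this
  calc m * Nat.card C ≤ C.index * Nat.card C := Nat.mul_le_mul_right _ hm
    _ = Nat.card Q := by rw [mul_comm]; exact Subgroup.card_mul_index C

theorem lt_of_succ_lt (f : ℕ → ℕ) (m : ℕ) (h : ∀ j, j + 1 < m → f j < f (j + 1)) :
    ∀ j j', j < j' → j' < m → f j < f j' := by
  intro j j' hjj' hj'
  induction j' with
  | zero => omega
  | succ j' ih =>
    rcases Nat.lt_succ_iff_lt_or_eq.mp hjj' with h1 | h1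
    · exact lt_trans (ih h1 (by omega)) (h j' hj')
    · rw [h1]; exact h j' hj'

theorem inj_of_succ_lt (f : ℕ → ℕ) (m : ℕ) (h : ∀ j, j + 1 < m → f j < f (j + 1)) :
    ∀ j < m, ∀ j' < m, f j = f j' → j = j' := by
  intro j hj j' hj' hff
  rcases Nat.lt_trichotomy j j' with hlt | heq | hgt
  · exact absurd hff (lt_of_succ_lt f m h j j' hlt hj').ne
  · exact heq
  · exact absurd hff.symm (lt_of_succ_lt f m h j' j hgt hj).ne

/-! ### Consequences of a model -/

section

variable {Q : Type*} [Group Q]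

theorem bij (M : Model Q) : Function.Bijective (fun i : Fin 512 => M.q i) := by
  constructor
  · intro i j h
    exact Fin.ext (M.inj i i.2 j j.2 h)
  · intro x
    obtain ⟨i, hi, h⟩ := M.surj x
    exact ⟨⟨i, hi⟩, h⟩

theorem finiteQ (M : Model Q) : Finite Q := Finite.of_surjective _ (bij M).2

theorem cardQ (M : Model Q) : Nat.card Q = 512 := by
  rw [← Nat.card_congr (Equiv.ofBijective _ (bij M)), Nat.card_fin]

theorem comm_iff (M : Model Q) {a b : ℕ} (ha : a < 512) (hb : b < 512) :
    M.q a * M.q b = M.q b * M.q a ↔ eqZ (comp a b) (comp b a) = true :=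
  M.mul_iff a ha b hb b hb a ha

/-- The bound for the centraliser from the conjugacy certificate. -/
theorem cent_le (M : Model Q) {i : ℕ} (hi : i < 512) :
    mOf (typ i) * Nat.card (Subgroup.centralizer ({M.q i} : Set Q)) ≤ 512 := by
  have : Finite Q := finiteQ M
  have hc := (allFold_eq_true _ _).mp ((allFold_eq_true _ _).mp cls_ok i hi)
  have h1 : ∀ j < mOf (typ i), clsA i j < 512 ∧ clsB i j < 512 ∧
      eqZ (comp (clsA i j) i) (comp (clsB i j) (clsA i j)) = true ∧
      (j + 1 = mOf (typ i) ∨ clsB i j < clsB i (j + 1)) := by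
    intro j hj
    have := hc j hj
    rw [Bool.and_eq_true, Bool.and_eq_true, Bool.and_eq_true, decide_eq_true_eq,
      decide_eq_true_eq, Bool.or_eq_true, beq_iff_eq, decide_eq_true_eq] at this
    exact ⟨this.1.1.1, this.1.1.2, this.1.2, this.2⟩
  have hb := class_bound (M.q i) (mOf (typ i)) (fun j => M.q (clsA i j)) (fun j => M.q (clsB i j))
    ?_ ?_
  · rwa [cardQ M] at hb
  · intro j hj
    obtain ⟨ha, hb', he, _⟩ := h1 j hj
    exact (M.mul_iff _ ha i hi _ hb' _ ha).mpr he
  · intro j hj j' hj' hqq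
    have hidx := M.inj _ (h1 j hj).2.1 _ (h1 j' hj').2.1 hqq
    refine inj_of_succ_lt (fun j => clsB i j) (mOf (typ i)) ?_ j hj j' hj' hidx
    intro k hk
    rcases (h1 k (by omega)).2.2.2 with h | h
    · omega
    · exact h

theorem A0_spec {s : ℕ} (hs : s < 64) : A0at s < 512 ∧
    eqZ (comp (A0at s) a0) (comp a0 (A0at s)) = true ∧
    eqZ (comp (A0at s) (A0at s)) (fun p => p) = true ∧
    (s + 1 = 64 ∨ A0at s < A0at (s + 1)) ∧
    ∀ s' < 64, eqZ (comp (A0at s) (A0at s')) (comp (A0at s') (A0at s)) = true := by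
  have := (allFold_eq_true _ _).mp A0_ok s hs
  rw [Bool.and_eq_true, Bool.and_eq_true, Bool.and_eq_true, Bool.and_eq_true, decide_eq_true_eq,
    Bool.or_eq_true, beq_iff_eq, decide_eq_true_eq, allFold_eq_true] at this
  exact ⟨this.1.1.1.1, this.1.1.1.2, this.1.1.2, this.1.2, this.2⟩

theorem a0_lt : a0 < 512 := by decide

/-- The abelian subgroup of order `64`. -/
def A0sub (M : Model Q) : Subgroup Q := Subgroup.centralizer ({M.q a0} : Set Q)

theorem A0at_inj : ∀ s < 64, ∀ s' < 64, A0at s = A0at s' → s = s' := by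
  apply inj_of_succ_lt
  intro s hs
  rcases (A0_spec (by omega : s < 64)).2.2.2.1 with h | h
  · omega
  · exact h

theorem A0at_mem (M : Model Q) {s : ℕ} (hs : s < 64) : M.q (A0at s) ∈ A0sub M := by
  unfold A0sub
  rw [Subgroup.mem_centralizer_iff]
  intro h hh
  rw [Set.mem_singleton_iff] at hh
  rw [hh]
  obtain ⟨h1, h2, _⟩ := A0_spec hs
  exact ((M.mul_iff _ h1 _ a0_lt _ a0_lt _ h1).mpr h2).symm

theorem card_A0sub_le (M : Model Q) : Nat.card (A0sub M) ≤ 64 := by
  have h := cent_le M a0_lt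
  rw [a0_typ] at h
  have : mOf 2 = 8 := by decide
  rw [this] at h
  unfold A0sub
  omega

/-- The members of the centraliser. -/
theorem A0sub_eq (M : Model Q) (x : Q) : x ∈ A0sub M ↔ ∃ s < 64, M.q (A0at s) = x := by
  classical
  have : Finite Q := finiteQ M
  let S : Finset Q := (Finset.range 64).image (fun s => M.q (A0at s))
  have hS : S.card = 64 := by
    rw [Finset.card_image_of_injOn, Finset.card_range]
    intro s hs s' hs' h
    rw [Finset.coe_range, Set.mem_Iio] at hs hs'
    exact A0at_inj s hs s' hs' (M.inj _ (A0_spec hs).1 _ (A0_spec hs').1 h)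
  have hsub : (S : Set Q) ⊆ (A0sub M : Set Q) := by
    intro x hx
    obtain ⟨s, hs, rfl⟩ := Finset.mem_image.mp (Finset.mem_coe.mp hx)
    exact A0at_mem M (Finset.mem_range.mp hs)
  have heq := Set.eq_of_subset_of_ncard_le hsub (by
    rw [Set.ncard_coe_finset, hS]
    have := card_A0sub_le M
    have hnc : Nat.card ↥(A0sub M) = (A0sub M : Set Q).ncard := Nat.card_coe_set_eq _
    rwa [hnc] at this) (Set.toFinite _)
  constructor
  · intro hx
    have : x ∈ (S : Set Q) := by rw [heq]; exact hx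
    obtain ⟨s, hs, rfl⟩ := Finset.mem_image.mp (Finset.mem_coe.mp this)
    exact ⟨s, Finset.mem_range.mp hs, rfl⟩
  · rintro ⟨s, hs, rfl⟩
    exact A0at_mem M hs

theorem card_A0sub (M : Model Q) : Nat.card (A0sub M) = 64 := by
  classical
  have : Finite Q := finiteQ M
  apply le_antisymm (card_A0sub_le M)
  let S : Finset Q := (Finset.range 64).image (fun s => M.q (A0at s))
  have hS : S.card = 64 := by
    rw [Finset.card_image_of_injOn, Finset.card_range]
    intro s hs s' hs' h
    rw [Finset.coe_range, Set.mem_Iio] at hs hs'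
    exact A0at_inj s hs s' hs' (M.inj _ (A0_spec hs).1 _ (A0_spec hs').1 h)
  have hsub : (S : Set Q) ⊆ (A0sub M : Set Q) := by
    intro x hx
    obtain ⟨s, hs, rfl⟩ := Finset.mem_image.mp (Finset.mem_coe.mp hx)
    exact A0at_mem M (Finset.mem_range.mp hs)
  have := Set.ncard_le_ncard hsub (Set.toFinite _)
  rw [Set.ncard_coe_finset, hS] at this
  have hnc : Nat.card ↥(A0sub M) = (A0sub M : Set Q).ncard := Nat.card_coe_set_eq _
  rwa [hnc]

theorem A0sub_comm (M : Model Q) {x y : Q} (hx : x ∈ A0sub M) (hy : y ∈ A0sub M) : x * y = y * x := by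
  obtain ⟨s, hs, rfl⟩ := (A0sub_eq M x).mp hx
  obtain ⟨s', hs', rfl⟩ := (A0sub_eq M y).mp hy
  exact (comm_iff M (A0_spec hs).1 (A0_spec hs').1).mpr ((A0_spec hs).2.2.2.2 s' hs')

theorem A0sub_sq (M : Model Q) {x : Q} (hx : x ∈ A0sub M) : x ^ 2 = 1 := by
  obtain ⟨s, hs, rfl⟩ := (A0sub_eq M x).mp hx
  rw [pow_two]
  exact (M.sq_iff _ (A0_spec hs).1).mpr (A0_spec hs).2.2.1

theorem A0sub_elem (M : Model Q) : IsElementaryAbelian 2 (A0sub M) :=
  ⟨⟨⟨fun a b => Subtype.ext (A0sub_comm M a.2 b.2)⟩⟩, fun _ ha => A0sub_sq M ha⟩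

end

end Cfsg.Agent.Lib.Helper93_S3171c
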