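import Mathlib
import Cfsg.Agent.Lib.Helper93_S3171c

/-!
Uniqueness of the abelian subgroup of order `64` and the centres of the maximal subgroups in the
quotient of the Sylow 2-subgroup of `M24` by its centre.
-/

set_option autoImplicit false
open Cfsg
open Cfsg.Agent.Lib.Helper26_Golay Cfsg.Agent.Lib.Helper93_M24Obj
open Cfsg.Agent.Lib.Helper93_S3171a Cfsg.Agent.Lib.Helper93_S3171b Cfsg.Agent.Lib.Helper93_S3171c

namespace Cfsg.Agent.Lib.Helper93_S3171d

variable {Q : Type*} [Group Q]

theorem card_filter_typ (P : ℕ → Prop) [DecidablePred P] (n : ℕ)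
    (h : sumFold (fun i => if P (typ i) then 1 else 0) 512 = n) :
    ((Finset.range 512).filter (fun i => P (typ i))).card = n := by
  rw [Finset.card_filter, ← sumFold_eq]
  exact h

theorem typ_cases {i : ℕ} (hi : i < 512) : typ i ≤ 4 := by
  have := (allFold_eq_true _ _).mp typ_le i hi
  rwa [decide_eq_true_eq] at this

theorem mem_centralizer_singleton {x y : Q} :
    y ∈ Subgroup.centralizer ({x} : Set Q) ↔ x * y = y * x := by
  rw [Subgroup.mem_centralizer_iff]
  constructor
  · intro h
    exact h x (Set.mem_singleton x)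
  · intro h z hz
    rw [Set.mem_singleton_iff] at hz
    rw [hz]; exact h

/-- The abelian subgroup of order `64` is unique. -/
theorem unique_abelian (M : Model Q) (A : Subgroup Q) (hA : IsMulCommutative ↥A)
    (hc : Nat.card ↥A = 64) : A = A0sub M := by
  classical
  have : Finite Q := finiteQ M
  have hcomm : ∀ x ∈ A, ∀ y ∈ A, x * y = y * x := fun x hx y hy =>
    congrArg Subtype.val (hA.is_comm.comm (⟨x, hx⟩ : ↥A) ⟨y, hy⟩)
  have hle : ∀ x ∈ A, A ≤ Subgroup.centralizer ({x} : Set Q) := fun x hx y hy =>
    mem_centralizer_singleton.mpr (hcomm x hx y hy)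
  have hge : ∀ x ∈ A, 64 ≤ Nat.card (Subgroup.centralizer ({x} : Set Q)) := by
    intro x hx
    rw [← hc]
    exact Subgroup.card_le_of_le (hle x hx)
  by_cases h23 : ∃ x ∈ A, ∃ i < 512, M.q i = x ∧ (typ i = 2 ∨ typ i = 3 ∨ typ i = 4)
  · obtain ⟨x, hx, i, hi, rfl, ht⟩ := h23
    have hb := cent_le M hi
    have h64 := hge _ hx
    rcases ht with ht | ht | ht <;> rw [ht] at hb
    · -- the centraliser is the abelian subgroup
      have h8 : mOf 2 = 8 := by decide
      rw [h8] at hb
      have hAC : A = Subgroup.centralizer ({M.q i} : Set Q) :=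
        Subgroup.eq_of_le_of_card_ge (hle _ hx) (by rw [hc]; omega)
      have hck := (allFold_eq_true _ _).mp X16_ok i hi
      rw [ht] at hck
      simp only [beq_self_eq_true, Bool.not_true, Bool.false_or, Bool.not_eq_true'] at hck
      have hex : ∃ s < 64, A0at s = i := by
        by_contra hcon
        push Not at hcon
        have : allFold (fun s => !(A0at s == i)) 64 = true := by
          rw [allFold_eq_true]
          intro s hs
          rw [Bool.not_eq_true', beq_eq_false_iff_ne]
          exact hcon s hs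
        rw [this] at hck
        exact absurd hck (by decide)
      obtain ⟨s, hs, rfl⟩ := hex
      have hin : M.q (A0at s) ∈ A0sub M := A0at_mem M hs
      have hle2 : A0sub M ≤ Subgroup.centralizer ({M.q (A0at s)} : Set Q) := fun y hy =>
        mem_centralizer_singleton.mpr (A0sub_comm M hin hy)
      have h2 : A0sub M = Subgroup.centralizer ({M.q (A0at s)} : Set Q) :=
        Subgroup.eq_of_le_of_card_ge hle2 (by rw [card_A0sub M]; omega)
      rw [hAC, h2]
    · -- the centraliser is not abelian
      exfalso
      have h8 : mOf 3 = 8 := by decide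
      rw [h8] at hb
      have hAC : A = Subgroup.centralizer ({M.q i} : Set Q) :=
        Subgroup.eq_of_le_of_card_ge (hle _ hx) (by rw [hc]; omega)
      have hck := (allFold_eq_true _ _).mp ncp_ok i hi
      rw [ht] at hck
      simp only [beq_self_eq_true, Bool.not_true, Bool.false_or, Bool.and_eq_true,
        decide_eq_true_eq, Bool.not_eq_true'] at hck
      obtain ⟨⟨⟨⟨hX, hY⟩, hXi⟩, hYi⟩, hXY⟩ := hck
      have hXm : M.q (ncpX i) ∈ A := by
        rw [hAC, mem_centralizer_singleton]
        exact ((comm_iff M hX hi).mpr hXi).symm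
      have hYm : M.q (ncpY i) ∈ A := by
        rw [hAC, mem_centralizer_singleton]
        exact ((comm_iff M hY hi).mpr hYi).symm
      have := (comm_iff M hX hY).mp (hcomm _ hXm _ hYm)
      rw [this] at hXY
      exact absurd hXY (by decide)
    · exfalso
      have h16 : mOf 4 = 16 := by decide
      rw [h16] at hb
      omega
  · -- all elements have large centralisers
    exfalso
    push Not at h23
    let T0 : Finset Q := ((Finset.range 512).filter (fun i => typ i ≤ 1)).image M.q
    have hT0 : T0.card ≤ 64 := by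
      refine Finset.card_image_le.trans ?_
      rw [card_filter_typ (fun t => t ≤ 1) 64 count_T0]
    have hsub : (A : Set Q) ⊆ (T0 : Set Q) := by
      intro x hx
      obtain ⟨i, hi, rfl⟩ := M.surj x
      have h1 := h23 _ hx i hi rfl
      have h2 := typ_cases hi
      rw [Finset.mem_coe, Finset.mem_image]
      refine ⟨i, ?_, rfl⟩
      rw [Finset.mem_filter, Finset.mem_range]
      refine ⟨hi, ?_⟩
      omega
    have hnc : Nat.card ↥A = (A : Set Q).ncard := Nat.card_coe_set_eq _
    have heq := Set.eq_of_subset_of_ncard_le hsub (by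
      rw [Set.ncard_coe_finset, ← hnc, hc]; exact hT0) (Set.toFinite _)
    have hck := txy_ok
    simp only [Bool.and_eq_true, decide_eq_true_eq, Bool.not_eq_true'] at hck
    obtain ⟨⟨⟨⟨hx, hy⟩, htx⟩, hty⟩, hxy⟩ := hck
    have hxm : M.q tx ∈ A := by
      rw [← SetLike.mem_coe, heq, Finset.mem_coe, Finset.mem_image]
      exact ⟨tx, by rw [Finset.mem_filter, Finset.mem_range]; exact ⟨hx, htx⟩, rfl⟩
    have hym : M.q ty ∈ A := by
      rw [← SetLike.mem_coe, heq, Finset.mem_coe, Finset.mem_image]
      exact ⟨ty, by rw [Finset.mem_filter, Finset.mem_range]; exact ⟨hy, hty⟩, rfl⟩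
    have := (comm_iff M hx hy).mp (hcomm _ hxm _ hym)
    rw [this] at hxy
    exact absurd hxy (by decide)

/-- The centre of a maximal subgroup has order at most `8`. -/
theorem card_center_coatom_le (M : Model Q) (M' : Subgroup Q) (hM' : IsCoatom M') :
    Nat.card ↥(Subgroup.center ↥M') ≤ 8 := by
  classical
  have : Finite Q := finiteQ M
  have : Fact (Nat.Prime 2) := ⟨Nat.prime_two⟩
  have hp : IsPGroup 2 Q := IsPGroup.of_card (n := 9) (by rw [cardQ M]; norm_num)
  have hidx := index_of_isCoatom hp M' hM'
  have hM'card : Nat.card ↥M' = 256 := by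
    have := Subgroup.card_mul_index M'
    rw [hidx, cardQ M] at this
    omega
  -- the centre inside `Q`
  let Zq : Subgroup Q := (Subgroup.center ↥M').map M'.subtype
  have hZq : Nat.card ↥Zq = Nat.card ↥(Subgroup.center ↥M') :=
    Subgroup.card_map_of_injective M'.subtype_injective
  rw [← hZq]
  -- its elements have centralisers of order at least `256`
  let W : Finset Q := ((Finset.range 512).filter (fun i => typ i = 0)).image M.q
  have hW : W.card ≤ 12 := by
    refine Finset.card_image_le.trans ?_
    rw [card_filter_typ (fun t => t = 0) 12 count_W]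
  have hsub : (Zq : Set Q) ⊆ (W : Set Q) := by
    rintro _ ⟨z, hz, rfl⟩
    have hzc : ∀ m : ↥M', m * z = z * m := fun m => Subgroup.mem_center_iff.mp hz m
    obtain ⟨i, hi, hqi⟩ := M.surj (M'.subtype z)
    have hle : M' ≤ Subgroup.centralizer ({M.q i} : Set Q) := by
      intro m hm
      rw [mem_centralizer_singleton, hqi]
      have := congrArg Subtype.val (hzc ⟨m, hm⟩)
      exact this.symm
    have h256 : 256 ≤ Nat.card (Subgroup.centralizer ({M.q i} : Set Q)) := by
      rw [← hM'card]
      exact Subgroup.card_le_of_le hle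
    have hb := cent_le M hi
    have ht : typ i = 0 := by
      have h4 := typ_cases hi
      by_contra hne
      have hm : 4 ≤ mOf (typ i) := by
        have h1 : typ i = 1 ∨ typ i = 2 ∨ typ i = 3 ∨ typ i = 4 := by omega
        rcases h1 with h1 | h1 | h1 | h1 <;> rw [h1] <;> decide
      have := Nat.mul_le_mul hm h256
      omega
    rw [Finset.mem_coe, Finset.mem_image]
    exact ⟨i, by rw [Finset.mem_filter, Finset.mem_range]; exact ⟨hi, ht⟩, hqi⟩
  have hnc : Nat.card ↥Zq = (Zq : Set Q).ncard := Nat.card_coe_set_eq _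
  have hle12 : Nat.card ↥Zq ≤ 12 := by
    rw [hnc]
    have := Set.ncard_le_ncard hsub (Set.toFinite _)
    rw [Set.ncard_coe_finset] at this
    exact this.trans hW
  have hdvd : Nat.card ↥Zq ∣ 2 ^ 9 := by
    have := Subgroup.card_subgroup_dvd_card Zq
    rwa [cardQ M] at this
  obtain ⟨k, hk, hk2⟩ := (Nat.dvd_prime_pow Nat.prime_two).mp hdvd
  rw [hk2] at hle12 ⊢
  have hk3 : k ≤ 3 := by
    by_contra hcon
    have : 2 ^ 4 ≤ 2 ^ k := Nat.pow_le_pow_right (by norm_num) (by omega)
    omega
  calc 2 ^ k ≤ 2 ^ 3 := Nat.pow_le_pow_right (by norm_num) hk3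
    _ = 8 := by norm_num

end Cfsg.Agent.Lib.Helper93_S3171d
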