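import Mathlib
import Cfsg.Agent.Lib.Helper93_S5549a
import Cfsg.Agent.Lib.Helper26_M24Trans
import Cfsg.Agent.Lib.Helper26_M24Act

/-!
A map from the length-24 code to sets of points which is additive (for symmetric differences),
takes values in the supports of code words, and preserves the weight up to complement, agrees up to
complement with a single element of `M24`.
-/

set_option autoImplicit false
open Cfsg
open scoped Pointwise symmDiff
open Cfsg.Agent.Lib.Helper7_M24
open Cfsg.Agent.Lib.Helper26_Golay Cfsg.Agent.Lib.Helper93_M24Obj Cfsg.Agent.Lib.Helper93_S5549a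

namespace Cfsg.Agent.Lib.Helper93_S5549b

theorem b_lt (k : ℕ) : b k < 2 ^ 24 := by
  unfold b
  split_ifs
  · exact get24_lt' _ _
  · norm_num

/-- The base sets. -/
def B (k : ℕ) : Finset GolayPt := dec (b k)

theorem enc_B (k : ℕ) : enc (B k) = b k := enc_dec _ (b_lt k)

theorem b_code (k : ℕ) : isCode (b k) = true := by
  by_cases hk : k < 12
  · exact (allFold_eq_true _ _).mp b_code_ok k hk
  · unfold b
    rw [if_neg hk]
    decide

theorem card_B (k : ℕ) (hk : k < 11) : (B k).card = 8 := by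
  have h := (allFold_eq_true _ _).mp b_pop_ok k hk
  rw [beq_iff_eq] at h
  rw [card_eq_pop, enc_B, h]

theorem card_le (s : Finset GolayPt) : s.card ≤ 24 := by
  have h := Finset.card_le_univ s
  have h24 : Fintype.card GolayPt = 24 := by rfl
  omega

theorem card_compl' (s : Finset GolayPt) : sᶜ.card = 24 - s.card := by
  rw [Finset.card_compl]
  rfl

/-! ### Weights up to complement and profiles -/

/-- Two sets have the same size up to complement. -/
def SameCls (s t : Finset GolayPt) : Prop := s.card = t.card ∨ s.card + t.card = 24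

theorem sameCls_iff (s t : Finset GolayPt) : SameCls s t ↔ sameCls (enc s) (enc t) = true := by
  unfold SameCls sameCls
  rw [Bool.or_eq_true, beq_iff_eq, beq_iff_eq, ← card_eq_pop, ← card_eq_pop]

theorem sameCls_compl_left (s t : Finset GolayPt) : SameCls sᶜ t ↔ SameCls s t := by
  have h1 := card_le s
  have h2 := card_compl' s
  have h3 := card_le t
  unfold SameCls
  omega

/-- The sizes up to complement of `c + s` and `d + s` agree for all `s` in the span of the first
`k` base sets. -/
def Prof : ℕ → Finset GolayPt → Finset GolayPt → Prop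
  | 0, c, d => SameCls c d
  | k + 1, c, d => Prof k c d ∧ Prof k (c ∆ B k) (d ∆ B k)

theorem prof_iff (k : ℕ) : ∀ c d : Finset GolayPt,
    Prof k c d ↔ profEq k (enc c) (enc d) = true := by
  induction k with
  | zero => intro c d; exact sameCls_iff c d
  | succ k ih =>
    intro c d
    rw [profEq_succ, Bool.and_eq_true]
    show Prof k c d ∧ Prof k (c ∆ B k) (d ∆ B k) ↔ _
    rw [ih, ih, enc_symmDiff, enc_symmDiff, enc_B]

theorem compl_symmDiff_left (c s : Finset GolayPt) : cᶜ ∆ s = (c ∆ s)ᶜ := by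
  ext p
  simp only [Finset.mem_symmDiff, Finset.mem_compl]
  tauto

theorem symmDiff_compl_right' (c s : Finset GolayPt) : c ∆ sᶜ = (c ∆ s)ᶜ := by
  ext p
  simp only [Finset.mem_symmDiff, Finset.mem_compl]
  tauto

theorem prof_compl_left (k : ℕ) : ∀ c d : Finset GolayPt, Prof k cᶜ d ↔ Prof k c d := by
  induction k with
  | zero => intro c d; exact sameCls_compl_left c d
  | succ k ih =>
    intro c d
    show Prof k cᶜ d ∧ Prof k (cᶜ ∆ B k) (d ∆ B k) ↔ Prof k c d ∧ Prof k (c ∆ B k) (d ∆ B k)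
    rw [compl_symmDiff_left, ih, ih]

/-- Equality up to complement. -/
def Eqc (s t : Finset GolayPt) : Prop := s = t ∨ s = tᶜ

theorem smul_compl (τ : Equiv.Perm GolayPt) (s : Finset GolayPt) : τ • sᶜ = (τ • s)ᶜ := by
  ext p
  simp only [Finset.mem_smul_finset, Finset.mem_compl]
  constructor
  · rintro ⟨q, hq, rfl⟩ ⟨q', hq', h⟩
    have : q' = q := MulAction.injective τ h
    exact hq (this ▸ hq')
  · intro h
    refine ⟨τ⁻¹ • p, ?_, smul_inv_smul τ p⟩
    intro h'
    exact h ⟨τ⁻¹ • p, h', smul_inv_smul τ p⟩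

theorem eqc_symmDiff {s t s' t' : Finset GolayPt} (h : Eqc s t) (h' : Eqc s' t') :
    Eqc (s ∆ s') (t ∆ t') := by
  rcases h with rfl | rfl <;> rcases h' with rfl | rfl
  · left; rfl
  · right; exact symmDiff_compl_right' _ _
  · right; exact compl_symmDiff_left _ _
  · left; rw [compl_symmDiff_left, symmDiff_compl_right', compl_compl]

/-! ### The stabiliser chain and the level certificates -/

/-- The elements of `M24` fixing each of the first `k` base sets. -/
def Hk (k : ℕ) : Subgroup (Equiv.Perm GolayPt) where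
  carrier := {τ | τ ∈ M24 ∧ ∀ i < k, τ • B i = B i}
  mul_mem' := by
    intro a c ha hc
    exact ⟨M24.mul_mem ha.1 hc.1, fun i hi => by rw [mul_smul, hc.2 i hi, ha.2 i hi]⟩
  one_mem' := ⟨M24.one_mem, fun i _ => one_smul _ _⟩
  inv_mem' := by
    intro a ha
    exact ⟨M24.inv_mem ha.1, fun i hi => by rw [inv_smul_eq_iff, ha.2 i hi]⟩

theorem mem_Hk (k : ℕ) (τ : Equiv.Perm GolayPt) :
    τ ∈ Hk k ↔ τ ∈ M24 ∧ ∀ i < k, τ • B i = B i := Iff.rfl

theorem gensIn_Hk (k TT r : ℕ)
    (h : allFold (fun g => tblInM24 (get120 TT g) && fixesBase k (get120 TT g)) r = true) :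
    GensIn (Hk k) TT r := by
  rw [allFold_eq_true] at h
  intro g hg
  have h1 := h g hg
  unfold fixesBase at h1
  rw [Bool.and_eq_true, allFold_eq_true] at h1
  obtain ⟨σ, hσ, hT⟩ := exists_of_tblInM24 h1.1
  refine ⟨σ, ⟨hσ, fun i hi => ?_⟩, hT⟩
  have h2 := h1.2 i hi
  rw [beq_iff_eq] at h2
  unfold B
  rw [smul_dec hT (b_lt i), h2]

theorem level_of_forest (k TT r P G D R jk : ℕ) (hg : GensIn (Hk k) TT r)
    (hf : forestCheck (stepOk maskCoding TT r) octAt P G D R 759 = true)
    (hjk : jk < 759) (hb : octAt jk = b k)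
    (hc : allFold (fun j => !(profEq k (octAt j) (b k)) || (get16 R j == get16 R jk)) 759 = true)
    (j : ℕ) (hj : j < 759) (hp : profEq k (octAt j) (b k) = true) :
    ∃ τ ∈ Hk k, τ • B k = dec (octAt j) := by
  have h1 := (allFold_eq_true _ _).mp hc j hj
  rw [hp, Bool.not_true, Bool.false_or, beq_iff_eq] at h1
  have h2 := rel_of_same_root maskCoding (Hk k) TT r hg octAt P G D R 759 hf hjk hj h1.symm
  rw [hb] at h2
  exact h2

theorem level_cert (k : ℕ) (hk : k < 11) (j : ℕ) (hj : j < 759)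
    (hp : profEq k (octAt j) (b k) = true) : ∃ τ ∈ Hk k, τ • B k = dec (octAt j) := by
  by_cases h4 : 4 ≤ k
  · have h1 := (allFold_eq_true _ _).mp ((allFold_eq_true _ _).mp single_ok (k - 4) (by omega)) j hj
    have e : k - 4 + 4 = k := by omega
    rw [e, hp, Bool.not_true, Bool.false_or, beq_iff_eq] at h1
    refine ⟨1, (Hk k).one_mem, ?_⟩
    rw [one_smul, h1]
    rfl
  · rw [not_le] at h4
    interval_cases k
    · have ho : dec (octAt j) ∈ octads := octEnum.mem j hj
      obtain ⟨g, hg, hgo⟩ := exists_smul_oct0_eq ho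
      refine ⟨g, ⟨hg, fun i hi => absurd hi (Nat.not_lt_zero _)⟩, ?_⟩
      unfold B
      rw [b0_ok]
      exact hgo
    · exact level_of_forest 1 gens1 _ f1P f1G f1D f1R j1 (gensIn_Hk 1 gens1 _ gens1_ok) forest1_ok
        (by decide) j1_ok cls1_ok j hj hp
    · exact level_of_forest 2 gens2 _ f2P f2G f2D f2R j2 (gensIn_Hk 2 gens2 _ gens2_ok) forest2_ok
        (by decide) j2_ok cls2_ok j hj hp
    · exact level_of_forest 3 gens3 _ f3P f3G f3D f3R j3 (gensIn_Hk 3 gens3 _ gens3_ok) forest3_ok
        (by decide) j3_ok cls3_ok j hj hp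

/-! ### The main argument -/

/-- The support of a code word. -/
def S (c : ↥golayCode) : Finset GolayPt := support₂ (c : GolayPt → ZMod 2)

theorem S_add (a c : ↥golayCode) : S (a + c) = S a ∆ S c := by
  unfold S
  rw [Submodule.coe_add, support₂_add]

/-- The code word with a given bitmask. -/
def cw (m : ℕ) (h : wordOf m ∈ golayCode) : ↥golayCode := ⟨wordOf m, h⟩

theorem S_cw (m : ℕ) (h : wordOf m ∈ golayCode) : S (cw m h) = dec m := support₂_wordOf m

theorem b_mem (k : ℕ) : wordOf (b k) ∈ golayCode :=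
  (wordOf_mem_golayCode_iff _ (b_lt k)).mpr (b_code k)

/-- The code words of the base sets. -/
def β (k : ℕ) : ↥golayCode := cw (b k) (b_mem k)

theorem S_β (k : ℕ) : S (β k) = B k := S_cw _ _

section main

variable (F : ↥golayCode → Finset GolayPt)
  (hadd : ∀ a c, F (a + c) = F a ∆ F c)
  (hcls : ∀ a, SameCls (F a) (S a))
  (hsupp : ∀ a, F a ∈ supports (golayCode : Set (GolayPt → ZMod 2)))

include hadd hcls in
theorem prof_of_base (σ : Equiv.Perm GolayPt) (k : ℕ)
    (h : ∀ j < k, Eqc (F (β j)) (σ • B j)) : ∀ a, Prof k (σ⁻¹ • F a) (S a) := by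
  induction k with
  | zero =>
    intro a
    show SameCls (σ⁻¹ • F a) (S a)
    have h1 := hcls a
    unfold SameCls at h1 ⊢
    rw [Finset.card_smul_finset]
    exact h1
  | succ k ih =>
    have ih' := ih (fun j hj => h j (Nat.lt_succ_of_lt hj))
    intro a
    refine ⟨ih' a, ?_⟩
    have h1 := ih' (a + β k)
    rw [hadd, S_add, S_β, Finset.smul_finset_symmDiff] at h1
    rcases h k (Nat.lt_succ_self k) with h2 | h2
    · rw [h2, inv_smul_smul] at h1
      exact h1
    · rw [h2, smul_compl, inv_smul_smul, symmDiff_compl_right', prof_compl_left] at h1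
      exact h1

include hadd hcls hsupp in
theorem step (k : ℕ) (hk : k < 11) (σ : Equiv.Perm GolayPt) (hσ : σ ∈ M24)
    (h : ∀ j < k, Eqc (F (β j)) (σ • B j)) :
    ∃ σ' ∈ M24, ∀ j < k + 1, Eqc (F (β j)) (σ' • B j) := by
  -- the image of the next base word, up to complement, is an octad
  have hf : ∃ f' ∈ octads, Eqc (F (β k)) f' ∧ Prof k (σ⁻¹ • f') (B k) := by
    have h1 := hcls (β k)
    have h2 := prof_of_base F hadd hcls σ k h (β k)
    rw [S_β] at h1 h2
    unfold SameCls at h1
    rw [card_B k hk] at h1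
    rcases h1 with h1 | h1
    · exact ⟨F (β k), ⟨hsupp _, h1⟩, Or.inl rfl, h2⟩
    · refine ⟨(F (β k))ᶜ, ⟨supports_compl (hsupp _), ?_⟩, Or.inr (compl_compl _).symm, ?_⟩
      · rw [card_compl']; omega
      · rw [smul_compl, prof_compl_left]
        exact h2
  obtain ⟨f', hf', hff', hprof⟩ := hf
  have hc : σ⁻¹ • f' ∈ octads := smul_mem_octads (M24.inv_mem hσ) hf'
  obtain ⟨j, hj, hjc⟩ := octEnum.surj _ hc
  have hjc' : dec (octAt j) = σ⁻¹ • f' := hjc
  rw [prof_iff, ← hjc', enc_dec _ (octAt_lt j), enc_B] at hprof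
  obtain ⟨τ, hτ, hτB⟩ := level_cert k hk j hj hprof
  rw [hjc'] at hτB
  refine ⟨σ * τ, M24.mul_mem hσ hτ.1, ?_⟩
  intro j' hj'
  rw [mul_smul]
  rcases Nat.lt_succ_iff_lt_or_eq.mp hj' with hlt | rfl
  · rw [hτ.2 j' hlt]
    exact h j' hlt
  · rw [hτB, smul_inv_smul]
    exact hff'

include hadd hcls hsupp in
theorem exists_base : ∀ k ≤ 11, ∃ σ ∈ M24, ∀ j < k, Eqc (F (β j)) (σ • B j) := by
  intro k
  induction k with
  | zero => intro _; exact ⟨1, M24.one_mem, fun j hj => absurd hj (Nat.not_lt_zero _)⟩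
  | succ k ih =>
    intro hk
    obtain ⟨σ, hσ, h⟩ := ih (by omega)
    exact step F hadd hcls hsupp k (by omega) σ hσ h

/-- The property propagated along sums of code words. -/
def Good (σ : Equiv.Perm GolayPt) (m : ℕ) : Prop :=
  ∃ h : wordOf m ∈ golayCode, Eqc (F (cw m h)) (σ • dec m)

theorem dec_xor (m n : ℕ) : dec (m ^^^ n) = dec m ∆ dec n := by
  rw [← support₂_wordOf, wordOf_xor, support₂_add, support₂_wordOf, support₂_wordOf]

include hadd in
theorem F_zero : F 0 = ∅ := by
  have h := hadd 0 0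
  rw [add_zero, symmDiff_self] at h
  exact h

include hadd in
theorem good_zero (σ : Equiv.Perm GolayPt) : Good F σ 0 := by
  have h0 : wordOf 0 ∈ golayCode := by rw [wordOf_zero]; exact golayCode.zero_mem
  refine ⟨h0, Or.inl ?_⟩
  have e : cw 0 h0 = 0 := Subtype.ext wordOf_zero
  rw [e, F_zero F hadd]
  have : dec 0 = ∅ := by
    ext p
    simp [mem_dec]
  rw [this, Finset.smul_finset_empty]

include hadd in
theorem good_xor (σ : Equiv.Perm GolayPt) {m n : ℕ} (hm : Good F σ m) (hn : Good F σ n) :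
    Good F σ (m ^^^ n) := by
  obtain ⟨h1, h1'⟩ := hm
  obtain ⟨h2, h2'⟩ := hn
  have h3 : wordOf (m ^^^ n) ∈ golayCode := by
    rw [wordOf_xor]
    exact golayCode.add_mem h1 h2
  refine ⟨h3, ?_⟩
  have e : cw (m ^^^ n) h3 = cw m h1 + cw n h2 := Subtype.ext (wordOf_xor m n)
  rw [e, hadd, dec_xor, Finset.smul_finset_symmDiff]
  exact eqc_symmDiff h1' h2'

include hadd in
theorem good_xorFold (σ : Equiv.Perm GolayPt) (g : ℕ → ℕ) (r : ℕ) (n : ℕ)
    (hg : ∀ k < n, Good F σ (g k)) :
    Good F σ (xorFold (fun k => ((r >>> k) &&& 1) * g k) n) := by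
  induction n with
  | zero => exact good_zero F hadd σ
  | succ n ih =>
    rw [xorFold_succ]
    apply good_xor F hadd σ (ih (fun k hk => hg k (Nat.lt_succ_of_lt hk)))
    rw [bit_mul]
    split_ifs
    · exact hg n (Nat.lt_succ_self n)
    · exact good_zero F hadd σ

include hcls in
theorem good_b (σ : Equiv.Perm GolayPt) (h : ∀ j < 11, Eqc (F (β j)) (σ • B j)) :
    ∀ k < 12, Good F σ (b k) := by
  intro k hk
  refine ⟨b_mem k, ?_⟩
  rcases Nat.lt_succ_iff_lt_or_eq.mp hk with hlt | rfl
  · exact h k hlt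
  · have h1 := hcls (cw (b 11) (b_mem 11))
    have huniv : dec (b 11) = Finset.univ := by
      rw [b11_ok, ← enc_univ, dec_enc]
    rw [S_cw, huniv] at h1
    rw [huniv, Finset.smul_finset_univ]
    unfold SameCls at h1
    rw [Finset.card_univ] at h1
    have h24 : Fintype.card GolayPt = 24 := by rfl
    rcases h1 with h1 | h1
    · left
      exact (Finset.card_eq_iff_eq_univ _).mp h1
    · right
      have : (F (cw (b 11) (b_mem 11))).card = 0 := by omega
      rw [Finset.card_eq_zero.mp this]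
      simp

include hadd hcls hsupp in
/-- The main result: agreement with a single element of `M24` up to complement. -/
theorem exists_perm : ∃ σ ∈ M24, ∀ c, Eqc (F c) (σ • S c) := by
  obtain ⟨σ, hσ, h⟩ := exists_base F hadd hcls hsupp 11 le_rfl
  refine ⟨σ, hσ, ?_⟩
  have hb := good_b F hcls σ h
  have hbasis : ∀ i < 12, Good F σ (basisMask i) := by
    intro i hi
    have h1 := (allFold_eq_true _ _).mp span_ok i hi
    rw [beq_iff_eq] at h1
    rw [← h1]
    exact good_xorFold F hadd σ b _ 12 hb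
  intro c
  have hc : isCode (enc (S c)) = true := (mem_golayCode_iff _).mp c.2
  unfold isCode at hc
  rw [beq_iff_eq] at hc
  have h2 : Good F σ (enc (S c)) := by
    rw [← hc]
    exact good_xorFold F hadd σ basisMask _ 12 hbasis
  obtain ⟨h3, h4⟩ := h2
  have e : cw (enc (S c)) h3 = c := Subtype.ext (wordOf_enc_support₂ _)
  rw [e, dec_enc] at h4
  exact h4

end main

end Cfsg.Agent.Lib.Helper93_S5549b
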