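import Mathlib
import Cfsg.Agent.Lib.Helper93_S5604a
import Cfsg.Agent.Lib.Helper93_M24Cyc

/-!
The elements of order 7 of `M24`: the centraliser and the normaliser of the representative.
-/

set_option autoImplicit false
open Cfsg
open scoped Pointwise
open Cfsg.Agent.Lib.Helper26_Golay Cfsg.Agent.Lib.Helper93_M24Obj

namespace Cfsg.Agent.Lib.Helper93_S5604a

/-- The representative of order 7. -/
noncomputable def ε : Equiv.Perm GolayPt := tblPerm E

theorem ε_mem : ε ∈ M24 := (tblPerm_spec rep_in).1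

theorem ε_rep : RepF ε e := repF_of_represents (tblPerm_spec rep_in).2

theorem iter_succ (f : ℕ → ℕ) (k x : ℕ) : iter f (k + 1) x = f (iter f k x) := rfl

theorem iter_zero (f : ℕ → ℕ) (x : ℕ) : iter f 0 x = x := rfl

theorem repF_pow {σ : Equiv.Perm GolayPt} {f : ℕ → ℕ} (h : RepF σ f) (k : ℕ) :
    RepF (σ ^ k) (iter f k) := by
  induction k with
  | zero => rw [pow_zero]; exact RepF.one
  | succ k ih =>
    rw [pow_succ']
    exact h.mul ih

theorem pow_of_pow7Id {σ : Equiv.Perm GolayPt} {f : ℕ → ℕ} (h : RepF σ f)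
    (hc : pow7Id f = true) : σ ^ 7 = 1 := by
  unfold pow7Id at hc
  rw [allFold_eq_true] at hc
  refine Equiv.ext fun p => ?_
  apply idx_injective
  have := hc (idx p) (idx_lt p)
  rw [beq_iff_eq] at this
  simp only [pow_succ, pow_zero, one_mul, Equiv.Perm.mul_apply, Equiv.Perm.one_apply]
  rw [h, h, h, h, h, h, h, this]

theorem pow7Id_of_pow {σ : Equiv.Perm GolayPt} {f : ℕ → ℕ} (h : RepF σ f) (h7 : σ ^ 7 = 1) :
    pow7Id f = true := by
  unfold pow7Id
  rw [allFold_eq_true]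
  intro i hi
  rw [beq_iff_eq]
  have h1 : σ (σ (σ (σ (σ (σ (σ (pt i))))))) = pt i := by
    have := congrArg (fun τ : Equiv.Perm GolayPt => τ (pt i)) h7
    simpa [pow_succ, Equiv.Perm.mul_apply] using this
  have h2 := congrArg idx h1
  rw [h, h, h, h, h, h, h, idx_pt i hi] at h2
  exact h2

theorem ε_pow7 : ε ^ 7 = 1 := pow_of_pow7Id ε_rep rep_pow

theorem ε_23 : ε (pt 23) = pt 0 := by
  rw [ε_rep.apply_pt 23 (by norm_num)]
  exact congrArg pt rep_img.1

theorem ε_0 : ε (pt 0) = pt 1 := by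
  rw [ε_rep.apply_pt 0 (by norm_num)]
  exact congrArg pt rep_img.2.1

theorem ε_1 : ε (pt 1) = pt 2 := by
  rw [ε_rep.apply_pt 1 (by norm_num)]
  exact congrArg pt rep_img.2.2

theorem ε_ne_one : ε ≠ 1 := by
  intro h
  have := ε_23
  rw [h, Equiv.Perm.one_apply] at this
  exact absurd (pt_inj (by norm_num) (by norm_num) this) (by norm_num)

theorem commute_of_commOK {σ τ : Equiv.Perm GolayPt} {f g : ℕ → ℕ} (hf : RepF σ f)
    (hg : RepF τ g) (h : commOK f g = true) : σ * τ = τ * σ := by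
  unfold commOK at h
  rw [allFold_eq_true] at h
  apply (hf.mul hg).unique
  apply (hg.mul hf).congr
  intro i hi
  have := h i hi
  rw [beq_iff_eq] at this
  exact this.symm

/-- The normaliser elements fixing `∞`. -/
def AN : Set (Equiv.Perm GolayPt) := {n | n ∈ Nset ε ∧ n (pt 23) = pt 23}

/-- The centraliser elements fixing `∞`. -/
def AC : Set (Equiv.Perm GolayPt) := {n | n ∈ Cset ε ∧ n (pt 23) = pt 23}

theorem Cset_sub_Nset : Cset ε ⊆ Nset ε := by
  rintro n ⟨hn, h⟩
  refine ⟨hn, 1, ?_⟩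
  rw [h, pow_one, mul_inv_cancel_right]

theorem hT : ∀ i < 6, tblInM24 (Ts i) = true := (allFold_eq_true _ _).mp Ts_in

theorem hsig : ∀ i < 6, ∀ i' < 6, img (Ts i) 23 = img (Ts i') 23 → img (Ts i) 0 = img (Ts i') 0 →
    img (Ts i) 1 = img (Ts i') 1 → img (Ts i) 2 = img (Ts i') 2 → i = i' := by
  intro i hi i' hi' _ h0 _ _
  have := (allFold_eq_true _ _).mp ((allFold_eq_true _ _).mp Ts_sig i hi) i' hi'
  rw [h0] at this
  simpa using this

theorem hA1N : ∀ n ∈ AN, n ∈ M24 ∧ ∃ i < 6, n (pt 23) = pt (img (Ts i) 23) ∧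
    n (pt 0) = pt (img (Ts i) 0) ∧ n (pt 1) = pt (img (Ts i) 1) ∧
    n (pt 2) = pt (img (Ts i) 2) := by
  rintro n ⟨⟨hn, j, hj⟩, h23⟩
  refine ⟨hn, ?_⟩
  have hj' : n * ε * n⁻¹ = ε ^ (j % 7) := by rw [hj]; exact pow_eq_pow_mod j ε_pow7
  have hne : j % 7 ≠ 0 := by
    intro h0
    rw [h0, pow_zero] at hj'
    apply ε_ne_one
    have : ε = n⁻¹ * (n * ε * n⁻¹) * n := by group
    rw [this, hj']
    group
  have hlt : j % 7 < 7 := Nat.mod_lt _ (by norm_num)
  set j' := j % 7 with hjdef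
  have key : ∀ p, n (ε p) = (ε ^ j') (n p) := by
    intro p
    have h1 : n * ε = ε ^ j' * n := by rw [← hj']; group
    have := congrArg (fun σ : Equiv.Perm GolayPt => σ p) h1
    simpa [Equiv.Perm.mul_apply] using this
  have hpow := repF_pow ε_rep j'
  refine ⟨j' - 1, by omega, ?_⟩
  have hc := (allFold_eq_true _ _).mp Ts_img (j' - 1) (by omega)
  have hj1 : j' - 1 + 1 = j' := by omega
  rw [hj1] at hc
  simp only [Bool.and_eq_true, beq_iff_eq] at hc
  obtain ⟨⟨⟨c23, c0⟩, c1⟩, c2⟩ := hc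
  have l1 : iter e j' 23 < 24 := hpow.lt 23 (by norm_num)
  have l2 : iter e j' (iter e j' 23) < 24 := hpow.lt _ l1
  have n0 : n (pt 0) = pt (iter e j' 23) := by
    rw [← ε_23, key, h23, hpow.apply_pt 23 (by norm_num)]
  have n1 : n (pt 1) = pt (iter e j' (iter e j' 23)) := by
    rw [← ε_0, key, n0, hpow.apply_pt _ l1]
  have n2 : n (pt 2) = pt (iter e j' (iter e j' (iter e j' 23))) := by
    rw [← ε_1, key, n1, hpow.apply_pt _ l2]
  refine ⟨?_, ?_, ?_, ?_⟩
  · rw [h23, c23]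
  · rw [n0, c0]
  · rw [n1, c1]
  · rw [n2, c2]

theorem hA2N : ∀ n ∈ M24, ∀ f, RepF n f → (n ∈ AN ↔ PbN f = true) := by
  intro n hn f hf
  unfold PbN
  rw [Bool.and_eq_true, beq_iff_eq]
  have h23iff : n (pt 23) = pt 23 ↔ f 23 = 23 := by
    constructor
    · intro h
      have := hf (pt 23)
      rw [h, idx_pt 23 (by norm_num)] at this
      exact this.symm
    · intro h
      rw [hf.apply_pt 23 (by norm_num), h]
  constructor
  · rintro ⟨⟨-, j, hj⟩, h23⟩
    refine ⟨?_, h23iff.mp h23⟩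
    have hj' : n * ε * n⁻¹ = ε ^ (j % 7) := by rw [hj]; exact pow_eq_pow_mod j ε_pow7
    have hlt : j % 7 < 7 := Nat.mod_lt _ (by norm_num)
    have h1 : n * ε = ε ^ (j % 7) * n := by rw [← hj']; group
    have hinner : allFold (fun x => f (e x) == iter e (j % 7) (f x)) 24 = true := by
      rw [allFold_eq_true]
      intro x hx
      rw [beq_iff_eq]
      have r1 := (hf.mul ε_rep) (pt x)
      have r2 := ((repF_pow ε_rep (j % 7)).mul hf) (pt x)
      rw [idx_pt x hx] at r1 r2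
      simp only at r1 r2
      rw [← r1, ← r2, h1]
    unfold normOK
    rw [Bool.not_eq_true']
    by_contra hcon
    rw [Bool.not_eq_false, allFold_eq_true] at hcon
    have := hcon (j % 7) hlt
    rw [hinner] at this
    exact Bool.noConfusion this
  · rintro ⟨hnorm, h23⟩
    refine ⟨⟨hn, ?_⟩, h23iff.mpr h23⟩
    unfold normOK at hnorm
    rw [Bool.not_eq_true'] at hnorm
    have hex : ∃ i < 7, allFold (fun x => f (e x) == iter e i (f x)) 24 = true := by
      by_contra hcon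
      push Not at hcon
      have : allFold (fun i => !(allFold (fun x => f (e x) == iter e i (f x)) 24)) 7 = true := by
        rw [allFold_eq_true]
        intro i hi
        rw [Bool.not_eq_true']
        exact Bool.eq_false_iff.mpr (hcon i hi)
      rw [this] at hnorm
      exact Bool.noConfusion hnorm
    obtain ⟨i, -, hi⟩ := hex
    rw [allFold_eq_true] at hi
    refine ⟨i, ?_⟩
    have h1 : n * ε = ε ^ i * n := by
      apply (hf.mul ε_rep).unique
      apply ((repF_pow ε_rep i).mul hf).congr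
      intro x hx
      have := hi x hx
      rw [beq_iff_eq] at this
      exact this.symm
    rw [h1, mul_inv_cancel_right]

theorem hA1C : ∀ n ∈ AC, n ∈ M24 ∧ ∃ i < 6, n (pt 23) = pt (img (Ts i) 23) ∧
    n (pt 0) = pt (img (Ts i) 0) ∧ n (pt 1) = pt (img (Ts i) 1) ∧
    n (pt 2) = pt (img (Ts i) 2) := by
  rintro n ⟨hn, h23⟩
  exact hA1N n ⟨Cset_sub_Nset hn, h23⟩

theorem hA2C : ∀ n ∈ M24, ∀ f, RepF n f → (n ∈ AC ↔ PbC f = true) := by
  intro n hn f hf
  unfold PbC
  rw [Bool.and_eq_true, beq_iff_eq]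
  have h23iff : n (pt 23) = pt 23 ↔ f 23 = 23 := by
    constructor
    · intro h
      have := hf (pt 23)
      rw [h, idx_pt 23 (by norm_num)] at this
      exact this.symm
    · intro h
      rw [hf.apply_pt 23 (by norm_num), h]
  constructor
  · rintro ⟨⟨-, hc⟩, h23⟩
    exact ⟨commOK_of_commute hf ε_rep hc, h23iff.mp h23⟩
  · rintro ⟨hc, h23⟩
    exact ⟨⟨hn, commute_of_commOK hf ε_rep hc⟩, h23iff.mpr h23⟩

theorem AN_ncard : AN.ncard = 6 := by
  rw [count4 Ts 6 hT hsig AN PbN hA1N hA2N]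
  exact count_N

theorem AC_ncard : AC.ncard = 2 := by
  rw [count4 Ts 6 hT hsig AC PbC hA1C hA2C]
  exact count_C

end Cfsg.Agent.Lib.Helper93_S5604a
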