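import Mathlib
import Cfsg.Agent.Lib.Helper93_S5604b

/-!
The elements of order 7 of `M24`: orders of the centraliser and the normaliser of the
representative, the fixed trio, and the reduction of an arbitrary element of order 7.
-/

set_option autoImplicit false
open Cfsg
open scoped Pointwise
open Cfsg.Agent.Lib.Helper26_Golay Cfsg.Agent.Lib.Helper93_M24Obj

namespace Cfsg.Agent.Lib.Helper93_S5604a

/-- The normaliser of the representative, as a subgroup of the permutation group. -/
noncomputable def HN : Subgroup (Equiv.Perm GolayPt) :=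
  M24 ⊓ Subgroup.normalizer (Subgroup.zpowers ε : Set (Equiv.Perm GolayPt))

/-- The centraliser of the representative, as a subgroup of the permutation group. -/
noncomputable def HC : Subgroup (Equiv.Perm GolayPt) :=
  M24 ⊓ Subgroup.centralizer (Subgroup.zpowers ε : Set (Equiv.Perm GolayPt))

theorem mem_HN_iff (n : Equiv.Perm GolayPt) : n ∈ HN ↔ n ∈ Nset ε := by
  unfold HN Nset
  rw [Subgroup.mem_inf, mem_normalizer_zpowers_iff]
  rfl

theorem mem_HC_iff (n : Equiv.Perm GolayPt) : n ∈ HC ↔ n ∈ Cset ε := by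
  unfold HC Cset
  rw [Subgroup.mem_inf, mem_centralizer_zpowers_iff]
  rfl

/-- The points moved by the representative. -/
noncomputable def moved : Finset GolayPt := Finset.univ.filter fun p => ε p ≠ p

theorem fix_e : fixCount e = 3 := by decide +kernel

theorem moved_card : moved.card = 21 := by
  have h1 := Finset.card_filter_add_card_filter_not (s := (Finset.univ : Finset GolayPt))
    (fun p => ε p = p)
  rw [card_fixed_eq ε_rep, fix_e, Finset.card_univ] at h1
  have h24 : Fintype.card GolayPt = 24 := by decide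
  rw [h24] at h1
  have h2 : moved = Finset.univ.filter (fun p => ¬ ε p = p) := by
    unfold moved
    ext p
    simp
  rw [h2]
  omega

theorem apply_moved {n : Equiv.Perm GolayPt} (hn : n ∈ Nset ε) : n (pt 23) ∈ moved := by
  obtain ⟨-, j, hj⟩ := hn
  unfold moved
  rw [Finset.mem_filter]
  refine ⟨Finset.mem_univ _, ?_⟩
  intro hfix
  have h1 : n * ε = ε ^ j * n := by rw [← hj]; group
  have h2 := congrArg (fun σ : Equiv.Perm GolayPt => σ (pt 23)) h1
  simp only [Equiv.Perm.mul_apply] at h2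
  rw [Equiv.Perm.pow_apply_eq_self_of_apply_eq_self hfix j] at h2
  have h3 := n.injective h2
  rw [ε_23] at h3
  exact absurd (pt_inj (by norm_num) (by norm_num) h3) (by norm_num)

theorem exists_of_moved {q : GolayPt} (hq : q ∈ moved) : ∃ h ∈ Cset ε, h (pt 23) = q := by
  unfold moved at hq
  rw [Finset.mem_filter] at hq
  have hne : e (idx q) ≠ idx q := by
    intro h
    apply hq.2
    apply idx_injective
    rw [ε_rep q, h]
  have hc := (allFold_eq_true _ _).mp W_ok (idx q) (idx_lt q)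
  rw [Bool.or_eq_true, beq_iff_eq] at hc
  rcases hc with hc | hc
  · exact absurd hc hne
  · rw [Bool.and_eq_true, Bool.and_eq_true, beq_iff_eq] at hc
    obtain ⟨⟨hin, hcomm⟩, h23⟩ := hc
    have hs := tblPerm_spec hin
    refine ⟨tblPerm (W (idx q)), ⟨hs.1, commute_of_commOK (repF_of_represents hs.2) ε_rep hcomm⟩, ?_⟩
    rw [(repF_of_represents hs.2).apply_pt 23 (by norm_num), h23, pt_idx]

theorem Nset_ncard : (Nset ε).ncard = 126 := by
  have h := card_eq_orbit_mul_stab HN (pt 23) moved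
    (fun h hh => apply_moved ((mem_HN_iff h).mp hh))
    (fun q hq => by
      obtain ⟨h, hh, hq⟩ := exists_of_moved hq
      exact ⟨h, (mem_HN_iff h).mpr (Cset_sub_Nset hh), hq⟩)
  have hset : {n : Equiv.Perm GolayPt | n ∈ HN ∧ n (pt 23) = pt 23} = AN := by
    ext n
    simp only [Set.mem_ofPred_eq, mem_HN_iff]
    rfl
  rw [hset, AN_ncard, moved_card] at h
  have hcard : Nat.card HN = (Nset ε).ncard := by
    rw [← Nat.card_coe_set_eq]
    apply Nat.card_congr
    exact Equiv.subtypeEquivRight (fun n => mem_HN_iff n)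
  rw [← hcard, h]

theorem Cset_ncard : (Cset ε).ncard = 42 := by
  have h := card_eq_orbit_mul_stab HC (pt 23) moved
    (fun h hh => apply_moved (Cset_sub_Nset ((mem_HC_iff h).mp hh)))
    (fun q hq => by
      obtain ⟨h, hh, hq⟩ := exists_of_moved hq
      exact ⟨h, (mem_HC_iff h).mpr hh, hq⟩)
  have hset : {n : Equiv.Perm GolayPt | n ∈ HC ∧ n (pt 23) = pt 23} = AC := by
    ext n
    simp only [Set.mem_ofPred_eq, mem_HC_iff]
    rfl
  rw [hset, AC_ncard, moved_card] at h
  have hcard : Nat.card HC = (Cset ε).ncard := by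
    rw [← Nat.card_coe_set_eq]
    apply Nat.card_congr
    exact Equiv.subtypeEquivRight (fun n => mem_HC_iff n)
  rw [← hcard, h]

theorem exists_noncomm : ∃ x ∈ Cset ε, ∃ y ∈ Cset ε, x * y ≠ y * x := by
  have h := XY_ok
  simp only [Bool.and_eq_true, Bool.not_eq_true', beq_eq_false_iff_ne] at h
  obtain ⟨⟨⟨⟨hX, hY⟩, hXc⟩, hYc⟩, hne⟩ := h
  have sX := tblPerm_spec hX
  have sY := tblPerm_spec hY
  refine ⟨tblPerm X, ⟨sX.1, commute_of_commOK (repF_of_represents sX.2) ε_rep hXc⟩,
    tblPerm Y, ⟨sY.1, commute_of_commOK (repF_of_represents sY.2) ε_rep hYc⟩, ?_⟩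
  intro hxy
  apply hne
  have r1 := ((repF_of_represents sX.2).mul (repF_of_represents sY.2)) (pt 0)
  have r2 := ((repF_of_represents sY.2).mul (repF_of_represents sX.2)) (pt 0)
  rw [idx_pt 0 (by norm_num)] at r1 r2
  simp only at r1 r2
  rw [← r1, ← r2, hxy]

theorem exists_trio : ∃ T ∈ trios, ∀ n ∈ Nset ε, n • T = T := by
  have hcnt : {X | X ∈ trios ∧ ε • X = X}.ncard = 1 := by
    have := ncard_fixed_trios (tblPerm_spec rep_in).2
    rw [cnt_trio] at this
    exact this
  obtain ⟨T, hT⟩ := Set.ncard_eq_one.mp hcnt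
  have hTmem : T ∈ {X | X ∈ trios ∧ ε • X = X} := by rw [hT]; exact Set.mem_singleton _
  refine ⟨T, hTmem.1, ?_⟩
  intro n hn
  have hn' : n⁻¹ ∈ Nset ε := by
    rw [← mem_HN_iff] at hn ⊢
    exact HN.inv_mem hn
  obtain ⟨-, j, hj⟩ := hn'
  rw [inv_inv] at hj
  have hmem : n • T ∈ {X | X ∈ trios ∧ ε • X = X} := by
    refine ⟨smul_mem_trios hn.1 hTmem.1, ?_⟩
    have h1 : ε * n = n * ε ^ j := by rw [← hj]; group
    rw [← mul_smul, h1, mul_smul]
    congr 1
    have hstab : ε ∈ MulAction.stabilizer (Equiv.Perm GolayPt) T :=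
      MulAction.mem_stabilizer_iff.mpr hTmem.2
    exact MulAction.mem_stabilizer_iff.mp (Subgroup.pow_mem _ hstab j)
  rw [hT] at hmem
  exact hmem

/-- An element of order 7 of `M24` is conjugate to the representative or to its inverse. -/
theorem reduce7 {g : Equiv.Perm GolayPt} (hg : g ∈ M24) (h7 : orderOf g = 7) :
    ∃ k ∈ M24, k * g * k⁻¹ = ε ∨ k * g * k⁻¹ = ε⁻¹ := by
  have hg7 : g ^ 7 = 1 := by rw [← h7]; exact pow_orderOf_eq_one g
  have hne : g ≠ 1 := by
    intro h
    rw [h, orderOf_one] at h7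
    omega
  obtain ⟨p, hp⟩ := exists_moved hne
  -- the points p, g p, ..., g^4 p are distinct
  have hfix : ∀ c : ℕ, (c = 1 ∨ c = 2 ∨ c = 3 ∨ c = 4) → (g ^ c) p ≠ p := by
    intro c hc hcp
    apply hp
    have key : ∀ m : ℕ, (g ^ c) ^ m = g → g p = p := by
      intro m hm
      rw [← hm]
      exact Equiv.Perm.pow_apply_eq_self_of_apply_eq_self hcp m
    rcases hc with rfl | rfl | rfl | rfl
    · exact key 1 (by rw [pow_one, pow_one])
    · apply key 4
      rw [← pow_mul]
      have : g ^ (2 * 4) = g ^ 7 * g := by rw [← pow_succ]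
      rw [this, hg7, one_mul]
    · apply key 5
      rw [← pow_mul]
      have : g ^ (3 * 5) = g ^ 7 * g ^ 7 * g := by rw [← pow_add, ← pow_succ]
      rw [this, hg7, one_mul, one_mul]
    · apply key 2
      rw [← pow_mul]
      have : g ^ (4 * 2) = g ^ 7 * g := by rw [← pow_succ]
      rw [this, hg7, one_mul]
  have hinj : Function.Injective (fun i : Fin 5 => (g ^ (i : ℕ)) p) := by
    intro i j hij
    by_contra hne'
    rcases lt_or_gt_of_ne hne' with hlt | hlt
    · have hlt' : (i : ℕ) < (j : ℕ) := hlt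
      apply hfix ((j : ℕ) - (i : ℕ)) (by omega)
      have e1 : g ^ (j : ℕ) = g ^ (i : ℕ) * g ^ ((j : ℕ) - (i : ℕ)) := by
        rw [← pow_add]; congr 1; omega
      simp only at hij
      rw [e1, Equiv.Perm.mul_apply] at hij
      exact ((g ^ (i : ℕ)).injective hij).symm
    · have hlt' : (j : ℕ) < (i : ℕ) := hlt
      apply hfix ((i : ℕ) - (j : ℕ)) (by omega)
      have e1 : g ^ (i : ℕ) = g ^ (j : ℕ) * g ^ ((i : ℕ) - (j : ℕ)) := by
        rw [← pow_add]; congr 1; omega
      simp only at hij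
      rw [e1, Equiv.Perm.mul_apply] at hij
      exact (g ^ (j : ℕ)).injective hij
  obtain ⟨k₀, hk₀, hka⟩ := exists_map5' _ hinj
  obtain ⟨t0, t1, t2, t3⟩ := T7_img
  have step : ∀ i : ℕ, g ((g ^ i) p) = (g ^ (i + 1)) p := by
    intro i
    rw [pow_succ', Equiv.Perm.mul_apply]
  obtain ⟨m, hm, hrep⟩ := cand4_of_map T7_in hg hk₀ hka 1 2 3 4 (step 0) (step 1) (step 2)
    (step 3) t0 t1 t2 t3
  have hc := (allFold_eq_true _ _).mp class_ok m hm
  have hpow : pow7Id (cand4 T7 m) = true := by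
    apply pow7Id_of_pow hrep
    rw [conj_pow', hg7, mul_one, mul_inv_cancel]
  rw [hpow] at hc
  simp only [Bool.not_true, Bool.false_or, Bool.and_eq_true] at hc
  have sK := tblPerm_spec hc.1
  refine ⟨tblPerm (K m) * k₀, M24.mul_mem sK.1 hk₀, ?_⟩
  have hmul : tblPerm (K m) * k₀ * g * (tblPerm (K m) * k₀)⁻¹ =
      tblPerm (K m) * (k₀ * g * k₀⁻¹) * (tblPerm (K m))⁻¹ := by
    rw [mul_inv_rev]; group
  rw [hmul]
  by_cases hu : useInv m = true
  · right
    rw [if_pos hu] at hc
    exact conj_eq_of_conjOK (repF_of_represents sK.2) hrep (ε_rep.inv inv_ok) hc.2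
  · left
    rw [if_neg hu] at hc
    exact conj_eq_of_conjOK (repF_of_represents sK.2) hrep ε_rep hc.2

end Cfsg.Agent.Lib.Helper93_S5604a
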