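import Mathlib
import Cfsg.Agent.Lib.Helper93_M24Classes

/-!
Certificate data for the class of involutions with eight fixed points in `M24`.
-/

set_option autoImplicit false
open Cfsg
open scoped Pointwise
open Cfsg.Agent.Lib.Helper26_Golay Cfsg.Agent.Lib.Helper93_M24Obj

namespace Cfsg.Agent.Lib.Helper93_S5605a

/-- For each entry of the table of the five-point stabiliser, a conjugating element (packed table;
the identity where irrelevant). -/
def conjPacked : ℕ := 0xbdab49ca307b9ac5a928398a418820bdab49ca307b9ac5a928398a418820bdab49ca307b9ac5a928398a418820bdab49ca307b9ac5a928398a418820bdab49ca307b9ac5a928398a418820bdab49ca307b9ac5a928398a418820bdab49ca307b9ac5a928398a418820bdab49ca307b9ac5a928398a418820bdab49ca307b9ac5a928398a418820bdab49ca307b9ac5a928398a418820bdab49ca307b9ac5a928398a418820bdab49ca307b9ac5a928398a418820bdab49ca307b9ac5a928398a418820bdab49ca307b9ac5a928398a418820bdab49ca307b9ac5a928398a418820bdab49ca307b9ac5a928398a418820bdab49ca307b9ac5a928398a418820bdab49ca307b9ac5a928398a418820bdab49ca307b9ac5a928398a418820bdab49ca307b9ac5a928398a418820bdab49ca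307b9ac5a928398a418820bdab49ca307b9ac5a928398a418820bdab49ca307b9ac5a928398a418820bdab49ca307b9ac5a928398a418820bdab49ca307b9ac5a928398a418820bdab49ca307b9ac5a928398a418820bdab49ca307b9ac5a928398a418820bdab49ca307b9ac5a928398a418820bdab49ca307b9ac5a928398a418820bdab49ca307b9ac5a928398a418820bdab49ca307b9ac5a928398a418820bdab49ca307b9ac5a928398a4188201d94c5c1cd4c664322957c847b80258b24b4d806a15aa41e159904f0bae3711549c8103098b6a6b679ca88dc23ba29064c4a30644a9db65bdc9180b10418691dc89896aa25f52363608cb71caabb10aca5ded321533c1c90c440bda474b4288154c7d16624c5500dd18a61234c0c5168d3bd76a906808aee1d1f23402a23ab6431ab4ce2715ca02a6936ac4a4448c3d6467c1d605c618adb644ee9608f091954abdc40946089c8d7c8534858bada86829c82dc03bb55464e36938c7225707a01508ca22bc90b5467684c953173448148bae2bdab49ca307b9ac5a928398a418820bdab49ca307b9ac5a928398a418820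

/-- The conjugating table for entry `j`. -/
def K (j : ℕ) : ℕ := get120 conjPacked j

/-- The table-level test: order dividing 2 and eight fixed points. -/
def ok (T : ℕ) : Bool := sqId (img T) && (fixCount (img T) == 8)

theorem class_ok : allFold (fun j => !(ok (f5At j)) || (tblInM24 (K j) &&
    conjOK (img (K j)) (img (f5At j))
      (img (if (fun _ => false) j = true then f5At 1 else f5At 1)))) 48 = true := by
  decide +kernel

theorem rep_in : tblInM24 (f5At 1) = true := by decide +kernel

theorem inv_ok : invOK (img (f5At 1)) (img (f5At 1)) = true := by decide +kernel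

theorem cnt_oct : sumFold (fun j => if maskCoding.step (f5At 1) (octAt j) (octAt j) = true
    then 1 else 0) 759 = 71 := by decide +kernel

theorem cnt_trio : sumFold (fun j => if (objCoding 3).step (f5At 1) (trioAt j) (trioAt j) = true
    then 1 else 0) 3795 = 99 := by decide +kernel

theorem cnt_sext : sumFold (fun j => if (objCoding 6).step (f5At 1) (sextAt j) (sextAt j) = true
    then 1 else 0) 1771 = 91 := by decide +kernel

end Cfsg.Agent.Lib.Helper93_S5605a
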