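import Mathlib
import Cfsg.Agent.Lib.Helper93_S5606a
import Cfsg.Agent.Lib.Helper93_M24Count4

/-!
Certificate data for the centraliser of a fixed-point-free involution of `M24`.
-/

set_option autoImplicit false
open Cfsg
open scoped Pointwise
open Cfsg.Agent.Lib.Helper26_Golay Cfsg.Agent.Lib.Helper93_M24Obj

namespace Cfsg.Agent.Lib.Helper93_S5607a

/-- The index function of the representative (which interchanges `∞, 0` and `1, 2`). -/
def e : ℕ → ℕ := img Cfsg.Agent.Lib.Helper93_S5606a.E

/-- Tables fixing `∞, 0` and mapping `1 ↦ i + 1`, `2 ↦ e (i + 1)`. -/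
def tsPacked : ℕ := 0xbb28f90e67544485b5d0306a9216c0bbcc33da4b6a5042c1d11058aa4ea0b94834542b8362991853b28ef73280b9e8392081814cf535cb4b222b5660bac5170e8444de1828a769ab662640bb46c7d4e84c9d6298338284ba1220bb491a1de3b2e624324a494d50ba00bb267a9a9020da2894365aa49721e0ba2536256719954236a58d8227c1c0badcaacacf424e4618259c28288da0b99279a8a20ae04439b6ac9e38d180b9d3319611436c6255e263a41a2960bb28f81c49415d68d6616c8c322d40bd1cf6a8f520e6542ed13082c84920ba4a33d6d0919aa9ba8b0904c8bd00bc8499c2cca39f16a165a846a218e0b886b72a35a366c7a132b10a181cc0ba2a78be836496e6892a99030358a0bacf6a3ccea85b0516631492864480bac9161a0fa38414592a2caa79b460b8e126aaa561e344a16f25a6e30440bdab49ca307b9ac5a928398a418820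

/-- Table number `i`. -/
def Ts (i : ℕ) : ℕ := get120 tsPacked i

/-- For each point `q`, an element of the centraliser of the representative mapping `∞` to `q`. -/
def wPacked : ℕ := 0xbdab49ca307b9ac5a928398a418820b20928b1503386910687acdeb6dc05abaea021b66148b4c9f439a0388833a3d2790951710a61b4309d50bb5c0c9aee4015e974a9168ed031d486083592982a1df1690a1838c39d568b5c098acb2b31ee3c1a908a86acd481dc04815a219a34431215a8efacec495c0e79572532277182968e90acec415c08729b1195e2604e44cad49d56835c106c602718a95ca8143ceaacc9665c0361d249144d50dd17a2cbaccc185c14589ee434e4644b092474acc26b5c0a5090d7b8e5a58834ca0cacc268dc0b4ae8261d16714811b4d09d54f8dc124316750a50239a6b14319d6891dc0f3b832151a4546c943d8b9d6032dc063444a0a2cd60e0b4c9f49d48575c072c88e88d81508d043dab9d5343dc1622ad22b1031360931e81acd6f75c111c9cb822853d88a089e6acd2c8dc0d10cd23d211590a97a18a9d5aeb5c010a8ce3b5148b130b1464acd6f95c0202eb69c5ec6d2457408331d4848837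

/-- The table for the point `q`. -/
def W (q : ℕ) : ℕ := get120 wPacked q

/-- Test for the centraliser elements fixing `∞`. -/
def PbC (f : ℕ → ℕ) : Bool := commOK f e && (f 23 == 23)

/-- All members of the coded sextet are invariant under the representative. -/
def qb (c : ℕ) : Bool :=
  (mems 6 c).all (fun m => permMask Cfsg.Agent.Lib.Helper93_S5606a.E m == m)

theorem rep_img : e 23 = 0 ∧ e 1 = 2 := by decide +kernel

theorem rep_sq : sqId e = true := by decide +kernel

theorem Ts_in : allFold (fun i => tblInM24 (Ts i)) 22 = true := by decide +kernel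

theorem Ts_img : allFold (fun i => (img (Ts i) 23 == 23) && (img (Ts i) 0 == 0) &&
    (img (Ts i) 1 == i + 1) && (img (Ts i) 2 == e (i + 1))) 22 = true := by decide +kernel

theorem count_C : sumFold (fun c => if PbC (cand4 (Ts (c / 960)) (c % 960)) = true then 1 else 0)
    (960 * 22) = 320 := by decide +kernel

theorem W_ok : allFold (fun q => tblInM24 (W q) && commOK (img (W q)) e &&
    (img (W q) 23 == q)) 24 = true := by decide +kernel

theorem cnt_q : sumFold (fun j => if qb (sextAt j) = true then 1 else 0) 1771 = 1 := by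
  decide +kernel

end Cfsg.Agent.Lib.Helper93_S5607a
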