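import Mathlib
import Cfsg.Agent.Lib.Helper93_S5607a
import Cfsg.Agent.Lib.Helper93_M24Cyc

/-!
The centraliser of the representative of the fixed-point-free involutions of `M24`.
-/

set_option autoImplicit false
open Cfsg
open scoped Pointwise
open Cfsg.Agent.Lib.Helper26_Golay Cfsg.Agent.Lib.Helper93_M24Obj

namespace Cfsg.Agent.Lib.Helper93_S5607a

/-- The representative. -/
noncomputable def ε : Equiv.Perm GolayPt := tblPerm Cfsg.Agent.Lib.Helper93_S5606a.E

theorem ε_spec : ε ∈ M24 ∧ Represents ε Cfsg.Agent.Lib.Helper93_S5606a.E :=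
  tblPerm_spec Cfsg.Agent.Lib.Helper93_S5606a.rep_in

theorem ε_rep : RepF ε e := repF_of_represents ε_spec.2

theorem ε_23 : ε (pt 23) = pt 0 := by
  rw [ε_rep.apply_pt 23 (by norm_num)]
  exact congrArg pt rep_img.1

theorem ε_1 : ε (pt 1) = pt 2 := by
  rw [ε_rep.apply_pt 1 (by norm_num)]
  exact congrArg pt rep_img.2

theorem ε_sq : ε ^ 2 = 1 := pow_of_sqId ε_rep rep_sq

theorem ε_inv : ε⁻¹ = ε := by
  rw [inv_eq_iff_mul_eq_one, ← pow_two]
  exact ε_sq

theorem comm_of_commOK {σ τ : Equiv.Perm GolayPt} {f g : ℕ → ℕ} (hf : RepF σ f)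
    (hg : RepF τ g) (h : commOK f g = true) : σ * τ = τ * σ := by
  unfold commOK at h
  rw [allFold_eq_true] at h
  apply (hf.mul hg).unique
  apply (hg.mul hf).congr
  intro i hi
  have := h i hi
  rw [beq_iff_eq] at this
  exact this.symm

/-- The centraliser elements fixing `∞`. -/
def AC : Set (Equiv.Perm GolayPt) := {n | n ∈ Cset ε ∧ n (pt 23) = pt 23}

theorem hT : ∀ i < 22, tblInM24 (Ts i) = true := (allFold_eq_true _ _).mp Ts_in

theorem Ts_img' {i : ℕ} (hi : i < 22) : img (Ts i) 23 = 23 ∧ img (Ts i) 0 = 0 ∧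
    img (Ts i) 1 = i + 1 ∧ img (Ts i) 2 = e (i + 1) := by
  have hc := (allFold_eq_true _ _).mp Ts_img i hi
  simp only [Bool.and_eq_true, beq_iff_eq] at hc
  exact ⟨hc.1.1.1, hc.1.1.2, hc.1.2, hc.2⟩

theorem hsig : ∀ i < 22, ∀ i' < 22, img (Ts i) 23 = img (Ts i') 23 →
    img (Ts i) 0 = img (Ts i') 0 → img (Ts i) 1 = img (Ts i') 1 →
    img (Ts i) 2 = img (Ts i') 2 → i = i' := by
  intro i hi i' hi' _ _ h1 _
  rw [(Ts_img' hi).2.2.1, (Ts_img' hi').2.2.1] at h1
  omega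

theorem hA1C : ∀ n ∈ AC, n ∈ M24 ∧ ∃ i < 22, n (pt 23) = pt (img (Ts i) 23) ∧
    n (pt 0) = pt (img (Ts i) 0) ∧ n (pt 1) = pt (img (Ts i) 1) ∧
    n (pt 2) = pt (img (Ts i) 2) := by
  rintro n ⟨⟨hn, hc⟩, h23⟩
  refine ⟨hn, ?_⟩
  have key : ∀ p, n (ε p) = ε (n p) := by
    intro p
    have := congrArg (fun σ : Equiv.Perm GolayPt => σ p) hc
    simpa [Equiv.Perm.mul_apply] using this
  have n0 : n (pt 0) = pt 0 := by rw [← ε_23, key, h23]
  have hy23 : idx (n (pt 1)) ≠ 23 := by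
    intro h
    have h1 : n (pt 1) = n (pt 23) := by rw [h23, ← h, pt_idx]
    exact absurd (pt_inj (by norm_num) (by norm_num) (n.injective h1)) (by norm_num)
  have hy0 : idx (n (pt 1)) ≠ 0 := by
    intro h
    have h1 : n (pt 1) = n (pt 0) := by rw [n0, ← h, pt_idx]
    exact absurd (pt_inj (by norm_num) (by norm_num) (n.injective h1)) (by norm_num)
  have hylt := idx_lt (n (pt 1))
  set y := idx (n (pt 1)) with hy
  have hi : y - 1 < 22 := by omega
  have hy1 : y - 1 + 1 = y := by omega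
  obtain ⟨c23, c0, c1, c2⟩ := Ts_img' hi
  rw [hy1] at c1 c2
  have n1 : n (pt 1) = pt y := (pt_idx _).symm
  refine ⟨y - 1, hi, ?_, ?_, ?_, ?_⟩
  · rw [h23, c23]
  · rw [n0, c0]
  · rw [n1, c1]
  · rw [← ε_1, key, n1, ε_rep.apply_pt y hylt, c2]

theorem hA2C : ∀ n ∈ M24, ∀ f, RepF n f → (n ∈ AC ↔ PbC f = true) := by
  intro n hn f hf
  unfold PbC
  rw [Bool.and_eq_true, beq_iff_eq]
  have h23iff : n (pt 23) = pt 23 ↔ f 23 = 23 := by
    constructor
    · intro h
      have := hf (pt 23)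
      rw [h, idx_pt 23 (by norm_num)] at this
      exact this.symm
    · intro h
      rw [hf.apply_pt 23 (by norm_num), h]
  constructor
  · rintro ⟨⟨-, hc⟩, h23⟩
    exact ⟨commOK_of_commute hf ε_rep hc, h23iff.mp h23⟩
  · rintro ⟨hc, h23⟩
    exact ⟨⟨hn, comm_of_commOK hf ε_rep hc⟩, h23iff.mpr h23⟩

theorem AC_ncard : AC.ncard = 320 := by
  rw [count4 Ts 22 hT hsig AC PbC hA1C hA2C]
  exact count_C

/-- The centraliser of the representative, as a subgroup of the permutation group. -/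
noncomputable def HC : Subgroup (Equiv.Perm GolayPt) :=
  M24 ⊓ Subgroup.centralizer (Subgroup.zpowers ε : Set (Equiv.Perm GolayPt))

theorem mem_HC_iff (n : Equiv.Perm GolayPt) : n ∈ HC ↔ n ∈ Cset ε := by
  unfold HC Cset
  rw [Subgroup.mem_inf, mem_centralizer_zpowers_iff]
  rfl

theorem exists_W (q : GolayPt) : ∃ h ∈ Cset ε, h (pt 23) = q := by
  have hc := (allFold_eq_true _ _).mp W_ok (idx q) (idx_lt q)
  rw [Bool.and_eq_true, Bool.and_eq_true, beq_iff_eq] at hc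
  obtain ⟨⟨hin, hcomm⟩, h23⟩ := hc
  have hs := tblPerm_spec hin
  refine ⟨tblPerm (W (idx q)), ⟨hs.1, comm_of_commOK (repF_of_represents hs.2) ε_rep hcomm⟩, ?_⟩
  rw [(repF_of_represents hs.2).apply_pt 23 (by norm_num), h23, pt_idx]

theorem Cset_ncard : (Cset ε).ncard = 7680 := by
  have h := card_eq_orbit_mul_stab HC (pt 23) Finset.univ
    (fun _ _ => Finset.mem_univ _)
    (fun q _ => by
      obtain ⟨h, hh, hq⟩ := exists_W q
      exact ⟨h, (mem_HC_iff h).mpr hh, hq⟩)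
  have hset : {n : Equiv.Perm GolayPt | n ∈ HC ∧ n (pt 23) = pt 23} = AC := by
    ext n
    simp only [Set.mem_ofPred_eq, mem_HC_iff]
    rfl
  have h24 : (Finset.univ : Finset GolayPt).card = 24 := by decide
  rw [hset, AC_ncard, h24] at h
  have hcard : Nat.card HC = (Cset ε).ncard := by
    rw [← Nat.card_coe_set_eq]
    apply Nat.card_congr
    exact Equiv.subtypeEquivRight (fun n => mem_HC_iff n)
  rw [← hcard, h]

theorem Cset_trans (p q : GolayPt) : ∃ c ∈ Cset ε, c p = q := by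
  obtain ⟨hp, hhp, hp23⟩ := exists_W p
  obtain ⟨hq, hhq, hq23⟩ := exists_W q
  rw [← mem_HC_iff] at hhp hhq
  refine ⟨hq * hp⁻¹, (mem_HC_iff _).mp (HC.mul_mem hhq (HC.inv_mem hhp)), ?_⟩
  rw [Equiv.Perm.mul_apply, ← hp23]
  have h0 : hp⁻¹ (hp (pt 23)) = pt 23 := by simp
  rw [h0]
  exact hq23

theorem exists_sextet : ∃ S ∈ sextets, ε • S = S ∧ ∀ c ∈ Cset ε, c • S = S := by
  have hiff : ∀ j < 1771, (∀ t ∈ (objCoding 6).decode (sextAt j), ε • t = t) ↔
      qb (sextAt j) = true := by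
    intro j _
    unfold qb
    rw [List.all_eq_true]
    change (∀ t ∈ Helper93_M24Obj.setOf 6 (sextAt j), ε • t = t) ↔ _
    constructor
    · intro h m hm
      rw [beq_iff_eq]
      have := congrArg enc (h _ (dec_mem_setOf hm))
      rwa [enc_smul ε_spec.2, enc_dec m (lt_of_mem_mems hm)] at this
    · intro h t ht
      rw [mem_setOf] at ht
      have := h _ ht
      rw [beq_iff_eq] at this
      apply enc_injective
      rw [enc_smul ε_spec.2, this]
  have hcnt := sextEnum.ncard_filter (fun S => ∀ t ∈ S, ε • t = t) qb hiff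
  rw [cnt_q] at hcnt
  obtain ⟨S₀, hS₀⟩ := Set.ncard_eq_one.mp hcnt
  have hmem : S₀ ∈ {X | X ∈ sextets ∧ ∀ t ∈ X, ε • t = t} := by
    rw [hS₀]; exact Set.mem_singleton _
  refine ⟨S₀, hmem.1, ?_, ?_⟩
  · ext t
    rw [Finset.mem_smul_finset]
    constructor
    · rintro ⟨u, hu, rfl⟩
      rw [hmem.2 u hu]; exact hu
    · intro ht
      exact ⟨t, ht, hmem.2 t ht⟩
  · rintro c ⟨hc, hcomm⟩
    have hmem2 : c • S₀ ∈ {X | X ∈ sextets ∧ ∀ t ∈ X, ε • t = t} := by
      refine ⟨smul_mem_sextets hc hmem.1, ?_⟩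
      intro t ht
      obtain ⟨u, hu, rfl⟩ := Finset.mem_smul_finset.mp ht
      rw [← mul_smul, ← hcomm, mul_smul, hmem.2 u hu]
    rw [hS₀] at hmem2
    exact hmem2

end Cfsg.Agent.Lib.Helper93_S5607a
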