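import Mathlib
import Cfsg.Agent.Lib.Helper93_M24Sym

/-!
The joint stabiliser of two octads meeting in two points acts faithfully on the six points of the
first octad outside the second.
-/

set_option autoImplicit false
open Cfsg
open scoped Pointwise
open Cfsg.Agent.Lib.Helper26_Golay Cfsg.Agent.Lib.Helper93_M24Obj Cfsg.Agent.Lib.Helper93_M24Pairs

namespace Cfsg.Agent.Lib.Helper93_S5614a

/-- The octad `{∞, 0, 1, 2, 3, 5, 14, 17}` (mask). -/
def pA : ℕ := octAt 36

/-- An octad meeting the previous one in `{14, 17}` (mask). -/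
def pB : ℕ := octAt 78

theorem pA_lt : pA < 2 ^ 24 := octAt_lt 36

theorem pB_lt : pB < 2 ^ 24 := octAt_lt 78

theorem pA_pB : pop (pA &&& pB) = 2 := by decide +kernel

theorem base_mem : allFold (fun i => !(i == 23 || i == 0 || i == 1 || i == 2 || i == 3 || i == 5) ||
    (pA.testBit i && !(pB.testBit i))) 24 = true := by decide +kernel

theorem kernel_check : allFold (fun j => !((img (f5At j) 5 == 5) && (permMask (f5At j) pB == pB)) ||
    (fixCount (img (f5At j)) == 24)) 48 = true := by decide +kernel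

theorem pt_mem_sdiff {i : ℕ} (hi : i = 23 ∨ i = 0 ∨ i = 1 ∨ i = 2 ∨ i = 3 ∨ i = 5) :
    pt i ∈ dec pA \ dec pB := by
  have hi24 : i < 24 := by omega
  have h := (allFold_eq_true _ _).mp base_mem i hi24
  have h1 : (i == 23 || i == 0 || i == 1 || i == 2 || i == 3 || i == 5) = true := by
    rcases hi with rfl | rfl | rfl | rfl | rfl | rfl <;> rfl
  rw [h1] at h
  simp only [Bool.not_true, Bool.false_or, Bool.and_eq_true, Bool.not_eq_true'] at h
  rw [Finset.mem_sdiff, mem_dec, mem_dec, idx_pt i hi24]
  exact ⟨h.1, by rw [h.2]; simp⟩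

theorem eq_one_of_fixCount {σ : Equiv.Perm GolayPt} {f : ℕ → ℕ} (h : RepF σ f)
    (h24 : fixCount f = 24) : σ = 1 := by
  have hc := card_fixed_eq h
  rw [h24] at hc
  have huniv : (Finset.univ.filter fun p => σ p = p) = Finset.univ := by
    apply Finset.eq_univ_of_card
    rw [hc]
    decide
  refine Equiv.ext fun p => ?_
  have : p ∈ (Finset.univ.filter fun p => σ p = p) := by rw [huniv]; exact Finset.mem_univ _
  exact (Finset.mem_filter.mp this).2

/-- Faithfulness of the action on the six points. -/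
theorem faithful {o o' : Finset GolayPt} (ho : o ∈ octads) (ho' : o' ∈ octads)
    (h₂ : (o ∩ o').card = 2) {g : Equiv.Perm GolayPt} (hg : g ∈ M24)
    (hgo' : g • o' = o') (hfix : ∀ p ∈ o \ o', g p = p) : g = 1 := by
  have hA : dec pA ∈ octads := octEnum.1 36 (by norm_num)
  have hB : dec pB ∈ octads := octEnum.1 78 (by norm_num)
  have hmem : (dec pA, dec pB) ∈ MulAction.orbit M24 (o, o') := by
    rw [orbit_pair ho ho', Finset.mem_coe, mem_pairsK]
    refine ⟨hA, hB, ?_⟩
    show (dec pA ∩ dec pB).card = (o ∩ o').card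
    rw [h₂, card_inter_eq_pop, enc_dec pA pA_lt, enc_dec pB pB_lt]
    exact pA_pB
  obtain ⟨⟨k, hk⟩, hk2⟩ := hmem
  have hko : k • o = dec pA := congrArg Prod.fst hk2
  have hko' : k • o' = dec pB := congrArg Prod.snd hk2
  have hg' : k * g * k⁻¹ ∈ M24 := M24.mul_mem (M24.mul_mem hk hg) (M24.inv_mem hk)
  have hfix' : ∀ p ∈ dec pA \ dec pB, (k * g * k⁻¹) p = p := by
    intro p hp
    rw [Finset.mem_sdiff, ← hko, ← hko', ← Finset.inv_smul_mem_iff, ← Finset.inv_smul_mem_iff,
      ← Finset.mem_sdiff] at hp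
    have := hfix _ hp
    simp only [Equiv.Perm.mul_apply]
    rw [Equiv.Perm.smul_def] at this
    rw [this]
    simp
  have hB' : (k * g * k⁻¹) • dec pB = dec pB := by
    rw [← hko', mul_smul, mul_smul, inv_smul_smul, hgo']
  obtain ⟨j, hj, hrep⟩ := F5_enum hg' (by
    intro p hp
    have hcases := base_idx_cases p hp
    rw [← pt_idx p]
    apply hfix'
    apply pt_mem_sdiff
    rcases hcases with e | e | e | e | e <;> simp [e])
  have hc := (allFold_eq_true _ _).mp kernel_check j hj
  have h5 : img (f5At j) 5 = 5 := by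
    have h1 := hfix' (pt 5) (pt_mem_sdiff (by simp))
    rw [(repF_of_represents hrep).apply_pt 5 (by norm_num)] at h1
    have := congrArg idx h1
    rwa [idx_pt _ ((repF_of_represents hrep).lt 5 (by norm_num)), idx_pt 5 (by norm_num)] at this
  have hm : permMask (f5At j) pB = pB := by
    have := congrArg enc hB'
    rwa [enc_smul hrep, enc_dec pB pB_lt] at this
  rw [h5, hm] at hc
  simp only [beq_self_eq_true, Bool.and_self, Bool.not_true, Bool.false_or, beq_iff_eq] at hc
  have h1 := eq_one_of_fixCount (repF_of_represents hrep) hc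
  have : g = k⁻¹ * (k * g * k⁻¹) * k := by group
  rw [this, h1]
  group

end Cfsg.Agent.Lib.Helper93_S5614a
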