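import Mathlib
import Cfsg.Agent.Lib.Helper97_SpTensBasic
import Cfsg.Agent.Lib.Helper32_SP3_SL2W

set_option autoImplicit false
set_option linter.unusedSectionVars false
set_option linter.unusedVariables false

/-!
# SP3, package PAIR (architect helper97)

`pair_contra` : the statement of PAIR, verbatim.
`pair_contra_aux` : the statement of PAIR with the `SL_2`-word package SL2W (at `W = V`) as a hypothesis.
By-products: `cN_mem`, `cN_eq_zero_of_mem`, `cN_cN`, `tf_cN_skew`, `exists_cN_eq`, `hasMap_cN`, `hasMap_conj_symm`.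
-/

namespace Cfsg.Agent.Lib.Helper93_SP3_PAIR

open Matrix Module
open Cfsg.Agent.Lib.Helper98_ExtDefs Cfsg.Agent.Lib.Helper97_TensDefs
  Cfsg.Agent.Lib.Helper97_SpTensDefs Cfsg.Agent.Lib.Helper97_SpTensBasic

variable {F : Type*} [Field F] [Fintype F] {m : ℕ}

local notation "V" => Matrix (Fin m ⊕ Fin m) (Fin 3) F

theorem cN_mem (g : V ≃ₗ[F] V) (x : Fin m ⊕ Fin m → F) (X : V) :
    cN m g x X ∈ (bfib x).map g.toLinearMap :=
  ⟨nA m x (g.symm X), nA_mem_bfib x _, rfl⟩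

theorem cN_eq_zero_of_mem (g : V ≃ₗ[F] V) (x : Fin m ⊕ Fin m → F) {X : V}
    (hX : X ∈ (bfib x).map g.toLinearMap) : cN m g x X = 0 := by
  obtain ⟨Y, hY, rfl⟩ := hX
  rw [cN_apply]
  have h1 : g.symm (g.toLinearMap Y) = Y := g.symm_apply_apply Y
  rw [h1, nA_eq_zero_of_ctr (ctr_eq_zero_of_mem_bfib hY), map_zero]

theorem symm_cN (g : V ≃ₗ[F] V) (x : Fin m ⊕ Fin m → F) (Z : V) :
    g.symm (cN m g x Z) = nA m x (g.symm Z) := by
  rw [cN_apply, g.symm_apply_apply]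

theorem cN_apply_apply (g : V ≃ₗ[F] V) (x : Fin m ⊕ Fin m → F) (Z : V) :
    cN m g x (g Z) = g (nA m x Z) := by
  rw [cN_apply, g.symm_apply_apply]

theorem cN_cN (g : V ≃ₗ[F] V) (x : Fin m ⊕ Fin m → F) (X : V) :
    cN m g x (cN m g x X) = 0 :=
  cN_eq_zero_of_mem g x (cN_mem g x X)

theorem tf_cN_skew (M : Subgroup (V ≃ₗ[F] V)) (hSp : MSp m M) (g : V ≃ₗ[F] V) (hg : g ∈ M)
    (x : Fin m ⊕ Fin m → F) (X Y : V) :
    tf m (cN m g x X) Y = - tf m X (cN m g x Y) := by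
  have h1 : tf m (cN m g x X) Y = tf m (nA m x (g.symm X)) (g.symm Y) := by
    rw [cN_apply]
    have := hSp g hg (nA m x (g.symm X)) (g.symm Y)
    rw [g.apply_symm_apply] at this
    exact this
  have h2 : tf m X (cN m g x Y) = tf m (g.symm X) (nA m x (g.symm Y)) := by
    rw [cN_apply]
    have := hSp g hg (g.symm X) (nA m x (g.symm Y))
    rw [g.apply_symm_apply] at this
    exact this
  have h3 := tf_nA_skew x (g.symm X) (g.symm Y)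
  rw [h1, h2]
  linear_combination h3

theorem exists_nA_eq (x : Fin m ⊕ Fin m → F) (hx : x ≠ 0) (b : Fin 3 → F) :
    ∃ Z : V, nA m x Z = vecMulVec x b := by
  obtain ⟨w, hw⟩ := Cfsg.Agent.Lib.Helper13_SympTrans.exists_sympForm_ne_zero m hx
  have hw' : Cfsg.sympForm m F w x ≠ 0 := by
    rw [Cfsg.Agent.Lib.Helper13_Symp.sympForm_swap]
    exact neg_ne_zero.mpr hw
  refine ⟨vecMulVec ((Cfsg.sympForm m F w x)⁻¹ • w) b, ?_⟩
  rw [nA_vecMulVec, Cfsg.Agent.Lib.Helper13_Symp.sympForm_smul_left, inv_mul_cancel₀ hw', one_smul]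

theorem exists_cN_eq (g : V ≃ₗ[F] V) (x : Fin m ⊕ Fin m → F) (hx : x ≠ 0) {Y : V}
    (hY : Y ∈ (bfib x).map g.toLinearMap) : ∃ Z : V, cN m g x Z = Y := by
  obtain ⟨Y', ⟨b, rfl⟩, rfl⟩ := hY
  obtain ⟨Z', hZ'⟩ := exists_nA_eq x hx b
  refine ⟨g Z', ?_⟩
  rw [cN_apply, g.symm_apply_apply, hZ']
  rfl

theorem hasMap_cN (M : Subgroup (V ≃ₗ[F] V)) (hK : KronSp m M) (g : V ≃ₗ[F] V) (hg : g ∈ M)
    (x : Fin m ⊕ Fin m → F) (c : F) : HasMap M (fun X => X + c • cN m g x X) := by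
  obtain ⟨r, hr, hrx⟩ := hasMap_root hK x c
  refine ⟨g * r * g⁻¹, M.mul_mem (M.mul_mem hg hr) (M.inv_mem hg), fun X => ?_⟩
  have h1 : (g * r * g⁻¹) X = g (r (g.symm X)) := rfl
  rw [h1, hrx]
  show g (g.symm X + c • nA m x (g.symm X)) = X + c • cN m g x X
  rw [map_add, map_smul, cN_apply, g.apply_symm_apply]

/-- `g⁻¹ s g ∈ M` -/
theorem hasMap_conj_symm (M : Subgroup (V ≃ₗ[F] V)) (g : V ≃ₗ[F] V) (hg : g ∈ M) {φ : V → V}
    (h : HasMap M φ) : HasMap M (fun X => g.symm (φ (g X))) := by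
  obtain ⟨s, hs, hsx⟩ := h
  refine ⟨g⁻¹ * s * g, M.mul_mem (M.mul_mem (M.inv_mem hg) hs) hg, fun X => ?_⟩
  have h1 : (g⁻¹ * s * g) X = g.symm (s (g X)) := rfl
  rw [h1, hsx]

/-- **PAIR**, with SL2W (at `W = V`) as a hypothesis. -/
theorem pair_contra_aux (h2 : (2 : F) ≠ 0) (hq : 5 ≤ Fintype.card F) (M : Subgroup (V ≃ₗ[F] V))
    (hsl2 : ∀ (E E' : V →ₗ[F] V), (∀ w, E (E w) = 0) → (∀ w, E' (E' w) = 0) →
      ∀ τ : F, τ ≠ 0 → (∀ w, E (E' (E (E' w))) = τ • E (E' w)) →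
      (∀ w, E' (E (E' (E w))) = τ • E' (E w)) →
      (∀ c : F, HasMap M (fun w => w + c • E w)) →
      (∀ c : F, HasMap M (fun w => w + c • E' w)) →
      ∀ μ : F, μ ≠ 0 → μ ^ 2 ≠ 1 →
      ∃ c : F, c ≠ 0 ∧ HasMap M (fun w => w + c • E (E' (E w))))
    (hSp : MSp m M) (hK : KronSp m M)
    (hall : ∀ x : Fin m ⊕ Fin m → F, x ≠ 0 → RadStd m M x)
    (g₁ g₂ : V ≃ₗ[F] V) (hg₁ : g₁ ∈ M) (hg₂ : g₂ ∈ M)
    (x₁ x₂ : Fin m ⊕ Fin m → F) (hx₁ : x₁ ≠ 0) (hx₂ : x₂ ≠ 0)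
    (hne : (bfib x₁).map g₁.toLinearMap ≠ (bfib x₂).map g₂.toLinearMap)
    (hmeet : (bfib x₁).map g₁.toLinearMap ⊓ (bfib x₂).map g₂.toLinearMap ≠ ⊥)
    (hb : ∀ X ∈ (bfib x₂).map g₂.toLinearMap, cN m g₁ x₁ X ∈ (bfib x₂).map g₂.toLinearMap →
      X ∈ (bfib x₁).map g₁.toLinearMap)
    (hb' : ∀ X ∈ (bfib x₁).map g₁.toLinearMap, cN m g₂ x₂ X ∈ (bfib x₁).map g₁.toLinearMap →
      X ∈ (bfib x₂).map g₂.toLinearMap)
    (τ : F) (hτ : ∀ X ∈ (bfib x₂).map g₂.toLinearMap,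
      cN m g₁ x₁ (cN m g₂ x₂ (cN m g₁ x₁ X)) = τ • cN m g₁ x₁ X) : False := by
  classical
  set E := cN m g₁ x₁ with hE
  set E' := cN m g₂ x₂ with hE'
  set t₁ := (bfib x₁).map g₁.toLinearMap with ht₁
  set t₂ := (bfib x₂).map g₂.toLinearMap with ht₂
  have hEE : ∀ w, E (E w) = 0 := fun w => cN_cN g₁ x₁ w
  have hE'E' : ∀ w, E' (E' w) = 0 := fun w => cN_cN g₂ x₂ w
  have hEt : ∀ X, E X ∈ t₁ := fun X => cN_mem g₁ x₁ X
  have hE't : ∀ X, E' X ∈ t₂ := fun X => cN_mem g₂ x₂ X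
  have hsk : ∀ X Y, tf m (E X) Y = - tf m X (E Y) := tf_cN_skew M hSp g₁ hg₁ x₁
  have hsk' : ∀ X Y, tf m (E' X) Y = - tf m X (E' Y) := tf_cN_skew M hSp g₂ hg₂ x₂
  -- `t₂ ≤ t₁` is impossible
  have hnle : ¬ t₂ ≤ t₁ := by
    intro hle
    apply hne
    symm
    apply Submodule.eq_of_le_of_finrank_eq hle
    rw [ht₁, ht₂, finrank_map_bfib g₁ hx₁, finrank_map_bfib g₂ hx₂]
  -- (1)
  have h1 : ∀ w, E (E' (E (E' w))) = τ • E (E' w) := fun w => hτ (E' w) (hE't w)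
  have h1' : ∀ w, E' (E (E' (E w))) = τ • E' (E w) := by
    intro w
    rw [← sub_eq_zero]
    apply eq_zero_of_tf
    intro Y
    rw [tf_sub_left, tf_smul_left, hsk', hsk, hsk', hsk, hsk', hsk, h1, tf_smul_right]
    ring
  -- (2)
  have hτ0 : τ ≠ 0 := by
    intro h0
    apply hnle
    intro X hX
    have hz : E (E' (E X)) = 0 := by rw [hτ X hX, h0, zero_smul]
    have hW : E' (E X) ∈ t₁ := hb _ (hE't _) (by rw [hz]; exact t₂.zero_mem)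
    have hY : E X ∈ t₂ := hb' _ (hEt X) hW
    exact hb X hX hY
  -- (3)
  obtain ⟨μ, -, hμ⟩ : ∃ μ : F, μ ∈ (Finset.univ : Finset F) ∧ μ ∉ ({0, 1, -1} : Finset F) := by
    apply Finset.exists_mem_notMem_of_card_lt_card
    calc ({0, 1, -1} : Finset F).card ≤ 3 := Finset.card_le_three
      _ < Fintype.card F := by omega
      _ = (Finset.univ : Finset F).card := Finset.card_univ.symm
  simp only [Finset.mem_insert, Finset.mem_singleton, not_or] at hμ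
  have hμ2 : μ ^ 2 ≠ 1 := by
    intro h
    have : (μ - 1) * (μ + 1) = 0 := by linear_combination h
    rcases mul_eq_zero.mp this with h | h
    · exact hμ.2.1 (by linear_combination h)
    · exact hμ.2.2 (by linear_combination h)
  obtain ⟨c, hc, hcM⟩ := hsl2 E E' hEE hE'E' τ hτ0 h1 h1'
    (fun c => hasMap_cN M hK g₁ hg₁ x₁ c) (fun c => hasMap_cN M hK g₂ hg₂ x₂ c) μ hμ.1 hμ2
  -- (4)
  let N : V →ₗ[F] V := c • (nA m x₁ ∘ₗ g₁.symm.toLinearMap ∘ₗ E' ∘ₗ g₁.toLinearMap ∘ₗ nA m x₁)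
  have hNapp : ∀ X, N X = c • nA m x₁ (g₁.symm (E' (g₁ (nA m x₁ X)))) := fun X => rfl
  have hNZ : N ∈ ZRad m M x₁ := by
    refine ⟨fun X => ?_, fun X hX => ?_, ?_⟩
    · rw [hNapp]
      exact (bfib x₁).smul_mem c (nA_mem_bfib x₁ _)
    · rw [hNapp, nA_eq_zero_of_ctr hX, map_zero, map_zero, map_zero, map_zero, smul_zero]
    · have := hasMap_conj_symm M g₁ hg₁ hcM
      refine Cfsg.Agent.Lib.Helper97_TensBasic.hasMap_congr (fun X => ?_) this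
      show g₁.symm (g₁ X + c • cN m g₁ x₁ (E' (cN m g₁ x₁ (g₁ X)))) = X + N X
      rw [map_add, g₁.symm_apply_apply, map_smul, hNapp, symm_cN, cN_apply_apply]
  obtain ⟨c₁, hc₁⟩ := hall x₁ hx₁ N hNZ
  have hEEE : ∀ X, c • E (E' (E X)) = c₁ • E X := by
    intro X
    have := congrArg (fun f : V →ₗ[F] V => g₁ (f (g₁.symm X))) hc₁
    simp only [LinearMap.smul_apply] at this
    rw [hNapp, map_smul, map_smul] at this
    have e1 : ∀ Z, cN m g₁ x₁ Z = g₁ (nA m x₁ (g₁.symm Z)) := fun Z => cN_apply m g₁ x₁ Z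
    show c • cN m g₁ x₁ (E' (cN m g₁ x₁ X)) = c₁ • cN m g₁ x₁ X
    rw [e1 X, e1 (E' _)]
    exact this
  have hc₁0 : c₁ ≠ 0 := by
    intro h0
    apply hnle
    intro X hX
    have hz : E X = 0 := by
      have := hEEE X
      rw [h0, zero_smul, hτ X hX, smul_smul] at this
      rcases smul_eq_zero.mp this with h | h
      · exact absurd h (mul_ne_zero hc hτ0)
      · exact h
    exact hb X hX (by rw [hz]; exact t₂.zero_mem)
  -- (5)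
  obtain ⟨Y, hYmem, hY0⟩ := (Submodule.ne_bot_iff _).mp hmeet
  obtain ⟨hY1, hY2⟩ := Submodule.mem_inf.mp hYmem
  obtain ⟨Z, hZ⟩ := exists_cN_eq g₁ x₁ hx₁ hY1
  have hE'Y : E' Y = 0 := cN_eq_zero_of_mem g₂ x₂ hY2
  have := hEEE Z
  rw [← hE] at hZ
  rw [hZ, hE'Y, map_zero, smul_zero] at this
  rcases smul_eq_zero.mp this.symm with h | h
  · exact hc₁0 h
  · exact hY0 h

/-- **PAIR** (verbatim). -/
theorem pair_contra (h2 : (2 : F) ≠ 0) (hq : 5 ≤ Fintype.card F) (M : Subgroup (V ≃ₗ[F] V))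
    (hSp : MSp m M) (hK : KronSp m M)
    (hall : ∀ x : Fin m ⊕ Fin m → F, x ≠ 0 → RadStd m M x)
    (g₁ g₂ : V ≃ₗ[F] V) (hg₁ : g₁ ∈ M) (hg₂ : g₂ ∈ M)
    (x₁ x₂ : Fin m ⊕ Fin m → F) (hx₁ : x₁ ≠ 0) (hx₂ : x₂ ≠ 0)
    (hne : (bfib x₁).map g₁.toLinearMap ≠ (bfib x₂).map g₂.toLinearMap)
    (hmeet : (bfib x₁).map g₁.toLinearMap ⊓ (bfib x₂).map g₂.toLinearMap ≠ ⊥)
    (hb : ∀ X ∈ (bfib x₂).map g₂.toLinearMap, cN m g₁ x₁ X ∈ (bfib x₂).map g₂.toLinearMap →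
      X ∈ (bfib x₁).map g₁.toLinearMap)
    (hb' : ∀ X ∈ (bfib x₁).map g₁.toLinearMap, cN m g₂ x₂ X ∈ (bfib x₁).map g₁.toLinearMap →
      X ∈ (bfib x₂).map g₂.toLinearMap)
    (τ : F) (hτ : ∀ X ∈ (bfib x₂).map g₂.toLinearMap,
      cN m g₁ x₁ (cN m g₂ x₂ (cN m g₁ x₁ X)) = τ • cN m g₁ x₁ X) : False :=
  pair_contra_aux h2 hq M
    (fun E E' hE hE' τ hτ h1 h2 hEM hEM' μ hμ hμ2 =>
      Cfsg.Agent.Lib.Helper32_SP3_SL2W.sl2_word M E E' hE hE' τ hτ h1 h2 hEM hEM' μ hμ hμ2)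
    hSp hK hall g₁ g₂ hg₁ hg₂ x₁ x₂ hx₁ hx₂ hne hmeet hb hb' τ hτ

end Cfsg.Agent.Lib.Helper93_SP3_PAIR
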