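import Mathlib
import Cfsg.Prelude.Def_Classical
import Cfsg.Agent.Lib.Helper5_HermCount
import Cfsg.Agent.Lib.Helper44_HermOrtho
import Cfsg.Agent.Lib.Helper94_HermBridge
import Cfsg.Agent.Lib.Helper94_HermOrth
import Cfsg.Agent.Lib.Helper1_SUND_PU4
import Cfsg.Agent.Lib.Helper99_SubspaceCount
import Cfsg.Agent.Lib.Helper99_SUTIDefs

set_option autoImplicit false
set_option linter.unusedSectionVars false
set_option linter.unusedSimpArgs false

/-!
Counting totally isotropic subspaces of a nondegenerate hermitian space over a finite field by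
totally isotropic frames (packages TC and TP of S5953, for helper99).
-/

namespace Cfsg.Agent.Lib.Helper93_SUTI_TC

open Module
open Cfsg.Agent.Lib.Helper94_Herm Cfsg.Agent.Lib.Helper94_HermBridge
  Cfsg.Agent.Lib.Helper94_HermOrth Cfsg.Agent.Lib.Helper44_HermOrtho
  Cfsg.Agent.Lib.Helper99_SubspaceCount Cfsg.Agent.Lib.Helper99_SUTIDefs
  Cfsg.Agent.Lib.Helper1_SUND_PU4

section abstract

variable {F V : Type*} [Field F] [AddCommGroup V] [Module F V] {σ : F →+* F}
variable (B : V →ₗ[F] V →ₛₗ[σ] F)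

/-- totally isotropic frames. -/
abbrev TIFrame (m : ℕ) :=
  {s : Fin m → V // LinearIndependent F s ∧ ∀ a b, B (s a) (s b) = 0}

theorem mem_orthS_span_iff {m : ℕ} (s : Fin m → V) (x : V) :
    x ∈ orthS B (Submodule.span F (Set.range s)) ↔ ∀ a, B (s a) x = 0 := by
  rw [mem_orthS]
  constructor
  · intro h a
    exact h _ (Submodule.subset_span ⟨a, rfl⟩)
  · intro h n hn
    induction hn using Submodule.span_induction with
    | mem y hy =>
      obtain ⟨a, rfl⟩ := hy
      exact h a
    | zero => simp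
    | add y z _ _ hy hz => rw [map_add, LinearMap.add_apply, hy, hz, add_zero]
    | smul c y _ hy => rw [map_smul, LinearMap.smul_apply, hy, smul_zero]

theorem span_le_orthS {m : ℕ} (s : Fin m → V) (h : ∀ a b, B (s a) (s b) = 0) :
    Submodule.span F (Set.range s) ≤ orthS B (Submodule.span F (Set.range s)) := by
  rw [Submodule.span_le]
  rintro _ ⟨b, rfl⟩
  rw [SetLike.mem_coe, mem_orthS_span_iff]
  intro a
  exact h a b

/-- extending a totally isotropic frame by one vector. -/
def equivTI (hB : IsHerm B) (m : ℕ) :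
    TIFrame B (m + 1) ≃ Σ s : TIFrame B m,
      {x : V // x ∈ orthS B (Submodule.span F (Set.range s.1)) ∧ B x x = 0 ∧
        x ∉ Submodule.span F (Set.range s.1)} where
  toFun s := ⟨⟨Fin.tail s.1, (linearIndependent_finSucc.mp s.2.1).1,
      fun a b => s.2.2 a.succ b.succ⟩,
    ⟨s.1 0, (mem_orthS_span_iff B _ _).2 (fun a => s.2.2 a.succ 0), s.2.2 0 0,
      (linearIndependent_finSucc.mp s.2.1).2⟩⟩
  invFun s := ⟨Fin.cons s.2.1 s.1.1, linearIndependent_finCons.mpr ⟨s.1.2.1, s.2.2.2.2⟩, by
    have hx := (mem_orthS_span_iff B _ _).1 s.2.2.1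
    intro a b
    refine Fin.cases ?_ (fun a' => ?_) a <;> refine Fin.cases ?_ (fun b' => ?_) b
    · simp only [Fin.cons_zero]; exact s.2.2.2.1
    · simp only [Fin.cons_zero, Fin.cons_succ]; exact herm_eq_zero hB (hx b')
    · simp only [Fin.cons_zero, Fin.cons_succ]; exact hx a'
    · simp only [Fin.cons_succ]; exact s.1.2.2 a' b'⟩
  left_inv s := by
    apply Subtype.ext
    simp only [Fin.cons_self_tail]
  right_inv := fun ⟨s, x⟩ => by
    simp only [Fin.cons_zero, Subtype.coe_eta, Sigma.mk.inj_iff, Fin.tail_cons]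
    exact ⟨trivial, heq_of_eq (Subtype.ext rfl)⟩

/-- the number of nonzero isotropic vectors of a nondegenerate hermitian `k`-space over the field
with `q ^ 2` elements. -/
def isoCount (q k : ℕ) : ℕ :=
  if Even k then (q ^ k - 1) * (q ^ (k - 1) + 1) else (q ^ k + 1) * (q ^ (k - 1) - 1)

section counting

variable [Fintype F] [Finite V] {q : ℕ}

/-- the number of vectors of a given norm in a nondegenerate subspace. -/
theorem card_norm_eq (hF : Fintype.card F = q ^ 2) (hσq : ∀ x, σ x = x ^ q) (hσ : Invol σ)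
    (hB : IsHerm B) {N : Submodule F V} (hN : NondegOn B N) (c : F) :
    Nat.card {x : V // x ∈ N ∧ B x x = c} =
      Nat.card {v : Fin (finrank F N) → F // Cfsg.hermForm (finrank F N) F q v v = c} := by
  classical
  have : FiniteDimensional F V := inferInstance
  obtain ⟨w, hwN, hw⟩ := exists_orthonormal hσ hB (finrank F N) N hN rfl
  have hwON : IsON B w := hw
  obtain ⟨-, hfr⟩ := nondeg_perp B hB (finrank F N) N hN w hwON hwN
  have hbot : N ⊓ perp B w = ⊥ := by
    apply Submodule.finrank_eq_zero.mp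
    omega
  set φ : (Fin (finrank F N) → F) → V := fun c => ∑ i, c i • w i with hφ
  have hφN : ∀ c, φ c ∈ N := fun c => Submodule.sum_mem _ (fun i _ => N.smul_mem _ (hwN i))
  have hcoef : ∀ c j, B (φ c) (w j) = c j := by
    intro c j
    simp only [hφ, map_sum, map_smul, LinearMap.sum_apply, LinearMap.smul_apply, hw, smul_eq_mul,
      mul_ite, mul_one, mul_zero, Finset.sum_ite_eq', Finset.sum_ite_eq, Finset.mem_univ, if_true]
  have hφB : ∀ c d, B (φ c) (φ d) = Cfsg.hermForm (finrank F N) F q c d := by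
    intro c d
    have h1 : B (φ c) (φ d) = ∑ j, σ (d j) * B (φ c) (w j) := by
      conv_lhs => rw [show φ d = ∑ j, d j • w j from rfl]
      rw [map_sum]
      refine Finset.sum_congr rfl fun j _ => ?_
      rw [map_smulₛₗ, smul_eq_mul]
    rw [h1]
    unfold Cfsg.hermForm
    refine Finset.sum_congr rfl fun j _ => ?_
    rw [hcoef, hσq, mul_comm]
  have hrep : ∀ x ∈ N, φ (fun i => B x (w i)) = x := by
    intro x hx
    have h1 : x - φ (fun i => B x (w i)) ∈ N ⊓ perp B w := by
      refine Submodule.mem_inf.mpr ⟨N.sub_mem hx (hφN _), ?_⟩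
      rw [mem_perp]
      intro a
      rw [map_sub, LinearMap.sub_apply, hcoef, sub_self]
    rw [hbot, Submodule.mem_bot, sub_eq_zero] at h1
    exact h1.symm
  let e : {v : Fin (finrank F N) → F // Cfsg.hermForm (finrank F N) F q v v = c} ≃
      {x : V // x ∈ N ∧ B x x = c} :=
    { toFun := fun v => ⟨φ v.1, hφN v.1, by rw [hφB]; exact v.2⟩
      invFun := fun x => ⟨fun i => B x.1 (w i), by
        rw [← hφB, hrep x.1 x.2.1]; exact x.2.2⟩
      left_inv := fun v => by
        apply Subtype.ext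
        funext j
        exact hcoef v.1 j
      right_inv := fun x => by
        apply Subtype.ext
        exact hrep x.1 x.2.1 }
  exact (Nat.card_congr e).symm

/-- the number of nonzero isotropic vectors of a nondegenerate subspace. -/
theorem card_iso (hF : Fintype.card F = q ^ 2) (hσq : ∀ x, σ x = x ^ q) (hσ : Invol σ)
    (hB : IsHerm B) {N : Submodule F V} (hN : NondegOn B N) :
    Nat.card {x : V // x ∈ N ∧ B x x = 0 ∧ x ≠ 0} = isoCount q (finrank F N) := by
  classical
  have h1 := card_norm_eq B hF hσq hσ hB hN 0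
  rw [Cfsg.Agent.Lib.Helper5_HermCount.card_norm_zero hF] at h1
  have h2 : Nat.card {x : V // x ∈ N ∧ B x x = 0} =
      Nat.card {x : V // x ∈ N ∧ B x x = 0 ∧ x ≠ 0} + 1 := by
    have e1 : Nat.card {x : V // x ∈ N ∧ B x x = 0} = ({x : V | x ∈ N ∧ B x x = 0} : Set V).ncard := by
      rw [← Nat.card_coe_set_eq]; rfl
    have e2 : Nat.card {x : V // x ∈ N ∧ B x x = 0 ∧ x ≠ 0} =
        (({x : V | x ∈ N ∧ B x x = 0} : Set V) \ {0}).ncard := by
      rw [← Nat.card_coe_set_eq]
      apply Nat.card_congr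
      refine Equiv.subtypeEquivRight ?_
      intro x
      simp only [Set.mem_sdiff, Set.mem_ofPred_eq, Set.mem_singleton_iff, and_assoc]
    have h0 : (0 : V) ∈ ({x : V | x ∈ N ∧ B x x = 0} : Set V) := by
      refine ⟨N.zero_mem, ?_⟩
      simp
    rw [e1, e2, Set.ncard_sdiff_singleton_add_one h0 (Set.toFinite _)]
  unfold isoCount
  omega

/-- the number of isotropic vectors orthogonal to a totally isotropic frame and outside its
span. -/
theorem card_fibre (hF : Fintype.card F = q ^ 2) (hσq : ∀ x, σ x = x ^ q) (hσ : Invol σ)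
    (hB : IsHerm B) (hV : NondegOn B ⊤) {m : ℕ} (s : TIFrame B m) :
    Nat.card {x : V // x ∈ orthS B (Submodule.span F (Set.range s.1)) ∧ B x x = 0 ∧
        x ∉ Submodule.span F (Set.range s.1)} =
      (q ^ 2) ^ m * isoCount q (finrank F V - 2 * m) := by
  classical
  have : FiniteDimensional F V := inferInstance
  have : Fintype V := Fintype.ofFinite V
  set W := Submodule.span F (Set.range s.1) with hWdef
  have hWO : W ≤ orthS B W := span_le_orthS B s.1 s.2.2
  have hWd : finrank F W = m := by rw [hWdef, finrank_span_eq_card s.2.1, Fintype.card_fin]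
  have hOd := finrank_orthS hB hV W
  -- a complement of `W` in its orthogonal
  obtain ⟨H', hH'⟩ := Submodule.exists_isCompl W
  set H := H' ⊓ orthS B W with hHdef
  have hWH : W ⊓ H = ⊥ := by
    rw [eq_bot_iff, ← hH'.inf_eq_bot]
    exact inf_le_inf_left _ inf_le_left
  have hsup : W ⊔ H = orthS B W := by
    rw [hHdef, ← sup_inf_assoc_of_le _ hWO, hH'.sup_eq_top, top_inf_eq]
  have hHO : H ≤ orthS B W := inf_le_right
  have hHd : finrank F H = finrank F V - 2 * m := by
    have h1 := Submodule.finrank_sup_add_finrank_inf_eq W H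
    rw [hsup, hWH, finrank_bot] at h1
    omega
  -- `H` is nondegenerate
  have hHnd : NondegOn B H := by
    intro x hx hx0
    by_contra hcon
    push Not at hcon
    apply hx0
    have hxW : x ∈ W := by
      rw [← orthS_orthS hB hV W]
      intro z hz
      rw [← hsup] at hz
      obtain ⟨w, hw, h, hh, rfl⟩ := Submodule.mem_sup.mp hz
      rw [map_add, LinearMap.add_apply, (hHO hx) w hw, herm_eq_zero hB (hcon h hh), add_zero]
    have : x ∈ W ⊓ H := ⟨hxW, hx⟩
    rwa [hWH, Submodule.mem_bot] at this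
  -- the bijection
  have hnorm : ∀ w ∈ W, ∀ h ∈ H, B (w + h) (w + h) = B h h := by
    intro w hw h hh
    have h1 : B w w = 0 := (hWO hw) w hw
    have h2 : B w h = 0 := (hHO hh) w hw
    have h3 : B h w = 0 := herm_eq_zero hB h2
    rw [map_add, map_add, LinearMap.add_apply, LinearMap.add_apply, h1, h2, h3]
    simp
  let f : W × {h : V // h ∈ H ∧ B h h = 0 ∧ h ≠ 0} →
      {x : V // x ∈ orthS B W ∧ B x x = 0 ∧ x ∉ W} := fun P =>
    ⟨P.1.1 + P.2.1, (orthS B W).add_mem (hWO P.1.2) (hHO P.2.2.1), by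
      rw [hnorm _ P.1.2 _ P.2.2.1]; exact P.2.2.2.1, by
      intro hmem
      have h1 : P.2.1 ∈ W := by
        have := W.sub_mem hmem P.1.2
        rwa [add_sub_cancel_left] at this
      have h2 : P.2.1 ∈ W ⊓ H := ⟨h1, P.2.2.1⟩
      rw [hWH, Submodule.mem_bot] at h2
      exact P.2.2.2.2 h2⟩
  have hf : Function.Bijective f := by
    constructor
    · rintro ⟨⟨w, hw⟩, ⟨h, hh, hh0, hhne⟩⟩ ⟨⟨w', hw'⟩, ⟨h', hh', hh0', hhne'⟩⟩ heq
      have h1 : w + h = w' + h' := congrArg Subtype.val heq
      have h2 : w - w' = h' - h := by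
        rw [sub_eq_sub_iff_add_eq_add, h1, add_comm]
      have h3 : w - w' ∈ W ⊓ H := ⟨W.sub_mem hw hw', by rw [h2]; exact H.sub_mem hh' hh⟩
      rw [hWH, Submodule.mem_bot, sub_eq_zero] at h3
      have h4 : h = h' := by
        rw [h3] at h1
        exact add_left_cancel h1
      subst h3
      subst h4
      rfl
    · rintro ⟨x, hxO, hx0, hxW⟩
      rw [← hsup] at hxO
      obtain ⟨w, hw, h, hh, rfl⟩ := Submodule.mem_sup.mp hxO
      refine ⟨⟨⟨w, hw⟩, ⟨h, hh, ?_, ?_⟩⟩, rfl⟩
      · rw [← hnorm w hw h hh]; exact hx0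
      · rintro rfl
        apply hxW
        rw [add_zero]
        exact hw
  rw [← Nat.card_congr (Equiv.ofBijective f hf), Nat.card_prod, card_iso B hF hσq hσ hB hHnd, hHd]
  congr 1
  rw [Nat.card_eq_fintype_card, Module.card_eq_pow_finrank (K := F) (V := ↥W), hWd, hF]

/-- the number of totally isotropic frames. -/
theorem card_tiFrame (hF : Fintype.card F = q ^ 2) (hσq : ∀ x, σ x = x ^ q) (hσ : Invol σ)
    (hB : IsHerm B) (hV : NondegOn B ⊤) (m : ℕ) :
    Nat.card (TIFrame B m) =
      ∏ i ∈ Finset.range m, ((q ^ 2) ^ i * isoCount q (finrank F V - 2 * i)) := by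
  classical
  have : Fintype V := Fintype.ofFinite V
  induction m with
  | zero =>
    rw [Finset.prod_range_zero]
    have : Unique (TIFrame B 0) :=
      { default := ⟨fun a => a.elim0, linearIndependent_empty_type, fun a => a.elim0⟩
        uniq := fun s => Subtype.ext (funext fun a => a.elim0) }
    exact Nat.card_unique
  | succ m ih =>
    have : Fintype (TIFrame B m) := Fintype.ofFinite _
    rw [Nat.card_congr (equivTI B hB m), Nat.card_sigma,
      Finset.sum_congr rfl (fun s _ => card_fibre B hF hσq hσ hB hV s), Finset.sum_const,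
      smul_eq_mul, Finset.card_univ, ← Nat.card_eq_fintype_card, ih, Finset.prod_range_succ]

/-- the number of totally isotropic `m`-subspaces. -/
theorem card_ti_mul (hF : Fintype.card F = q ^ 2) (hσq : ∀ x, σ x = x ^ q) (hσ : Invol σ)
    (hB : IsHerm B) (hV : NondegOn B ⊤) (m : ℕ) :
    Nat.card {W : Submodule F V // finrank F W = m ∧ ∀ u ∈ W, ∀ v ∈ W, B u v = 0} *
        ∏ i : Fin m, ((q ^ 2) ^ m - (q ^ 2) ^ i.val) =
      ∏ i ∈ Finset.range m, ((q ^ 2) ^ i * isoCount q (finrank F V - 2 * i)) := by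
  classical
  have : Fintype V := Fintype.ofFinite V
  have : Fintype {W : Submodule F V // finrank F W = m ∧ ∀ u ∈ W, ∀ v ∈ W, B u v = 0} :=
    Fintype.ofFinite _
  let π : TIFrame B m → {W : Submodule F V // finrank F W = m ∧ ∀ u ∈ W, ∀ v ∈ W, B u v = 0} :=
    fun s => ⟨Submodule.span F (Set.range s.1),
      by rw [finrank_span_eq_card s.2.1, Fintype.card_fin], by
        intro u hu v hv
        exact (span_le_orthS B s.1 s.2.2 hv) u hu⟩
  have h2 : Nat.card (TIFrame B m) = ∑ W, Nat.card {s // π s = W} := by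
    rw [← Nat.card_sigma]; exact Nat.card_congr (Equiv.sigmaFiberEquiv π).symm
  have h3 : ∀ W, Nat.card {s // π s = W} =
      ∏ i : Fin m, ((q ^ 2) ^ m - (q ^ 2) ^ i.val) := fun W => by
    have e : {s // π s = W} ≃
        {s : {s : Fin m → V // LinearIndependent F s} //
          Submodule.span F (Set.range s.1) = W.1} :=
      { toFun := fun s => ⟨⟨s.1.1, s.1.2.1⟩, congrArg Subtype.val s.2⟩
        invFun := fun s => ⟨⟨s.1.1, s.1.2, by
            intro a b
            have hsub : ∀ c, s.1.1 c ∈ W.1 := by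
              intro c
              have h1 : s.1.1 c ∈ Submodule.span F (Set.range s.1.1) :=
                Submodule.subset_span ⟨c, rfl⟩
              exact (le_of_eq s.2) h1
            exact W.2.2 _ (hsub a) _ (hsub b)⟩, Subtype.ext s.2⟩
        left_inv := fun s => rfl
        right_inv := fun s => rfl }
    rw [Nat.card_congr (e.trans (fibreEquiv m W.1 W.2.1))]
    have := card_linearIndependent (K := F) (V := W.1) (k := m) (by rw [W.2.1])
    rw [this, W.2.1, hF]
  rw [← card_tiFrame B hF hσq hσ hB hV m, h2, Finset.sum_congr rfl (fun W _ => h3 W),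
    Finset.sum_const, smul_eq_mul, Finset.card_univ, Nat.card_eq_fintype_card]

/-- the number of totally isotropic `m`-subspaces, with the powers of `q` removed. -/
theorem card_ti_mul' (hF : Fintype.card F = q ^ 2) (hσq : ∀ x, σ x = x ^ q) (hσ : Invol σ)
    (hB : IsHerm B) (hV : NondegOn B ⊤) (m : ℕ) :
    Nat.card {W : Submodule F V // finrank F W = m ∧ ∀ u ∈ W, ∀ v ∈ W, B u v = 0} *
        P (q ^ 2) m m =
      ∏ i ∈ Finset.range m, isoCount q (finrank F V - 2 * i) := by
  have h := card_ti_mul B hF hσq hσ hB hV m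
  have hq0 : 0 < q ^ 2 := by rw [← hF]; exact Fintype.card_pos
  rw [prod_eq (q ^ 2) m m le_rfl, Finset.prod_mul_distrib] at h
  have hpos : 0 < ∏ i ∈ Finset.range m, (q ^ 2) ^ i := Finset.prod_pos fun i _ => pow_pos hq0 i
  apply Nat.eq_of_mul_eq_mul_left hpos
  rw [← h]
  ring

end counting

end abstract

theorem isoCount_eq (q k : ℕ) (hk : 1 ≤ k) : isoCount q k = usgn q k * usgn q (k - 1) := by
  unfold isoCount usgn
  by_cases he : Even k
  · have ho : ¬ Even (k - 1) := by
      rw [Nat.not_even_iff_odd]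
      exact Nat.Even.sub_odd hk he odd_one
    rw [if_pos he, if_pos he, if_neg ho]
  · have ho : Even (k - 1) := by
      rw [Nat.not_even_iff_odd] at he
      exact Nat.Odd.sub_odd he odd_one
    rw [if_neg he, if_neg he, if_pos ho]

universe u

/-- the counting identity for the standard hermitian space. -/
theorem card_ti_std {K : Type u} [Field K] [Fintype K] {q : ℕ}
    (hK : Fintype.card K = q ^ 2) (n m : ℕ) :
    Nat.card {W : Submodule K (Fin n → K) // Module.finrank K ↥W = m ∧
      (∀ u ∈ W, ∀ v ∈ W, Cfsg.hermForm n K q u v = 0)} * P (q ^ 2) m m =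
      ∏ i ∈ Finset.range m, isoCount q (n - 2 * i) := by
  obtain ⟨σ, hσq, hσ⟩ := exists_frob hK
  have hB : IsHerm (hermB n σ hσq) := hermB_isHerm σ hσq hσ
  have hV : NondegOn (hermB n σ hσq) ⊤ := hermB_nondeg σ hσq
  have hmul := card_ti_mul' (hermB n σ hσq) hK hσq hσ hB hV m
  rw [Module.finrank_fintype_fun_eq_card, Fintype.card_fin] at hmul
  exact hmul

/-- TC: counting totally isotropic `m`-spaces, `r ≠ p`; port of
`Helper99_SpTICount.exists_dvd_of_dvd_card_ti`. -/
theorem TC {K : Type u} [Field K] [Fintype K] {p : ℕ} [Fact p.Prime] [CharP K p] {q : ℕ}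
    (hK : Fintype.card K = q ^ 2) (n m : ℕ) (hm : 1 ≤ m) (hmn : 2 * m ≤ n) {r : ℕ} (hr : r.Prime)
    (hrp : r ≠ p)
    (hrΩ : r ∣ Nat.card {W : Submodule K (Fin n → K) // Module.finrank K ↥W = m ∧
      (∀ u ∈ W, ∀ v ∈ W, Cfsg.hermForm n K q u v = 0)}) :
    ∃ k : ℕ, n - 2 * m < k ∧ k ≤ n ∧ r ∣ usgn q k := by
  have h1 : r ∣ ∏ i ∈ Finset.range m, isoCount q (n - 2 * i) := by
    rw [← card_ti_std hK n m]
    exact hrΩ.mul_right _
  rw [hr.prime.dvd_finsetProd_iff] at h1
  obtain ⟨i, hi, hdi⟩ := h1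
  rw [Finset.mem_range] at hi
  rw [isoCount_eq q (n - 2 * i) (by omega)] at hdi
  rcases hr.dvd_mul.1 hdi with h2 | h2
  · exact ⟨n - 2 * i, by omega, by omega, h2⟩
  · exact ⟨n - 2 * i - 1, by omega, by omega, h2⟩

/-- TP: the number of totally isotropic `m`-spaces is prime to `p`; port of
`Helper99_SpTICount.card_ti_modEq_one`. -/
theorem TP {K : Type u} [Field K] [Fintype K] {p : ℕ} [Fact p.Prime] [CharP K p] {q : ℕ}
    (hK : Fintype.card K = q ^ 2) (n m : ℕ) (hm : 1 ≤ m) (hmn : 2 * m ≤ n) :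
    ¬ p ∣ Nat.card {W : Submodule K (Fin n → K) // Module.finrank K ↥W = m ∧
      (∀ u ∈ W, ∀ v ∈ W, Cfsg.hermForm n K q u v = 0)} := by
  have hpK : p ∣ Fintype.card K := by
    obtain ⟨k, -, hk⟩ := FiniteField.card K p
    rw [hk]; exact dvd_pow_self p k.ne_zero
  have hp : p.Prime := Fact.out
  have hpq : p ∣ q := by
    rw [hK] at hpK
    exact hp.dvd_of_dvd_pow hpK
  have hpq2 : p ∣ q ^ 2 := hpq.trans (dvd_pow_self q two_ne_zero)
  have hq0 : 0 < q := by
    have : 0 < q ^ 2 := by rw [← hK]; exact Fintype.card_pos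
    exact Nat.pos_of_ne_zero (by rintro rfl; simp at this)
  have h := congrArg (fun x : ℕ => (x : ZMod p)) (card_ti_std hK n m)
  simp only [Nat.cast_mul, Nat.cast_prod] at h
  have hq : ((q : ℕ) : ZMod p) = 0 := (ZMod.natCast_eq_zero_iff _ _).2 hpq
  have hterm : ∀ i ∈ Finset.range m, ((isoCount q (n - 2 * i) : ℕ) : ZMod p) = -1 := by
    intro i hi
    rw [Finset.mem_range] at hi
    have hk2 : 2 ≤ n - 2 * i := by omega
    unfold isoCount
    split_ifs with he
    · rw [Nat.cast_mul, Nat.cast_sub (Nat.one_le_pow _ _ hq0), Nat.cast_add, Nat.cast_pow,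
        Nat.cast_pow, hq, zero_pow (by omega), zero_pow (by omega)]
      simp
    · rw [Nat.cast_mul, Nat.cast_sub (Nat.one_le_pow _ _ hq0), Nat.cast_add, Nat.cast_pow,
        Nat.cast_pow, hq, zero_pow (by omega), zero_pow (by omega)]
      simp
  rw [P_cast_of_dvd hpq2 (pow_pos hq0 2) m m le_rfl, Finset.prod_congr rfl hterm,
    Finset.prod_const, Finset.card_range] at h
  have hu : IsUnit ((-1 : ZMod p) ^ m) := (isUnit_one.neg).pow m
  have h2 : (Nat.card {W : Submodule K (Fin n → K) // Module.finrank K ↥W = m ∧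
      (∀ u ∈ W, ∀ v ∈ W, Cfsg.hermForm n K q u v = 0)} : ZMod p) = 1 :=
    hu.mul_right_cancel (by rw [h, one_mul])
  intro hdvd
  rw [← ZMod.natCast_eq_zero_iff, h2] at hdvd
  exact one_ne_zero hdvd

end Cfsg.Agent.Lib.Helper93_SUTI_TC
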