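import Mathlib
import Cfsg.Agent.Lib.Helper37_Singer

/-!
# Singer cycles: the transpose and the inverse are again Singer cycles (helper93)

`Sing S` (Helper37_PGLBlock): the powers of `S` act transitively on the nonzero vectors.
* `sing_inv` : `Sing S → S.det ≠ 0 → Sing S⁻¹`
* `sing_transpose` : `Sing S → S.det ≠ 0 → Sing Sᵀ`
* `exists_sq_add_sq` : in a finite field every element is a sum of two squares.
-/

set_option autoImplicit false

namespace Cfsg.Agent.Lib.Helper93_SingDual

open Matrix Cfsg.Agent.Lib.Helper37_PGLBlock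

variable {F : Type*} [Field F] {m : ℕ}

/-- the centralizer of `S` as a submodule of the matrix algebra -/
def cent (S : Matrix (Fin m) (Fin m) F) : Submodule F (Matrix (Fin m) (Fin m) F) where
  carrier := {M | M * S = S * M}
  add_mem' := by
    intro A B hA hB
    simp only [Set.mem_ofPred_eq] at hA hB ⊢
    rw [add_mul, mul_add, hA, hB]
  zero_mem' := by simp
  smul_mem' := by
    intro c A hA
    simp only [Set.mem_ofPred_eq] at hA ⊢
    rw [Matrix.smul_mul, Matrix.mul_smul, hA]

theorem mem_cent {S M : Matrix (Fin m) (Fin m) F} : M ∈ cent S ↔ M * S = S * M := Iff.rfl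

theorem pow_mem_cent (S : Matrix (Fin m) (Fin m) F) (j : ℕ) : S ^ j ∈ cent S := by
  rw [mem_cent]
  exact (Commute.pow_left (Commute.refl S) j)

/-- evaluation at a vector -/
def evL (φ : Fin m → F) : Matrix (Fin m) (Fin m) F →ₗ[F] (Fin m → F) where
  toFun M := M *ᵥ φ
  map_add' A B := Matrix.add_mulVec A B φ
  map_smul' c A := Matrix.smul_mulVec c A φ

/-- evaluation from the left at a vector -/
def evR (φ : Fin m → F) : Matrix (Fin m) (Fin m) F →ₗ[F] (Fin m → F) where
  toFun M := φ ᵥ* M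
  map_add' A B := Matrix.vecMul_add A B φ
  map_smul' c A := Matrix.vecMul_smul φ c A

/-- a nonzero element of the centralizer of a Singer cycle is a power of it -/
theorem eq_pow_of_mem_cent {S M : Matrix (Fin m) (Fin m) F} (hS : Sing S) (hM : M ∈ cent S)
    (hM0 : M ≠ 0) {φ : Fin m → F} (hφ : φ ≠ 0) : ∃ j : ℕ, M = S ^ j := by
  have h1 : M *ᵥ φ ≠ 0 := fun h => hM0 (schur hS hM hφ h)
  obtain ⟨j, hj⟩ := hS φ (M *ᵥ φ) hφ h1
  refine ⟨j, ?_⟩
  have h2 : M - S ^ j = 0 := by
    apply schur hS _ hφ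
    · rw [Matrix.sub_mulVec, hj, sub_self]
    · exact (cent S).sub_mem hM (pow_mem_cent S j)
  exact sub_eq_zero.mp h2

theorem sing_transpose {S : Matrix (Fin m) (Fin m) F} (hS : Sing S) (hdet : S.det ≠ 0) :
    Sing Sᵀ := by
  intro φ ψ hφ hψ
  -- the two evaluation maps on the centralizer
  set L : cent S →ₗ[F] (Fin m → F) := (evL φ).comp (cent S).subtype with hL
  set R : cent S →ₗ[F] (Fin m → F) := (evR φ).comp (cent S).subtype with hR
  have hLinj : Function.Injective L := by
    rw [← LinearMap.ker_eq_bot, LinearMap.ker_eq_bot']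
    intro M hM
    have : (M : Matrix (Fin m) (Fin m) F) *ᵥ φ = 0 := hM
    exact Subtype.ext (schur hS M.2 hφ this)
  have hLsurj : Function.Surjective L := by
    intro w
    by_cases hw : w = 0
    · exact ⟨0, by rw [map_zero, hw]⟩
    · obtain ⟨j, hj⟩ := hS φ w hφ hw
      exact ⟨⟨S ^ j, pow_mem_cent S j⟩, hj.symm⟩
  have hfin : Module.finrank F (cent S) = Module.finrank F (Fin m → F) :=
    (LinearEquiv.ofBijective L ⟨hLinj, hLsurj⟩).finrank_eq
  have hRinj : Function.Injective R := by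
    rw [← LinearMap.ker_eq_bot, LinearMap.ker_eq_bot']
    intro M hM
    have hM' : φ ᵥ* (M : Matrix (Fin m) (Fin m) F) = 0 := hM
    by_contra hne
    have hne' : (M : Matrix (Fin m) (Fin m) F) ≠ 0 := fun h => hne (Subtype.ext h)
    obtain ⟨j, hj⟩ := eq_pow_of_mem_cent hS M.2 hne' hφ
    rw [hj] at hM'
    have hdj : (S ^ j).det ≠ 0 := by rw [Matrix.det_pow]; exact pow_ne_zero _ hdet
    have hunit : IsUnit (S ^ j).det := isUnit_iff_ne_zero.mpr hdj
    have : φ ᵥ* (S ^ j) ᵥ* (S ^ j)⁻¹ = 0 := by rw [hM', Matrix.zero_vecMul]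
    rw [Matrix.vecMul_vecMul, Matrix.mul_nonsing_inv _ hunit, Matrix.vecMul_one] at this
    exact hφ this
  have hRsurj : Function.Surjective R :=
    (LinearMap.injective_iff_surjective_of_finrank_eq_finrank hfin).mp hRinj
  obtain ⟨M, hM⟩ := hRsurj ψ
  have hM' : φ ᵥ* (M : Matrix (Fin m) (Fin m) F) = ψ := hM
  have hne : (M : Matrix (Fin m) (Fin m) F) ≠ 0 := by
    intro h
    rw [h, Matrix.vecMul_zero] at hM'
    exact hψ hM'.symm
  obtain ⟨j, hj⟩ := eq_pow_of_mem_cent hS M.2 hne hφ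
  refine ⟨j, ?_⟩
  rw [← Matrix.transpose_pow, Matrix.mulVec_transpose, ← hj, hM']

theorem sing_inv {S : Matrix (Fin m) (Fin m) F} (hS : Sing S) (hdet : S.det ≠ 0) :
    Sing S⁻¹ := by
  intro v w hv hw
  obtain ⟨j, hj⟩ := hS w v hw hv
  refine ⟨j, ?_⟩
  have hunit : IsUnit (S ^ j).det := by
    rw [Matrix.det_pow]; exact isUnit_iff_ne_zero.mpr (pow_ne_zero _ hdet)
  rw [hj, Matrix.mulVec_mulVec, Matrix.inv_pow', Matrix.nonsing_inv_mul _ hunit, Matrix.one_mulVec]

/-- in a finite field every element is a sum of two squares -/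
theorem exists_sq_add_sq [Fintype F] (x : F) : ∃ a b : F, a ^ 2 + b ^ 2 = x := by
  classical
  by_cases h2 : ringChar F = 2
  · obtain ⟨r, hr⟩ := FiniteField.isSquare_of_char_two h2 x
    exact ⟨r, 0, by rw [hr]; ring⟩
  · have hodd : Fintype.card F % 2 = 1 := FiniteField.odd_card_of_char_ne_two h2
    obtain ⟨a, b, hab⟩ := FiniteField.exists_root_sum_quadratic
      (f := (Polynomial.X ^ 2 : Polynomial F)) (g := (Polynomial.X ^ 2 - Polynomial.C x : Polynomial F))
      (Polynomial.degree_X_pow 2) (Polynomial.degree_X_pow_sub_C (by decide) _) hodd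
    refine ⟨a, b, ?_⟩
    rw [← sub_eq_zero]
    simpa only [Polynomial.eval_C, Polynomial.eval_X, Polynomial.eval_pow, Polynomial.eval_sub,
      ← add_sub_assoc] using hab

end Cfsg.Agent.Lib.Helper93_SingDual
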