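import Mathlib
import Cfsg.Agent.S5070
import Cfsg.Agent.Lib.Helper93_SingDual

/-!
# Two-element generation of `Sp_{2m}(F)`, `F` finite, `m ≥ 2` (helper93)

`a = diag(S, S⁻ᵀ)` with `S` a Singer cycle of `GL_m(F)` (transitive on the nonzero vectors of each of the two
standard Lagrangians), `b = y * T(e₁, 1)` with `y` a semisimple element of the `SL₂` on the hyperbolic plane
`⟨e₂, f₂⟩` (order 4 in odd characteristic, order 3 in characteristic 2) mapping `e₂` to `± f₂`.
Then `⟨a, b⟩` contains a nontrivial transvection along every vector of both Lagrangians, hence (scalars, sums of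
two squares) the full transvection groups, hence all transvections, hence everything (S0765).
-/

set_option autoImplicit false

namespace Cfsg.Agent.Lib.Helper93_SpTwoGen

open Matrix Cfsg.Agent.Lib.Helper13_Symp Cfsg.Agent.Lib.Helper13_SympTrans Cfsg.Agent.S5070
  Cfsg.Agent.Lib.Helper37_PGLBlock Cfsg.Agent.Lib.Helper93_SingDual

variable {F : Type*} [Field F] {m : ℕ}

/-! ### The two Lagrangians -/

/-- embedding of `F^m` as the first Lagrangian -/
def inlV (u : Fin m → F) : Fin m ⊕ Fin m → F := Sum.elim u 0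

/-- embedding of `F^m` as the second Lagrangian -/
def inrV (w : Fin m → F) : Fin m ⊕ Fin m → F := Sum.elim 0 w

theorem form_elim (u w u' w' : Fin m → F) :
    Cfsg.sympForm m F (Sum.elim u w) (Sum.elim u' w') = w ⬝ᵥ u' - u ⬝ᵥ w' := by
  rw [sympForm_eq]
  simp only [Sum.elim_inl, Sum.elim_inr, dotProduct, Finset.sum_sub_distrib]

theorem form_inl_inl (u u' : Fin m → F) : Cfsg.sympForm m F (inlV u) (inlV u') = 0 := by
  unfold inlV; rw [form_elim]; simp

theorem form_inr_inr (w w' : Fin m → F) : Cfsg.sympForm m F (inrV w) (inrV w') = 0 := by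
  unfold inrV; rw [form_elim]; simp

theorem form_inl_inr (u w : Fin m → F) : Cfsg.sympForm m F (inlV u) (inrV w) = - (u ⬝ᵥ w) := by
  unfold inlV inrV; rw [form_elim]; simp

theorem form_inr_inl (w u : Fin m → F) : Cfsg.sympForm m F (inrV w) (inlV u) = w ⬝ᵥ u := by
  unfold inlV inrV; rw [form_elim]; simp

theorem inlV_smul (c : F) (u : Fin m → F) : inlV (c • u) = c • inlV u := by
  unfold inlV
  ext i
  cases i <;> simp

theorem inrV_smul (c : F) (w : Fin m → F) : inrV (c • w) = c • inrV w := by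
  unfold inrV
  ext i
  cases i <;> simp

theorem inrV_add (w w' : Fin m → F) : inrV (w + w') = inrV w + inrV w' := by
  unfold inrV
  ext i
  cases i <;> simp

theorem inlV_zero : inlV (0 : Fin m → F) = 0 := by
  unfold inlV
  ext i
  cases i <;> simp

theorem inrV_zero : inrV (0 : Fin m → F) = 0 := by
  unfold inrV
  ext i
  cases i <;> simp

theorem eq_inl_add_inr (v : Fin m ⊕ Fin m → F) :
    v = inlV (fun i => v (Sum.inl i)) + inrV (fun i => v (Sum.inr i)) := by
  unfold inlV inrV
  ext i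
  cases i <;> simp

/-! ### The block diagonal element -/

/-- `diag(S, S⁻ᵀ)` -/
noncomputable def blockMat (S : Matrix (Fin m) (Fin m) F) : Matrix (Fin m ⊕ Fin m) (Fin m ⊕ Fin m) F :=
  Matrix.fromBlocks S 0 0 (S⁻¹)ᵀ

theorem blockMat_mem {S : Matrix (Fin m) (Fin m) F} (hdet : S.det ≠ 0) :
    blockMat S ∈ Matrix.symplecticGroup (Fin m) F := by
  have hunit : IsUnit S.det := isUnit_iff_ne_zero.mpr hdet
  rw [SymplecticGroup.mem_iff]
  unfold blockMat Matrix.J
  rw [Matrix.fromBlocks_transpose, Matrix.fromBlocks_multiply, Matrix.fromBlocks_multiply]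
  simp only [Matrix.mul_zero, Matrix.zero_mul, add_zero, zero_add, Matrix.mul_one, Matrix.mul_neg,
    Matrix.transpose_zero, Matrix.neg_mul, Matrix.transpose_transpose]
  rw [Matrix.mul_nonsing_inv _ hunit, ← Matrix.transpose_mul, Matrix.mul_nonsing_inv _ hunit,
    Matrix.transpose_one, neg_zero]

/-- `diag(S, S⁻ᵀ)` as an element of the symplectic group -/
noncomputable def blockElt (S : Matrix (Fin m) (Fin m) F) (hdet : S.det ≠ 0) : Matrix.symplecticGroup (Fin m) F :=
  ⟨blockMat S, blockMat_mem hdet⟩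

theorem blockElt_mulVec_inl (S : Matrix (Fin m) (Fin m) F) (hdet : S.det ≠ 0) (u : Fin m → F) :
    (blockElt S hdet : Matrix (Fin m ⊕ Fin m) (Fin m ⊕ Fin m) F) *ᵥ inlV u = inlV (S *ᵥ u) := by
  change blockMat S *ᵥ inlV u = _
  unfold blockMat inlV
  rw [Matrix.fromBlocks_mulVec]
  simp

theorem blockElt_mulVec_inr (S : Matrix (Fin m) (Fin m) F) (hdet : S.det ≠ 0) (w : Fin m → F) :
    (blockElt S hdet : Matrix (Fin m ⊕ Fin m) (Fin m ⊕ Fin m) F) *ᵥ inrV w = inrV ((S⁻¹)ᵀ *ᵥ w) := by
  change blockMat S *ᵥ inrV w = _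
  unfold blockMat inrV
  rw [Matrix.fromBlocks_mulVec]
  simp

/-! ### Transvection calculus -/

theorem transv_vec_zero (c : F) : transv m (0 : Fin m ⊕ Fin m → F) c = 1 := by
  apply ext_sp
  intro v
  rw [transv_mulVec, one_mulVec', smul_zero, add_zero]

theorem transv_pow (p : Fin m ⊕ Fin m → F) (c : F) (k : ℕ) :
    (transv m p c) ^ k = transv m p (k * c) := by
  induction k with
  | zero => rw [pow_zero, Nat.cast_zero, zero_mul, transv_zero]
  | succ k ih => rw [pow_succ, ih, transv_mul, Nat.cast_succ, add_mul, one_mul]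

/-- the full transvection group along `v` lies in `H` -/
def Full (H : Subgroup (Matrix.symplecticGroup (Fin m) F)) (v : Fin m ⊕ Fin m → F) : Prop :=
  ∀ x : F, transv m v x ∈ H

theorem full_map {H : Subgroup (Matrix.symplecticGroup (Fin m) F)} {g : Matrix.symplecticGroup (Fin m) F}
    (hg : g ∈ H) {v : Fin m ⊕ Fin m → F} (hv : Full H v) :
    Full H ((g : Matrix (Fin m ⊕ Fin m) (Fin m ⊕ Fin m) F) *ᵥ v) := by
  intro x
  rw [← conj_transv]
  exact H.mul_mem (H.mul_mem hg (hv x)) (H.inv_mem hg)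

/-- the basic move: `w + v` is reached from `w` by a transvection along `v` -/
theorem full_add {H : Subgroup (Matrix.symplecticGroup (Fin m) F)} {v w : Fin m ⊕ Fin m → F}
    (hv : Full H v) (hw : Full H w) (h : Cfsg.sympForm m F w v ≠ 0) : Full H (w + v) := by
  have h1 := full_map (hv (Cfsg.sympForm m F w v)⁻¹) hw
  rw [transv_mulVec, inv_mul_cancel₀ h, one_smul] at h1
  exact h1

/-! ### Sweeping a Lagrangian with the Singer cycle -/

theorem sweep {H : Subgroup (Matrix.symplecticGroup (Fin m) F)} {a : Matrix.symplecticGroup (Fin m) F}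
    (ha : a ∈ H) (ι : (Fin m → F) → (Fin m ⊕ Fin m → F)) {R : Matrix (Fin m) (Fin m) F} (hR : Sing R)
    (hι : ∀ u, (a : Matrix (Fin m ⊕ Fin m) (Fin m ⊕ Fin m) F) *ᵥ ι u = ι (R *ᵥ u))
    {u₀ : Fin m → F} (hu₀ : u₀ ≠ 0) {c₀ : F} (h0 : transv m (ι u₀) c₀ ∈ H) :
    ∀ u : Fin m → F, u ≠ 0 → transv m (ι u) c₀ ∈ H := by
  have key : ∀ j : ℕ, transv m (ι (R ^ j *ᵥ u₀)) c₀ ∈ H := by
    intro j
    induction j with
    | zero => rw [pow_zero, Matrix.one_mulVec]; exact h0
    | succ j ih =>
      rw [pow_succ', ← Matrix.mulVec_mulVec, ← hι, ← conj_transv]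
      exact H.mul_mem (H.mul_mem ha ih) (H.inv_mem ha)
  intro u hu
  obtain ⟨j, hj⟩ := hR u₀ u hu₀ hu
  rw [hj]
  exact key j

theorem fill [Fintype F] {H : Subgroup (Matrix.symplecticGroup (Fin m) F)}
    (ι : (Fin m → F) → (Fin m ⊕ Fin m → F)) (hι : ∀ (c : F) u, ι (c • u) = c • ι u)
    {c₀ : F} (hc₀ : c₀ ≠ 0) (h : ∀ u : Fin m → F, u ≠ 0 → transv m (ι u) c₀ ∈ H) :
    ∀ u : Fin m → F, u ≠ 0 → Full H (ι u) := by
  intro u hu x
  obtain ⟨α, β, hαβ⟩ := exists_sq_add_sq (x / c₀)
  have hsq : ∀ γ : F, transv m (ι u) (γ * γ * c₀) ∈ H := by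
    intro γ
    by_cases hγ : γ = 0
    · rw [hγ, zero_mul, zero_mul, transv_zero]; exact H.one_mem
    · rw [← transv_smul, ← hι]
      exact h _ (smul_ne_zero hγ hu)
  have hx : x = α * α * c₀ + β * β * c₀ := by
    have : x = (x / c₀) * c₀ := by field_simp
    rw [this, ← hαβ]; ring
  rw [hx, ← transv_mul]
  exact H.mul_mem (hsq α) (hsq β)

/-- if the transvection groups along all vectors of the two Lagrangians lie in `H`, so do all transvections -/
theorem full_all {H : Subgroup (Matrix.symplecticGroup (Fin m) F)}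
    (hl : ∀ u : Fin m → F, u ≠ 0 → Full H (inlV u)) (hr : ∀ w : Fin m → F, w ≠ 0 → Full H (inrV w))
    (v : Fin m ⊕ Fin m → F) : Full H v := by
  -- the non-orthogonal case
  have case1 : ∀ u w : Fin m → F, u ⬝ᵥ w ≠ 0 → Full H (inrV w + inlV u) := by
    intro u w h
    have hu : u ≠ 0 := by rintro rfl; simp at h
    have hw : w ≠ 0 := by rintro rfl; simp at h
    apply full_add (hl u hu) (hr w hw)
    rw [form_inr_inl, dotProduct_comm]
    exact h
  rw [eq_inl_add_inr v]
  set u : Fin m → F := fun i => v (Sum.inl i) with hu_def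
  set w : Fin m → F := fun i => v (Sum.inr i) with hw_def
  by_cases hu : u = 0
  · by_cases hw : w = 0
    · rw [hu, hw, inlV_zero, inrV_zero, add_zero]
      intro x
      rw [transv_vec_zero]; exact H.one_mem
    · rw [hu, inlV_zero, zero_add]; exact hr w hw
  by_cases hw : w = 0
  · rw [hw, inrV_zero, add_zero]; exact hl u hu
  by_cases h : u ⬝ᵥ w = 0
  · -- the orthogonal case: go through an auxiliary vector
    obtain ⟨i, hi⟩ : ∃ i, u i ≠ 0 := by
      by_contra hcon
      push Not at hcon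
      exact hu (funext hcon)
    set w' : Fin m → F := Pi.single i 1 with hw'
    have huw' : u ⬝ᵥ w' = u i := by rw [hw', dotProduct_single, mul_one]
    have h1 : Full H (inrV w' + inlV u) := case1 u w' (by rw [huw']; exact hi)
    by_cases hw'' : w - w' = 0
    · have : w = w' := sub_eq_zero.mp hw''
      rw [this, add_comm]; exact h1
    · have h2 : Full H (inrV (w - w')) := hr _ hw''
      have h3 : Cfsg.sympForm m F (inrV w' + inlV u) (inrV (w - w')) ≠ 0 := by
        rw [sympForm_add_left, form_inr_inr, form_inl_inr, zero_add, dotProduct_sub, h, huw',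
          zero_sub, neg_neg]
        exact hi
      have h4 := full_add h2 h1 h3
      have : inrV w' + inlV u + inrV (w - w') = inlV u + inrV w := by
        rw [add_comm (inrV w') (inlV u), add_assoc, ← inrV_add, add_sub_cancel]
      rw [this] at h4
      exact h4
  · rw [add_comm]; exact case1 u w h

/-! ### The semisimple elements on a hyperbolic plane -/

section plane

variable (e f : Fin m ⊕ Fin m → F)

/-- the element acting as `e ↦ f ↦ -e` on the hyperbolic plane `⟨e, f⟩` (when `⟨f, e⟩ = 1`) -/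
def yOdd : Matrix.symplecticGroup (Fin m) F := transv m e (-1) * transv m f (-1) * transv m e (-1)

/-- the element acting as `e ↦ -f`, `f ↦ e + f` on the hyperbolic plane `⟨e, f⟩` (when `⟨f, e⟩ = 1`) -/
def yEven : Matrix.symplecticGroup (Fin m) F := transv m e 1 * transv m f 1

variable {e f}

theorem yOdd_mulVec (hfe : Cfsg.sympForm m F f e = 1) (x : Fin m ⊕ Fin m → F) :
    (yOdd e f : Matrix (Fin m ⊕ Fin m) (Fin m ⊕ Fin m) F) *ᵥ x =
      x + (Cfsg.sympForm m F x f - Cfsg.sympForm m F x e) • e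
        - (Cfsg.sympForm m F x f + Cfsg.sympForm m F x e) • f := by
  have hef : Cfsg.sympForm m F e f = -1 := by rw [sympForm_swap, hfe]
  unfold yOdd
  rw [mul_mulVec, mul_mulVec, transv_mulVec, transv_mulVec, transv_mulVec]
  simp only [sympForm_add_left, sympForm_smul_left, sympForm_self, hfe, hef]
  module

theorem yOdd_sq_mulVec (hfe : Cfsg.sympForm m F f e = 1) (x : Fin m ⊕ Fin m → F) :
    ((yOdd e f * yOdd e f : Matrix.symplecticGroup (Fin m) F) :
        Matrix (Fin m ⊕ Fin m) (Fin m ⊕ Fin m) F) *ᵥ x =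
      x + (2 * Cfsg.sympForm m F x f) • e - (2 * Cfsg.sympForm m F x e) • f := by
  have hef : Cfsg.sympForm m F e f = -1 := by rw [sympForm_swap, hfe]
  rw [mul_mulVec, yOdd_mulVec hfe, yOdd_mulVec hfe]
  simp only [sympForm_add_left, sympForm_sub_left, sympForm_smul_left, sympForm_self, hfe, hef]
  module

theorem yOdd_pow_four (hfe : Cfsg.sympForm m F f e = 1) : (yOdd e f) ^ 4 = 1 := by
  have hef : Cfsg.sympForm m F e f = -1 := by rw [sympForm_swap, hfe]
  have h4 : (yOdd e f) ^ 4 = (yOdd e f * yOdd e f) * (yOdd e f * yOdd e f) := by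
    simp only [pow_succ, pow_zero, one_mul, mul_assoc]
  rw [h4]
  apply ext_sp
  intro x
  rw [mul_mulVec, yOdd_sq_mulVec hfe, yOdd_sq_mulVec hfe, one_mulVec']
  simp only [sympForm_add_left, sympForm_sub_left, sympForm_smul_left, sympForm_self, hfe, hef]
  module

theorem yOdd_mulVec_e (hfe : Cfsg.sympForm m F f e = 1) :
    (yOdd e f : Matrix (Fin m ⊕ Fin m) (Fin m ⊕ Fin m) F) *ᵥ e = f := by
  have hef : Cfsg.sympForm m F e f = -1 := by rw [sympForm_swap, hfe]
  rw [yOdd_mulVec hfe, sympForm_self, hef]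
  module

theorem yEven_mulVec (hfe : Cfsg.sympForm m F f e = 1) (x : Fin m ⊕ Fin m → F) :
    (yEven e f : Matrix (Fin m ⊕ Fin m) (Fin m ⊕ Fin m) F) *ᵥ x =
      x + (Cfsg.sympForm m F x e + Cfsg.sympForm m F x f) • e + (Cfsg.sympForm m F x f) • f := by
  unfold yEven
  rw [mul_mulVec, transv_mulVec, transv_mulVec]
  simp only [sympForm_add_left, sympForm_smul_left, hfe]
  module

theorem yEven_pow_three (hfe : Cfsg.sympForm m F f e = 1) (h2 : (2 : F) = 0) : (yEven e f) ^ 3 = 1 := by
  have hef : Cfsg.sympForm m F e f = -1 := by rw [sympForm_swap, hfe]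
  have h3 : (yEven e f) ^ 3 = yEven e f * (yEven e f * yEven e f) := by
    simp only [pow_succ, pow_zero, one_mul, mul_assoc]
  rw [h3]
  apply ext_sp
  intro x
  rw [mul_mulVec, mul_mulVec, yEven_mulVec hfe, yEven_mulVec hfe, yEven_mulVec hfe, one_mulVec']
  simp only [sympForm_add_left, sympForm_smul_left, sympForm_self, hfe, hef]
  have key : ∀ (a b : F), (2 * a) • e + (2 * b) • f = 0 := by
    intro a b; rw [h2, zero_mul, zero_mul, zero_smul, zero_smul, add_zero]
  have := key (Cfsg.sympForm m F x f) (- Cfsg.sympForm m F x e)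
  calc _ = x + ((2 * Cfsg.sympForm m F x f) • e + (2 * (- Cfsg.sympForm m F x e)) • f) := by module
    _ = x := by rw [this, add_zero]

theorem yEven_mulVec_e (hfe : Cfsg.sympForm m F f e = 1) :
    (yEven e f : Matrix (Fin m ⊕ Fin m) (Fin m ⊕ Fin m) F) *ᵥ e = (-1 : F) • f := by
  have hef : Cfsg.sympForm m F e f = -1 := by rw [sympForm_swap, hfe]
  rw [yEven_mulVec hfe, sympForm_self, hef]
  module

end plane

/-! ### The generation theorem -/

/-- the generic generation argument: `a = diag(S, S⁻ᵀ)`, `b = y * T(e₁, 1)` -/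
theorem closure_eq_top_of [Fintype F] {S : Matrix (Fin m) (Fin m) F} (hS : Sing S) (hdet : S.det ≠ 0)
    {u₁ u₂ w₀ : Fin m → F} (hu₁ : u₁ ≠ 0) (hu₂ : u₂ ≠ 0) (hw₀ : w₀ ≠ 0)
    (y : Matrix.symplecticGroup (Fin m) F) (n : ℕ) (hn1 : 1 < n) (hyn : y ^ n = 1)
    (hcop : Nat.Coprime (Fintype.card F) n) (hnF : (n : F) ≠ 0)
    (hcomm : Commute y (transv m (inlV u₁) 1))
    (hy : (y : Matrix (Fin m ⊕ Fin m) (Fin m ⊕ Fin m) F) *ᵥ inlV u₂ = inrV w₀) :
    Subgroup.closure ({blockElt S hdet, y * transv m (inlV u₁) 1} :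
      Set (Matrix.symplecticGroup (Fin m) F)) = ⊤ := by
  set a := blockElt S hdet with ha_def
  set b := y * transv m (inlV u₁) 1 with hb_def
  set H := Subgroup.closure ({a, b} : Set (Matrix.symplecticGroup (Fin m) F)) with hH
  have ha : a ∈ H := Subgroup.subset_closure (by simp)
  have hb : b ∈ H := Subgroup.subset_closure (by simp)
  -- the unipotent part
  have hT : transv m (inlV u₁) (n : F) ∈ H := by
    have h1 : b ^ n = transv m (inlV u₁) (n : F) := by
      rw [hb_def, hcomm.mul_pow, hyn, one_mul, transv_pow, mul_one]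
    rw [← h1]; exact H.pow_mem hb n
  -- the semisimple part
  have hyH : y ∈ H := by
    have h1 : b ^ (Fintype.card F) = y ^ (Fintype.card F) := by
      rw [hb_def, hcomm.mul_pow, transv_pow, FiniteField.cast_card_eq_zero, zero_mul, transv_zero,
        mul_one]
    have h2 : y ^ (Fintype.card F) ∈ H := by rw [← h1]; exact H.pow_mem hb _
    obtain ⟨k, -, hk⟩ := Nat.exists_mul_mod_eq_one_of_coprime hcop hn1
    have h3 : (y ^ (Fintype.card F)) ^ k = y := by
      rw [← pow_mul, pow_eq_pow_mod _ hyn, hk, pow_one]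
    rw [← h3]; exact H.pow_mem h2 k
  -- first Lagrangian
  have hl1 : ∀ u : Fin m → F, u ≠ 0 → transv m (inlV u) (n : F) ∈ H :=
    sweep ha inlV hS (fun u => blockElt_mulVec_inl S hdet u) hu₁ hT
  have hl : ∀ u : Fin m → F, u ≠ 0 → Full H (inlV u) := fill inlV inlV_smul hnF hl1
  -- second Lagrangian
  have hdet' : (S⁻¹).det ≠ 0 := by
    have hunit : IsUnit S.det := isUnit_iff_ne_zero.mpr hdet
    have h1 : S.det * (S⁻¹).det = 1 := by
      rw [← Matrix.det_mul, Matrix.mul_nonsing_inv _ hunit, Matrix.det_one]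
    exact right_ne_zero_of_mul_eq_one h1
  have hS' : Sing (S⁻¹)ᵀ := sing_transpose (sing_inv hS hdet) hdet'
  have hT' : transv m (inrV w₀) (n : F) ∈ H := by
    rw [← hy, ← conj_transv]
    exact H.mul_mem (H.mul_mem hyH (hl1 u₂ hu₂)) (H.inv_mem hyH)
  have hr1 : ∀ w : Fin m → F, w ≠ 0 → transv m (inrV w) (n : F) ∈ H :=
    sweep ha inrV hS' (fun w => blockElt_mulVec_inr S hdet w) hw₀ hT'
  have hr : ∀ w : Fin m → F, w ≠ 0 → Full H (inrV w) := fill inrV inrV_smul hnF hr1
  -- everything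
  rw [eq_top_iff, ← Cfsg.Agent.S0765.result (F := F) m, Subgroup.closure_le]
  rintro A ⟨w, c, hA⟩
  have : A = transv m w c := Subtype.ext hA
  rw [this]
  exact full_all hl hr w c

/-- **`Sp_{2m}(F)` is generated by two elements** (`F` a finite field, `m ≥ 2`). -/
theorem exists_two_generators [Fintype F] (hm : 2 ≤ m) :
    ∃ a b : Matrix.symplecticGroup (Fin m) F,
      Subgroup.closure ({a, b} : Set (Matrix.symplecticGroup (Fin m) F)) = ⊤ := by
  classical
  obtain ⟨S, hS, hdet⟩ := Cfsg.Agent.Lib.Helper37_Singer.exists_sing (F := F) m (by omega)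
  set i₁ : Fin m := ⟨0, by omega⟩ with hi₁
  set i₂ : Fin m := ⟨1, by omega⟩ with hi₂
  have hi : i₁ ≠ i₂ := by
    intro h
    have := congrArg Fin.val h
    simp [hi₁, hi₂] at this
  set u₁ : Fin m → F := Pi.single i₁ 1 with hu₁
  set u₂ : Fin m → F := Pi.single i₂ 1 with hu₂
  have hu₁0 : u₁ ≠ 0 := by
    intro h
    have := congrFun h i₁
    simp [hu₁] at this
  have hu₂0 : u₂ ≠ 0 := by
    intro h
    have := congrFun h i₂
    simp [hu₂] at this
  have hfe : Cfsg.sympForm m F (inrV u₂) (inlV u₂) = 1 := by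
    rw [form_inr_inl, hu₂, dotProduct_single, mul_one, Pi.single_eq_same]
  have h12 : Cfsg.sympForm m F (inlV u₂) (inlV u₁) = 0 := form_inl_inl _ _
  have h12' : Cfsg.sympForm m F (inrV u₂) (inlV u₁) = 0 := by
    rw [form_inr_inl, hu₁, hu₂, dotProduct_single, mul_one, Pi.single_eq_of_ne hi]
  by_cases h2 : (2 : F) = 0
  · -- characteristic two
    refine ⟨blockElt S hdet, yEven (inlV u₂) (inrV u₂) * transv m (inlV u₁) 1, ?_⟩
    have hq : ∃ k : ℕ, Fintype.card F = 2 ^ k := by
      have : CharP F 2 := CharTwo.of_one_ne_zero_of_two_eq_zero one_ne_zero h2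
      obtain ⟨k, _, hk⟩ := FiniteField.card F 2
      exact ⟨k, hk⟩
    obtain ⟨k, hk⟩ := hq
    have hw₀ : ((-1 : F) • u₂) ≠ 0 := smul_ne_zero (by simp) hu₂0
    apply closure_eq_top_of hS hdet hu₁0 hu₂0 hw₀ _ 3 (by norm_num) (yEven_pow_three hfe h2)
    · rw [hk]; exact Nat.Coprime.pow_left k (by norm_num)
    · have : ((3 : ℕ) : F) = 1 := by
        have : ((3 : ℕ) : F) = 2 + 1 := by norm_num
        rw [this, h2, zero_add]
      rw [this]; exact one_ne_zero
    · unfold yEven
      exact (Commute.mul_left (transv_comm h12 1 1) (transv_comm h12' 1 1))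
    · rw [yEven_mulVec_e hfe, inrV_smul]
  · -- odd characteristic
    refine ⟨blockElt S hdet, yOdd (inlV u₂) (inrV u₂) * transv m (inlV u₁) 1, ?_⟩
    have hodd : Fintype.card F % 2 = 1 := by
      apply FiniteField.odd_card_of_char_ne_two
      intro h
      apply h2
      have h3 := ringChar.Nat.cast_ringChar (R := F)
      rw [h] at h3
      exact_mod_cast h3
    apply closure_eq_top_of hS hdet hu₁0 hu₂0 hu₂0 _ 4 (by norm_num) (yOdd_pow_four hfe)
    · have : Nat.Coprime (Fintype.card F) 2 := by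
        rw [Nat.coprime_two_right, Nat.odd_iff]; exact hodd
      exact Nat.Coprime.pow_right 2 this
    · have : ((4 : ℕ) : F) = 2 * 2 := by norm_num
      rw [this]; exact mul_ne_zero h2 h2
    · unfold yOdd
      exact (Commute.mul_left (Commute.mul_left (transv_comm h12 _ _) (transv_comm h12' _ _))
        (transv_comm h12 _ _))
    · exact yOdd_mulVec_e hfe

end Cfsg.Agent.Lib.Helper93_SpTwoGen
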