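/-
Helper library (helper93): linear algebra of the length-24 code used for the uniqueness of the Steiner systems
S(4,7,23) and S(5,8,24).  A set meeting every octad through a point evenly is a code word (`lemmaB`); a set
meeting every octad through the two points `none`, `some 0` evenly is a code word up to adding those two points
(`lemmaC`).
-/
import Mathlib
import Cfsg.Agent.Lib.Helper93_GolayConcrete
import Cfsg.Agent.Lib.Helper26_GolayMem
import Cfsg.Agent.Lib.Helper26_GolayFast
import Cfsg.Agent.Lib.Helper26_GolaySets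
import Cfsg.Agent.S0363

set_option autoImplicit false

namespace Cfsg.Agent.Lib.Helper93_SteinerA

open Cfsg Finset
open Cfsg.Agent.Lib.Helper93_Code24 Cfsg.Agent.Lib.Helper93_GolayConcrete
open Cfsg.Agent.Lib.Helper26_Golay

section abstract

variable {α : Type*} [Fintype α] [DecidableEq α]

/-- the standard dot product as a bilinear form -/
noncomputable def dotB : LinearMap.BilinForm (ZMod 2) (α → ZMod 2) :=
  Matrix.toBilin' (1 : Matrix α α (ZMod 2))

theorem dotB_apply (v w : α → ZMod 2) : dotB v w = ∑ i, v i * w i := by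
  simp [dotB, Matrix.toBilin'_apply', dotProduct]

theorem dotB_nondegenerate : (dotB (α := α)).Nondegenerate := by
  unfold dotB
  rw [LinearMap.BilinForm.nondegenerate_toBilin'_iff_det_ne_zero]
  simp

/-- a self-orthogonal code of dimension 12 and length 24 contains every word orthogonal to it -/
theorem mem_of_orth {C : Submodule (ZMod 2) (α → ZMod 2)} (hC : IsGolayLike C) (v : α → ZMod 2)
    (hv : ∀ c ∈ C, ∑ i, v i * c i = 0) : v ∈ C := by
  have hfr := LinearMap.BilinForm.finrank_orthogonal (dotB_nondegenerate (α := α)) C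
  have hV : Module.finrank (ZMod 2) (α → ZMod 2) = 24 := by
    rw [Module.finrank_fintype_fun_eq_card]; exact hC.card24
  have hle : C ≤ (dotB (α := α)).orthogonal C := by
    intro c hc
    rw [LinearMap.BilinForm.mem_orthogonal_iff]
    intro n hn
    show dotB n c = 0
    rw [dotB_apply]
    exact hC.orth n hn c hc
  have heq : C = (dotB (α := α)).orthogonal C :=
    Submodule.eq_of_le_of_finrank_eq hle (by rw [hfr, hV, hC.dim])
  rw [heq, LinearMap.BilinForm.mem_orthogonal_iff]
  intro n hn
  show dotB n v = 0
  rw [dotB_apply]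
  have := hv n hn
  simpa [mul_comm] using this

theorem ind_symmDiff (s t : Finset α) : ind (symmDiff s t) = ind s + ind t := by
  rw [← supp_ind s, ← supp_ind t, ← supp_add, ind_supp, supp_ind, supp_ind]

omit [Fintype α] [DecidableEq α] in
theorem add_add_cancel_right' (u v : α → ZMod 2) : u + v + v = u := by
  funext i
  simp only [Pi.add_apply]
  rw [add_assoc, CharTwo.add_self_eq_zero, add_zero]

end abstract

/-- the functional `c ↦ ⟨ind s, c⟩` -/
noncomputable def dotS (s : Finset GolayPt) : (GolayPt → ZMod 2) →ₗ[ZMod 2] ZMod 2 := dotB (ind s)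

theorem dotS_apply (s : Finset GolayPt) (c : GolayPt → ZMod 2) : dotS s c = ∑ i, ind s i * c i :=
  dotB_apply _ _

theorem dotS_ind (s o : Finset GolayPt) : dotS s (ind o) = ((s ∩ o).card : ZMod 2) := by
  rw [dotS_apply, dot_eq_card_inter, supp_ind, supp_ind]

theorem dotS_ind_eq_zero_iff (s o : Finset GolayPt) : dotS s (ind o) = 0 ↔ Even (s ∩ o).card := by
  rw [dotS_ind]
  exact ZMod.natCast_eq_zero_iff_even

theorem dotS_symmDiff (s t : Finset GolayPt) (c : GolayPt → ZMod 2) :
    dotS (symmDiff s t) c = dotS s c + dotS t c := by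
  unfold dotS
  rw [ind_symmDiff, map_add, LinearMap.add_apply]

/-- a set whose functional kills the code is (the support of) a code word -/
theorem mem_of_ker (s : Finset GolayPt) (h : golayCode ≤ LinearMap.ker (dotS s)) :
    ind s ∈ golayCode := by
  apply mem_of_orth golayLike
  intro c hc
  have := h hc
  rwa [LinearMap.mem_ker, dotS_apply] at this

/-- a functional killing all octads kills the code -/
theorem ker_of_octads (f : (GolayPt → ZMod 2) →ₗ[ZMod 2] ZMod 2)
    (h : ∀ o ∈ octads, f (ind o) = 0) : golayCode ≤ LinearMap.ker f := by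
  rw [← span_octads golayLike, Submodule.span_le]
  rintro w ⟨hw, h8⟩
  have : supp w ∈ octads := (Cfsg.Agent.Lib.Helper93_GolayConcrete.mem_octads_iff _).2 ⟨w, hw, rfl, h8⟩
  show w ∈ LinearMap.ker f
  rw [LinearMap.mem_ker, ← ind_supp w]
  exact h _ this

/-- a set meeting evenly every octad through a point `r` is a code word -/
theorem lemmaB (r : GolayPt) (s : Finset GolayPt)
    (h : ∀ o ∈ octads, r ∈ o → Even (s ∩ o).card) : ind s ∈ golayCode := by
  apply mem_of_ker
  apply ker_of_octads
  intro o ho
  by_cases hr : r ∈ o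
  · exact (dotS_ind_eq_zero_iff s o).2 (h o ho hr)
  · obtain ⟨t, hto, ht⟩ := Finset.exists_subset_card_eq
      (show 4 ≤ o.card by rw [octad_card ho]; norm_num)
    have hrt : r ∉ t := fun h' => hr (hto h')
    obtain ⟨o', ⟨ho', hso'⟩, -⟩ := Cfsg.Agent.S0363.result.2 (insert r t)
      (by rw [card_insert_of_notMem hrt, ht])
    have hro' : r ∈ o' := hso' (mem_insert_self _ _)
    have hne : o ≠ o' := fun e => hr (e ▸ hro')
    have h4 : 4 ≤ (o ∩ o').card := by
      calc 4 = t.card := ht.symm
        _ ≤ _ := card_le_card (subset_inter hto (fun x hx => hso' (mem_insert_of_mem hx)))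
    have hi : (o ∩ o').card = 4 := by
      rcases octads_inter ho ho' hne with h | h | h <;> omega
    have hsum : ind (symmDiff o o') = ind o + ind o' := ind_symmDiff o o'
    have hmem : ind (symmDiff o o') ∈ golayCode := by
      rw [hsum]; exact add_mem (ind_mem_of_octad ho) (ind_mem_of_octad ho')
    have hcard : (symmDiff o o').card = 8 := by
      have := Cfsg.Agent.Lib.Helper93_Code24.card_symmDiff_add o o'
      rw [octad_card ho, octad_card ho', hi] at this
      omega
    have ho'' : symmDiff o o' ∈ octads := octad_of_ind hmem hcard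
    have hro'' : r ∈ symmDiff o o' := by
      rw [Finset.mem_symmDiff]; right; exact ⟨hro', hr⟩
    have e1 := (dotS_ind_eq_zero_iff s o').2 (h o' ho' hro')
    have e2 := (dotS_ind_eq_zero_iff s _).2 (h _ ho'' hro'')
    have e3 : ind o = ind (symmDiff o o') + ind o' := by
      rw [hsum, add_add_cancel_right']
    rw [e3, map_add, e1, e2, add_zero]

/-! ### Twelve octads spanning the code: eleven through `none` and `some 0`, one through `none` only -/

def octPacked : ℕ := 413181536409037026557602477457034263677360570233726531193176193845848665810535654576129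

def octMask (j : ℕ) : ℕ := (octPacked >>> (24 * j)) &&& 0xFFFFFF

def recPacked : ℕ := 16734407653077476759586878006660915894693889

def recO (i : ℕ) : ℕ := (recPacked >>> (12 * i)) &&& 0xFFF

def selO (r : ℕ) : ℕ := xorFold (fun k => ((r >>> k) &&& 1) * octMask k) 12

theorem selO_rec : ∀ i : Fin 12, selO (recO i.val) = basisMask i.val := by
  decide +kernel

theorem octMask_spec : ∀ j : Fin 12, isCode (octMask j.val) = true ∧ pop (octMask j.val) = 8 ∧
    (octMask j.val).testBit 23 = true ∧ (octMask j.val).testBit 0 = decide (j.val < 11) := by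
  decide +kernel

theorem octMask_lt (j : ℕ) : octMask j < 2 ^ 24 := by
  unfold octMask
  exact lt_of_le_of_lt Nat.and_le_right (by norm_num)

theorem wordOf_eq_ind_dec (n : ℕ) : wordOf n = ind (dec n) := by
  rw [← support₂_wordOf, support₂_eq_supp, ind_supp]

theorem dec_octMask_mem (j : ℕ) (hj : j < 12) : dec (octMask j) ∈ octads := by
  rw [Cfsg.Agent.Lib.Helper26_Golay.mem_octads_iff, enc_dec _ (octMask_lt j), mem_octList_iff]
  exact ⟨(octMask_spec ⟨j, hj⟩).1, (octMask_spec ⟨j, hj⟩).2.1⟩

theorem none_mem_dec_octMask (j : ℕ) (hj : j < 12) : (none : GolayPt) ∈ dec (octMask j) := by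
  rw [mem_dec]
  exact (octMask_spec ⟨j, hj⟩).2.2.1

theorem zero_mem_dec_octMask (j : ℕ) (hj : j < 12) :
    (some 0 : GolayPt) ∈ dec (octMask j) ↔ j < 11 := by
  rw [mem_dec]
  have h := (octMask_spec ⟨j, hj⟩).2.2.2
  have hi : idx (some 0 : GolayPt) = 0 := by decide
  rw [hi, h]
  simp

theorem golayCode_le_span :
    golayCode ≤ Submodule.span (ZMod 2) (Set.range fun j : Fin 12 => wordOf (octMask j.val)) := by
  intro x hx
  have h : reenc x = x := golayCode_le_eqLocus hx
  rw [← h, reenc_apply]
  apply Submodule.sum_mem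
  intro i hi
  apply Submodule.smul_mem
  have hi' : i < 12 := Finset.mem_range.mp hi
  have := selO_rec ⟨i, hi'⟩
  simp only at this
  rw [← this]
  unfold selO
  rw [wordOf_xorFold]
  apply Submodule.sum_mem
  intro k hk
  rw [wordOf_bit_mul]
  split_ifs
  · exact Submodule.subset_span ⟨⟨k, Finset.mem_range.mp hk⟩, rfl⟩
  · exact Submodule.zero_mem _

theorem ker_of_octMask (f : (GolayPt → ZMod 2) →ₗ[ZMod 2] ZMod 2)
    (h : ∀ j, j < 12 → f (ind (dec (octMask j))) = 0) : golayCode ≤ LinearMap.ker f := by
  refine le_trans golayCode_le_span ?_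
  rw [Submodule.span_le]
  rintro _ ⟨j, rfl⟩
  show wordOf (octMask j.val) ∈ LinearMap.ker f
  rw [LinearMap.mem_ker, wordOf_eq_ind_dec]
  exact h j.val j.2

theorem dotS_pair (c : GolayPt → ZMod 2) :
    dotS ({none, some 0} : Finset GolayPt) c = c none + c (some 0) := by
  rw [dotS_apply]
  simp only [ind, ite_mul, one_mul, zero_mul, Finset.sum_ite_mem, Finset.univ_inter]
  rw [Finset.sum_pair (by decide)]

/-- a set meeting evenly every octad through `none` and `some 0` is a code word, possibly after adding these
two points -/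
theorem lemmaC (s : Finset GolayPt)
    (h : ∀ o ∈ octads, (none : GolayPt) ∈ o → (some 0 : GolayPt) ∈ o → Even (s ∩ o).card) :
    ind s ∈ golayCode ∨ ind (symmDiff s ({none, some 0} : Finset GolayPt)) ∈ golayCode := by
  have h0 : ∀ j, j < 11 → dotS s (ind (dec (octMask j))) = 0 := by
    intro j hj
    exact (dotS_ind_eq_zero_iff s _).2 (h _ (dec_octMask_mem j (by omega))
      (none_mem_dec_octMask j (by omega)) ((zero_mem_dec_octMask j (by omega)).2 hj))
  have hp : ∀ j, j < 12 → dotS ({none, some 0} : Finset GolayPt) (ind (dec (octMask j))) =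
      if j < 11 then 0 else 1 := by
    intro j hj
    rw [dotS_pair]
    have h1 : ind (dec (octMask j)) none = 1 := by
      rw [← mem_supp, supp_ind]; exact none_mem_dec_octMask j hj
    rw [h1]
    split_ifs with hj'
    · have h2 : ind (dec (octMask j)) (some 0) = 1 := by
        rw [← mem_supp, supp_ind]; exact (zero_mem_dec_octMask j hj).2 hj'
      rw [h2]; decide
    · have h2 : ind (dec (octMask j)) (some 0) = 0 := by
        rw [← notMem_supp, supp_ind]; exact fun h' => hj' ((zero_mem_dec_octMask j hj).1 h')
      rw [h2]; decide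
  rcases (by decide : ∀ x : ZMod 2, x = 0 ∨ x = 1) (dotS s (ind (dec (octMask 11)))) with hl | hl
  · left
    apply mem_of_ker
    apply ker_of_octMask
    intro j hj
    by_cases hj' : j < 11
    · exact h0 j hj'
    · have : j = 11 := by omega
      rw [this]; exact hl
  · right
    apply mem_of_ker
    apply ker_of_octMask
    intro j hj
    rw [dotS_symmDiff, hp j hj]
    by_cases hj' : j < 11
    · rw [h0 j hj', if_pos hj', add_zero]
    · have : j = 11 := by omega
      rw [if_neg hj', this, hl]; decide

end Cfsg.Agent.Lib.Helper93_SteinerA
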