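/-
Helper library (helper93): general facts on Steiner systems and isomorphisms of set systems, and the embedding of
any S(4,7,23) into the octads through a point (from the uniqueness of S(3,6,22), helper41, and the linear algebra
of `Helper93_SteinerA`).
-/
import Mathlib
import Cfsg.Agent.Lib.Helper93_SteinerA
import Cfsg.Agent.Lib.Helper41_S22a
import Cfsg.Agent.Lib.Helper41_S22b
import Cfsg.Agent.Lib.Helper41_S22c
import Cfsg.Agent.Lib.Helper41_S22e
import Cfsg.Agent.S0355
import Cfsg.Agent.S0363
import Cfsg.Agent.S0369
import Cfsg.Agent.S0372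

set_option autoImplicit false
set_option linter.unusedSectionVars false

namespace Cfsg.Agent.Lib.Helper93_SteinerB

open Cfsg Finset
open Cfsg.Agent.Lib.Helper93_Code24 Cfsg.Agent.Lib.Helper93_GolayConcrete
open Cfsg.Agent.Lib.Helper93_SteinerA
open Cfsg.Agent.Lib.Helper41_S22a Cfsg.Agent.Lib.Helper41_S22b Cfsg.Agent.Lib.Helper41_S22c
open Cfsg.Agent.Lib.Helper41_S22e

section general

variable {α β γ : Type*} [DecidableEq α] [DecidableEq β] [DecidableEq γ]

/-- a Steiner system contained in another one with the same parameters is equal to it -/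
theorem steiner_eq_of_subset {t k : ℕ} {S T : Set (Finset α)} (hS : IsSteinerSystem t k S)
    (hT : IsSteinerSystem t k T) (htk : t ≤ k) (h : S ⊆ T) : S = T := by
  apply Set.Subset.antisymm h
  intro b hb
  obtain ⟨s, hsb, hs⟩ := Finset.exists_subset_card_eq (show t ≤ b.card by rw [hT.1 b hb]; exact htk)
  obtain ⟨c, ⟨hc, hsc⟩, -⟩ := hS.2 s hs
  obtain ⟨d, -, hd⟩ := hT.2 s hs
  have h1 := hd b ⟨hb, hsb⟩
  have h2 := hd c ⟨h hc, hsc⟩
  rw [h1, ← h2]; exact hc

/-- the image of a Steiner system under a bijection is a Steiner system -/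
theorem steiner_image {t k : ℕ} {B : Set (Finset α)} (e : α ≃ β) (hB : IsSteinerSystem t k B) :
    IsSteinerSystem t k ((fun b : Finset α => b.image e) '' B) := by
  constructor
  · rintro _ ⟨b, hb, rfl⟩
    rw [Finset.card_image_of_injective _ e.injective]; exact hB.1 b hb
  · intro s hs
    have hs' : (s.image e.symm).card = t := by
      rw [Finset.card_image_of_injective _ e.symm.injective, hs]
    obtain ⟨b, ⟨hb, hsb⟩, huniq⟩ := hB.2 _ hs'
    refine ⟨b.image e, ⟨⟨b, hb, rfl⟩, ?_⟩, ?_⟩
    · intro x hx
      rw [Finset.mem_image]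
      exact ⟨e.symm x, hsb (Finset.mem_image_of_mem _ hx), e.apply_symm_apply x⟩
    · rintro _ ⟨⟨c, hc, rfl⟩, hsc⟩
      have : c = b := by
        apply huniq c ⟨hc, ?_⟩
        intro x hx
        obtain ⟨y, hy, rfl⟩ := Finset.mem_image.mp hx
        have := hsc hy
        obtain ⟨z, hz, hzy⟩ := Finset.mem_image.mp this
        rw [← hzy, e.symm_apply_apply]; exact hz
      rw [this]

theorem iso_symm {B : Set (Finset α)} {B' : Set (Finset β)} (h : SetSystemIso B B') :
    SetSystemIso B' B := by
  obtain ⟨e, he⟩ := h
  refine ⟨e.symm, ?_⟩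
  rw [← he, Set.image_image]
  have : (fun x : Finset α => (x.image e).image e.symm) = id := by
    funext x
    rw [Finset.image_image]
    have : (⇑e.symm ∘ ⇑e) = id := by funext y; simp
    rw [this, Finset.image_id]; rfl
  rw [this, Set.image_id]

theorem iso_trans {B : Set (Finset α)} {B' : Set (Finset β)} {B'' : Set (Finset γ)}
    (h : SetSystemIso B B') (h' : SetSystemIso B' B'') : SetSystemIso B B'' := by
  obtain ⟨e, he⟩ := h
  obtain ⟨e', he'⟩ := h'
  refine ⟨e.trans e', ?_⟩
  rw [← he', ← he, Set.image_image]
  congr 1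
  funext x
  rw [Finset.image_image]
  rfl

/-- a block-preserving bijection between Steiner systems with the same parameters is an isomorphism -/
theorem iso_of_forall {t k : ℕ} {B : Set (Finset α)} {B' : Set (Finset β)} (hB : IsSteinerSystem t k B)
    (hB' : IsSteinerSystem t k B') (htk : t ≤ k) (e : α ≃ β) (h : ∀ b ∈ B, b.image e ∈ B') :
    (fun b : Finset α => b.image e) '' B = B' := by
  apply steiner_eq_of_subset (steiner_image e hB) hB' htk
  rintro _ ⟨b, hb, rfl⟩
  exact h b hb

end general

section derived

variable {α : Type*} [Fintype α] [DecidableEq α]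

theorem derived_steiner' {t k : ℕ} {B : Set (Finset α)} (hB : IsSteinerSystem (t + 1) (k + 1) B) (p : α) :
    IsSteinerSystem t k (derived B p) := by
  constructor
  · intro l hl
    have h := hB.1 _ hl
    rw [card_up] at h
    omega
  · intro s hs
    have h3 : (up p s).card = t + 1 := by rw [card_up, hs]
    obtain ⟨b, ⟨hb, hsb⟩, huniq⟩ := hB.2 _ h3
    have hpb : p ∈ b := hsb (self_mem_up p s)
    refine ⟨down p b, ⟨?_, ?_⟩, ?_⟩
    · show up p (down p b) ∈ B
      rw [up_down hpb]
      exact hb
    · intro y hy
      rw [mem_down]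
      exact hsb ((coe_mem_up y).mpr hy)
    · rintro l ⟨hl, hsl⟩
      have := huniq (up p l) ⟨hl, up_subset_up.mpr hsl⟩
      rw [← this, down_up]

theorem card_pts' {n : ℕ} (hα : Fintype.card α = n + 1) (p : α) : Fintype.card (Pts p) = n := by
  have h := Fintype.card_congr (Equiv.optionSubtypeNe p)
  rw [Fintype.card_option, hα] at h
  have h' : Fintype.card (Pts p) + 1 = n + 1 := h
  omega

theorem down_mem_derived {B : Set (Finset α)} {p : α} {b : Finset α} (hb : b ∈ B) (hp : p ∈ b) :
    down p b ∈ derived B p := by
  show up p (down p b) ∈ B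
  rw [up_down hp]; exact hb

end derived

/-- the standard S(4,7,23): the octads through `none` with that point removed -/
abbrev std23 : Set (Finset (Pts (none : GolayPt))) := derived octads none

theorem std23_steiner : IsSteinerSystem 4 7 std23 := derived_steiner' Cfsg.Agent.S0363.result none

/-- the standard S(3,6,22) -/
abbrev std22 : Set (Finset (Pts2 (none : GolayPt) (some 0))) := derived2 octads none (some 0)

theorem std22_steiner : IsSteinerSystem 3 6 std22 :=
  derived2_steiner (by decide) Cfsg.Agent.S0363.result

section emb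

variable {α : Type*} [Fintype α] [DecidableEq α]

/-- embedding of a system of sets into the octads through a point `r` -/
def Emb (B : Set (Finset α)) (F : α → GolayPt) (r : GolayPt) : Prop :=
  Function.Injective F ∧ (∀ x, F x ≠ r) ∧ ∀ b ∈ B, insert r (b.image F) ∈ octads

theorem Emb.comp {B : Set (Finset α)} {F : α → GolayPt} {r : GolayPt} (h : Emb B F r)
    {g : Equiv.Perm GolayPt} (hg : g ∈ M24) : Emb B (fun x => g (F x)) (g r) := by
  refine ⟨g.injective.comp h.1, fun x hx => h.2.1 x (g.injective hx), fun b hb => ?_⟩
  have h1 : insert (g r) (b.image fun x => g (F x)) = (insert r (b.image F)).image g := by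
    rw [Finset.image_insert, Finset.image_image]; rfl
  rw [h1]
  have hg' : g ∈ setSystemAut octads := by rw [← Cfsg.Agent.S0369.result]; exact hg
  exact image_mem_of_mem_aut hg' (h.2.2 b hb)

/-- a system embedded in the octads through `none` is isomorphic to the standard one -/
theorem Emb.iso_std {B : Set (Finset α)} {F : α → GolayPt} (hα : Fintype.card α = 23)
    (hB : IsSteinerSystem 4 7 B) (h : Emb B F none) : SetSystemIso B std23 := by
  have hcard : Fintype.card α = Fintype.card (Pts (none : GolayPt)) := by
    rw [hα, card_pts' (show Fintype.card GolayPt = 23 + 1 by decide)]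
  have hinj : Function.Injective (fun x : α => (⟨F x, h.2.1 x⟩ : Pts (none : GolayPt))) := by
    intro x y hxy
    exact h.1 (congrArg Subtype.val hxy)
  let e : α ≃ Pts (none : GolayPt) :=
    Equiv.ofBijective _ ((Fintype.bijective_iff_injective_and_card _).2 ⟨hinj, hcard⟩)
  refine ⟨e, iso_of_forall hB std23_steiner (by norm_num) e ?_⟩
  intro b hb
  show up none (b.image e) ∈ octads
  have : up none (b.image e) = insert none (b.image F) := by
    rw [up, Finset.map_eq_image, Finset.image_image]
    rfl
  rw [this]
  exact h.2.2 b hb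

end emb

end Cfsg.Agent.Lib.Helper93_SteinerB
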