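/-
Helper library (helper93): every S(4,7,23) is isomorphic to the standard one (octads through `none`), and every
S(5,8,24) is isomorphic to the octad system.
-/
import Mathlib
import Cfsg.Agent.Lib.Helper93_SteinerB
import Cfsg.Agent.S0352

set_option autoImplicit false
set_option linter.unusedSectionVars false

namespace Cfsg.Agent.Lib.Helper93_SteinerC

open Cfsg Finset
open Cfsg.Agent.Lib.Helper93_Code24 Cfsg.Agent.Lib.Helper93_GolayConcrete
open Cfsg.Agent.Lib.Helper93_SteinerA Cfsg.Agent.Lib.Helper93_SteinerB
open Cfsg.Agent.Lib.Helper41_S22a Cfsg.Agent.Lib.Helper41_S22b Cfsg.Agent.Lib.Helper41_S22c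
open Cfsg.Agent.Lib.Helper41_S22e

section T23

variable {α : Type*} [Fintype α] [DecidableEq α]

/-- the map sending `p` to `z` and the other points through `e` -/
def extMap (p : α) (e : Pts p ≃ Pts2 (none : GolayPt) (some 0)) (z : GolayPt) : α → GolayPt :=
  fun x => if h : x = p then z else ((e ⟨x, h⟩ : Pts2 (none : GolayPt) (some 0)) : GolayPt)

variable {p : α} {e : Pts p ≃ Pts2 (none : GolayPt) (some 0)} {z : GolayPt}

theorem extMap_self : extMap p e z p = z := dif_pos rfl

theorem extMap_coe (y : Pts p) : extMap p e z (y : α) = ((e y : Pts2 (none : GolayPt) (some 0)) : GolayPt) := by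
  rw [extMap, dif_neg y.2]

theorem extMap_of_ne {x : α} (h : x ≠ p) :
    extMap p e z x = ((e ⟨x, h⟩ : Pts2 (none : GolayPt) (some 0)) : GolayPt) := by
  rw [extMap, dif_neg h]

theorem extMap_injective (hz : z = none ∨ z = some 0) : Function.Injective (extMap p e z) := by
  intro x y hxy
  by_cases hx : x = p
  · by_cases hy : y = p
    · rw [hx, hy]
    · exfalso
      rw [hx, extMap_self, extMap_of_ne hy] at hxy
      rcases hz with hz | hz
      · exact (e ⟨y, hy⟩).2.1 (hxy.symm.trans hz)
      · exact (e ⟨y, hy⟩).2.2 (hxy.symm.trans hz)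
  · by_cases hy : y = p
    · exfalso
      rw [hy, extMap_self, extMap_of_ne hx] at hxy
      rcases hz with hz | hz
      · exact (e ⟨x, hx⟩).2.1 (hxy.trans hz)
      · exact (e ⟨x, hx⟩).2.2 (hxy.trans hz)
    · rw [extMap_of_ne hx, extMap_of_ne hy] at hxy
      have := e.injective (Subtype.ext hxy)
      exact congrArg Subtype.val this

theorem extMap_off_ne {b : Finset α} (hp : p ∉ b) {x : GolayPt} (hx : x ∈ b.image (extMap p e z)) :
    x ≠ none ∧ x ≠ some 0 := by
  obtain ⟨y, hy, rfl⟩ := Finset.mem_image.mp hx
  have hyp : y ≠ p := fun h => hp (h ▸ hy)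
  rw [extMap_of_ne hyp]
  exact (e ⟨y, hyp⟩).2

theorem image_extMap_off {b : Finset α} (hp : p ∉ b) (z z' : GolayPt) :
    b.image (extMap p e z) = b.image (extMap p e z') := by
  apply Finset.image_congr
  intro y hy
  have hyp : y ≠ p := fun h => hp (h ▸ hy)
  rw [extMap_of_ne hyp, extMap_of_ne hyp]

theorem image_extMap_up (l : Finset (Pts p)) :
    (up p l).image (extMap p e z) = insert z ((l.image e).map (emb2 none (some 0))) := by
  ext x
  rw [Finset.mem_image, Finset.mem_insert, Finset.mem_map]
  constructor
  · rintro ⟨y, hy, rfl⟩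
    rw [mem_up] at hy
    rcases hy with rfl | ⟨h, hy⟩
    · exact Or.inl extMap_self
    · right
      refine ⟨e ⟨y, h⟩, Finset.mem_image_of_mem _ hy, ?_⟩
      rw [extMap_of_ne h]; rfl
  · rintro (rfl | ⟨y', hy', rfl⟩)
    · exact ⟨p, self_mem_up p l, extMap_self⟩
    · obtain ⟨y, hy, rfl⟩ := Finset.mem_image.mp hy'
      exact ⟨(y : α), (coe_mem_up y).mpr hy, extMap_coe y⟩

variable {B : Set (Finset α)}

/-- blocks through `p` go to octads through `none` and `some 0` -/
theorem through_mem (he : (fun b : Finset (Pts p) => b.image e) '' derived B p = std22)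
    {b : Finset α} (hb : b ∈ B) (hp : p ∈ b) :
    insert none (b.image (extMap p e (some 0))) ∈ octads ∧
      insert (some 0) (b.image (extMap p e none)) ∈ octads := by
  have h1 : (down p b).image e ∈ std22 := by
    rw [← he]; exact ⟨down p b, down_mem_derived hb hp, rfl⟩
  have h2 : up2 none (some 0) ((down p b).image e) ∈ octads := h1
  rw [up2] at h2
  constructor
  · rw [← up_down hp, image_extMap_up]; exact h2
  · rw [← up_down hp, image_extMap_up, Finset.insert_comm]; exact h2

/-- the image of a block off `p` meets every octad through `none`, `some 0` in 1 or 3 points -/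
theorem off_inter (hα : Fintype.card α = 23) (hB : IsSteinerSystem 4 7 B)
    (he : (fun b : Finset (Pts p) => b.image e) '' derived B p = std22)
    {b : Finset α} (hb : b ∈ B) (hp : p ∉ b) {o : Finset GolayPt} (ho : o ∈ octads)
    (h1 : (none : GolayPt) ∈ o) (h2 : (some 0 : GolayPt) ∈ o) :
    (b.image (extMap p e (some 0)) ∩ o).card = 1 ∨ (b.image (extMap p e (some 0)) ∩ o).card = 3 := by
  have hl0 : down2 none (some 0) o ∈ std22 := by
    show up2 none (some 0) (down2 none (some 0) o) ∈ octads
    rw [up2_down2 h1 h2]; exact ho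
  rw [← he] at hl0
  obtain ⟨l, hl, hle⟩ := hl0
  have hc : up p l ∈ B := hl
  have hne : b ≠ up p l := fun h => hp (h ▸ self_mem_up p l)
  have key : b.image (extMap p e (some 0)) ∩ o = (b ∩ up p l).image (extMap p e (some 0)) := by
    ext x
    rw [Finset.mem_inter, Finset.mem_image, Finset.mem_image]
    constructor
    · rintro ⟨⟨y, hy, rfl⟩, hxo⟩
      refine ⟨y, Finset.mem_inter.mpr ⟨hy, ?_⟩, rfl⟩
      have hyp : y ≠ p := fun h => hp (h ▸ hy)
      rw [extMap_of_ne hyp] at hxo
      have h3 : e ⟨y, hyp⟩ ∈ down2 none (some 0) o := mem_down2.mpr hxo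
      rw [← hle] at h3
      obtain ⟨y', hy', hyy⟩ := Finset.mem_image.mp h3
      have := e.injective hyy
      rw [this] at hy'
      exact (coe_mem_up (⟨y, hyp⟩ : Pts p)).mpr hy'
    · rintro ⟨y, hy, rfl⟩
      rw [Finset.mem_inter] at hy
      refine ⟨⟨y, hy.1, rfl⟩, ?_⟩
      have hyp : y ≠ p := fun h => hp (h ▸ hy.1)
      rw [extMap_of_ne hyp]
      have h3 : (⟨y, hyp⟩ : Pts p) ∈ l := (coe_mem_up (⟨y, hyp⟩ : Pts p)).mp hy.2
      have h4 : e ⟨y, hyp⟩ ∈ down2 none (some 0) o := by
        rw [← hle]; exact Finset.mem_image_of_mem _ h3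
      exact mem_down2.mp h4
  rw [key, Finset.card_image_of_injective _ (extMap_injective (Or.inr rfl))]
  exact Cfsg.Agent.S0355.result hα hB hb hc hne

/-- the image of a block off `p` completes to an octad by `none` or by `some 0` -/
theorem off_type (hα : Fintype.card α = 23) (hB : IsSteinerSystem 4 7 B)
    (he : (fun b : Finset (Pts p) => b.image e) '' derived B p = std22)
    {b : Finset α} (hb : b ∈ B) (hp : p ∉ b) :
    insert none (b.image (extMap p e (some 0))) ∈ octads ∨
      insert (some 0) (b.image (extMap p e (some 0))) ∈ octads := by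
  set H := b.image (extMap p e (some 0)) with hH
  have hn : (none : GolayPt) ∉ H := fun h => (extMap_off_ne hp h).1 rfl
  have hz : (some 0 : GolayPt) ∉ H := fun h => (extMap_off_ne hp h).2 rfl
  have hcard : H.card = 7 := by
    rw [hH, Finset.card_image_of_injective _ (extMap_injective (Or.inr rfl))]
    exact hB.1 b hb
  have hev : ∀ o ∈ octads, (none : GolayPt) ∈ o → (some 0 : GolayPt) ∈ o →
      Even (insert none H ∩ o).card := by
    intro o ho h1 h2
    rw [Finset.insert_inter_of_mem h1, Finset.card_insert_of_notMem
      (fun h => hn (Finset.mem_inter.mp h).1)]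
    rcases off_inter hα hB he hb hp ho h1 h2 with h | h <;> rw [h] <;> decide
  have hsd : symmDiff (insert none H) ({none, some 0} : Finset GolayPt) = insert (some 0) H := by
    ext x
    rw [Finset.mem_symmDiff, Finset.mem_insert, Finset.mem_insert, Finset.mem_insert,
      Finset.mem_singleton]
    constructor
    · rintro (⟨h1 | h1, h2⟩ | ⟨h1 | h1, h2⟩)
      · exact absurd (Or.inl h1) h2
      · exact Or.inr h1
      · exact absurd (Or.inl h1) h2
      · exact Or.inl h1
    · rintro (h1 | h1)
      · right
        refine ⟨Or.inr h1, ?_⟩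
        rintro (h2 | h2)
        · rw [h1] at h2; exact absurd h2 (by decide)
        · rw [h1] at h2; exact hz h2
      · left
        refine ⟨Or.inr h1, ?_⟩
        rintro (h2 | h2)
        · rw [h2] at h1; exact hn h1
        · rw [h2] at h1; exact hz h1
  rcases lemmaC (insert none H) hev with h | h
  · left
    exact octad_of_ind h (by rw [Finset.card_insert_of_notMem hn, hcard])
  · right
    rw [hsd] at h
    exact octad_of_ind h (by rw [Finset.card_insert_of_notMem hz, hcard])

/-- two blocks off `p` cannot complete by different points -/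
theorem off_no_mix (hα : Fintype.card α = 23) (hB : IsSteinerSystem 4 7 B)
    {b b' : Finset α} (hb : b ∈ B) (hp : p ∉ b) (hb' : b' ∈ B) (hp' : p ∉ b')
    (h1 : insert none (b.image (extMap p e (some 0))) ∈ octads)
    (h2 : insert (some 0) (b'.image (extMap p e (some 0))) ∈ octads) : False := by
  have hinj : Function.Injective (extMap p e (some 0)) := extMap_injective (Or.inr rfl)
  have key : insert none (b.image (extMap p e (some 0))) ∩
      insert (some 0) (b'.image (extMap p e (some 0))) = (b ∩ b').image (extMap p e (some 0)) := by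
    rw [Finset.image_inter _ _ hinj]
    ext x
    rw [Finset.mem_inter, Finset.mem_insert, Finset.mem_insert, Finset.mem_inter]
    constructor
    · rintro ⟨h3 | h3, h4 | h4⟩
      · rw [h3] at h4; exact absurd h4 (by decide)
      · rw [h3] at h4; exact absurd rfl (extMap_off_ne hp' h4).1
      · rw [h4] at h3; exact absurd rfl (extMap_off_ne hp h3).2
      · exact ⟨h3, h4⟩
    · rintro ⟨h3, h4⟩
      exact ⟨Or.inr h3, Or.inr h4⟩
  have hev := octads_inter_even h1 h2
  rw [key, Finset.card_image_of_injective _ hinj] at hev
  by_cases hbb : b = b'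
  · rw [hbb, Finset.inter_self, hB.1 b' hb'] at hev
    exact absurd hev (by decide)
  · rcases Cfsg.Agent.S0355.result hα hB hb hb' hbb with h | h <;> rw [h] at hev <;>
      exact absurd hev (by decide)

/-- every S(4,7,23) embeds into the octads through `none` -/
theorem exists_emb23 (hα : Fintype.card α = 23) (hB : IsSteinerSystem 4 7 B) :
    ∃ F : α → GolayPt, Emb B F none := by
  obtain ⟨p⟩ : Nonempty α := by
    rw [← Fintype.card_pos_iff, hα]; norm_num
  have hD : IsSteinerSystem 3 6 (derived B p) := derived_steiner' hB p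
  obtain ⟨e, he⟩ := steiner22_unique (card_pts' hα p)
    (card_pts2 (show Fintype.card GolayPt = 22 + 2 by decide) (by decide)) hD std22_steiner
  by_cases hZ : ∃ b ∈ B, p ∉ b ∧ insert (some 0) (b.image (extMap p e (some 0))) ∈ octads
  · obtain ⟨b', hb', hp', hz'⟩ := hZ
    have hE : Emb B (extMap p e none) (some 0) := by
      refine ⟨extMap_injective (Or.inl rfl), ?_, ?_⟩
      · intro x
        by_cases hx : x = p
        · rw [hx, extMap_self]; decide
        · rw [extMap_of_ne hx]; exact (e ⟨x, hx⟩).2.2
      · intro b hb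
        by_cases hp : p ∈ b
        · exact (through_mem he hb hp).2
        · rw [image_extMap_off hp none (some 0)]
          rcases off_type hα hB he hb hp with h | h
          · exact absurd (off_no_mix hα hB hb hp hb' hp' h hz') id
          · exact h
    have := hE.comp Cfsg.Agent.S0372.result
    exact ⟨_, this⟩
  · refine ⟨extMap p e (some 0), extMap_injective (Or.inr rfl), ?_, ?_⟩
    · intro x
      by_cases hx : x = p
      · rw [hx, extMap_self]; decide
      · rw [extMap_of_ne hx]; exact (e ⟨x, hx⟩).2.1
    · intro b hb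
      by_cases hp : p ∈ b
      · exact (through_mem he hb hp).1
      · rcases off_type hα hB he hb hp with h | h
        · exact h
        · exact absurd ⟨b, hb, hp, h⟩ hZ

/-- every S(4,7,23) is isomorphic to the standard one -/
theorem iso_std23 (hα : Fintype.card α = 23) (hB : IsSteinerSystem 4 7 B) : SetSystemIso B std23 := by
  obtain ⟨F, hF⟩ := exists_emb23 hα hB
  exact hF.iso_std hα hB

end T23

section T24

variable {α : Type*} [Fintype α] [DecidableEq α] {B : Set (Finset α)}

/-- every S(5,8,24) is isomorphic to the octad system -/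
theorem iso_octads (hα : Fintype.card α = 24) (hB : IsSteinerSystem 5 8 B) : SetSystemIso B octads := by
  obtain ⟨p⟩ : Nonempty α := by
    rw [← Fintype.card_pos_iff, hα]; norm_num
  have hD : IsSteinerSystem 4 7 (derived B p) := derived_steiner' hB p
  obtain ⟨e, he⟩ := iso_std23 (card_pts' hα p) hD
  refine ⟨extend p none e, iso_of_forall hB Cfsg.Agent.S0363.result (by norm_num) _ ?_⟩
  intro b hb
  by_cases hp : p ∈ b
  · have h1 : (down p b).image e ∈ std23 := by
      rw [← he]; exact ⟨down p b, down_mem_derived hb hp, rfl⟩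
    rw [← up_down hp, image_extend_up]
    exact h1
  · have hcard : (b.image (extend p none e)).card = 8 := by
      rw [Finset.card_image_of_injective _ (extend p none e).injective]; exact hB.1 b hb
    refine octad_of_ind (lemmaB none _ ?_) hcard
    intro o ho hno
    have hl0 : down none o ∈ std23 := by
      show up none (down none o) ∈ octads
      rw [up_down hno]; exact ho
    rw [← he] at hl0
    obtain ⟨l, hl, hle⟩ := hl0
    have hle' : l.image e = down none o := hle
    have hc : up p l ∈ B := hl
    have hne : b ≠ up p l := fun h => hp (h ▸ self_mem_up p l)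
    have hio : (up p l).image (extend p none e) = o := by
      rw [image_extend_up, hle', up_down hno]
    rw [← hio, ← Finset.image_inter _ _ (extend p none e).injective,
      Finset.card_image_of_injective _ (extend p none e).injective]
    rcases Cfsg.Agent.S0352.result hα hB hb hc hne with h | h | h <;> rw [h] <;> decide

end T24

end Cfsg.Agent.Lib.Helper93_SteinerC
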