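/-
Helper library (helper93): transport of automorphism groups along isomorphisms of set systems, and the
automorphism group of an arbitrary S(5,8,24).
-/
import Mathlib
import Cfsg.Agent.Lib.Helper93_SteinerC
import Cfsg.Prelude.Def_Sporadic
import Cfsg.Agent.S0364
import Cfsg.Agent.S0365
import Cfsg.Agent.S0366

set_option autoImplicit false
set_option linter.unusedSectionVars false

namespace Cfsg.Agent.Lib.Helper93_SteinerD

open Cfsg Finset
open Cfsg.Agent.Lib.Helper93_SteinerB Cfsg.Agent.Lib.Helper93_SteinerC
open Cfsg.Agent.Lib.Helper41_S22c Cfsg.Agent.Lib.Helper41_S22e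

section transport

variable {α β : Type*} [Fintype α] [DecidableEq α] [Fintype β] [DecidableEq β]

theorem image_symm_eq (e : α ≃ β) {B : Set (Finset α)} {B' : Set (Finset β)}
    (he : (fun b : Finset α => b.image e) '' B = B') :
    (fun b : Finset β => b.image e.symm) '' B' = B := by
  rw [← he, Set.image_image]
  have : (fun x : Finset α => (x.image e).image e.symm) = id := by
    funext x
    rw [Finset.image_image]
    have : (⇑e.symm ∘ ⇑e) = id := by funext y; simp
    rw [this, Finset.image_id]; rfl
  rw [this, Set.image_id]

/-- the isomorphism of automorphism groups induced by an isomorphism of set systems -/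
def autCongr (e : α ≃ β) {B : Set (Finset α)} {B' : Set (Finset β)}
    (he : (fun b : Finset α => b.image e) '' B = B') : setSystemAut B ≃* setSystemAut B' where
  toFun g := ⟨e.permCongr g.1, permCongr_mem_aut e he g.2⟩
  invFun h := ⟨e.symm.permCongr h.1, permCongr_mem_aut e.symm (image_symm_eq e he) h.2⟩
  left_inv g := by
    apply Subtype.ext
    ext x
    simp [Equiv.permCongr_apply]
  right_inv h := by
    apply Subtype.ext
    ext x
    simp [Equiv.permCongr_apply]
  map_mul' g h := by
    apply Subtype.ext
    ext x
    simp [Equiv.permCongr_apply]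

theorem autCongr_symm_apply (e : α ≃ β) {B : Set (Finset α)} {B' : Set (Finset β)}
    (he : (fun b : Finset α => b.image e) '' B = B') (h : setSystemAut B') (x : α) :
    (((autCongr e he).symm h : setSystemAut B) : Equiv.Perm α) x = e.symm (h.1 (e x)) := by
  show (e.symm.permCongr h.1) x = _
  simp [Equiv.permCongr_apply]

/-- multiple transitivity is transported along an isomorphism of set systems -/
theorem pretransitive_of_iso (e : α ≃ β) {B : Set (Finset α)} {B' : Set (Finset β)}
    (he : (fun b : Finset α => b.image e) '' B = B') {n : ℕ}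
    (h : MulAction.IsMultiplyPretransitive (setSystemAut B') β n) :
    MulAction.IsMultiplyPretransitive (setSystemAut B) α n := by
  rw [MulAction.isMultiplyPretransitive_iff] at h ⊢
  intro x y
  obtain ⟨g, hg⟩ := h (x.trans e.toEmbedding) (y.trans e.toEmbedding)
  refine ⟨(autCongr e he).symm g, ?_⟩
  ext i
  have h1 := DFunLike.congr_fun hg i
  rw [Function.Embedding.smul_apply] at h1 ⊢
  have h2 : g.1 (e (x i)) = e (y i) := h1
  show (((autCongr e he).symm g : setSystemAut B) : Equiv.Perm α) (x i) = y i
  rw [autCongr_symm_apply, h2, e.symm_apply_apply]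

end transport

/-! ### The automorphism group of the octad system -/

theorem aut_octads_simple : IsSimpleGroup (setSystemAut octads) := by
  rw [← Cfsg.Agent.S0369.result]; exact Cfsg.Agent.S0365.result

theorem aut_octads_card : Nat.card (setSystemAut octads) = 244823040 := by
  rw [← Cfsg.Agent.S0369.result]; exact Cfsg.Agent.S0364.result

theorem aut_octads_five : MulAction.IsMultiplyPretransitive (setSystemAut octads) GolayPt 5 := by
  rw [← Cfsg.Agent.S0369.result]; exact Cfsg.Agent.S0366.result

/-- the automorphism group of any S(5,8,24) -/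
theorem aut_steiner24 {α : Type*} [Fintype α] [DecidableEq α] (hα : Fintype.card α = 24)
    {B : Set (Finset α)} (hB : IsSteinerSystem 5 8 B) :
    IsM24 (setSystemAut B) ∧ MulAction.IsMultiplyPretransitive (setSystemAut B) α 5 := by
  obtain ⟨e, he⟩ := iso_octads hα hB
  refine ⟨⟨?_, ?_⟩, pretransitive_of_iso e he aut_octads_five⟩
  · haveI := aut_octads_simple
    exact (autCongr e he).isSimpleGroup
  · rw [Nat.card_congr (autCongr e he).toEquiv]
    exact aut_octads_card

end Cfsg.Agent.Lib.Helper93_SteinerD
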