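/-
Helper library (helper93): the automorphism group of the standard S(4,7,23) is the point stabiliser of the group
of the length-24 code, hence the automorphism group of an arbitrary S(4,7,23) is simple of order 10200960 and
4-transitive.
-/
import Mathlib
import Cfsg.Prelude.Def_Sporadic
import Cfsg.Agent.Lib.Helper93_SteinerD
import Cfsg.Agent.S0376
import Cfsg.Agent.S0377

set_option autoImplicit false
set_option linter.unusedSectionVars false

namespace Cfsg.Agent.Lib.Helper93_SteinerE

open Cfsg Finset
open Cfsg.Agent.Lib.Helper93_Code24 Cfsg.Agent.Lib.Helper93_GolayConcrete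
open Cfsg.Agent.Lib.Helper93_SteinerA Cfsg.Agent.Lib.Helper93_SteinerB
open Cfsg.Agent.Lib.Helper93_SteinerC Cfsg.Agent.Lib.Helper93_SteinerD
open Cfsg.Agent.Lib.Helper41_S22a Cfsg.Agent.Lib.Helper41_S22b Cfsg.Agent.Lib.Helper41_S22c
open Cfsg.Agent.Lib.Helper41_S22e

theorem fix_none (g : MulAction.stabilizer M24 (none : GolayPt)) :
    (g.1.1 : Equiv.Perm GolayPt) none = none :=
  MulAction.mem_stabilizer_iff.mp g.2

theorem mem_aut_octads (g : M24) : (g.1 : Equiv.Perm GolayPt) ∈ setSystemAut octads := by
  rw [← Cfsg.Agent.S0369.result]; exact g.2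

/-- the action of the point stabiliser on the remaining 23 points -/
def m23Hom : MulAction.stabilizer M24 (none : GolayPt) →* setSystemAut std23 where
  toFun g := ⟨restrict none g.1.1 (fix_none g),
    restrict_mem_aut none g.1.1 (fix_none g) (mem_aut_octads g.1)⟩
  map_one' := by
    apply Subtype.ext
    ext y
    rfl
  map_mul' g h := by
    apply Subtype.ext
    ext y
    rfl

theorem m23Hom_apply (g : MulAction.stabilizer M24 (none : GolayPt)) (y : Pts (none : GolayPt)) :
    (((m23Hom g : setSystemAut std23) : Equiv.Perm (Pts (none : GolayPt))) y : GolayPt) = g.1.1 y :=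
  rfl

theorem m23Hom_injective : Function.Injective m23Hom := by
  intro g h hgh
  apply Subtype.ext
  apply Subtype.ext
  apply Equiv.ext
  intro x
  by_cases hx : x = none
  · rw [hx, fix_none g, fix_none h]
  · have := m23Hom_apply g ⟨x, hx⟩
    rw [hgh, m23Hom_apply] at this
    exact this.symm

/-- an automorphism of the standard S(4,7,23) extends to an automorphism of the octads -/
theorem extend_mem_aut {h : Equiv.Perm (Pts (none : GolayPt))} (hh : h ∈ setSystemAut std23) :
    (extend none none h : Equiv.Perm GolayPt) ∈ setSystemAut octads := by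
  apply mem_aut_of_forall_fin
  intro o ho
  by_cases hno : (none : GolayPt) ∈ o
  · have h1 : down none o ∈ std23 := by
      show up none (down none o) ∈ octads
      rw [up_down hno]; exact ho
    rw [← up_down hno, image_extend_up]
    exact image_mem_of_mem_aut hh h1
  · have hcard : (o.image (extend none none h)).card = 8 := by
      rw [Finset.card_image_of_injective _ (extend none none h).injective]; exact octad_card ho
    refine octad_of_ind (lemmaB none _ ?_) hcard
    intro o' ho' hno'
    have h1 : down none o' ∈ std23 := by
      show up none (down none o') ∈ octads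
      rw [up_down hno']; exact ho'
    have hinv : h⁻¹ ∈ setSystemAut std23 := inv_mem hh
    have h2 : (down none o').image ⇑h⁻¹ ∈ std23 := image_mem_of_mem_aut hinv h1
    have h3 : up none ((down none o').image ⇑h⁻¹) ∈ octads := h2
    have h4 : (up none ((down none o').image ⇑h⁻¹)).image (extend none none h) = o' := by
      rw [image_extend_up, image_image_inv, up_down hno']
    rw [← h4, ← Finset.image_inter _ _ (extend none none h).injective,
      Finset.card_image_of_injective _ (extend none none h).injective]
    exact octads_inter_even ho h3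

theorem m23Hom_surjective : Function.Surjective m23Hom := by
  intro h
  have h1 := extend_mem_aut h.2
  have h2 : (extend none none h.1 : Equiv.Perm GolayPt) ∈ M24 := by
    rw [Cfsg.Agent.S0369.result]; exact h1
  have h3 : (⟨extend none none h.1, h2⟩ : M24) ∈ MulAction.stabilizer M24 (none : GolayPt) := by
    rw [MulAction.mem_stabilizer_iff]
    exact extend_self none none h.1
  refine ⟨⟨⟨extend none none h.1, h2⟩, h3⟩, ?_⟩
  apply Subtype.ext
  apply Equiv.ext
  intro y
  apply Subtype.ext
  rw [m23Hom_apply]
  exact extend_coe none none h.1 y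

/-- the point stabiliser is the automorphism group of the standard S(4,7,23) -/
noncomputable def m23Equiv : MulAction.stabilizer M24 (none : GolayPt) ≃* setSystemAut std23 :=
  MulEquiv.ofBijective m23Hom ⟨m23Hom_injective, m23Hom_surjective⟩

theorem aut_std23_simple : IsSimpleGroup (setSystemAut std23) := by
  have := Cfsg.Agent.S0377.result (none : GolayPt)
  exact m23Equiv.symm.isSimpleGroup

theorem aut_std23_card : Nat.card (setSystemAut std23) = 10200960 := by
  rw [← Nat.card_congr m23Equiv.toEquiv]
  exact Cfsg.Agent.S0376.result none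

theorem aut_std23_four :
    MulAction.IsMultiplyPretransitive (setSystemAut std23) (Pts (none : GolayPt)) 4 := by
  have h5 : MulAction.IsMultiplyPretransitive M24 GolayPt 5 := Cfsg.Agent.S0366.result
  have h1 : MulAction.IsPretransitive M24 GolayPt := by
    have : MulAction.IsMultiplyPretransitive M24 GolayPt 1 :=
      MulAction.isMultiplyPretransitive_of_le (n := 5) (by norm_num)
        (by rw [Nat.card_eq_fintype_card]; decide)
    exact MulAction.is_one_pretransitive_iff.mp this
  have h4 := (SubMulAction.ofStabilizer.isMultiplyPretransitive (G := M24) (α := GolayPt) (n := 4)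
    (a := none)).mp h5
  rw [MulAction.isMultiplyPretransitive_iff] at h4 ⊢
  intro x y
  let ι : Pts (none : GolayPt) ↪ SubMulAction.ofStabilizer M24 (none : GolayPt) :=
    ⟨fun z => ⟨z.1, z.2⟩, fun a b hab => Subtype.ext (congrArg
      (fun w : SubMulAction.ofStabilizer M24 (none : GolayPt) => (w : GolayPt)) hab)⟩
  obtain ⟨g, hg⟩ := h4 (x.trans ι) (y.trans ι)
  refine ⟨m23Hom g, ?_⟩
  apply DFunLike.ext
  intro i
  apply Subtype.ext
  have h6 := congrArg (fun w : SubMulAction.ofStabilizer M24 (none : GolayPt) => (w : GolayPt))
    (DFunLike.congr_fun hg i)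
  rw [Function.Embedding.smul_apply]
  exact h6

/-- the automorphism group of any S(4,7,23) -/
theorem aut_steiner23 {α : Type*} [Fintype α] [DecidableEq α] (hα : Fintype.card α = 23)
    {B : Set (Finset α)} (hB : IsSteinerSystem 4 7 B) :
    IsM23 (setSystemAut B) ∧ MulAction.IsMultiplyPretransitive (setSystemAut B) α 4 := by
  obtain ⟨e, he⟩ := iso_std23 hα hB
  refine ⟨⟨?_, ?_⟩, pretransitive_of_iso e he aut_std23_four⟩
  · have := aut_std23_simple
    exact (autCongr e he).isSimpleGroup
  · rw [Nat.card_congr (autCongr e he).toEquiv]
    exact aut_std23_card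

end Cfsg.Agent.Lib.Helper93_SteinerE
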