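/-
Helper library (helper93): uniqueness of the length-24 code: a doubly even self-orthogonal code of dimension 12
and length 24 without words of weight 4 is equivalent to `golayCode` (from the uniqueness of S(5,8,24)).
-/
import Mathlib
import Cfsg.Agent.Lib.Helper93_SteinerC
import Cfsg.Agent.S5622

set_option autoImplicit false
set_option linter.unusedSectionVars false

namespace Cfsg.Agent.Lib.Helper93_SteinerF

open Cfsg Finset
open Cfsg.Agent.Lib.Helper93_Code24
open Cfsg.Agent.Lib.Helper93_GolayConcrete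
open Cfsg.Agent.Lib.Helper93_SteinerC

variable {α β : Type*} [Fintype α] [DecidableEq α] [Fintype β] [DecidableEq β]

/-- the support of a word transported along a bijection of the coordinates -/
theorem supp_comp (e : α ≃ β) (w : β → ZMod 2) (b : Finset α) (h : supp w = b.image e) :
    supp (fun i => w (e i)) = b := by
  ext i
  rw [mem_supp]
  have : e i ∈ supp w ↔ i ∈ b := by
    rw [h, Finset.mem_image]
    constructor
    · rintro ⟨j, hj, hji⟩
      rw [← e.injective hji]; exact hj
    · intro hi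
      exact ⟨i, hi, rfl⟩
  rw [← this, mem_supp]

theorem golay_unique (C : Submodule (ZMod 2) (Fin 24 → ZMod 2))
    (hdim : Module.finrank (ZMod 2) C = 12) (horth : ∀ v ∈ C, ∀ w ∈ C, ∑ i, v i * w i = 0)
    (h4 : ∀ w ∈ C, 4 ∣ hammingNorm w) (hno4 : ∀ w ∈ C, hammingNorm w ≠ 4) :
    ∃ e : Fin 24 ≃ GolayPt, ∀ w : GolayPt → ZMod 2,
      w ∈ golayCode ↔ (fun i => w (e i)) ∈ C := by
  have hmin : ∀ w ∈ C, w ≠ 0 → 8 ≤ hammingNorm w := by
    intro w hw h0
    obtain ⟨k, hk⟩ := h4 w hw
    have h1 := hno4 w hw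
    have h2 : hammingNorm w ≠ 0 := fun h => h0 (hammingNorm_eq_zero.mp h)
    omega
  have hC : IsGolayLike C := ⟨by simp, hdim, horth, hmin⟩
  have hS := (Cfsg.Agent.S5622.result C hdim horth hmin).2
  obtain ⟨e, he⟩ := iso_octads (by simp) hS
  refine ⟨e, ?_⟩
  let L : (GolayPt → ZMod 2) ≃ₗ[ZMod 2] (Fin 24 → ZMod 2) :=
    LinearEquiv.funCongrLeft (ZMod 2) (ZMod 2) e
  have hL : ∀ w : GolayPt → ZMod 2, L w = fun i => w (e i) := fun w => rfl
  -- forward inclusion
  have h1 : golayCode ≤ C.comap L.toLinearMap := by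
    rw [← span_octads golayLike, Submodule.span_le]
    rintro w ⟨hw, h8⟩
    have ho : supp w ∈ octads :=
      (Cfsg.Agent.Lib.Helper93_GolayConcrete.mem_octads_iff _).2 ⟨w, hw, rfl, h8⟩
    rw [← he] at ho
    obtain ⟨b, ⟨⟨c, hc, hcb⟩, -⟩, hbw⟩ := ho
    have h3 : supp (fun i => w (e i)) = supp c := by
      rw [supp_comp e w b hbw.symm]; exact hcb.symm
    show L w ∈ C
    rw [hL, supp_injective h3]
    exact hc
  -- backward inclusion
  have h2 : C ≤ golayCode.map L.toLinearMap := by
    rw [← span_octads hC, Submodule.span_le]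
    rintro c ⟨hc, h8⟩
    have hb : supp c ∈ wordsOfWeight (C : Set (Fin 24 → ZMod 2)) 8 := ⟨⟨c, hc, rfl⟩, h8⟩
    have ho : (supp c).image e ∈ octads := by
      rw [← he]; exact ⟨supp c, hb, rfl⟩
    obtain ⟨w, hw, hwo, -⟩ := (Cfsg.Agent.Lib.Helper93_GolayConcrete.mem_octads_iff _).1 ho
    refine ⟨w, hw, ?_⟩
    show L w = c
    rw [hL]
    exact supp_injective (supp_comp e w (supp c) hwo)
  intro w
  constructor
  · intro hw
    exact h1 hw
  · intro hw
    obtain ⟨w', hw', hww⟩ := h2 hw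
    have : w' = w := L.injective hww
    rw [← this]; exact hw'

end Cfsg.Agent.Lib.Helper93_SteinerF
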