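import Mathlib
import Cfsg.Agent.Lib.Helper81_TZW_Defs
import Cfsg.Agent.Lib.Helper25_TZ_GEN4

/-!
Package TZW-GLT (sub-architect helper81, for helper75's S2524): `GL_k` acts transitively on non-zero vectors via `A ↦ (A⁻¹)ᵀ`.
-/

set_option autoImplicit false
set_option linter.unusedSectionVars false

namespace Cfsg.Agent.Lib.Helper93_TZW_GLT

open Matrix Module
open Cfsg.Agent.Lib.Helper5_SpPerfect Cfsg.Agent.Lib.Helper81_SpWeights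
  Cfsg.Agent.Lib.Helper81_Heis Cfsg.Agent.Lib.Helper81_WeilLin Cfsg.Agent.Lib.Helper81_Schrodinger
  Cfsg.Agent.Lib.Helper75_TZ Cfsg.Agent.Lib.Helper81_TZW

variable {F : Type*} [Field F] [Fintype F] [DecidableEq F] {K : Type*} [Field K] [IsAlgClosed K] [CharZero K]

theorem exists_GL_inv_transpose_mulVec_eq {k : ℕ} (s t : Fin k → F) (hs : s ≠ 0) (ht : t ≠ 0) :
    ∃ A : GL (Fin k) F, (A⁻¹.1)ᵀ *ᵥ s = t := by
  obtain ⟨B, hB⟩ := Cfsg.Agent.Lib.Helper75_TZ.exists_GL_mulVec s t hs ht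
  -- `A := (B⁻¹)ᵀ`
  have hmul1 : (B⁻¹.1)ᵀ * (B.1)ᵀ = 1 := by
    rw [← Matrix.transpose_mul]
    have : B.1 * B⁻¹.1 = 1 := by
      rw [← Units.val_mul, mul_inv_cancel]; rfl
    rw [this, Matrix.transpose_one]
  have hmul2 : (B.1)ᵀ * (B⁻¹.1)ᵀ = 1 := by
    rw [← Matrix.transpose_mul]
    have : B⁻¹.1 * B.1 = 1 := by
      rw [← Units.val_mul, inv_mul_cancel]; rfl
    rw [this, Matrix.transpose_one]
  refine ⟨⟨(B⁻¹.1)ᵀ, (B.1)ᵀ, hmul1, hmul2⟩, ?_⟩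
  show ((B.1)ᵀ)ᵀ *ᵥ s = t
  rw [Matrix.transpose_transpose]
  exact hB

end Cfsg.Agent.Lib.Helper93_TZW_GLT
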