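import Mathlib
import Cfsg.Agent.Lib.Helper81_TZW_Defs

/-!
Package TZW-VV (sub-architect helper81, for helper75's S2524): rank one symmetric matrices `s sᵀ` determine `s` up to sign.
-/

set_option autoImplicit false
set_option linter.unusedSectionVars false
set_option linter.unusedVariables false

namespace Cfsg.Agent.Lib.Helper93_TZW_VV

open Matrix Module
open Cfsg.Agent.Lib.Helper5_SpPerfect Cfsg.Agent.Lib.Helper81_SpWeights
  Cfsg.Agent.Lib.Helper81_Heis Cfsg.Agent.Lib.Helper81_WeilLin Cfsg.Agent.Lib.Helper81_Schrodinger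
  Cfsg.Agent.Lib.Helper75_TZ Cfsg.Agent.Lib.Helper81_TZW

variable {F : Type*} [Field F] [Fintype F] [DecidableEq F] {K : Type*} [Field K] [IsAlgClosed K] [CharZero K]

theorem vecMulVec_self_inj (h2 : (2 : F) ≠ 0) {k : ℕ} {s t : Fin k → F}
    (h : vecMulVec s s = vecMulVec t t) : t = s ∨ t = -s := by
  have hij : ∀ i j, s i * s j = t i * t j := by
    intro i j
    have := congrFun (congrFun h i) j
    simpa [vecMulVec_apply] using this
  by_cases hs : s = 0
  · left
    rw [hs]
    funext i
    have := hij i i
    rw [hs] at this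
    simp only [Pi.zero_apply, mul_zero] at this
    exact (mul_self_eq_zero.mp this.symm)
  · obtain ⟨i, hi⟩ : ∃ i, s i ≠ 0 := by
      by_contra hcon
      push Not at hcon
      exact hs (funext hcon)
    have hii := hij i i
    have hsq : (t i - s i) * (t i + s i) = 0 := by linear_combination -hii
    rcases mul_eq_zero.mp hsq with h1 | h1
    · left
      have hti : t i = s i := sub_eq_zero.mp h1
      funext j
      have := hij i j
      rw [hti] at this
      exact (mul_left_cancel₀ hi this).symm
    · right
      have hti : t i = - s i := eq_neg_of_add_eq_zero_left h1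
      funext j
      have := hij i j
      rw [hti] at this
      have h3 : s i * s j = s i * (- t j) := by rw [this]; ring
      have h4 := mul_left_cancel₀ hi h3
      rw [Pi.neg_apply, h4, neg_neg]

theorem rk1S_inj (h2 : (2 : F) ≠ 0) {k : ℕ} {a : F} (ha : a ≠ 0) {s t : Fin k → F}
    (h : rk1S a s = rk1S a t) : t = s ∨ t = -s := by
  apply vecMulVec_self_inj h2
  have h1 : a • vecMulVec s s = a • vecMulVec t t := congrArg Subtype.val h
  have h3 := congrArg (fun M => a⁻¹ • M) h1
  simpa [smul_smul, inv_mul_cancel₀ ha] using h3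

theorem rk1S_neg {k : ℕ} (a : F) (s : Fin k → F) : rk1S a (-s) = rk1S a s := by
  apply Subtype.ext
  show a • vecMulVec (-s) (-s) = a • vecMulVec s s
  congr 1
  ext i j
  simp [vecMulVec_apply]

theorem Ta_eq_rk1S {m : ℕ} (a : F) : (Ta a : symSub (m + 1) F) = rk1S a e0 := by
  apply Subtype.ext
  show Matrix.single 0 0 a = a • vecMulVec (e0 : Fin (m + 1) → F) e0
  ext i j
  simp only [Matrix.single_apply, Matrix.smul_apply, vecMulVec_apply, e0, Pi.single_apply, smul_eq_mul]
  by_cases hi : i = 0 <;> by_cases hj : j = 0 <;> simp [hi, hj, eq_comm]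

end Cfsg.Agent.Lib.Helper93_TZW_VV
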