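import Mathlib
import Cfsg.Agent.Lib.Helper14_PSUKer
import Cfsg.Agent.Lib.Helper44_PSULang

/-!
# Automorphisms of `PSU_n(q)` fixing the subfield transvections (helper93)

Let `σ` be a field automorphism of odd order of the field `F` with `q ^ 2` elements.  An
automorphism `conjU g * fieldU τ` of `PSU_n(q)`, `n ≥ 3`, which fixes the classes of all unitary
transvections with `σ`-fixed parameters is a power of `fieldU σ`.
-/

set_option autoImplicit false
set_option linter.unusedSectionVars false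
set_option linter.unusedVariables false
set_option linter.unusedSimpArgs false

namespace Cfsg.Agent.Lib.Helper93_UBalFix

open Matrix Cfsg.Agent.Lib.Helper14_PSLAut Cfsg.Agent.Lib.Helper14_PSUAut
  Cfsg.Agent.Lib.Helper13_Herm Cfsg.Agent.Lib.Helper5_GUOrder Cfsg.Agent.Lib.Helper5_SUOrder
  Cfsg.Agent.Lib.Helper5_SUCenter Cfsg.Agent.Lib.Helper14_FieldAutPSL
  Cfsg.Agent.Lib.Helper14_PSUKer Cfsg.Agent.Lib.Helper94_Herm Cfsg.Agent.Lib.Helper44_PSULang
  Cfsg.Agent.Lib.Helper44_FixField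

variable {F : Type*} [Field F] [Fintype F] {n q : ℕ}

local notation "SLn" => Matrix.SpecialLinearGroup (Fin n) F
set_option quotPrecheck false in
local notation "SUn" => ↥(Cfsg.SU n F q)
local notation "PSUn" => Cfsg.PSU n F q
local notation "Mn" => Matrix (Fin n) (Fin n) F

/-! ### Field facts inside the fixed field -/

section fieldfacts

variable (hF : Fintype.card F = q ^ 2) (σ : F ≃+* F) (hodd : Odd (orderOf σ))

include hF hodd in
theorem exists_fix_skew : ∃ c : F, c ≠ 0 ∧ σ c = c ∧ c + c ^ q = 0 := by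
  obtain ⟨ζ, hζ0, hζ⟩ := exists_skew (invol_tau0 hF σ hodd)
  refine ⟨ζ.1, fun h => hζ0 (Subtype.ext h), (mem_fixField σ _).mp ζ.2, ?_⟩
  have h1 := congrArg Subtype.val hζ
  rw [tau0_coe] at h1
  rw [h1]
  simp

include hF hodd in
theorem exists_fix_trace (t : F) (hσt : σ t = t) (ht : t ^ q = t) :
    ∃ c : F, σ c = c ∧ c + c ^ q = t := by
  obtain ⟨l, hl⟩ := tr_surj (invol_tau0 hF σ hodd) ⟨t, (mem_fixField σ t).mpr hσt⟩
    (Subtype.ext (by rw [tau0_coe]; exact ht))
  refine ⟨l.1, (mem_fixField σ _).mp l.2, ?_⟩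
  have h1 := congrArg Subtype.val hl
  simpa [tau0_coe] using h1

include hF hodd in
theorem exists_fix_norm (a : F) (hσa : σ a = a) (ha : a ^ q = a) :
    ∃ l : F, σ l = l ∧ l * l ^ q = a := by
  have : Finite ↥(fixField σ) := Subtype.finite
  obtain ⟨l, hl⟩ := norm_surj (invol_tau0 hF σ hodd) ⟨a, (mem_fixField σ a).mpr hσa⟩
    (Subtype.ext (by rw [tau0_coe]; exact ha))
  refine ⟨l.1, (mem_fixField σ _).mp l.2, ?_⟩
  have h1 := congrArg Subtype.val hl
  simpa [tau0_coe] using h1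

include hF hodd in
theorem exists_fix_ne : ∃ b : F, σ b = b ∧ b ^ q ≠ b := by
  obtain ⟨θ, hθ⟩ := (invol_tau0 hF σ hodd).ne_id
  refine ⟨θ.1, (mem_fixField σ _).mp θ.2, fun h => hθ (Subtype.ext ?_)⟩
  rw [tau0_coe]
  exact h

include hF hodd in
/-- Two distinct `σ`-fixed scalars of norm `-1`. -/
theorem exists_two_fix_norm_neg_one :
    ∃ a a' : F, σ a = a ∧ σ a' = a' ∧ a * a ^ q = -1 ∧ a' * a' ^ q = -1 ∧ a ≠ a' ∧ a ≠ 0 ∧
      1 + a ^ q * a' ≠ 0 := by
  have hq0 : q ≠ 0 := by have := two_le_q hF; omega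
  obtain ⟨a, hσa, ha⟩ := exists_fix_norm hF σ hodd (-1) (by rw [map_neg, map_one])
    (by rw [neg_pow_q hF, one_pow])
  obtain ⟨θ, hσθ, hθ⟩ := exists_fix_ne hF σ hodd
  have hθ0 : θ ≠ 0 := by
    rintro rfl
    exact hθ (zero_pow hq0)
  have hθq0 : θ ^ q ≠ 0 := pow_ne_zero _ hθ0
  set l : F := θ / θ ^ q with hl
  have hσl : σ l = l := by rw [hl, map_div₀, map_pow, hσθ]
  have hl1 : l * l ^ q = 1 := by
    rw [hl, div_pow, pow_q_pow_q hF]
    field_simp
  have hlne : l ≠ 1 := by
    intro h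
    rw [hl, div_eq_one_iff_eq hθq0] at h
    exact hθ h.symm
  have ha0 : a ≠ 0 := by
    rintro rfl
    rw [zero_mul] at ha
    exact one_ne_zero (neg_eq_zero.mp ha.symm)
  refine ⟨a, a * l, hσa, by rw [map_mul, hσa, hσl], ha, ?_, ?_, ha0, ?_⟩
  · rw [mul_pow]
    linear_combination (l * l ^ q) * ha - hl1
  · intro h
    apply hlne
    have : a * l = a * 1 := by rw [mul_one]; exact h.symm
    exact mul_left_cancel₀ ha0 this
  · intro h
    apply hlne
    have : (a * a ^ q) * l = -1 := by linear_combination h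
    rw [ha] at this
    linear_combination -this

end fieldfacts

theorem vec3_fixed (σ : F ≃+* F) (i0 i1 i2 : Fin n) {y0 y1 y2 : F} (h0 : σ y0 = y0)
    (h1 : σ y1 = y1) (h2 : σ y2 = y2) (i : Fin n) :
    σ (vec3 i0 i1 i2 y0 y1 y2 i) = vec3 i0 i1 i2 y0 y1 y2 i := by
  have := congrFun (map_vec3 σ i0 i1 i2 y0 y1 y2) i
  rw [h0, h1, h2] at this
  exact this

/-! ### Relative versions of the core arguments -/

/-- A matrix mapping every `σ`-fixed isotropic vector to a multiple of itself is scalar. -/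
theorem scalar_of_iso_fix (hF : Fintype.card F = q ^ 2) (hn : 3 ≤ n) (σ : F ≃+* F)
    (hodd : Odd (orderOf σ)) (x : Mn)
    (hiso : ∀ v : Fin n → F, (∀ i, σ (v i) = v i) → Cfsg.hermForm n F q v v = 0 →
      ∃ l : F, x *ᵥ v = l • v) :
    ∃ r : F, x = r • (1 : Mn) := by
  have hq0 : q ≠ 0 := by have := two_le_q hF; omega
  obtain ⟨a, a', hσa, hσa', ha, ha', haa', ha0, -⟩ := exists_two_fix_norm_neg_one hF σ hodd
  have hvec : ∀ (b : F), σ b = b → b * b ^ q = -1 → ∀ i j k : Fin n, i ≠ j → i ≠ k → j ≠ k →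
      ∃ l : F, x i i + b * x i j = l ∧ x j i + b * x j j = l * b ∧ x k i + b * x k j = 0 := by
    intro b hσb hb i j k hij hik hjk
    have hv : Cfsg.hermForm n F q (vec3 i j k 1 b 0) (vec3 i j k 1 b 0) = 0 := by
      rw [hermForm_vec3 hq0 hij hik hjk, one_pow, zero_pow hq0]
      linear_combination hb
    obtain ⟨l, hl⟩ := hiso _ (vec3_fixed σ i j k (map_one σ) hσb (map_zero σ)) hv
    rw [mulVec_vec3] at hl
    refine ⟨l, ?_, ?_, ?_⟩
    · have := congrFun hl i
      simp only [Pi.add_apply, Pi.smul_apply, single_col, smul_eq_mul, vec3_apply0 hij hik] at this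
      linear_combination this
    · have := congrFun hl j
      simp only [Pi.add_apply, Pi.smul_apply, single_col, smul_eq_mul, vec3_apply1 hij hjk] at this
      linear_combination this
    · have := congrFun hl k
      simp only [Pi.add_apply, Pi.smul_apply, single_col, smul_eq_mul, vec3_apply2 hik hjk] at this
      linear_combination this
  have hoff : ∀ k i : Fin n, k ≠ i → x k i = 0 := by
    intro k i hki
    obtain ⟨j, hji, hjk⟩ := exists_third hn i k
    obtain ⟨l, -, -, h1⟩ := hvec a hσa ha i j k hji.symm hki.symm hjk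
    obtain ⟨l', -, -, h2⟩ := hvec a' hσa' ha' i j k hji.symm hki.symm hjk
    have h3 : (a - a') * x k j = 0 := by linear_combination h1 - h2
    rcases mul_eq_zero.mp h3 with h4 | h4
    · exact absurd (sub_eq_zero.mp h4) haa'
    · rw [h4, mul_zero, add_zero] at h1
      exact h1
  have hdiag : ∀ i j : Fin n, i ≠ j → x j j = x i i := by
    intro i j hij
    obtain ⟨k, hki, hkj⟩ := exists_third hn i j
    obtain ⟨l, h1, h2, -⟩ := hvec a hσa ha i j k hij hki.symm hkj.symm
    rw [hoff i j hij, mul_zero, add_zero] at h1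
    rw [hoff j i hij.symm, zero_add] at h2
    have h3 : a * x j j = a * x i i := by rw [h2, h1, mul_comm]
    exact mul_left_cancel₀ ha0 h3
  refine ⟨x ⟨0, by omega⟩ ⟨0, by omega⟩, ?_⟩
  ext k l
  by_cases hkl : k = l
  · subst hkl
    rw [Matrix.smul_apply, Matrix.one_apply_eq, smul_eq_mul, mul_one]
    by_cases hk0 : k = ⟨0, by omega⟩
    · rw [hk0]
    · exact hdiag _ _ (Ne.symm hk0)
  · rw [Matrix.smul_apply, Matrix.one_apply_ne hkl, smul_zero]
    exact hoff k l hkl

/-- If an injective matrix maps every `σ`-fixed isotropic vector `v` to a multiple of `ρ v`, then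
`ρ` fixes the fixed field of `σ` pointwise. -/
theorem rho_fix_of_iso (hF : Fintype.card F = q ^ 2) (hn : 3 ≤ n) (σ : F ≃+* F)
    (hodd : Odd (orderOf σ)) (x : Mn) (ρ : F ≃+* F)
    (hinj : ∀ v : Fin n → F, x *ᵥ v = 0 → v = 0)
    (hiso : ∀ v : Fin n → F, (∀ i, σ (v i) = v i) → Cfsg.hermForm n F q v v = 0 →
      ∃ l : F, x *ᵥ v = l • (fun i => ρ (v i))) : ∀ d : F, σ d = d → ρ d = d := by
  have hq0 : q ≠ 0 := by have := two_le_q hF; omega
  obtain ⟨a, a', hσa, hσa', ha, ha', haa', ha0, hη⟩ := exists_two_fix_norm_neg_one hF σ hodd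
  set i0 : Fin n := ⟨0, by omega⟩ with hi0
  set i1 : Fin n := ⟨1, by omega⟩ with hi1
  set i2 : Fin n := ⟨2, by omega⟩ with hi2
  have h01 : i0 ≠ i1 := by rw [hi0, hi1]; intro h; simp [Fin.ext_iff] at h
  have h02 : i0 ≠ i2 := by rw [hi0, hi2]; intro h; simp [Fin.ext_iff] at h
  have h12 : i1 ≠ i2 := by rw [hi1, hi2]; intro h; simp [Fin.ext_iff] at h
  -- coordinates of the image of an isotropic vector
  have hcoord : ∀ y0 y1 y2 : F, σ y0 = y0 → σ y1 = y1 → σ y2 = y2 →
      y0 * y0 ^ q + y1 * y1 ^ q + y2 * y2 ^ q = 0 → ∃ l : F,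
      y0 * x i0 i0 + y1 * x i0 i1 + y2 * x i0 i2 = l * ρ y0 ∧
      y0 * x i1 i0 + y1 * x i1 i1 + y2 * x i1 i2 = l * ρ y1 ∧
      y0 * x i2 i0 + y1 * x i2 i1 + y2 * x i2 i2 = l * ρ y2 ∧
      (l = 0 → y0 = 0 ∧ y1 = 0 ∧ y2 = 0) := by
    intro y0 y1 y2 hs0 hs1 hs2 hy
    have hv : Cfsg.hermForm n F q (vec3 i0 i1 i2 y0 y1 y2) (vec3 i0 i1 i2 y0 y1 y2) = 0 := by
      rw [hermForm_vec3 hq0 h01 h02 h12]; exact hy
    obtain ⟨l, hl⟩ := hiso _ (vec3_fixed σ i0 i1 i2 hs0 hs1 hs2) hv
    have hl0 : l = 0 → y0 = 0 ∧ y1 = 0 ∧ y2 = 0 := by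
      intro h0
      rw [h0, zero_smul] at hl
      have h1 := hinj _ hl
      refine ⟨?_, ?_, ?_⟩
      · have := congrFun h1 i0
        rw [vec3_apply0 h01 h02] at this; exact this
      · have := congrFun h1 i1
        rw [vec3_apply1 h01 h12] at this; exact this
      · have := congrFun h1 i2
        rw [vec3_apply2 h02 h12] at this; exact this
    rw [mulVec_vec3, map_vec3] at hl
    refine ⟨l, ?_, ?_, ?_, hl0⟩
    · have := congrFun hl i0
      simp only [Pi.add_apply, Pi.smul_apply, single_col, smul_eq_mul, vec3_apply0 h01 h02] at this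
      exact this
    · have := congrFun hl i1
      simp only [Pi.add_apply, Pi.smul_apply, single_col, smul_eq_mul, vec3_apply1 h01 h12] at this
      exact this
    · have := congrFun hl i2
      simp only [Pi.add_apply, Pi.smul_apply, single_col, smul_eq_mul, vec3_apply2 h02 h12] at this
      exact this
  obtain ⟨le, E0, E1, E2, hle0⟩ := hcoord 1 a 0 (map_one σ) hσa (map_zero σ) (by
    rw [one_pow, zero_pow hq0]; linear_combination ha)
  obtain ⟨lf, F0, F1, F2, -⟩ := hcoord 1 a' 0 (map_one σ) hσa' (map_zero σ) (by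
    rw [one_pow, zero_pow hq0]; linear_combination ha')
  have hle : le ≠ 0 := fun h => one_ne_zero (hle0 h).1
  simp only [map_one, map_zero, one_mul, zero_mul, add_zero, mul_one, mul_zero] at E0 E1 E2 F0 F1 F2
  set D := ρ a' - ρ a with hD
  have hD0 : D ≠ 0 := by
    rw [hD]
    intro h
    exact haa' (ρ.injective (sub_eq_zero.mp h)).symm
  set B := ρ a' * x i0 i2 - x i1 i2 with hB
  set C := x i2 i2 with hC
  have hση : σ (1 + a ^ q * a') = 1 + a ^ q * a' := by
    rw [map_add, map_one, map_mul, map_pow, hσa, hσa']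
  have key : ∀ d : F, σ d = d → d * (C * D) = (le * D + d * B) * ρ d := by
    intro d hσd
    obtain ⟨c', hσc', hc'⟩ := exists_fix_trace hF σ hodd (-(d * d ^ q))
      (by rw [map_neg, map_mul, map_pow, hσd]) (by rw [neg_pow_q hF, norm_pow_q hF])
    set η := 1 + a ^ q * a' with hηdef
    set c := η⁻¹ * c' with hc
    have hσc : σ c = c := by rw [hc, map_mul, map_inv₀, hση, hσc']
    have hcη : η * c = c' := by rw [hc, ← mul_assoc, mul_inv_cancel₀ hη, one_mul]
    have hηq : η ^ q = 1 + a * a' ^ q := by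
      rw [hηdef, add_pow_q hF, one_pow, mul_pow, pow_q_pow_q hF]
    have hc2 : η * c + (1 + a * a' ^ q) * c ^ q = -(d * d ^ q) := by
      rw [← hηq, ← mul_pow, hcη]; exact hc'
    obtain ⟨lv, V0, V1, V2, -⟩ := hcoord (1 + c) (a + c * a') d
      (by rw [map_add, map_one, hσc]) (by rw [map_add, map_mul, hσa, hσc, hσa']) hσd (by
      rw [add_pow_q hF, add_pow_q hF, one_pow, mul_pow]
      rw [hηdef] at hc2
      linear_combination hc2 + ha + c * c ^ q * ha')
    simp only [map_add, map_mul, map_one] at V0 V1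
    have h1 : d * C = lv * ρ d := by
      rw [hC]; linear_combination V2 - E2 - c * F2
    have h2 : le * D + d * B = lv * D := by
      rw [hD, hB]
      linear_combination (ρ a') * V0 - V1 - (ρ a') * E0 - (ρ a') * c * F0 + E1 + c * F1
    rw [h2]
    linear_combination D * h1
  have k1 := key 1 (map_one σ)
  rw [map_one, one_mul, one_mul, mul_one] at k1
  have hL : le * D ≠ 0 := mul_ne_zero hle hD0
  by_cases hB0 : B = 0
  · intro d hσd
    have k2 := key d hσd
    rw [k1] at k2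
    simp only [hB0, mul_zero, add_zero] at k2
    have : (le * D) * (ρ d - d) = 0 := by linear_combination -k2
    rcases mul_eq_zero.mp this with h | h
    · exact absurd h hL
    · exact sub_eq_zero.mp h
  · exfalso
    obtain ⟨b, hσb, hb⟩ := exists_fix_ne hF σ hodd
    have hb0 : b ≠ 0 := by
      rintro rfl
      exact hb (zero_pow hq0)
    have hb1 : b ≠ 1 := by
      rintro rfl
      exact hb (one_pow q)
    have k2 := key b hσb
    have k3 := key (b * b) (by rw [map_mul, hσb])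
    rw [k1] at k2 k3
    rw [map_mul] at k3
    have hρb : ρ b ≠ 0 := (map_ne_zero ρ).mpr hb0
    -- `(L + bB)² = (L + B)(L + b²B)` after cancelling `ρ b ^ 2`
    have h4 : ((le * D + b * B) ^ 2 - (le * D + B) * (le * D + b * b * B)) * (ρ b * ρ b) = 0 := by
      linear_combination (-(le * D + b * B) * ρ b - b * (le * D + B)) * k2 + (le * D + B) * k3
    have h5 : (le * D + b * B) ^ 2 - (le * D + B) * (le * D + b * b * B) = 0 := by
      rcases mul_eq_zero.mp h4 with h | h
      · exact h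
      · exact absurd h (mul_ne_zero hρb hρb)
    have h6 : (le * D) * B * ((b - 1) * (b - 1)) = 0 := by linear_combination -h5
    rcases mul_eq_zero.mp h6 with h | h
    · rcases mul_eq_zero.mp h with h' | h'
      · exact hL h'
      · exact hB0 h'
    · rcases mul_eq_zero.mp h with h' | h' <;> exact hb1 (sub_eq_zero.mp h')

/-! ### The action on isotropic lines -/

/-- If `conjU g * fieldU τ` fixes the class of the transvection with `σ`-fixed parameters `v`, `c`,
then `g⁻¹` maps `v` to a multiple of `τ v`. -/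
theorem exists_smul_of_fix (hF : Fintype.card F = q ^ 2) (hn : 0 < n) (g : ↥(Cfsg.GU n F q))
    (τ : F ≃+* F) (v : Fin n → F) (c : F) (hc0 : c ≠ 0) (hv : Cfsg.hermForm n F q v v = 0)
    (hc : c + c ^ q = 0)
    (h : (conjU g * fieldU τ : MulAut PSUn) (QuotientGroup.mk (tvSU hF v c hv hc)) =
      QuotientGroup.mk (tvSU hF v c hv hc)) :
    ∃ l : F, ((g.1⁻¹ : GL (Fin n) F) : Mn) *ᵥ v = l • (fun i => τ (v i)) := by
  have hq0 : q ≠ 0 := by have := two_le_q hF; omega
  by_cases hv0 : v = 0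
  · refine ⟨0, ?_⟩
    rw [hv0, Matrix.mulVec_zero, zero_smul]
  set t : SUn := tvSU hF v c hv hc with ht
  rw [MulAut.mul_apply, fieldU_mk, conjU_apply, conjN_mk] at h
  obtain ⟨r, hr⟩ := exists_smul_of_mk_eq hF hn _ _ h
  rw [suConj_coe, slConj_coe', suField_coe, tvSU_coe] at hr
  set T := Cfsg.unitaryTransvection n q v c with hT
  set xm : Mn := ((g.1 : GL (Fin n) F) : Mn) with hxm
  set xi : Mn := ((g.1⁻¹ : GL (Fin n) F) : Mn) with hxi
  have hxx : xm * xi = 1 := by rw [hxm, hxi, ← Units.val_mul, mul_inv_cancel, Units.val_one]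
  have hxx' : xi * xm = 1 := by rw [hxm, hxi, ← Units.val_mul, inv_mul_cancel, Units.val_one]
  have hvτ : Cfsg.hermForm n F q (fun i => τ (v i)) (fun i => τ (v i)) = 0 := by
    rw [hermForm_map, hv, map_zero]
  have hX : (xm * (T.map τ - 1) * xi) * (xm * (T.map τ - 1) * xi) = 0 := by
    have : (xm * (T.map τ - 1) * xi) * (xm * (T.map τ - 1) * xi)
        = xm * ((T.map τ - 1) * (xi * xm) * (T.map τ - 1)) * xi := by
      simp only [Matrix.mul_assoc]
    rw [this, hxx', Matrix.mul_one, trans_map, trans_sub_one_sq _ _ hvτ, Matrix.mul_zero,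
      Matrix.zero_mul]
  have hY : (T - 1) * (T - 1) = 0 := trans_sub_one_sq v c hv
  have hr1 : r = 1 := by
    apply eq_one_of_unipotent hn hX hY r
    have e1 : (1 : Mn) + (T - 1) = T := by abel
    have e2 : (1 : Mn) + xm * (T.map τ - 1) * xi = xm * T.map τ * xi := by
      rw [Matrix.mul_sub, Matrix.sub_mul, Matrix.mul_one, hxx]; abel
    rw [e1, e2]
    exact hr
  rw [hr1, one_smul] at hr
  obtain ⟨i, hi⟩ : ∃ i, v i ≠ 0 := by
    by_contra hcon
    push Not at hcon
    exact hv0 (funext hcon)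
  set w : Fin n → F := Pi.single i 1 with hw
  have hwv : Cfsg.hermForm n F q w v = (v i) ^ q := hermForm_single_left n i v
  have hwv0 : Cfsg.hermForm n F q w v ≠ 0 := by rw [hwv]; exact pow_ne_zero _ hi
  -- `T.map τ * xi = xi * T`
  have h2 : T.map τ * xi = xi * T := by
    calc T.map τ * xi = (xi * xm) * T.map τ * xi := by rw [hxx', Matrix.one_mul]
      _ = xi * (xm * T.map τ * xi) := by simp only [Matrix.mul_assoc]
      _ = xi * T := by rw [← hr]
  have h3 := congrArg (fun M : Mn => M *ᵥ w) h2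
  simp only [← Matrix.mulVec_mulVec] at h3
  rw [trans_map, unitaryTransvection_mulVec, hT, unitaryTransvection_mulVec, Matrix.mulVec_add,
    Matrix.mulVec_smul] at h3
  have h4 : (τ c * Cfsg.hermForm n F q (xi *ᵥ w) (fun i => τ (v i))) • (fun i => τ (v i))
      = (c * Cfsg.hermForm n F q w v) • (xi *ᵥ v) := add_left_cancel h3
  refine ⟨(c * Cfsg.hermForm n F q w v)⁻¹ *
    (τ c * Cfsg.hermForm n F q (xi *ᵥ w) (fun i => τ (v i))), ?_⟩
  rw [mul_smul, h4, smul_smul, inv_mul_cancel₀ (mul_ne_zero hc0 hwv0), one_smul]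

/-! ### The main statement -/

/-- An automorphism of `PSU_n(q)` fixing the classes of all transvections with `σ`-fixed parameters
is a power of `fieldU σ`. -/
theorem mem_zpowers_of_fix_u (hF : Fintype.card F = q ^ 2) (hn : 3 ≤ n) (σ : F ≃+* F)
    (hodd : Odd (orderOf σ)) (g : ↥(Cfsg.GU n F q)) (τ : F ≃+* F)
    (hfix : ∀ (v : Fin n → F) (c : F) (hv : Cfsg.hermForm n F q v v = 0) (hc : c + c ^ q = 0),
      (∀ i, σ (v i) = v i) → σ c = c →
      (conjU g * fieldU τ : MulAut PSUn) (QuotientGroup.mk (tvSU hF v c hv hc)) =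
        QuotientGroup.mk (tvSU hF v c hv hc)) :
    (conjU g * fieldU τ : MulAut PSUn) ∈ Subgroup.zpowers (fieldU (n := n) (q := q) σ) := by
  have hn0 : 0 < n := by omega
  obtain ⟨c, hc0, hσc, hc⟩ := exists_fix_skew hF σ hodd
  set xi : Mn := ((g.1⁻¹ : GL (Fin n) F) : Mn) with hxi
  have hiso : ∀ v : Fin n → F, (∀ i, σ (v i) = v i) → Cfsg.hermForm n F q v v = 0 →
      ∃ l : F, xi *ᵥ v = l • (fun i => τ (v i)) := by
    intro v hσv hv
    exact exists_smul_of_fix hF hn0 g τ v c hc0 hv hc (hfix v c hv hc hσv hσc)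
  have hτ : ∀ d : F, σ d = d → τ d = d :=
    rho_fix_of_iso hF hn σ hodd xi τ (mulVec_injective_of_GL g.1⁻¹) hiso
  have hiso' : ∀ v : Fin n → F, (∀ i, σ (v i) = v i) → Cfsg.hermForm n F q v v = 0 →
      ∃ l : F, xi *ᵥ v = l • v := by
    intro v hσv hv
    obtain ⟨l, hl⟩ := hiso v hσv hv
    refine ⟨l, ?_⟩
    rw [hl]
    congr 1
    funext i
    exact hτ (v i) (hσv i)
  obtain ⟨r, hr⟩ := scalar_of_iso_fix hF hn σ hodd xi hiso'
  have hr0 : r ≠ 0 := by
    rintro rfl
    rw [zero_smul] at hr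
    have h1 : xi * ((g.1 : GL (Fin n) F) : Mn) = 1 := by
      rw [hxi, ← Units.val_mul, inv_mul_cancel, Units.val_one]
    rw [hr, Matrix.zero_mul] at h1
    have h2 := congrFun (congrFun h1 ⟨0, hn0⟩) ⟨0, hn0⟩
    simp at h2
  have hsc : (g⁻¹ : ↥(Cfsg.GU n F q)).1 ∈ Cfsg.Geo.scalars (Fin n) F := by
    rw [Cfsg.Geo.mem_scalars_iff]
    exact ⟨Units.mk0 r hr0, hr⟩
  have hg1 : conjU g = (1 : MulAut PSUn) := by
    have h1 : conjU (g⁻¹) = (1 : MulAut PSUn) := by
      rw [conjU_apply]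
      exact conjN_eq_one_of_scalar _ hsc
    rw [map_inv, inv_eq_one] at h1
    exact h1
  rw [hg1, one_mul]
  obtain ⟨k, rfl⟩ := Subgroup.mem_zpowers_iff.mp (galois_mem_zpowers σ τ hτ)
  rw [map_zpow]
  exact Subgroup.zpow_mem_zpowers _ _

end Cfsg.Agent.Lib.Helper93_UBalFix
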