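import Mathlib
import Cfsg.Agent.Lib.Helper13_PSUSimple
import Cfsg.Agent.Lib.Helper14_PSUKer
import Cfsg.Agent.Lib.Helper44_BalanceGen
import Cfsg.Agent.S0283

/-!
# Normal subgroups of `SU_n(q)` (helper93)

A normal subgroup of `SU_n(q)`, `n ≥ 3`, consists of scalar matrices, or is everything, or
`(n, q) = (3, 2)` and it contains a non-scalar element of order three.
-/

set_option autoImplicit false
set_option linter.unusedSectionVars false
set_option linter.unusedVariables false
set_option linter.unusedSimpArgs false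

namespace Cfsg.Agent.Lib.Helper93_UBalNormal

open Module MulAction Cfsg.Agent.Lib.Helper94_Symp Cfsg.Agent.Lib.Helper94_Herm
  Cfsg.Agent.Lib.Helper94_HermTrans Cfsg.Agent.Lib.Helper94_HermBridge
  Cfsg.Agent.Lib.Helper13_SUGen Cfsg.Agent.Lib.Helper13_PSUSimple

/-! ### The abstract argument for `q = 2` -/

section abstract

variable {F V : Type*} [Field F] [AddCommGroup V] [Module F V]
variable {σ : F →+* F} {B : V →ₗ[F] V →ₛₗ[σ] F}

/-- the product of the two transvections of a hyperbolic pair, over the field with four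
elements -/
theorem prod_utv_apply (h2 : (2 : F) = 0) {e f : V} (h : HypPair B e f) (x : V) :
    (utv B e 1 * utv B f 1) x = x + B x f • f + (B x e + B x f) • e := by
  rw [LinearEquiv.mul_apply, utv_apply B h.ff, utv_apply B h.ee]
  simp only [one_mul, map_add, map_smul, LinearMap.add_apply, LinearMap.smul_apply, smul_eq_mul,
    h.fe, mul_one]

theorem prod_utv_cube (h2 : (2 : F) = 0) {e f : V} (h : HypPair B e f) :
    (utv B e 1 * utv B f 1) ^ 3 = 1 := by
  ext x
  have h4 : (4 : F) = 0 := by linear_combination 2 * h2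
  have h8 : (8 : F) = 0 := by linear_combination 4 * h2
  have h12 : (12 : F) = 0 := by linear_combination 6 * h2
  rw [pow_succ, pow_succ, pow_one, LinearEquiv.mul_apply, LinearEquiv.mul_apply,
    prod_utv_apply h2 h x, prod_utv_apply h2 h, prod_utv_apply h2 h]
  simp only [map_add, map_smul, LinearMap.add_apply, LinearMap.smul_apply, smul_eq_mul,
    h.ee, h.ff, h.ef, h.fe, mul_zero, mul_one, add_zero, zero_add]
  rw [LinearEquiv.coe_one, id_eq]
  set α := B x e
  set β := B x f
  have e1 : x + β • f + (α + β) • e + (β + (α + β)) • f + (α + β + (β + (α + β))) • e +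
      (β + (α + β) + (α + β + (β + (α + β)))) • f +
      (α + β + (β + (α + β)) + (β + (α + β) + (α + β + (β + (α + β))))) • e
      = x + (4 * α + 8 * β) • f + (8 * α + 12 * β) • e := by module
  rw [e1, h4, h8, h12]
  simp

variable [Finite F] [FiniteDimensional F V]

/-- a normal subgroup of `SU_3(2)` which moves an isotropic point contains the product of the
transvections of a hyperbolic pair -/
theorem exists_prod_utv_mem (hσ : Invol σ) (hB : IsHerm B) (hN : NondegOn B ⊤)
    (h3 : 3 ≤ finrank F V) (h2 : (2 : F) = 0) (hfix : ∀ c : F, σ c = c → c = 0 ∨ c = 1)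
    (D : Subgroup ↥(SUg B)) [hD : D.Normal]
    (hmove : ∃ g ∈ D, ∃ W : IsoPt B, g • W ≠ W) :
    ∃ (e f : V) (_ : HypPair B e f) (u : ↥(SUg B)), u ∈ D ∧ u ^ 3 = 1 ∧
      (u : V ≃ₗ[F] V) e = f := by
  have hneg : ∀ c : F, -c = c := by
    intro c
    linear_combination -c * h2
  haveI := isPreprimitive hσ hB hN h3
  have hfp : fixedPoints D (IsoPt B) ≠ Set.univ := by
    intro h
    obtain ⟨g, hg, W, hW⟩ := hmove
    have hmem : W ∈ fixedPoints D (IsoPt B) := by rw [h]; trivial
    exact hW (hmem ⟨g, hg⟩)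
  have htr : IsPretransitive D (IsoPt B) :=
    IsQuasiPreprimitive.isPretransitive_of_normal hfp
  obtain ⟨e, f, h⟩ := exists_hypPair hσ hB hN (by omega)
  obtain ⟨he0, hf0⟩ := hypPair_ne_zero h
  obtain ⟨d, hd⟩ := htr.exists_smul_eq (mkPt he0 h.ee) (mkPt hf0 h.ff)
  have hd' : (d : ↥(SUg B)) • mkPt he0 h.ee = mkPt hf0 h.ff := hd
  rw [smul_mkPt] at hd'
  have h1 := congrArg Subtype.val hd'
  change Submodule.span F {((d : ↥(SUg B)) : V ≃ₗ[F] V) e} = Submodule.span F {f} at h1
  have h2' : ((d : ↥(SUg B)) : V ≃ₗ[F] V) e ∈ Submodule.span F {f} := by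
    rw [← h1]
    exact Submodule.mem_span_singleton_self _
  obtain ⟨l, hl⟩ := Submodule.mem_span_singleton.mp h2'
  have hl0 : l ≠ 0 := by
    rintro rfl
    rw [zero_smul] at hl
    have : ((d : ↥(SUg B)) : V ≃ₗ[F] V) e = 0 := hl.symm
    exact he0 (by simpa using this)
  have hσ1 : σ (1 : F) = -1 := by rw [map_one, hneg]
  have hNl : l * σ l = 1 := by
    have h5 : σ (l * σ l) = l * σ l := by rw [map_mul, hσ.invol, mul_comm]
    rcases hfix _ h5 with h6 | h6
    · exfalso
      rcases mul_eq_zero.mp h6 with h7 | h7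
      · exact hl0 h7
      · exact hl0 ((map_eq_zero σ).mp h7)
    · exact h6
  have hdU : ((d : ↥(SUg B)) : V ≃ₗ[F] V) ∈ uG B := (mem_SUg.mp (d : ↥(SUg B)).2).1
  have hte : utv B e 1 ∈ SUg B :=
    tvGroup_le_SUg hB ⊤ (utv_mem_tvGroup Submodule.mem_top h.ee hσ1)
  have htf : utv B f 1 ∈ SUg B :=
    tvGroup_le_SUg hB ⊤ (utv_mem_tvGroup Submodule.mem_top h.ff hσ1)
  -- conjugating the transvection of `e` by `d` gives the transvection of `f`
  have hconj : ((d : ↥(SUg B)) : V ≃ₗ[F] V) * utv B e 1 * ((d : ↥(SUg B)) : V ≃ₗ[F] V)⁻¹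
      = utv B f 1 := by
    rw [conj_utv hdU, ← hl, utv_smul, hNl, one_mul]
  -- the transvection of `e` is an involution
  have hinv : utv B e 1 * utv B e 1 = 1 := by
    ext x
    rw [LinearEquiv.mul_apply, utv_apply B h.ee, utv_apply B h.ee]
    simp only [one_mul, map_add, map_smul, LinearMap.add_apply, LinearMap.smul_apply,
      smul_eq_mul, h.ee, mul_zero, add_zero]
    rw [LinearEquiv.coe_one, id_eq, add_assoc, ← add_smul]
    have : B x e + B x e = 0 := by linear_combination (B x e) * h2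
    rw [this, zero_smul, add_zero]
  set t : ↥(SUg B) := ⟨utv B e 1, hte⟩ with ht
  have htt : t * t = 1 := Subtype.ext hinv
  have htinv : t⁻¹ = t := inv_eq_of_mul_eq_one_right htt
  set u : ↥(SUg B) := t * (d : ↥(SUg B)) * t⁻¹ * (d : ↥(SUg B))⁻¹ with hu
  have huD : u ∈ D := D.mul_mem (hD.conj_mem _ d.2 t) (D.inv_mem d.2)
  have hucoe : (u : V ≃ₗ[F] V) = utv B e 1 * utv B f 1 := by
    have : u = t * ((d : ↥(SUg B)) * t * (d : ↥(SUg B))⁻¹) := by
      rw [hu, htinv]; group
    rw [this]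
    show utv B e 1 * (((d : ↥(SUg B)) : V ≃ₗ[F] V) * utv B e 1 *
      ((d : ↥(SUg B)) : V ≃ₗ[F] V)⁻¹) = _
    rw [hconj]
  refine ⟨e, f, h, u, huD, ?_, ?_⟩
  · apply Subtype.ext
    show (u : V ≃ₗ[F] V) ^ 3 = 1
    rw [hucoe]
    exact prod_utv_cube h2 h
  · rw [hucoe, prod_utv_apply h2 h]
    simp only [h.ee, h.ef, zero_add, one_smul]
    rw [add_assoc, add_comm f e, ← add_assoc, ← two_smul F e, h2, zero_smul, zero_add]

end abstract

/-! ### Matrices -/

section matrices

open Matrix Cfsg.Agent.Lib.Helper14_PSUKer Cfsg.Agent.Lib.Helper13_Herm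
  Cfsg.Agent.Lib.Helper5_SUCenter

variable {F : Type*} [Field F] [Fintype F] {n q : ℕ}

/-- the matrix of an element of `SU`. -/
abbrev mat (s : ↥(Cfsg.SU n F q)) : Matrix (Fin n) (Fin n) F :=
  ((s : Matrix.SpecialLinearGroup (Fin n) F) : Matrix (Fin n) (Fin n) F)

theorem suEquiv_apply (σ : F →+* F) (hσq : ∀ x, σ x = x ^ q) (s : ↥(Cfsg.SU n F q))
    (v : Fin n → F) :
    ((Cfsg.Agent.S0283.suEquiv σ hσq s : ↥(SUg (hermB n σ hσq))) :
      (Fin n → F) ≃ₗ[F] (Fin n → F)) v = mat s *ᵥ v :=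
  Cfsg.Agent.S0780.toLE_apply s v

/-- **Normal subgroups of `SU_n(q)`**. -/
theorem su_normal_cases (hF : Fintype.card F = q ^ 2) (hn : 3 ≤ n)
    (D : Subgroup ↥(Cfsg.SU n F q)) [hD : D.Normal] :
    (∀ s ∈ D, ∃ a : F, mat s = a • (1 : Matrix (Fin n) (Fin n) F)) ∨ D = ⊤ ∨
      (n = 3 ∧ q = 2 ∧ ∃ u ∈ D, u ^ 3 = 1 ∧ ¬ ∃ a : F, mat u = a • (1 : Matrix (Fin n) (Fin n) F)) := by
  by_cases h32 : n = 3 ∧ q = 2
  swap
  · -- the generic case
    rcases Cfsg.Agent.Lib.Helper44_BalanceGen.normal_dichotomy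
      (Cfsg.Agent.S0283.su_perfect hF n hn h32) (Cfsg.Agent.S0283.result hF n hn h32) D with h | h
    · left
      intro s hs
      have hn0 : 0 < n := by omega
      exact ⟨mat s ⟨0, hn0⟩ ⟨0, hn0⟩, center_eq_smul hF s (h hs) ⟨0, hn0⟩⟩
    · right; left; exact h
  · obtain ⟨hn3, hq2⟩ := h32
    by_cases hsc : ∀ s ∈ D, ∃ a : F, mat s = a • (1 : Matrix (Fin n) (Fin n) F)
    · left; exact hsc
    right; right
    refine ⟨hn3, hq2, ?_⟩
    push Not at hsc
    obtain ⟨s₀, hs₀D, hs₀⟩ := hsc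
    obtain ⟨σ, hσq, hσ⟩ := exists_frob hF
    have hB := hermB_isHerm (n := n) σ hσq hσ
    have hN := hermB_nondeg (n := n) σ hσq
    have hfr : finrank F (Fin n → F) = n := Module.finrank_fin_fun F
    set E := Cfsg.Agent.S0283.suEquiv (n := n) σ hσq with hE
    -- characteristic two
    have h2 : (2 : F) = 0 := by
      have h4 : ((Fintype.card F : ℕ) : F) = 0 := Nat.cast_card_eq_zero F
      rw [hF, hq2] at h4
      have h5 : (2 : F) * 2 = 0 := by
        have : ((2 ^ 2 : ℕ) : F) = 2 * 2 := by norm_num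
        rw [← this]; exact h4
      rcases mul_eq_zero.mp h5 with h | h <;> exact h
    have hfix : ∀ c : F, σ c = c → c = 0 ∨ c = 1 := by
      intro c hc
      rw [hσq, hq2] at hc
      have : c * (c - 1) = 0 := by linear_combination hc
      rcases mul_eq_zero.mp this with h | h
      · left; exact h
      · right; exact sub_eq_zero.mp h
    -- the image of `D` in the abstract group
    set D' : Subgroup ↥(SUg (hermB n σ hσq)) := D.map E.toMonoidHom with hD'
    haveI hD'n : D'.Normal := hD.map _ E.surjective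
    have hmove : ∃ g ∈ D', ∃ W : IsoPt (hermB n σ hσq), g • W ≠ W := by
      by_contra hcon
      push Not at hcon
      have hmem : E s₀ ∈ D' := Subgroup.mem_map_of_mem _ hs₀D
      have hiso : ∀ v : Fin n → F, Cfsg.hermForm n F q v v = 0 → ∃ l : F, mat s₀ *ᵥ v = l • v := by
        intro v hv
        by_cases hv0 : v = 0
        · exact ⟨0, by rw [hv0, Matrix.mulVec_zero, zero_smul]⟩
        obtain ⟨l, hl⟩ := exists_smul_of_fixes (B := hermB n σ hσq) (g := E s₀)
          (fun W => hcon _ hmem W) hv0 hv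
        refine ⟨l, ?_⟩
        rw [← hl, hE, suEquiv_apply]
      obtain ⟨r, hr⟩ := scalar_of_iso hF hn (mat s₀) hiso
      exact hs₀ r hr
    obtain ⟨e, f, h, u', hu'D, hu'3, hu'e⟩ := exists_prod_utv_mem hσ hB hN (by rw [hfr]; exact hn)
      h2 hfix D' hmove
    obtain ⟨u, huD, rfl⟩ := hu'D
    refine ⟨u, huD, ?_, ?_⟩
    · apply E.injective
      rw [map_pow, map_one]
      exact hu'3
    · rintro ⟨a, ha⟩
      have h5 : ((E u : ↥(SUg (hermB n σ hσq))) : (Fin n → F) ≃ₗ[F] (Fin n → F)) e = a • e := by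
        rw [hE, suEquiv_apply, ha, Matrix.smul_mulVec, Matrix.one_mulVec]
      have h6 : f = a • e := by
        rw [← h5]; exact hu'e.symm
      have h7 := h.ef
      rw [h6, map_smulₛₗ, h.ee, smul_zero] at h7
      exact zero_ne_one h7

end matrices

end Cfsg.Agent.Lib.Helper93_UBalNormal
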