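import Mathlib
import Cfsg.Agent.Lib.Helper44_PSUFieldCent
import Cfsg.Agent.Lib.Helper44_BalanceGen
import Cfsg.Agent.Lib.Helper93_UBalFix
import Cfsg.Agent.Lib.Helper93_UBalNormal

/-!
# Local balance for a standard field automorphism of `PSU_n(q)` (helper93)

`σ` a field automorphism of odd prime order `p`: the `p'`-core of `C_A(fieldU σ)` is nontrivial iff
`p` does not divide the number of fixed points of `fieldU σ` on `PSU_n(q)`.
-/

set_option autoImplicit false
set_option linter.unusedSectionVars false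
set_option linter.unusedVariables false
set_option linter.unusedSimpArgs false
set_option linter.style.haveILetI false

namespace Cfsg.Agent.Lib.Helper93_UBalStd

open Matrix Cfsg.Agent.Lib.Helper14_PSLAut Cfsg.Agent.Lib.Helper14_FieldAutPSL
  Cfsg.Agent.Lib.Helper14_Char2Groups Cfsg.Agent.Lib.Helper14_PSUAut Cfsg.Agent.Lib.Helper13_Herm
  Cfsg.Agent.Lib.Helper14_PSUKer Cfsg.Agent.Lib.Helper14_PSUStar Cfsg.Agent.Lib.Helper14_PSUSplit
  Cfsg.Agent.Lib.Helper45_PSUOut Cfsg.Agent.Lib.Helper44_PSULang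
  Cfsg.Agent.Lib.Helper44_PSUFieldCent Cfsg.Agent.Lib.Helper44_BalanceGen
  Cfsg.Agent.Lib.Helper5_SUCenter Cfsg.Agent.Lib.Helper5_SUOrder Cfsg.Agent.Lib.Helper5_GUOrder
  Cfsg.Agent.Lib.Helper93_UBalFix Cfsg.Agent.Lib.Helper93_UBalNormal

variable {F : Type*} [Field F] [Fintype F] {n q : ℕ}

local notation "SLn" => Matrix.SpecialLinearGroup (Fin n) F
set_option quotPrecheck false in
local notation "SUn" => ↥(Cfsg.SU n F q)
local notation "PSUn" => Cfsg.PSU n F q
local notation "Mn" => Matrix (Fin n) (Fin n) F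

/-! ### `SU` inside `GU` -/

/-- the inclusion of `SU` in `GU` -/
def suToGU : SUn →* ↥(Cfsg.GU n F q) where
  toFun s := ⟨Matrix.SpecialLinearGroup.toGL s.1, toGL_mem_GU s⟩
  map_one' := Subtype.ext (map_one _)
  map_mul' a b := Subtype.ext (map_mul _ _ _)

theorem suToGU_coe (s : SUn) : (((suToGU s).1 : GL (Fin n) F) : Mn) = mat s := rfl

theorem conjU_suToGU (s : SUn) :
    conjU (suToGU s) = MulAut.conj (QuotientGroup.mk s : PSUn) := conjU_toGL s

theorem detU_suToGU (s : SUn) : detU (suToGU s) = 1 := by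
  apply Units.ext
  rw [detU_apply, Matrix.GeneralLinearGroup.val_det_apply, suToGU_coe]
  exact s.1.2

theorem exists_suToGU (g : ↥(Cfsg.GU n F q)) (hg : detU g = 1) : ∃ s : SUn, suToGU s = g := by
  rw [detU_apply] at hg
  have hdet : ((g.1 : GL (Fin n) F) : Mn).det = 1 := by
    rw [← Matrix.GeneralLinearGroup.val_det_apply, hg, Units.val_one]
  refine ⟨⟨⟨((g.1 : GL (Fin n) F) : Mn), hdet⟩, fun u v => g.2 u v⟩, ?_⟩
  apply Subtype.ext
  apply Units.ext
  rfl

theorem conj_injective (hF : Fintype.card F = q ^ 2) (hn : 3 ≤ n) :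
    Function.Injective (MulAut.conj : PSUn →* MulAut PSUn) := by
  rw [injective_iff_map_eq_one]
  intro k hk
  obtain ⟨s, rfl⟩ := QuotientGroup.mk_surjective k
  rw [← conjU_suToGU, conjU_apply, conjN_eq_one_iff hF hn, Cfsg.Geo.mem_scalars_iff] at hk
  obtain ⟨c, hc⟩ := hk
  have hc' : mat s = (c : F) • (1 : Mn) := hc
  rw [QuotientGroup.eq_one_iff, Subgroup.mem_center_iff]
  intro t
  apply Subtype.ext
  apply Subtype.ext
  show mat t * mat s = mat s * mat t
  rw [hc', Matrix.mul_smul, Matrix.smul_mul, Matrix.mul_one, Matrix.one_mul]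

theorem fieldU_comm_conj_iff (hF : Fintype.card F = q ^ 2) (hn : 3 ≤ n) (σ : F ≃+* F)
    (k : PSUn) :
    fieldU σ * MulAut.conj k = MulAut.conj k * fieldU σ ↔ fieldU σ k = k := by
  rw [conj_comm_aut']
  constructor
  · intro h
    exact conj_injective hF hn (mul_right_cancel h)
  · intro h
    rw [h]

/-- if `y` commutes with conjugation by `t` then `y` fixes `t` -/
theorem fix_of_commute_conj (hF : Fintype.card F = q ^ 2) (hn : 3 ≤ n) (y : MulAut PSUn)
    (t : PSUn) (h : y * MulAut.conj t = MulAut.conj t * y) : y t = t := by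
  rw [conj_comm_aut'] at h
  exact conj_injective hF hn (mul_right_cancel h)

/-- the fixed points of the standard field automorphism -/
abbrev FixK (n q : ℕ) (σ : F ≃+* F) : Subgroup (Cfsg.PSU n F q) :=
  MonoidHom.eqLocus (fieldU (n := n) (q := q) σ).toMonoidHom (MonoidHom.id (Cfsg.PSU n F q))

theorem mem_FixK (σ : F ≃+* F) {k : PSUn} : k ∈ FixK n q σ ↔ fieldU σ k = k := Iff.rfl

/-- a unitary transvection with nonzero parameters is not scalar -/
theorem tv_not_scalar (v : Fin n → F) (c : F) (hv : Cfsg.hermForm n F q v v = 0) (hv0 : v ≠ 0)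
    (hc0 : c ≠ 0) (a : F) : Cfsg.unitaryTransvection n q v c ≠ a • (1 : Mn) := by
  intro h
  obtain ⟨i, hi⟩ : ∃ i, v i ≠ 0 := by
    by_contra hcon
    push Not at hcon
    exact hv0 (funext hcon)
  have h1 := congrArg (fun M : Mn => M *ᵥ v) h
  simp only [unitaryTransvection_mulVec, hv, mul_zero, zero_smul, add_zero, Matrix.smul_mulVec,
    Matrix.one_mulVec] at h1
  have ha : a = 1 := by
    have := congrFun h1 i
    simp only [Pi.smul_apply, smul_eq_mul] at this
    have h2 : (a - 1) * v i = 0 := by linear_combination -this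
    rcases mul_eq_zero.mp h2 with h3 | h3
    · exact sub_eq_zero.mp h3
    · exact absurd h3 hi
  have h2 := congrArg (fun M : Mn => M *ᵥ (Pi.single i 1 : Fin n → F)) h
  simp only [unitaryTransvection_mulVec, Matrix.smul_mulVec, Matrix.one_mulVec, ha, one_smul] at h2
  rw [hermForm_single_left] at h2
  have h3 : (c * v i ^ q) • v = 0 := by
    have := h2
    rwa [add_eq_left] at this
  have h4 := congrFun h3 i
  simp only [Pi.smul_apply, smul_eq_mul, Pi.zero_apply] at h4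
  exact mul_ne_zero (mul_ne_zero hc0 (pow_ne_zero _ hi)) hi h4

theorem suField_tvSU (hF : Fintype.card F = q ^ 2) (σ : F ≃+* F) (v : Fin n → F) (c : F)
    (hv : Cfsg.hermForm n F q v v = 0) (hc : c + c ^ q = 0) (hσv : ∀ i, σ (v i) = v i)
    (hσc : σ c = c) : suField σ (tvSU hF v c hv hc) = tvSU hF v c hv hc := by
  apply Subtype.ext
  apply Subtype.ext
  rw [suField_coe, tvSU_coe, trans_map, hσc]
  congr 1
  funext i
  exact hσv i

/-! ### The subfield subgroup -/

section subfield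

variable {F₀ : Type*} [Field F₀] [Fintype F₀] {q₀ : ℕ}
  (hF : Fintype.card F = q ^ 2) (hF₀ : Fintype.card F₀ = q₀ ^ 2)
  (σ : F ≃+* F) (ι : F₀ →+* F) (hι : ∀ a : F, σ a = a ↔ a ∈ Set.range ι)
  (hιq : ∀ x : F₀, ι (x ^ q₀) = (ι x) ^ q)

/-- the subfield subgroup `SU_n(F₀)` acting on `PSU_n(F)` -/
def psiU : ↥(Cfsg.SU n F₀ q₀) →* MulAut (Cfsg.PSU n F q) :=
  (PhiU hF hF₀ ι hιq).comp suToGU

theorem psiU_apply (s : ↥(Cfsg.SU n F₀ q₀)) :
    psiU hF hF₀ ι hιq s = conjU (mapGU hF hF₀ ι hιq (suToGU s)) := rfl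

/-- base change `SU_n(F₀) → SU_n(F)` -/
def mapSU (s : ↥(Cfsg.SU n F₀ q₀)) : SUn :=
  ⟨⟨(mat s).map ι, by
    have h1 : ((mat s).map ι).det = ι (mat s).det := by
      rw [RingHom.map_det, RingHom.mapMatrix_apply]
    rw [h1, s.1.2, map_one]⟩,
    fun u v => (mapGU hF hF₀ ι hιq (suToGU s)).2 u v⟩

theorem mapSU_coe (s : ↥(Cfsg.SU n F₀ q₀)) : mat (mapSU hF hF₀ ι hιq s) = (mat s).map ι := rfl

theorem suToGU_mapSU (s : ↥(Cfsg.SU n F₀ q₀)) :
    suToGU (mapSU hF hF₀ ι hιq s) = mapGU hF hF₀ ι hιq (suToGU s) := by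
  apply Subtype.ext
  apply Units.ext
  rfl

theorem psiU_eq_conj (s : ↥(Cfsg.SU n F₀ q₀)) :
    psiU hF hF₀ ι hιq s = MulAut.conj (QuotientGroup.mk (mapSU hF hF₀ ι hιq s) : PSUn) := by
  rw [psiU_apply, ← suToGU_mapSU, conjU_suToGU]

include hι in
theorem fieldU_mapSU (s : ↥(Cfsg.SU n F₀ q₀)) :
    fieldU σ (QuotientGroup.mk (mapSU hF hF₀ ι hιq s) : PSUn) =
      QuotientGroup.mk (mapSU hF hF₀ ι hιq s) := by
  rw [fieldU_mk]
  congr 1
  apply Subtype.ext
  apply Subtype.ext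
  rw [suField_coe]
  show ((mat s).map ι).map σ = (mat s).map ι
  ext i j
  simp only [Matrix.map_apply]
  exact (hι _).mpr ⟨_, rfl⟩

include hιq in
theorem unitaryTransvection_map_ι (v₀ : Fin n → F₀) (c₀ : F₀) :
    (Cfsg.unitaryTransvection n q₀ v₀ c₀).map ι =
      Cfsg.unitaryTransvection n q (fun i => ι (v₀ i)) (ι c₀) := by
  unfold Cfsg.unitaryTransvection
  ext i j
  simp only [Matrix.map_apply, Matrix.add_apply, Matrix.smul_apply, Matrix.vecMulVec_apply,
    smul_eq_mul, map_add, map_mul, hιq, Matrix.one_apply]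
  rw [apply_ite ι, map_one, map_zero]

include hι in
/-- every transvection with `σ`-fixed parameters comes from the subfield subgroup -/
theorem exists_mapSU_tv (v : Fin n → F) (c : F) (hv : Cfsg.hermForm n F q v v = 0)
    (hc : c + c ^ q = 0) (hσv : ∀ i, σ (v i) = v i) (hσc : σ c = c) :
    ∃ s : ↥(Cfsg.SU n F₀ q₀), mapSU hF hF₀ ι hιq s = tvSU hF v c hv hc := by
  have h1 : ∀ i, ∃ y, ι y = v i := fun i => (hι _).mp (hσv i)
  choose v₀ hv₀ using h1
  obtain ⟨c₀, hc₀⟩ := (hι _).mp hσc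
  have hv₀' : Cfsg.hermForm n F₀ q₀ v₀ v₀ = 0 := by
    apply ι.injective
    rw [map_zero, ← hv]
    unfold Cfsg.hermForm
    rw [map_sum]
    apply Finset.sum_congr rfl
    intro i _
    rw [map_mul, hιq, hv₀]
  have hc₀' : c₀ + c₀ ^ q₀ = 0 := by
    apply ι.injective
    rw [map_zero, map_add, hιq, hc₀]
    exact hc
  refine ⟨tvSU hF₀ v₀ c₀ hv₀' hc₀', ?_⟩
  apply Subtype.ext
  apply Subtype.ext
  show (Cfsg.unitaryTransvection n q₀ v₀ c₀).map ι = Cfsg.unitaryTransvection n q v c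
  rw [unitaryTransvection_map_ι ι hιq, hc₀]
  congr 1
  funext i
  exact hv₀ i

theorem psiU_eq_one_of_scalar (hn : 3 ≤ n) (s : ↥(Cfsg.SU n F₀ q₀)) (a : F₀)
    (ha : mat s = a • (1 : Matrix (Fin n) (Fin n) F₀)) : psiU hF hF₀ ι hιq s = 1 := by
  have ha0 : a ≠ 0 := by
    rintro rfl
    rw [zero_smul] at ha
    have h1 : (mat s).det = 1 := s.1.2
    haveI : Nonempty (Fin n) := ⟨⟨0, by omega⟩⟩
    rw [ha, Matrix.det_zero] at h1
    exact zero_ne_one h1
  show PhiU hF hF₀ ι hιq (suToGU s) = 1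
  rw [← MonoidHom.mem_ker, PhiU_ker hF hF₀ ι hιq hn, Subgroup.mem_subgroupOf,
    Cfsg.Geo.mem_scalars_iff]
  exact ⟨Units.mk0 a ha0, ha⟩

theorem scalar_of_psiU_eq_one (hn : 3 ≤ n) (s : ↥(Cfsg.SU n F₀ q₀))
    (h : psiU hF hF₀ ι hιq s = 1) : ∃ a : F₀, mat s = a • (1 : Matrix (Fin n) (Fin n) F₀) := by
  have h' : PhiU hF hF₀ ι hιq (suToGU s) = 1 := h
  rw [← MonoidHom.mem_ker, PhiU_ker hF hF₀ ι hιq hn, Subgroup.mem_subgroupOf,
    Cfsg.Geo.mem_scalars_iff] at h'
  obtain ⟨c, hc⟩ := h'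
  exact ⟨c, hc⟩

include hF hι in
theorem conj_mem_CDU (hn : 3 ≤ n) {k : PSUn} (hk : fieldU σ k = k) :
    MulAut.conj k ∈ CDU n q σ := by
  rw [mem_CDU_iff]
  refine ⟨?_, (fieldU_comm_conj_iff hF hn σ k).mpr hk⟩
  obtain ⟨s, rfl⟩ := QuotientGroup.mk_surjective k
  rw [inndiagPSU_eq, ← conjU_suToGU]
  exact ⟨_, rfl⟩

include hι in
/-- inner automorphisms centralizing `fieldU σ` normalize the subfield subgroup -/
theorem psiU_conj (hn : 3 ≤ n) {p : ℕ} (hp0 : 0 < p) (hord : orderOf σ = p) {k : PSUn}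
    (hk : fieldU σ k = k) (s : ↥(Cfsg.SU n F₀ q₀)) :
    ∃ s' : ↥(Cfsg.SU n F₀ q₀),
      MulAut.conj k * psiU hF hF₀ ι hιq s * (MulAut.conj k)⁻¹ = psiU hF hF₀ ι hιq s' := by
  obtain ⟨g₀, hg₀⟩ := PhiU_range hF hF₀ σ ι hι hιq hn hp0 hord _ (conj_mem_CDU hF σ ι hι hn hk)
  have hdet : detU (g₀ * suToGU s * g₀⁻¹) = 1 := by
    rw [map_mul, map_mul, map_inv, detU_suToGU, mul_one, mul_inv_cancel]
  obtain ⟨s', hs'⟩ := exists_suToGU _ hdet
  refine ⟨s', ?_⟩
  show _ = PhiU hF hF₀ ι hιq (suToGU s')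
  rw [hs', ← hg₀, map_mul, map_mul, map_inv]
  rfl

end subfield

/-! ### The order of the subfield subgroup -/

section main

variable {F₀ : Type*} [Field F₀] [Fintype F₀] {q₀ : ℕ}
  (hF : Fintype.card F = q ^ 2) (hF₀ : Fintype.card F₀ = q₀ ^ 2)
  (σ : F ≃+* F) (ι : F₀ →+* F) (hι : ∀ a : F, σ a = a ↔ a ∈ Set.range ι)
  (hιq : ∀ x : F₀, ι (x ^ q₀) = (ι x) ^ q)

include hι in
theorem dvd_card_range_psi_u (hn : 3 ≤ n) {p : ℕ} [hp : Fact p.Prime] (hord : orderOf σ = p)
    (hdvd : p ∣ Nat.card ↥(FixK n q σ)) :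
    p ∣ Nat.card ↥(psiU (n := n) hF hF₀ ι hιq).range := by
  classical
  have hn0 : 0 < n := by omega
  have hq₀2 : 2 ≤ q₀ := two_le_q hF₀
  have hcardU : Nat.card F₀ˣ = (q₀ + 1) * (q₀ - 1) := by
    rw [Nat.card_units, Nat.card_eq_fintype_card, card_sub_one_eq' hF₀]
  by_cases hpq : p ∣ q₀ + 1
  · -- an explicit diagonal element of order `p`
    obtain ⟨ε, hε⟩ := exists_prime_orderOf_dvd_card' (G := F₀ˣ) p
      (by rw [hcardU]; exact Dvd.dvd.mul_right hpq _)
    have hε1 : ε ^ (q₀ + 1) = 1 := orderOf_dvd_iff_pow_eq_one.mp (by rw [hε]; exact hpq)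
    have hεp : ε ^ p = 1 := by rw [← hε]; exact pow_orderOf_eq_one ε
    have hεne : (ε : F₀) ≠ 1 := by
      intro h
      have : ε = 1 := Units.ext h
      rw [this, orderOf_one] at hε
      exact hp.out.one_lt.ne hε
    have hε1' : (ε : F₀) * (ε : F₀) ^ q₀ = 1 := by
      rw [← pow_succ', ← Units.val_pow_eq_pow_val, hε1, Units.val_one]
    have hεi1' : ((ε⁻¹ : F₀ˣ) : F₀) * ((ε⁻¹ : F₀ˣ) : F₀) ^ q₀ = 1 := by
      rw [← pow_succ', ← Units.val_pow_eq_pow_val, inv_pow, hε1, inv_one, Units.val_one]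
    have hεp' : (ε : F₀) ^ p = 1 := by
      rw [← Units.val_pow_eq_pow_val, hεp, Units.val_one]
    have hεip' : ((ε⁻¹ : F₀ˣ) : F₀) ^ p = 1 := by
      rw [← Units.val_pow_eq_pow_val, inv_pow, hεp, inv_one, Units.val_one]
    set i0 : Fin n := ⟨0, by omega⟩ with hi0
    set i1 : Fin n := ⟨1, by omega⟩ with hi1
    set i2 : Fin n := ⟨2, by omega⟩ with hi2
    have h01 : i0 ≠ i1 := by rw [hi0, hi1]; intro h; simp [Fin.ext_iff] at h
    have h02 : i0 ≠ i2 := by rw [hi0, hi2]; intro h; simp [Fin.ext_iff] at h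
    have h12 : i1 ≠ i2 := by rw [hi1, hi2]; intro h; simp [Fin.ext_iff] at h
    set d : Fin n → F₀ := fun i => (if i = i0 then (ε : F₀) else 1) *
      (if i = i1 then ((ε⁻¹ : F₀ˣ) : F₀) else 1) with hd
    have hdU : ∀ i, d i * (d i) ^ q₀ = 1 := by
      intro i
      show ((if i = i0 then (ε : F₀) else 1) * (if i = i1 then ((ε⁻¹ : F₀ˣ) : F₀) else 1))
        * ((if i = i0 then (ε : F₀) else 1) * (if i = i1 then ((ε⁻¹ : F₀ˣ) : F₀) else 1)) ^ q₀ = 1
      by_cases h1 : i = i0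
      · have h2 : ¬ i = i1 := by rw [h1]; exact h01
        rw [if_pos h1, if_neg h2, mul_one]; exact hε1'
      · by_cases h2 : i = i1
        · rw [if_neg h1, if_pos h2, one_mul]; exact hεi1'
        · rw [if_neg h1, if_neg h2, mul_one, one_pow, mul_one]
    have hdp : ∀ i, d i ^ p = 1 := by
      intro i
      show ((if i = i0 then (ε : F₀) else 1) * (if i = i1 then ((ε⁻¹ : F₀ˣ) : F₀) else 1)) ^ p = 1
      by_cases h1 : i = i0
      · have h2 : ¬ i = i1 := by rw [h1]; exact h01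
        rw [if_pos h1, if_neg h2, mul_one]; exact hεp'
      · by_cases h2 : i = i1
        · rw [if_neg h1, if_pos h2, one_mul]; exact hεip'
        · rw [if_neg h1, if_neg h2, mul_one, one_pow]
    have hdet : (Matrix.diagonal d).det = 1 := by
      rw [Matrix.det_diagonal, Finset.prod_mul_distrib, Finset.prod_ite_eq', Finset.prod_ite_eq']
      simp
    set s : ↥(Cfsg.SU n F₀ q₀) := mkSU (Matrix.diagonal d) (isU_diagonal d hdU) hdet with hs
    have hsmat : mat s = Matrix.diagonal d := rfl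
    have hsp : s ^ p = 1 := by
      apply Subtype.ext
      apply Subtype.ext
      show mat (s ^ p) = 1
      have : mat (s ^ p) = (mat s) ^ p := by
        simp [mat]
      rw [this, hsmat, Matrix.diagonal_pow]
      have h1 : d ^ p = 1 := by
        funext i
        exact hdp i
      rw [h1]
      exact Matrix.diagonal_one
    have h1 : (psiU hF hF₀ ι hιq s) ^ p = 1 := by rw [← map_pow, hsp, map_one]
    have h2 : psiU hF hF₀ ι hιq s ≠ 1 := by
      intro h
      obtain ⟨a, ha⟩ := scalar_of_psiU_eq_one hF hF₀ ι hιq hn s h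
      rw [hsmat] at ha
      have e0 := congrFun (congrFun ha i0) i0
      have e2 := congrFun (congrFun ha i2) i2
      rw [Matrix.diagonal_apply_eq, Matrix.smul_apply, Matrix.one_apply_eq, smul_eq_mul,
        mul_one] at e0 e2
      have hd0 : d i0 = ε := by simp [hd, h01]
      have hd2 : d i2 = 1 := by simp [hd, h02.symm, h12.symm]
      rw [hd0] at e0
      rw [hd2] at e2
      exact hεne (e0.trans e2.symm)
    have h3 := orderOf_eq_prime h1 h2
    rw [← h3]
    exact Subgroup.orderOf_dvd_natCard _ ⟨s, rfl⟩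
  · obtain ⟨x, hx⟩ := exists_prime_orderOf_dvd_card' p hdvd
    have hk₁ : fieldU σ x.1 = x.1 := x.2
    have hok : orderOf x.1 = p := by rw [Subgroup.orderOf_coe]; exact hx
    have hod : orderOf (MulAut.conj x.1) = p := by
      rw [orderOf_injective _ (conj_injective hF hn) x.1]; exact hok
    obtain ⟨g₀, hg₀⟩ := PhiU_range hF hF₀ σ ι hι hιq hn hp.out.pos hord _
      (conj_mem_CDU hF σ ι hι hn hk₁)
    have hdet : detU (g₀ ^ (q₀ + 1)) = 1 := by
      rw [map_pow]
      have hmem : detU g₀ ∈ (detU (n := n) (F := F₀) (q := q₀)).range := ⟨g₀, rfl⟩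
      rw [range_detU hF₀ hn0] at hmem
      obtain ⟨y, hy⟩ := hmem
      rw [← hy, powMonoidHom_apply, ← pow_mul, mul_comm, ← hcardU]
      exact pow_card_eq_one'
    obtain ⟨s₁, hs₁⟩ := exists_suToGU _ hdet
    have h4 : psiU hF hF₀ ι hιq s₁ = (MulAut.conj x.1) ^ (q₀ + 1) := by
      show PhiU hF hF₀ ι hιq (suToGU s₁) = _
      rw [hs₁, map_pow, hg₀]
    have hcop : Nat.Coprime (orderOf (MulAut.conj x.1)) (q₀ + 1) := by
      rw [hod]; exact (Nat.Prime.coprime_iff_not_dvd hp.out).mpr hpq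
    have h5 : orderOf (psiU hF hF₀ ι hιq s₁) = p := by
      rw [h4, hcop.orderOf_pow, hod]
    rw [← h5]
    exact Subgroup.orderOf_dvd_natCard _ ⟨s₁, rfl⟩

theorem card_SU_three_two (hF₀ : Fintype.card F₀ = 2 ^ 2) : Nat.card ↥(Cfsg.SU 3 F₀ 2) = 216 := by
  have h1 := card_SU hF₀ 3 (by norm_num)
  norm_num [Finset.prod_range_succ] at h1
  omega

include hF hF₀ hι hιq in
/-- the core of the argument: a `p'`-subgroup of `C(fieldU σ)` normalized by the inner
automorphisms centralizing `fieldU σ` is trivial if `p` divides the number of fixed points -/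
theorem core_bot_u (hn : 3 ≤ n) (hfac : Fac n F q) {p : ℕ} [hp : Fact p.Prime]
    (hord : orderOf σ = p) (hp2 : p ≠ 2) (N' : Subgroup (MulAut PSUn))
    (hcent : ∀ m ∈ N', fieldU σ * m = m * fieldU σ)
    (hnorm : ∀ k₁ : PSUn, fieldU σ k₁ = k₁ → ∀ m ∈ N',
      MulAut.conj k₁ * m * (MulAut.conj k₁)⁻¹ ∈ N')
    (hcop : (Nat.card N').Coprime p)
    (hdvd : p ∣ Nat.card ↥(FixK n q σ)) : N' = ⊥ := by
  classical
  have hodd : Odd (orderOf σ) := by rw [hord]; exact hp.out.odd_of_ne_two hp2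
  have hφ : orderOf (fieldU (n := n) (q := q) σ) = p := by
    rw [orderOf_fieldU hF hn σ]; exact hord
  have hrange := dvd_card_range_psi_u hF hF₀ σ ι hι hιq hn hord hdvd
  have hnormψ : ∀ (s : ↥(Cfsg.SU n F₀ q₀)), ∀ m ∈ N',
      psiU hF hF₀ ι hιq s * m * (psiU hF hF₀ ι hιq s)⁻¹ ∈ N' := by
    intro s m hm
    rw [psiU_eq_conj]
    exact hnorm _ (fieldU_mapSU hF hF₀ σ ι hι hιq s) m hm
  apply core_abstract (fieldU (n := n) (q := q) σ) hφ
    ((FixK n q σ).map (MulAut.conj : PSUn →* MulAut PSUn)) (psiU (n := n) hF hF₀ ι hιq).range N'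
  · -- the subfield subgroup consists of inner automorphisms centralizing `fieldU σ`
    rintro _ ⟨s, rfl⟩
    rw [psiU_eq_conj]
    exact ⟨_, fieldU_mapSU hF hF₀ σ ι hι hιq s, rfl⟩
  · rintro _ ⟨k, hk, rfl⟩ _ ⟨s, rfl⟩
    obtain ⟨s', hs'⟩ := psiU_conj hF hF₀ σ ι hι hιq hn hp.out.pos hord hk s
    exact ⟨s', hs'.symm⟩
  · rintro m hm _ ⟨k, hk, rfl⟩
    have hk' : fieldU σ k = k := hk
    refine ⟨m k, ?_, ?_⟩
    · show fieldU σ (m k) = m k
      have := DFunLike.congr_fun (hcent m hm) k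
      rw [MulAut.mul_apply, MulAut.mul_apply, hk'] at this
      exact this
    · show MulAut.conj (m k) = m * MulAut.conj k * m⁻¹
      rw [conj_comm_aut']
      group
  · rintro _ ⟨k, hk, rfl⟩ m hm
    exact hnorm k hk m hm
  · exact hcent
  · intro y hyφ hyH
    obtain ⟨g, τ, rfl⟩ := hfac y
    apply mem_zpowers_of_fix_u hF hn σ hodd g τ
    intro v c hv hc hσv hσc
    obtain ⟨s, hs⟩ := exists_mapSU_tv hF hF₀ σ ι hι hιq v c hv hc hσv hσc
    apply fix_of_commute_conj hF hn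
    rw [← hs, ← psiU_eq_conj]
    exact hyH _ ⟨s, rfl⟩
  · rw [eq_bot_iff]
    rintro d ⟨hdN, s, rfl⟩
    rw [Subgroup.mem_bot]
    haveI hDn : (N'.comap (psiU (n := n) hF hF₀ ι hιq)).Normal := by
      refine ⟨fun s hs t => ?_⟩
      rw [Subgroup.mem_comap, map_mul, map_mul, map_inv]
      exact hnormψ t _ hs
    rcases su_normal_cases hF₀ hn (N'.comap (psiU (n := n) hF hF₀ ι hιq)) with
      hA | hB | ⟨hn3, hq2, u, huD, hu3, hus⟩
    · obtain ⟨a, ha⟩ := hA s hdN
      exact psiU_eq_one_of_scalar hF hF₀ ι hιq hn s a ha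
    · exfalso
      have hle : (psiU (n := n) hF hF₀ ι hιq).range ≤ N' := by
        rintro _ ⟨t, rfl⟩
        have : t ∈ N'.comap (psiU (n := n) hF hF₀ ι hιq) := by rw [hB]; trivial
        exact this
      have h1 := Subgroup.card_dvd_of_le hle
      have h2 := Nat.dvd_gcd (hrange.trans h1) (dvd_refl p)
      rw [Nat.Coprime] at hcop
      rw [hcop] at h2
      exact hp.out.one_lt.ne' (Nat.dvd_one.mp h2)
    · exfalso
      have hcard : Nat.card ↥(Cfsg.SU n F₀ q₀) = 216 := by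
        subst hn3 hq2
        exact card_SU_three_two hF₀
      have h1 : Nat.card ↥(psiU (n := n) hF hF₀ ι hιq).range ∣ 216 := by
        rw [← hcard]
        exact Subgroup.card_range_dvd _
      have hp3 : p = 3 := by
        have h3 : p ∣ 2 ^ 3 * 3 ^ 3 := by
          have := hrange.trans h1
          norm_num
          exact this
        rcases (Nat.Prime.dvd_mul hp.out).mp h3 with h | h
        · exact absurd ((Nat.prime_dvd_prime_iff_eq hp.out Nat.prime_two).mp
            (hp.out.dvd_of_dvd_pow h)) hp2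
        · exact (Nat.prime_dvd_prime_iff_eq hp.out Nat.prime_three).mp (hp.out.dvd_of_dvd_pow h)
      have hu1 : (psiU hF hF₀ ι hιq u) ^ 3 = 1 := by rw [← map_pow, hu3, map_one]
      have hu2 : psiU hF hF₀ ι hιq u ≠ 1 := fun h =>
        hus (scalar_of_psiU_eq_one hF hF₀ ι hιq hn u h)
      haveI : Fact (Nat.Prime 3) := ⟨Nat.prime_three⟩
      have h3 := orderOf_eq_prime hu1 hu2
      have h4 : 3 ∣ Nat.card N' := by
        rw [← h3]
        exact Subgroup.orderOf_dvd_natCard _ huD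
      rw [hp3] at hcop
      have h5 := Nat.dvd_gcd h4 (dvd_refl 3)
      rw [Nat.Coprime] at hcop
      rw [hcop] at h5
      omega
  · exact hcop

include hF hF₀ hι hιq in
/-- **local balance for a standard field automorphism of odd prime order** -/
theorem balance_std_u (hn : 3 ≤ n) (hfac : Fac n F q) {p : ℕ} [hp : Fact p.Prime]
    (hord : orderOf σ = p) (hp2 : p ≠ 2) (A : Subgroup (MulAut PSUn))
    (hinn : ∀ k₁ : PSUn, MulAut.conj k₁ ∈ A) :
    Cfsg.pPrimeCore p ↥(A ⊓ Subgroup.centralizer {fieldU (n := n) (q := q) σ}) ≠ ⊥ ↔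
      Nat.Coprime p (Nat.card ↥(FixK n q σ)) := by
  have hodd : Odd (orderOf σ) := by rw [hord]; exact hp.out.odd_of_ne_two hp2
  have hconjH : ∀ k₁ : PSUn, fieldU σ k₁ = k₁ →
      MulAut.conj k₁ ∈ A ⊓ Subgroup.centralizer {fieldU (n := n) (q := q) σ} := by
    intro k₁ hk₁
    refine ⟨hinn k₁, Subgroup.mem_centralizer_iff.mpr ?_⟩
    intro z hz
    rw [Set.mem_singleton_iff] at hz
    subst hz
    exact (fieldU_comm_conj_iff hF hn σ k₁).mpr hk₁
  have hcentH : ∀ h ∈ A ⊓ Subgroup.centralizer {fieldU (n := n) (q := q) σ},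
      fieldU σ * h = h * fieldU σ := by
    intro h hh
    exact (Subgroup.mem_centralizer_iff.mp hh.2) _ rfl
  rw [pPrimeCore_ne_bot_iff]
  constructor
  · rintro ⟨N, hNn, hNc, hNb⟩
    by_contra hnc
    have hdvd : p ∣ Nat.card ↥(FixK n q σ) := by
      by_contra hnd
      exact hnc ((Nat.Prime.coprime_iff_not_dvd hp.out).mpr hnd)
    apply hNb
    have hinj := Subgroup.subtype_injective
      (A ⊓ Subgroup.centralizer {fieldU (n := n) (q := q) σ})
    rw [← Subgroup.map_eq_bot_iff_of_injective N hinj]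
    apply core_bot_u hF hF₀ σ ι hι hιq hn hfac hord hp2
    · rintro m ⟨h, hh, rfl⟩
      exact hcentH h.1 h.2
    · rintro k₁ hk₁ m ⟨h, hh, rfl⟩
      refine ⟨⟨MulAut.conj k₁, hconjH k₁ hk₁⟩ * h * ⟨MulAut.conj k₁, hconjH k₁ hk₁⟩⁻¹,
        hNn.conj_mem h hh _, rfl⟩
    · rw [Subgroup.card_map_of_injective hinj]
      exact hNc
    · exact hdvd
  · intro hcop
    have hle : (FixK n q σ).map (MulAut.conj : PSUn →* _) ≤
        A ⊓ Subgroup.centralizer {fieldU (n := n) (q := q) σ} := by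
      rintro _ ⟨k₁, hk₁, rfl⟩
      exact hconjH k₁ hk₁
    refine ⟨((FixK n q σ).map (MulAut.conj : PSUn →* _)).subgroupOf _, ?_, ?_, ?_⟩
    · refine ⟨fun m hm h => ?_⟩
      rw [Subgroup.mem_subgroupOf] at hm ⊢
      obtain ⟨k₁, hk₁, hk₁m⟩ := hm
      refine ⟨h.1 k₁, ?_, ?_⟩
      · show fieldU σ (h.1 k₁) = h.1 k₁
        have hk₁' : fieldU σ k₁ = k₁ := hk₁
        have := DFunLike.congr_fun (hcentH h.1 h.2) k₁
        rw [MulAut.mul_apply, MulAut.mul_apply, hk₁'] at this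
        exact this
      · show MulAut.conj (h.1 k₁) = h.1 * m.1 * h.1⁻¹
        rw [← hk₁m]
        have := conj_comm_aut' h.1 k₁
        calc MulAut.conj (h.1 k₁) = (MulAut.conj (h.1 k₁) * h.1) * h.1⁻¹ := by group
          _ = _ := by rw [← this]
    · rw [Nat.card_congr (Subgroup.subgroupOfEquivOfLe hle).toEquiv,
        Subgroup.card_map_of_injective (conj_injective hF hn)]
      exact hcop.symm
    · -- a nontrivial fixed point: a transvection with `σ`-fixed parameters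
      have hq0 : q ≠ 0 := by have := two_le_q hF; omega
      obtain ⟨a, a', hσa, -, ha, -, -, -, -⟩ := exists_two_fix_norm_neg_one hF σ hodd
      obtain ⟨c, hc0, hσc, hc⟩ := exists_fix_skew hF σ hodd
      set i0 : Fin n := ⟨0, by omega⟩ with hi0
      set i1 : Fin n := ⟨1, by omega⟩ with hi1
      set i2 : Fin n := ⟨2, by omega⟩ with hi2
      have h01 : i0 ≠ i1 := by rw [hi0, hi1]; intro h; simp [Fin.ext_iff] at h
      have h02 : i0 ≠ i2 := by rw [hi0, hi2]; intro h; simp [Fin.ext_iff] at h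
      have h12 : i1 ≠ i2 := by rw [hi1, hi2]; intro h; simp [Fin.ext_iff] at h
      set v : Fin n → F := vec3 i0 i1 i2 1 a 0 with hvdef
      have hv : Cfsg.hermForm n F q v v = 0 := by
        rw [hvdef, hermForm_vec3 hq0 h01 h02 h12, one_pow, zero_pow hq0]
        linear_combination ha
      have hσv : ∀ i, σ (v i) = v i := vec3_fixed σ i0 i1 i2 (map_one σ) hσa (map_zero σ)
      have hv0 : v ≠ 0 := by
        intro h
        have := congrFun h i0
        rw [hvdef, vec3_apply0 h01 h02] at this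
        exact one_ne_zero this
      set t : SUn := tvSU hF v c hv hc with ht
      have hfixt : fieldU σ (QuotientGroup.mk t : PSUn) = QuotientGroup.mk t := by
        rw [fieldU_mk, suField_tvSU hF σ v c hv hc hσv hσc]
      have htne : (QuotientGroup.mk t : PSUn) ≠ 1 := by
        intro h
        rw [QuotientGroup.eq_one_iff] at h
        have h1 := center_eq_smul hF t h i0
        exact tv_not_scalar v c hv hv0 hc0 _ h1
      intro hbot
      have h1 : (⟨MulAut.conj (QuotientGroup.mk t : PSUn), hconjH _ hfixt⟩ :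
          ↥(A ⊓ Subgroup.centralizer {fieldU (n := n) (q := q) σ})) ∈
          ((FixK n q σ).map (MulAut.conj : PSUn →* _)).subgroupOf _ := by
        rw [Subgroup.mem_subgroupOf]
        exact ⟨_, hfixt, rfl⟩
      rw [hbot, Subgroup.mem_bot] at h1
      have h2 : MulAut.conj (QuotientGroup.mk t : PSUn) = 1 := congrArg Subtype.val h1
      exact htne (conj_injective hF hn (h2.trans (map_one _).symm))

end main

end Cfsg.Agent.Lib.Helper93_UBalStd
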