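import Mathlib
import Cfsg.Agent.Lib.Helper93_UBalStd

/-!
# Local balance for `PSU_n(q)`: automorphisms of odd prime order outside `Inndiag` (helper93)
-/

set_option autoImplicit false
set_option linter.unusedSectionVars false
set_option linter.unusedVariables false
set_option linter.unusedSimpArgs false
set_option linter.style.haveILetI false

namespace Cfsg.Agent.Lib.Helper93_UBalField

open Matrix Cfsg.Agent.Lib.Helper14_PSLAut Cfsg.Agent.Lib.Helper14_FieldAutPSL
  Cfsg.Agent.Lib.Helper14_Char2Groups Cfsg.Agent.Lib.Helper14_PSUAut Cfsg.Agent.Lib.Helper13_Herm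
  Cfsg.Agent.Lib.Helper14_PSUKer Cfsg.Agent.Lib.Helper14_PSUStar Cfsg.Agent.Lib.Helper14_PSUSplit
  Cfsg.Agent.Lib.Helper45_PSUOut Cfsg.Agent.Lib.Helper44_PSULang
  Cfsg.Agent.Lib.Helper44_PSUFieldCent Cfsg.Agent.Lib.Helper44_BalanceGen
  Cfsg.Agent.Lib.Helper44_FixField Cfsg.Agent.Lib.Helper93_UBalStd

variable {F : Type*} [Field F] [Fintype F] {n q : ℕ}

local notation "PSUn" => Cfsg.PSU n F q

/-- a standard field automorphism which is inner-diagonal is trivial -/
theorem eq_one_of_fieldU_eq_conjU (hF : Fintype.card F = q ^ 2) (hn : 3 ≤ n) (τ : F ≃+* F)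
    (g : ↥(Cfsg.GU n F q)) (h : fieldU τ = (conjU g : MulAut PSUn)) : τ = 1 := by
  rw [conjU_apply] at h
  exact (eq_one_and_scalar_of_conjN_eq_fieldU hF hn _ τ h.symm).1

/-- an automorphism of odd prime order which is not inner-diagonal is conjugate, under the
inner-diagonal group, to a standard field automorphism of order `p` -/
theorem exists_conj_std_u (hF : Fintype.card F = q ^ 2) (hn : 3 ≤ n) (hfac : Fac n F q) {p : ℕ}
    (hp : p.Prime) (hp2 : p ≠ 2) (x : MulAut PSUn) (hord : orderOf x = p)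
    (hnot : ¬ Cfsg.IsInnerDiagonalAutPSU x) :
    ∃ (k : ↥(Cfsg.GU n F q)) (σ : F ≃+* F), orderOf σ = p ∧
      x = conjU k * fieldU σ * (conjU k)⁻¹ := by
  obtain ⟨g, σ, hx⟩ := hfac x
  have hσ1 : σ ≠ 1 := by
    rintro rfl
    apply hnot
    rw [isInnerDiagonalPSU_iff]
    exact ⟨g, by rw [hx, map_one, mul_one]⟩
  have hxp : (conjU g * fieldU σ : MulAut PSUn) ^ p = 1 := by
    rw [← hx, ← hord]
    exact pow_orderOf_eq_one x
  have hσp : σ ^ p = 1 := by
    have h1 := hxp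
    rw [pow_conjU_mul_fieldU] at h1
    have h2 : fieldU (σ ^ p) = (conjU (PNU σ g p)⁻¹ : MulAut PSUn) := by
      rw [map_inv]
      exact eq_inv_of_mul_eq_one_right h1
    exact eq_one_of_fieldU_eq_conjU hF hn _ _ h2
  have hordσ : orderOf σ = p := by
    haveI : Fact p.Prime := ⟨hp⟩
    exact orderOf_eq_prime hσp hσ1
  obtain ⟨k, hk⟩ := field_coset_conj_u hF hn σ (hp.odd_of_ne_two hp2) hordσ g hxp
  exact ⟨k, σ, hordσ, by rw [hx, hk]⟩

/-- the subfield data of a field automorphism of odd order -/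
theorem exists_subfield_data {r : ℕ} [hr : Fact r.Prime] [CharP F r]
    (hF : Fintype.card F = q ^ 2) (σ : F ≃+* F) {p : ℕ} (hp : p.Prime) (hp2 : p ≠ 2)
    (hord : orderOf σ = p) :
    ∃ (q₀ : ℕ) (_ : Fintype ↥(fixField σ)), Fintype.card ↥(fixField σ) = q₀ ^ 2 ∧
      ∀ y : ↥(fixField σ), (fixField σ).subtype (y ^ q₀) = ((fixField σ).subtype y) ^ q := by
  classical
  obtain ⟨m, -, hm⟩ := FiniteField.card F r
  -- `q` is a power of `r`
  have hq : ∃ f : ℕ, q = r ^ f := by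
    have hdvd : q ∣ r ^ (m : ℕ) := by
      rw [← hm, hF]
      exact dvd_pow_self q two_ne_zero
    obtain ⟨f, -, hf⟩ := (Nat.dvd_prime_pow hr.out).mp hdvd
    exact ⟨f, hf⟩
  obtain ⟨f, hf⟩ := hq
  have hF' : Fintype.card F = r ^ (2 * f) := by
    rw [hF, hf, ← pow_mul, mul_comm]
  obtain ⟨hp2f, hcard⟩ := card_fixField σ hF' hord
  have hpodd : Odd p := hp.odd_of_ne_two hp2
  have hpf : p ∣ f := by
    have hcop : Nat.Coprime p 2 := (Nat.coprime_primes hp Nat.prime_two).mpr hp2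
    exact hcop.dvd_of_dvd_mul_left hp2f
  have hdiv : 2 * f / p = 2 * (f / p) := Nat.mul_div_assoc 2 hpf
  refine ⟨r ^ (f / p), Fintype.ofFinite _, ?_, ?_⟩
  · rw [Fintype.card_eq_nat_card, hcard, hdiv, ← pow_mul, mul_comm]
  · intro y
    have hF₀q : @Fintype.card ↥(fixField σ) (Fintype.ofFinite _) = (r ^ (f / p)) ^ 2 := by
      rw [Fintype.card_eq_nat_card, hcard, hdiv, ← pow_mul, mul_comm]
    have hqq : q = (r ^ (f / p)) ^ p := by
      rw [hf, ← pow_mul, Nat.div_mul_cancel hpf]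
    rw [← map_pow, hqq]
    congr 1
    exact (@pow_pow_odd _ _ (Fintype.ofFinite _) _ hF₀q y p hpodd).symm

/-- **Local balance for `PSU`**, automorphisms of odd prime order outside the inner-diagonal
group. -/
theorem balance_field_u {r : ℕ} [hr : Fact r.Prime] [CharP F r]
    (hF : Fintype.card F = q ^ 2) (hn : 3 ≤ n) (hfac : Fac n F q)
    (A : Subgroup (MulAut PSUn)) (hinn : ∀ k : PSUn, MulAut.conj k ∈ A) {p : ℕ}
    [hp : Fact p.Prime] (hp2 : p ≠ 2) (x : MulAut PSUn) (hord : orderOf x = p)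
    (hnot : ¬ Cfsg.IsInnerDiagonalAutPSU x) :
    Cfsg.pPrimeCore p ↥(A ⊓ Subgroup.centralizer {x}) ≠ ⊥ ↔
      Nat.Coprime p (Nat.card
        ↥(MonoidHom.eqLocus x.toMonoidHom (MonoidHom.id (Cfsg.PSU n F q)))) := by
  obtain ⟨g, σ, hσ, hx⟩ := exists_conj_std_u hF hn hfac hp.out hp2 x hord hnot
  obtain ⟨q₀, inst, hF₀, hιq⟩ := exists_subfield_data (r := r) hF σ hp.out hp2 hσ
  have hφ : (conjU g)⁻¹ * x * (conjU g)⁻¹⁻¹ = fieldU σ := by
    rw [hx]; group
  have hcard : Nat.card ↥(MonoidHom.eqLocus x.toMonoidHom (MonoidHom.id (Cfsg.PSU n F q))) =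
      Nat.card ↥(FixK n q σ) := by
    have h1 : MonoidHom.eqLocus x.toMonoidHom (MonoidHom.id (Cfsg.PSU n F q)) =
        (FixK n q σ).map (conjU g : MulAut PSUn).toMonoidHom := by
      ext y
      rw [Subgroup.mem_map]
      constructor
      · intro hy
        have hy' : x y = y := hy
        refine ⟨(conjU g : MulAut PSUn)⁻¹ y, ?_, MulAut.apply_inv_self _ _ _⟩
        show fieldU σ ((conjU g : MulAut PSUn)⁻¹ y) = (conjU g : MulAut PSUn)⁻¹ y
        rw [← hφ]
        simp only [MulAut.mul_apply, inv_inv, MulAut.apply_inv_self, hy']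
      · rintro ⟨z, hz, rfl⟩
        have hz' : fieldU σ z = z := hz
        show x (conjU g z) = conjU g z
        rw [hx]
        simp only [MulAut.mul_apply, MulAut.inv_apply_self, hz']
    rw [h1]
    exact Subgroup.card_map_of_injective (conjU g : MulAut PSUn).injective
  have hinn' : ∀ k₁ : PSUn,
      MulAut.conj k₁ ∈ A.map (MulAut.conj (conjU g : MulAut PSUn)⁻¹).toMonoidHom := by
    intro k₁
    refine ⟨MulAut.conj (conjU g k₁), hinn _, ?_⟩
    show (conjU g : MulAut PSUn)⁻¹ * MulAut.conj (conjU g k₁) * (conjU g : MulAut PSUn)⁻¹⁻¹ =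
      MulAut.conj k₁
    have := conj_comm_aut' (conjU g : MulAut PSUn) k₁
    calc (conjU g : MulAut PSUn)⁻¹ * MulAut.conj (conjU g k₁) * (conjU g : MulAut PSUn)⁻¹⁻¹
        = (conjU g : MulAut PSUn)⁻¹ * (MulAut.conj (conjU g k₁) * conjU g) := by group
      _ = (conjU g : MulAut PSUn)⁻¹ * (conjU g * MulAut.conj k₁) := by rw [this]
      _ = _ := by group
  rw [pPrimeCore_conj_iff A x (conjU g : MulAut PSUn)⁻¹ p, hφ,
    balance_std_u hF hF₀ σ (fixField σ).subtype (hι_fixField σ) hιq hn hfac hσ hp2 _ hinn', hcard]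

end Cfsg.Agent.Lib.Helper93_UBalField
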