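import Mathlib
import Cfsg.Agent.Lib.Helper94_Herm

set_option autoImplicit false

/-!
Monomial maps of a basis: the linear equivalence `b i ↦ c i • b (π i)`, its determinant and a
criterion for it to be an isometry of a sesquilinear form.
-/

namespace Cfsg.Agent.Lib.Helper93_UFrame

open Module Cfsg.Agent.Lib.Helper94_Herm

variable {F V : Type*} [Field F] [AddCommGroup V] [Module F V]
variable {ι : Type*} [Fintype ι] [DecidableEq ι]

/-- The linear equivalence mapping the basis vector `b i` to `c i • b (π i)`. -/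
noncomputable def fm (b : Basis ι F V) (π : Equiv.Perm ι) (c : ι → F) (hc : ∀ i, c i ≠ 0) :
    V ≃ₗ[F] V :=
  b.equiv ((b.reindex π.symm).isUnitSMul (fun i => (hc i).isUnit)) (Equiv.refl ι)

lemma fm_apply (b : Basis ι F V) (π : Equiv.Perm ι) (c : ι → F) (hc : ∀ i, c i ≠ 0) (i : ι) :
    fm b π c hc (b i) = c i • b (π i) := by
  unfold fm
  rw [Basis.equiv_apply, Equiv.refl_apply, Basis.isUnitSMul_apply, Basis.reindex_apply,
    Equiv.symm_symm]

lemma fm_det (b : Basis ι F V) (π : Equiv.Perm ι) (c : ι → F) (hc : ∀ i, c i ≠ 0) :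
    LinearMap.det (fm b π c hc : V →ₗ[F] V) = Equiv.Perm.sign π • ∏ i, c i := by
  have h1 := Basis.det_comp b (fm b π c hc : V →ₗ[F] V) b
  rw [Basis.det_self, mul_one] at h1
  rw [← h1]
  have h2 : ((fm b π c hc : V →ₗ[F] V) ∘ b) = fun i => c i • (b ∘ π) i := by
    funext i
    simp only [Function.comp_apply, LinearEquiv.coe_coe, fm_apply]
  rw [h2, AlternatingMap.map_smul_univ, AlternatingMap.map_perm, Basis.det_self]
  rw [smul_comm, smul_eq_mul, mul_one]

lemma fm_mem_uG {σ : F →+* F} (B : V →ₗ[F] V →ₛₗ[σ] F) (b : Basis ι F V) (π : Equiv.Perm ι)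
    (c : ι → F) (hc : ∀ i, c i ≠ 0)
    (h : ∀ i j, c i * σ (c j) * B (b (π i)) (b (π j)) = B (b i) (b j)) :
    fm b π c hc ∈ uG B := by
  set g := fm b π c hc with hg
  have h1 : ∀ i y, B (g (b i)) (g y) = B (b i) y := by
    intro i
    have : (B (g (b i))).comp (g : V →ₗ[F] V) = B (b i) := by
      apply b.ext
      intro j
      rw [LinearMap.comp_apply, LinearEquiv.coe_coe, hg, fm_apply, fm_apply, ← h i j]
      simp only [map_smul, map_smulₛₗ, LinearMap.smul_apply, smul_eq_mul]
      ring
    intro y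
    exact LinearMap.congr_fun this y
  intro x y
  have : (B.flip (g y)).comp (g : V →ₗ[F] V) = B.flip y := by
    apply b.ext
    intro i
    rw [LinearMap.comp_apply, LinearEquiv.coe_coe, LinearMap.flip_apply, LinearMap.flip_apply,
      h1]
  have h2 := LinearMap.congr_fun this x
  rwa [LinearMap.comp_apply, LinearEquiv.coe_coe, LinearMap.flip_apply,
    LinearMap.flip_apply] at h2

end Cfsg.Agent.Lib.Helper93_UFrame
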