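import Mathlib
import Cfsg.Agent.Lib.Helper93_UBalStd
import Cfsg.Agent.Lib.Helper14_PSLBalCore

/-!
# Local balance at an involution of `Aut(PSU_n(q))` outside `Inndiag`: the skeleton (helper93)

The twin for `PSU_n(q)` of `Helper14_PSLBalCore.core_of_R`.
-/

set_option autoImplicit false
set_option linter.unusedSectionVars false
set_option linter.unusedVariables false
set_option linter.unusedSimpArgs false

namespace Cfsg.Agent.Lib.Helper93_UGraphCore

open Matrix Cfsg Cfsg.Agent.Lib.Helper14_PSUAut Cfsg.Agent.Lib.Helper14_BalAbs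
  Cfsg.Agent.Lib.Helper93_UBalStd Cfsg.Agent.Lib.Helper93_UBalNormal
  Cfsg.Agent.Lib.Helper44_BalanceGen

variable {F : Type*} [Field F] [Fintype F] {n q : ℕ}

set_option quotPrecheck false in
local notation "SUn" => ↥(Cfsg.SU n F q)
local notation "PSUn" => Cfsg.PSU n F q
local notation "Mn" => Matrix (Fin n) (Fin n) F

/-- the inner automorphism of `PSU_n` attached to an element of `SU_n` -/
def innSU : SUn →* MulAut PSUn :=
  (MulAut.conj : PSUn →* MulAut PSUn).comp (QuotientGroup.mk' _)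

theorem innSU_apply (s : SUn) : innSU s = MulAut.conj (QuotientGroup.mk s : PSUn) := rfl

theorem comm_innSU_of_fix (y : MulAut PSUn) (r : SUn)
    (h : y (QuotientGroup.mk r) = QuotientGroup.mk r) : y * innSU r = innSU r * y := by
  rw [innSU_apply, conj_comm_aut', h]

theorem fix_of_comm_innSU (hF : Fintype.card F = q ^ 2) (hn : 3 ≤ n) (y : MulAut PSUn) (r : SUn)
    (h : y * innSU r = innSU r * y) : y (QuotientGroup.mk r) = QuotientGroup.mk r :=
  fix_of_commute_conj hF hn y _ h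

/-- **The abstract skeleton of local balance at an involution of `Aut(PSU_n(q))`.** -/
theorem core_of_R_u (hF : Fintype.card F = q ^ 2) (hn : 3 ≤ n) (x : MulAut PSUn)
    (R : Subgroup SUn)
    (hfix : ∀ r ∈ R, x (QuotientGroup.mk r) = QuotientGroup.mk r)
    (hnorm : ∀ s : SUn, x (QuotientGroup.mk s) = QuotientGroup.mk s → ∀ r ∈ R, s * r * s⁻¹ ∈ R)
    (hOC : OddComm (R.map (innSU (n := n) (F := F) (q := q))))
    (hkey : ∀ y : MulAut PSUn, (∃ k : ℕ, Odd k ∧ y ^ k = 1) → x * y = y * x →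
      (∀ r ∈ R, y (QuotientGroup.mk r) = QuotientGroup.mk r) → y = 1)
    (A : Subgroup (MulAut PSUn)) (hinn : ∀ k : PSUn, MulAut.conj k ∈ A) :
    pPrimeCore 2 ↥(A ⊓ Subgroup.centralizer {x}) = ⊥ := by
  apply Cfsg.Agent.Lib.Helper14_PSLBalCore.oddCore_bot
  intro N hNle hNnorm hNodd
  have hfinN : Finite N := Nat.finite_of_card_ne_zero (by
    intro h; rw [h] at hNodd; exact absurd hNodd (by decide))
  obtain ⟨I₀, hI₀⟩ : ∃ I₀ : Subgroup (MulAut PSUn),
      I₀ = (MulAut.conj : PSUn →* MulAut PSUn).range ⊓ Subgroup.centralizer {x} := ⟨_, rfl⟩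
  obtain ⟨H, hH⟩ : ∃ H : Subgroup (MulAut PSUn), H = R.map innSU := ⟨_, rfl⟩
  have hHI : H ≤ I₀ := by
    rw [hH, hI₀]
    rintro _ ⟨r, hr, rfl⟩
    refine Subgroup.mem_inf.mpr ⟨⟨_, rfl⟩, ?_⟩
    rw [Subgroup.mem_centralizer_singleton_iff]
    exact (comm_innSU_of_fix x r (hfix r hr)).symm
  have hI₀A : I₀ ≤ A ⊓ Subgroup.centralizer {x} := by
    rw [hI₀]
    intro c hc
    obtain ⟨⟨k, rfl⟩, hc2⟩ := Subgroup.mem_inf.mp hc
    exact Subgroup.mem_inf.mpr ⟨hinn k, hc2⟩
  apply core_trivial I₀ H N (fun _ : Unit => H) (fun _ => le_refl H) hHI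
  · intro c hc h hh
    rw [hI₀] at hc
    obtain ⟨⟨k, rfl⟩, hc2⟩ := Subgroup.mem_inf.mp hc
    obtain ⟨s, rfl⟩ := QuotientGroup.mk_surjective k
    rw [hH] at hh ⊢
    obtain ⟨r, hr, rfl⟩ := hh
    rw [Subgroup.mem_centralizer_singleton_iff] at hc2
    have hs : x (QuotientGroup.mk s) = QuotientGroup.mk s :=
      fix_of_commute_conj hF hn x _ hc2.symm
    refine ⟨s * r * s⁻¹, hnorm s hs r hr, ?_⟩
    rw [map_mul, map_mul, map_inv]
    rfl
  · intro _ h hh r hr
    exact H.mul_mem (H.mul_mem hh hr) (H.inv_mem hh)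
  · intro m hm c hc
    rw [hI₀] at hc ⊢
    obtain ⟨⟨k, rfl⟩, hc2⟩ := Subgroup.mem_inf.mp hc
    refine Subgroup.mem_inf.mpr ⟨⟨m k, ?_⟩, ?_⟩
    · show MulAut.conj (m k) = _
      rw [conj_comm_aut' m k, mul_inv_cancel_right]
    · have hm2 := (Subgroup.mem_inf.mp (hNle hm)).2
      exact Subgroup.mul_mem _ (Subgroup.mul_mem _ hm2 hc2) (Subgroup.inv_mem _ hm2)
  · intro c hc m hm
    exact hNnorm c (hI₀A hc) m hm
  · exact hNodd
  · intro _
    rw [hH]
    exact hOC
  · intro y hy hcomm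
    have hyk : y ^ Nat.card N = 1 := by
      have h1 : (⟨y, hy⟩ : N) ^ Nat.card N = 1 := pow_card_eq_one'
      have h2 := congrArg (fun z : N => (z : MulAut PSUn)) h1
      exact h2
    have hyx : x * y = y * x := by
      have hm2 := (Subgroup.mem_inf.mp (hNle hy)).2
      rw [Subgroup.mem_centralizer_singleton_iff] at hm2
      exact hm2.symm
    apply hkey y ⟨_, hNodd, hyk⟩ hyx
    intro r hr
    apply fix_of_commute_conj hF hn
    exact hcomm () (innSU r) (by rw [hH]; exact ⟨r, hr, rfl⟩)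

/-- an involution of `SU_n` fixed by `x` whose matrix is not scalar gives an involution in the
fixed points of `x` -/
theorem two_dvd_card_fix (hF : Fintype.card F = q ^ 2) (hn : 3 ≤ n) (x : MulAut PSUn) (t : SUn)
    (hfix : x (QuotientGroup.mk t) = QuotientGroup.mk t) (htt : t * t = 1)
    (hns : ¬ ∃ a : F, mat t = a • (1 : Mn)) :
    2 ∣ Nat.card ↥(MonoidHom.eqLocus x.toMonoidHom (MonoidHom.id (Cfsg.PSU n F q))) := by
  have hne : (QuotientGroup.mk t : PSUn) ≠ 1 := by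
    intro h
    rw [QuotientGroup.eq_one_iff] at h
    apply hns
    have hn0 : 0 < n := by omega
    exact ⟨_, Cfsg.Agent.Lib.Helper5_SUCenter.center_eq_smul hF t h ⟨0, hn0⟩⟩
  set k : ↥(MonoidHom.eqLocus x.toMonoidHom (MonoidHom.id (Cfsg.PSU n F q))) :=
    ⟨QuotientGroup.mk t, hfix⟩ with hk
  have h1 : k ^ 2 = 1 := by
    apply Subtype.ext
    show (QuotientGroup.mk t : PSUn) ^ 2 = 1
    rw [pow_two, ← QuotientGroup.mk_mul, htt, QuotientGroup.mk_one]
  have h2 : k ≠ 1 := by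
    intro h
    exact hne (congrArg Subtype.val h)
  haveI : Fact (Nat.Prime 2) := ⟨Nat.prime_two⟩
  rw [← orderOf_eq_prime h1 h2]
  exact orderOf_dvd_natCard k

end Cfsg.Agent.Lib.Helper93_UGraphCore
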