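import Mathlib
import Cfsg.Agent.Lib.Helper94_Herm
import Cfsg.Agent.Lib.Helper44_PSpLang

/-!
# Galois descent for matrices along an involution of the field (helper93)

`ρ` an involution of the field `F`, `θ = (g, ρ)` a `ρ`-semilinear map with a basis `h` of
`θ`-eigenvectors: `g * h.map ρ = μ • h`.  A semilinear map `(A, τ)` commuting with `θ` up to a scalar
becomes, in the basis `h` and after scaling, a matrix over the fixed field of `ρ`.
-/

set_option autoImplicit false
set_option linter.unusedSectionVars false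
set_option linter.unusedVariables false
set_option linter.unusedSimpArgs false

namespace Cfsg.Agent.Lib.Helper93_UGraphDescent

open Matrix Cfsg.Agent.Lib.Helper94_Herm

variable {F : Type*} [Field F] {n : ℕ}

local notation "Mn" => Matrix (Fin n) (Fin n) F

/-! ### entrywise maps -/

theorem mmap_mul (σ : F ≃+* F) (A B : Mn) : (A * B).map σ = A.map σ * B.map σ :=
  Matrix.map_mul (f := (σ : F →+* F))

theorem mmap_one (σ : F ≃+* F) : (1 : Mn).map σ = 1 :=
  Matrix.map_one _ (map_zero σ) (map_one σ)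

theorem mmap_smul (σ : F ≃+* F) (c : F) (A : Mn) : (c • A).map σ = σ c • A.map σ := by
  ext i j
  simp only [Matrix.map_apply, Matrix.smul_apply, smul_eq_mul, map_mul]

theorem mmap_comm (σ τ : F ≃+* F) (hc : ∀ a, σ (τ a) = τ (σ a)) (A : Mn) :
    (A.map τ).map σ = (A.map σ).map τ := by
  ext i j
  simp only [Matrix.map_apply]
  exact hc _

theorem mmap_invol (σ : F ≃+* F) (hσ : ∀ a, σ (σ a) = a) (A : Mn) : (A.map σ).map σ = A := by
  ext i j
  simp only [Matrix.map_apply]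
  exact hσ _

theorem mmap_inv (σ : F ≃+* F) {A B : Mn} (h : A * B = 1) : A.map σ * B.map σ = 1 := by
  rw [← mmap_mul, h, mmap_one]

/-- uniqueness of the inverse -/
theorem left_inv_unique {X Y Z : Mn} (h1 : X * Y = 1) (h2 : Y * X = 1) (h3 : Z * Y = 1) :
    Z = X := by
  calc Z = Z * (Y * X) := by rw [h2, Matrix.mul_one]
    _ = (Z * Y) * X := by rw [Matrix.mul_assoc]
    _ = X := by rw [h3, Matrix.one_mul]

/-! ### the descent -/

section descent

variable (ρ : F ≃+* F) (hρ : ∀ a, ρ (ρ a) = a) {g h hi : Matrix (Fin n) (Fin n) F} {μ : F}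
  (hμ : μ ≠ 0)
  (hhi : h * hi = 1) (hih : hi * h = 1) (hgh : g * h.map ρ = μ • h)

include hμ hhi hih hgh in
/-- the inverse of `h.map ρ` -/
theorem hi_map : hi.map ρ = μ⁻¹ • (hi * g) := by
  symm
  apply left_inv_unique (mmap_inv ρ hih) (mmap_inv ρ hhi)
  rw [Matrix.smul_mul, Matrix.mul_assoc, hgh, Matrix.mul_smul, hih, smul_smul,
    inv_mul_cancel₀ hμ, one_smul]

include hμ hhi hih hgh in
/-- **Descent, step 1**: a semilinear map `(A, τ)` commuting with `θ = (g, ρ)` up to the scalar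
`l` is, in the basis `h`, fixed by `ρ` up to a scalar. -/
theorem descent_step (τ : F ≃+* F) (hc : ∀ a, ρ (τ a) = τ (ρ a)) {A : Mn} {l : F} (hl : l ≠ 0)
    (hA : A * g.map τ = l • (g * A.map ρ)) :
    (hi * A * h.map τ).map ρ = (μ⁻¹ * l⁻¹ * τ μ) • (hi * A * h.map τ) := by
  have h1 : g * A.map ρ = l⁻¹ • (A * g.map τ) := by
    rw [hA, smul_smul, inv_mul_cancel₀ hl, one_smul]
  have h2 : g.map τ * (h.map ρ).map τ = τ μ • h.map τ := by
    rw [← mmap_mul, hgh, mmap_smul]
  rw [mmap_mul, mmap_mul, hi_map ρ hμ hhi hih hgh, mmap_comm ρ τ hc]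
  calc μ⁻¹ • (hi * g) * A.map ρ * (h.map ρ).map τ
      = μ⁻¹ • (hi * (g * A.map ρ) * (h.map ρ).map τ) := by
        simp only [Matrix.smul_mul, Matrix.mul_assoc]
    _ = μ⁻¹ • (hi * (l⁻¹ • (A * g.map τ)) * (h.map ρ).map τ) := by rw [h1]
    _ = (μ⁻¹ * l⁻¹) • (hi * A * (g.map τ * (h.map ρ).map τ)) := by
        simp only [Matrix.smul_mul, Matrix.mul_smul, Matrix.mul_assoc, smul_smul]
    _ = (μ⁻¹ * l⁻¹) • (hi * A * (τ μ • h.map τ)) := by rw [h2]
    _ = (μ⁻¹ * l⁻¹ * τ μ) • (hi * A * h.map τ) := by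
        simp only [Matrix.mul_smul, smul_smul]

end descent

/-- **Descent, step 2**: an invertible matrix fixed by the involution `ρ` up to a scalar is a
scalar multiple of a matrix fixed by `ρ`. -/
theorem exists_real_smul (ρ : F ≃+* F) (hρ : ∀ a, ρ (ρ a) = a) (hne : ∃ θ, ρ θ ≠ θ)
    (hn : 0 < n) {A Ai : Mn} (hAi : A * Ai = 1) {c : F} (hA : A.map ρ = c • A) :
    ∃ ν : F, ν ≠ 0 ∧ (ν • A).map ρ = ν • A := by
  have hInv : Invol (ρ : F →+* F) := ⟨hρ, hne⟩
  have h1 : A = (ρ c * c) • A := by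
    have h0 : (A.map ρ).map ρ = (c • A).map ρ := by rw [hA]
    rw [mmap_invol ρ hρ, mmap_smul, hA, smul_smul] at h0
    exact h0
  have hA0 : A ≠ 0 := by
    rintro rfl
    rw [Matrix.zero_mul] at hAi
    have := congrFun (congrFun hAi ⟨0, hn⟩) ⟨0, hn⟩
    simp at this
  have hc1 : c * ρ c = 1 := by
    have h2 : (ρ c * c - 1) • A = 0 := by
      rw [sub_smul, one_smul, ← h1, sub_self]
    rcases smul_eq_zero.mp h2 with h3 | h3
    · rw [mul_comm]; exact sub_eq_zero.mp h3
    · exact absurd h3 hA0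
  obtain ⟨y, hy0, hy⟩ := hilbert90 hInv (x := c) hc1
  refine ⟨y, hy0, ?_⟩
  rw [mmap_smul, hA, smul_smul]
  congr 1
  have : (ρ : F →+* F) y = ρ y := rfl
  rw [this] at hy
  rw [mul_comm]
  exact hy.symm

end Cfsg.Agent.Lib.Helper93_UGraphDescent
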