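import Mathlib
import Cfsg.Agent.Lib.Helper93_UGraphCore
import Cfsg.Agent.Lib.Helper93_UGraphDescent
import Cfsg.Agent.Lib.Helper14_PSLBalDefs

/-!
# Local balance at an involution of `Aut(PSU_n(q))` outside `Inndiag`: the generic descent (helper93)

`β = conjU g * fieldU ρ`, `ρ = (x ↦ x ^ q)`, `β² = 1`.  A *descent datum* `D` for `g` is a basis `h`
of eigenvectors of the `ρ`-semilinear map `(g, ρ)` together with the Gram matrix of the hermitian
form in that basis, which is (up to a scalar `κ`) a matrix `B₀` over the fixed field `F₀` of `ρ`.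
A subgroup `G₀` of `SL_n(F₀)` preserving `B₀` then embeds into `SU_n(q)` with image fixed by `β`.
-/

set_option autoImplicit false
set_option linter.unusedSectionVars false
set_option linter.unusedVariables false
set_option linter.unusedSimpArgs false
set_option linter.style.haveILetI false

namespace Cfsg.Agent.Lib.Helper93_UGraphGen

open Matrix Cfsg Cfsg.Agent.Lib.Helper14_PSLAut Cfsg.Agent.Lib.Helper14_FieldAutPSL
  Cfsg.Agent.Lib.Helper14_PSUAut Cfsg.Agent.Lib.Helper14_PSUKer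
  Cfsg.Agent.Lib.Helper45_PSUOut Cfsg.Agent.Lib.Helper44_PSULang
  Cfsg.Agent.Lib.Helper14_BalAbs Cfsg.Agent.Lib.Helper14_PSLBalDefs
  Cfsg.Agent.Lib.Helper93_UBalStd Cfsg.Agent.Lib.Helper93_UBalNormal
  Cfsg.Agent.Lib.Helper93_UGraphCore Cfsg.Agent.Lib.Helper93_UGraphDescent
  Cfsg.Agent.Lib.Helper13_Herm

variable {F : Type*} [Field F] [Fintype F] {n q : ℕ} {F₀ : Type*} [Field F₀]

set_option quotPrecheck false in
local notation "SUn" => ↥(Cfsg.SU n F q)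
local notation "PSUn" => Cfsg.PSU n F q
local notation "Mn" => Matrix (Fin n) (Fin n) F
local notation "M₀" => Matrix (Fin n) (Fin n) F₀
local notation "SL₀" => Matrix.SpecialLinearGroup (Fin n) F₀

/-! ### matrices -/

theorem map_pow_q (hF : Fintype.card F = q ^ 2) (M : Mn) :
    M.map (fun x => x ^ q) = M.map (tauQ hF) := by
  ext i j
  simp only [Matrix.map_apply, tauQ_apply]

theorem tauQ_invol (hF : Fintype.card F = q ^ 2) (a : F) : tauQ hF (tauQ hF a) = a :=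
  pow_q_pow_q hF a

theorem tauQ_comm (hF : Fintype.card F = q ^ 2) (τ : F ≃+* F) (a : F) :
    tauQ hF (τ a) = τ (tauQ hF a) := by
  rw [tauQ_apply, tauQ_apply, map_pow]

theorem bc_mul (ι : F₀ →+* F) (X Y : M₀) : (X * Y).map ι = X.map ι * Y.map ι :=
  Matrix.map_mul

theorem bc_one (ι : F₀ →+* F) : (1 : M₀).map ι = 1 :=
  Matrix.map_one _ (map_zero ι) (map_one ι)

theorem bc_smul (ι : F₀ →+* F) (c : F₀) (X : M₀) : (c • X).map ι = ι c • X.map ι := by
  ext i j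
  simp only [Matrix.map_apply, Matrix.smul_apply, smul_eq_mul, map_mul]

theorem bc_transpose (ι : F₀ →+* F) (X : M₀) : (Xᵀ).map ι = (X.map ι)ᵀ :=
  Matrix.transpose_map

theorem bc_injective (ι : F₀ →+* F) {X Y : M₀} (h : X.map ι = Y.map ι) : X = Y := by
  ext i j
  have := congrFun (congrFun h i) j
  simp only [Matrix.map_apply] at this
  exact ι.injective this

theorem bc_real (ι : F₀ →+* F) (ρ : F ≃+* F) (hι : ∀ a : F, ρ a = a ↔ a ∈ Set.range ι) (X : M₀) :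
    (X.map ι).map ρ = X.map ι := by
  ext i j
  simp only [Matrix.map_apply]
  exact (hι _).mpr ⟨_, rfl⟩

theorem exists_bc (ι : F₀ →+* F) (ρ : F ≃+* F) (hι : ∀ a : F, ρ a = a ↔ a ∈ Set.range ι)
    (X : Mn) (h : X.map ρ = X) : ∃ X₀ : M₀, X₀.map ι = X := by
  have h1 : ∀ i j, ∃ b : F₀, ι b = X i j := by
    intro i j
    have h2 : ρ (X i j) = X i j := congrFun (congrFun h i) j
    exact (hι _).mp h2
  choose kM hkM using h1
  refine ⟨Matrix.of kM, ?_⟩
  ext i j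
  exact hkM i j

theorem bc_det (ι : F₀ →+* F) (X : M₀) : (X.map ι).det = ι X.det := by
  rw [RingHom.map_det, RingHom.mapMatrix_apply]

/-- the Gram identity for a conjugate of a real isometry -/
theorem gram_conj (ρ : F ≃+* F) {h hi S : Mn} (hhi : h * hi = 1) (hS : S.map ρ = S)
    (hpres : Sᵀ * (hᵀ * h.map ρ) * S = hᵀ * h.map ρ) :
    (h * S * hi)ᵀ * (h * S * hi).map ρ = 1 := by
  rw [mmap_mul, mmap_mul, hS, Matrix.transpose_mul, Matrix.transpose_mul]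
  calc hiᵀ * (Sᵀ * hᵀ) * (h.map ρ * S * hi.map ρ)
      = hiᵀ * (Sᵀ * (hᵀ * h.map ρ) * S) * hi.map ρ := by simp only [Matrix.mul_assoc]
    _ = hiᵀ * (hᵀ * h.map ρ) * hi.map ρ := by rw [hpres]
    _ = (h * hi)ᵀ * (h * hi).map ρ := by
        rw [Matrix.transpose_mul, mmap_mul]; simp only [Matrix.mul_assoc]
    _ = 1 := by rw [hhi, Matrix.transpose_one, mmap_one, Matrix.one_mul]

/-- conjugation by `g` after `ρ` fixes the conjugate of a real matrix -/
theorem conj_fix (ρ : F ≃+* F) {G Gi h hi X : Mn} {μ : F} (hμ : μ ≠ 0) (hhi : h * hi = 1)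
    (hih : hi * h = 1) (hgh : G * h.map ρ = μ • h) (hG : G * Gi = 1) (hX : X.map ρ = X) :
    G * (h * X * hi).map ρ * Gi = h * X * hi := by
  rw [mmap_mul, mmap_mul, hX, hi_map ρ hμ hhi hih hgh]
  calc G * (h.map ρ * X * μ⁻¹ • (hi * G)) * Gi
      = μ⁻¹ • ((G * h.map ρ) * X * hi * (G * Gi)) := by
        simp only [Matrix.mul_smul, Matrix.smul_mul, Matrix.mul_assoc]
    _ = h * X * hi := by
        rw [hgh, hG, Matrix.mul_one]
        simp only [Matrix.smul_mul, smul_smul, inv_mul_cancel₀ hμ, one_smul]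

theorem gl_mul_inv' (x : GL (Fin n) F) : (x : Mn) * ((x⁻¹ : GL (Fin n) F) : Mn) = 1 := by
  rw [← Units.val_mul, mul_inv_cancel, Units.val_one]

theorem gl_inv_mul' (x : GL (Fin n) F) : ((x⁻¹ : GL (Fin n) F) : Mn) * (x : Mn) = 1 := by
  rw [← Units.val_mul, inv_mul_cancel, Units.val_one]

/-! ### fixed classes and commutation, in matrix terms -/

/-- an element of `SU_n` whose class is fixed by `conjU a * fieldU τ` -/
theorem smul_of_fix (hF : Fintype.card F = q ^ 2) (hn : 0 < n) (a : ↥(Cfsg.GU n F q))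
    (τ : F ≃+* F) (s : SUn)
    (h : (conjU a * fieldU τ : MulAut PSUn) (QuotientGroup.mk s) = QuotientGroup.mk s) :
    ∃ l : F, ((a.1 : GL (Fin n) F) : Mn) * (mat s).map τ =
      l • (mat s * ((a.1 : GL (Fin n) F) : Mn)) := by
  rw [MulAut.mul_apply, fieldU_mk, conjU_apply, conjN_mk] at h
  obtain ⟨r, hr⟩ := exists_smul_of_mk_eq hF hn _ _ h.symm
  refine ⟨r, ?_⟩
  have hr' : ((a.1 : GL (Fin n) F) : Mn) * (mat s).map τ * ((a.1⁻¹ : GL (Fin n) F) : Mn) =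
      r • mat s := hr
  calc ((a.1 : GL (Fin n) F) : Mn) * (mat s).map τ
      = ((a.1 : GL (Fin n) F) : Mn) * (mat s).map τ *
          (((a.1⁻¹ : GL (Fin n) F) : Mn) * ((a.1 : GL (Fin n) F) : Mn)) := by
        rw [gl_inv_mul', Matrix.mul_one]
    _ = (((a.1 : GL (Fin n) F) : Mn) * (mat s).map τ * ((a.1⁻¹ : GL (Fin n) F) : Mn)) *
          ((a.1 : GL (Fin n) F) : Mn) := by simp only [Matrix.mul_assoc]
    _ = r • (mat s * ((a.1 : GL (Fin n) F) : Mn)) := by rw [hr', Matrix.smul_mul]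

/-- two automorphisms in factorised form which commute, the first one being of graph type -/
theorem comm_rel (hF : Fintype.card F = q ^ 2) (hn : 3 ≤ n) (g a : ↥(Cfsg.GU n F q))
    (τ : F ≃+* F)
    (h : (conjU g * fieldU (tauQ hF) : MulAut PSUn) * (conjU a * fieldU τ) =
      (conjU a * fieldU τ) * (conjU g * fieldU (tauQ hF))) :
    ∃ l : F, l ≠ 0 ∧ ((a.1 : GL (Fin n) F) : Mn) * ((g.1 : GL (Fin n) F) : Mn).map τ =
      l • (((g.1 : GL (Fin n) F) : Mn) * ((a.1 : GL (Fin n) F) : Mn).map (tauQ hF)) := by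
  have hρτ : tauQ hF * τ = τ * tauQ hF := by
    ext x
    exact tauQ_comm hF τ x
  have h1 : (conjU (g * mapU (tauQ hF) a) * fieldU (tauQ hF * τ) : MulAut PSUn) =
      conjU (a * mapU τ g) * fieldU (τ * tauQ hF) := by
    rw [map_mul, map_mul, map_mul, map_mul]
    calc (conjU g * conjU (mapU (tauQ hF) a) * (fieldU (tauQ hF) * fieldU τ) : MulAut PSUn)
        = conjU g * (conjU (mapU (tauQ hF) a) * fieldU (tauQ hF)) * fieldU τ := by group
      _ = conjU g * (fieldU (tauQ hF) * conjU a) * fieldU τ := by rw [fieldU_mul_conjU]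
      _ = (conjU g * fieldU (tauQ hF)) * (conjU a * fieldU τ) := by group
      _ = (conjU a * fieldU τ) * (conjU g * fieldU (tauQ hF)) := h
      _ = conjU a * (fieldU τ * conjU g) * fieldU (tauQ hF) := by group
      _ = conjU a * (conjU (mapU τ g) * fieldU τ) * fieldU (tauQ hF) := by rw [fieldU_mul_conjU]
      _ = conjU a * conjU (mapU τ g) * (fieldU τ * fieldU (tauQ hF)) := by group
  rw [hρτ] at h1
  have h2 := mul_right_cancel h1
  rw [conjU_apply, conjU_apply, conjN_eq_iff hF hn, Cfsg.Geo.mem_scalars_iff] at h2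
  obtain ⟨c, hc⟩ := h2
  have hX : (((a * mapU τ g : ↥(Cfsg.GU n F q)).1 : GL (Fin n) F) : Mn) =
      ((a.1 : GL (Fin n) F) : Mn) * ((g.1 : GL (Fin n) F) : Mn).map τ := rfl
  have hY : (((g * mapU (tauQ hF) a : ↥(Cfsg.GU n F q)).1 : GL (Fin n) F) : Mn) =
      ((g.1 : GL (Fin n) F) : Mn) * ((a.1 : GL (Fin n) F) : Mn).map (tauQ hF) := rfl
  refine ⟨(c : F)⁻¹, inv_ne_zero c.ne_zero, ?_⟩
  rw [← hX, ← hY]
  have h3 : (((g * mapU (tauQ hF) a : ↥(Cfsg.GU n F q)).1 : GL (Fin n) F) : Mn) =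
      (((a * mapU τ g : ↥(Cfsg.GU n F q)).1 : GL (Fin n) F) : Mn) *
        ((((a * mapU τ g : ↥(Cfsg.GU n F q)).1 : GL (Fin n) F)⁻¹ *
          ((g * mapU (tauQ hF) a : ↥(Cfsg.GU n F q)).1 : GL (Fin n) F) : GL (Fin n) F) : Mn) := by
    rw [← Units.val_mul, mul_inv_cancel_left]
  rw [h3]
  erw [hc]
  rw [Matrix.mul_smul, Matrix.mul_one, smul_smul, inv_mul_cancel₀ c.ne_zero, one_smul]

/-- a scalar relating two base-changed matrices lies in the base field -/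
theorem real_scalar (ι : F₀ →+* F) {X Y : M₀} {i j : Fin n} (hY : Y i j ≠ 0) {l : F}
    (h : X.map ι = l • Y.map ι) : ∃ l₀ : F₀, ι l₀ = l ∧ X = l₀ • Y := by
  have h1 := congrFun (congrFun h i) j
  simp only [Matrix.map_apply, Matrix.smul_apply, smul_eq_mul] at h1
  have hne : ι (Y i j) ≠ 0 := (map_ne_zero ι).mpr hY
  have h2 : ι (X i j / Y i j) = l := by
    rw [map_div₀, h1, mul_div_assoc, div_self hne, mul_one]
  refine ⟨X i j / Y i j, h2, ?_⟩
  apply bc_injective ι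
  rw [bc_smul, h2, h]

/-- the restriction of a field automorphism to the fixed field of a commuting one -/
theorem exists_restrict (ι : F₀ →+* F) (ρ τ : F ≃+* F)
    (hι : ∀ a : F, ρ a = a ↔ a ∈ Set.range ι) (hc : ∀ a, ρ (τ a) = τ (ρ a)) :
    ∃ τ₀ : F₀ ≃+* F₀, ∀ x, ι (τ₀ x) = τ (ι x) := by
  have hc' : ∀ a, ρ (τ.symm a) = τ.symm (ρ a) := by
    intro a
    apply τ.injective
    rw [← hc, τ.apply_symm_apply, τ.apply_symm_apply]
  have h1 : ∀ x : F₀, ∃ y : F₀, ι y = τ (ι x) := by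
    intro x
    apply (hι _).mp
    rw [hc, (hι _).mpr ⟨x, rfl⟩]
  have h2 : ∀ x : F₀, ∃ y : F₀, ι y = τ.symm (ι x) := by
    intro x
    apply (hι _).mp
    rw [hc', (hι _).mpr ⟨x, rfl⟩]
  choose f hf using h1
  choose f' hf' using h2
  refine ⟨{ toFun := f, invFun := f', left_inv := ?_, right_inv := ?_, map_mul' := ?_,
            map_add' := ?_ }, hf⟩
  · intro x; apply ι.injective; rw [hf', hf, τ.symm_apply_apply]
  · intro x; apply ι.injective; rw [hf, hf', τ.apply_symm_apply]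
  · intro x y; apply ι.injective; rw [hf, map_mul, map_mul, map_mul, hf, hf]
  · intro x y; apply ι.injective; rw [hf, map_add, map_add, map_add, hf, hf]

theorem right_inv_unique {A X Y : Mn} (h1 : A * X = 1) (h2 : Y * A = 1) : X = Y := by
  calc X = (Y * A) * X := by rw [h2, Matrix.one_mul]
    _ = Y * (A * X) := by rw [Matrix.mul_assoc]
    _ = Y := by rw [h1, Matrix.mul_one]

theorem exists_entry_of_det_ne_zero {K : Type*} [Field K] (hn : 0 < n)
    {X : Matrix (Fin n) (Fin n) K} (h : X.det ≠ 0) : ∃ i j, X i j ≠ 0 := by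
  by_contra hcon
  push Not at hcon
  apply h
  have h0 : X = 0 := by ext i j; exact hcon i j
  haveI : Nonempty (Fin n) := ⟨⟨0, hn⟩⟩
  rw [h0]
  exact Matrix.det_zero

theorem mat_mul (s t : SUn) : mat (s * t) = mat s * mat t := rfl

theorem mat_mul_inv (s : SUn) : mat s * mat s⁻¹ = 1 := by
  rw [← mat_mul, mul_inv_cancel]; rfl

theorem mat_inv_mul (s : SUn) : mat s⁻¹ * mat s = 1 := by
  rw [← mat_mul, inv_mul_cancel]; rfl

theorem su_gram (hF : Fintype.card F = q ^ 2) (s : SUn) :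
    (mat s)ᵀ * (mat s).map (tauQ hF) = 1 := by
  have hq : q ≠ 0 := by have := two_le_q hF; omega
  have := Cfsg.Agent.Lib.Helper13_HermBridge.gram_of_preserves hq (mat s) s.2
  rwa [map_pow_q hF] at this

theorem tauQ_exists_ne (hF : Fintype.card F = q ^ 2) : ∃ θ, tauQ hF θ ≠ θ := by
  by_contra hcon
  push Not at hcon
  apply tauQ_ne_one hF
  ext x
  exact hcon x

/-- similitudes normalise the isometry group -/
theorem conj_mem_RS_of_sim (B : M₀) (K : GL (Fin n) F₀) (m : F₀)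
    (hK : (K : M₀)ᵀ * B * (K : M₀) = m • B) (s : SL₀) (hs : s ∈ RS B) : slConj K s ∈ RS B := by
  rw [mem_RS] at hs ⊢
  rw [slConj_coe']
  obtain ⟨K₁, hK₁⟩ : ∃ K₁ : M₀, K₁ = (K : M₀) := ⟨_, rfl⟩
  obtain ⟨Ki, hKi⟩ : ∃ Ki : M₀, Ki = ((K⁻¹ : GL (Fin n) F₀) : M₀) := ⟨_, rfl⟩
  obtain ⟨S, hS⟩ : ∃ S : M₀, S = (s : M₀) := ⟨_, rfl⟩
  have h1 : K₁ * Ki = 1 := by
    rw [hK₁, hKi, ← Units.val_mul, mul_inv_cancel, Units.val_one]
  rw [← hK₁] at hK
  rw [← hS] at hs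
  rw [← hK₁, ← hKi, ← hS]
  have h2 : B = m • (Kiᵀ * B * Ki) := by
    calc B = (K₁ * Ki)ᵀ * B * (K₁ * Ki) := by
          rw [h1, Matrix.transpose_one, Matrix.one_mul, Matrix.mul_one]
      _ = Kiᵀ * (K₁ᵀ * B * K₁) * Ki := by
          rw [Matrix.transpose_mul]; simp only [Matrix.mul_assoc]
      _ = m • (Kiᵀ * B * Ki) := by rw [hK, Matrix.mul_smul, Matrix.smul_mul]
  calc (K₁ * S * Ki)ᵀ * B * (K₁ * S * Ki)
      = Kiᵀ * (Sᵀ * (K₁ᵀ * B * K₁) * S) * Ki := by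
        rw [Matrix.transpose_mul, Matrix.transpose_mul]; simp only [Matrix.mul_assoc]
    _ = m • (Kiᵀ * (Sᵀ * B * S) * Ki) := by
        rw [hK]; simp only [Matrix.mul_smul, Matrix.smul_mul]
    _ = B := by rw [hs, ← h2]

/-! ### descent data -/

/-- a descent datum for the `ρ`-semilinear map `(g, ρ)` and the standard hermitian form -/
structure Desc (hF : Fintype.card F = q ^ 2) (ι : F₀ →+* F) (g : Mn) where
  /-- the basis of eigenvectors -/
  h : Mn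
  /-- its inverse -/
  hi : Mn
  /-- the eigenvalue -/
  μ : F
  /-- the scalar -/
  κ : F
  /-- the Gram matrix over the fixed field -/
  B₀ : M₀
  hμ : μ ≠ 0
  hκ : κ ≠ 0
  hhi : h * hi = 1
  hih : hi * h = 1
  hgh : g * h.map (tauQ hF) = μ • h
  hB : hᵀ * h.map (tauQ hF) = κ • B₀.map ι

section gen

variable (hF : Fintype.card F = q ^ 2) (ι : F₀ →+* F)
  (hι : ∀ a : F, tauQ hF a = a ↔ a ∈ Set.range ι) {g : Matrix (Fin n) (Fin n) F}
  (D : Desc hF ι g) (G₀ : Subgroup (Matrix.SpecialLinearGroup (Fin n) F₀))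
  (hpres : ∀ s ∈ G₀, (s : Matrix (Fin n) (Fin n) F₀)ᵀ * D.B₀ * (s : Matrix (Fin n) (Fin n) F₀) = D.B₀)

/-- the conjugate of the base change -/
def cj (X : M₀) : Mn := D.h * X.map ι * D.hi

theorem cj_one : cj hF ι D (1 : M₀) = 1 := by
  unfold cj
  rw [bc_one, Matrix.mul_one, D.hhi]

theorem cj_mul (X Y : M₀) : cj hF ι D (X * Y) = cj hF ι D X * cj hF ι D Y := by
  unfold cj
  rw [bc_mul]
  calc D.h * (X.map ι * Y.map ι) * D.hi
      = D.h * X.map ι * (1 : Mn) * Y.map ι * D.hi := by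
        rw [Matrix.mul_one]; simp only [Matrix.mul_assoc]
    _ = D.h * X.map ι * D.hi * (D.h * Y.map ι * D.hi) := by
        rw [← D.hih]; simp only [Matrix.mul_assoc]

theorem cj_det (X : M₀) : (cj hF ι D X).det = ι X.det := by
  unfold cj
  rw [Matrix.det_mul, Matrix.det_mul, bc_det, mul_comm, ← mul_assoc, ← Matrix.det_mul, D.hih,
    Matrix.det_one, one_mul]

include hι in
theorem cj_real_pres {X : M₀} (hX : Xᵀ * D.B₀ * X = D.B₀) :
    (X.map ι)ᵀ * (D.hᵀ * D.h.map (tauQ hF)) * X.map ι = D.hᵀ * D.h.map (tauQ hF) := by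
  rw [D.hB, Matrix.mul_smul, Matrix.smul_mul, ← bc_transpose, ← bc_mul, ← bc_mul, hX]

include hι in
theorem cj_gram {X : M₀} (hX : Xᵀ * D.B₀ * X = D.B₀) :
    (cj hF ι D X)ᵀ * (cj hF ι D X).map (fun x => x ^ q) = 1 := by
  rw [map_pow_q hF]
  exact gram_conj (tauQ hF) D.hhi (bc_real ι (tauQ hF) hι X) (cj_real_pres hF ι hι D hX)

/-- the embedding of a group of isometries of `B₀` into `SU_n(q)` -/
def fG : ↥G₀ →* SUn where
  toFun s := ⟨⟨cj hF ι D (s.1 : M₀), by rw [cj_det, s.1.2, map_one]⟩,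
    fun u v => Cfsg.Agent.Lib.Helper13_HermBridge.preserves_of_gram hF _
      (cj_gram hF ι hι D (hpres s.1 s.2)) u v⟩
  map_one' := by
    apply Subtype.ext
    apply Subtype.ext
    exact cj_one hF ι D
  map_mul' a b := by
    apply Subtype.ext
    apply Subtype.ext
    show cj hF ι D ((a.1 * b.1 : SL₀) : M₀) = cj hF ι D (a.1 : M₀) * cj hF ι D (b.1 : M₀)
    rw [Matrix.SpecialLinearGroup.coe_mul, cj_mul]

theorem fG_coe (s : ↥G₀) : mat (fG hF ι hι D G₀ hpres s) = cj hF ι D (s.1 : M₀) := rfl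

end gen

section main

variable (hF : Fintype.card F = q ^ 2) (ι : F₀ →+* F)
  (hι : ∀ a : F, tauQ hF a = a ↔ a ∈ Set.range ι) (gU : ↥(Cfsg.GU n F q))
  (D : Desc hF ι ((gU.1 : GL (Fin n) F) : Matrix (Fin n) (Fin n) F))
  (G₀ : Subgroup (Matrix.SpecialLinearGroup (Fin n) F₀))
  (hpres : ∀ s ∈ G₀, (s : Matrix (Fin n) (Fin n) F₀)ᵀ * D.B₀ * (s : Matrix (Fin n) (Fin n) F₀) = D.B₀)

/-- `β` fixes the image of `fG` -/
theorem fix_fG (s : ↥G₀) :
    (conjU gU * fieldU (tauQ hF) : MulAut PSUn) (QuotientGroup.mk (fG hF ι hι D G₀ hpres s)) =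
      QuotientGroup.mk (fG hF ι hι D G₀ hpres s) := by
  rw [MulAut.mul_apply, fieldU_mk, conjU_apply, conjN_mk]
  congr 1
  apply Subtype.ext
  apply Subtype.ext
  show ((gU.1 : GL (Fin n) F) : Mn) * (cj hF ι D (s.1 : M₀)).map (tauQ hF) *
    ((gU.1⁻¹ : GL (Fin n) F) : Mn) = cj hF ι D (s.1 : M₀)
  exact conj_fix (tauQ hF) D.hμ D.hhi D.hih D.hgh (gl_mul_inv' _) (bc_real ι _ hι _)

theorem exists_entry_ne_zero (hn : 0 < n) : ∃ i j, D.B₀ i j ≠ 0 := by
  by_contra hcon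
  push Not at hcon
  have h0 : D.B₀ = 0 := by ext i j; exact hcon i j
  have h1 : D.hᵀ * D.h.map (tauQ hF) = 0 := by
    rw [D.hB, h0]
    ext i j
    simp
  have h2 : (D.hᵀ * D.h.map (tauQ hF)) * (D.hi.map (tauQ hF) * D.hiᵀ) = 1 := by
    calc (D.hᵀ * D.h.map (tauQ hF)) * (D.hi.map (tauQ hF) * D.hiᵀ)
        = D.hᵀ * (D.h.map (tauQ hF) * D.hi.map (tauQ hF)) * D.hiᵀ := by
          simp only [Matrix.mul_assoc]
      _ = 1 := by
          rw [mmap_inv _ D.hhi, Matrix.mul_one, ← Matrix.transpose_mul, D.hih,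
            Matrix.transpose_one]
  rw [h1, Matrix.zero_mul] at h2
  have := congrFun (congrFun h2 ⟨0, hn⟩) ⟨0, hn⟩
  simp at this

include hι in
/-- elements of `SU_n` whose class is fixed by `β` normalise the image of `fG` -/
theorem norm_fG (hn : 0 < n)
    (hconj : ∀ (K : GL (Fin n) F₀) (m : F₀), m ≠ 0 →
      (K : M₀)ᵀ * D.B₀ * (K : M₀) = m • D.B₀ → ∀ s ∈ G₀, slConj K s ∈ G₀)
    (s : SUn)
    (hs : (conjU gU * fieldU (tauQ hF) : MulAut PSUn) (QuotientGroup.mk s) = QuotientGroup.mk s)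
    (r₀ : ↥G₀) :
    ∃ r₁ : ↥G₀, fG hF ι hι D G₀ hpres r₁ = s * fG hF ι hι D G₀ hpres r₀ * s⁻¹ := by
  obtain ⟨l, hl⟩ := smul_of_fix hF hn gU (tauQ hF) s hs
  obtain ⟨S, hS⟩ : ∃ S : Mn, S = mat s := ⟨_, rfl⟩
  obtain ⟨Si, hSi⟩ : ∃ Si : Mn, Si = mat s⁻¹ := ⟨_, rfl⟩
  have hSSi : S * Si = 1 := by rw [hS, hSi]; exact mat_mul_inv s
  have hSiS : Si * S = 1 := by rw [hS, hSi]; exact mat_inv_mul s
  rw [← hS] at hl
  obtain ⟨S', hS'⟩ : ∃ S' : Mn, S' = D.hi * S * D.h := ⟨_, rfl⟩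
  obtain ⟨S'i, hS'i⟩ : ∃ S'i : Mn, S'i = D.hi * Si * D.h := ⟨_, rfl⟩
  have h1 : S' * S'i = 1 := by
    calc S' * S'i = D.hi * S * (D.h * D.hi) * Si * D.h := by
          rw [hS', hS'i]; simp only [Matrix.mul_assoc]
      _ = 1 := by
          rw [D.hhi, Matrix.mul_one, Matrix.mul_assoc D.hi, hSSi, Matrix.mul_one, D.hih]
  have h1' : S'i * S' = 1 := by
    calc S'i * S' = D.hi * Si * (D.h * D.hi) * S * D.h := by
          rw [hS', hS'i]; simp only [Matrix.mul_assoc]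
      _ = 1 := by
          rw [D.hhi, Matrix.mul_one, Matrix.mul_assoc D.hi, hSiS, Matrix.mul_one, D.hih]
  have h2 : S'.map (tauQ hF) = l • S' := by
    rw [hS', mmap_mul, mmap_mul, hi_map (tauQ hF) D.hμ D.hhi D.hih D.hgh]
    calc D.μ⁻¹ • (D.hi * ((gU.1 : GL (Fin n) F) : Mn)) * S.map (tauQ hF) * D.h.map (tauQ hF)
        = D.μ⁻¹ • (D.hi * (((gU.1 : GL (Fin n) F) : Mn) * S.map (tauQ hF)) *
            D.h.map (tauQ hF)) := by simp only [Matrix.smul_mul, Matrix.mul_assoc]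
      _ = D.μ⁻¹ • (D.hi * (l • (S * ((gU.1 : GL (Fin n) F) : Mn))) * D.h.map (tauQ hF)) := by
          rw [hl]
      _ = (D.μ⁻¹ * l) • (D.hi * S * (((gU.1 : GL (Fin n) F) : Mn) * D.h.map (tauQ hF))) := by
          simp only [Matrix.smul_mul, Matrix.mul_smul, Matrix.mul_assoc, smul_smul]
      _ = (D.μ⁻¹ * l) • (D.hi * S * (D.μ • D.h)) := by rw [D.hgh]
      _ = l • (D.hi * S * D.h) := by
          rw [Matrix.mul_smul, smul_smul, mul_right_comm, inv_mul_cancel₀ D.hμ, one_mul]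
  obtain ⟨ν, hν0, hν⟩ := exists_real_smul (tauQ hF) (tauQ_invol hF) (tauQ_exists_ne hF) hn h1 h2
  obtain ⟨K₀, hK₀⟩ := exists_bc ι (tauQ hF) hι (ν • S') hν
  have hνinv : (ν • S') * (ν⁻¹ • S'i) = 1 := by
    rw [Matrix.smul_mul, Matrix.mul_smul, smul_smul, mul_inv_cancel₀ hν0, one_smul, h1]
  have hνinv' : (ν⁻¹ • S'i) * (ν • S') = 1 := by
    rw [Matrix.smul_mul, Matrix.mul_smul, smul_smul, inv_mul_cancel₀ hν0, one_smul, h1']
  have hdet : K₀.det ≠ 0 := by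
    intro h0
    have h3 : (K₀.map ι).det = 0 := by rw [bc_det, h0, map_zero]
    rw [hK₀] at h3
    have h4 := congrArg Matrix.det hνinv
    rw [Matrix.det_mul, h3, zero_mul, Matrix.det_one] at h4
    exact zero_ne_one h4
  -- the similitude
  have hgram : Sᵀ * S.map (tauQ hF) = 1 := by rw [hS]; exact su_gram hF s
  have h4 : S'ᵀ * (D.hᵀ * D.h.map (tauQ hF)) * S'.map (tauQ hF) = D.hᵀ * D.h.map (tauQ hF) := by
    have h5 : D.h * S' = S * D.h := by
      rw [hS', ← Matrix.mul_assoc, ← Matrix.mul_assoc, D.hhi, Matrix.one_mul]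
    calc S'ᵀ * (D.hᵀ * D.h.map (tauQ hF)) * S'.map (tauQ hF)
        = (D.h * S')ᵀ * (D.h * S').map (tauQ hF) := by
          rw [Matrix.transpose_mul, mmap_mul]; simp only [Matrix.mul_assoc]
      _ = (S * D.h)ᵀ * (S * D.h).map (tauQ hF) := by rw [h5]
      _ = D.hᵀ * (Sᵀ * S.map (tauQ hF)) * D.h.map (tauQ hF) := by
          rw [Matrix.transpose_mul, mmap_mul]; simp only [Matrix.mul_assoc]
      _ = D.hᵀ * D.h.map (tauQ hF) := by rw [hgram, Matrix.mul_one]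
  rw [h2] at h4
  have h7 : D.B₀.map ι = D.κ⁻¹ • (D.hᵀ * D.h.map (tauQ hF)) := by
    rw [D.hB, smul_smul, inv_mul_cancel₀ D.hκ, one_smul]
  have h6 : l • ((K₀ᵀ * D.B₀ * K₀).map ι) = (ν * ν) • D.B₀.map ι := by
    rw [bc_mul, bc_mul, bc_transpose, hK₀, h7]
    calc l • ((ν • S')ᵀ * D.κ⁻¹ • (D.hᵀ * D.h.map (tauQ hF)) * ν • S')
        = (ν * ν * D.κ⁻¹) • (S'ᵀ * (D.hᵀ * D.h.map (tauQ hF)) * l • S') := by
          simp only [Matrix.transpose_smul, Matrix.smul_mul, Matrix.mul_smul, smul_smul]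
          congr 1
          ring
      _ = (ν * ν) • D.κ⁻¹ • (D.hᵀ * D.h.map (tauQ hF)) := by rw [h4, smul_smul]
  obtain ⟨i, j, hij⟩ := exists_entry_ne_zero hF ι gU D hn
  have hl0 : l ≠ 0 := by
    rintro rfl
    rw [zero_smul] at h6
    have h8 := congrFun (congrFun h6 i) j
    simp only [Matrix.zero_apply, Matrix.smul_apply, Matrix.map_apply, smul_eq_mul] at h8
    have h9 : ι (D.B₀ i j) ≠ 0 := (map_ne_zero ι).mpr hij
    exact mul_ne_zero (mul_ne_zero hν0 hν0) h9 h8.symm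
  have h10 : (K₀ᵀ * D.B₀ * K₀).map ι = (l⁻¹ * (ν * ν)) • D.B₀.map ι := by
    rw [← smul_smul, ← h6, smul_smul, inv_mul_cancel₀ hl0, one_smul]
  obtain ⟨m, hm, hsim⟩ := real_scalar ι hij h10
  have hm0 : m ≠ 0 := by
    rintro rfl
    rw [map_zero] at hm
    exact mul_ne_zero (inv_ne_zero hl0) (mul_ne_zero hν0 hν0) hm.symm
  obtain ⟨K, hK⟩ : ∃ K : GL (Fin n) F₀, (K : M₀) = K₀ :=
    ⟨Matrix.GeneralLinearGroup.mkOfDetNeZero K₀ hdet, rfl⟩
  have hmem := hconj K m hm0 (by rw [hK]; exact hsim) r₀.1 r₀.2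
  refine ⟨⟨slConj K r₀.1, hmem⟩, ?_⟩
  apply Subtype.ext
  apply Subtype.ext
  show cj hF ι D ((slConj K r₀.1 : SL₀) : M₀) = mat s * cj hF ι D (r₀.1 : M₀) * mat s⁻¹
  rw [← hS, ← hSi, slConj_coe', hK]
  have hKi : ((K⁻¹ : GL (Fin n) F₀) : M₀).map ι = ν⁻¹ • S'i := by
    apply right_inv_unique (A := ν • S') _ hνinv'
    rw [← hK₀, ← hK, ← bc_mul, ← Units.val_mul, mul_inv_cancel, Units.val_one, bc_one]
  unfold cj
  rw [bc_mul, bc_mul, hK₀, hKi]
  have h11 : D.h * S' = S * D.h := by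
    rw [hS', ← Matrix.mul_assoc, ← Matrix.mul_assoc, D.hhi, Matrix.one_mul]
  have h12 : S'i * D.hi = D.hi * Si := by
    rw [hS'i, Matrix.mul_assoc, D.hhi, Matrix.mul_one]
  calc D.h * (ν • S' * (r₀.1 : M₀).map ι * ν⁻¹ • S'i) * D.hi
      = (ν * ν⁻¹) • ((D.h * S') * (r₀.1 : M₀).map ι * (S'i * D.hi)) := by
        simp only [Matrix.smul_mul, Matrix.mul_smul, Matrix.mul_assoc, smul_smul]
        rw [mul_comm]
    _ = S * (D.h * (r₀.1 : M₀).map ι * D.hi) * Si := by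
        rw [mul_inv_cancel₀ hν0, one_smul, h11, h12]; simp only [Matrix.mul_assoc]

theorem map_one_aut (X : Mn) : X.map (1 : F ≃+* F) = X := by
  ext i j
  rfl

include hι in
/-- an automorphism of odd order commuting with `β` and fixing the image of `fG` is trivial -/
theorem key_fG (hn : 3 ≤ n)
    (hKey : ∀ (τ₀ : F₀ ≃+* F₀) (hh : (Fin n → F₀) → (Fin n → F₀)), SemiBij τ₀ hh →
      (∀ s ∈ G₀, ∃ c : F₀, ∀ v, hh ((s : M₀) *ᵥ v) = c • ((s : M₀) *ᵥ hh v)) →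
      τ₀ = RingEquiv.refl F₀ ∧ ∃ a : F₀, ∀ v, hh v = a • v)
    (a : ↥(Cfsg.GU n F q)) (τ : F ≃+* F)
    (hodd : ∃ k : ℕ, Odd k ∧ (conjU a * fieldU τ : MulAut PSUn) ^ k = 1)
    (hcomm : (conjU gU * fieldU (tauQ hF) : MulAut PSUn) * (conjU a * fieldU τ) =
      (conjU a * fieldU τ) * (conjU gU * fieldU (tauQ hF)))
    (hfix : ∀ s : ↥G₀, (conjU a * fieldU τ : MulAut PSUn)
      (QuotientGroup.mk (fG hF ι hι D G₀ hpres s)) = QuotientGroup.mk (fG hF ι hι D G₀ hpres s)) :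
    (conjU a * fieldU τ : MulAut PSUn) = 1 := by
  have hn0 : 0 < n := by omega
  obtain ⟨A, hA⟩ : ∃ A : Mn, A = ((a.1 : GL (Fin n) F) : Mn) := ⟨_, rfl⟩
  obtain ⟨Ai, hAi⟩ : ∃ Ai : Mn, Ai = ((a.1⁻¹ : GL (Fin n) F) : Mn) := ⟨_, rfl⟩
  have hAAi : A * Ai = 1 := by rw [hA, hAi]; exact gl_mul_inv' _
  obtain ⟨l, hl0, hl⟩ := comm_rel hF hn gU a τ hcomm
  rw [← hA] at hl
  have hK := descent_step (tauQ hF) D.hμ D.hhi D.hih D.hgh τ (tauQ_comm hF τ) hl0 hl
  obtain ⟨K, hKdef⟩ : ∃ K : Mn, K = D.hi * A * D.h.map τ := ⟨_, rfl⟩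
  rw [← hKdef] at hK
  have hKKi : K * (D.hi.map τ * Ai * D.h) = 1 := by
    calc K * (D.hi.map τ * Ai * D.h)
        = D.hi * A * (D.h.map τ * D.hi.map τ) * Ai * D.h := by
          rw [hKdef]; simp only [Matrix.mul_assoc]
      _ = 1 := by
          rw [mmap_inv τ D.hhi, Matrix.mul_one, Matrix.mul_assoc D.hi, hAAi, Matrix.mul_one,
            D.hih]
  obtain ⟨ν, hν0, hν⟩ :=
    exists_real_smul (tauQ hF) (tauQ_invol hF) (tauQ_exists_ne hF) hn0 hKKi hK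
  obtain ⟨K₀, hK₀⟩ := exists_bc ι (tauQ hF) hι (ν • K) hν
  obtain ⟨τ₀, hτ₀⟩ := exists_restrict ι (tauQ hF) τ hι (tauQ_comm hF τ)
  have hdet : K₀.det ≠ 0 := by
    intro h0
    have h3 : (K₀.map ι).det = 0 := by rw [bc_det, h0, map_zero]
    rw [hK₀] at h3
    have h4 : (ν • K) * (ν⁻¹ • (D.hi.map τ * Ai * D.h)) = 1 := by
      rw [Matrix.smul_mul, Matrix.mul_smul, smul_smul, mul_inv_cancel₀ hν0, one_smul, hKKi]
    have h5 := congrArg Matrix.det h4
    rw [Matrix.det_mul, h3, zero_mul, Matrix.det_one] at h5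
    exact zero_ne_one h5
  -- the semilinear map over the fixed field
  obtain ⟨hh, hhdef⟩ : ∃ hh : (Fin n → F₀) → (Fin n → F₀),
      hh = fun v => K₀ *ᵥ (fun i => τ₀ (v i)) := ⟨_, rfl⟩
  have hsb : SemiBij τ₀ hh := by
    refine ⟨?_, ?_, ?_⟩
    · intro v w
      rw [hhdef]
      show K₀ *ᵥ (fun i => τ₀ ((v + w) i)) = K₀ *ᵥ (fun i => τ₀ (v i)) + K₀ *ᵥ (fun i => τ₀ (w i))
      rw [← Matrix.mulVec_add]
      congr 1
      funext i
      simp only [Pi.add_apply, map_add]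
    · intro c v
      rw [hhdef]
      show K₀ *ᵥ (fun i => τ₀ ((c • v) i)) = τ₀ c • K₀ *ᵥ (fun i => τ₀ (v i))
      rw [← Matrix.mulVec_smul]
      congr 1
      funext i
      simp only [Pi.smul_apply, smul_eq_mul, map_mul]
    · rw [hhdef]
      have hb1 : Function.Bijective (fun v : Fin n → F₀ => fun i => τ₀ (v i)) := by
        constructor
        · intro v w hvw
          funext i
          exact τ₀.injective (congrFun hvw i)
        · intro w
          exact ⟨fun i => τ₀.symm (w i), by funext i; simp⟩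
      have hb2 : Function.Bijective (fun v : Fin n → F₀ => K₀ *ᵥ v) := by
        have hu : IsUnit K₀ := (Matrix.isUnit_iff_isUnit_det K₀).mpr (isUnit_iff_ne_zero.mpr hdet)
        constructor
        · exact Matrix.mulVec_injective_iff_isUnit.mpr hu
        · exact Matrix.mulVec_surjective_iff_isUnit.mpr hu
      exact hb2.comp hb1
  have hcommR : ∀ s ∈ G₀, ∃ c : F₀, ∀ v, hh ((s : M₀) *ᵥ v) = c • ((s : M₀) *ᵥ hh v) := by
    intro s hs
    obtain ⟨lam, hlam⟩ := smul_of_fix hF hn0 a τ _ (hfix ⟨s, hs⟩)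
    rw [fG_coe, ← hA] at hlam
    obtain ⟨X, hX⟩ : ∃ X : M₀, X = (s : M₀) := ⟨_, rfl⟩
    have hlam' : A * (cj hF ι D X).map τ = lam • (cj hF ι D X * A) := by rw [hX]; exact hlam
    have hXτ : (X.map ι).map τ = (X.map τ₀).map ι := by
      ext i j
      simp only [Matrix.map_apply]
      exact (hτ₀ _).symm
    have h1 : K * (X.map τ₀).map ι = lam • (X.map ι * K) := by
      unfold cj at hlam'
      rw [mmap_mul, mmap_mul, hXτ] at hlam'
      calc K * (X.map τ₀).map ι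
          = D.hi * (A * (D.h.map τ * (X.map τ₀).map ι * D.hi.map τ)) * D.h.map τ := by
            rw [hKdef]
            calc D.hi * A * D.h.map τ * (X.map τ₀).map ι
                = D.hi * A * D.h.map τ * (X.map τ₀).map ι * (1 : Mn) := by rw [Matrix.mul_one]
              _ = D.hi * A * D.h.map τ * (X.map τ₀).map ι * (D.hi.map τ * D.h.map τ) := by
                  rw [mmap_inv τ D.hih]
              _ = _ := by simp only [Matrix.mul_assoc]
        _ = D.hi * (lam • (D.h * X.map ι * D.hi * A)) * D.h.map τ := by rw [hlam']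
        _ = lam • ((D.hi * D.h) * X.map ι * (D.hi * A * D.h.map τ)) := by
            simp only [Matrix.smul_mul, Matrix.mul_smul, Matrix.mul_assoc]
        _ = lam • (X.map ι * K) := by rw [D.hih, Matrix.one_mul, hKdef]
    have h2 : (K₀ * X.map τ₀).map ι = lam • (X * K₀).map ι := by
      rw [bc_mul, bc_mul, hK₀, Matrix.smul_mul, h1, Matrix.mul_smul, smul_comm]
    have hdetXK : (X * K₀).det ≠ 0 := by
      rw [Matrix.det_mul, hX, s.2, one_mul]
      exact hdet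
    obtain ⟨i, j, hij⟩ := exists_entry_of_det_ne_zero hn0 hdetXK
    obtain ⟨c, -, hc⟩ := real_scalar ι hij h2
    refine ⟨c, ?_⟩
    intro v
    rw [hhdef, ← hX]
    show K₀ *ᵥ (fun i => τ₀ ((X *ᵥ v) i)) = c • (X *ᵥ (K₀ *ᵥ (fun i => τ₀ (v i))))
    have h3 : (fun i => τ₀ ((X *ᵥ v) i)) = X.map τ₀ *ᵥ (fun i => τ₀ (v i)) := by
      funext i
      exact RingHom.map_mulVec (τ₀ : F₀ →+* F₀) X v i
    rw [h3, Matrix.mulVec_mulVec, hc, Matrix.smul_mulVec, Matrix.mulVec_mulVec]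
  obtain ⟨hτ₀r, a₀, ha₀⟩ := hKey τ₀ hh hsb hcommR
  -- `τ` fixes the fixed field of `ρ`
  have hτfix : ∀ b : F, tauQ hF b = b → τ b = b := by
    intro b hb
    obtain ⟨x, rfl⟩ := (hι b).mp hb
    rw [← hτ₀, hτ₀r]
    rfl
  have hτmem : τ ∈ Subgroup.zpowers (tauQ hF) := galois_mem_zpowers (tauQ hF) τ hτfix
  have hτ2 : τ ^ 2 = 1 := by
    obtain ⟨j, hj⟩ := Subgroup.mem_zpowers_iff.mp hτmem
    have hρ2 : (tauQ hF) ^ 2 = 1 := by
      rw [← orderOf_tauQ hF]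
      exact pow_orderOf_eq_one _
    rw [← hj, ← zpow_natCast, ← _root_.zpow_mul, mul_comm, _root_.zpow_mul, zpow_natCast, hρ2,
      _root_.one_zpow]
  obtain ⟨k, hkodd, hk⟩ := hodd
  have hτk : τ ^ k = 1 := by
    have h1 := hk
    rw [pow_conjU_mul_fieldU] at h1
    have h2 : fieldU (τ ^ k) = (conjU (PNU τ a k)⁻¹ : MulAut PSUn) := by
      rw [map_inv]
      exact eq_inv_of_mul_eq_one_right h1
    rw [conjU_apply] at h2
    exact (eq_one_and_scalar_of_conjN_eq_fieldU hF hn _ (τ ^ k) h2.symm).1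
  have hτ1 : τ = 1 := by
    obtain ⟨m, hm⟩ := hkodd
    rw [hm, pow_succ, pow_mul, hτ2, one_pow, one_mul] at hτk
    exact hτk
  -- `K₀` is scalar
  have hK₀s : K₀ = a₀ • (1 : M₀) := by
    ext i j
    have h1 := congrFun (ha₀ (Pi.single j 1)) i
    rw [hhdef] at h1
    have h2 : (fun i => τ₀ ((Pi.single j (1 : F₀) : Fin n → F₀) i)) = Pi.single j 1 := by
      rw [hτ₀r]
      rfl
    simp only [h2, Matrix.mulVec_single_one] at h1
    rw [Matrix.smul_apply, Matrix.one_apply, smul_eq_mul]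
    rw [Matrix.col_apply] at h1
    rw [h1, Pi.smul_apply, Pi.single_apply, smul_eq_mul]
  have hKs : K = (ν⁻¹ * ι a₀) • (1 : Mn) := by
    have h1 : ν • K = ι a₀ • (1 : Mn) := by
      rw [← hK₀, hK₀s, bc_smul, bc_one]
    rw [← smul_smul, ← h1, smul_smul, inv_mul_cancel₀ hν0, one_smul]
  have hAs : A = (ν⁻¹ * ι a₀) • (1 : Mn) := by
    rw [hτ1, map_one_aut] at hKdef
    calc A = (D.h * D.hi) * A * (D.h * D.hi) := by rw [D.hhi, Matrix.one_mul, Matrix.mul_one]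
      _ = D.h * (D.hi * A * D.h) * D.hi := by simp only [Matrix.mul_assoc]
      _ = (ν⁻¹ * ι a₀) • (1 : Mn) := by
          rw [← hKdef, hKs, Matrix.mul_smul, Matrix.smul_mul, Matrix.mul_one, D.hhi]
  have hc0 : ν⁻¹ * ι a₀ ≠ 0 := by
    intro h0
    rw [hAs, h0, zero_smul, Matrix.zero_mul] at hAAi
    have := congrFun (congrFun hAAi ⟨0, hn0⟩) ⟨0, hn0⟩
    simp at this
  have hconj1 : (conjU a : MulAut PSUn) = 1 := by
    rw [conjU_apply, conjN_eq_one_iff hF hn, Cfsg.Geo.mem_scalars_iff]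
    exact ⟨Units.mk0 _ hc0, by rw [← hA, hAs]; rfl⟩
  rw [hconj1, hτ1, map_one, one_mul]

/-- an element whose image under `fG` is scalar is scalar -/
theorem fG_scalar (hn : 0 < n) (t : ↥G₀) (c : F)
    (hc : mat (fG hF ι hι D G₀ hpres t) = c • (1 : Mn)) :
    ∃ c₀ : F₀, (t.1 : M₀) = c₀ • (1 : M₀) := by
  rw [fG_coe] at hc
  unfold cj at hc
  have h1 : (t.1 : M₀).map ι = c • (1 : M₀).map ι := by
    rw [bc_one]
    calc (t.1 : M₀).map ι = (D.hi * D.h) * (t.1 : M₀).map ι * (D.hi * D.h) := by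
          rw [D.hih, Matrix.one_mul, Matrix.mul_one]
      _ = D.hi * (D.h * (t.1 : M₀).map ι * D.hi) * D.h := by simp only [Matrix.mul_assoc]
      _ = c • (1 : Mn) := by
          rw [hc, Matrix.mul_smul, Matrix.smul_mul, Matrix.mul_one, D.hih]
  have h2 : (1 : M₀) ⟨0, hn⟩ ⟨0, hn⟩ ≠ 0 := by
    rw [Matrix.one_apply_eq]
    exact one_ne_zero
  obtain ⟨c₀, -, hc₀⟩ := real_scalar ι h2 h1
  exact ⟨c₀, hc₀⟩

/-- an element whose image in `Aut(PSU_n)` is trivial is scalar -/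
theorem innSU_fG_eq_one (hn : 3 ≤ n) (t : ↥G₀)
    (h : innSU (fG hF ι hι D G₀ hpres t) = (1 : MulAut PSUn)) :
    ∃ c₀ : F₀, (t.1 : M₀) = c₀ • (1 : M₀) := by
  have hn0 : 0 < n := by omega
  rw [innSU_apply] at h
  have h1 : (QuotientGroup.mk (fG hF ι hι D G₀ hpres t) : PSUn) = 1 := by
    apply conj_injective hF hn
    rw [h, map_one]
  rw [QuotientGroup.eq_one_iff] at h1
  exact fG_scalar hF ι hι gU D G₀ hpres hn0 t _
    (Cfsg.Agent.Lib.Helper5_SUCenter.center_eq_smul hF _ h1 ⟨0, hn0⟩)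

include hι in
/-- **The generic descent form of local balance at a graph-type involution of `Aut(PSU_n(q))`.** -/
theorem core_generic (hn : 3 ≤ n) (hfac : Fac n F q)
    (hconj : ∀ (K : GL (Fin n) F₀) (m : F₀), m ≠ 0 →
      (K : M₀)ᵀ * D.B₀ * (K : M₀) = m • D.B₀ → ∀ s ∈ G₀, slConj K s ∈ G₀)
    (hKey : ∀ (τ₀ : F₀ ≃+* F₀) (hh : (Fin n → F₀) → (Fin n → F₀)), SemiBij τ₀ hh →
      (∀ s ∈ G₀, ∃ c : F₀, ∀ v, hh ((s : M₀) *ᵥ v) = c • ((s : M₀) *ᵥ hh v)) →
      τ₀ = RingEquiv.refl F₀ ∧ ∃ a : F₀, ∀ v, hh v = a • v)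
    (hOC : OddComm ((innSU (n := n) (F := F) (q := q)).comp (fG hF ι hι D G₀ hpres)).range)
    (A : Subgroup (MulAut PSUn)) (hinn : ∀ k : PSUn, MulAut.conj k ∈ A) :
    Cfsg.pPrimeCore 2 ↥(A ⊓ Subgroup.centralizer {(conjU gU * fieldU (tauQ hF) : MulAut PSUn)}) =
      ⊥ := by
  have hn0 : 0 < n := by omega
  apply core_of_R_u hF hn _ (fG hF ι hι D G₀ hpres).range
  · rintro _ ⟨s, rfl⟩
    exact fix_fG hF ι hι gU D G₀ hpres s
  · rintro s hs _ ⟨r₀, rfl⟩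
    obtain ⟨r₁, h⟩ := norm_fG hF ι hι gU D G₀ hpres hn0 hconj s hs r₀
    exact ⟨r₁, h⟩
  · rw [MonoidHom.map_range]
    exact hOC
  · intro y hodd hcomm hfix
    obtain ⟨a, τ, rfl⟩ := hfac y
    exact key_fG hF ι hι gU D G₀ hpres hn hKey a τ hodd hcomm (fun s => hfix _ ⟨s, rfl⟩)
  · exact hinn

include hι in
/-- a non-scalar involution of `SL_n(F₀)` preserving `B₀` gives an involution fixed by `β` -/
theorem two_dvd_generic (hn : 3 ≤ n) (t₀ : SL₀)
    (ht₀ : (t₀ : M₀)ᵀ * D.B₀ * (t₀ : M₀) = D.B₀) (htt : t₀ * t₀ = 1)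
    (hns : ¬ ∃ c : F₀, (t₀ : M₀) = c • (1 : M₀)) :
    2 ∣ Nat.card ↥(MonoidHom.eqLocus (conjU gU * fieldU (tauQ hF) : MulAut PSUn).toMonoidHom
      (MonoidHom.id (Cfsg.PSU n F q))) := by
  have hn0 : 0 < n := by omega
  have hpresRS : ∀ s ∈ RS D.B₀, (s : M₀)ᵀ * D.B₀ * (s : M₀) = D.B₀ := fun s hs => hs
  obtain ⟨t, ht⟩ : ∃ t : ↥(RS D.B₀), t = ⟨t₀, ht₀⟩ := ⟨_, rfl⟩
  apply two_dvd_card_fix hF hn _ (fG hF ι hι D (RS D.B₀) hpresRS t)
    (fix_fG hF ι hι gU D (RS D.B₀) hpresRS t)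
  · rw [← map_mul]
    have h1 : t * t = 1 := by
      rw [ht]
      exact Subtype.ext htt
    rw [h1, map_one]
  · rintro ⟨c, hc⟩
    apply hns
    rw [fG_coe] at hc
    unfold cj at hc
    have h1 : (t.1 : M₀).map ι = c • (1 : M₀).map ι := by
      rw [bc_one]
      calc (t.1 : M₀).map ι = (D.hi * D.h) * (t.1 : M₀).map ι * (D.hi * D.h) := by
            rw [D.hih, Matrix.one_mul, Matrix.mul_one]
        _ = D.hi * (D.h * (t.1 : M₀).map ι * D.hi) * D.h := by simp only [Matrix.mul_assoc]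
        _ = c • (1 : Mn) := by
            rw [hc, Matrix.mul_smul, Matrix.smul_mul, Matrix.mul_one, D.hih]
    have h2 : (1 : M₀) ⟨0, hn0⟩ ⟨0, hn0⟩ ≠ 0 := by
      rw [Matrix.one_apply_eq]
      exact one_ne_zero
    obtain ⟨c₀, -, hc₀⟩ := real_scalar ι h2 h1
    refine ⟨c₀, ?_⟩
    rw [← hc₀, ht]

end main

end Cfsg.Agent.Lib.Helper93_UGraphGen
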