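import Mathlib
import Cfsg.Agent.Lib.Helper93_UGraphGen
import Cfsg.Agent.Lib.Helper44_H90

/-!
# Descent data for a graph-type involution of `Aut(PSU_n(q))` (helper93)

If `g ∈ GU_n(q)` satisfies `g * g^ρ = c • 1` (`ρ = (x ↦ x ^ q)`), then `c = ± 1`, and there is a
basis `h` with `g * h^ρ = μ • h` in which the hermitian form has a Gram matrix which is, up to a
scalar, symmetric or skew-symmetric over the fixed field of `ρ`.
-/

set_option autoImplicit false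
set_option linter.unusedSectionVars false
set_option linter.unusedVariables false
set_option linter.unusedSimpArgs false
set_option linter.style.haveILetI false

namespace Cfsg.Agent.Lib.Helper93_UGraphNF

open Matrix Cfsg Cfsg.Agent.Lib.Helper14_PSLAut Cfsg.Agent.Lib.Helper14_FieldAutPSL
  Cfsg.Agent.Lib.Helper14_PSUAut Cfsg.Agent.Lib.Helper14_PSUKer
  Cfsg.Agent.Lib.Helper45_PSUOut Cfsg.Agent.Lib.Helper44_PSULang
  Cfsg.Agent.Lib.Helper93_UGraphDescent Cfsg.Agent.Lib.Helper93_UGraphGen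
  Cfsg.Agent.Lib.Helper13_Herm Cfsg.Agent.Lib.Helper94_Herm Cfsg.Agent.Lib.Helper44_H90

variable {F : Type*} [Field F] [Fintype F] {n q : ℕ} {F₀ : Type*} [Field F₀]

local notation "Mn" => Matrix (Fin n) (Fin n) F
local notation "M₀" => Matrix (Fin n) (Fin n) F₀

theorem mmap_transpose (σ : F ≃+* F) (A : Mn) : (Aᵀ).map σ = (A.map σ)ᵀ := rfl

/-- the existence of descent data -/
theorem exists_desc (hF : Fintype.card F = q ^ 2) (hn : 0 < n) (ι : F₀ →+* F)
    (hι : ∀ a : F, tauQ hF a = a ↔ a ∈ Set.range ι) (gU : ↥(Cfsg.GU n F q)) (c : F)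
    (hgg : ((gU.1 : GL (Fin n) F) : Mn) * ((gU.1 : GL (Fin n) F) : Mn).map (tauQ hF) =
      c • (1 : Mn)) :
    ∃ D : Desc hF ι ((gU.1 : GL (Fin n) F) : Mn),
      (D.B₀ᵀ = D.B₀ ∨ D.B₀ᵀ = -D.B₀) ∧ D.B₀.det ≠ 0 := by
  obtain ⟨G, hG⟩ : ∃ G : Mn, G = ((gU.1 : GL (Fin n) F) : Mn) := ⟨_, rfl⟩
  obtain ⟨Gi, hGi⟩ : ∃ Gi : Mn, Gi = ((gU.1⁻¹ : GL (Fin n) F) : Mn) := ⟨_, rfl⟩
  have hGGi : G * Gi = 1 := by rw [hG, hGi]; exact gl_mul_inv' _
  have hGiG : Gi * G = 1 := by rw [hG, hGi]; exact gl_inv_mul' _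
  rw [← hG] at hgg
  have hρ := tauQ_invol hF
  have hInv : Invol ((tauQ hF : F ≃+* F) : F →+* F) := ⟨hρ, tauQ_exists_ne hF⟩
  have hgram : Gᵀ * G.map (tauQ hF) = 1 := by
    have := (Cfsg.Agent.Lib.Helper13_HermBridge.mem_GU_iff_gram hF gU.1).mp gU.2
    rw [map_pow_q hF] at this
    rw [hG]
    exact this
  have hgram' : G.map (tauQ hF) * Gᵀ = 1 := mul_eq_one_comm.mp hgram
  have hsym : G = c • Gᵀ := by
    calc G = G * (G.map (tauQ hF) * Gᵀ) := by rw [hgram', Matrix.mul_one]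
      _ = (G * G.map (tauQ hF)) * Gᵀ := by rw [Matrix.mul_assoc]
      _ = c • Gᵀ := by rw [hgg, Matrix.smul_mul, Matrix.one_mul]
  have hG0 : G ≠ 0 := by
    rintro h0
    rw [h0, Matrix.zero_mul] at hGGi
    have := congrFun (congrFun hGGi ⟨0, hn⟩) ⟨0, hn⟩
    simp at this
  have hc2 : c * c = 1 := by
    have h1 : Gᵀ = c • G := by
      conv_lhs => rw [hsym]
      rw [Matrix.transpose_smul, Matrix.transpose_transpose]
    have h2 : G = (c * c) • G := by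
      conv_lhs => rw [hsym, h1]
      rw [smul_smul]
    have h3 : (c * c - 1) • G = 0 := by
      rw [sub_smul, one_smul, ← h2, sub_self]
    rcases smul_eq_zero.mp h3 with h4 | h4
    · exact sub_eq_zero.mp h4
    · exact absurd h4 hG0
  have hc0 : c ≠ 0 := by
    rintro rfl
    rw [mul_zero] at hc2
    exact zero_ne_one hc2
  have hc1 : c = 1 ∨ c = -1 := by
    have h1 : (c - 1) * (c + 1) = 0 := by linear_combination hc2
    rcases mul_eq_zero.mp h1 with h | h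
    · left; exact sub_eq_zero.mp h
    · right; exact eq_neg_of_add_eq_zero_left h
  have hcreal : tauQ hF c = c := by
    rcases hc1 with rfl | rfl
    · exact map_one _
    · rw [map_neg, map_one]
  have hcinv : c⁻¹ = c := by
    exact inv_eq_of_mul_eq_one_right hc2
  obtain ⟨μ, hμ⟩ := norm_surj hInv c hcreal
  have hμ' : μ * tauQ hF μ = c := hμ
  have hμ0 : μ ≠ 0 := by
    rintro rfl
    rw [zero_mul] at hμ'
    exact hc0 hμ'.symm
  have hρμ0 : tauQ hF μ ≠ 0 := (map_ne_zero _).mpr hμ0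
  -- the normalised matrix
  obtain ⟨g', hg'⟩ : ∃ g' : GL (Fin n) F, (g' : Mn) = μ⁻¹ • G :=
    ⟨⟨μ⁻¹ • G, μ • Gi, by
      rw [Matrix.smul_mul, Matrix.mul_smul, smul_smul, inv_mul_cancel₀ hμ0, one_smul, hGGi], by
      rw [Matrix.smul_mul, Matrix.mul_smul, smul_smul, mul_inv_cancel₀ hμ0, one_smul, hGiG]⟩, rfl⟩
  have hPN : PN (tauQ hF) g' 2 = 1 := by
    rw [PN_succ, PN_succ, PN_zero, pow_zero, pow_one, mapGL_one, one_mul]
    apply Units.ext
    rw [Units.val_mul, mapGL_coe, hg', mmap_smul, Matrix.smul_mul, Matrix.mul_smul, smul_smul, hgg,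
      smul_smul, Units.val_one, map_inv₀]
    have : μ⁻¹ * (tauQ hF μ)⁻¹ * c = 1 := by
      rw [← hμ']
      field_simp
    rw [this, one_smul]
  obtain ⟨h, hh⟩ := hilbert90_GL (tauQ hF) (by norm_num) (orderOf_tauQ hF) g' hPN
  obtain ⟨H, hH⟩ : ∃ H : Mn, H = ((h : GL (Fin n) F) : Mn) := ⟨_, rfl⟩
  obtain ⟨Hi, hHi⟩ : ∃ Hi : Mn, Hi = ((h⁻¹ : GL (Fin n) F) : Mn) := ⟨_, rfl⟩
  have hHHi : H * Hi = 1 := by rw [hH, hHi]; exact gl_mul_inv' _
  have hHiH : Hi * H = 1 := by rw [hH, hHi]; exact gl_inv_mul' _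
  have hgh : G * H.map (tauQ hF) = μ • H := by
    have h1 := congrArg (fun x : GL (Fin n) F => (x : Mn)) hh
    simp only [Units.val_mul, mapGL_coe, hg'] at h1
    rw [← hH] at h1
    calc G * H.map (tauQ hF) = μ • (μ⁻¹ • G * H.map (tauQ hF)) := by
          rw [Matrix.smul_mul, smul_smul, mul_inv_cancel₀ hμ0, one_smul]
      _ = μ • H := by rw [h1]
  -- the Gram matrix
  obtain ⟨B, hB⟩ : ∃ B : Mn, B = Hᵀ * H.map (tauQ hF) := ⟨_, rfl⟩
  have hBbar : B.map (tauQ hF) = Bᵀ := by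
    rw [hB, mmap_mul, mmap_invol _ hρ, Matrix.transpose_mul, Matrix.transpose_transpose]
    rfl
  -- `H.map ρ` in terms of `G.map ρ`
  have hgh' : G.map (tauQ hF) * H = tauQ hF μ • H.map (tauQ hF) := by
    have := congrArg (fun M : Mn => M.map (tauQ hF)) hgh
    simp only [mmap_mul, mmap_smul, mmap_invol _ hρ] at this
    exact this
  have hGbarT : (G.map (tauQ hF))ᵀ = c • G.map (tauQ hF) := by
    have h1 : G.map (tauQ hF) = c • (G.map (tauQ hF))ᵀ := by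
      conv_lhs => rw [hsym]
      rw [mmap_smul, hcreal]
      rfl
    conv_rhs => rw [h1]
    rw [smul_smul, hc2, one_smul]
  have hBT : Bᵀ = c • B := by
    have h1 : B = (tauQ hF μ)⁻¹ • (Hᵀ * (G.map (tauQ hF) * H)) := by
      rw [hgh', Matrix.mul_smul, smul_smul, inv_mul_cancel₀ hρμ0, one_smul, hB]
    rw [h1, Matrix.transpose_smul, Matrix.transpose_mul, Matrix.transpose_mul,
      Matrix.transpose_transpose, hGbarT, Matrix.mul_smul, Matrix.smul_mul, smul_comm,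
      Matrix.mul_assoc]
  have hBinv : B * (Hi.map (tauQ hF) * Hiᵀ) = 1 := by
    rw [hB]
    calc Hᵀ * H.map (tauQ hF) * (Hi.map (tauQ hF) * Hiᵀ)
        = Hᵀ * (H.map (tauQ hF) * Hi.map (tauQ hF)) * Hiᵀ := by simp only [Matrix.mul_assoc]
      _ = 1 := by
          rw [mmap_inv _ hHHi, Matrix.mul_one, ← Matrix.transpose_mul, hHiH, Matrix.transpose_one]
  -- the scalar `κ`
  obtain ⟨κ, hκ0, hκ⟩ : ∃ κ : F, κ ≠ 0 ∧ tauQ hF κ = c * κ := by
    rcases hc1 with rfl | rfl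
    · exact ⟨1, one_ne_zero, by rw [map_one, mul_one]⟩
    · obtain ⟨ζ, hζ0, hζ⟩ := exists_skew hInv
      exact ⟨ζ, hζ0, by rw [neg_one_mul]; exact hζ⟩
  have hreal : (κ⁻¹ • B).map (tauQ hF) = κ⁻¹ • B := by
    rw [mmap_smul, hBbar, hBT, smul_smul, map_inv₀, hκ]
    congr 1
    field_simp
  obtain ⟨B₀, hB₀⟩ := exists_bc ι (tauQ hF) hι _ hreal
  have hBκ : B = κ • B₀.map ι := by
    rw [hB₀, smul_smul, mul_inv_cancel₀ hκ0, one_smul]
  refine ⟨⟨H, Hi, μ, κ, B₀, hμ0, hκ0, hHHi, hHiH, ?_, ?_⟩, ?_, ?_⟩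
  · rw [← hG]; exact hgh
  · rw [← hB]; exact hBκ
  · show B₀ᵀ = B₀ ∨ B₀ᵀ = -B₀
    have h1 : (B₀ᵀ).map ι = c • B₀.map ι := by
      rw [bc_transpose, hB₀, Matrix.transpose_smul, hBT, smul_comm]
    rcases hc1 with rfl | rfl
    · left
      apply bc_injective ι
      rw [h1, one_smul]
    · right
      apply bc_injective ι
      rw [h1, neg_one_smul]
      ext i j
      simp only [Matrix.map_apply, Matrix.neg_apply, map_neg]
  · show B₀.det ≠ 0
    intro h0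
    have h1 : (B₀.map ι).det = 0 := by rw [bc_det, h0, map_zero]
    rw [hB₀] at h1
    have h2 : (κ⁻¹ • B) * (κ • (Hi.map (tauQ hF) * Hiᵀ)) = 1 := by
      rw [Matrix.smul_mul, Matrix.mul_smul, smul_smul, inv_mul_cancel₀ hκ0, one_smul, hBinv]
    have h3 := congrArg Matrix.det h2
    rw [Matrix.det_mul, h1, zero_mul, Matrix.det_one] at h3
    exact zero_ne_one h3

end Cfsg.Agent.Lib.Helper93_UGraphNF
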