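import Mathlib
import Cfsg.Agent.Lib.Helper93_UGraphGen
import Cfsg.Agent.Lib.Helper14_PSLBalO

/-!
# Local balance at a graph-type involution of `Aut(PSU_n(q))`: the orthogonal case (helper93)
-/

set_option autoImplicit false
set_option linter.unusedSectionVars false
set_option linter.unusedVariables false
set_option linter.unusedSimpArgs false
set_option linter.style.haveILetI false

namespace Cfsg.Agent.Lib.Helper93_UGraphO

open Matrix Module Cfsg Cfsg.Agent.Lib.Helper14_PSLAut Cfsg.Agent.Lib.Helper14_FieldAutPSL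
  Cfsg.Agent.Lib.Helper14_PSUAut Cfsg.Agent.Lib.Helper14_PSUKer
  Cfsg.Agent.Lib.Helper45_PSUOut Cfsg.Agent.Lib.Helper44_PSULang
  Cfsg.Agent.Lib.Helper14_BalAbs Cfsg.Agent.Lib.Helper14_PSLBalDefs
  Cfsg.Agent.Lib.Helper14_BalDefs Cfsg.Agent.Lib.Helper14_OmegaSimple
  Cfsg.Agent.Lib.Helper14_PSLBalQM Cfsg.Agent.Lib.Helper14_PSLBalO
  Cfsg.Agent.Lib.Helper14_PSLCent Cfsg.Agent.Lib.Helper94_Bridge
  Cfsg.Agent.Lib.Helper93_UBalStd Cfsg.Agent.Lib.Helper93_UBalNormal
  Cfsg.Agent.Lib.Helper93_UGraphCore Cfsg.Agent.Lib.Helper93_UGraphDescent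
  Cfsg.Agent.Lib.Helper93_UGraphGen

variable {F : Type*} [Field F] [Fintype F] {n q : ℕ} {F₀ : Type*} [Field F₀]

local notation "PSUn" => Cfsg.PSU n F q
local notation "Mn" => Matrix (Fin n) (Fin n) F
local notation "M₀" => Matrix (Fin n) (Fin n) F₀
local notation "SL₀" => Matrix.SpecialLinearGroup (Fin n) F₀

/-- similitudes in `GL_n` normalise `RO M` -/
theorem conj_mem_RO_gl (M : M₀) (K : GL (Fin n) F₀) (m : F₀) (hm : m ≠ 0)
    (hK : (K : M₀)ᵀ * M * (K : M₀) = m • M) (s : SL₀) (hs : s ∈ RO M) : slConj K s ∈ RO M := by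
  rw [mem_RO] at hs ⊢
  have h1 : Matrix.SpecialLinearGroup.toLin' (slConj K s) =
      glEquiv (Fin n) F₀ K * Matrix.SpecialLinearGroup.toLin' s * (glEquiv (Fin n) F₀ K)⁻¹ := by
    apply LinearEquiv.ext
    intro v
    rw [← map_inv]
    show _ = glEquiv (Fin n) F₀ K
      (Matrix.SpecialLinearGroup.toLin' s (glEquiv (Fin n) F₀ K⁻¹ v))
    rw [glEquiv_apply, glEquiv_apply, Matrix.SpecialLinearGroup.toLin'_apply,
      Matrix.SpecialLinearGroup.toLin'_apply, Matrix.toLin'_apply, Matrix.toLin'_apply,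
      slConj_coe', Matrix.mulVec_mulVec, Matrix.mulVec_mulVec]
  rw [h1]
  apply Cfsg.Agent.Lib.Helper14_PSLBalPk.conj_mem_TE_of_similitude (QM M) _ m hm _ _ hs
  intro v
  rw [glEquiv_apply, QM_mulVec, hK, bilOf_smul, QM_eq_bilOf]

variable [Fintype F₀]

/-- the orthogonal case: the core -/
theorem graph_o_core (hF : Fintype.card F = q ^ 2) (hn : 3 ≤ n) (hfac : Fac n F q)
    (h2 : (2 : F₀) ≠ 0) (ι : F₀ →+* F) (hι : ∀ a : F, tauQ hF a = a ↔ a ∈ Set.range ι)
    (gU : ↥(Cfsg.GU n F q)) (D : Desc hF ι ((gU.1 : GL (Fin n) F) : Mn))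
    (hM : D.B₀ᵀ = D.B₀) (hdet : D.B₀.det ≠ 0)
    (A : Subgroup (MulAut PSUn)) (hinn : ∀ k : PSUn, MulAut.conj k ∈ A) :
    Cfsg.pPrimeCore 2 ↥(A ⊓ Subgroup.centralizer {(conjU gU * fieldU (tauQ hF) : MulAut PSUn)}) =
        ⊥ := by
  have hn0 : 0 < n := by omega
  have hpres : ∀ s ∈ RO D.B₀, (s : M₀)ᵀ * D.B₀ * (s : M₀) = D.B₀ :=
    fun s hs => isom_of_mem_RO h2 hM s hs
  have hQ := nondeg_QM h2 hM hdet
  apply core_generic hF ι hι gU D (RO D.B₀) hpres hn hfac
  · intro K m hm hK s hs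
    exact conj_mem_RO_gl D.B₀ K m hm hK s hs
  · intro τ₀ hh hsb hcomm
    apply Cfsg.Agent.Lib.Helper14_PSLBalPk.key_O h2 (QM D.B₀) hQ
      (by rw [Module.finrank_fin_fun]; exact hn) τ₀ hh hsb
    intro u z hu huz
    obtain ⟨s, hs⟩ := exists_sl_of_mem_TE D.B₀ (E (QM D.B₀) u z) (E_mem_TE (QM D.B₀) hu huz)
    have hsR : s ∈ RO D.B₀ := by rw [mem_RO, hs]; exact E_mem_TE (QM D.B₀) hu huz
    obtain ⟨c, hc⟩ := hcomm s hsR
    refine ⟨c, ?_⟩
    intro v
    have h1 : ∀ w : Fin n → F₀, (s : M₀) *ᵥ w = E (QM D.B₀) u z w := by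
      intro w
      rw [← hs, Matrix.SpecialLinearGroup.toLin'_apply, Matrix.toLin'_apply]
    rw [← h1, ← h1]
    exact hc v
  · apply Cfsg.Agent.Lib.Helper14_PSLBalPk.oddComm_range_of_no_odd_normal
    · intro g hg
      obtain ⟨c, hc⟩ := innSU_fG_eq_one hF ι hι gU D (RO D.B₀) hpres hn g hg
      have hiso := hpres g.1 g.2
      rw [hc, Matrix.transpose_smul, Matrix.transpose_one, Matrix.smul_mul, Matrix.one_mul,
        Matrix.mul_smul, Matrix.mul_one, smul_smul] at hiso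
      have hcc : c * c = 1 := by
        by_contra hne
        have h1 : (c * c - 1) • D.B₀ = 0 := by rw [sub_smul, hiso, one_smul, sub_self]
        rcases smul_eq_zero.mp h1 with h | h
        · exact hne (by linear_combination h)
        · have : Nonempty (Fin n) := ⟨⟨0, hn0⟩⟩
          rw [h, Matrix.det_zero] at hdet
          exact hdet rfl
      constructor
      · apply Subtype.ext
        apply Subtype.ext
        show ((g : SL₀) : M₀) * ((g : SL₀) : M₀) = 1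
        rw [hc, Matrix.smul_mul, Matrix.one_mul, smul_smul, hcc, one_smul]
      · intro x
        apply Subtype.ext
        apply Subtype.ext
        show ((g : SL₀) : M₀) * ((x : SL₀) : M₀) = ((x : SL₀) : M₀) * ((g : SL₀) : M₀)
        rw [hc, Matrix.smul_mul, Matrix.one_mul, Matrix.mul_smul, Matrix.mul_one]
    · intro N hN hodd
      exact no_odd_normal_RO h2 hn hM hdet N hN hodd
  · exact hinn

end Cfsg.Agent.Lib.Helper93_UGraphO
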