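import Mathlib
import Cfsg.Agent.Lib.Helper93_UGraphGen
import Cfsg.Agent.Lib.Helper20_PSLBAL_SSTR
import Cfsg.Agent.Lib.Helper69_PSLBAL_KEYS
import Cfsg.Agent.Lib.Helper24_PSLBAL_QSA

/-!
# Local balance at a graph-type involution of `Aut(PSU_n(q))`: the symplectic case (helper93)
-/

set_option autoImplicit false
set_option linter.unusedSectionVars false
set_option linter.unusedVariables false
set_option linter.unusedSimpArgs false
set_option linter.style.haveILetI false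

namespace Cfsg.Agent.Lib.Helper93_UGraphSp

open Matrix Cfsg Cfsg.Agent.Lib.Helper14_PSLAut Cfsg.Agent.Lib.Helper14_FieldAutPSL
  Cfsg.Agent.Lib.Helper14_PSUAut Cfsg.Agent.Lib.Helper14_PSUKer
  Cfsg.Agent.Lib.Helper45_PSUOut Cfsg.Agent.Lib.Helper44_PSULang
  Cfsg.Agent.Lib.Helper14_BalAbs Cfsg.Agent.Lib.Helper14_PSLBalDefs
  Cfsg.Agent.Lib.Helper93_UBalStd Cfsg.Agent.Lib.Helper93_UBalNormal
  Cfsg.Agent.Lib.Helper93_UGraphCore Cfsg.Agent.Lib.Helper93_UGraphDescent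
  Cfsg.Agent.Lib.Helper93_UGraphGen

variable {F : Type*} [Field F] [Fintype F] {n q : ℕ} {F₀ : Type*} [Field F₀] [Fintype F₀]

local notation "PSUn" => Cfsg.PSU n F q
local notation "Mn" => Matrix (Fin n) (Fin n) F
local notation "M₀" => Matrix (Fin n) (Fin n) F₀

/-- the symplectic case -/
theorem graph_sp (hF : Fintype.card F = q ^ 2) (hn : 3 ≤ n) (hfac : Fac n F q)
    (h2 : (2 : F₀) ≠ 0) (ι : F₀ →+* F) (hι : ∀ a : F, tauQ hF a = a ↔ a ∈ Set.range ι)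
    (gU : ↥(Cfsg.GU n F q)) (D : Desc hF ι ((gU.1 : GL (Fin n) F) : Mn))
    (hM : D.B₀ᵀ = -D.B₀) (hdet : D.B₀.det ≠ 0)
    (A : Subgroup (MulAut PSUn)) (hinn : ∀ k : PSUn, MulAut.conj k ∈ A) :
    Cfsg.pPrimeCore 2 ↥(A ⊓ Subgroup.centralizer {(conjU gU * fieldU (tauQ hF) : MulAut PSUn)}) =
        ⊥ ∧
      2 ∣ Nat.card ↥(MonoidHom.eqLocus (conjU gU * fieldU (tauQ hF) : MulAut PSUn).toMonoidHom
        (MonoidHom.id (Cfsg.PSU n F q))) := by
  have hpres : ∀ s ∈ RS D.B₀, (s : M₀)ᵀ * D.B₀ * (s : M₀) = D.B₀ := fun s hs => hs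
  obtain ⟨hperf, hsimple, t, ht, htt, hns⟩ :=
    Cfsg.Agent.Lib.Helper20_PSLBAL_SSTR.sp_structure h2 hn D.B₀ hM hdet
  refine ⟨?_, ?_⟩
  · apply core_generic hF ι hι gU D (RS D.B₀) hpres hn hfac
    · intro K m _ hK s hs
      exact conj_mem_RS_of_sim D.B₀ K m hK s hs
    · intro τ₀ hh hsb hcomm
      exact Cfsg.Agent.Lib.Helper69_PSLBAL_KEYS.key_S h2 (by omega) D.B₀ hM hdet τ₀ hh hsb hcomm
    · apply Cfsg.Agent.Lib.Helper24_PSLBAL_QSA.oddComm_range_of_quasisimple _ hperf hsimple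
        ⟨t, ht⟩
      · intro h1
        apply hns
        exact innSU_fG_eq_one hF ι hι gU D (RS D.B₀) hpres hn ⟨t, ht⟩ h1
      · have h1 : (⟨t, ht⟩ : ↥(RS D.B₀)) * ⟨t, ht⟩ = 1 := Subtype.ext htt
        rw [h1, map_one]
    · exact hinn
  · exact two_dvd_generic hF ι hι gU D hn t ht htt hns

end Cfsg.Agent.Lib.Helper93_UGraphSp
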