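import Mathlib
import Cfsg.Agent.Lib.Helper14_Congruence

/-!
# A non-scalar involution of determinant one preserving a symmetric form (helper93)
-/

set_option autoImplicit false
set_option linter.unusedSectionVars false
set_option linter.unusedVariables false
set_option linter.unusedSimpArgs false
set_option linter.style.haveILetI false

namespace Cfsg.Agent.Lib.Helper93_UGraphSymInv

open Matrix

variable {n : ℕ} {F : Type*} [Field F] [Fintype F]

local notation "Mn" => Matrix (Fin n) (Fin n) F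

theorem exists_sym_invol (h2 : (2 : F) ≠ 0) (hn : 3 ≤ n) (M : Mn) (hM : Mᵀ = M)
    (hdet : M.det ≠ 0) :
    ∃ t : Matrix.SpecialLinearGroup (Fin n) F, (t : Mn)ᵀ * M * (t : Mn) = M ∧ t * t = 1 ∧
      ¬ ∃ c : F, (t : Mn) = c • (1 : Mn) := by
  classical
  obtain ⟨i₀, hi₀⟩ : ∃ i₀ : Fin n, i₀ = ⟨0, by omega⟩ := ⟨_, rfl⟩
  obtain ⟨i₁, hi₁⟩ : ∃ i₁ : Fin n, i₁ = ⟨1, by omega⟩ := ⟨_, rfl⟩
  obtain ⟨i₂, hi₂⟩ : ∃ i₂ : Fin n, i₂ = ⟨2, by omega⟩ := ⟨_, rfl⟩
  have h01 : i₀ ≠ i₁ := by rw [hi₀, hi₁]; intro h; simp [Fin.ext_iff] at h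
  have h02 : i₀ ≠ i₂ := by rw [hi₀, hi₂]; intro h; simp [Fin.ext_iff] at h
  have h12 : i₁ ≠ i₂ := by rw [hi₁, hi₂]; intro h; simp [Fin.ext_iff] at h
  -- the diagonal model
  obtain ⟨d, hd⟩ : ∃ d : Fin n → F, d = fun i => if i = i₀ then M.det else 1 := ⟨_, rfl⟩
  have hdetd : (Matrix.diagonal d).det = M.det := by
    rw [Matrix.det_diagonal, hd]
    rw [Finset.prod_ite_eq' Finset.univ i₀ (fun _ => M.det)]
    simp
  obtain ⟨k, hk⟩ := Cfsg.Agent.Lib.Helper14_Congruence.exists_congr_sym h2 hM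
    (Matrix.diagonal_transpose d) hdet (by rw [hdetd]; exact hdet) ⟨M.det, by rw [hdetd]⟩
  obtain ⟨K, hK⟩ : ∃ K : Mn, K = (k : Mn) := ⟨_, rfl⟩
  obtain ⟨Ki, hKi⟩ : ∃ Ki : Mn, Ki = ((k⁻¹ : GL (Fin n) F) : Mn) := ⟨_, rfl⟩
  have hKKi : K * Ki = 1 := by rw [hK, hKi, ← Units.val_mul, mul_inv_cancel, Units.val_one]
  have hKiK : Ki * K = 1 := by rw [hK, hKi, ← Units.val_mul, inv_mul_cancel, Units.val_one]
  rw [← hK] at hk
  -- the diagonal involution
  obtain ⟨e, he⟩ : ∃ e : Fin n → F,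
      e = fun i => (if i = i₁ then (-1 : F) else 1) * (if i = i₂ then (-1 : F) else 1) := ⟨_, rfl⟩
  have hee : ∀ i, e i * e i = 1 := by
    intro i
    have ha : ∀ (p : Prop) [Decidable p],
        (if p then (-1 : F) else 1) * (if p then (-1 : F) else 1) = 1 := by
      intro p _
      split_ifs <;> ring
    rw [he]
    show (if i = i₁ then (-1 : F) else 1) * (if i = i₂ then (-1 : F) else 1) *
      ((if i = i₁ then (-1 : F) else 1) * (if i = i₂ then (-1 : F) else 1)) = 1
    rw [mul_mul_mul_comm, ha, ha, one_mul]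
  have hE2 : Matrix.diagonal e * Matrix.diagonal e = 1 := by
    rw [Matrix.diagonal_mul_diagonal]
    rw [← Matrix.diagonal_one]
    congr 1
    funext i
    exact hee i
  have hEdE : Matrix.diagonal e * Matrix.diagonal d * Matrix.diagonal e = Matrix.diagonal d := by
    rw [Matrix.diagonal_mul_diagonal, Matrix.diagonal_mul_diagonal]
    congr 1
    funext i
    rw [mul_comm (e i) (d i), mul_assoc, hee, mul_one]
  have hdetE : (Matrix.diagonal e).det = 1 := by
    rw [Matrix.det_diagonal, he, Finset.prod_mul_distrib,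
      Finset.prod_ite_eq' Finset.univ i₁ (fun _ => (-1 : F)),
      Finset.prod_ite_eq' Finset.univ i₂ (fun _ => (-1 : F))]
    simp
  have hM2 : M = Kiᵀ * Matrix.diagonal d * Ki := by
    rw [← hk]
    calc M = (K * Ki)ᵀ * M * (K * Ki) := by
          rw [hKKi, Matrix.transpose_one, Matrix.one_mul, Matrix.mul_one]
      _ = Kiᵀ * (Kᵀ * M * K) * Ki := by
          rw [Matrix.transpose_mul]; simp only [Matrix.mul_assoc]
  have hdett : (K * Matrix.diagonal e * Ki).det = 1 := by
    rw [Matrix.det_mul, Matrix.det_mul, hdetE, mul_one, ← Matrix.det_mul, hKKi, Matrix.det_one]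
  refine ⟨⟨K * Matrix.diagonal e * Ki, hdett⟩, ?_, ?_, ?_⟩
  · show (K * Matrix.diagonal e * Ki)ᵀ * M * (K * Matrix.diagonal e * Ki) = M
    calc (K * Matrix.diagonal e * Ki)ᵀ * M * (K * Matrix.diagonal e * Ki)
        = Kiᵀ * (Matrix.diagonal e * (Kᵀ * M * K) * Matrix.diagonal e) * Ki := by
          rw [Matrix.transpose_mul, Matrix.transpose_mul, Matrix.diagonal_transpose]
          simp only [Matrix.mul_assoc]
      _ = M := by rw [hk, hEdE, ← hM2]
  · apply Subtype.ext
    show (K * Matrix.diagonal e * Ki) * (K * Matrix.diagonal e * Ki) = 1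
    calc (K * Matrix.diagonal e * Ki) * (K * Matrix.diagonal e * Ki)
        = K * (Matrix.diagonal e * (Ki * K) * Matrix.diagonal e) * Ki := by
          simp only [Matrix.mul_assoc]
      _ = 1 := by rw [hKiK, Matrix.mul_one, hE2, Matrix.mul_one, hKKi]
  · rintro ⟨c, hc⟩
    have hc' : K * Matrix.diagonal e * Ki = c • (1 : Mn) := hc
    have hE : Matrix.diagonal e = c • (1 : Mn) := by
      calc Matrix.diagonal e = (Ki * K) * Matrix.diagonal e * (Ki * K) := by
            rw [hKiK, Matrix.one_mul, Matrix.mul_one]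
        _ = Ki * (K * Matrix.diagonal e * Ki) * K := by simp only [Matrix.mul_assoc]
        _ = c • (1 : Mn) := by
            rw [hc', Matrix.mul_smul, Matrix.smul_mul, Matrix.mul_one, hKiK]
    have h0 := congrFun (congrFun hE i₀) i₀
    have h1 := congrFun (congrFun hE i₁) i₁
    rw [Matrix.diagonal_apply_eq, Matrix.smul_apply, Matrix.one_apply_eq, smul_eq_mul, mul_one]
      at h0 h1
    rw [he] at h0 h1
    simp only [if_neg h01, if_neg h02, if_neg h12, if_true, mul_one] at h0 h1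
    apply h2
    rw [← h0] at h1
    linear_combination -h1

end Cfsg.Agent.Lib.Helper93_UGraphSymInv
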