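import Mathlib
import Cfsg.Agent.Lib.Helper93_UGraphNF
import Cfsg.Agent.Lib.Helper93_UGraphSp
import Cfsg.Agent.Lib.Helper93_UGraphO
import Cfsg.Agent.Lib.Helper44_FixField
import Cfsg.Agent.Lib.Helper93_UGraphSymInv

/-!
# Local balance at an involution of `Aut(PSU_n(q))` outside `Inndiag`, `q` odd (helper93)
-/

set_option autoImplicit false
set_option linter.unusedSectionVars false
set_option linter.unusedVariables false
set_option linter.unusedSimpArgs false
set_option linter.style.haveILetI false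

namespace Cfsg.Agent.Lib.Helper93_UGraphMain

open Matrix Cfsg Cfsg.Agent.Lib.Helper14_PSLAut Cfsg.Agent.Lib.Helper14_FieldAutPSL
  Cfsg.Agent.Lib.Helper14_PSUAut Cfsg.Agent.Lib.Helper14_PSUKer
  Cfsg.Agent.Lib.Helper45_PSUOut Cfsg.Agent.Lib.Helper44_PSULang
  Cfsg.Agent.Lib.Helper44_FixField
  Cfsg.Agent.Lib.Helper93_UGraphDescent Cfsg.Agent.Lib.Helper93_UGraphGen
  Cfsg.Agent.Lib.Helper93_UGraphNF Cfsg.Agent.Lib.Helper93_UGraphSp
  Cfsg.Agent.Lib.Helper93_UGraphO

variable {F : Type*} [Field F] [Fintype F] {n q : ℕ}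

local notation "PSUn" => Cfsg.PSU n F q
local notation "Mn" => Matrix (Fin n) (Fin n) F

/-- an involution of a field with `q ^ 2` elements is `x ↦ x ^ q` -/
theorem invol_eq_tauQ {r : ℕ} [hr : Fact r.Prime] [CharP F r] (hF : Fintype.card F = q ^ 2)
    (σ : F ≃+* F) (hσ2 : σ ^ 2 = 1) (hσ1 : σ ≠ 1) : σ = tauQ hF := by
  classical
  obtain ⟨m, -, hm⟩ := FiniteField.card F r
  have hq : ∃ f : ℕ, q = r ^ f := by
    have hdvd : q ∣ r ^ (m : ℕ) := by
      rw [← hm, hF]
      exact dvd_pow_self q two_ne_zero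
    obtain ⟨f, -, hf⟩ := (Nat.dvd_prime_pow hr.out).mp hdvd
    exact ⟨f, hf⟩
  obtain ⟨f, hf⟩ := hq
  have hF' : Fintype.card F = r ^ (2 * f) := by
    rw [hF, hf, ← pow_mul, mul_comm]
  have hord : orderOf σ = 2 := by
    haveI : Fact (Nat.Prime 2) := ⟨Nat.prime_two⟩
    exact orderOf_eq_prime hσ2 hσ1
  obtain ⟨-, hcard⟩ := card_fixField σ hF' hord
  rw [Nat.mul_div_cancel_left f (by norm_num : 0 < 2), ← hf] at hcard
  -- `ρ` fixes the fixed field of `σ`
  have hfix : ∀ a : F, σ a = a → tauQ hF a = a := by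
    intro a ha
    haveI : Fintype ↥(fixField σ) := Fintype.ofFinite _
    have h1 : (⟨a, (mem_fixField σ a).mpr ha⟩ : ↥(fixField σ)) ^ Fintype.card ↥(fixField σ) =
        ⟨a, (mem_fixField σ a).mpr ha⟩ := FiniteField.pow_card _
    rw [← Nat.card_eq_fintype_card, hcard] at h1
    have h2 := congrArg Subtype.val h1
    rw [tauQ_apply]
    exact h2
  have hmem : tauQ hF ∈ Subgroup.zpowers σ := galois_mem_zpowers σ (tauQ hF) hfix
  obtain ⟨j, hj⟩ := Subgroup.mem_zpowers_iff.mp hmem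
  rcases Int.even_or_odd j with hev | hodd
  · exfalso
    apply tauQ_ne_one hF
    obtain ⟨k, hk⟩ := hev
    rw [← hj, hk, ← two_mul, _root_.zpow_mul, zpow_ofNat, hσ2, _root_.one_zpow]
  · obtain ⟨k, hk⟩ := hodd
    rw [← hj, hk, _root_.zpow_add, _root_.zpow_mul, zpow_ofNat, hσ2, _root_.one_zpow, one_mul, zpow_one]

/-- **Local balance for `PSU`**, involutions outside the inner-diagonal group (`q` odd): the core
is trivial and the number of fixed points is even. -/
theorem balance_graph_u {r : ℕ} [hr : Fact r.Prime] [CharP F r] (hr2 : r ≠ 2)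
    (hF : Fintype.card F = q ^ 2) (hn : 3 ≤ n) (hfac : Fac n F q)
    (A : Subgroup (MulAut PSUn)) (hinn : ∀ k : PSUn, MulAut.conj k ∈ A)
    (x : MulAut PSUn) (hord : orderOf x = 2) (hnot : ¬ Cfsg.IsInnerDiagonalAutPSU x) :
    Cfsg.pPrimeCore 2 ↥(A ⊓ Subgroup.centralizer {x}) = ⊥ ∧
      2 ∣ Nat.card ↥(MonoidHom.eqLocus x.toMonoidHom (MonoidHom.id (Cfsg.PSU n F q))) := by
  have hn0 : 0 < n := by omega
  obtain ⟨g, σ, hx⟩ := hfac x
  have hσ1 : σ ≠ 1 := by
    rintro rfl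
    apply hnot
    rw [isInnerDiagonalPSU_iff]
    exact ⟨g, by rw [hx, map_one, mul_one]⟩
  have hxx : (conjU g * fieldU σ : MulAut PSUn) ^ 2 = 1 := by
    rw [← hx, ← hord]
    exact pow_orderOf_eq_one x
  have hσ2 : σ ^ 2 = 1 := by
    have h1 := hxx
    rw [pow_conjU_mul_fieldU] at h1
    have h2 : fieldU (σ ^ 2) = (conjU (PNU σ g 2)⁻¹ : MulAut PSUn) := by
      rw [map_inv]
      exact eq_inv_of_mul_eq_one_right h1
    rw [conjU_apply] at h2
    exact (eq_one_and_scalar_of_conjN_eq_fieldU hF hn _ (σ ^ 2) h2.symm).1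
  have hσρ : σ = tauQ hF := invol_eq_tauQ (r := r) hF σ hσ2 hσ1
  subst hσρ
  -- `g * g^ρ` is scalar
  have hsc : (conjU (g * mapU (tauQ hF) g) : MulAut PSUn) = 1 := by
    have h1 : (conjU g * fieldU (tauQ hF) : MulAut PSUn) ^ 2 =
        conjU (g * mapU (tauQ hF) g) * fieldU (tauQ hF ^ 2) := by
      rw [pow_two, map_mul, pow_two, map_mul]
      calc (conjU g * fieldU (tauQ hF) * (conjU g * fieldU (tauQ hF)) : MulAut PSUn)
          = conjU g * (fieldU (tauQ hF) * conjU g) * fieldU (tauQ hF) := by group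
        _ = conjU g * (conjU (mapU (tauQ hF) g) * fieldU (tauQ hF)) * fieldU (tauQ hF) := by
            rw [fieldU_mul_conjU]
        _ = conjU g * conjU (mapU (tauQ hF) g) * (fieldU (tauQ hF) * fieldU (tauQ hF)) := by
            group
    rw [h1, hσ2, map_one, mul_one] at hxx
    exact hxx
  rw [conjU_apply, conjN_eq_one_iff hF hn, Cfsg.Geo.mem_scalars_iff] at hsc
  obtain ⟨c, hc⟩ := hsc
  have hgg : ((g.1 : GL (Fin n) F) : Mn) * ((g.1 : GL (Fin n) F) : Mn).map (tauQ hF) =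
      (c : F) • (1 : Mn) := hc
  -- the fixed field
  have h2F : (2 : F) ≠ 0 := by
    intro h0
    have h4 : ((2 : ℕ) : F) = 0 := by exact_mod_cast h0
    rw [CharP.cast_eq_zero_iff F r] at h4
    have := (Nat.prime_dvd_prime_iff_eq hr.out Nat.prime_two).mp h4
    exact hr2 this
  haveI : Fintype ↥(fixField (tauQ hF)) := Fintype.ofFinite _
  have h2F₀ : (2 : ↥(fixField (tauQ hF))) ≠ 0 := by
    intro h0
    apply h2F
    have := congrArg (fixField (tauQ hF)).subtype h0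
    rw [map_ofNat, map_zero] at this
    exact this
  obtain ⟨D, hD, hdet⟩ := exists_desc hF hn0 (fixField (tauQ hF)).subtype
    (hι_fixField (tauQ hF)) g (c : F) hgg
  rw [hx]
  rcases hD with hsym | hskew
  · refine ⟨graph_o_core hF hn hfac h2F₀ _ (hι_fixField (tauQ hF)) g D hsym hdet A hinn, ?_⟩
    obtain ⟨t, ht, htt, hns⟩ :=
      Cfsg.Agent.Lib.Helper93_UGraphSymInv.exists_sym_invol h2F₀ hn D.B₀ hsym hdet
    exact two_dvd_generic hF _ (hι_fixField (tauQ hF)) g D hn t ht htt hns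
  · exact graph_sp hF hn hfac h2F₀ _ (hι_fixField (tauQ hF)) g D hskew hdet A hinn

end Cfsg.Agent.Lib.Helper93_UGraphMain
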