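import Mathlib
import Cfsg.Agent.Lib.Helper13_SUGen

set_option autoImplicit false

/-!
Transitivity of the transvection group of a nondegenerate hermitian subspace of dimension two or
three on the vectors of a given nonzero norm, and the growth lemma: a subgroup containing the
transvection group of `U` and all transvections with one isotropic centre `u₀ + t`, `t`
anisotropic and orthogonal to `U`, contains the transvection group of `U ⊔ span {t}`.
-/

namespace Cfsg.Agent.Lib.Helper93_UTrans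

open Module Cfsg.Agent.Lib.Helper94_Herm Cfsg.Agent.Lib.Helper94_HermTrans
  Cfsg.Agent.Lib.Helper94_HermWitt Cfsg.Agent.Lib.Helper13_SUGen Cfsg.Agent.Lib.Helper94_HermIrr

variable {F V : Type*} [Field F] [AddCommGroup V] [Module F V]
variable {σ : F →+* F} {B : V →ₗ[F] V →ₛₗ[σ] F}

/-- All unitary transvections with centre `v` lie in `H`. -/
def Full (B : V →ₗ[F] V →ₛₗ[σ] F) (H : Subgroup (V ≃ₗ[F] V)) (v : V) : Prop :=
  ∀ c, σ c = -c → utv B v c ∈ H

lemma full_map {H : Subgroup (V ≃ₗ[F] V)} {g : V ≃ₗ[F] V} (hgH : g ∈ H) (hg : g ∈ uG B) {v : V}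
    (hv : Full B H v) : Full B H (g v) := by
  intro c hc
  rw [← conj_utv hg]
  exact H.mul_mem (H.mul_mem hgH (hv c hc)) (H.inv_mem hgH)

lemma full_smul (hσ : Invol σ) {H : Subgroup (V ≃ₗ[F] V)} {v : V} (hv : Full B H v) (μ : F) :
    Full B H (μ • v) := by
  intro c hc
  rw [utv_smul]
  apply hv
  rw [map_mul, map_mul, hσ.invol, hc]
  ring

/-- Transitivity of the transvection group of `U` on the vectors of `U` of each nonzero norm. -/
def TransOn (B : V →ₗ[F] V →ₛₗ[σ] F) (U : Submodule F V) : Prop :=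
  ∀ v ∈ U, ∀ v' ∈ U, B v v ≠ 0 → B v' v' = B v v → ∃ t ∈ tvGroup B U, t v = v'

/-! ### Moves in a hyperbolic plane -/

lemma moveE {e f : V} (h : HypPair B e f) (s x y : F) :
    utv B e s (x • e + y • f) = (x + s * y) • e + y • f := by
  rw [utv_apply B h.ee]
  simp only [map_add, map_smul, LinearMap.add_apply, LinearMap.smul_apply, smul_eq_mul, h.ee,
    h.fe, mul_zero, mul_one, zero_add]
  module

lemma moveF {e f : V} (h : HypPair B e f) (s x y : F) :
    utv B f s (x • e + y • f) = x • e + (y + s * x) • f := by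
  rw [utv_apply B h.ff]
  simp only [map_add, map_smul, LinearMap.add_apply, LinearMap.smul_apply, smul_eq_mul, h.ff,
    h.ef, mul_zero, mul_one, add_zero]
  module

lemma connectE {U : Submodule F V} {e f : V} (h : HypPair B e f) (heU : e ∈ U) {x x₁ y : F}
    (hy : y ≠ 0) (hn : x₁ * σ y + y * σ x₁ = x * σ y + y * σ x) :
    ∃ t ∈ tvGroup B U, t (x • e + y • f) = x₁ • e + y • f := by
  have hsy : σ y ≠ 0 := (map_ne_zero σ).mpr hy
  refine ⟨utv B e ((x₁ - x) / y), utv_mem_tvGroup heU h.ee ?_, ?_⟩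
  · rw [map_div₀, map_sub]
    field_simp
    linear_combination hn
  · rw [moveE h]
    congr 2
    field_simp
    ring

lemma connectF {U : Submodule F V} {e f : V} (h : HypPair B e f) (hfU : f ∈ U) {x y y₁ : F}
    (hx : x ≠ 0) (hn : x * σ y₁ + y₁ * σ x = x * σ y + y * σ x) :
    ∃ t ∈ tvGroup B U, t (x • e + y • f) = x • e + y₁ • f := by
  have hsx : σ x ≠ 0 := (map_ne_zero σ).mpr hx
  refine ⟨utv B f ((y₁ - y) / x), utv_mem_tvGroup hfU h.ff ?_, ?_⟩
  · rw [map_div₀, map_sub]
    field_simp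
    linear_combination hn
  · rw [moveF h]
    congr 2
    field_simp
    ring

section

variable (hσ : Invol σ)

include hσ in
lemma connect_indep {U : Submodule F V} {e f : V} (h : HypPair B e f) (heU : e ∈ U)
    (hfU : f ∈ U) {x y x' y' : F} (hc : x * σ y + y * σ x ≠ 0)
    (heq : x' * σ y' + y' * σ x' = x * σ y + y * σ x) (hind : y' * σ y ≠ σ y' * y) :
    ∃ t ∈ tvGroup B U, t (x • e + y • f) = x' • e + y' • f := by
  obtain ⟨c, hcdef⟩ : ∃ c, c = x * σ y + y * σ x := ⟨_, rfl⟩
  have hcσ : σ c = c := by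
    rw [hcdef]
    simp only [map_add, map_mul, hσ.invol]
    ring
  have hy : y ≠ 0 := by
    rintro rfl
    apply hc
    simp
  have hy' : y' ≠ 0 := by
    rintro rfl
    apply hc
    rw [← heq]
    simp
  obtain ⟨Δ, hΔdef⟩ : ∃ Δ, Δ = σ y * y' - y * σ y' := ⟨_, rfl⟩
  have hΔ : Δ ≠ 0 := by
    rw [hΔdef]
    intro h0
    apply hind
    linear_combination h0
  have hσΔ : σ Δ = -Δ := by
    rw [hΔdef]
    simp only [map_sub, map_mul, hσ.invol]
    ring
  obtain ⟨x₁, hx₁def⟩ : ∃ x₁, x₁ = c * (y' - y) / Δ := ⟨_, rfl⟩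
  have hσx₁ : σ x₁ = c * (σ y' - σ y) / (-Δ) := by
    rw [hx₁def, map_div₀, map_mul, map_sub, hcσ, hσΔ]
  have hnΔ : -Δ ≠ 0 := neg_ne_zero.mpr hΔ
  have h1 : x₁ * σ y + y * σ x₁ = c := by
    rw [hσx₁, hx₁def]
    field_simp
    rw [hΔdef]
    ring
  have h2 : x₁ * σ y' + y' * σ x₁ = c := by
    rw [hσx₁, hx₁def]
    field_simp
    rw [hΔdef]
    ring
  have hx₁ : x₁ ≠ 0 := by
    rintro h0
    apply hc
    rw [← hcdef, ← h1, h0]
    simp
  obtain ⟨t1, ht1, e1⟩ := connectE (U := U) h heU (x := x) (x₁ := x₁) hy (by rw [h1, hcdef])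
  obtain ⟨t2, ht2, e2⟩ := connectF (U := U) h hfU (x := x₁) (y := y) (y₁ := y') hx₁
    (by rw [h2, h1])
  obtain ⟨t3, ht3, e3⟩ := connectE (U := U) h heU (x := x₁) (x₁ := x') (y := y') hy'
    (by rw [h2, heq, hcdef])
  refine ⟨t3 * t2 * t1, mul_mem (mul_mem ht3 ht2) ht1, ?_⟩
  rw [LinearEquiv.mul_apply, LinearEquiv.mul_apply, e1, e2, e3]

include hσ in
/-- Transitivity in a hyperbolic plane, in coordinates. -/
lemma t2_core {U : Submodule F V} {e f : V} (h : HypPair B e f) (heU : e ∈ U) (hfU : f ∈ U)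
    {x y x' y' : F} (hc : x * σ y + y * σ x ≠ 0)
    (heq : x' * σ y' + y' * σ x' = x * σ y + y * σ x) :
    ∃ t ∈ tvGroup B U, t (x • e + y • f) = x' • e + y' • f := by
  by_cases hind : y' * σ y ≠ σ y' * y
  · exact connect_indep hσ h heU hfU hc heq hind
  push Not at hind
  obtain ⟨c, hcdef⟩ : ∃ c, c = x * σ y + y * σ x := ⟨_, rfl⟩
  have hcσ : σ c = c := by
    rw [hcdef]
    simp only [map_add, map_mul, hσ.invol]
    ring
  have hy : y ≠ 0 := by
    rintro rfl
    apply hc
    simp
  have hy' : y' ≠ 0 := by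
    rintro rfl
    apply hc
    rw [← heq]
    simp
  have hsy : σ y ≠ 0 := (map_ne_zero σ).mpr hy
  obtain ⟨ω, hω⟩ := hσ.ne_id
  obtain ⟨κ, hκ⟩ := tr_surj hσ c hcσ
  obtain ⟨y'', hy''def⟩ : ∃ y'', y'' = ω * y := ⟨_, rfl⟩
  have hω0 : ω ≠ 0 := by
    rintro rfl
    exact hω (map_zero σ)
  have hy''0 : y'' ≠ 0 := by rw [hy''def]; exact mul_ne_zero hω0 hy
  have hsy'' : σ y'' ≠ 0 := (map_ne_zero σ).mpr hy''0
  obtain ⟨x'', hx''def⟩ : ∃ x'', x'' = κ / σ y'' := ⟨_, rfl⟩
  have hn'' : x'' * σ y'' + y'' * σ x'' = c := by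
    rw [hx''def, map_div₀, hσ.invol]
    field_simp
    linear_combination hκ
  have hd : ω - σ ω ≠ 0 := fun h0 => hω (sub_eq_zero.mp h0).symm
  have hind1 : y'' * σ y ≠ σ y'' * y := by
    rw [hy''def, map_mul]
    intro h0
    have : (ω - σ ω) * (y * σ y) = 0 := by linear_combination h0
    rcases mul_eq_zero.mp this with h1 | h1
    · exact hd h1
    · exact (mul_ne_zero hy hsy) h1
  have hind2 : y' * σ y'' ≠ σ y' * y'' := by
    rw [hy''def, map_mul]
    intro h0
    have : (ω - σ ω) * (y' * σ y) = 0 := by linear_combination -h0 + ω * hind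
    rcases mul_eq_zero.mp this with h1 | h1
    · exact hd h1
    · exact (mul_ne_zero hy' hsy) h1
  obtain ⟨t1, ht1, e1⟩ := connect_indep (U := U) hσ h heU hfU (x' := x'') (y' := y'') hc
    (by rw [hn'', hcdef]) hind1
  obtain ⟨t2, ht2, e2⟩ := connect_indep (U := U) hσ h heU hfU (x := x'') (y := y'')
    (x' := x') (y' := y') (by rw [hn'', hcdef]; exact hc) (by rw [hn'', heq, hcdef]) hind2
  refine ⟨t2 * t1, mul_mem ht2 ht1, ?_⟩
  rw [LinearEquiv.mul_apply, e1, e2]

end

/-! ### Planes -/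

section

variable (hσ : Invol σ) (hB : IsHerm B)

include hB in
/-- Coordinates in a two-dimensional subspace containing a hyperbolic pair. -/
lemma plane_coords [FiniteDimensional F V] {P : Submodule F V} (hP2 : finrank F P = 2)
    {e f : V} (h : HypPair B e f) (heP : e ∈ P) (hfP : f ∈ P) {x : V} (hx : x ∈ P) :
    x = B x f • e + B x e • f := by
  have hli := hypPair_linearIndependent h
  have hle : Submodule.span F (Set.range ![e, f]) ≤ P := by
    rw [Submodule.span_le]
    rintro _ ⟨i, rfl⟩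
    fin_cases i
    · exact heP
    · exact hfP
  have hfr : finrank F (Submodule.span F (Set.range ![e, f])) = 2 := by
    rw [finrank_span_eq_card hli, Fintype.card_fin]
  have heq : Submodule.span F (Set.range ![e, f]) = P :=
    Submodule.eq_of_le_of_finrank_eq hle (by rw [hfr, hP2])
  rw [← heq] at hx
  have hr : Set.range ![e, f] = {e, f} := by
    ext z
    simp only [Set.mem_range, Set.mem_insert_iff, Set.mem_singleton_iff]
    constructor
    · rintro ⟨i, rfl⟩
      fin_cases i
      · left; rfl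
      · right; rfl
    · rintro (rfl | rfl)
      · exact ⟨0, rfl⟩
      · exact ⟨1, rfl⟩
  rw [hr] at hx
  obtain ⟨s, t, rfl⟩ := Submodule.mem_span_pair.mp hx
  simp only [map_add, map_smul, LinearMap.add_apply, LinearMap.smul_apply, smul_eq_mul, h.ee,
    h.ff, h.ef, h.fe, mul_zero, mul_one, add_zero, zero_add]

include hσ hB in
/-- Transitivity of the transvections on the vectors of a given nonzero norm of a nondegenerate
plane. -/
theorem t2 [Finite F] [FiniteDimensional F V] {U P : Submodule F V} (hPU : P ≤ U)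
    (hP : NondegOn B P) (hP2 : finrank F P = 2) {v v' : V} (hv : v ∈ P) (hv' : v' ∈ P)
    (hc : B v v ≠ 0) (heq : B v' v' = B v v) : ∃ t ∈ tvGroup B U, t v = v' := by
  obtain ⟨e, heP, f, hfP, he, hf, hef⟩ :=
    exists_pair hσ hB hP (exists_notMem_span1 (by omega))
  have h := hypPair_mk hB he hf hef
  have e1 := plane_coords hB hP2 h heP hfP hv
  have e2 := plane_coords hB hP2 h heP hfP hv'
  obtain ⟨x, hx⟩ : ∃ x, x = B v f := ⟨_, rfl⟩
  obtain ⟨y, hy⟩ : ∃ y, y = B v e := ⟨_, rfl⟩
  obtain ⟨x', hx'⟩ : ∃ x', x' = B v' f := ⟨_, rfl⟩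
  obtain ⟨y', hy'⟩ : ∃ y', y' = B v' e := ⟨_, rfl⟩
  rw [← hx, ← hy] at e1
  rw [← hx', ← hy'] at e2
  have n1 : B v v = x * σ y + y * σ x := by
    rw [e1]
    simp only [map_add, map_smul, map_smulₛₗ, LinearMap.add_apply, LinearMap.smul_apply,
      smul_eq_mul, h.ee, h.ff, h.ef, h.fe, mul_zero, mul_one, add_zero, zero_add]
    ring
  have n2 : B v' v' = x' * σ y' + y' * σ x' := by
    rw [e2]
    simp only [map_add, map_smul, map_smulₛₗ, LinearMap.add_apply, LinearMap.smul_apply,
      smul_eq_mul, h.ee, h.ff, h.ef, h.fe, mul_zero, mul_one, add_zero, zero_add]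
    ring
  obtain ⟨t, ht, hte⟩ := t2_core (U := U) hσ h (hPU heP) (hPU hfP) (x := x) (y := y) (x' := x')
    (y' := y') (by rw [← n1]; exact hc) (by rw [← n1, ← n2, heq])
  exact ⟨t, ht, by rw [e1, hte, ← e2]⟩

include hB in
/-- Two vectors with invertible Gram matrix span a nondegenerate plane. -/
lemma plane_nondeg [FiniteDimensional F V] {p r : V}
    (hD : B p p * B r r - B p r * B r p ≠ 0) :
    NondegOn B (Submodule.span F {p, r}) ∧ finrank F (Submodule.span F {p, r}) = 2 := by
  have key : ∀ s t : F, B (s • p + t • r) p = 0 → B (s • p + t • r) r = 0 → s = 0 ∧ t = 0 := by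
    intro s t h1 h2
    simp only [map_add, map_smul, LinearMap.add_apply, LinearMap.smul_apply, smul_eq_mul] at h1 h2
    have hs : s * (B p p * B r r - B p r * B r p) = 0 := by
      linear_combination B r r * h1 - B r p * h2
    have ht : t * (B p p * B r r - B p r * B r p) = 0 := by
      linear_combination B p p * h2 - B p r * h1
    exact ⟨(mul_eq_zero.mp hs).resolve_right hD, (mul_eq_zero.mp ht).resolve_right hD⟩
  constructor
  · intro x hx hx0
    obtain ⟨s, t, rfl⟩ := Submodule.mem_span_pair.mp hx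
    by_contra hcon
    push Not at hcon
    have h1 := hcon p (Submodule.subset_span (by simp))
    have h2 := hcon r (Submodule.subset_span (by simp))
    obtain ⟨rfl, rfl⟩ := key s t h1 h2
    apply hx0
    simp
  · have hli : LinearIndependent F ![p, r] := by
      rw [LinearIndependent.pair_iff]
      intro s t hst
      apply key s t <;> rw [hst] <;> simp
    have hr : Set.range ![p, r] = {p, r} := by
      ext z
      simp only [Set.mem_range, Set.mem_insert_iff, Set.mem_singleton_iff]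
      constructor
      · rintro ⟨i, rfl⟩
        fin_cases i
        · left; rfl
        · right; rfl
      · rintro (rfl | rfl)
        · exact ⟨0, rfl⟩
        · exact ⟨1, rfl⟩
    rw [← hr, finrank_span_eq_card hli, Fintype.card_fin]

end

/-! ### Dimension three and the growth lemma -/

section

variable (hσ : Invol σ) (hB : IsHerm B)

include hσ hB in
/-- In a nondegenerate plane `P` there is, for a given vector `y` of `P`, a vector of given
nonzero norm `c` whose product with `y` does not have norm `c * c` (fixed field with more than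
two elements). -/
lemma exists_mid [Finite F] [FiniteDimensional F V] {P : Submodule F V} (hP : NondegOn B P)
    (hP2 : 2 ≤ finrank F P) {a₀ : F} (ha₀ : σ a₀ = a₀) (ha₀0 : a₀ ≠ 0) (ha₀1 : a₀ ≠ 1) {c : F}
    (hcσ : σ c = c) (hc : c ≠ 0) {y : V} (hyP : y ∈ P) :
    ∃ w ∈ P, B w w = c ∧ B w y * σ (B w y) ≠ c * c := by
  have hcc : c * c ≠ 0 := mul_ne_zero hc hc
  by_cases hy0 : y = 0
  · obtain ⟨d, hdP, -, hd⟩ := exists_norm hσ hB hP hP2 c hcσ
    refine ⟨d, hdP, hd, ?_⟩
    rw [hy0, map_zero, zero_mul]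
    exact hcc.symm
  by_cases hyy : B y y = 0
  · obtain ⟨f, hfP, hf, hyf⟩ := exists_partner hσ hB hP hyP hy0 hyy
    have hfy : B f y = 1 := by rw [hB y f, hyf, map_one]
    obtain ⟨b, hb⟩ := norm_surj hσ (a₀ * (c * c)) (by rw [map_mul, map_mul, ha₀, hcσ])
    obtain ⟨κ, hκ⟩ := tr_surj hσ c hcσ
    have hb0 : b ≠ 0 := by
      rintro rfl
      rw [zero_mul] at hb
      exact (mul_ne_zero ha₀0 hcc) hb.symm
    have hsb0 : σ b ≠ 0 := (map_ne_zero σ).mpr hb0
    refine ⟨(κ / σ b) • y + b • f, P.add_mem (P.smul_mem _ hyP) (P.smul_mem _ hfP), ?_, ?_⟩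
    · simp only [map_add, map_smul, map_smulₛₗ, LinearMap.add_apply, LinearMap.smul_apply,
        smul_eq_mul, hyy, hf, hyf, hfy, mul_zero, mul_one, add_zero, zero_add, map_div₀,
        hσ.invol]
      field_simp
      linear_combination hκ
    · simp only [map_add, map_smul, LinearMap.add_apply, LinearMap.smul_apply, smul_eq_mul, hyy,
        hfy, mul_zero, mul_one, zero_add]
      rw [hb]
      intro h0
      apply ha₀1
      have : (a₀ - 1) * (c * c) = 0 := by linear_combination h0
      rcases mul_eq_zero.mp this with h1 | h1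
      · exact sub_eq_zero.mp h1
      · exact absurd h1 hcc
  · have hQ := nondegOn_orthV hB hP hyP hyy
    have hQ1 : 1 ≤ finrank F (P ⊓ orthV B y : Submodule F V) := by
      have := finrank_le_inf_orthV_add_one (B := B) P y
      omega
    obtain ⟨d0, hd0Q, hd00⟩ := exists_ne_zero_of_finrank_pos hQ1
    obtain ⟨d, hdQ, hd⟩ := exists_aniso hσ hB hQ hd0Q hd00
    obtain ⟨l, hl⟩ := norm_surj hσ (c / B d d) (by rw [map_div₀, hcσ, herm_self hB])
    refine ⟨l • d, P.smul_mem _ hdQ.1, ?_, ?_⟩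
    · rw [self_smul, hl, div_mul_cancel₀ _ hd]
    · rw [map_smul, LinearMap.smul_apply, mem_orthV.mp hdQ.2, smul_zero, zero_mul]
      exact hcc.symm

include hσ hB in
/-- Transitivity in dimension three when the fixed field has more than two elements. -/
theorem t3 [Finite F] [FiniteDimensional F V] {U : Submodule F V} (hU : NondegOn B U)
    (h3 : finrank F U = 3) {a₀ : F} (ha₀ : σ a₀ = a₀) (ha₀0 : a₀ ≠ 0) (ha₀1 : a₀ ≠ 1) :
    TransOn B U := by
  intro v hvU v' hv'U hc heq
  obtain ⟨c, hcdef⟩ : ∃ c, c = B v v := ⟨_, rfl⟩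
  rw [← hcdef] at hc heq
  have hcσ : σ c = c := by rw [hcdef]; exact herm_self hB v
  have hPv := nondegOn_orthV hB hU hvU (by rw [← hcdef]; exact hc)
  have hPv2 : 2 ≤ finrank F (U ⊓ orthV B v : Submodule F V) := by
    have := finrank_le_inf_orthV_add_one (B := B) U v
    omega
  obtain ⟨α, hα⟩ : ∃ α, α = B v' v / c := ⟨_, rfl⟩
  obtain ⟨y, hy⟩ : ∃ y, y = v' - α • v := ⟨_, rfl⟩
  have hyv : B y v = 0 := by
    rw [hy, map_sub, map_smul, LinearMap.sub_apply, LinearMap.smul_apply, smul_eq_mul, ← hcdef,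
      hα, div_mul_cancel₀ _ hc, sub_self]
  have hyP : y ∈ U ⊓ orthV B v :=
    ⟨by rw [hy]; exact U.sub_mem hv'U (U.smul_mem _ hvU), mem_orthV.mpr hyv⟩
  obtain ⟨w, hwP, hww, hwy⟩ := exists_mid hσ hB hPv hPv2 ha₀ ha₀0 ha₀1 hcσ hc hyP
  have hwv : B w v = 0 := mem_orthV.mp hwP.2
  have hvw : B v w = 0 := herm_eq_zero hB hwv
  have hwv' : B w v' = B w y := by
    have : v' = α • v + y := by rw [hy]; abel
    rw [this, map_add, map_smulₛₗ, hwv, smul_zero, zero_add]
  -- first plane
  have hD1 : B v v * B w w - B v w * B w v ≠ 0 := by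
    rw [← hcdef, hww, hvw, zero_mul, sub_zero]
    exact mul_ne_zero hc hc
  obtain ⟨hP1, hP1d⟩ := plane_nondeg hB hD1
  have hP1U : Submodule.span F {v, w} ≤ U := by
    rw [Submodule.span_le]
    rintro z (rfl | rfl)
    · exact hvU
    · exact hwP.1
  obtain ⟨t1, ht1, e1⟩ := t2 hσ hB hP1U hP1 hP1d (v := v) (v' := w)
    (Submodule.subset_span (by simp)) (Submodule.subset_span (by simp))
    (by rw [← hcdef]; exact hc) (by rw [hww, hcdef])
  -- second plane
  have hD2 : B w w * B v' v' - B w v' * B v' w ≠ 0 := by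
    rw [hww, heq, hB w v', hwv']
    intro h0
    apply hwy
    linear_combination -h0
  obtain ⟨hP2, hP2d⟩ := plane_nondeg hB hD2
  have hP2U : Submodule.span F {w, v'} ≤ U := by
    rw [Submodule.span_le]
    rintro z (rfl | rfl)
    · exact hwP.1
    · exact hv'U
  obtain ⟨t2', ht2, e2⟩ := t2 hσ hB hP2U hP2 hP2d (v := w) (v' := v')
    (Submodule.subset_span (by simp)) (Submodule.subset_span (by simp))
    (by rw [hww]; exact hc) (by rw [hww, heq])
  exact ⟨t2' * t1, mul_mem ht2 ht1, by rw [LinearEquiv.mul_apply, e1, e2]⟩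

include hσ hB in
/-- The growth lemma. -/
theorem grow {H : Subgroup (V ≃ₗ[F] V)} {U : Submodule F V} (hle : tvGroup B U ≤ H)
    (hT : TransOn B U) {u₀ t : V} (hu₀ : u₀ ∈ U) (ht : ∀ x ∈ U, B x t = 0) (htt : B t t ≠ 0)
    (hiso : B (u₀ + t) (u₀ + t) = 0) (hF : Full B H (u₀ + t)) :
    tvGroup B (U ⊔ Submodule.span F {t}) ≤ H := by
  apply tvGroup_le
  intro a haU ha c hc
  obtain ⟨u, huU, w, hw, rfl⟩ := Submodule.mem_sup.mp haU
  obtain ⟨μ, rfl⟩ := Submodule.mem_span_singleton.mp hw
  have htu : ∀ x ∈ U, B t x = 0 := fun x hx => herm_eq_zero hB (ht x hx)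
  by_cases hμ : μ = 0
  · subst hμ
    simp only [zero_smul, add_zero] at ha ⊢
    exact hle (utv_mem_tvGroup huU ha hc)
  · have hσμ : σ μ ≠ 0 := (map_ne_zero σ).mpr hμ
    have n0 : B u₀ u₀ = -(B t t) := by
      have h1 := hiso
      simp only [map_add, LinearMap.add_apply, ht u₀ hu₀, htu u₀ hu₀, add_zero, zero_add] at h1
      linear_combination h1
    have n1 : B (μ⁻¹ • u) (μ⁻¹ • u) = -(B t t) := by
      have h1 := ha
      simp only [map_add, map_smul, map_smulₛₗ, LinearMap.add_apply, LinearMap.smul_apply,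
        smul_eq_mul, ht u huU, htu u huU, mul_zero, add_zero, zero_add] at h1
      rw [self_smul, map_inv₀]
      field_simp
      linear_combination h1
    obtain ⟨g, hg, hgu⟩ := hT u₀ hu₀ (μ⁻¹ • u) (U.smul_mem _ huU)
      (by rw [n0]; exact neg_ne_zero.mpr htt) (by rw [n1, n0])
    have hgt : g t = t := tvGroup_fix (fun a ha => htu a ha) hg
    have hgU : g ∈ uG B := tvGroup_le_uG hB U hg
    have hF' : Full B H (μ⁻¹ • u + t) := by
      have := full_map (hle hg) hgU hF
      rwa [map_add, hgu, hgt] at this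
    have e1 : u + μ • t = μ • (μ⁻¹ • u + t) := by
      rw [smul_add, smul_smul, mul_inv_cancel₀ hμ, one_smul]
    rw [e1]
    exact full_smul hσ hF' μ c hc

include hσ hB in
/-- If all transvections centred at the two vectors of a hyperbolic pair lie in `H`, so does the
transvection group of their span. -/
theorem pair_le {H : Subgroup (V ≃ₗ[F] V)} {e f : V} (h : HypPair B e f) (he : Full B H e)
    (hf : Full B H f) : tvGroup B (Submodule.span F {e, f}) ≤ H := by
  apply tvGroup_le
  intro a haU ha c hc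
  obtain ⟨x, y, rfl⟩ := Submodule.mem_span_pair.mp haU
  have hN : x * σ y + y * σ x = 0 := by
    have h1 := ha
    simp only [map_add, map_smul, map_smulₛₗ, LinearMap.add_apply, LinearMap.smul_apply,
      smul_eq_mul, h.ee, h.ff, h.ef, h.fe, mul_zero, mul_one, add_zero, zero_add] at h1
    linear_combination h1
  by_cases hx : x = 0
  · subst hx
    rw [zero_smul, zero_add]
    exact full_smul hσ hf y c hc
  · have hsx : σ x ≠ 0 := (map_ne_zero σ).mpr hx
    have hs : σ (y / x) = -(y / x) := by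
      rw [map_div₀]
      field_simp
      linear_combination hN
    have e1 : x • e + y • f = x • (utv B f (y / x) e) := by
      rw [utv_f_e h, smul_add, smul_smul, mul_div_cancel₀ _ hx]
    rw [e1]
    exact full_smul hσ (full_map (hf _ hs) (utv_mem_uG hB f hs) he) x c hc

end

end Cfsg.Agent.Lib.Helper93_UTrans
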