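import Mathlib
import Cfsg.Agent.Lib.Helper93_UTrans

set_option autoImplicit false

/-!
The Heisenberg argument: a subgroup `H` of the unitary group containing a torus element `a`
(scaling the isotropic vector `e` by a generator of the multiplicative group and fixing the unit
vector `z`) and a conjugate `u a' u⁻¹` of a second torus element by the Eichler element
`u = eich e z β` contains `u` and all transvections centred at `e`.
-/

namespace Cfsg.Agent.Lib.Helper93_UHeis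

open Module Cfsg.Agent.Lib.Helper94_Herm Cfsg.Agent.Lib.Helper94_HermTrans
  Cfsg.Agent.Lib.Helper94_HermEich Cfsg.Agent.Lib.Helper94_HermPara
  Cfsg.Agent.Lib.Helper13_SUGen Cfsg.Agent.Lib.Helper93_UTrans

variable {F V : Type*} [Field F] [AddCommGroup V] [Module F V]
variable {σ : F →+* F} {B : V →ₗ[F] V →ₛₗ[σ] F}

lemma eich_smul_gen (hσ : Invol σ) {w y : V} (hw : B w w = 0) (hyw : B y w = 0)
    (hwy : B w y = 0) (μ c : F) :
    eich B (μ • w) y c = eich B w (σ μ • y) (μ * σ μ * c) := by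
  have h1 : B (μ • w) (μ • w) = 0 := by rw [self_smul, hw, mul_zero]
  have h2 : B y (μ • w) = 0 := by rw [map_smulₛₗ, hyw, smul_zero]
  have h3 : B (μ • w) y = 0 := by rw [map_smul, LinearMap.smul_apply, hwy, smul_zero]
  have h4 : B (σ μ • y) w = 0 := by rw [map_smul, LinearMap.smul_apply, hyw, smul_zero]
  have h5 : B w (σ μ • y) = 0 := by rw [map_smulₛₗ, hwy, smul_zero]
  ext x
  rw [eich_apply B h1 h2 h3, eich_apply B hw h4 h5]
  simp only [map_smulₛₗ, smul_eq_mul, hσ.invol]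
  module

lemma eich_zero (w : V) : eich B w 0 0 = 1 := by
  by_cases hw : B w w = 0
  · ext x
    rw [eich_apply B hw (by simp) (by simp)]
    simp
  · unfold eich
    rw [dif_neg (fun h => hw h.1)]

/-- `g` is an Eichler element `eich e (γ • z) c`. -/
def isE (B : V →ₗ[F] V →ₛₗ[σ] F) (e z : V) (g : V ≃ₗ[F] V) (γ : F) : Prop :=
  ∃ c, c + σ c = -(γ * σ γ) ∧ g = eich B e (γ • z) c

section

variable (hσ : Invol σ) (hB : IsHerm B) {e z : V} (hee : B e e = 0) (hze : B z e = 0)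
  (hzz : B z z = 1)

include hB hze in
lemma aux_ez : B e z = 0 := herm_eq_zero hB hze

include hB hze in
lemma aux_orth (γ : F) : B (γ • z) e = 0 ∧ B e (γ • z) = 0 := by
  constructor
  · rw [map_smul, LinearMap.smul_apply, hze, smul_zero]
  · rw [map_smulₛₗ, aux_ez hB hze, smul_zero]

include hσ hB hee hze hzz in
lemma isE_mul {g g' : V ≃ₗ[F] V} {γ γ' : F} (h : isE B e z g γ) (h' : isE B e z g' γ') :
    isE B e z (g * g') (γ + γ') := by
  obtain ⟨c, hc, rfl⟩ := h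
  obtain ⟨c', hc', rfl⟩ := h'
  refine ⟨c + c' - γ' * σ γ, ?_, ?_⟩
  · simp only [map_add, map_sub, map_mul, hσ.invol]
    linear_combination hc + hc'
  · rw [eich_mul hee (aux_orth hB hze γ).1 (aux_orth hB hze γ).2 (aux_orth hB hze γ').1
      (aux_orth hB hze γ').2, ← add_smul]
    congr 1
    simp only [map_smul, map_smulₛₗ, LinearMap.smul_apply, smul_eq_mul, hzz, mul_one]
    ring

include hσ hB hee hze hzz in
lemma isE_inv {g : V ≃ₗ[F] V} {γ : F} (h : isE B e z g γ) : isE B e z g⁻¹ (-γ) := by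
  obtain ⟨c, hc, rfl⟩ := h
  refine ⟨σ c, ?_, ?_⟩
  · rw [hσ.invol, map_neg]
    linear_combination hc
  · symm
    apply eq_inv_of_mul_eq_one_right
    rw [eich_mul hee (aux_orth hB hze γ).1 (aux_orth hB hze γ).2 (aux_orth hB hze (-γ)).1
      (aux_orth hB hze (-γ)).2, ← add_smul, add_neg_cancel, zero_smul]
    have : c + σ c - B (-γ • z) (γ • z) = 0 := by
      simp only [map_smul, map_smulₛₗ, LinearMap.smul_apply, smul_eq_mul, hzz, mul_one]
      linear_combination hc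
    rw [this, eich_zero]

include hσ hB hee hze hzz in
lemma isE_conj {t : V ≃ₗ[F] V} (ht : t ∈ uG B) {μ δ : F} (hte : t e = μ • e) (htz : t z = δ • z)
    {g : V ≃ₗ[F] V} {γ : F} (h : isE B e z g γ) : isE B e z (t * g * t⁻¹) (σ μ * δ * γ) := by
  obtain ⟨c, hc, rfl⟩ := h
  have hδ : δ * σ δ = 1 := by
    have := ht z z
    rw [htz, self_smul, hzz, mul_one] at this
    exact this
  refine ⟨μ * σ μ * c, ?_, ?_⟩
  · simp only [map_mul, hσ.invol]
    linear_combination (μ * σ μ) * hc + (μ * σ μ * γ * σ γ) * hδ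
  · rw [conj_eich ht, hte, map_smul, htz, smul_smul,
      eich_smul_gen hσ hee (aux_orth hB hze (γ * δ)).1 (aux_orth hB hze (γ * δ)).2, smul_smul]
    congr 2
    ring

include hB hzz in
lemma isE_mem_uG {g : V ≃ₗ[F] V} {γ : F} (h : isE B e z g γ) : g ∈ uG B := by
  obtain ⟨c, hc, rfl⟩ := h
  apply eich_mem_uG hB
  rw [self_smul, hzz, mul_one]
  exact hc

include hσ hB hee hze hzz in
/-- The Heisenberg argument. -/
theorem heis {H : Subgroup (V ≃ₗ[F] V)} {a a' u : V ≃ₗ[F] V} {lam δ' β : F}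
    (haU : a ∈ uG B) (ha'U : a' ∈ uG B) (hae : a e = lam • e) (haz : a z = z)
    (ha'e : a' e = (σ lam)⁻¹ • e) (ha'z : a' z = δ' • z) (hcomm : a * a' = a' * a)
    (hβ : β + σ β = -1) (hu : u = eich B e z β) (haH : a ∈ H) (hhH : u * a' * u⁻¹ ∈ H)
    (hgen : ∀ x : F, x ≠ 0 → ∃ n : ℕ, x = (σ lam) ^ n) (hν' : lam⁻¹ * δ' ≠ 1)
    (hlam1 : σ lam ≠ 1) : u ∈ H ∧ Full B H e := by
  have hEu : isE B e z u 1 := ⟨β, by rw [map_one, mul_one]; exact hβ, by rw [hu, one_smul]⟩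
  have hE2 : isE B e z (a' * u * a'⁻¹) (lam⁻¹ * δ') := by
    have := isE_conj hσ hB hee hze hzz ha'U ha'e ha'z hEu
    rwa [map_inv₀, hσ.invol, mul_one] at this
  have hq1 : isE B e z (u * (a' * u * a'⁻¹)⁻¹) (1 + -(lam⁻¹ * δ')) :=
    isE_mul hσ hB hee hze hzz hEu (isE_inv hσ hB hee hze hzz hE2)
  obtain ⟨q1, hq1def⟩ : ∃ q1, q1 = u * (a' * u * a'⁻¹)⁻¹ := ⟨_, rfl⟩
  rw [← hq1def] at hq1
  have hh : u * a' * u⁻¹ = q1 * a' := by rw [hq1def]; group
  have hcomm' : a' * a⁻¹ * a'⁻¹ = a⁻¹ := by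
    have : a' * a⁻¹ = a⁻¹ * a' := by
      have h1 : a⁻¹ * (a * a') * a⁻¹ = a⁻¹ * (a' * a) * a⁻¹ := by rw [hcomm]
      have h2 : a⁻¹ * (a * a') * a⁻¹ = a' * a⁻¹ := by group
      have h3 : a⁻¹ * (a' * a) * a⁻¹ = a⁻¹ * a' := by group
      rw [← h2, h1, h3]
    rw [this]; group
  have hcH : a * (q1 * a') * a⁻¹ * (q1 * a')⁻¹ ∈ H := by
    rw [← hh]
    exact H.mul_mem (H.mul_mem (H.mul_mem haH hhH) (H.inv_mem haH)) (H.inv_mem hhH)
  have hceq : a * (q1 * a') * a⁻¹ * (q1 * a')⁻¹ = (a * q1 * a⁻¹) * q1⁻¹ := by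
    have : a * (q1 * a') * a⁻¹ * (q1 * a')⁻¹ = a * q1 * (a' * a⁻¹ * a'⁻¹) * q1⁻¹ := by group
    rw [this, hcomm']
  have haz' : a z = (1 : F) • z := by rw [haz, one_smul]
  have hq1a : isE B e z (a * q1 * a⁻¹) (σ lam * 1 * (1 + -(lam⁻¹ * δ'))) :=
    isE_conj hσ hB hee hze hzz haU hae haz' hq1
  have hγ1 : isE B e z ((a * q1 * a⁻¹) * q1⁻¹)
      (σ lam * 1 * (1 + -(lam⁻¹ * δ')) + -(1 + -(lam⁻¹ * δ'))) :=
    isE_mul hσ hB hee hze hzz hq1a (isE_inv hσ hB hee hze hzz hq1)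
  obtain ⟨γ1, hγ1def⟩ : ∃ γ1, γ1 = σ lam * 1 * (1 + -(lam⁻¹ * δ')) + -(1 + -(lam⁻¹ * δ')) :=
    ⟨_, rfl⟩
  rw [← hγ1def, ← hceq] at hγ1
  have hγ10 : γ1 ≠ 0 := by
    have : γ1 = (σ lam - 1) * (1 - lam⁻¹ * δ') := by rw [hγ1def]; ring
    rw [this]
    apply mul_ne_zero
    · exact sub_ne_zero.mpr hlam1
    · exact sub_ne_zero.mpr (Ne.symm hν')
  -- the set Γ
  have hΓmul : ∀ γ, (∃ g ∈ H, isE B e z g γ) → ∃ g ∈ H, isE B e z g (σ lam * γ) := by
    rintro γ ⟨g, hgH, hg⟩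
    refine ⟨a * g * a⁻¹, H.mul_mem (H.mul_mem haH hgH) (H.inv_mem haH), ?_⟩
    have := isE_conj hσ hB hee hze hzz haU hae haz' hg
    rwa [mul_one] at this
  have hΓpow : ∀ n : ℕ, ∃ g ∈ H, isE B e z g ((σ lam) ^ n * γ1) := by
    intro n
    induction n with
    | zero => exact ⟨_, hcH, by rw [pow_zero, one_mul]; exact hγ1⟩
    | succ n ih =>
      have := hΓmul _ ih
      rwa [← mul_assoc, ← pow_succ'] at this
  have hΓ : ∀ x : F, x ≠ 0 → ∃ g ∈ H, isE B e z g x := by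
    intro x hx
    obtain ⟨n, hn⟩ := hgen (x / γ1) (div_ne_zero hx hγ10)
    have := hΓpow n
    rwa [← hn, div_mul_cancel₀ _ hγ10] at this
  -- transvections
  obtain ⟨g2, hg2H, c2, hc2, hg2⟩ := hΓ 1 one_ne_zero
  have hfull : Full B H e := by
    intro s hs
    by_cases hs0 : s = 0
    · have : utv B e s = 1 := by
        ext x
        rw [utv_apply B hee, hs0, zero_mul, zero_smul, add_zero]
        rfl
      rw [this]
      exact H.one_mem
    obtain ⟨t, ht⟩ := tr_surj hσ 1 (map_one σ)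
    have ht0 : t ≠ 0 := by
      rintro rfl
      rw [map_zero, add_zero] at ht
      exact zero_ne_one ht
    obtain ⟨g1, hg1H, c1, hc1, hg1⟩ := hΓ (s * t) (mul_ne_zero hs0 ht0)
    have e1 : g1 * g2 = eich B e ((s * t + 1) • z) (c1 + c2 - σ (s * t)) := by
      rw [hg1, hg2, eich_mul hee (aux_orth hB hze _).1 (aux_orth hB hze _).2
        (aux_orth hB hze _).1 (aux_orth hB hze _).2, ← add_smul]
      congr 1
      simp only [map_smul, map_smulₛₗ, LinearMap.smul_apply, smul_eq_mul, hzz, mul_one, one_mul]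
    have e2 : g2 * g1 = eich B e ((s * t + 1) • z) (c2 + c1 - s * t) := by
      rw [hg1, hg2, eich_mul hee (aux_orth hB hze _).1 (aux_orth hB hze _).2
        (aux_orth hB hze _).1 (aux_orth hB hze _).2, ← add_smul, add_comm (1 : F)]
      congr 1
      simp only [map_smul, map_smulₛₗ, LinearMap.smul_apply, smul_eq_mul, hzz, mul_one, map_one]
      ring
    have e3 : g2 * g1 * utv B e s = g1 * g2 := by
      rw [e1, e2, eich_mul_utv hee (aux_orth hB hze _).1 (aux_orth hB hze _).2]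
      congr 1
      rw [map_mul, hs]
      linear_combination (-s) * ht
    have e4 : utv B e s = (g2 * g1)⁻¹ * (g1 * g2) := by rw [← e3]; group
    rw [e4]
    exact H.mul_mem (H.inv_mem (H.mul_mem hg2H hg1H)) (H.mul_mem hg1H hg2H)
  refine ⟨?_, hfull⟩
  have hsk : σ (β - c2) = -(β - c2) := by
    rw [map_sub]
    rw [map_one, mul_one] at hc2
    linear_combination hβ - hc2
  have e5 : u = g2 * utv B e (β - c2) := by
    rw [hg2, one_smul, eich_mul_utv hee hze (aux_ez hB hze), hu]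
    congr 1
    ring
  rw [e5]
  exact H.mul_mem hg2H (hfull _ hsk)

end

end Cfsg.Agent.Lib.Helper93_UHeis
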