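import Mathlib
import Cfsg.Agent.Lib.Helper93_UTrans

set_option autoImplicit false

/-!
The step from dimension three to dimension four over the field with four elements: if the fixed
field of the involution is `{0, 1}`, a subgroup containing all transvections centred at the
isotropic vectors of `span {y₀, y₁, y₂}` and of `span {y₀, y₁, y₃}` (for orthonormal `y₀ … y₃`)
and at one isotropic vector with four nonzero coordinates contains all transvections centred at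
isotropic vectors of `span {y₀, y₁, y₂, y₃}`.
-/

namespace Cfsg.Agent.Lib.Helper93_UQ2

open Module Cfsg.Agent.Lib.Helper94_Herm Cfsg.Agent.Lib.Helper94_HermTrans
  Cfsg.Agent.Lib.Helper93_UTrans

variable {F V : Type*} [Field F] [AddCommGroup V] [Module F V]
variable {σ : F →+* F} {B : V →ₗ[F] V →ₛₗ[σ] F}

section Field

variable (hq2 : ∀ a : F, σ a = a → a = 0 ∨ a = 1)

include hq2 in
lemma two_eq_zero : (2 : F) = 0 := by
  rcases hq2 (-1) (by rw [map_neg, map_one]) with h | h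
  · exact absurd (neg_eq_zero.mp h) one_ne_zero
  · linear_combination -h

include hq2 in
lemma norm_eq_one (hσ : Invol σ) {x : F} (hx : x ≠ 0) : x * σ x = 1 := by
  rcases hq2 (x * σ x) (by rw [map_mul, hσ.invol, mul_comm]) with h | h
  · exact absurd h (mul_ne_zero hx ((map_ne_zero σ).mpr hx))
  · exact h

include hq2 in
lemma conj_eq_sq (hσ : Invol σ) {x : F} (hx : x ≠ 0) : σ x = x * x := by
  have h2 := two_eq_zero hq2
  have hn := norm_eq_one hq2 hσ hx
  rcases hq2 (x + σ x) (by rw [map_add, hσ.invol, add_comm]) with h | h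
  · have hfix : σ x = x := by linear_combination h - x * h2
    rcases hq2 x hfix with h0 | h1
    · exact absurd h0 hx
    · rw [h1, map_one, mul_one]
  · linear_combination h - hn - x * h2 + x * σ x * h2 - x * h + σ x * h2 - σ x * h2

include hq2 in
lemma cube_eq_one (hσ : Invol σ) {x : F} (hx : x ≠ 0) : x * x * x = 1 := by
  rw [mul_assoc, ← conj_eq_sq hq2 hσ hx]
  exact norm_eq_one hq2 hσ hx

include hq2 in
lemma conj_eq_inv (hσ : Invol σ) {x : F} (hx : x ≠ 0) : σ x = x⁻¹ := by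
  have := norm_eq_one hq2 hσ hx
  field_simp
  linear_combination this

end Field

section Move

variable (hσ : Invol σ) (hB : IsHerm B) (hq2 : ∀ a : F, σ a = a → a = 0 ∨ a = 1)

include hσ hq2 in
lemma one_skew : σ (1 : F) = -1 := by
  rw [map_one]
  linear_combination two_eq_zero hq2

include hσ hq2 in
lemma pair_iso {p r : V} (hpp : B p p = 1) (hrr : B r r = 1) (hpr : B p r = 0) (hrp : B r p = 0)
    {κ : F} (hκ : κ ≠ 0) : B (p + κ • r) (p + κ • r) = 0 := by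
  simp only [map_add, map_smul, map_smulₛₗ, LinearMap.add_apply, LinearMap.smul_apply,
    smul_eq_mul, hpp, hrr, hpr, hrp, mul_zero, mul_one, add_zero, zero_add]
  linear_combination norm_eq_one hq2 hσ hκ + two_eq_zero hq2

/-- The product of the two transvections centred at `p + κ r` and `p + r`. -/
noncomputable def dm (B : V →ₗ[F] V →ₛₗ[σ] F) (p r : V) (κ : F) : V ≃ₗ[F] V :=
  utv B (p + κ • r) 1 * utv B (p + (1 : F) • r) 1

include hσ hq2 in
lemma dm_left {p r : V} (hpp : B p p = 1) (hrr : B r r = 1) (hpr : B p r = 0) (hrp : B r p = 0)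
    {κ : F} (hκ : κ ≠ 0) : dm B p r κ p = σ κ • p := by
  have h2 := two_eq_zero hq2
  have i1 := pair_iso hσ hq2 hpp hrr hpr hrp (κ := 1) one_ne_zero
  have iκ := pair_iso hσ hq2 hpp hrr hpr hrp hκ
  have e1 : utv B (p + (1 : F) • r) 1 p = r := by
    rw [utv_apply B i1]
    simp only [map_add, map_smulₛₗ, hpp, hpr, smul_eq_mul, mul_zero, add_zero, mul_one, one_smul]
    have : p + (p + r) = (2 : F) • p + r := by module
    rw [this, h2, zero_smul, zero_add]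
  have e2 : utv B (p + κ • r) 1 r = σ κ • p := by
    rw [utv_apply B iκ]
    simp only [map_add, map_smulₛₗ, hrp, hrr, smul_eq_mul, mul_one, zero_add, one_mul]
    have : r + σ κ • (p + κ • r) = σ κ • p + (1 + κ * σ κ) • r := by module
    rw [this, norm_eq_one hq2 hσ hκ]
    have : (1 + 1 : F) = 2 := by norm_num
    rw [this, h2, zero_smul, add_zero]
  rw [dm, LinearEquiv.mul_apply, e1, e2]

include hσ hq2 in
lemma dm_right {p r : V} (hpp : B p p = 1) (hrr : B r r = 1) (hpr : B p r = 0) (hrp : B r p = 0)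
    {κ : F} (hκ : κ ≠ 0) : dm B p r κ r = κ • r := by
  have h2 := two_eq_zero hq2
  have i1 := pair_iso hσ hq2 hpp hrr hpr hrp (κ := 1) one_ne_zero
  have iκ := pair_iso hσ hq2 hpp hrr hpr hrp hκ
  have e1 : utv B (p + (1 : F) • r) 1 r = p := by
    rw [utv_apply B i1]
    simp only [map_add, map_smulₛₗ, hrp, hrr, smul_eq_mul, mul_one, zero_add, one_mul, map_one,
      one_smul]
    have : r + (p + r) = p + (2 : F) • r := by module
    rw [this, h2, zero_smul, add_zero]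
  have e2 : utv B (p + κ • r) 1 p = κ • r := by
    rw [utv_apply B iκ]
    simp only [map_add, map_smulₛₗ, hpp, hpr, smul_eq_mul, mul_zero, add_zero, mul_one, one_smul]
    have : p + (p + κ • r) = (2 : F) • p + κ • r := by module
    rw [this, h2, zero_smul, zero_add]
  rw [dm, LinearEquiv.mul_apply, e1, e2]

lemma dm_fix {p r x : V} (hxp : B x p = 0) (hxr : B x r = 0) (κ : F) : dm B p r κ x = x := by
  have h1 : B x (p + (1 : F) • r) = 0 := by rw [map_add, map_smulₛₗ, hxp, hxr, smul_zero, add_zero]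
  have h2 : B x (p + κ • r) = 0 := by rw [map_add, map_smulₛₗ, hxp, hxr, smul_zero, add_zero]
  rw [dm, LinearEquiv.mul_apply, utv_fix B _ _ h1, utv_fix B _ _ h2]

include hσ hB hq2 in
lemma dm_mem_uG (p r : V) (κ : F) : dm B p r κ ∈ uG B :=
  (uG B).mul_mem (utv_mem_uG hB _ (one_skew hσ hq2)) (utv_mem_uG hB _ (one_skew hσ hq2))

end Move

/-- Four orthonormal vectors. -/
structure ON4 (B : V →ₗ[F] V →ₛₗ[σ] F) (y0 y1 y2 y3 : V) : Prop where
  n0 : B y0 y0 = 1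
  n1 : B y1 y1 = 1
  n2 : B y2 y2 = 1
  n3 : B y3 y3 = 1
  o01 : B y0 y1 = 0
  o02 : B y0 y2 = 0
  o03 : B y0 y3 = 0
  o10 : B y1 y0 = 0
  o12 : B y1 y2 = 0
  o13 : B y1 y3 = 0
  o20 : B y2 y0 = 0
  o21 : B y2 y1 = 0
  o23 : B y2 y3 = 0
  o30 : B y3 y0 = 0
  o31 : B y3 y1 = 0
  o32 : B y3 y2 = 0

section Main

variable (hσ : Invol σ) (hB : IsHerm B) (hq2 : ∀ a : F, σ a = a → a = 0 ∨ a = 1)

lemma norm4 {y0 y1 y2 y3 : V} (h : ON4 B y0 y1 y2 y3) (a b c d : F) :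
    B (a • y0 + b • y1 + c • y2 + d • y3) (a • y0 + b • y1 + c • y2 + d • y3) =
      a * σ a + b * σ b + c * σ c + d * σ d := by
  simp only [map_add, map_smul, map_smulₛₗ, LinearMap.add_apply, LinearMap.smul_apply,
    smul_eq_mul, h.n0, h.n1, h.n2, h.n3, h.o01, h.o02, h.o03, h.o10, h.o12, h.o13, h.o20, h.o21,
    h.o23, h.o30, h.o31, h.o32, mul_zero, mul_one, add_zero, zero_add]
  ring

include hσ hB hq2 in
/-- All isotropic vectors with four nonzero coordinates are conjugate up to scalars under the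
group generated by the transvections centred at the `yᵢ + κ y₃`. -/
theorem q2_four {H : Subgroup (V ≃ₗ[F] V)} {y0 y1 y2 y3 : V} (h : ON4 B y0 y1 y2 y3)
    (h03 : ∀ κ : F, κ ≠ 0 → utv B (y0 + κ • y3) 1 ∈ H)
    (h13 : ∀ κ : F, κ ≠ 0 → utv B (y1 + κ • y3) 1 ∈ H)
    (h23 : ∀ κ : F, κ ≠ 0 → utv B (y2 + κ • y3) 1 ∈ H)
    {μ0 μ1 μ2 μ3 : F} (hμ0 : μ0 ≠ 0) (hμ1 : μ1 ≠ 0) (hμ2 : μ2 ≠ 0) (hμ3 : μ3 ≠ 0)
    (hv : Full B H (μ0 • y0 + μ1 • y1 + μ2 • y2 + μ3 • y3))
    {ν0 ν1 ν2 ν3 : F} (hν0 : ν0 ≠ 0) (hν1 : ν1 ≠ 0) (hν2 : ν2 ≠ 0) (hν3 : ν3 ≠ 0) :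
    Full B H (ν0 • y0 + ν1 • y1 + ν2 • y2 + ν3 • y3) := by
  obtain ⟨ρ, hρdef⟩ : ∃ ρ, ρ = (μ0 * μ1 * μ2 * μ3) / (ν0 * ν1 * ν2 * ν3) := ⟨_, rfl⟩
  have hρ0 : ρ ≠ 0 := by
    rw [hρdef]
    exact div_ne_zero (mul_ne_zero (mul_ne_zero (mul_ne_zero hμ0 hμ1) hμ2) hμ3)
      (mul_ne_zero (mul_ne_zero (mul_ne_zero hν0 hν1) hν2) hν3)
  have hρN : ρ * (ν0 * ν1 * ν2 * ν3) = μ0 * μ1 * μ2 * μ3 := by
    rw [hρdef]
    field_simp
  have hρ3 := cube_eq_one hq2 hσ hρ0
  obtain ⟨κ0, hκ0def⟩ : ∃ κ0, κ0 = μ0 / (ρ * ν0) := ⟨_, rfl⟩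
  obtain ⟨κ1, hκ1def⟩ : ∃ κ1, κ1 = μ1 / (ρ * ν1) := ⟨_, rfl⟩
  obtain ⟨κ2, hκ2def⟩ : ∃ κ2, κ2 = μ2 / (ρ * ν2) := ⟨_, rfl⟩
  have hκ0 : κ0 ≠ 0 := by rw [hκ0def]; exact div_ne_zero hμ0 (mul_ne_zero hρ0 hν0)
  have hκ1 : κ1 ≠ 0 := by rw [hκ1def]; exact div_ne_zero hμ1 (mul_ne_zero hρ0 hν1)
  have hκ2 : κ2 ≠ 0 := by rw [hκ2def]; exact div_ne_zero hμ2 (mul_ne_zero hρ0 hν2)
  have s0 : μ0 * σ κ0 = ρ * ν0 := by
    rw [conj_eq_inv hq2 hσ hκ0, hκ0def]; field_simp
  have s1 : μ1 * σ κ1 = ρ * ν1 := by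
    rw [conj_eq_inv hq2 hσ hκ1, hκ1def]; field_simp
  have s2 : μ2 * σ κ2 = ρ * ν2 := by
    rw [conj_eq_inv hq2 hσ hκ2, hκ2def]; field_simp
  have s3 : μ3 * (κ2 * (κ1 * κ0)) = ρ * ν3 := by
    rw [hκ0def, hκ1def, hκ2def]
    field_simp
    linear_combination (-(ρ * ρ * ρ)) * hρN - (μ0 * μ1 * μ2 * μ3) * hρ3
  obtain ⟨g, hgdef⟩ : ∃ g, g = dm B y0 y3 κ0 * dm B y1 y3 κ1 * dm B y2 y3 κ2 := ⟨_, rfl⟩
  have hdmH : ∀ (p : V) (κ : F), (∀ κ : F, κ ≠ 0 → utv B (p + κ • y3) 1 ∈ H) → κ ≠ 0 →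
      dm B p y3 κ ∈ H := fun p κ hp hκ => H.mul_mem (hp κ hκ) (hp 1 one_ne_zero)
  have hgH : g ∈ H := by
    rw [hgdef]
    exact H.mul_mem (H.mul_mem (hdmH y0 κ0 h03 hκ0) (hdmH y1 κ1 h13 hκ1)) (hdmH y2 κ2 h23 hκ2)
  have hgU : g ∈ uG B := by
    rw [hgdef]
    exact (uG B).mul_mem ((uG B).mul_mem (dm_mem_uG hσ hB hq2 _ _ _) (dm_mem_uG hσ hB hq2 _ _ _))
      (dm_mem_uG hσ hB hq2 _ _ _)
  have g0 : g y0 = σ κ0 • y0 := by
    rw [hgdef, LinearEquiv.mul_apply, LinearEquiv.mul_apply, dm_fix h.o02 h.o03,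
      dm_fix h.o01 h.o03, dm_left hσ hq2 h.n0 h.n3 h.o03 h.o30 hκ0]
  have g1 : g y1 = σ κ1 • y1 := by
    rw [hgdef, LinearEquiv.mul_apply, LinearEquiv.mul_apply, dm_fix h.o12 h.o13,
      dm_left hσ hq2 h.n1 h.n3 h.o13 h.o31 hκ1, map_smul, dm_fix h.o10 h.o13]
  have g2 : g y2 = σ κ2 • y2 := by
    rw [hgdef, LinearEquiv.mul_apply, LinearEquiv.mul_apply,
      dm_left hσ hq2 h.n2 h.n3 h.o23 h.o32 hκ2, map_smul, dm_fix h.o21 h.o23, map_smul,
      dm_fix h.o20 h.o23]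
  have g3 : g y3 = (κ2 * (κ1 * κ0)) • y3 := by
    rw [hgdef, LinearEquiv.mul_apply, LinearEquiv.mul_apply,
      dm_right hσ hq2 h.n2 h.n3 h.o23 h.o32 hκ2, map_smul,
      dm_right hσ hq2 h.n1 h.n3 h.o13 h.o31 hκ1, map_smul, map_smul,
      dm_right hσ hq2 h.n0 h.n3 h.o03 h.o30 hκ0, smul_smul, smul_smul, mul_assoc]
  have hgv : g (μ0 • y0 + μ1 • y1 + μ2 • y2 + μ3 • y3) =
      ρ • (ν0 • y0 + ν1 • y1 + ν2 • y2 + ν3 • y3) := by
    simp only [map_add, map_smul, g0, g1, g2, g3, smul_smul, smul_add, s0, s1, s2, s3]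
  have hF1 := full_map hgH hgU hv
  rw [hgv] at hF1
  have := full_smul hσ hF1 ρ⁻¹
  rwa [smul_smul, inv_mul_cancel₀ hρ0, one_smul] at this

include hσ hB hq2 in
/-- The step from dimension three to dimension four over the field with four elements. -/
theorem q2_all {H : Subgroup (V ≃ₗ[F] V)} {y0 y1 y2 y3 : V} (h : ON4 B y0 y1 y2 y3)
    (hA : ∀ a b c : F, B (a • y0 + b • y1 + c • y2) (a • y0 + b • y1 + c • y2) = 0 →
      Full B H (a • y0 + b • y1 + c • y2))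
    (hA' : ∀ a b d : F, B (a • y0 + b • y1 + d • y3) (a • y0 + b • y1 + d • y3) = 0 →
      Full B H (a • y0 + b • y1 + d • y3))
    {μ0 μ1 μ2 μ3 : F} (hμ0 : μ0 ≠ 0) (hμ1 : μ1 ≠ 0) (hμ2 : μ2 ≠ 0) (hμ3 : μ3 ≠ 0)
    (hv : Full B H (μ0 • y0 + μ1 • y1 + μ2 • y2 + μ3 • y3)) (a b c d : F)
    (hiso : B (a • y0 + b • y1 + c • y2 + d • y3) (a • y0 + b • y1 + c • y2 + d • y3) = 0) :
    Full B H (a • y0 + b • y1 + c • y2 + d • y3) := by
  have h2 := two_eq_zero hq2
  have hsk := one_skew hσ hq2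
  have n3A : ∀ a b c : F, B (a • y0 + b • y1 + c • y2) (a • y0 + b • y1 + c • y2) =
      a * σ a + b * σ b + c * σ c := by
    intro a b c
    have := norm4 h a b c 0
    simpa using this
  have n3A' : ∀ a b d : F, B (a • y0 + b • y1 + d • y3) (a • y0 + b • y1 + d • y3) =
      a * σ a + b * σ b + d * σ d := by
    intro a b d
    have := norm4 h a b 0 d
    simpa using this
  -- weight two vectors on the last coordinate
  have F03 : ∀ κ : F, κ ≠ 0 → Full B H (y0 + κ • y3) := by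
    intro κ hκ
    have := hA' 1 0 κ (by
      rw [n3A']
      simp only [map_one, map_zero, mul_one, mul_zero, add_zero]
      linear_combination norm_eq_one hq2 hσ hκ + h2)
    simpa using this
  have F13 : ∀ κ : F, κ ≠ 0 → Full B H (y1 + κ • y3) := by
    intro κ hκ
    have := hA' 0 1 κ (by
      rw [n3A']
      simp only [map_one, map_zero, mul_one, mul_zero, zero_add]
      linear_combination norm_eq_one hq2 hσ hκ + h2)
    simpa using this
  have F02 : Full B H (y0 + y2) := by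
    have := hA 1 0 1 (by
      rw [n3A]
      simp only [map_one, map_zero, mul_one, mul_zero, add_zero]
      linear_combination h2)
    simpa using this
  have F23 : ∀ κ : F, κ ≠ 0 → Full B H (y2 + κ • y3) := by
    intro κ hκ
    have hr := pair_iso hσ hq2 h.n0 h.n3 h.o03 h.o30 hκ
    have hrH := F03 κ hκ 1 hsk
    have hrU : utv B (y0 + κ • y3) 1 ∈ uG B := utv_mem_uG hB _ hsk
    have := full_map hrH hrU F02
    have e1 : utv B (y0 + κ • y3) 1 (y0 + y2) = y2 + κ • y3 := by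
      rw [utv_apply B hr]
      simp only [map_add, map_smulₛₗ, LinearMap.add_apply, h.n0, h.o03, h.o20, h.o23, smul_eq_mul,
        mul_zero, add_zero, mul_one, one_smul]
      have : y0 + y2 + (y0 + κ • y3) = (2 : F) • y0 + (y2 + κ • y3) := by module
      rw [this, h2, zero_smul, zero_add]
    rwa [e1] at this
  by_cases hd : d = 0
  · subst hd
    simp only [zero_smul, add_zero] at hiso ⊢
    exact hA a b c hiso
  by_cases hc : c = 0
  · subst hc
    simp only [zero_smul, add_zero] at hiso ⊢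
    exact hA' a b d hiso
  rw [norm4 h] at hiso
  have hab : a * σ a + b * σ b = 0 := by
    linear_combination hiso - norm_eq_one hq2 hσ hc - norm_eq_one hq2 hσ hd - h2
  by_cases ha : a = 0
  · subst ha
    have hb : b = 0 := by
      by_contra hb
      rw [map_zero, mul_zero, zero_add, norm_eq_one hq2 hσ hb] at hab
      exact one_ne_zero hab
    subst hb
    have e1 : (0 : F) • y0 + (0 : F) • y1 + c • y2 + d • y3 = c • (y2 + (d / c) • y3) := by
      rw [zero_smul, zero_smul, zero_add, zero_add, smul_add, smul_smul, mul_div_cancel₀ _ hc]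
    rw [e1]
    exact full_smul hσ (F23 _ (div_ne_zero hd hc)) c
  · have hb : b ≠ 0 := by
      rintro rfl
      rw [map_zero, mul_zero, add_zero, norm_eq_one hq2 hσ ha] at hab
      exact one_ne_zero hab
    exact q2_four hσ hB hq2 h (fun κ hκ => F03 κ hκ 1 hsk) (fun κ hκ => F13 κ hκ 1 hsk)
      (fun κ hκ => F23 κ hκ 1 hsk) hμ0 hμ1 hμ2 hμ3 hv ha hb hc hd

end Main

end Cfsg.Agent.Lib.Helper93_UQ2
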