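import Mathlib
import Cfsg.Agent.Lib.Helper93_UTrans
import Cfsg.Agent.Lib.Helper93_UHeis
import Cfsg.Agent.Lib.Helper93_UQ2

set_option autoImplicit false

/-!
The seed and growth argument for the two-generation of the special unitary groups: in a
hermitian space with a frame `e, f, z₀, …, z_{k+1}` (hyperbolic pair and orthonormal vectors), the
group generated by a torus element `a` and `b = eich e z₀ β * w`, `w` a monomial element
exchanging `e`, `f` and shifting the `zᵢ` cyclically, contains all unitary transvections.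
-/

namespace Cfsg.Agent.Lib.Helper93_USeed

open Module Cfsg.Agent.Lib.Helper94_Herm Cfsg.Agent.Lib.Helper94_HermTrans
  Cfsg.Agent.Lib.Helper94_HermWitt Cfsg.Agent.Lib.Helper94_HermEich
  Cfsg.Agent.Lib.Helper13_SUGen Cfsg.Agent.Lib.Helper93_UTrans Cfsg.Agent.Lib.Helper93_UHeis
  Cfsg.Agent.Lib.Helper93_UQ2

variable {F V : Type*} [Field F] [AddCommGroup V] [Module F V]
variable {σ : F →+* F} {B : V →ₗ[F] V →ₛₗ[σ] F}

/-- A frame: a hyperbolic pair and orthonormal vectors orthogonal to it. -/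
structure Frame (B : V →ₗ[F] V →ₛₗ[σ] F) (k : ℕ) (e f : V) (z : Fin (k + 2) → V) : Prop where
  hyp : HypPair B e f
  ze : ∀ i, B (z i) e = 0
  zf : ∀ i, B (z i) f = 0
  zz : ∀ i j, B (z i) (z j) = if i = j then 1 else 0

/-- The frame vectors indexed by natural numbers. -/
noncomputable def zn {k : ℕ} (z : Fin (k + 2) → V) (j : ℕ) : V :=
  if h : j < k + 2 then z ⟨j, h⟩ else 0

lemma zn_eq {k : ℕ} (z : Fin (k + 2) → V) {j : ℕ} (h : j < k + 2) : zn z j = z ⟨j, h⟩ := by
  rw [zn, dif_pos h]

/-- The chain of subspaces spanned by `e`, `f` and the first `j` orthonormal vectors. -/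
noncomputable def Uc (F : Type*) {V : Type*} [Field F] [AddCommGroup V] [Module F V] {k : ℕ}
    (e f : V) (z : Fin (k + 2) → V) : ℕ → Submodule F V
  | 0 => Submodule.span F {e, f}
  | j + 1 => Uc F e f z j ⊔ Submodule.span F {zn z j}

lemma Uc_mono {k : ℕ} (e f : V) (z : Fin (k + 2) → V) (j : ℕ) :
    Submodule.span F {e, f} ≤ Uc F e f z j := by
  induction j with
  | zero => exact le_refl _
  | succ j ih => exact le_trans ih le_sup_left

section

variable (hB : IsHerm B)

include hB in
lemma nondeg_sup {U : Submodule F V} (hU : NondegOn B U) {t : V} (ht : ∀ x ∈ U, B x t = 0)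
    (htt : B t t ≠ 0) : NondegOn B (U ⊔ Submodule.span F {t}) := by
  intro x hx hx0
  obtain ⟨u, huU, w, hw, rfl⟩ := Submodule.mem_sup.mp hx
  obtain ⟨μ, rfl⟩ := Submodule.mem_span_singleton.mp hw
  have htu : ∀ x ∈ U, B t x = 0 := fun x hx => herm_eq_zero hB (ht x hx)
  by_cases hμ : μ = 0
  · subst hμ
    rw [zero_smul, add_zero] at hx0 ⊢
    obtain ⟨y, hyU, hy⟩ := hU u huU hx0
    exact ⟨y, Submodule.mem_sup_left hyU, hy⟩
  · refine ⟨t, Submodule.mem_sup_right (Submodule.mem_span_singleton_self t), ?_⟩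
    rw [map_add, map_smul, LinearMap.add_apply, LinearMap.smul_apply, ht u huU, zero_add,
      smul_eq_mul]
    exact mul_ne_zero hμ htt

lemma finrank_sup_singleton [FiniteDimensional F V] {U : Submodule F V} {t : V} (ht : t ∉ U) :
    finrank F (U ⊔ Submodule.span F {t} : Submodule F V) = finrank F U + 1 := by
  have ht0 : t ≠ 0 := by
    rintro rfl
    exact ht U.zero_mem
  have h1 := Submodule.finrank_sup_add_finrank_inf_eq U (Submodule.span F {t})
  have h2 : U ⊓ Submodule.span F {t} = ⊥ :=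
    disjoint_iff.mp ((Submodule.disjoint_span_singleton' ht0).mpr ht)
  rw [h2, finrank_bot, add_zero, finrank_span_singleton ht0] at h1
  exact h1

include hB in
/-- The subspaces of the chain are nondegenerate of the expected dimension and orthogonal to the
remaining frame vectors. -/
lemma Uc_props [FiniteDimensional F V] {k : ℕ} {e f : V} {z : Fin (k + 2) → V}
    (fr : Frame B k e f z) : ∀ j : ℕ, j ≤ k + 2 →
      NondegOn B (Uc F e f z j) ∧ finrank F (Uc F e f z j) = j + 2 ∧
        ∀ x ∈ Uc F e f z j, ∀ i : Fin (k + 2), j ≤ i.val → B x (z i) = 0 := by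
  have hez : ∀ i, B e (z i) = 0 := fun i => herm_eq_zero hB (fr.ze i)
  have hfz : ∀ i, B f (z i) = 0 := fun i => herm_eq_zero hB (fr.zf i)
  intro j
  induction j with
  | zero =>
    intro _
    have hD : B e e * B f f - B e f * B f e ≠ 0 := by
      rw [fr.hyp.ee, fr.hyp.ff, fr.hyp.ef, fr.hyp.fe]
      norm_num
    obtain ⟨h1, h2⟩ := plane_nondeg hB hD
    refine ⟨h1, h2, ?_⟩
    intro x hx i _
    obtain ⟨s, t, rfl⟩ := Submodule.mem_span_pair.mp hx
    rw [map_add, map_smul, map_smul, LinearMap.add_apply, LinearMap.smul_apply,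
      LinearMap.smul_apply, hez, hfz, smul_zero, smul_zero, add_zero]
  | succ j ih =>
    intro hj
    obtain ⟨h1, h2, h3⟩ := ih (by omega)
    have hjk : j < k + 2 := by omega
    have ht : ∀ x ∈ Uc F e f z j, B x (zn z j) = 0 := by
      intro x hx
      rw [zn_eq z hjk]
      exact h3 x hx ⟨j, hjk⟩ (le_refl _)
    have htt : B (zn z j) (zn z j) = 1 := by
      rw [zn_eq z hjk, fr.zz, if_pos rfl]
    have htn : zn z j ∉ Uc F e f z j := by
      intro hmem
      have := ht _ hmem
      rw [htt] at this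
      exact one_ne_zero this
    refine ⟨nondeg_sup hB h1 ht (by rw [htt]; exact one_ne_zero), ?_, ?_⟩
    · show finrank F (Uc F e f z j ⊔ Submodule.span F {zn z j} : Submodule F V) = j + 1 + 2
      rw [finrank_sup_singleton htn, h2]
    · intro x hx i hi
      obtain ⟨u, huU, w, hw, rfl⟩ := Submodule.mem_sup.mp hx
      obtain ⟨μ, rfl⟩ := Submodule.mem_span_singleton.mp hw
      rw [map_add, map_smul, LinearMap.add_apply, LinearMap.smul_apply, h3 u huU i (by omega),
        zn_eq z hjk, fr.zz, if_neg, smul_zero, add_zero]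
      intro heq
      rw [← heq] at hi
      simp at hi

end

section

variable (hσ : Invol σ) (hB : IsHerm B)

include hσ hB in
/-- The step from dimension three to dimension four when the fixed field is `{0, 1}`. -/
lemma q2_step {k : ℕ} {e f : V} {z : Fin (k + 2) → V} (fr : Frame B k e f z)
    (hq2 : ∀ a : F, σ a = a → a = 0 ∨ a = 1) {β : F} (hβ : β + σ β = -1)
    {H : Subgroup (V ≃ₗ[F] V)}
    (hK1 : tvGroup B (Submodule.span F {e, f} ⊔ Submodule.span F {z 0}) ≤ H)
    (hK2 : tvGroup B (Submodule.span F {e, f} ⊔ Submodule.span F {z 1}) ≤ H)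
    (huH : eich B e (z 0) β ∈ H) (hFv : Full B H (e + β • f + z 1)) :
    tvGroup B ((Submodule.span F {e, f} ⊔ Submodule.span F {z 0}) ⊔ Submodule.span F {z 1})
      ≤ H := by
  have h2 := two_eq_zero hq2
  have hez : ∀ i, B e (z i) = 0 := fun i => herm_eq_zero hB (fr.ze i)
  have hfz : ∀ i, B f (z i) = 0 := fun i => herm_eq_zero hB (fr.zf i)
  have h01 : (0 : Fin (k + 2)) ≠ 1 := Fin.zero_ne_one
  have hz00 : B (z 0) (z 0) = 1 := by rw [fr.zz, if_pos rfl]
  have hz11 : B (z 1) (z 1) = 1 := by rw [fr.zz, if_pos rfl]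
  have hz01 : B (z 0) (z 1) = 0 := by rw [fr.zz, if_neg h01]
  have hz10 : B (z 1) (z 0) = 0 := by rw [fr.zz, if_neg h01.symm]
  have hβσ : σ β = 1 + β := by linear_combination hβ - (1 + β) * h2
  have hβ0 : β ≠ 0 := by
    rintro rfl
    rw [map_zero, add_zero] at hβ
    exact one_ne_zero (by linear_combination hβ : (1 : F) = 0)
  have hN : β * σ β = 1 := norm_eq_one hq2 hσ hβ0
  have hββ : β * β = 1 + β := by linear_combination hN - β * hβσ - β * h2
  have hσβ0 : σ β ≠ 0 := (map_ne_zero σ).mpr hβ0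
  have hee := fr.hyp.ee
  have hff := fr.hyp.ff
  have hef := fr.hyp.ef
  have hfe := fr.hyp.fe
  obtain ⟨y0, hy0⟩ : ∃ y0, y0 = e + β • f := ⟨_, rfl⟩
  obtain ⟨y1, hy1⟩ : ∃ y1, y1 = e + σ β • f := ⟨_, rfl⟩
  have hon : ON4 B y0 y1 (z 0) (z 1) := by
    refine ⟨?_, ?_, hz00, hz11, ?_, ?_, ?_, ?_, ?_, ?_, ?_, ?_, hz01, ?_, ?_, hz10⟩
    · rw [hy0]
      simp only [map_add, map_smul, map_smulₛₗ, LinearMap.add_apply, LinearMap.smul_apply,
        smul_eq_mul, hee, hff, hef, hfe, mul_zero, mul_one, add_zero, zero_add]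
      linear_combination hβ - h2
    · rw [hy1]
      simp only [map_add, map_smul, map_smulₛₗ, LinearMap.add_apply, LinearMap.smul_apply,
        smul_eq_mul, hee, hff, hef, hfe, mul_zero, mul_one, add_zero, zero_add, hσ.invol]
      linear_combination hβ - h2
    · rw [hy0, hy1]
      simp only [map_add, map_smul, map_smulₛₗ, LinearMap.add_apply, LinearMap.smul_apply,
        smul_eq_mul, hee, hff, hef, hfe, mul_zero, mul_one, add_zero, zero_add, hσ.invol]
      linear_combination β * h2
    · rw [hy0]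
      simp only [map_add, map_smul, LinearMap.add_apply, LinearMap.smul_apply, hez, hfz,
        smul_zero, add_zero]
    · rw [hy0]
      simp only [map_add, map_smul, LinearMap.add_apply, LinearMap.smul_apply, hez, hfz,
        smul_zero, add_zero]
    · rw [hy0, hy1]
      simp only [map_add, map_smul, map_smulₛₗ, LinearMap.add_apply, LinearMap.smul_apply,
        smul_eq_mul, hee, hff, hef, hfe, mul_zero, mul_one, add_zero, zero_add]
      linear_combination σ β * h2
    · rw [hy1]
      simp only [map_add, map_smul, LinearMap.add_apply, LinearMap.smul_apply, hez, hfz,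
        smul_zero, add_zero]
    · rw [hy1]
      simp only [map_add, map_smul, LinearMap.add_apply, LinearMap.smul_apply, hez, hfz,
        smul_zero, add_zero]
    · rw [hy0]
      simp only [map_add, map_smulₛₗ, fr.ze, fr.zf, smul_zero, add_zero]
    · rw [hy1]
      simp only [map_add, map_smulₛₗ, fr.ze, fr.zf, smul_zero, add_zero]
    · rw [hy0]
      simp only [map_add, map_smulₛₗ, fr.ze, fr.zf, smul_zero, add_zero]
    · rw [hy1]
      simp only [map_add, map_smulₛₗ, fr.ze, fr.zf, smul_zero, add_zero]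
  have hy0m : y0 ∈ Submodule.span F {e, f} := by
    rw [hy0]
    exact Submodule.add_mem _ (Submodule.subset_span (by simp))
      (Submodule.smul_mem _ _ (Submodule.subset_span (by simp)))
  have hy1m : y1 ∈ Submodule.span F {e, f} := by
    rw [hy1]
    exact Submodule.add_mem _ (Submodule.subset_span (by simp))
      (Submodule.smul_mem _ _ (Submodule.subset_span (by simp)))
  have hA : ∀ a b c : F, B (a • y0 + b • y1 + c • z 0) (a • y0 + b • y1 + c • z 0) = 0 →
      Full B H (a • y0 + b • y1 + c • z 0) := by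
    intro a b c hiso s hs
    apply hK1
    refine utv_mem_tvGroup ?_ hiso hs
    exact Submodule.add_mem _ (Submodule.mem_sup_left (Submodule.add_mem _
      (Submodule.smul_mem _ _ hy0m) (Submodule.smul_mem _ _ hy1m)))
      (Submodule.mem_sup_right (Submodule.smul_mem _ _ (Submodule.mem_span_singleton_self _)))
  have hA' : ∀ a b c : F, B (a • y0 + b • y1 + c • z 1) (a • y0 + b • y1 + c • z 1) = 0 →
      Full B H (a • y0 + b • y1 + c • z 1) := by
    intro a b c hiso s hs
    apply hK2
    refine utv_mem_tvGroup ?_ hiso hs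
    exact Submodule.add_mem _ (Submodule.mem_sup_left (Submodule.add_mem _
      (Submodule.smul_mem _ _ hy0m) (Submodule.smul_mem _ _ hy1m)))
      (Submodule.mem_sup_right (Submodule.smul_mem _ _ (Submodule.mem_span_singleton_self _)))
  have huU : eich B e (z 0) β ∈ uG B := eich_mem_uG hB (by rw [hz00]; exact hβ)
  have hv2 : Full B H (σ β • y0 + (1 : F) • y1 + β • z 0 + (1 : F) • z 1) := by
    have h1 := full_map huH huU hFv
    have e1 : eich B e (z 0) β (e + β • f + z 1) =
        (1 + β * β) • e + β • f + β • z 0 + z 1 := by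
      rw [eich_apply B hee (fr.ze 0) (hez 0)]
      simp only [map_add, map_smul, LinearMap.add_apply, LinearMap.smul_apply, smul_eq_mul, hee,
        hfe, hez, hfz, fr.ze, hz10, mul_zero, mul_one, add_zero, zero_add, zero_smul, sub_zero]
      module
    have c1 : 1 + β * β = σ β + 1 := by linear_combination hββ - hβσ
    have c2 : β = σ β * β + σ β := by linear_combination -hN - hβσ - h2
    have e2 : σ β • y0 + (1 : F) • y1 + β • z 0 + (1 : F) • z 1 =
        (σ β + 1) • e + (σ β * β + σ β) • f + β • z 0 + z 1 := by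
      rw [hy0, hy1]
      module
    rw [e2, ← c1, ← c2, ← e1]
    exact h1
  have hall := q2_all hσ hB hq2 hon hA hA' hσβ0 one_ne_zero hβ0 one_ne_zero hv2
  apply tvGroup_le
  intro x hx hiso c hc
  obtain ⟨x1, hx1, w1, hw1, rfl⟩ := Submodule.mem_sup.mp hx
  obtain ⟨x2, hx2, w2, hw2, rfl⟩ := Submodule.mem_sup.mp hx1
  obtain ⟨s, t, rfl⟩ := Submodule.mem_span_pair.mp hx2
  obtain ⟨m, rfl⟩ := Submodule.mem_span_singleton.mp hw2
  obtain ⟨n, rfl⟩ := Submodule.mem_span_singleton.mp hw1
  have ce : (s * (1 + β) + t) + (s * β + t) = s := by linear_combination (s * β + t) * h2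
  have cf : (s * (1 + β) + t) * β + (s * β + t) * σ β = t := by
    linear_combination s * hββ + s * hN + t * hβ + (s + s * β - t) * h2
  have e3 : s • e + t • f + m • z 0 + n • z 1 =
      (s * (1 + β) + t) • y0 + (s * β + t) • y1 + m • z 0 + n • z 1 := by
    have : (s * (1 + β) + t) • y0 + (s * β + t) • y1 =
        ((s * (1 + β) + t) + (s * β + t)) • e +
          ((s * (1 + β) + t) * β + (s * β + t) * σ β) • f := by
      rw [hy0, hy1]
      module
    rw [this, ce, cf]
  rw [e3] at hiso ⊢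
  exact hall _ _ _ _ hiso c hc

end

section

variable (hσ : Invol σ) (hB : IsHerm B)

open Cfsg.Agent.Lib.Helper94_Symp in
include hσ hB in
/-- The seed and growth theorem. -/
theorem seed [Finite F] [FiniteDimensional F V] {k : ℕ} {e f : V} {z : Fin (k + 2) → V}
    (fr : Frame B k e f z) (hdim : finrank F V = k + 4) {a w : V ≃ₗ[F] V} {lam δ' ε β : F}
    (haU : a ∈ uG B) (hwU : w ∈ uG B)
    (hae : a e = lam • e) (haf : a f = (σ lam)⁻¹ • f) (haz0 : a (z 0) = z 0)
    (hazl : a (z (Fin.last (k + 1))) = δ' • z (Fin.last (k + 1)))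
    (hwe : w e = f) (hwf : w f = e) (hwz : ∀ i : Fin (k + 1), w (z i.castSucc) = z i.succ)
    (hwl : w (z (Fin.last (k + 1))) = ε • z 0) (hε : ε ≠ 0)
    (hcomm : a * (w * a * w⁻¹) = (w * a * w⁻¹) * a) (hβ : β + σ β = -1)
    (hgen : ∀ x : F, x ≠ 0 → ∃ n : ℕ, x = (σ lam) ^ n) (hν' : lam⁻¹ * δ' ≠ 1)
    (hlam1 : σ lam ≠ 1) :
    tvGroup B ⊤ ≤ Subgroup.closure {a, eich B e (z 0) β * w} := by
  obtain ⟨u, hu⟩ : ∃ u, u = eich B e (z 0) β := ⟨_, rfl⟩
  rw [← hu]
  obtain ⟨H, hH⟩ : ∃ H, H = Subgroup.closure {a, u * w} := ⟨_, rfl⟩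
  rw [← hH]
  have haH : a ∈ H := by rw [hH]; exact Subgroup.subset_closure (by simp)
  have hbH : u * w ∈ H := by rw [hH]; exact Subgroup.subset_closure (by simp)
  have hez : ∀ i, B e (z i) = 0 := fun i => herm_eq_zero hB (fr.ze i)
  have hfz : ∀ i, B f (z i) = 0 := fun i => herm_eq_zero hB (fr.zf i)
  have hee := fr.hyp.ee
  have hff := fr.hyp.ff
  have hef := fr.hyp.ef
  have hfe := fr.hyp.fe
  have hz00 : B (z 0) (z 0) = 1 := by rw [fr.zz, if_pos rfl]
  have huU : u ∈ uG B := by rw [hu]; exact eich_mem_uG hB (by rw [hz00]; exact hβ)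
  -- the second torus element
  obtain ⟨a', ha'⟩ : ∃ a', a' = w * a * w⁻¹ := ⟨_, rfl⟩
  rw [← ha'] at hcomm
  have ha'U : a' ∈ uG B := by rw [ha']; exact mul_mem (mul_mem hwU haU) (inv_mem hwU)
  have hwinv_e : w⁻¹ e = f := by rw [← hwf, inv_apply_apply']
  have ha'e : a' e = (σ lam)⁻¹ • e := by
    rw [ha', LinearEquiv.mul_apply, LinearEquiv.mul_apply, hwinv_e, haf, map_smul, hwf]
  have hwinv_z : w⁻¹ (z 0) = ε⁻¹ • z (Fin.last (k + 1)) := by
    have : w (ε⁻¹ • z (Fin.last (k + 1))) = z 0 := by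
      rw [map_smul, hwl, smul_smul, inv_mul_cancel₀ hε, one_smul]
    rw [← this, inv_apply_apply']
  have ha'z : a' (z 0) = δ' • z 0 := by
    rw [ha', LinearEquiv.mul_apply, LinearEquiv.mul_apply, hwinv_z, map_smul, hazl, map_smul,
      map_smul, hwl, smul_smul, smul_smul]
    congr 1
    field_simp
  have hhH : u * a' * u⁻¹ ∈ H := by
    have : u * a' * u⁻¹ = (u * w) * a * (u * w)⁻¹ := by rw [ha']; group
    rw [this]
    exact mul_mem (mul_mem hbH haH) (inv_mem hbH)
  obtain ⟨huH, hFe⟩ := heis hσ hB hee (fr.ze 0) hz00 haU ha'U hae haz0 ha'e ha'z hcomm hβ hu haH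
    hhH hgen hν' hlam1
  have hwH : w ∈ H := by
    have : w = u⁻¹ * (u * w) := by group
    rw [this]
    exact mul_mem (inv_mem huH) hbH
  have hFf : Full B H f := by rw [← hwe]; exact full_map hwH hwU hFe
  -- the vectors `w ^ j (u f)`
  have huf : u f = (f + β • e) + z 0 := by
    rw [hu, eich_apply B hee (fr.ze 0) (hez 0), hfe, hfz, mul_one, one_smul, zero_smul, sub_zero]
    abel
  have hwspan : ∀ x ∈ Submodule.span F {e, f}, w x ∈ Submodule.span F {e, f} := by
    intro x hx
    obtain ⟨s, t, rfl⟩ := Submodule.mem_span_pair.mp hx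
    rw [map_add, map_smul, map_smul, hwe, hwf, add_comm]
    exact Submodule.mem_span_pair.mpr ⟨t, s, rfl⟩
  have hwpowH : ∀ j : ℕ, w ^ j ∈ H := fun j => pow_mem hwH j
  have hwpowU : ∀ j : ℕ, w ^ j ∈ uG B := fun j => pow_mem hwU j
  have hpspan : ∀ j : ℕ, (w ^ j) (f + β • e) ∈ Submodule.span F {e, f} := by
    intro j
    induction j with
    | zero =>
      rw [pow_zero, LinearEquiv.coe_one, id_eq, add_comm]
      exact Submodule.mem_span_pair.mpr ⟨β, 1, by rw [one_smul]⟩
    | succ j ih =>
      rw [pow_succ', LinearEquiv.mul_apply]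
      exact hwspan _ ih
  have hvj : ∀ j : ℕ, j < k + 2 → (w ^ j) (u f) = (w ^ j) (f + β • e) + zn z j := by
    intro j
    induction j with
    | zero =>
      intro h0
      rw [pow_zero, LinearEquiv.coe_one, id_eq, id_eq, huf, zn_eq z h0]
      rfl
    | succ j ih =>
      intro hj
      have hj' : j < k + 2 := by omega
      have hj1 : j < k + 1 := by omega
      rw [pow_succ', LinearEquiv.mul_apply, ih hj', map_add, LinearEquiv.mul_apply, zn_eq z hj',
        zn_eq z hj]
      congr 1
      have := hwz ⟨j, hj1⟩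
      simpa using this
  have hFull : ∀ j : ℕ, j < k + 2 → Full B H ((w ^ j) (f + β • e) + zn z j) := by
    intro j hj
    rw [← hvj j hj, ← LinearEquiv.mul_apply]
    exact full_map (mul_mem (hwpowH j) huH) (mul_mem (hwpowU j) huU) hFf
  have hiso : ∀ j : ℕ, j < k + 2 →
      B ((w ^ j) (f + β • e) + zn z j) ((w ^ j) (f + β • e) + zn z j) = 0 := by
    intro j hj
    rw [← hvj j hj, ← LinearEquiv.mul_apply, mul_mem (hwpowU j) huU, hff]
  -- transitivity on the subspaces of the chain
  have hprops := Uc_props hB fr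
  have hT0 : TransOn B (Uc F e f z 0) := by
    intro v hv v' hv' hc heq
    exact t2 hσ hB (le_refl _) (hprops 0 (by omega)).1 (hprops 0 (by omega)).2.1 hv hv' hc heq
  have hTbig : ∀ j : ℕ, 2 ≤ j → j ≤ k + 2 → TransOn B (Uc F e f z j) := by
    intro j hj2 hjk v hv v' hv' hc heq
    exact exists_tv_aniso hσ hB (hprops j hjk).1 (by rw [(hprops j hjk).2.1]; omega) hv hv' hc heq
  -- one growth step
  have hstep : ∀ j : ℕ, j < k + 2 → TransOn B (Uc F e f z j) →
      tvGroup B (Uc F e f z j) ≤ H → tvGroup B (Uc F e f z (j + 1)) ≤ H := by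
    intro j hj hT hle
    have hjz : B (zn z j) (zn z j) = 1 := by rw [zn_eq z hj, fr.zz, if_pos rfl]
    refine grow hσ hB hle hT (Uc_mono e f z j (hpspan j)) ?_ (by rw [hjz]; exact one_ne_zero)
      (hiso j hj) (hFull j hj)
    intro x hx
    rw [zn_eq z hj]
    exact (hprops j (by omega)).2.2 x hx ⟨j, hj⟩ (le_refl _)
  have h0 : tvGroup B (Uc F e f z 0) ≤ H := pair_le hσ hB fr.hyp hFe hFf
  have h1 : tvGroup B (Uc F e f z 1) ≤ H := hstep 0 (by omega) hT0 h0
  have h2 : tvGroup B (Uc F e f z 2) ≤ H := by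
    by_cases hq : ∃ a₀ : F, σ a₀ = a₀ ∧ a₀ ≠ 0 ∧ a₀ ≠ 1
    · obtain ⟨a₀, h1a, h2a, h3a⟩ := hq
      exact hstep 1 (by omega) (t3 hσ hB (hprops 1 (by omega)).1 (hprops 1 (by omega)).2.1 h1a h2a
        h3a) h1
    · have hq2 : ∀ a : F, σ a = a → a = 0 ∨ a = 1 := by
        intro a ha
        by_contra hcon
        push Not at hcon
        exact hq ⟨a, ha, hcon.1, hcon.2⟩
      have hz0 : zn z 0 = z 0 := by rw [zn_eq z (by omega : 0 < k + 2)]; rfl
      have hz1 : zn z 1 = z 1 := by
        rw [zn_eq z (by omega : 1 < k + 2)]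
        congr 1
      -- the second three-dimensional subspace
      have hK2 : tvGroup B (Submodule.span F {e, f} ⊔ Submodule.span F {z 1}) ≤ H := by
        have hF1 := hFull 1 (by omega)
        have hi1 := hiso 1 (by omega)
        rw [hz1] at hF1 hi1
        refine grow hσ hB h0 hT0 (hpspan 1) ?_ (by rw [fr.zz, if_pos rfl]; exact one_ne_zero) hi1
          hF1
        intro x hx
        exact (hprops 0 (by omega)).2.2 x hx 1 (by omega)
      have hK1 : tvGroup B (Submodule.span F {e, f} ⊔ Submodule.span F {z 0}) ≤ H := by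
        have := h1
        rw [Uc, hz0] at this
        exact this
      have hFv : Full B H (e + β • f + z 1) := by
        have hF1 := hFull 1 (by omega)
        rw [hz1, pow_one, map_add, map_smul, hwf, hwe, add_comm e] at hF1
        rw [add_comm (β • f)] at hF1
        exact hF1
      have := q2_step hσ hB fr hq2 hβ hK1 hK2 (by rw [← hu]; exact huH) hFv
      show tvGroup B ((Uc F e f z 0 ⊔ Submodule.span F {zn z 0}) ⊔ Submodule.span F {zn z 1}) ≤ H
      rw [hz0, hz1]
      exact this
  have hall : ∀ j : ℕ, j ≤ k → tvGroup B (Uc F e f z (j + 2)) ≤ H := by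
    intro j
    induction j with
    | zero => intro _; exact h2
    | succ j ih =>
      intro hj
      exact hstep (j + 2) (by omega) (hTbig (j + 2) (by omega) (by omega)) (ih (by omega))
  have htop : Uc F e f z (k + 2) = ⊤ := by
    apply Submodule.eq_top_of_finrank_eq
    rw [(hprops (k + 2) (le_refl _)).2.1, hdim]
  rw [← htop]
  exact hall k (le_refl _)

end

end Cfsg.Agent.Lib.Helper93_USeed
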