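import Mathlib
import Cfsg.Agent.Lib.Helper93_UFrame
import Cfsg.Agent.Lib.Helper93_USeed
import Cfsg.Agent.Lib.Helper44_HermOrtho

set_option autoImplicit false

/-!
Two generators for the special unitary group of a nondegenerate hermitian space of dimension at
least four over a finite field: construction of the frame, of the torus element and of the
monomial element, and application of the seed and growth theorem.
-/

namespace Cfsg.Agent.Lib.Helper93_UTwoGen

open Module Cfsg.Agent.Lib.Helper94_Herm Cfsg.Agent.Lib.Helper94_HermTrans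
  Cfsg.Agent.Lib.Helper94_HermWitt Cfsg.Agent.Lib.Helper94_HermEich
  Cfsg.Agent.Lib.Helper13_SUGen Cfsg.Agent.Lib.Helper93_UTrans Cfsg.Agent.Lib.Helper93_UHeis
  Cfsg.Agent.Lib.Helper93_USeed Cfsg.Agent.Lib.Helper93_UFrame Cfsg.Agent.Lib.Helper94_HermIrr
  Cfsg.Agent.Lib.Helper44_HermOrtho

variable {F V : Type*} [Field F] [AddCommGroup V] [Module F V]
variable {σ : F →+* F} {B : V →ₗ[F] V →ₛₗ[σ] F}

/-- Existence of a frame. -/
theorem exists_frame [Finite F] [FiniteDimensional F V] (hσ : Invol σ) (hB : IsHerm B)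
    (hN : NondegOn B ⊤) {k : ℕ} (hdim : finrank F V = k + 4) :
    ∃ e f : V, ∃ z : Fin (k + 2) → V, Frame B k e f z := by
  have htop : finrank F (⊤ : Submodule F V) = finrank F V := finrank_top F V
  obtain ⟨e, -, f, -, he, hf, hef⟩ := exists_pair hσ hB hN
    (exists_notMem_span1 (U := ⊤) (by omega))
  have h := hypPair_mk hB he hf hef
  obtain ⟨M, hMdef⟩ : ∃ M, M = (⊤ : Submodule F V) ⊓ orthV B e ⊓ orthV B f := ⟨_, rfl⟩
  have hMN : NondegOn B M := by
    rw [hMdef]
    exact nondegOn_pair hB hN Submodule.mem_top Submodule.mem_top he hf hef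
  have hMdim : k + 2 ≤ finrank F M := by
    have h1 := finrank_le_inf_orthV_add_one (B := B) ⊤ e
    have h2 := finrank_le_inf_orthV_add_one (B := B) (⊤ ⊓ orthV B e) f
    rw [hMdef]
    omega
  obtain ⟨w, hwM, hww⟩ := exists_orthonormal hσ hB (finrank F M) M hMN rfl
  have hmemM : ∀ m, m ∈ M → B m e = 0 ∧ B m f = 0 := by
    intro m hm
    rw [hMdef] at hm
    simp only [Submodule.mem_inf, Submodule.mem_top, true_and, mem_orthV] at hm
    exact hm
  refine ⟨e, f, fun i => w (Fin.castLE hMdim i), h, ?_, ?_, ?_⟩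
  · intro i
    exact (hmemM _ (hwM _)).1
  · intro i
    exact (hmemM _ (hwM _)).2
  · intro i j
    rw [hww]
    by_cases hij : i = j
    · rw [if_pos hij, if_pos (by rw [hij])]
    · rw [if_neg hij, if_neg]
      intro h'
      exact hij (Fin.castLE_injective hMdim h')

/-- The frame as a family of vectors. -/
def frameFun {k : ℕ} (e f : V) (z : Fin (k + 2) → V) : Fin 2 ⊕ Fin (k + 2) → V :=
  Sum.elim ![e, f] z

lemma frame_li (hB : IsHerm B) {k : ℕ} {e f : V} {z : Fin (k + 2) → V} (fr : Frame B k e f z) :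
    LinearIndependent F (frameFun e f z) := by
  have hez : ∀ i, B e (z i) = 0 := fun i => herm_eq_zero hB (fr.ze i)
  have hfz : ∀ i, B f (z i) = 0 := fun i => herm_eq_zero hB (fr.zf i)
  rw [Fintype.linearIndependent_iff]
  intro g hg
  have key : ∀ y : V, B (∑ i, g i • frameFun e f z i) y = 0 := by
    intro y
    rw [hg]
    simp
  simp only [Fintype.sum_sum_type, Fin.sum_univ_two, frameFun, Sum.elim_inl, Sum.elim_inr,
    Matrix.cons_val_zero, Matrix.cons_val_one, map_add, map_sum, map_smul, LinearMap.add_apply,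
    LinearMap.sum_apply, LinearMap.smul_apply, smul_eq_mul] at key
  have k1 := key f
  have k2 := key e
  simp only [fr.hyp.ee, fr.hyp.ff, fr.hyp.ef, fr.hyp.fe, fr.ze, fr.zf, mul_zero, mul_one,
    Finset.sum_const_zero, add_zero, zero_add] at k1 k2
  intro i
  rcases i with i | i
  · fin_cases i
    · exact k1
    · exact k2
  · have k3 := key (z i)
    simp only [hez, hfz, fr.zz, mul_zero, add_zero, zero_add, mul_ite, mul_one,
      Finset.sum_ite_eq', Finset.mem_univ, if_true] at k3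
    exact k3

/-- The basis attached to a frame. -/
noncomputable def frameBasis [FiniteDimensional F V] (hB : IsHerm B) {k : ℕ} {e f : V}
    {z : Fin (k + 2) → V} (fr : Frame B k e f z) (hdim : finrank F V = k + 4) :
    Basis (Fin 2 ⊕ Fin (k + 2)) F V :=
  basisOfLinearIndependentOfCardEqFinrank (frame_li hB fr) (by
    rw [Fintype.card_sum, Fintype.card_fin, Fintype.card_fin, hdim]
    omega)

lemma frameBasis_apply [FiniteDimensional F V] (hB : IsHerm B) {k : ℕ} {e f : V}
    {z : Fin (k + 2) → V} (fr : Frame B k e f z) (hdim : finrank F V = k + 4)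
    (i : Fin 2 ⊕ Fin (k + 2)) : frameBasis hB fr hdim i = frameFun e f z i := by
  rw [frameBasis, coe_basisOfLinearIndependentOfCardEqFinrank]

section Maps

variable [FiniteDimensional F V] (hσ : Invol σ) (hB : IsHerm B) {k : ℕ} {e f : V}
  {z : Fin (k + 2) → V} (fr : Frame B k e f z) (hdim : finrank F V = k + 4)

/-- The coefficients of the torus element. -/
noncomputable def ca (σ : F →+* F) (k : ℕ) (lam : F) : Fin 2 ⊕ Fin (k + 2) → F :=
  Sum.elim ![lam, (σ lam)⁻¹] (fun i => if i = 1 then σ lam / lam else 1)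

/-- The coefficients of the monomial element. -/
noncomputable def cw (F : Type*) [Field F] (k : ℕ) : Fin 2 ⊕ Fin (k + 2) → F :=
  Sum.elim (fun _ => 1) (fun i => if i = Fin.last (k + 1) then (-1) ^ k else 1)

/-- The permutation of the monomial element. -/
def pw (k : ℕ) : Equiv.Perm (Fin 2 ⊕ Fin (k + 2)) :=
  Equiv.sumCongr (Equiv.swap 0 1) (finRotate (k + 2))

lemma ca_ne_zero {lam : F} (hlam : lam ≠ 0) (i : Fin 2 ⊕ Fin (k + 2)) : ca σ k lam i ≠ 0 := by
  have hσlam : σ lam ≠ 0 := (map_ne_zero σ).mpr hlam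
  rcases i with i | i
  · fin_cases i
    · simpa [ca] using hlam
    · simpa [ca] using hσlam
  · simp only [ca, Sum.elim_inr]
    split_ifs
    · exact div_ne_zero hσlam hlam
    · exact one_ne_zero

lemma cw_ne_zero (i : Fin 2 ⊕ Fin (k + 2)) : cw F k i ≠ 0 := by
  rcases i with i | i
  · simp [cw]
  · simp only [cw, Sum.elim_inr]
    split_ifs
    · exact pow_ne_zero _ (neg_ne_zero.mpr one_ne_zero)
    · exact one_ne_zero

include hB fr hdim in
lemma gram_ll (i j : Fin 2) :
    B (frameBasis hB fr hdim (Sum.inl (Equiv.swap 0 1 i)))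
      (frameBasis hB fr hdim (Sum.inl (Equiv.swap 0 1 j))) =
    B (frameBasis hB fr hdim (Sum.inl i)) (frameBasis hB fr hdim (Sum.inl j)) := by
  simp only [frameBasis_apply, frameFun, Sum.elim_inl]
  fin_cases i <;> fin_cases j <;>
    simp [fr.hyp.ee, fr.hyp.ff, fr.hyp.ef, fr.hyp.fe]

include hσ hB fr hdim in
/-- The torus element is an isometry. -/
lemma a_mem_uG {lam : F} (hlam : lam ≠ 0) :
    fm (frameBasis hB fr hdim) 1 (ca σ k lam) (ca_ne_zero hlam) ∈ uG B := by
  have hσlam : σ lam ≠ 0 := (map_ne_zero σ).mpr hlam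
  have hez : ∀ i, B e (z i) = 0 := fun i => herm_eq_zero hB (fr.ze i)
  have hfz : ∀ i, B f (z i) = 0 := fun i => herm_eq_zero hB (fr.zf i)
  apply fm_mem_uG
  intro i j
  simp only [Equiv.Perm.coe_one, id_eq, frameBasis_apply]
  rcases i with i | i <;> rcases j with j | j
  · fin_cases i <;> fin_cases j <;>
      simp [frameFun, ca, fr.hyp.ee, fr.hyp.ff, fr.hyp.ef, fr.hyp.fe, hσ.invol, hlam, hσlam]
  · fin_cases i <;> simp [frameFun, hez, hfz]
  · fin_cases j <;> simp [frameFun, fr.ze, fr.zf]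
  · simp only [frameFun, Sum.elim_inr, fr.zz, ca]
    by_cases hij : i = j
    · subst hij
      rw [if_pos rfl, mul_one]
      split_ifs
      · rw [map_div₀, hσ.invol]
        field_simp
      · rw [map_one, mul_one]
    · rw [if_neg hij, mul_zero]

include hσ hB fr hdim in
/-- The monomial element is an isometry. -/
lemma w_mem_uG : fm (frameBasis hB fr hdim) (pw k) (cw F k) cw_ne_zero ∈ uG B := by
  have hez : ∀ i, B e (z i) = 0 := fun i => herm_eq_zero hB (fr.ze i)
  have hfz : ∀ i, B f (z i) = 0 := fun i => herm_eq_zero hB (fr.zf i)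
  apply fm_mem_uG
  intro i j
  rcases i with i | i <;> rcases j with j | j
  · simp only [pw, Equiv.sumCongr_apply, Sum.map_inl, cw, Sum.elim_inl, map_one, mul_one, one_mul]
    exact gram_ll hB fr hdim i j
  · simp only [pw, Equiv.sumCongr_apply, Sum.map_inl, Sum.map_inr, frameBasis_apply, frameFun,
      Sum.elim_inl, Sum.elim_inr]
    have h1 : ∀ (i' : Fin 2) (j' : Fin (k + 2)), B (![e, f] i') (z j') = 0 := by
      intro i' j'
      fin_cases i' <;> simp [hez, hfz]
    rw [h1, h1, mul_zero]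
  · simp only [pw, Equiv.sumCongr_apply, Sum.map_inl, Sum.map_inr, frameBasis_apply, frameFun,
      Sum.elim_inl, Sum.elim_inr]
    have h1 : ∀ (i' : Fin (k + 2)) (j' : Fin 2), B (z i') (![e, f] j') = 0 := by
      intro i' j'
      fin_cases j' <;> simp [fr.ze, fr.zf]
    rw [h1, h1, mul_zero]
  · simp only [pw, Equiv.sumCongr_apply, Sum.map_inr, frameBasis_apply, frameFun, Sum.elim_inr,
      fr.zz, cw]
    by_cases hij : i = j
    · subst hij
      rw [if_pos rfl, if_pos rfl, mul_one]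
      split_ifs
      · rw [map_pow, map_neg, map_one, ← mul_pow]
        simp
      · rw [map_one, mul_one]
    · rw [if_neg hij, if_neg (fun h' => hij ((finRotate (k + 2)).injective h')), mul_zero]

end Maps

section Comm

open Cfsg.Agent.Lib.Helper94_Symp

variable {ι : Type*} [Fintype ι] [DecidableEq ι]

/-- A diagonal map commutes with its conjugates under monomial maps. -/
lemma fm_comm (b : Basis ι F V) (π : Equiv.Perm ι) (c d : ι → F) (hc : ∀ i, c i ≠ 0)
    (hd : ∀ i, d i ≠ 0) :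
    fm b 1 c hc * (fm b π d hd * fm b 1 c hc * (fm b π d hd)⁻¹) =
      (fm b π d hd * fm b 1 c hc * (fm b π d hd)⁻¹) * fm b 1 c hc := by
  obtain ⟨A, hA⟩ : ∃ A, A = fm b 1 c hc := ⟨_, rfl⟩
  obtain ⟨W, hW⟩ : ∃ W, W = fm b π d hd := ⟨_, rfl⟩
  rw [← hA, ← hW]
  have hAb : ∀ i, A (b i) = c i • b i := by
    intro i
    rw [hA, fm_apply]
    rfl
  have hWb : ∀ i, W (b i) = d i • b (π i) := by
    intro i
    rw [hW, fm_apply]
  have hWinv : ∀ j, W⁻¹ (b (π j)) = (d j)⁻¹ • b j := by
    intro j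
    have : W ((d j)⁻¹ • b j) = b (π j) := by
      rw [map_smul, hWb, smul_smul, inv_mul_cancel₀ (hd j), one_smul]
    rw [← this, inv_apply_apply']
  have hA' : ∀ j, (W * A * W⁻¹) (b (π j)) = c j • b (π j) := by
    intro j
    rw [LinearEquiv.mul_apply, LinearEquiv.mul_apply, hWinv, map_smul, hAb, map_smul, map_smul,
      hWb, smul_smul, smul_smul]
    congr 1
    field_simp [hd j]
  apply LinearEquiv.toLinearMap_injective
  apply b.ext
  intro i
  obtain ⟨j, rfl⟩ := π.surjective i
  have hA'' : ∀ j, W (A (W⁻¹ (b (π j)))) = c j • b (π j) := by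
    intro j
    have := hA' j
    rwa [LinearEquiv.mul_apply, LinearEquiv.mul_apply] at this
  simp only [LinearEquiv.coe_coe, LinearEquiv.mul_apply]
  rw [hA'', map_smul, hAb, map_smul, map_smul, map_smul, hA'', smul_comm]

end Comm

section Det

variable [FiniteDimensional F V] (hB : IsHerm B) {k : ℕ} {e f : V}
  {z : Fin (k + 2) → V} (fr : Frame B k e f z) (hdim : finrank F V = k + 4)

lemma sign_pw (k : ℕ) : Equiv.Perm.sign (pw k) = (-1) ^ k := by
  rw [pw, Equiv.Perm.sign_sumCongr, Equiv.Perm.sign_swap (by decide), sign_finRotate]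
  have : k + 2 - 1 = k + 1 := rfl
  rw [this, pow_succ]
  simp

lemma a_det {lam : F} (hlam : lam ≠ 0) :
    LinearEquiv.det (fm (frameBasis hB fr hdim) 1 (ca σ k lam) (ca_ne_zero hlam)) = 1 := by
  have hσlam : σ lam ≠ 0 := (map_ne_zero σ).mpr hlam
  rw [← Units.val_inj, LinearEquiv.coe_det, fm_det, Equiv.Perm.sign_one, one_smul, Units.val_one,
    Fintype.prod_sum_type, Fin.prod_univ_two]
  simp only [ca, Sum.elim_inl, Sum.elim_inr, Matrix.cons_val_zero, Matrix.cons_val_one,
    Finset.prod_ite_eq', Finset.mem_univ, if_true]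
  field_simp

lemma w_det :
    LinearEquiv.det (fm (frameBasis hB fr hdim) (pw k) (cw F k) cw_ne_zero) = 1 := by
  rw [← Units.val_inj, LinearEquiv.coe_det, fm_det, sign_pw, Units.val_one,
    Fintype.prod_sum_type, Fin.prod_univ_two]
  simp only [cw, Sum.elim_inl, Sum.elim_inr, Finset.prod_ite_eq', Finset.mem_univ, if_true,
    mul_one, one_mul]
  rw [Units.smul_def, Units.val_pow_eq_pow_val, Units.val_neg, Units.val_one, zsmul_eq_mul,
    Int.cast_pow, Int.cast_neg, Int.cast_one, ← mul_pow]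
  simp

omit [FiniteDimensional F V] in
lemma det_eich (w y : V) (c : F) : LinearEquiv.det (eich B w y c) = 1 := by
  unfold eich
  split_ifs with h
  · rw [map_mul, LinearEquiv.transvection.det_eq_one, LinearEquiv.transvection.det_eq_one, mul_one]
  · exact map_one _

end Det

section Main

/-- Two generators for the special unitary group in dimension `k + 4`. -/
theorem two_gen [Finite F] [FiniteDimensional F V] (hσ : Invol σ) (hB : IsHerm B)
    (hN : NondegOn B ⊤) {k : ℕ} (hdim : finrank F V = k + 4)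
    (h42 : k = 0 → ∀ g : F, (∀ x : F, x ≠ 0 → ∃ n : ℕ, x = g ^ n) → g ≠ σ g * σ g) :
    ∃ a b : V ≃ₗ[F] V, a ∈ uG B ∧ LinearEquiv.det a = 1 ∧ b ∈ uG B ∧ LinearEquiv.det b = 1 ∧
      tvGroup B ⊤ ≤ Subgroup.closure {a, b} := by
  obtain ⟨e, f, z, fr⟩ := exists_frame hσ hB hN hdim
  haveI := Fintype.ofFinite F
  obtain ⟨g, hg⟩ := IsCyclic.exists_monoid_generator (α := Fˣ)
  have hgen : ∀ x : F, x ≠ 0 → ∃ n : ℕ, x = (g : F) ^ n := by
    intro x hx
    obtain ⟨n, hn⟩ := (Submonoid.mem_powers_iff _ _).mp (hg (Units.mk0 x hx))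
    refine ⟨n, ?_⟩
    rw [← Units.val_pow_eq_pow_val, hn]
    rfl
  have hg1 : (g : F) ≠ 1 := by
    intro h1
    obtain ⟨θ, hθ⟩ := hσ.ne_id
    by_cases hθ0 : θ = 0
    · exact hθ (by rw [hθ0, map_zero])
    · obtain ⟨n, hn⟩ := hgen θ hθ0
      rw [h1, one_pow] at hn
      exact hθ (by rw [hn, map_one])
  obtain ⟨lam, hlamdef⟩ : ∃ lam : F, lam = σ g := ⟨_, rfl⟩
  have hlam0 : lam ≠ 0 := by rw [hlamdef]; exact (map_ne_zero σ).mpr g.ne_zero
  have hσlam : σ lam = g := by rw [hlamdef]; exact hσ.invol _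
  obtain ⟨bb, hbb⟩ : ∃ bb, bb = frameBasis hB fr hdim := ⟨_, rfl⟩
  obtain ⟨a, ha⟩ : ∃ a, a = fm bb 1 (ca σ k lam) (ca_ne_zero hlam0) := ⟨_, rfl⟩
  obtain ⟨w, hw⟩ : ∃ w, w = fm bb (pw k) (cw F k) cw_ne_zero := ⟨_, rfl⟩
  obtain ⟨β, hβ⟩ := tr_surj hσ (-1) (by rw [map_neg, map_one])
  have hz00 : B (z 0) (z 0) = 1 := by rw [fr.zz, if_pos rfl]
  have haU : a ∈ uG B := by rw [ha, hbb]; exact a_mem_uG hσ hB fr hdim hlam0
  have hwU : w ∈ uG B := by rw [hw, hbb]; exact w_mem_uG hσ hB fr hdim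
  have hadet : LinearEquiv.det a = 1 := by rw [ha, hbb]; exact a_det hB fr hdim hlam0
  have hwdet : LinearEquiv.det w = 1 := by rw [hw, hbb]; exact w_det hB fr hdim
  have huU : eich B e (z 0) β ∈ uG B := eich_mem_uG hB (by rw [hz00]; exact hβ)
  refine ⟨a, eich B e (z 0) β * w, haU, hadet, mul_mem huU hwU,
    by rw [map_mul, det_eich, hwdet, mul_one], ?_⟩
  have hbe : bb (Sum.inl 0) = e := by rw [hbb, frameBasis_apply]; rfl
  have hbf : bb (Sum.inl 1) = f := by rw [hbb, frameBasis_apply]; rfl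
  have hbz : ∀ i, bb (Sum.inr i) = z i := by intro i; rw [hbb, frameBasis_apply]; rfl
  have hl1 : Fin.last (k + 1) = 1 ↔ k = 0 := by
    rw [Fin.ext_iff, Fin.val_last, Fin.val_one]
    omega
  apply seed hσ hB fr hdim (lam := lam) (δ' := if Fin.last (k + 1) = 1 then σ lam / lam else 1)
    (ε := (-1) ^ k) haU hwU
  · rw [← hbe, ha, fm_apply]
    rfl
  · rw [← hbf, ha, fm_apply]
    rfl
  · rw [← hbz, ha, fm_apply]
    simp only [ca, Sum.elim_inr, Equiv.Perm.coe_one, id_eq]
    rw [if_neg Fin.zero_ne_one, one_smul]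
  · rw [← hbz, ha, fm_apply]
    rfl
  · rw [← hbe, hw, fm_apply]
    simp only [cw, Sum.elim_inl, one_smul, pw, Equiv.sumCongr_apply, Sum.map_inl,
      Equiv.swap_apply_left]
    exact hbf
  · rw [← hbf, hw, fm_apply]
    simp only [cw, Sum.elim_inl, one_smul, pw, Equiv.sumCongr_apply, Sum.map_inl,
      Equiv.swap_apply_right]
    exact hbe
  · intro i
    rw [← hbz, hw, fm_apply]
    simp only [cw, Sum.elim_inr, pw, Equiv.sumCongr_apply, Sum.map_inr]
    rw [if_neg (Fin.castSucc_ne_last i), one_smul, finRotate_apply, Fin.coeSucc_eq_succ, hbz]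
  · rw [← hbz, hw, fm_apply]
    simp only [cw, Sum.elim_inr, pw, Equiv.sumCongr_apply, Sum.map_inr]
    rw [if_pos trivial, finRotate_last, hbz]
  · exact pow_ne_zero _ (neg_ne_zero.mpr one_ne_zero)
  · rw [ha, hw]
    exact fm_comm bb (pw k) _ _ _ _
  · exact hβ
  · rw [hσlam]
    exact hgen
  · by_cases hk : k = 0
    · rw [if_pos (hl1.mpr hk)]
      intro h1
      apply h42 hk (g : F) hgen
      rw [← hlamdef, ← hσlam]
      field_simp at h1
      linear_combination h1
    · rw [if_neg (fun h => hk (hl1.mp h)), mul_one]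
      intro h1
      apply hg1
      have h2 : lam = 1 := by
        rw [inv_eq_one] at h1
        exact h1
      rw [← hσlam, h2, map_one]
  · rw [hσlam]
    exact hg1

end Main

end Cfsg.Agent.Lib.Helper93_UTwoGen
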