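import Mathlib
import Cfsg.Agent.Lib.Helper83_HP2Defs

set_option autoImplicit false
set_option linter.unusedSectionVars false
set_option linter.unusedVariables false

/-!
# HP2 market (helper83, row S5692): the counting lemma HP2-T1EX with six scalars, so that
`5 ≤ t` suffices (`7 ≤ |F|`).  Proof of helper17 (`Helper17_HP2_T1EX`) with `4` replaced by `6`.  (helper94)
-/

namespace Cfsg.Agent.Lib.Helper94_HP2_T1EX5

open Module Cfsg.Agent.Lib.Helper94_Symp Cfsg.Agent.Lib.Helper94_OrthSmall
  Cfsg.Agent.Lib.Helper94_OrthSiegel Cfsg.Agent.Lib.Helper94_OrthNondeg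
  Cfsg.Agent.Lib.Helper29_ODDefs Cfsg.Agent.Lib.Helper94_Q2Defs Cfsg.Agent.Lib.Helper83_HP2Defs

variable {F : Type*} [Field F] [Finite F] {t : ℕ} {S M L : Subgroup (PV F t ≃ₗ[F] PV F t)}

/-- **HP2-T1EX** for `5 ≤ t`, `7 ≤ |F|`. -/
theorem T1EX5 (ht : 5 ≤ t) (hq : 7 ≤ Nat.card F) (s ℓ : PV F t)
    (hFS : ∀ α β : F, α ≠ 0 → β ≠ 0 → ∀ l, (α • s + β • ℓ) l ≠ 0)
    (hLY : ∀ α β : F, α ≠ 0 → β ≠ 0 → ∀ l : Fin 4 → Fin t, Function.Injective l →
      ¬ ∀ k, ¬ Sing ((α • s + β • ℓ) (l k))) :
    ∃ l, s l = 0 ∨ ℓ l = 0 := by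
  classical
  by_contra hcon
  push Not at hcon
  have _ : Fintype F := Fintype.ofFinite F
  -- linear independence, in the form needed
  have hind : ∀ l, ((s l).1 = 0 → (ℓ l).1 = 0 → False) ∧ ((s l).2 = 0 → (ℓ l).2 = 0 → False) := by
    intro l
    obtain ⟨hs, hl⟩ := hcon l
    constructor
    · intro h1 h2
      -- s l = (0, a), ℓ l = (0, b), a, b ≠ 0 : b • s - a • ℓ vanishes at l
      have ha : (s l).2 ≠ 0 := fun h => hs (Prod.ext h1 h)
      have hb : (ℓ l).2 ≠ 0 := fun h => hl (Prod.ext h2 h)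
      apply hFS (ℓ l).2 (-(s l).2) hb (neg_ne_zero.mpr ha) l
      apply Prod.ext
      · simp [h1, h2]
      · simp; ring
    · intro h1 h2
      have ha : (s l).1 ≠ 0 := fun h => hs (Prod.ext h h1)
      have hb : (ℓ l).1 ≠ 0 := fun h => hl (Prod.ext h h2)
      apply hFS (ℓ l).1 (-(s l).1) hb (neg_ne_zero.mpr ha) l
      apply Prod.ext
      · simp; ring
      · simp [h1, h2]
  -- six distinct nonzero scalars
  have hcard : 6 ≤ ((Finset.univ : Finset F).erase 0).card := by
    rw [Finset.card_erase_of_mem (Finset.mem_univ _), Finset.card_univ, ← Nat.card_eq_fintype_card]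
    omega
  obtain ⟨C, hCsub, hC4⟩ := Finset.exists_subset_card_eq hcard
  have hC0 : ∀ c ∈ C, c ≠ 0 := fun c hc => (Finset.mem_erase.mp (hCsub hc)).1
  -- the predicate
  set P : F → Fin t → Prop := fun c l => Sing ((s + c • ℓ) l) with hP
  have hPiff : ∀ c l, P c l ↔ ((s l).1 + c * (ℓ l).1 = 0 ∨ (s l).2 + c * (ℓ l).2 = 0) := by
    intro c l
    simp only [hP, Sing, Pi.add_apply, Pi.smul_apply, Prod.fst_add, Prod.snd_add, Prod.smul_fst,
      Prod.smul_snd, smul_eq_mul, mul_eq_zero]
  -- bound 1
  have hb1 : ∀ c ∈ C, t ≤ (Finset.univ.filter (fun l => P c l)).card + 3 := by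
    intro c hc
    by_contra hlt
    push Not at hlt
    have hsplit := Finset.card_filter_add_card_filter_not (s := (Finset.univ : Finset (Fin t)))
      (fun l => P c l)
    rw [Finset.card_univ, Fintype.card_fin] at hsplit
    have h4 : 4 ≤ (Finset.univ.filter (fun l => ¬ P c l)).card := by omega
    obtain ⟨T', hT'sub, hT'4⟩ := Finset.exists_subset_card_eq h4
    have e : Fin 4 ≃ {l // l ∈ T'} := (Finset.equivFinOfCardEq hT'4).symm
    apply hLY 1 c one_ne_zero (hC0 c hc) (fun k => (e k).1)
      (fun a b hab => e.injective (Subtype.ext hab))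
    intro k
    have := (Finset.mem_filter.mp (hT'sub (e k).2)).2
    simpa [hP, one_smul] using this
  -- bound 2
  have hb2 : ∀ l, (C.filter (fun c => P c l)).card ≤ 2 := by
    intro l
    have hsub : C.filter (fun c => P c l) ⊆
        C.filter (fun c => (s l).1 + c * (ℓ l).1 = 0) ∪
          C.filter (fun c => (s l).2 + c * (ℓ l).2 = 0) := by
      intro c hc
      rw [Finset.mem_filter] at hc
      rcases (hPiff c l).mp hc.2 with h | h
      · exact Finset.mem_union_left _ (Finset.mem_filter.mpr ⟨hc.1, h⟩)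
      · exact Finset.mem_union_right _ (Finset.mem_filter.mpr ⟨hc.1, h⟩)
    have h1 : (C.filter (fun c => (s l).1 + c * (ℓ l).1 = 0)).card ≤ 1 := by
      rw [Finset.card_le_one]
      intro a ha b hb
      rw [Finset.mem_filter] at ha hb
      by_contra hab
      have hl0 : (ℓ l).1 = 0 := by
        have : (a - b) * (ℓ l).1 = 0 := by linear_combination ha.2 - hb.2
        rcases mul_eq_zero.mp this with h | h
        · exact absurd (sub_eq_zero.mp h) hab
        · exact h
      have hs0 : (s l).1 = 0 := by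
        have := ha.2
        rw [hl0, mul_zero, add_zero] at this
        exact this
      exact (hind l).1 hs0 hl0
    have h2 : (C.filter (fun c => (s l).2 + c * (ℓ l).2 = 0)).card ≤ 1 := by
      rw [Finset.card_le_one]
      intro a ha b hb
      rw [Finset.mem_filter] at ha hb
      by_contra hab
      have hl0 : (ℓ l).2 = 0 := by
        have : (a - b) * (ℓ l).2 = 0 := by linear_combination ha.2 - hb.2
        rcases mul_eq_zero.mp this with h | h
        · exact absurd (sub_eq_zero.mp h) hab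
        · exact h
      have hs0 : (s l).2 = 0 := by
        have := ha.2
        rw [hl0, mul_zero, add_zero] at this
        exact this
      exact (hind l).2 hs0 hl0
    calc (C.filter (fun c => P c l)).card
        ≤ (C.filter (fun c => (s l).1 + c * (ℓ l).1 = 0) ∪
          C.filter (fun c => (s l).2 + c * (ℓ l).2 = 0)).card := Finset.card_le_card hsub
      _ ≤ _ := Finset.card_union_le _ _
      _ ≤ 2 := by omega
  -- double counting
  have hdc : ∑ c ∈ C, (Finset.univ.filter (fun l => P c l)).card =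
      ∑ l : Fin t, (C.filter (fun c => P c l)).card := by
    simp only [Finset.card_filter]
    exact Finset.sum_comm
  have hlow : 6 * t ≤ ∑ c ∈ C, ((Finset.univ.filter (fun l => P c l)).card + 3) := by
    calc 6 * t = ∑ c ∈ C, t := by rw [Finset.sum_const, hC4, smul_eq_mul]
      _ ≤ _ := Finset.sum_le_sum hb1
  rw [Finset.sum_add_distrib, Finset.sum_const, hC4, smul_eq_mul, hdc] at hlow
  have hup : ∑ l : Fin t, (C.filter (fun c => P c l)).card ≤ 2 * t := by
    calc ∑ l : Fin t, (C.filter (fun c => P c l)).card ≤ ∑ l : Fin t, 2 :=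
          Finset.sum_le_sum (fun l _ => hb2 l)
      _ = 2 * t := by rw [Finset.sum_const, Finset.card_univ, Fintype.card_fin, smul_eq_mul, mul_comm]
  omega

end Cfsg.Agent.Lib.Helper94_HP2_T1EX5
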