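import Mathlib
import Cfsg.Agent.Lib.Helper83_HP2Defs
import Cfsg.Agent.Lib.Helper43_HP2_BASIC
import Cfsg.Agent.Lib.Helper78_HP2_BLREFL
import Cfsg.Agent.Lib.Helper51_HP2_REFL2
import Cfsg.Agent.Lib.Helper34_HP2_T1FIX
import Cfsg.Agent.Lib.Helper58_HP2_T1IMG
import Cfsg.Agent.Lib.Helper24_Q2_CASESaux

set_option autoImplicit false
set_option linter.unusedSectionVars false
set_option linter.unusedVariables false

/-!
HP2 market (architect helper83), package HP2-T1LY (helper94): in case (T-1) the image `g x` of a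
nonsingular vector of a plane has at most three nonsingular coordinates.
-/

namespace Cfsg.Agent.Lib.Helper94_HP2_T1LY

open Module Cfsg.Agent.Lib.Helper94_Symp Cfsg.Agent.Lib.Helper94_OrthSmall
  Cfsg.Agent.Lib.Helper94_OrthSiegel Cfsg.Agent.Lib.Helper94_OrthNondeg
  Cfsg.Agent.Lib.Helper29_ODDefs Cfsg.Agent.Lib.Helper94_Q2Defs Cfsg.Agent.Lib.Helper83_HP2Defs

open Cfsg.Agent.Lib.Helper43_HP2_BASIC

variable {F : Type*} [Field F] [Finite F] {t : ℕ} {S M L : Subgroup (PV F t ≃ₗ[F] PV F t)}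

/-- Two elements of the same square class have a square product. -/
lemma same_class {u v : F} (h : IsSquare u ↔ IsSquare v) : IsSquare (u * v) := by
  by_cases hu : IsSquare u
  · exact hu.mul (h.mp hu)
  · exact Cfsg.Agent.Lib.Helper24_Q2_CASESaux.isSquare_mul_of_not_isSquare hu
      (fun hv => hu (h.mpr hv))

/-- Four elements and two classes: three in one class, or two pairs. -/
lemma cls4 (ν : Fin 4 → F) :
    (∃ i j k : Fin 4, i ≠ j ∧ i ≠ k ∧ j ≠ k ∧ IsSquare (ν i * ν j) ∧ IsSquare (ν i * ν k) ∧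
      IsSquare (ν j * ν k)) ∨
    (∃ i j k l : Fin 4, i ≠ j ∧ i ≠ k ∧ i ≠ l ∧ j ≠ k ∧ j ≠ l ∧ k ≠ l ∧ IsSquare (ν i * ν j) ∧
      IsSquare (ν k * ν l)) := by
  have e3 : ∀ {A B C : Prop}, ¬ (A ↔ B) → ¬ (A ↔ C) → (B ↔ C) := by
    intro A B C h1 h2
    tauto
  have tr : ∀ {A B C : Prop}, (A ↔ B) → (A ↔ C) → (B ↔ C) := by
    intro A B C h1 h2
    tauto
  have n01 : (0 : Fin 4) ≠ 1 := by decide
  have n02 : (0 : Fin 4) ≠ 2 := by decide
  have n03 : (0 : Fin 4) ≠ 3 := by decide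
  have n12 : (1 : Fin 4) ≠ 2 := by decide
  have n13 : (1 : Fin 4) ≠ 3 := by decide
  have n23 : (2 : Fin 4) ≠ 3 := by decide
  by_cases h01 : IsSquare (ν 0) ↔ IsSquare (ν 1)
  · by_cases h02 : IsSquare (ν 0) ↔ IsSquare (ν 2)
    · exact Or.inl ⟨0, 1, 2, n01, n02, n12, same_class h01, same_class h02,
        same_class (tr h01 h02)⟩
    · by_cases h03 : IsSquare (ν 0) ↔ IsSquare (ν 3)
      · exact Or.inl ⟨0, 1, 3, n01, n03, n13, same_class h01, same_class h03,
          same_class (tr h01 h03)⟩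
      · exact Or.inr ⟨0, 1, 2, 3, n01, n02, n03, n12, n13, n23, same_class h01,
          same_class (e3 h02 h03)⟩
  · by_cases h02 : IsSquare (ν 0) ↔ IsSquare (ν 2)
    · by_cases h03 : IsSquare (ν 0) ↔ IsSquare (ν 3)
      · exact Or.inl ⟨0, 2, 3, n02, n03, n23, same_class h02, same_class h03,
          same_class (tr h02 h03)⟩
      · exact Or.inr ⟨0, 2, 1, 3, n02, n01, n03, n12.symm, n23, n13, same_class h02,
          same_class (e3 h01 h03)⟩
    · by_cases h03 : IsSquare (ν 0) ↔ IsSquare (ν 3)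
      · exact Or.inr ⟨0, 3, 1, 2, n03, n01, n02, n13.symm, n23.symm, n12, same_class h03,
          same_class (e3 h01 h02)⟩
      · exact Or.inl ⟨1, 2, 3, n12, n13, n23, same_class (e3 h01 h02),
          same_class (e3 h01 h03), same_class (e3 h02 h03)⟩

/-- The reflection in a vector of the plane `a` changes only the coordinate `a`. -/
lemma refl_coord {a : Fin t} {n : PV F t} (hn : n ∈ pD F t a) (hn0 : pQ F t n ≠ 0)
    (v : PV F t) (b : Fin t) :
    prefl F t hn0 v b = if b = a then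
      v a - ((pQ F t n)⁻¹ * ((v a).1 * (n a).2 + (v a).2 * (n a).1)) • n a else v b := by
  rw [refl_apply, pB_of_mem hn v, Pi.sub_apply, Pi.smul_apply]
  by_cases hb : b = a
  · subst hb
    rw [if_pos rfl]
  · rw [if_neg hb, hn b hb, smul_zero, sub_zero]

/-- `ρ` acts on the coordinate `a` as the reflection in `n`. -/
def ActsLike (ρ : PV F t ≃ₗ[F] PV F t) (a : Fin t) (n : PV F t) : Prop :=
  ∀ v, ρ v a = v a - ((pQ F t n)⁻¹ * ((v a).1 * (n a).2 + (v a).2 * (n a).1)) • n a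

/-- `ρ` does not change the coordinate `a`. -/
def Away (ρ : PV F t ≃ₗ[F] PV F t) (a : Fin t) : Prop := ∀ v, ρ v a = v a

lemma actsLike_refl {a : Fin t} {n : PV F t} (hn : n ∈ pD F t a) (hn0 : pQ F t n ≠ 0) :
    ActsLike (prefl F t hn0) a n := by
  intro v
  rw [refl_coord hn hn0, if_pos rfl]

lemma away_refl {a b : Fin t} (hab : b ≠ a) {n : PV F t} (hn : n ∈ pD F t a)
    (hn0 : pQ F t n ≠ 0) : Away (prefl F t hn0) b := by
  intro v
  rw [refl_coord hn hn0, if_neg hab]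

lemma actsLike_mul_away {ρ ρ' : PV F t ≃ₗ[F] PV F t} {a : Fin t} {n : PV F t}
    (h : ActsLike ρ a n) (h' : Away ρ' a) : ActsLike (ρ * ρ') a n := by
  intro v
  rw [LinearEquiv.mul_apply, h, h']

lemma away_mul_actsLike {ρ ρ' : PV F t ≃ₗ[F] PV F t} {a : Fin t} {n : PV F t}
    (h : Away ρ a) (h' : ActsLike ρ' a n) : ActsLike (ρ * ρ') a n := by
  intro v
  rw [LinearEquiv.mul_apply, h, h']

lemma away_mul {ρ ρ' : PV F t ≃ₗ[F] PV F t} {a : Fin t} (h : Away ρ a) (h' : Away ρ' a) :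
    Away (ρ * ρ') a := by
  intro v
  rw [LinearEquiv.mul_apply, h, h']

/-- The reflection in a nonzero multiple of `n` is the reflection in `n`. -/
lemma prefl_smul {n : PV F t} (hn0 : pQ F t n ≠ 0) {c : F} (hc : c ≠ 0)
    (hcn : pQ F t (c • n) ≠ 0) : prefl F t hcn = prefl F t hn0 := by
  ext v : 1
  rw [refl_apply, refl_apply, pQs, map_smul, smul_eq_mul, smul_smul]
  congr 2
  field_simp

/-- The product of two block reflections in vectors whose norms have a square product lies in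
`S ⊓ Ω` and fixes every vector orthogonal to both. -/
lemma pair_mem (hS : IsDStab (pD F t) S) {y : PV F t} {a b : Fin t} (hab : a ≠ b)
    {n n' : PV F t} (hn : n ∈ pD F t a) (hn' : n' ∈ pD F t b)
    (hsq : IsSquare (pQ F t n * pQ F t n')) (hn0 : pQ F t n ≠ 0) (hn0' : pQ F t n' ≠ 0)
    (h1 : pB F t y n = 0) (h2 : pB F t y n' = 0) :
    prefl F t hn0 * prefl F t hn0' ∈ S ⊓ pOm F t ∧
      (prefl F t hn0 * prefl F t hn0') y = y := by
  refine ⟨⟨?_, ?_⟩, ?_⟩
  · exact S.mul_mem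
      (Cfsg.Agent.Lib.Helper78_HP2_BLREFL.BLREFL S hS ⟨hn0, a, hn⟩ hn0)
      (Cfsg.Agent.Lib.Helper78_HP2_BLREFL.BLREFL S hS ⟨hn0', b, hn'⟩ hn0')
  · obtain ⟨r, hr⟩ := hsq
    have hr0 : r ≠ 0 := by
      intro h0
      rw [h0, mul_zero] at hr
      exact mul_ne_zero hn0 hn0' hr
    have hc : r / pQ F t n' ≠ 0 := div_ne_zero hr0 hn0'
    have hQ' : pQ F t ((r / pQ F t n') • n') = pQ F t n := by
      rw [pQs]
      field_simp
      linear_combination -hr
    have hcn : pQ F t ((r / pQ F t n') • n') ≠ 0 := by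
      rw [hQ']
      exact hn0
    have := Cfsg.Agent.Lib.Helper51_HP2_REFL2.REFL2 hab hn ((pD F t b).smul_mem _ hn')
      hQ'.symm hn0 hcn
    rw [prefl_smul hn0' hc hcn] at this
    exact this
  · have e : prefl F t hn0' y = y := by
      rw [refl_apply, h2, mul_zero, zero_smul, sub_zero]
    rw [LinearEquiv.mul_apply, e, refl_apply, h1, mul_zero, zero_smul, sub_zero]

lemma single_eq (i₀ : Fin t) (α β : F) :
    (Pi.single i₀ (α, β) : PV F t) = α • (pe i₀ : PV F t) + β • (pf i₀ : PV F t) := by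
  classical
  funext j
  by_cases hj : j = i₀
  · subst hj
    simp [pe, pf]
  · simp [pe, pf, Pi.single_eq_of_ne hj]

/-- The final contradiction: an element acting at the coordinate `a` as the reflection in the
perpendicular of `g x a` cannot fix `g (pD i₀)` pointwise. -/
lemma final (hC : PCtx2 F t S M)
    (hFS : ∀ g ∈ M, g ∉ S → ∀ x, IsPBl x → ∀ l, g x l ≠ 0)
    {g : PV F t ≃ₗ[F] PV F t} (hg : g ∈ M) (hgS : g ∉ S) {i₀ : Fin t} {x : PV F t}
    (hx : x ∈ pD F t i₀) (hx0 : pQ F t x ≠ 0) (a : Fin t) (hζ : ¬ Sing (g x a))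
    (ρ : PV F t ≃ₗ[F] PV F t)
    (hact : ActsLike ρ a (Pi.single a ((g x a).1, -(g x a).2)))
    (hfix : ∀ v ∈ pD F t i₀, ρ (g v) = g v) : False := by
  classical
  have hζ' : (g x a).1 * (g x a).2 ≠ 0 := hζ
  have hζ1 : (g x a).1 ≠ 0 := left_ne_zero_of_mul hζ'
  have hζ2 : (g x a).2 ≠ 0 := right_ne_zero_of_mul hζ'
  set ζ := g x a with hζdef
  have hQn : pQ F t (Pi.single a (ζ.1, -ζ.2) : PV F t) ≠ 0 := by
    rw [pQ_of_mem (single_mem a _), Pi.single_eq_same]
    exact mul_ne_zero hζ1 (neg_ne_zero.mpr hζ2)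
  -- every vector of `g (pD i₀)` has its coordinate at `a` proportional to `ζ`
  have hstar : ∀ v ∈ pD F t i₀, (g v a).2 * ζ.1 = (g v a).1 * ζ.2 := by
    intro v hv
    have h1 := hact (g v)
    rw [hfix v hv, Pi.single_eq_same] at h1
    have h2 : ((pQ F t (Pi.single a (ζ.1, -ζ.2) : PV F t))⁻¹ *
        ((g v a).1 * -ζ.2 + (g v a).2 * ζ.1)) • (ζ.1, -ζ.2) = (0 : F × F) := by
      have h3 := sub_eq_self.mp h1.symm
      exact h3
    have h4 : (pQ F t (Pi.single a (ζ.1, -ζ.2) : PV F t))⁻¹ *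
        ((g v a).1 * -ζ.2 + (g v a).2 * ζ.1) * ζ.1 = 0 := congrArg Prod.fst h2
    have h5 := (mul_eq_zero.mp h4).resolve_right hζ1
    have h6 := (mul_eq_zero.mp h5).resolve_left (inv_ne_zero hQn)
    linear_combination h6
  have hs := hstar (pe i₀) (single_mem i₀ _)
  have hℓ := hstar (pf i₀) (single_mem i₀ _)
  -- the image of `single i₀ (α, β)`
  have himg : ∀ α β : F, g (Pi.single i₀ (α, β)) a = α • g (pe i₀) a + β • g (pf i₀) a := by
    intro α β
    rw [single_eq, map_add, map_smul, map_smul]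
    rfl
  have hxe : x = Pi.single i₀ ((x i₀).1, (x i₀).2) := eq_single_of_mem hx
  have hαβ : (x i₀).1 * (x i₀).2 ≠ 0 := by
    rw [← pQ_of_mem hx]
    exact hx0
  have hζe : ζ = (x i₀).1 • g (pe i₀) a + (x i₀).2 • g (pf i₀) a := by
    rw [← himg, ← hxe]
  -- one of the two coordinates vanishes
  have hor : g (pe i₀) a = 0 ∨ g (pf i₀) a = 0 := by
    by_contra hcon
    push_neg at hcon
    obtain ⟨hs0, hℓ0⟩ := hcon
    have hs1 : (g (pe i₀) a).1 ≠ 0 := by
      intro h0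
      apply hs0
      rw [h0, zero_mul] at hs
      ext
      · exact h0
      · exact (mul_eq_zero.mp hs).resolve_right hζ1
    have hℓ1 : (g (pf i₀) a).1 ≠ 0 := by
      intro h0
      apply hℓ0
      rw [h0, zero_mul] at hℓ
      ext
      · exact h0
      · exact (mul_eq_zero.mp hℓ).resolve_right hζ1
    have hbl : IsPBl (Pi.single i₀ ((g (pf i₀) a).1, -(g (pe i₀) a).1) : PV F t) := by
      refine ⟨?_, i₀, single_mem i₀ _⟩
      rw [pQ_of_mem (single_mem i₀ _), Pi.single_eq_same]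
      exact mul_ne_zero hℓ1 (neg_ne_zero.mpr hs1)
    apply hFS g hg hgS _ hbl a
    rw [himg]
    ext
    · simp only [Prod.fst_add, Prod.smul_fst, smul_eq_mul, Prod.fst_zero]
      ring
    · simp only [Prod.snd_add, Prod.smul_snd, smul_eq_mul, Prod.snd_zero]
      have : ((g (pf i₀) a).1 * (g (pe i₀) a).2 + -(g (pe i₀) a).1 * (g (pf i₀) a).2) * ζ.1
          = 0 := by
        linear_combination (g (pf i₀) a).1 * hs - (g (pe i₀) a).1 * hℓ
      exact (mul_eq_zero.mp this).resolve_right hζ1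
  rcases hor with hs0 | hℓ0
  · have hsing := Cfsg.Agent.Lib.Helper58_HP2_T1IMG.T1IMG hC hFS hg hgS i₀ a hs0
    have hsing' : (g (pf i₀) a).1 * (g (pf i₀) a).2 = 0 := hsing
    have hℓ0 : g (pf i₀) a = 0 := by
      rcases mul_eq_zero.mp hsing' with h0 | h0
      · rw [h0, zero_mul] at hℓ
        ext
        · exact h0
        · exact (mul_eq_zero.mp hℓ).resolve_right hζ1
      · rw [h0, zero_mul] at hℓ
        ext
        · exact (mul_eq_zero.mp hℓ.symm).resolve_right hζ2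
        · exact h0
    apply hζ1
    rw [hζe, hs0, hℓ0]
    simp
  · have hsing := Cfsg.Agent.Lib.Helper58_HP2_T1IMG.T1IMG' hC hFS hg hgS i₀ a hℓ0
    have hsing' : (g (pe i₀) a).1 * (g (pe i₀) a).2 = 0 := hsing
    have hs0 : g (pe i₀) a = 0 := by
      rcases mul_eq_zero.mp hsing' with h0 | h0
      · rw [h0, zero_mul] at hs
        ext
        · exact h0
        · exact (mul_eq_zero.mp hs).resolve_right hζ1
      · rw [h0, zero_mul] at hs
        ext
        · exact (mul_eq_zero.mp hs.symm).resolve_right hζ2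
        · exact h0
    apply hζ1
    rw [hζe, hs0, hℓ0]
    simp

/-- **HP2-T1LY** [L] -/
theorem T1LY (hC : PCtx2 F t S M) (hall : ∀ x, IsPBl x → PCStar S M x)
    (hFS : ∀ g ∈ M, g ∉ S → ∀ x, IsPBl x → ∀ l, g x l ≠ 0)
    {g : PV F t ≃ₗ[F] PV F t} (hg : g ∈ M) (hgS : g ∉ S) {i₀ : Fin t} {x : PV F t}
    (hx : x ∈ pD F t i₀) (hx0 : pQ F t x ≠ 0) (l : Fin 4 → Fin t) (hl : Function.Injective l)
    (hk : ∀ k, ¬ Sing (g x (l k))) : False := by
  classical
  -- the perpendiculars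
  set n : Fin 4 → PV F t := fun k => Pi.single (l k) ((g x (l k)).1, -(g x (l k)).2) with hn
  have hnmem : ∀ k, n k ∈ pD F t (l k) := fun k => single_mem (l k) _
  have hnl : ∀ k, n k (l k) = ((g x (l k)).1, -(g x (l k)).2) := fun k => Pi.single_eq_same _ _
  have hnQ : ∀ k, pQ F t (n k) ≠ 0 := by
    intro k
    rw [pQ_of_mem (hnmem k), hnl]
    have h := hk k
    have h' : (g x (l k)).1 * (g x (l k)).2 ≠ 0 := h
    intro h0
    apply h'
    linear_combination -h0
  have hny : ∀ k, pB F t (g x) (n k) = 0 := by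
    intro k
    rw [pB_of_mem (hnmem k), hnl]
    ring
  have hlne : ∀ {i j : Fin 4}, i ≠ j → l i ≠ l j := fun hij h => hij (hl h)
  -- pairs of reflections
  have hpair : ∀ {i j : Fin 4}, i ≠ j → IsSquare (pQ F t (n i) * pQ F t (n j)) →
      prefl F t (hnQ i) * prefl F t (hnQ j) ∈ S ⊓ pOm F t ∧
        (prefl F t (hnQ i) * prefl F t (hnQ j)) (g x) = g x := by
    intro i j hij hsq
    exact pair_mem hC.hS (hlne hij) (hnmem i) (hnmem j) hsq (hnQ i) (hnQ j) (hny i) (hny j)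
  have hA : ∀ k, ActsLike (prefl F t (hnQ k)) (l k) (n k) := fun k =>
    actsLike_refl (hnmem k) (hnQ k)
  have hW : ∀ {i j : Fin 4}, i ≠ j → Away (prefl F t (hnQ i)) (l j) := fun hij =>
    away_refl (hlne (Ne.symm hij)) (hnmem _) (hnQ _)
  have hfin : ∀ (k : Fin 4) (ρ : PV F t ≃ₗ[F] PV F t), ActsLike ρ (l k) (n k) →
      (∀ v ∈ pD F t i₀, ρ (g v) = g v) → False := by
    intro k ρ hact hfix
    exact final hC hFS hg hgS hx hx0 (l k) (hk k) ρ hact hfix
  rcases cls4 (fun k => pQ F t (n k)) with ⟨i, j, k, hij, hik, hjk, s1, s2, s3⟩ |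
    ⟨i, j, k, m, hij, hik, him, hjk, hjm, hkm, s1, s2⟩
  · obtain ⟨m1, f1⟩ := hpair hij s1
    obtain ⟨m2, f2⟩ := hpair hik s2
    rcases Cfsg.Agent.Lib.Helper34_HP2_T1FIX.T1FIX hC hall hg hx hx0 m1 f1 m2 f2 with h | h | h
    · exact hfin i _ (actsLike_mul_away (hA i) (hW (Ne.symm hij))) h
    · exact hfin i _ (actsLike_mul_away (hA i) (hW (Ne.symm hik))) h
    · refine hfin j _ ?_ h
      exact actsLike_mul_away (away_mul_actsLike (hW hij) (hA j))
        (away_mul (hW hij) (hW (Ne.symm hjk)))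
  · obtain ⟨m1, f1⟩ := hpair hij s1
    obtain ⟨m2, f2⟩ := hpair hkm s2
    rcases Cfsg.Agent.Lib.Helper34_HP2_T1FIX.T1FIX hC hall hg hx hx0 m1 f1 m2 f2 with h | h | h
    · exact hfin i _ (actsLike_mul_away (hA i) (hW (Ne.symm hij))) h
    · exact hfin k _ (actsLike_mul_away (hA k) (hW (Ne.symm hkm))) h
    · refine hfin i _ ?_ h
      exact actsLike_mul_away (actsLike_mul_away (hA i) (hW (Ne.symm hij)))
        (away_mul (hW (Ne.symm hik)) (hW (Ne.symm him)))

end Cfsg.Agent.Lib.Helper94_HP2_T1LY
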