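import Mathlib
import Cfsg.Agent.Lib.Helper94_P2Defs
import Cfsg.Agent.Lib.Helper70_Q2_TAN

set_option autoImplicit false
set_option linter.unusedSectionVars false
set_option linter.unusedVariables false

/-!
HP-TANP: tangent pairs for hyperbolic planes (market HP, row S5692).  (helper94)
-/

namespace Cfsg.Agent.Lib.Helper94_HP_TANP

open Module Cfsg.Agent.Lib.Helper94_Symp Cfsg.Agent.Lib.Helper94_OrthSmall
  Cfsg.Agent.Lib.Helper94_OrthSiegel Cfsg.Agent.Lib.Helper94_OrthNondeg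
  Cfsg.Agent.Lib.Helper29_ODDefs Cfsg.Agent.Lib.Helper94_OD3Defs Cfsg.Agent.Lib.Helper94_P2Defs

variable {F : Type*} [Field F] [Finite F] {t : ℕ} {S M L : Subgroup (PV F t ≃ₗ[F] PV F t)}

lemma pQ_single (l : Fin t) (ζ : F × F) : pQ F t (Pi.single l ζ) = pN F ζ := by
  classical
  unfold pQ
  rw [Finset.sum_eq_single l]
  · rw [Pi.single_eq_same]
  · intro j _ hj
    rw [Pi.single_eq_of_ne hj]
    simp [pN]
  · intro h
    exact absurd (Finset.mem_univ l) h

lemma pB_single (v : PV F t) (l : Fin t) (ζ : F × F) :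
    pB F t v (Pi.single l ζ) = pT F (v l) ζ := by
  classical
  rw [pB_apply, Finset.sum_eq_single l]
  · rw [Pi.single_eq_same]
    rfl
  · intro j _ hj
    rw [Pi.single_eq_of_ne hj]
    simp
  · intro h
    exact absurd (Finset.mem_univ l) h

/-- The block reflection in `(1, -b)`: `(α, β) ↦ (β / b, b α)`. -/
def rb (b : F) (z : F × F) : F × F := (z.2 / b, b * z.1)

lemma pQ_sb (l : Fin t) {b : F} (hb : b ≠ 0) : pQ F t (Pi.single l ((1 : F), -b)) ≠ 0 := by
  rw [pQ_single]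
  simp only [pN, one_mul]
  exact neg_ne_zero.mpr hb

lemma refl_sb (l : Fin t) {b : F} (hb : b ≠ 0) (v : PV F t) (j : Fin t) :
    prefl F t (pQ_sb l hb) v j = if j = l then rb b (v j) else v j := by
  classical
  rw [refl_apply, pB_single, pQ_single]
  by_cases hj : j = l
  · subst hj
    rw [if_pos rfl, Pi.sub_apply, Pi.smul_apply, Pi.single_eq_same]
    simp only [pN, pT, rb, one_mul, mul_one]
    ext
    · simp only [Prod.fst_sub, Prod.smul_fst, smul_eq_mul, mul_one]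
      field_simp
      ring
    · simp only [Prod.snd_sub, Prod.smul_snd, smul_eq_mul]
      field_simp
      ring
  · rw [if_neg hj, Pi.sub_apply, Pi.smul_apply, Pi.single_eq_of_ne hj, smul_zero, sub_zero]

lemma sb_PBl (l : Fin t) {b : F} (hb : b ≠ 0) : PBl (Pi.single l ((1 : F), -b) : PV F t) := by
  classical
  refine ⟨pQ_sb l hb, l, ?_⟩
  intro j hj
  rw [Pi.single_eq_of_ne hj]

/-- The general mechanism: `h ∈ L` acts coordinatewise on the coordinates `l`, `m` only. -/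
lemma tan_gen (hC : CtxPR F t S L) {w : PV F t} {l m : Fin t}
    {h : PV F t ≃ₗ[F] PV F t} (hhL : h ∈ L) (φl φm : F × F → F × F)
    (hact : ∀ v j, h v j = if j = l then φl (v j) else if j = m then φm (v j) else v j)
    (hQu : pQ F t (w - h w) = 0) :
    pB F t (w - h w) w = 0 ∧ (∀ i, i ≠ l → i ≠ m → (w - h w) i = 0) ∧
      ∀ w' : PV F t, PInRc L w' → w' l = w l → w' m = w m → pQ F t w' = pQ F t w →
        sieg (pQ F t) (pB F t) (w - h w) ((pQ F t w)⁻¹ • w') ∈ L := by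
  have hQs := pQs F t
  have hQp := pQp F t
  have hhO : h ∈ oG (pQ F t) := hC.hLO hhL
  refine ⟨?_, ?_, ?_⟩
  · exact Cfsg.Agent.Lib.Helper70_Q2_TAN.tan_orth (pQ F t) (pB F t) hQs hQp (hhO w).symm hQu
  · intro i hil him
    rw [Pi.sub_apply, hact, if_neg hil, if_neg him, sub_self]
  · intro w' hw' hl' hm' hQ'
    have hu' : w' - h w' = w - h w := by
      funext j
      rw [Pi.sub_apply, Pi.sub_apply, hact, hact]
      by_cases hjl : j = l
      · subst hjl
        rw [if_pos rfl, if_pos rfl, hl']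
      · rw [if_neg hjl, if_neg hjl]
        by_cases hjm : j = m
        · subst hjm
          rw [if_pos rfl, if_pos rfl, hm']
        · rw [if_neg hjm, if_neg hjm, sub_self, sub_self]
    obtain ⟨hw'0, hw'L⟩ := hw'
    have hQhw' : pQ F t (h w') ≠ 0 := by
      rw [hhO w']
      exact hw'0
    have hrL : prefl F t hQhw' ∈ L := by
      have := conj_refl (pQ F t) (pB F t) hQs hQp hhO hw'0
      have h2 : h * prefl F t hw'0 * h⁻¹ ∈ L := L.mul_mem (L.mul_mem hhL hw'L) (L.inv_mem hhL)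
      rw [this] at h2
      exact h2
    have := Cfsg.Agent.Lib.Helper70_Q2_TAN.TAN_mem (pQ F t) (pB F t) hQs hQp hw'0 hQhw'
      (hhO w').symm (by rw [hu']; exact hQu) L hw'L hrL
    rw [hu', hQ'] at this
    exact this

lemma exists_ne01 (hq : 7 ≤ Nat.card F) : ∃ c : F, c ≠ 0 ∧ c ≠ 1 := by
  classical
  have := Fintype.ofFinite F
  by_contra hcon
  push_neg at hcon
  have hsub : (Finset.univ : Finset F) ⊆ {0, 1} := by
    intro x _
    by_cases hx : x = 0
    · simp [hx]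
    · simp [hcon x hx]
  have h1 := Finset.card_le_card hsub
  have h2 : ({0, 1} : Finset F).card ≤ 2 := Finset.card_le_two
  rw [Finset.card_univ, ← Nat.card_eq_fintype_card] at h1
  omega

/-- Case (a): a singular nonzero coordinate. -/
lemma caseA (hC : CtxPR F t S L) {w : PV F t} {l : Fin t} (hl : w l ≠ 0)
    (hs : pN F (w l) = 0) :
    ∃ u : PV F t, pQ F t u = 0 ∧ u ≠ 0 ∧ pB F t u w = 0 ∧ u ∈ pD F t l ∧
      ∀ w' : PV F t, PInRc L w' → w' l = w l → pQ F t w' = pQ F t w →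
        sieg (pQ F t) (pB F t) u ((pQ F t w)⁻¹ • w') ∈ L := by
  classical
  obtain ⟨c, hc0, hc1⟩ := exists_ne01 hC.hq
  have h1 : (1 : F) ≠ 0 := one_ne_zero
  set h : PV F t ≃ₗ[F] PV F t := prefl F t (pQ_sb l h1) * prefl F t (pQ_sb l hc0) with hh
  have hhL : h ∈ L :=
    L.mul_mem (hC.hR _ (sb_PBl l h1) _) (hC.hR _ (sb_PBl l hc0) _)
  have hact : ∀ v j, h v j = if j = l then dAct F c (v j) else if j = l then v j else v j := by
    intro v j
    rw [hh, LinearEquiv.mul_apply, refl_sb l h1, refl_sb l hc0]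
    by_cases hj : j = l
    · rw [if_pos hj, if_pos hj, if_pos hj]
      simp only [rb, dAct, div_one, one_mul]
      ext
      · rfl
      · simp only [div_eq_mul_inv]
        ring
    · rw [if_neg hj, if_neg hj, if_neg hj, if_neg hj]
  have hmem : w - h w ∈ pD F t l := by
    intro j hj
    rw [Pi.sub_apply, hact, if_neg hj, if_neg hj, sub_self]
  have hul : (w - h w) l = ((1 - c) * (w l).1, (1 - c⁻¹) * (w l).2) := by
    rw [Pi.sub_apply, hact, if_pos rfl]
    simp only [dAct]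
    ext
    · simp only [Prod.fst_sub]
      ring
    · simp only [Prod.snd_sub]
      ring
  have hQu : pQ F t (w - h w) = 0 := by
    unfold pQ
    rw [Finset.sum_eq_single l]
    · rw [hul]
      simp only [pN] at hs ⊢
      linear_combination (1 - c) * (1 - c⁻¹) * hs
    · intro j _ hj
      rw [hmem j hj]
      simp [pN]
    · intro hh'
      exact absurd (Finset.mem_univ l) hh'
  obtain ⟨h1', -, h3'⟩ := tan_gen hC (w := w) (l := l) (m := l) hhL (dAct F c) id hact hQu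
  refine ⟨w - h w, hQu, ?_, h1', hmem, ?_⟩
  · intro h0
    have h0l : (w - h w) l = 0 := by rw [h0]; rfl
    rw [hul] at h0l
    have hc1' : (1 : F) - c ≠ 0 := sub_ne_zero.mpr (Ne.symm hc1)
    have hc2' : (1 : F) - c⁻¹ ≠ 0 := by
      intro h'
      apply hc1
      have : c⁻¹ = 1 := (sub_eq_zero.mp h').symm
      rw [inv_eq_one] at this
      exact this
    have e1 : (1 - c) * (w l).1 = 0 := congrArg Prod.fst h0l
    have e2 : (1 - c⁻¹) * (w l).2 = 0 := congrArg Prod.snd h0l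
    apply hl
    ext
    · exact (mul_eq_zero.mp e1).resolve_left hc1'
    · exact (mul_eq_zero.mp e2).resolve_left hc2'
  · intro w' hw' hl' hQ'
    exact h3' w' hw' hl' hl' hQ'

lemma exists_sigma (hq : 7 ≤ Nat.card F) {α₁ β₁ α₂ β₂ : F} (h1 : α₁ ≠ 0) (h2 : β₁ ≠ 0)
    (h3 : α₂ ≠ 0) (h4 : β₂ ≠ 0) :
    ∃ σ : F, σ ≠ 0 ∧ α₁ + σ * α₂ ≠ 0 ∧ σ * β₁ - β₂ ≠ 0 ∧
      α₁ * β₂ + σ ^ 2 * (α₂ * β₁) ≠ 0 := by
  classical
  have := Fintype.ofFinite F
  by_contra hcon
  push_neg at hcon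
  -- a root of the quadratic condition, if there is one
  by_cases hex : ∃ σ₀ : F, α₁ * β₂ + σ₀ ^ 2 * (α₂ * β₁) = 0
  · obtain ⟨σ₀, hσ₀⟩ := hex
    have hsub : (Finset.univ : Finset F) ⊆ {0, -α₁ / α₂, β₂ / β₁, σ₀, -σ₀} := by
      intro x _
      by_cases hx0 : x = 0
      · simp [hx0]
      by_cases hx1 : α₁ + x * α₂ = 0
      · have : x = -α₁ / α₂ := by
          field_simp
          linear_combination hx1
        simp [this]
      by_cases hx2 : x * β₁ - β₂ = 0
      · have : x = β₂ / β₁ := by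
          field_simp
          linear_combination hx2
        simp [this]
      have hx3 := hcon x hx0 hx1 hx2
      have hprod : (x - σ₀) * (x + σ₀) = 0 := by
        have h5 : α₂ * β₁ ≠ 0 := mul_ne_zero h3 h2
        have : (α₂ * β₁) * ((x - σ₀) * (x + σ₀)) = 0 := by
          linear_combination hx3 - hσ₀
        exact (mul_eq_zero.mp this).resolve_left h5
      rcases mul_eq_zero.mp hprod with h6 | h6
      · have : x = σ₀ := sub_eq_zero.mp h6
        simp [this]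
      · have : x = -σ₀ := eq_neg_of_add_eq_zero_left h6
        simp [this]
    have hc1 := Finset.card_le_card hsub
    have hc2 : ({0, -α₁ / α₂, β₂ / β₁, σ₀, -σ₀} : Finset F).card ≤ 5 :=
      Finset.card_le_five
    rw [Finset.card_univ, ← Nat.card_eq_fintype_card] at hc1
    omega
  · push_neg at hex
    have hsub : (Finset.univ : Finset F) ⊆ {0, -α₁ / α₂, β₂ / β₁} := by
      intro x _
      by_cases hx0 : x = 0
      · simp [hx0]
      by_cases hx1 : α₁ + x * α₂ = 0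
      · have : x = -α₁ / α₂ := by
          field_simp
          linear_combination hx1
        simp [this]
      by_cases hx2 : x * β₁ - β₂ = 0
      · have : x = β₂ / β₁ := by
          field_simp
          linear_combination hx2
        simp [this]
      exact absurd (hcon x hx0 hx1 hx2) (hex x)
    have hc1 := Finset.card_le_card hsub
    have hc2 : ({0, -α₁ / α₂, β₂ / β₁} : Finset F).card ≤ 3 := Finset.card_le_three
    rw [Finset.card_univ, ← Nat.card_eq_fintype_card] at hc1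
    omega

/-- Case (b): two nonsingular coordinates. -/
lemma caseB (hC : CtxPR F t S L) {w : PV F t} {l m : Fin t} (hlm : l ≠ m)
    (hl : pN F (w l) ≠ 0) (hm : pN F (w m) ≠ 0) :
    ∃ u : PV F t, pQ F t u = 0 ∧ u ≠ 0 ∧ pB F t u w = 0 ∧ (∀ i, i ≠ l → i ≠ m → u i = 0) ∧
      (pN F (u l) ≠ 0 ∧ pN F (u m) ≠ 0) ∧
      ∀ w' : PV F t, PInRc L w' → w' l = w l → w' m = w m → pQ F t w' = pQ F t w →
        sieg (pQ F t) (pB F t) u ((pQ F t w)⁻¹ • w') ∈ L := by
  classical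
  rcases hwl : w l with ⟨α₁, β₁⟩
  rcases hwm : w m with ⟨α₂, β₂⟩
  have hα₁ : α₁ ≠ 0 := by
    intro h0; apply hl; rw [hwl, h0]; simp [pN]
  have hβ₁ : β₁ ≠ 0 := by
    intro h0; apply hl; rw [hwl, h0]; simp [pN]
  have hα₂ : α₂ ≠ 0 := by
    intro h0; apply hm; rw [hwm, h0]; simp [pN]
  have hβ₂ : β₂ ≠ 0 := by
    intro h0; apply hm; rw [hwm, h0]; simp [pN]
  obtain ⟨σ, hσ0, hD, hN, hK⟩ := exists_sigma hC.hq hα₁ hβ₁ hα₂ hβ₂
  set b₁ : F := (σ * β₁ - β₂) / (σ * (α₁ + σ * α₂)) with hb₁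
  have hb₁0 : b₁ ≠ 0 := div_ne_zero hN (mul_ne_zero hσ0 hD)
  set b₂ : F := -b₁ * σ ^ 2 with hb₂
  have hb₂0 : b₂ ≠ 0 := mul_ne_zero (neg_ne_zero.mpr hb₁0) (pow_ne_zero 2 hσ0)
  set h : PV F t ≃ₗ[F] PV F t := prefl F t (pQ_sb l hb₁0) * prefl F t (pQ_sb m hb₂0) with hh
  have hhL : h ∈ L :=
    L.mul_mem (hC.hR _ (sb_PBl l hb₁0) _) (hC.hR _ (sb_PBl m hb₂0) _)
  have hact : ∀ v j, h v j = if j = l then rb b₁ (v j) else if j = m then rb b₂ (v j)
      else v j := by
    intro v j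
    rw [hh, LinearEquiv.mul_apply, refl_sb l hb₁0, refl_sb m hb₂0]
    by_cases hj : j = l
    · rw [if_pos hj, if_pos hj, if_neg (by rw [hj]; exact hlm)]
    · rw [if_neg hj, if_neg hj]
  have hul : (w - h w) l = (α₁ - β₁ / b₁, β₁ - b₁ * α₁) := by
    rw [Pi.sub_apply, hact, if_pos rfl, hwl]
    rfl
  have hum : (w - h w) m = (α₂ - β₂ / b₂, β₂ - b₂ * α₂) := by
    rw [Pi.sub_apply, hact, if_neg (Ne.symm hlm), if_pos rfl, hwm]
    rfl
  have hsupp : ∀ i, i ≠ l → i ≠ m → (w - h w) i = 0 := by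
    intro i hil him
    rw [Pi.sub_apply, hact, if_neg hil, if_neg him, sub_self]
  have hkey : (b₁ * α₁ - β₁) * (σ * (α₁ + σ * α₂)) = -(α₁ * β₂ + σ ^ 2 * (α₂ * β₁)) := by
    rw [hb₁]
    field_simp
    ring
  have hkey0 : b₁ * α₁ - β₁ ≠ 0 := by
    intro h0
    rw [h0, zero_mul] at hkey
    exact hK (neg_eq_zero.mp hkey.symm)
  have hkey2 : b₂ * α₂ - β₂ = σ * (b₁ * α₁ - β₁) := by
    rw [hb₂, hb₁]
    field_simp
    ring
  have hNl : pN F ((w - h w) l) = -(b₁ * α₁ - β₁) ^ 2 / b₁ := by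
    rw [hul]
    simp only [pN]
    field_simp
    ring
  have hNm : pN F ((w - h w) m) = -(b₂ * α₂ - β₂) ^ 2 / b₂ := by
    rw [hum]
    simp only [pN]
    field_simp
    ring
  have hsum : pN F ((w - h w) l) + pN F ((w - h w) m) = 0 := by
    rw [hNl, hNm, hkey2, hb₂]
    field_simp
    ring
  have hQu : pQ F t (w - h w) = 0 := by
    unfold pQ
    rw [Finset.sum_eq_add l m hlm]
    · exact hsum
    · intro c _ hc
      rw [hsupp c hc.1 hc.2]
      simp [pN]
    · intro h'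
      exact absurd (Finset.mem_univ l) h'
    · intro h'
      exact absurd (Finset.mem_univ m) h'
  have hNl0 : pN F ((w - h w) l) ≠ 0 := by
    rw [hNl]
    exact div_ne_zero (neg_ne_zero.mpr (pow_ne_zero 2 hkey0)) hb₁0
  have hNm0 : pN F ((w - h w) m) ≠ 0 := by
    intro h0
    rw [h0, add_zero] at hsum
    exact hNl0 hsum
  obtain ⟨h1', h2', h3'⟩ := tan_gen hC (w := w) (l := l) (m := m) hhL (rb b₁) (rb b₂) hact hQu
  refine ⟨w - h w, hQu, ?_, h1', h2', ⟨hNl0, hNm0⟩, ?_⟩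
  swap
  · intro w' hw' hl' hm' hQ'
    exact h3' w' hw' (hl'.trans hwl.symm) (hm'.trans hwm.symm) hQ'
  intro h0
  apply hNl0
  rw [h0]
  simp [pN]

/-- **HP-TANP** tangent pairs. -/
theorem TANP (hC : CtxPR F t S L) {w : PV F t} (hw : PInRc L w) {l m : Fin t} (hlm : l ≠ m)
    (hl : w l ≠ 0) (hm : w m ≠ 0) :
    ∃ u : PV F t, pQ F t u = 0 ∧ u ≠ 0 ∧ pB F t u w = 0 ∧ (∀ i, i ≠ l → i ≠ m → u i = 0) ∧
      ((u ∈ pD F t l ∨ u ∈ pD F t m) ∨ (pN F (u l) ≠ 0 ∧ pN F (u m) ≠ 0)) ∧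
      ∀ w' : PV F t, PInRc L w' → w' l = w l → w' m = w m → pQ F t w' = pQ F t w →
        sieg (pQ F t) (pB F t) u ((pQ F t w)⁻¹ • w') ∈ L := by
  by_cases hsl : pN F (w l) = 0
  · obtain ⟨u, h1, h2, h3, h4, h5⟩ := caseA hC hl hsl
    refine ⟨u, h1, h2, h3, fun i hil _ => h4 i hil, Or.inl (Or.inl h4), ?_⟩
    intro w' hw' hl' _ hQ'
    exact h5 w' hw' hl' hQ'
  by_cases hsm : pN F (w m) = 0
  · obtain ⟨u, h1, h2, h3, h4, h5⟩ := caseA hC hm hsm
    refine ⟨u, h1, h2, h3, fun i _ him => h4 i him, Or.inl (Or.inr h4), ?_⟩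
    intro w' hw' _ hm' hQ'
    exact h5 w' hw' hm' hQ'
  obtain ⟨u, h1, h2, h3, h4, h5, h6⟩ := caseB hC hlm hsl hsm
  exact ⟨u, h1, h2, h3, h4, Or.inr h5, h6⟩

end Cfsg.Agent.Lib.Helper94_HP_TANP
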