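import Mathlib

/-!
# Groups generated by transvections: the calculus of transvection pairs (helper94)

`tve a φ` is the transvection `x ↦ x + φ x • a` (the identity when `φ a ≠ 0`).
For a subgroup `G` of `GL(V)`, `S G a φ` says `φ a = 0` and `tve a φ ∈ G`.
We record the closure rules of `S G` (additivity in each variable, conjugation, the commutator
rule `fact2`, the `SL₂`-pair rule).
-/

set_option autoImplicit false

namespace Cfsg.Agent.Lib.Helper94_McL1

open Module

variable {K V : Type*} [Field K] [AddCommGroup V] [Module K V]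

/-- The transvection `x ↦ x + φ x • a` (identity if `φ a ≠ 0`). -/
noncomputable def tve (a : V) (φ : Dual K V) : V ≃ₗ[K] V :=
  open Classical in if h : φ a = 0 then LinearEquiv.transvection h else 1

lemma tve_apply {a : V} {φ : Dual K V} (h : φ a = 0) (x : V) : tve a φ x = x + φ x • a := by
  unfold tve
  rw [dif_pos h]
  exact LinearEquiv.transvection.apply h x

lemma tve_zero_left (φ : Dual K V) : tve (0 : V) φ = 1 := by
  ext x
  rw [tve_apply (map_zero φ)]
  simp

lemma tve_zero_right (a : V) : tve a (0 : Dual K V) = 1 := by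
  ext x
  rw [tve_apply (LinearMap.zero_apply a)]
  simp

lemma tve_mul_right {a : V} {φ φ' : Dual K V} (h : φ a = 0) (h' : φ' a = 0) :
    tve a φ * tve a φ' = tve a (φ + φ') := by
  have h'' : (φ + φ') a = 0 := by rw [LinearMap.add_apply, h, h', add_zero]
  ext x
  rw [LinearEquiv.mul_apply, tve_apply h', tve_apply h, tve_apply h'']
  simp only [map_add, map_smul, smul_eq_mul, h, mul_zero, add_zero, LinearMap.add_apply]
  module

lemma tve_mul_left {a a' : V} {φ : Dual K V} (h : φ a = 0) (h' : φ a' = 0) :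
    tve a φ * tve a' φ = tve (a + a') φ := by
  have h'' : φ (a + a') = 0 := by rw [map_add, h, h', add_zero]
  ext x
  rw [LinearEquiv.mul_apply, tve_apply h', tve_apply h, tve_apply h'']
  simp only [map_add, map_smul, smul_eq_mul, h', mul_zero, add_zero]
  module

lemma tve_inv {a : V} {φ : Dual K V} (h : φ a = 0) : (tve a φ)⁻¹ = tve a (-φ) := by
  have h' : (-φ) a = 0 := by rw [LinearMap.neg_apply, h, neg_zero]
  rw [inv_eq_iff_mul_eq_one, tve_mul_right h h', add_neg_cancel, tve_zero_right]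

lemma tve_smul (c : K) (a : V) (φ : Dual K V) : tve (c • a) φ = tve a (c • φ) := by
  by_cases h : φ a = 0
  · have h1 : φ (c • a) = 0 := by rw [map_smul, h, smul_zero]
    have h2 : (c • φ) a = 0 := by rw [LinearMap.smul_apply, h, smul_zero]
    ext x
    rw [tve_apply h1, tve_apply h2, LinearMap.smul_apply, smul_eq_mul, smul_smul, mul_comm]
  · by_cases hc : c = 0
    · subst hc
      rw [zero_smul, zero_smul, tve_zero_left, tve_zero_right]
    · have h1 : φ (c • a) ≠ 0 := by
        rw [map_smul, smul_eq_mul]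
        exact mul_ne_zero hc h
      have h2 : (c • φ) a ≠ 0 := by
        rw [LinearMap.smul_apply, smul_eq_mul]
        exact mul_ne_zero hc h
      unfold tve
      rw [dif_neg h1, dif_neg h2]

/-- The functional `φ ∘ g⁻¹`. -/
noncomputable def cod (g : V ≃ₗ[K] V) (φ : Dual K V) : Dual K V :=
  φ.comp ((g⁻¹ : V ≃ₗ[K] V) : V →ₗ[K] V)

lemma cod_apply (g : V ≃ₗ[K] V) (φ : Dual K V) (x : V) : cod g φ x = φ (g⁻¹ x) := rfl

lemma apply_inv_apply' (g : V ≃ₗ[K] V) (x : V) : g (g⁻¹ x) = x := by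
  rw [← LinearEquiv.mul_apply, mul_inv_cancel]; rfl

lemma inv_apply_apply' (g : V ≃ₗ[K] V) (x : V) : g⁻¹ (g x) = x := by
  rw [← LinearEquiv.mul_apply, inv_mul_cancel]; rfl

lemma cod_apply_self (g : V ≃ₗ[K] V) (φ : Dual K V) (x : V) : cod g φ (g x) = φ x := by
  rw [cod_apply, inv_apply_apply']

lemma conj_tve (g : V ≃ₗ[K] V) {a : V} {φ : Dual K V} (h : φ a = 0) :
    g * tve a φ * g⁻¹ = tve (g a) (cod g φ) := by
  have h' : cod g φ (g a) = 0 := by rw [cod_apply_self, h]
  ext x
  rw [LinearEquiv.mul_apply, LinearEquiv.mul_apply, tve_apply h, tve_apply h', map_add, map_smul,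
    apply_inv_apply', cod_apply]

lemma tve_inv_apply {a : V} {φ : Dual K V} (h : φ a = 0) (x : V) :
    (tve a φ)⁻¹ x = x - φ x • a := by
  have h' : (-φ) a = 0 := by rw [LinearMap.neg_apply, h, neg_zero]
  rw [tve_inv h, tve_apply h', LinearMap.neg_apply, neg_smul, sub_eq_add_neg]

/-! ### The predicate `S` -/

/-- `φ a = 0` and the transvection `tve a φ` lies in `G`. -/
def S (G : Subgroup (V ≃ₗ[K] V)) (a : V) (φ : Dual K V) : Prop := φ a = 0 ∧ tve a φ ∈ G

variable {G : Subgroup (V ≃ₗ[K] V)}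

lemma S_zero_left (φ : Dual K V) : S G (0 : V) φ :=
  ⟨map_zero φ, by rw [tve_zero_left]; exact G.one_mem⟩

lemma S_zero_right (a : V) : S G a (0 : Dual K V) :=
  ⟨LinearMap.zero_apply a, by rw [tve_zero_right]; exact G.one_mem⟩

lemma S_add_right {a : V} {φ φ' : Dual K V} (h : S G a φ) (h' : S G a φ') : S G a (φ + φ') :=
  ⟨by rw [LinearMap.add_apply, h.1, h'.1, add_zero], by
    rw [← tve_mul_right h.1 h'.1]; exact G.mul_mem h.2 h'.2⟩

lemma S_add_left {a a' : V} {φ : Dual K V} (h : S G a φ) (h' : S G a' φ) : S G (a + a') φ :=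
  ⟨by rw [map_add, h.1, h'.1, add_zero], by
    rw [← tve_mul_left h.1 h'.1]; exact G.mul_mem h.2 h'.2⟩

lemma S_neg_right {a : V} {φ : Dual K V} (h : S G a φ) : S G a (-φ) :=
  ⟨by rw [LinearMap.neg_apply, h.1, neg_zero], by rw [← tve_inv h.1]; exact G.inv_mem h.2⟩

lemma S_neg_left {a : V} {φ : Dual K V} (h : S G a φ) : S G (-a) φ := by
  have h1 := S_neg_right h
  refine ⟨by rw [map_neg, h.1, neg_zero], ?_⟩
  have : tve (-a) φ = tve a (-φ) := by
    have e1 : φ (-a) = 0 := by rw [map_neg, h.1, neg_zero]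
    ext x
    rw [tve_apply e1, tve_apply h1.1, LinearMap.neg_apply, neg_smul, smul_neg]
  rw [this]
  exact h1.2

lemma S_sub_right {a : V} {φ φ' : Dual K V} (h : S G a φ) (h' : S G a φ') : S G a (φ - φ') := by
  rw [sub_eq_add_neg]; exact S_add_right h (S_neg_right h')

lemma S_sub_left {a a' : V} {φ : Dual K V} (h : S G a φ) (h' : S G a' φ) : S G (a - a') φ := by
  rw [sub_eq_add_neg]; exact S_add_left h (S_neg_left h')

lemma S_conj {g : V ≃ₗ[K] V} (hg : g ∈ G) {a : V} {φ : Dual K V} (h : S G a φ) :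
    S G (g a) (cod g φ) :=
  ⟨by rw [cod_apply_self, h.1], by
    rw [← conj_tve g h.1]; exact G.mul_mem (G.mul_mem hg h.2) (G.inv_mem hg)⟩

lemma S_conj_tv {a b : V} {φ ψ : Dual K V} (h : S G a φ) (h' : S G b ψ) :
    S G (a + ψ a • b) (φ - φ b • ψ) := by
  have := S_conj h'.2 h
  have e1 : tve b ψ a = a + ψ a • b := tve_apply h'.1 a
  have e2 : cod (tve b ψ) φ = φ - φ b • ψ := by
    ext x
    rw [cod_apply, tve_inv_apply h'.1, map_sub, map_smul, LinearMap.sub_apply,
      LinearMap.smul_apply, smul_eq_mul, smul_eq_mul, mul_comm]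
  rwa [e1, e2] at this

/-! ### Scalar closure -/

/-- `G` contains full root subgroups. -/
def Full (G : Subgroup (V ≃ₗ[K] V)) : Prop :=
  ∀ (a : V) (φ : Dual K V) (c : K), S G a φ → S G a (c • φ)

lemma S_smul_right (hF : Full G) (c : K) {a : V} {φ : Dual K V} (h : S G a φ) : S G a (c • φ) :=
  hF a φ c h

lemma S_smul_left (hF : Full G) (c : K) {a : V} {φ : Dual K V} (h : S G a φ) : S G (c • a) φ := by
  have h1 := hF a φ c h
  exact ⟨by rw [map_smul, h.1, smul_zero], by rw [tve_smul]; exact h1.2⟩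

lemma S_of_smul_left (hF : Full G) {c : K} (hc : c ≠ 0) {a : V} {φ : Dual K V}
    (h : S G (c • a) φ) : S G a φ := by
  have := S_smul_left hF c⁻¹ h
  rwa [smul_smul, inv_mul_cancel₀ hc, one_smul] at this

lemma S_of_smul_right (hF : Full G) {c : K} (hc : c ≠ 0) {a : V} {φ : Dual K V}
    (h : S G a (c • φ)) : S G a φ := by
  have := S_smul_right hF c⁻¹ h
  rwa [smul_smul, inv_mul_cancel₀ hc, one_smul] at this

/-- Commutator rule. -/
lemma fact2 (hF : Full G) {a b : V} {φ ψ : Dual K V} (h : S G a φ) (h' : S G b ψ)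
    (h1 : φ b = 0) (h2 : ψ a ≠ 0) : S G b φ := by
  have h3 := S_conj_tv h h'
  rw [h1, zero_smul, sub_zero] at h3
  have h4 := S_sub_left h3 h
  rw [add_sub_cancel_left] at h4
  exact S_of_smul_left hF h2 h4

/-- Commutator rule, other side. -/
lemma fact2' (hF : Full G) {a b : V} {φ ψ : Dual K V} (h : S G a φ) (h' : S G b ψ)
    (h1 : ψ a = 0) (h2 : φ b ≠ 0) : S G a ψ :=
  fact2 hF h' h h1 h2

/-- The centres with a given axis form a submodule. -/
def ASub (hF : Full G) (φ : Dual K V) : Submodule K V where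
  carrier := {a | S G a φ}
  add_mem' := fun h h' => S_add_left h h'
  zero_mem' := S_zero_left φ
  smul_mem' := fun c _ h => S_smul_left hF c h

/-- The axes with a given centre form a submodule. -/
def PhiSub (hF : Full G) (a : V) : Submodule K (Dual K V) where
  carrier := {φ | S G a φ}
  add_mem' := fun h h' => S_add_right h h'
  zero_mem' := S_zero_right a
  smul_mem' := fun c _ h => S_smul_right hF c h

lemma mem_ASub (hF : Full G) {φ : Dual K V} {a : V} : a ∈ ASub hF φ ↔ S G a φ := Iff.rfl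

lemma mem_PhiSub (hF : Full G) {φ : Dual K V} {a : V} : φ ∈ PhiSub hF a ↔ S G a φ := Iff.rfl

/-- The `SL₂`-pair rule. -/
lemma S_pair (hF : Full G) {a b : V} {φ ψ : Dual K V} (h : S G a φ) (h' : S G b ψ)
    (h1 : φ b ≠ 0) (h2 : ψ a ≠ 0) (x y u v : K)
    (hz : (u • φ + v • ψ) (x • a + y • b) = 0) : S G (x • a + y • b) (u • φ + v • ψ) := by
  have hrel : x * v * ψ a + y * u * φ b = 0 := by
    have := hz
    simp only [LinearMap.add_apply, LinearMap.smul_apply, map_add, map_smul, smul_eq_mul, h.1,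
      h'.1, mul_zero, zero_add, add_zero] at this
    linear_combination this
  by_cases hy : y = 0
  · subst hy
    rw [zero_smul, add_zero]
    rw [zero_mul, zero_mul, add_zero] at hrel
    rcases mul_eq_zero.mp hrel with h3 | h3
    · rcases mul_eq_zero.mp h3 with h4 | h4
      · subst h4
        rw [zero_smul]
        exact S_zero_left _
      · subst h4
        rw [zero_smul, add_zero]
        exact S_smul_left hF x (S_smul_right hF u h)
    · exact absurd h3 h2
  · -- conjugate (b, ψ) by tve a (s φ)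
    set s : K := x / (y * φ b) with hs
    have h3 := S_conj_tv h' (S_smul_right hF s h)
    -- h3 : S (b + (sφ) b • a) (ψ - ψ a • (s φ))
    have h4 := S_smul_left hF y (S_smul_right hF v h3)
    have e1 : y • (b + (s • φ) b • a) = x • a + y • b := by
      rw [LinearMap.smul_apply, smul_eq_mul, hs]
      have : y * (x / (y * φ b) * φ b) = x := by field_simp
      rw [smul_add, smul_smul, this, add_comm]
    have e2 : v • (ψ - ψ a • s • φ) = u • φ + v • ψ := by
      have hu : u = - (v * ψ a * s) := by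
        rw [hs]
        field_simp
        linear_combination hrel
      rw [hu]
      ext z
      simp only [LinearMap.smul_apply, LinearMap.sub_apply, LinearMap.add_apply, smul_eq_mul]
      ring
    rwa [e1, e2] at h4

/-- The involution `-1` on `span{a,b}`, `1` on `ker φ ∩ ker ψ`, attached to an `SL₂`-pair. -/
lemma exists_invol (hF : Full G) {a b : V} {φ ψ : Dual K V} (h : S G a φ) (h' : S G b ψ)
    (h1 : φ b ≠ 0) (h2 : ψ a ≠ 0) :
    ∃ g ∈ G, g a = -a ∧ g b = -b ∧ ∀ x, φ x = 0 → ψ x = 0 → g x = x := by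
  -- normalise: φ₁ b = 1, ψ₁ a = -1
  set φ₁ : Dual K V := (φ b)⁻¹ • φ with hφ₁
  set ψ₁ : Dual K V := (-(ψ a)⁻¹) • ψ with hψ₁
  have hS1 : S G a φ₁ := S_smul_right hF _ h
  have hS2 : S G b ψ₁ := S_smul_right hF _ h'
  have e1 : φ₁ b = 1 := by rw [hφ₁, LinearMap.smul_apply, smul_eq_mul, inv_mul_cancel₀ h1]
  have e2 : ψ₁ a = -1 := by
    rw [hψ₁, LinearMap.smul_apply, smul_eq_mul, neg_mul, inv_mul_cancel₀ h2]
  have e3 : φ₁ a = 0 := hS1.1
  have e4 : ψ₁ b = 0 := hS2.1
  set w : V ≃ₗ[K] V := tve a φ₁ * tve b ψ₁ * tve a φ₁ with hw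
  have hwG : w ∈ G := G.mul_mem (G.mul_mem hS1.2 hS2.2) hS1.2
  have t1 : ∀ x, tve a φ₁ x = x + φ₁ x • a := fun x => tve_apply e3 x
  have t2 : ∀ x, tve b ψ₁ x = x + ψ₁ x • b := fun x => tve_apply e4 x
  have s1 : tve a φ₁ a = a := by rw [t1, e3, zero_smul, add_zero]
  have s2 : tve b ψ₁ a = a - b := by rw [t2, e2, neg_smul, one_smul, sub_eq_add_neg]
  have s3 : tve a φ₁ (a - b) = -b := by
    rw [t1, map_sub, e3, e1, zero_sub, neg_smul, one_smul]; abel
  have s4 : tve a φ₁ b = b + a := by rw [t1, e1, one_smul]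
  have s5 : tve b ψ₁ (b + a) = a := by
    rw [t2, map_add, e4, e2, zero_add, neg_smul, one_smul]; abel
  have wa : w a = -b := by
    rw [hw, LinearEquiv.mul_apply, LinearEquiv.mul_apply, s1, s2, s3]
  have wb : w b = a := by
    rw [hw, LinearEquiv.mul_apply, LinearEquiv.mul_apply, s4, s5, s1]
  have wx : ∀ x, φ x = 0 → ψ x = 0 → w x = x := by
    intro x hx hx'
    have f1 : φ₁ x = 0 := by rw [hφ₁, LinearMap.smul_apply, hx, smul_zero]
    have f2 : ψ₁ x = 0 := by rw [hψ₁, LinearMap.smul_apply, hx', smul_zero]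
    have g1 : tve a φ₁ x = x := by rw [t1, f1, zero_smul, add_zero]
    have g2 : tve b ψ₁ x = x := by rw [t2, f2, zero_smul, add_zero]
    rw [hw, LinearEquiv.mul_apply, LinearEquiv.mul_apply, g1, g2, g1]
  refine ⟨w * w, G.mul_mem hwG hwG, ?_, ?_, ?_⟩
  · rw [LinearEquiv.mul_apply, wa, map_neg, wb]
  · rw [LinearEquiv.mul_apply, wb, wa]
  · intro x hx hx'
    rw [LinearEquiv.mul_apply, wx x hx hx', wx x hx hx']

end Cfsg.Agent.Lib.Helper94_McL1
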