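import Mathlib
import Cfsg.Agent.Lib.Helper94_McL1

/-!
# Groups generated by transvections: growing a special linear standard subgroup (helper94)

`SLT G W Z`: `V = W ⊕ Z` and every transvection with centre in `W` and axis containing `Z` lies in
`G`.  If `G` is irreducible (`Irr G`), has full root subgroups and `3 ≤ dim W`, then every
transvection lies in `G` (`all_flags`).
-/

set_option autoImplicit false

namespace Cfsg.Agent.Lib.Helper94_McL2

open Module Cfsg.Agent.Lib.Helper94_McL1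

variable {K V : Type*} [Field K] [AddCommGroup V] [Module K V]

/-- Relative irreducibility: a subspace containing a centre and killed by a matching axis is moved
by some transvection of `G`. -/
def Irr (G : Subgroup (V ≃ₗ[K] V)) : Prop :=
  ∀ (Y : Submodule K V) (a : V) (ξ : Dual K V), a ≠ 0 → ξ ≠ 0 → S G a ξ → a ∈ Y →
    (∀ y ∈ Y, ξ y = 0) → ∃ (b : V) (ψ : Dual K V), S G b ψ ∧ b ∉ Y ∧ ∃ y ∈ Y, ψ y ≠ 0

/-- A standard subgroup of special linear type. -/
structure SLT (G : Subgroup (V ≃ₗ[K] V)) (W Z : Submodule K V) : Prop where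
  compl : IsCompl W Z
  flags : ∀ w ∈ W, ∀ ω : Dual K V, (∀ z ∈ Z, ω z = 0) → ω w = 0 → S G w ω

section Proj

variable {W Z : Submodule K V}

/-- Projection on `W` along `Z`. -/
noncomputable def pr1 (hc : IsCompl W Z) : V →ₗ[K] V := W.projection Z hc

/-- Projection on `Z` along `W`. -/
noncomputable def pr2 (hc : IsCompl W Z) : V →ₗ[K] V := Z.projection W hc.symm

lemma pr1_mem (hc : IsCompl W Z) (x : V) : pr1 hc x ∈ W := Submodule.projection_apply_mem hc x

lemma pr2_mem (hc : IsCompl W Z) (x : V) : pr2 hc x ∈ Z := Submodule.projection_apply_mem hc.symm x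

lemma pr1_add_pr2 (hc : IsCompl W Z) (x : V) : pr1 hc x + pr2 hc x = x :=
  Submodule.projection_add_projection_eq_self hc x

lemma pr1_of_mem (hc : IsCompl W Z) {w : V} (hw : w ∈ W) : pr1 hc w = w :=
  Submodule.projection_apply_of_mem_left hc hw

lemma pr1_of_mem' (hc : IsCompl W Z) {z : V} (hz : z ∈ Z) : pr1 hc z = 0 :=
  Submodule.projection_apply_of_mem_right hc hz

lemma pr2_of_mem (hc : IsCompl W Z) {z : V} (hz : z ∈ Z) : pr2 hc z = z := by
  have := pr1_add_pr2 hc z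
  rwa [pr1_of_mem' hc hz, zero_add] at this

lemma pr2_of_mem' (hc : IsCompl W Z) {w : V} (hw : w ∈ W) : pr2 hc w = 0 := by
  have := pr1_add_pr2 hc w
  rw [pr1_of_mem hc hw] at this
  exact add_eq_left.mp this

lemma mem_W_iff (hc : IsCompl W Z) {x : V} : x ∈ W ↔ pr2 hc x = 0 := by
  constructor
  · exact pr2_of_mem' hc
  · intro h
    have := pr1_add_pr2 hc x
    rw [h, add_zero] at this
    rw [← this]
    exact pr1_mem hc x

lemma mem_Z_iff (hc : IsCompl W Z) {x : V} : x ∈ Z ↔ pr1 hc x = 0 := by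
  constructor
  · exact pr1_of_mem' hc
  · intro h
    have := pr1_add_pr2 hc x
    rw [h, zero_add] at this
    rw [← this]
    exact pr2_mem hc x

lemma inter_eq_zero (hc : IsCompl W Z) {x : V} (h1 : x ∈ W) (h2 : x ∈ Z) : x = 0 := by
  have : x ∈ W ⊓ Z := ⟨h1, h2⟩
  rwa [hc.inf_eq_bot, Submodule.mem_bot] at this

end Proj

/-- A functional vanishing on `p`, nonzero at a given `x ∉ p`. -/
lemma exists_dual_vanish {p : Submodule K V} {x : V} (hx : x ∉ p) :
    ∃ f : Dual K V, f x ≠ 0 ∧ ∀ y ∈ p, f y = 0 := by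
  obtain ⟨f, hf, hp⟩ := Submodule.exists_dual_map_eq_bot_of_notMem hx inferInstance
  refine ⟨f, hf, fun y hy => ?_⟩
  have : f y ∈ p.map f := Submodule.mem_map_of_mem hy
  rwa [hp, Submodule.mem_bot] at this

section Std

variable {G : Subgroup (V ≃ₗ[K] V)} {W Z : Submodule K V}

lemma exists_mem_W_ne (hc : IsCompl W Z) {ω : Dual K V} (h0 : ∀ z ∈ Z, ω z = 0) (hne : ω ≠ 0) :
    ∃ w ∈ W, ω w ≠ 0 := by
  by_contra hcon
  push Not at hcon
  apply hne
  ext x
  rw [← pr1_add_pr2 hc x, map_add, hcon _ (pr1_mem hc x), h0 _ (pr2_mem hc x), add_zero,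
    LinearMap.zero_apply]

lemma exists_mem_Z_ne (hc : IsCompl W Z) {ζ : Dual K V} (h0 : ∀ w ∈ W, ζ w = 0) (hne : ζ ≠ 0) :
    ∃ z ∈ Z, ζ z ≠ 0 := by
  by_contra hcon
  push Not at hcon
  apply hne
  ext x
  rw [← pr1_add_pr2 hc x, map_add, hcon _ (pr2_mem hc x), h0 _ (pr1_mem hc x), add_zero,
    LinearMap.zero_apply]

/-- Spreading the axes of a centre in `Z`. -/
lemma spreadZ (hF : Full G) (hT : SLT G W Z) {z : V} (hz : z ∈ Z) {ω₀ : Dual K V}
    (h0 : ∀ z' ∈ Z, ω₀ z' = 0) (hne : ω₀ ≠ 0) (hS : S G z ω₀) :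
    ∀ ω : Dual K V, (∀ z' ∈ Z, ω z' = 0) → S G z ω := by
  have claim : ∀ ω : Dual K V, S G z ω → ∀ w ∈ W, ω w ≠ 0 → ∀ ω' : Dual K V,
      (∀ z' ∈ Z, ω' z' = 0) → ω' w = 0 → S G z ω' := by
    intro ω hω w hw hωw ω' hω' hω'w
    have h1 := S_conj_tv hω (hT.flags w hw ω' hω' hω'w)
    rw [hω' z hz, zero_smul, add_zero] at h1
    have h2 := S_sub_right hω h1
    rw [sub_sub_cancel] at h2
    exact S_of_smul_right hF hωw h2
  obtain ⟨w₁, hw₁, hw₁ne⟩ := exists_mem_W_ne hT.compl h0 hne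
  intro ω hω
  set c : K := ω w₁ / ω₀ w₁ with hc
  have h3 : S G z (ω - c • ω₀) := by
    refine claim ω₀ hS w₁ hw₁ hw₁ne _ ?_ ?_
    · intro z' hz'
      rw [LinearMap.sub_apply, LinearMap.smul_apply, hω z' hz', h0 z' hz', smul_zero, sub_zero]
    · rw [LinearMap.sub_apply, LinearMap.smul_apply, smul_eq_mul, hc, div_mul_cancel₀ _ hw₁ne,
        sub_self]
  have h4 := S_add_right h3 (S_smul_right hF c hS)
  rwa [sub_add_cancel] at h4

/-- Spreading the centres of an axis containing `W`. -/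
lemma spreadW (hF : Full G) (hT : SLT G W Z) {w₀ : V} (hw₀ : w₀ ∈ W) (hne : w₀ ≠ 0)
    {ζ : Dual K V} (h0 : ∀ w ∈ W, ζ w = 0) (hS : S G w₀ ζ) : ∀ w ∈ W, S G w ζ := by
  have claim : ∀ w ∈ W, S G w ζ → ∀ ω : Dual K V, (∀ z' ∈ Z, ω z' = 0) → ω w ≠ 0 →
      ∀ w' ∈ W, ω w' = 0 → S G w' ζ := by
    intro w _ hSw ω hω hωw w' hw' hωw'
    have h1 := S_conj_tv hSw (hT.flags w' hw' ω hω hωw')
    rw [h0 w' hw', zero_smul, sub_zero] at h1
    have h2 := S_sub_left h1 hSw
    rw [add_sub_cancel_left] at h2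
    exact S_of_smul_left hF hωw h2
  have hnot : w₀ ∉ Z := fun h => hne (inter_eq_zero hT.compl hw₀ h)
  obtain ⟨ω₁, hω₁ne, hω₁⟩ := exists_dual_vanish hnot
  intro w hw
  set c : K := ω₁ w / ω₁ w₀ with hc
  have h3 : S G (w - c • w₀) ζ := by
    refine claim w₀ hw₀ hS ω₁ hω₁ hω₁ne _ (W.sub_mem hw (W.smul_mem c hw₀)) ?_
    rw [map_sub, map_smul, smul_eq_mul, hc, div_mul_cancel₀ _ hω₁ne, sub_self]
  have h4 := S_add_left h3 (S_smul_left hF c hS)
  rwa [sub_add_cancel] at h4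

/-- The vectors of `Z` which are centres for every axis containing `Z`. -/
def Z1 (hF : Full G) (W Z : Submodule K V) : Submodule K V where
  carrier := {z | z ∈ Z ∧ ∀ ω : Dual K V, (∀ z' ∈ Z, ω z' = 0) → S G z ω}
  add_mem' := fun h h' => ⟨Z.add_mem h.1 h'.1, fun ω hω => S_add_left (h.2 ω hω) (h'.2 ω hω)⟩
  zero_mem' := ⟨Z.zero_mem, fun ω _ => S_zero_left ω⟩
  smul_mem' := fun c _ h => ⟨Z.smul_mem c h.1, fun ω hω => S_smul_left hF c (h.2 ω hω)⟩

/-- The functionals vanishing on `W` which are axes for every centre in `W`. -/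
def Xi (hF : Full G) (W Z : Submodule K V) : Submodule K (Dual K V) where
  carrier := {ζ | (∀ w ∈ W, ζ w = 0) ∧ ∀ w ∈ W, S G w ζ}
  add_mem' := fun h h' => ⟨fun w hw => by rw [LinearMap.add_apply, h.1 w hw, h'.1 w hw, add_zero],
    fun w hw => S_add_right (h.2 w hw) (h'.2 w hw)⟩
  zero_mem' := ⟨fun w _ => LinearMap.zero_apply w, fun w _ => S_zero_right w⟩
  smul_mem' := fun c _ h => ⟨fun w hw => by rw [LinearMap.smul_apply, h.1 w hw, smul_zero],
    fun w hw => S_smul_right hF c (h.2 w hw)⟩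

lemma mem_Z1 (hF : Full G) {z : V} :
    z ∈ Z1 hF W Z ↔ z ∈ Z ∧ ∀ ω : Dual K V, (∀ z' ∈ Z, ω z' = 0) → S G z ω := Iff.rfl

lemma mem_Xi (hF : Full G) {ζ : Dual K V} :
    ζ ∈ Xi hF W Z ↔ (∀ w ∈ W, ζ w = 0) ∧ ∀ w ∈ W, S G w ζ := Iff.rfl

/-- Adding a point to `W`. -/
theorem stepD (hF : Full G) (hT : SLT G W Z) {z₀ : V} (hz₀ : z₀ ∈ Z1 hF W Z) {ζ₀ : Dual K V}
    (hζ₀ : ζ₀ ∈ Xi hF W Z) (hκ : ζ₀ z₀ ≠ 0) :
    SLT G (W ⊔ Submodule.span K {z₀}) (Z ⊓ LinearMap.ker ζ₀) := by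
  have hc := hT.compl
  refine ⟨?_, ?_⟩
  · rw [isCompl_iff, disjoint_iff, codisjoint_iff]
    constructor
    · rw [eq_bot_iff]
      rintro x ⟨hx1, hx2, hx3⟩
      obtain ⟨w, hw, y, hy, rfl⟩ := Submodule.mem_sup.mp hx1
      obtain ⟨c, rfl⟩ := Submodule.mem_span_singleton.mp hy
      have hwZ : w ∈ Z := by
        have : w = (w + c • z₀) - c • z₀ := by abel
        rw [this]
        exact Z.sub_mem hx2 (Z.smul_mem c hz₀.1)
      have hw0 : w = 0 := inter_eq_zero hc hw hwZ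
      subst hw0
      rw [zero_add] at hx3 ⊢
      have : ζ₀ (c • z₀) = 0 := hx3
      rw [map_smul, smul_eq_mul] at this
      rcases mul_eq_zero.mp this with h | h
      · rw [h, zero_smul]; exact Submodule.zero_mem _
      · exact absurd h hκ
    · rw [eq_top_iff]
      intro v _
      set d : K := ζ₀ (pr2 hc v) / ζ₀ z₀ with hd
      have e : v = (pr1 hc v + d • z₀) + (pr2 hc v - d • z₀) := by
        have := pr1_add_pr2 hc v
        calc v = pr1 hc v + pr2 hc v := this.symm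
          _ = (pr1 hc v + d • z₀) + (pr2 hc v - d • z₀) := by abel
      rw [e]
      refine Submodule.add_mem_sup (Submodule.add_mem_sup (pr1_mem hc v)
        (Submodule.smul_mem _ d (Submodule.mem_span_singleton_self z₀))) ⟨?_, ?_⟩
      · exact Z.sub_mem (pr2_mem hc v) (Z.smul_mem d hz₀.1)
      · rw [SetLike.mem_coe, LinearMap.mem_ker, map_sub, map_smul, smul_eq_mul, hd,
          div_mul_cancel₀ _ hκ, sub_self]
  · intro w' hw' ω' hω' hω'w'
    obtain ⟨w, hw, y, hy, rfl⟩ := Submodule.mem_sup.mp hw'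
    obtain ⟨c, rfl⟩ := Submodule.mem_span_singleton.mp hy
    set κ : K := ζ₀ z₀ with hκdef
    set d : K := ω' z₀ / κ with hd
    set ω : Dual K V := ω' - d • ζ₀ with hω
    have hωZ : ∀ z ∈ Z, ω z = 0 := by
      intro z hz
      have hmem : z - (ζ₀ z / κ) • z₀ ∈ Z ⊓ LinearMap.ker ζ₀ := by
        refine ⟨Z.sub_mem hz (Z.smul_mem _ hz₀.1), ?_⟩
        rw [SetLike.mem_coe, LinearMap.mem_ker, map_sub, map_smul, smul_eq_mul, ← hκdef,
          div_mul_cancel₀ _ hκ, sub_self]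
      have h1 := hω' _ hmem
      rw [map_sub, map_smul, smul_eq_mul] at h1
      rw [hω, LinearMap.sub_apply, LinearMap.smul_apply, smul_eq_mul, hd]
      field_simp
      field_simp at h1
      linear_combination h1
    have hωz₀ : ω z₀ = 0 := hωZ z₀ hz₀.1
    have hζw : ζ₀ w = 0 := hζ₀.1 w hw
    have hω' : ω' = ω + d • ζ₀ := by rw [hω, sub_add_cancel]
    have hrel : ω w + c * d * κ = 0 := by
      have := hω'w'
      rw [hω', LinearMap.add_apply, LinearMap.smul_apply, map_add, map_add, map_smul, map_smul,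
        hωz₀, hζw] at this
      simp only [smul_eq_mul, mul_zero, add_zero, zero_add] at this
      rw [← hκdef] at this
      linear_combination this
    by_cases hc0 : c = 0
    · subst hc0
      rw [zero_smul, add_zero]
      rw [zero_mul, zero_mul, add_zero] at hrel
      rw [hω']
      exact S_add_right (hT.flags w hw ω hωZ hrel) (S_smul_right hF d (hζ₀.2 w hw))
    · set s : K := (c * κ)⁻¹ with hs
      have h1 : S G (c • z₀) ω := S_smul_left hF c (hz₀.2 ω hωZ)
      have h2 : S G w (s • ζ₀) := S_smul_right hF s (hζ₀.2 w hw)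
      have h3 := S_conj_tv h1 h2
      have e1 : c • z₀ + (s • ζ₀) (c • z₀) • w = w + c • z₀ := by
        rw [LinearMap.smul_apply, map_smul, smul_eq_mul, smul_eq_mul, ← hκdef, hs]
        have : (c * κ)⁻¹ * (c * κ) = 1 := inv_mul_cancel₀ (mul_ne_zero hc0 hκ)
        rw [this, one_smul, add_comm]
      have e2 : ω - ω w • s • ζ₀ = ω' := by
        rw [hω', smul_smul]
        have : ω w * s = -d := by
          rw [hs]
          field_simp
          linear_combination hrel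
        rw [this, neg_smul, sub_neg_eq_add]
      rwa [e1, e2] at h3

variable [FiniteDimensional K V]

/-- Step a. -/
theorem stepA (hF : Full G) (hT : SLT G W Z) (h3 : 3 ≤ finrank K W) {b : V} {ψ : Dual K V}
    (hS : S G b ψ) (hb : b ∉ W) {w : V} (hw : w ∈ W) (hψw : ψ w ≠ 0) :
    pr2 hT.compl b ∈ Z1 hF W Z := by
  have hc := hT.compl
  set bW := pr1 hc b with hbW
  set bZ := pr2 hc b with hbZ
  set p : Submodule K V := Z ⊔ Submodule.span K {w, bW} with hp
  have hdim : finrank K W + finrank K Z = finrank K V := Submodule.finrank_add_eq_of_isCompl hc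
  have hp2 : finrank K (Submodule.span K ({w, bW} : Set V)) ≤ 2 := by
    classical
    have h1 := finrank_span_finset_le_card (R := K) ({w, bW} : Finset V)
    have h2 : ({w, bW} : Finset V).card ≤ 2 := Finset.card_le_two
    have e : ((({w, bW} : Finset V) : Set V)) = ({w, bW} : Set V) := by
      rw [Finset.coe_insert, Finset.coe_singleton]
    rw [e] at h1
    exact h1.trans h2
  have hplt : finrank K p < finrank K V := by
    have := Submodule.finrank_add_le_finrank_add_finrank Z (Submodule.span K ({w, bW} : Set V))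
    rw [hp]
    omega
  have hpne : p ≠ ⊤ := by
    intro h
    rw [h, finrank_top] at hplt
    exact lt_irrefl _ hplt
  obtain ⟨x, hx⟩ : ∃ x, x ∉ p := by
    by_contra hcon
    push Not at hcon
    exact hpne (eq_top_iff.mpr fun y _ => hcon y)
  obtain ⟨ω, hωx, hωp⟩ := exists_dual_vanish hx
  have hωne : ω ≠ 0 := fun h => hωx (by rw [h, LinearMap.zero_apply])
  have hωZ : ∀ z ∈ Z, ω z = 0 := fun z hz => hωp z (Submodule.mem_sup_left hz)
  have hωw : ω w = 0 :=
    hωp w (Submodule.mem_sup_right (Submodule.subset_span (Set.mem_insert _ _)))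
  have hωbW : ω bW = 0 :=
    hωp bW (Submodule.mem_sup_right (Submodule.subset_span (Set.mem_insert_of_mem _ rfl)))
  have hωb : ω b = 0 := by
    rw [← pr1_add_pr2 hc b, map_add, hωbW, hωZ _ (pr2_mem hc b), add_zero]
  have h1 : S G w ω := hT.flags w hw ω hωZ hωw
  have h2 : S G b ω := fact2 hF h1 hS hωb hψw
  have h4 : S G bW ω := hT.flags bW (pr1_mem hc b) ω hωZ hωbW
  have h5 := S_sub_left h2 h4
  have e : b - bW = bZ := by
    have := pr1_add_pr2 hc b
    rw [← this]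
    abel
  rw [e] at h5
  exact ⟨pr2_mem hc b, spreadZ hF hT (pr2_mem hc b) hωZ hωne h5⟩

/-- Step b. -/
theorem stepB (hF : Full G) (hT : SLT G W Z) (h3 : 3 ≤ finrank K W) {c : V} {χ : Dual K V}
    (hS : S G c χ) (hcZ : c ∉ Z) : χ ∘ₗ pr2 hT.compl ∈ Xi hF W Z := by
  have hc := hT.compl
  have hcW : pr1 hc c ∉ Z := by
    intro h
    have h0 : pr1 hc c = 0 := inter_eq_zero hc (pr1_mem hc c) h
    exact hcZ ((mem_Z_iff hc).mpr h0)
  obtain ⟨ω, hωne, hωZ⟩ := exists_dual_vanish hcW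
  have hωc : ω c ≠ 0 := by
    rw [← pr1_add_pr2 hc c, map_add, hωZ _ (pr2_mem hc c), add_zero]
    exact hωne
  -- a nonzero w ∈ W killed by ω and χ
  let f : W →ₗ[K] K × K := (ω ∘ₗ W.subtype).prod (χ ∘ₗ W.subtype)
  have hker : LinearMap.ker f ≠ ⊥ := by
    apply LinearMap.ker_ne_bot_of_finrank_lt
    rw [Module.finrank_prod, Module.finrank_self]
    omega
  obtain ⟨⟨w, hw⟩, hwk, hwne⟩ := (Submodule.ne_bot_iff _).mp hker
  have hw0 : w ≠ 0 := fun h => hwne (by ext; exact h)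
  rw [LinearMap.mem_ker] at hwk
  have hωw : ω w = 0 := by
    have := congrArg Prod.fst hwk
    simpa [f] using this
  have hχw : χ w = 0 := by
    have := congrArg Prod.snd hwk
    simpa [f] using this
  have h1 : S G w ω := hT.flags w hw ω hωZ hωw
  have h2 : S G w χ := fact2' hF h1 hS hχw hωc
  have h3' : S G w (χ ∘ₗ pr1 hc) := by
    refine hT.flags w hw _ ?_ ?_
    · intro z hz
      rw [LinearMap.comp_apply, pr1_of_mem' hc hz, map_zero]
    · rw [LinearMap.comp_apply, pr1_of_mem hc hw, hχw]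
  have h4 := S_sub_right h2 h3'
  have e : χ - χ ∘ₗ pr1 hc = χ ∘ₗ pr2 hc := by
    ext x
    have := pr1_add_pr2 hc x
    rw [LinearMap.sub_apply, LinearMap.comp_apply, LinearMap.comp_apply]
    calc χ x - χ (pr1 hc x) = χ (pr1 hc x + pr2 hc x) - χ (pr1 hc x) := by rw [this]
      _ = χ (pr2 hc x) := by rw [map_add]; ring
  rw [e] at h4
  have hv : ∀ w' ∈ W, (χ ∘ₗ pr2 hc) w' = 0 := fun w' hw' => by
    rw [LinearMap.comp_apply, pr2_of_mem' hc hw', map_zero]
  exact ⟨hv, spreadW hF hT hw hw0 hv h4⟩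

/-- Step c. -/
theorem stepC (hF : Full G) (hI : Irr G) (hT : SLT G W Z) (h3 : 3 ≤ finrank K W)
    (hE : ∃ (b : V) (ψ : Dual K V), S G b ψ ∧ b ∉ W ∧ ∃ y ∈ W, ψ y ≠ 0) :
    ∃ z ∈ Z1 hF W Z, ∃ ζ ∈ Xi hF W Z, ζ z ≠ 0 := by
  have hc := hT.compl
  have hWbot : W ≠ ⊥ := by
    intro h
    rw [h, finrank_bot] at h3
    omega
  obtain ⟨w₀, hw₀, hw₀ne⟩ := (Submodule.ne_bot_iff _).mp hWbot
  have hw₀Z : w₀ ∉ Z := fun h => hw₀ne (inter_eq_zero hc hw₀ h)
  obtain ⟨ω₁, hω₁ne, hω₁Z⟩ := exists_dual_vanish hw₀Z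
  have hω₁0 : ω₁ ≠ 0 := by
    rintro rfl
    exact hω₁ne rfl
  -- Z1 is nonzero
  obtain ⟨b, ψ, hSb, hbW, y₀, hy₀, hψy₀⟩ := hE
  have hz₁ : pr2 hc b ∈ Z1 hF W Z := stepA hF hT h3 hSb hbW hy₀ hψy₀
  have hz₁ne : pr2 hc b ≠ 0 := by
    intro h
    exact hbW ((mem_W_iff hc).mpr h)
  -- Xi is nonzero
  obtain ⟨c, χ, hSc, hcZ, z, hz, hχz⟩ :=
    hI Z (pr2 hc b) ω₁ hz₁ne hω₁0 (hz₁.2 ω₁ hω₁Z) hz₁.1 hω₁Z
  have hζ := stepB hF hT h3 hSc hcZ
  have hζne : (χ ∘ₗ pr2 hc) z ≠ 0 := by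
    rw [LinearMap.comp_apply, pr2_of_mem hc hz]; exact hχz
  have hζ0 : χ ∘ₗ pr2 hc ≠ 0 := by
    intro h
    rw [h] at hζne
    exact hζne rfl
  by_contra hcon
  push Not at hcon
  set Y : Submodule K V := W ⊔ Z1 hF W Z with hY
  have hYker : ∀ y ∈ Y, (χ ∘ₗ pr2 hc) y = 0 := by
    intro y hy
    obtain ⟨w, hw, z1, hz1, rfl⟩ := Submodule.mem_sup.mp hy
    rw [map_add, hζ.1 w hw, hcon z1 hz1 _ hζ, add_zero]
  obtain ⟨e, ε, hSe, heY, y, hy, hεy⟩ :=
    hI Y w₀ (χ ∘ₗ pr2 hc) hw₀ne hζ0 (hζ.2 w₀ hw₀) (Submodule.mem_sup_left hw₀) hYker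
  have heW : e ∉ W := fun h => heY (Submodule.mem_sup_left h)
  have hcontra : pr2 hc e ∈ Z1 hF W Z → False := by
    intro h
    apply heY
    rw [← pr1_add_pr2 hc e]
    exact Submodule.add_mem_sup (pr1_mem hc e) h
  by_cases hεW : ∃ w' ∈ W, ε w' ≠ 0
  · obtain ⟨w', hw', hεw'⟩ := hεW
    exact hcontra (stepA hF hT h3 hSe heW hw' hεw')
  · push Not at hεW
    obtain ⟨w, hw, z1, hz1, rfl⟩ := Submodule.mem_sup.mp hy
    have hεz1 : ε z1 ≠ 0 := by
      rw [map_add, hεW w hw, zero_add] at hεy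
      exact hεy
    have h1 : S G z1 ω₁ := hz1.2 ω₁ hω₁Z
    have h2 := S_conj_tv h1 hSe
    set b' : V := z1 + ε z1 • e with hb'
    have hb'W : b' ∉ W := by
      intro h
      apply heY
      have : e = (ε z1)⁻¹ • (b' - z1) := by
        rw [hb', add_sub_cancel_left, smul_smul, inv_mul_cancel₀ hεz1, one_smul]
      rw [this]
      exact Y.smul_mem _ (Y.sub_mem (Submodule.mem_sup_left h) (Submodule.mem_sup_right hz1))
    have hψ' : (ω₁ - ω₁ e • ε) w₀ ≠ 0 := by
      rw [LinearMap.sub_apply, LinearMap.smul_apply, hεW w₀ hw₀, smul_zero, sub_zero]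
      exact hω₁ne
    have h4 := stepA hF hT h3 h2 hb'W hw₀ hψ'
    apply hcontra
    have : pr2 hc e = (ε z1)⁻¹ • (pr2 hc b' - z1) := by
      rw [hb', map_add, map_smul, pr2_of_mem hc hz1.1, add_sub_cancel_left, smul_smul,
        inv_mul_cancel₀ hεz1, one_smul]
    rw [this]
    exact (Z1 hF W Z).smul_mem _ ((Z1 hF W Z).sub_mem h4 hz1)

/-- Growth step. -/
theorem grow (hF : Full G) (hI : Irr G) (hT : SLT G W Z) (h3 : 3 ≤ finrank K W)
    (hE : ∃ (b : V) (ψ : Dual K V), S G b ψ ∧ b ∉ W ∧ ∃ y ∈ W, ψ y ≠ 0) :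
    ∃ W' Z' : Submodule K V, SLT G W' Z' ∧ 3 ≤ finrank K W' ∧ finrank K Z' < finrank K Z := by
  obtain ⟨z₀, hz₀, ζ₀, hζ₀, hκ⟩ := stepC hF hI hT h3 hE
  refine ⟨_, _, stepD hF hT hz₀ hζ₀ hκ, ?_, ?_⟩
  · exact h3.trans (Submodule.finrank_mono le_sup_left)
  · apply Submodule.finrank_lt_finrank_of_lt
    refine lt_of_le_of_ne inf_le_left ?_
    intro h
    have : z₀ ∈ Z ⊓ LinearMap.ker ζ₀ := by rw [h]; exact hz₀.1
    exact hκ this.2

/-- A pair `(W, Z)` is closed when every transvection of `G` lives on `W` or on `Z`. -/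
def ClosedPair (G : Subgroup (V ≃ₗ[K] V)) (W Z : Submodule K V) : Prop :=
  ∀ (b : V) (ψ : Dual K V), S G b ψ → b ≠ 0 → ψ ≠ 0 →
    (b ∈ W ∧ ∀ z ∈ Z, ψ z = 0) ∨ (b ∈ Z ∧ ∀ w ∈ W, ψ w = 0)

/-- A standard pair that cannot grow is closed. -/
theorem closed_of_no_witness (hF : Full G) (hI : Irr G) (hT : SLT G W Z) (h2 : 2 ≤ finrank K W)
    (hE : ¬ ∃ (b : V) (ψ : Dual K V), S G b ψ ∧ b ∉ W ∧ ∃ y ∈ W, ψ y ≠ 0) :
    ClosedPair G W Z := by
  have hc := hT.compl
  push Not at hE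
  intro a φ hS ha hφ
  by_cases haW : a ∈ W
  · left
    refine ⟨haW, ?_⟩
    by_contra hcon
    push Not at hcon
    obtain ⟨z, hz, hφz⟩ := hcon
    -- the part of the axis supported on `Z` is an axis of `a`
    have h1 : S G a (φ ∘ₗ pr1 hc) := by
      refine hT.flags a haW _ ?_ ?_
      · intro z' hz'
        rw [LinearMap.comp_apply, pr1_of_mem' hc hz', map_zero]
      · rw [LinearMap.comp_apply, pr1_of_mem hc haW]
        exact hS.1
    have h3 : S G a (φ ∘ₗ pr2 hc) := by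
      have h2' := S_sub_right hS h1
      have e : φ - φ ∘ₗ pr1 hc = φ ∘ₗ pr2 hc := by
        ext x
        simp only [LinearMap.sub_apply, LinearMap.comp_apply]
        conv_lhs => rw [← pr1_add_pr2 hc x, map_add]
        rw [pr1_add_pr2]
        ring
      rwa [e] at h2'
    have hne : φ ∘ₗ pr2 hc ≠ 0 := by
      intro h
      apply hφz
      have := congrArg (fun f : Dual K V => f z) h
      simpa [pr2_of_mem hc hz] using this
    have hker : ∀ y ∈ W, (φ ∘ₗ pr2 hc) y = 0 := fun y hy => by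
      rw [LinearMap.comp_apply, pr2_of_mem' hc hy, map_zero]
    obtain ⟨b, ψ, hSb, hbW, y, hy, hψy⟩ := hI W a _ ha hne h3 haW hker
    exact hψy (hE b ψ hSb hbW y hy)
  · right
    have hφW : ∀ w ∈ W, φ w = 0 := hE a φ hS haW
    refine ⟨?_, hφW⟩
    by_contra haZ
    have haW0 : pr1 hc a ≠ 0 := fun h => haZ ((mem_Z_iff hc).mpr h)
    -- vectors of `W` independent of `pr1 a` are centres for `φ`
    have hind : ∀ w ∈ W, (∀ c : K, pr1 hc a ≠ c • w) → S G w φ := by
      intro w hw hwne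
      have hwp : pr1 hc a ∉ Z ⊔ Submodule.span K {w} := by
        intro hmem
        obtain ⟨z, hz, y, hy, hsum⟩ := Submodule.mem_sup.mp hmem
        obtain ⟨c, rfl⟩ := Submodule.mem_span_singleton.mp hy
        have hzW : z ∈ W := by
          have : z = pr1 hc a - c • w := by rw [← hsum]; abel
          rw [this]
          exact W.sub_mem (pr1_mem hc a) (W.smul_mem c hw)
        have : z = 0 := inter_eq_zero hc hzW hz
        rw [this, zero_add] at hsum
        exact hwne c hsum.symm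
      obtain ⟨ω, hωne, hωp⟩ := exists_dual_vanish hwp
      have hωZ : ∀ z ∈ Z, ω z = 0 := fun z hz => hωp z (Submodule.mem_sup_left hz)
      have hωw : ω w = 0 := hωp w (Submodule.mem_sup_right (Submodule.mem_span_singleton_self w))
      have hωa : ω a = ω (pr1 hc a) := by
        conv_lhs => rw [← pr1_add_pr2 hc a, map_add, hωZ _ (pr2_mem hc a), add_zero]
      have h1 := S_conj_tv hS (hT.flags w hw ω hωZ hωw)
      rw [hφW w hw, zero_smul, sub_zero] at h1
      have h2' := S_sub_left h1 hS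
      rw [add_sub_cancel_left, hωa] at h2'
      exact S_of_smul_left hF hωne h2'
    have hall : S G (pr1 hc a) φ := by
      obtain ⟨w₁, hw₁, hw₁n⟩ : ∃ w₁ ∈ W, w₁ ∉ Submodule.span K {pr1 hc a} := by
        by_contra hcon
        push Not at hcon
        have hle : W ≤ Submodule.span K {pr1 hc a} := hcon
        have h1 := Submodule.finrank_mono hle
        rw [finrank_span_singleton haW0] at h1
        omega
      have e1 : ∀ c : K, pr1 hc a ≠ c • w₁ := by
        intro c h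
        by_cases hc0 : c = 0
        · rw [hc0, zero_smul] at h
          exact haW0 h
        · apply hw₁n
          rw [Submodule.mem_span_singleton]
          refine ⟨c⁻¹, ?_⟩
          rw [h, smul_smul, inv_mul_cancel₀ hc0, one_smul]
      have e2 : ∀ c : K, pr1 hc a ≠ c • (pr1 hc a + w₁) := by
        intro c h
        by_cases hc0 : c = 0
        · rw [hc0, zero_smul] at h
          exact haW0 h
        · apply hw₁n
          rw [Submodule.mem_span_singleton]
          refine ⟨c⁻¹ * (1 - c), ?_⟩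
          have h' : c • w₁ = (1 - c) • pr1 hc a := by
            rw [sub_smul, one_smul]
            rw [smul_add] at h
            calc c • w₁ = (c • pr1 hc a + c • w₁) - c • pr1 hc a := by abel
              _ = pr1 hc a - c • pr1 hc a := by rw [← h]
          calc (c⁻¹ * (1 - c)) • pr1 hc a = c⁻¹ • ((1 - c) • pr1 hc a) := by rw [smul_smul]
            _ = c⁻¹ • (c • w₁) := by rw [h']
            _ = w₁ := by rw [smul_smul, inv_mul_cancel₀ hc0, one_smul]
      have h1 := hind w₁ hw₁ e1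
      have h2' := hind _ (W.add_mem (pr1_mem hc a) hw₁) e2
      have h3 := S_sub_left h2' h1
      rwa [add_sub_cancel_right] at h3
    obtain ⟨b, ψ, hSb, hbW, y, hy, hψy⟩ := hI W (pr1 hc a) φ haW0 hφ hall
      (pr1_mem hc a) hφW
    exact hψy (hE b ψ hSb hbW y hy)

/-- Every standard pair of rank at least three grows to a closed one. -/
theorem exists_closed (hF : Full G) (hI : Irr G) :
    ∀ (n : ℕ) (W Z : Submodule K V), finrank K Z = n → SLT G W Z → 3 ≤ finrank K W →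
      ∃ W' Z' : Submodule K V, SLT G W' Z' ∧ 3 ≤ finrank K W' ∧ ClosedPair G W' Z' := by
  intro n
  induction n using Nat.strong_induction_on with
  | _ n ih =>
    intro W Z hn hT h3
    by_cases hE : ∃ (b : V) (ψ : Dual K V), S G b ψ ∧ b ∉ W ∧ ∃ y ∈ W, ψ y ≠ 0
    · obtain ⟨W', Z', hT', h3', hlt⟩ := grow hF hI hT h3 hE
      exact ih (finrank K Z') (hn ▸ hlt) W' Z' rfl hT' h3'
    · exact ⟨W, Z, hT, h3, closed_of_no_witness hF hI hT (by omega) hE⟩

end Std

end Cfsg.Agent.Lib.Helper94_McL2
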