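import Mathlib
import Cfsg.Agent.Lib.Helper94_McL2

/-!
# Groups generated by transvections: the special linear case (helper94)

If some centre has two independent axes (`¬ OneDim G`), `G` is irreducible with full root subgroups
and `2 ≠ 0`, then every transvection lies in `G` (`caseA`).
-/

set_option autoImplicit false

namespace Cfsg.Agent.Lib.Helper94_McL3

open Module Cfsg.Agent.Lib.Helper94_McL1 Cfsg.Agent.Lib.Helper94_McL2

variable {K V : Type*} [Field K] [AddCommGroup V] [Module K V]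
variable {G : Subgroup (V ≃ₗ[K] V)}

/-- Every centre has at most a line of axes. -/
def OneDim (G : Subgroup (V ≃ₗ[K] V)) : Prop :=
  ∀ (a : V) (φ φ' : Dual K V), a ≠ 0 → S G a φ → S G a φ' → φ ≠ 0 → ∃ c : K, φ' = c • φ

section Pair

variable {a b : V} {φ ψ : Dual K V}

lemma pair_compl (ha : φ a = 0) (hb : ψ b = 0) (h1 : φ b ≠ 0) (h2 : ψ a ≠ 0) :
    IsCompl (Submodule.span K {a, b}) (LinearMap.ker φ ⊓ LinearMap.ker ψ) := by
  rw [isCompl_iff, disjoint_iff, codisjoint_iff]
  constructor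
  · rw [eq_bot_iff]
    rintro x ⟨hx1, hx2, hx3⟩
    obtain ⟨s, t, rfl⟩ := Submodule.mem_span_pair.mp hx1
    have e1 : φ (s • a + t • b) = 0 := hx2
    have e2 : ψ (s • a + t • b) = 0 := hx3
    rw [map_add, map_smul, map_smul, ha, smul_zero, zero_add, smul_eq_mul] at e1
    rw [map_add, map_smul, map_smul, hb, smul_zero, add_zero, smul_eq_mul] at e2
    have ht : t = 0 := (mul_eq_zero.mp e1).resolve_right h1
    have hs : s = 0 := (mul_eq_zero.mp e2).resolve_right h2
    rw [hs, ht, zero_smul, zero_smul, add_zero]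
    exact Submodule.zero_mem _
  · rw [eq_top_iff]
    intro x _
    have e : x = ((ψ x / ψ a) • a + (φ x / φ b) • b) +
        (x - ((ψ x / ψ a) • a + (φ x / φ b) • b)) := by abel
    rw [e]
    refine Submodule.add_mem_sup (Submodule.mem_span_pair.mpr ⟨_, _, rfl⟩) ⟨?_, ?_⟩
    · rw [SetLike.mem_coe, LinearMap.mem_ker, map_sub, map_add, map_smul, map_smul, ha, smul_zero,
        zero_add, smul_eq_mul, div_mul_cancel₀ _ h1, sub_self]
    · rw [SetLike.mem_coe, LinearMap.mem_ker, map_sub, map_add, map_smul, map_smul, hb, smul_zero,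
        add_zero, smul_eq_mul, div_mul_cancel₀ _ h2, sub_self]

/-- The standard pair attached to an `SL₂`-pair. -/
theorem SLT_of_pair (hF : Full G) (h : S G a φ) (h' : S G b ψ) (h1 : φ b ≠ 0) (h2 : ψ a ≠ 0) :
    SLT G (Submodule.span K {a, b}) (LinearMap.ker φ ⊓ LinearMap.ker ψ) := by
  have hc := pair_compl h.1 h'.1 h1 h2
  refine ⟨hc, ?_⟩
  intro w hw ω hω hωw
  obtain ⟨x, y, rfl⟩ := Submodule.mem_span_pair.mp hw
  set u : K := ω b / φ b with hu
  set v : K := ω a / ψ a with hv
  have hω' : ω = u • φ + v • ψ := by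
    have hzero : ∀ t, (ω - (u • φ + v • ψ)) t = 0 := by
      intro t
      have ha' : (ω - (u • φ + v • ψ)) a = 0 := by
        simp only [LinearMap.sub_apply, LinearMap.add_apply, LinearMap.smul_apply, smul_eq_mul,
          h.1, mul_zero, zero_add, hv, div_mul_cancel₀ _ h2, sub_self]
      have hb' : (ω - (u • φ + v • ψ)) b = 0 := by
        simp only [LinearMap.sub_apply, LinearMap.add_apply, LinearMap.smul_apply, smul_eq_mul,
          h'.1, mul_zero, add_zero, hu, div_mul_cancel₀ _ h1, sub_self]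
      have hZ : ∀ z ∈ LinearMap.ker φ ⊓ LinearMap.ker ψ, (ω - (u • φ + v • ψ)) z = 0 := by
        intro z hz
        have e1 : φ z = 0 := hz.1
        have e2 : ψ z = 0 := hz.2
        simp only [LinearMap.sub_apply, LinearMap.add_apply, LinearMap.smul_apply, smul_eq_mul,
          e1, e2, mul_zero, add_zero, hω z hz, sub_self]
      rw [← pr1_add_pr2 hc t, map_add, hZ _ (pr2_mem hc t), add_zero]
      obtain ⟨s, r, hsr⟩ := Submodule.mem_span_pair.mp (pr1_mem hc t)
      rw [← hsr, map_add, map_smul, map_smul, ha', hb', smul_zero, smul_zero, add_zero]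
    ext t
    have := hzero t
    rw [LinearMap.sub_apply, sub_eq_zero] at this
    exact this
  rw [hω'] at hωw ⊢
  exact S_pair hF h h' h1 h2 x y u v hωw

lemma pair_lt_of_mem (ha : φ a = 0) (hb : ψ b = 0) (h1 : φ b ≠ 0) (h2 : ψ a ≠ 0) :
    2 ≤ finrank K (Submodule.span K ({a, b} : Set V)) := by
  have hli : LinearIndependent K ![a, b] := by
    rw [LinearIndependent.pair_iff]
    intro s t hst
    have e1 := congrArg φ hst
    have e2 := congrArg ψ hst
    rw [map_add, map_smul, map_smul, ha, smul_zero, zero_add, smul_eq_mul, map_zero] at e1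
    rw [map_add, map_smul, map_smul, hb, smul_zero, add_zero, smul_eq_mul, map_zero] at e2
    exact ⟨(mul_eq_zero.mp e2).resolve_right h2, (mul_eq_zero.mp e1).resolve_right h1⟩
  have := finrank_span_eq_card hli
  rw [Fintype.card_fin] at this
  have e : Set.range ![a, b] = ({a, b} : Set V) := by
    ext x
    simp [Matrix.range_cons, eq_comm, or_comm]
  rw [e] at this
  rw [this]

end Pair

section CaseA

variable {W Z : Submodule K V}

/-- Key lemma (uses the involution). -/
lemma key1a (hF : Full G) (h2 : (2 : K) ≠ 0) (hc : IsCompl W Z) {g : V ≃ₗ[K] V} (hg : g ∈ G)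
    (hgW : ∀ w ∈ W, g w = -w) (hgZ : ∀ z ∈ Z, g z = z) {e : V} {ε : Dual K V} (hS : S G e ε)
    (hne : ε (pr1 hc e) ≠ 0) : S G (pr2 hc e) (ε ∘ₗ pr1 hc) := by
  have hgx : ∀ x, g x = -pr1 hc x + pr2 hc x := by
    intro x
    conv_lhs => rw [← pr1_add_pr2 hc x]
    rw [map_add, hgW _ (pr1_mem hc x), hgZ _ (pr2_mem hc x)]
  have hginv : ∀ x, g⁻¹ x = -pr1 hc x + pr2 hc x := by
    intro x
    have : g (-pr1 hc x + pr2 hc x) = x := by
      rw [map_add, map_neg, hgW _ (pr1_mem hc x), hgZ _ (pr2_mem hc x), neg_neg, pr1_add_pr2]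
    calc g⁻¹ x = g⁻¹ (g (-pr1 hc x + pr2 hc x)) := by rw [this]
      _ = -pr1 hc x + pr2 hc x := inv_apply_apply' g _
  have hS' := S_conj hg hS
  have hε2 : ε (pr2 hc e) = -ε (pr1 hc e) := by
    have := hS.1
    rw [← pr1_add_pr2 hc e, map_add] at this
    linear_combination this
  have e1 : ε (g e) ≠ 0 := by
    rw [hgx, map_add, map_neg, hε2]
    intro h
    apply hne
    have : (2 : K) * ε (pr1 hc e) = 0 := by linear_combination -h
    exact (mul_eq_zero.mp this).resolve_left h2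
  have e2 : cod g ε e ≠ 0 := by
    rw [cod_apply, hginv, map_add, map_neg, hε2]
    intro h
    apply hne
    have : (2 : K) * ε (pr1 hc e) = 0 := by linear_combination -h
    exact (mul_eq_zero.mp this).resolve_left h2
  have hcen : (1 : K) • e + (1 : K) • g e = (2 : K) • pr2 hc e := by
    rw [one_smul, one_smul, hgx]
    conv_lhs => rw [← pr1_add_pr2 hc e]
    simp only [map_add]
    rw [pr1_of_mem hc (pr1_mem hc e), pr1_of_mem' hc (pr2_mem hc e), pr2_of_mem' hc (pr1_mem hc e),
      pr2_of_mem hc (pr2_mem hc e), two_smul]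
    abel
  have hax : (1 : K) • ε + (-1 : K) • cod g ε = (2 : K) • (ε ∘ₗ pr1 hc) := by
    ext x
    have hx : ε x = ε (pr1 hc x) + ε (pr2 hc x) := by rw [← map_add, pr1_add_pr2]
    simp only [LinearMap.add_apply, LinearMap.smul_apply, smul_eq_mul, one_mul, neg_mul,
      LinearMap.comp_apply]
    rw [cod_apply, hginv, map_add, map_neg]
    linear_combination hx
  have hz : ((1 : K) • ε + (-1 : K) • cod g ε) ((1 : K) • e + (1 : K) • g e) = 0 := by
    rw [hcen, hax, LinearMap.smul_apply, LinearMap.comp_apply, map_smul,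
      pr1_of_mem' hc (pr2_mem hc e), smul_zero, map_zero, smul_zero]
  have h5 := S_pair hF hS hS' e1 e2 1 1 1 (-1) hz
  rw [hcen, hax] at h5
  exact S_of_smul_left hF h2 (S_of_smul_right hF h2 h5)

variable [FiniteDimensional K V]

/-- The pair needed to grow a two-dimensional standard subgroup having an extra axis. -/
theorem exists_pair (hF : Full G) (hI : Irr G) (h2 : (2 : K) ≠ 0) (hT : SLT G W Z)
    {g : V ≃ₗ[K] V} (hg : g ∈ G) (hgW : ∀ w ∈ W, g w = -w) (hgZ : ∀ z ∈ Z, g z = z)
    {a₀ : V} (ha₀ : a₀ ∈ W) (ha₀ne : a₀ ≠ 0) {φ'' : Dual K V} (hφ''ne : φ'' ≠ 0)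
    (hφ''W : ∀ w ∈ W, φ'' w = 0) (hS₀ : S G a₀ φ'') :
    ∃ z ∈ Z1 hF W Z, ∃ ζ ∈ Xi hF W Z, ζ z ≠ 0 := by
  have hc := hT.compl
  have hφ''Xi : φ'' ∈ Xi hF W Z := ⟨hφ''W, spreadW hF hT ha₀ ha₀ne hφ''W hS₀⟩
  set Y : Submodule K V := (Xi hF W Z).dualCoannihilator with hY
  have hWY : W ≤ Y := by
    intro w hw
    rw [hY, Submodule.mem_dualCoannihilator]
    intro ζ hζ
    exact hζ.1 w hw
  have hYker : ∀ y ∈ Y, φ'' y = 0 := by
    intro y hy
    rw [hY, Submodule.mem_dualCoannihilator] at hy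
    exact hy φ'' hφ''Xi
  obtain ⟨e, ε, hSe, heY, y, hy, hεy⟩ := hI Y a₀ φ'' ha₀ne hφ''ne hS₀ (hWY ha₀) hYker
  rw [hY, Submodule.mem_dualCoannihilator] at heY
  push Not at heY
  obtain ⟨ζ, hζ, hζe⟩ := heY
  have hζe2 : ζ (pr2 hc e) ≠ 0 := by
    rw [← pr1_add_pr2 hc e, map_add, hζ.1 _ (pr1_mem hc e), zero_add] at hζe
    exact hζe
  by_cases hεW : ∃ w₁ ∈ W, ε w₁ ≠ 0
  · obtain ⟨w₁, hw₁, hεw₁⟩ := hεW
    refine ⟨pr2 hc e, ?_, ζ, hζ, hζe2⟩
    by_cases h1 : ε (pr1 hc e) ≠ 0
    · have h3 := key1a hF h2 hc hg hgW hgZ hSe h1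
      refine ⟨pr2_mem hc e, spreadZ hF hT (pr2_mem hc e) ?_ ?_ h3⟩
      · intro z hz
        rw [LinearMap.comp_apply, pr1_of_mem' hc hz, map_zero]
      · intro h
        apply h1
        have := congrArg (fun f : Dual K V => f (pr1 hc e)) h
        simpa [pr1_of_mem hc (pr1_mem hc e)] using this
    · push Not at h1
      set w : V := (ε w₁)⁻¹ • w₁ with hw
      have hwW : w ∈ W := W.smul_mem _ hw₁
      have hεw : ε w = 1 := by rw [hw, map_smul, smul_eq_mul, inv_mul_cancel₀ hεw₁]
      have h3 := S_conj_tv (hζ.2 w hwW) hSe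
      rw [hεw, one_smul] at h3
      have h4 : (ζ - ζ e • ε) (pr1 hc (w + e)) ≠ 0 := by
        rw [map_add, pr1_of_mem hc hwW, LinearMap.sub_apply, LinearMap.smul_apply, map_add,
          map_add, hζ.1 w hwW, hζ.1 _ (pr1_mem hc e), hεw, h1]
        simp only [add_zero, smul_eq_mul, mul_one, zero_sub, ne_eq, neg_eq_zero]
        exact hζe
      have h5 := key1a hF h2 hc hg hgW hgZ h3 h4
      have e5 : pr2 hc (w + e) = pr2 hc e := by
        rw [map_add, pr2_of_mem' hc hwW, zero_add]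
      rw [e5] at h5
      refine ⟨pr2_mem hc e, spreadZ hF hT (pr2_mem hc e) ?_ ?_ h5⟩
      · intro z hz
        rw [LinearMap.comp_apply, pr1_of_mem' hc hz, map_zero]
      · intro h
        apply h4
        have := congrArg (fun f : Dual K V => f (w + e)) h
        simpa using this
  · push Not at hεW
    exfalso
    have hεXi : ε ∈ Xi hF W Z := by
      refine ⟨hεW, fun w hw => ?_⟩
      exact fact2' hF (hζ.2 w hw) hSe (hεW w hw) hζe
    rw [hY, Submodule.mem_dualCoannihilator] at hy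
    exact hεy (hy ε hεXi)

end CaseA

section Main

variable [FiniteDimensional K V]

/-- A partner with nonzero value at `a`. -/
lemma exists_partner (hF : Full G) (hI : Irr G) {a : V} (ha : a ≠ 0)
    (hne : ∃ φ : Dual K V, S G a φ ∧ φ ≠ 0) :
    ∃ (b : V) (ψ : Dual K V), b ≠ 0 ∧ S G b ψ ∧ ψ a ≠ 0 := by
  by_contra hcon
  push Not at hcon
  let Y : Submodule K V :=
    { carrier := {x | ∀ (b : V) (ψ : Dual K V), b ≠ 0 → S G b ψ → ψ x = 0}
      add_mem' := fun {x y} hx hy b ψ hb hS => by rw [map_add, hx b ψ hb hS, hy b ψ hb hS, add_zero]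
      zero_mem' := fun b ψ _ _ => map_zero ψ
      smul_mem' := fun c x hx b ψ hb hS => by rw [map_smul, hx b ψ hb hS, smul_zero] }
  have haY : a ∈ Y := fun b ψ hb hS => hcon b ψ hb hS
  obtain ⟨φ, hSφ, hφ⟩ := hne
  obtain ⟨b, ψ, hS, hbY, y, hy, hψy⟩ := hI Y a φ ha hφ hSφ haY (fun y hy => hy a φ ha hSφ)
  have hb : b ≠ 0 := by
    rintro rfl
    exact hbY Y.zero_mem
  exact hψy (hy b ψ hb hS)

/-- The special linear case. -/
theorem caseA (hF : Full G) (hI : Irr G) (h2 : (2 : K) ≠ 0) (hA : ¬ OneDim G) :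
    ∃ W Z : Submodule K V, SLT G W Z ∧ 3 ≤ finrank K W ∧ ClosedPair G W Z := by
  classical
  -- a centre with maximal space of axes
  unfold OneDim at hA
  push Not at hA
  obtain ⟨a₁, φ₁, φ₂, ha₁, hS₁, hS₂, hφ₁, hφ₂⟩ := hA
  have hfr1 : 2 ≤ finrank K (PhiSub hF a₁) := by
    have hli : LinearIndependent K ![φ₁, φ₂] := by
      rw [LinearIndependent.pair_iff]
      intro s t hst'
      by_cases ht : t = 0
      · subst ht
        rw [zero_smul, add_zero] at hst'
        rcases smul_eq_zero.mp hst' with h | h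
        · exact ⟨h, rfl⟩
        · exact absurd h hφ₁
      · exfalso
        apply hφ₂ (-(s / t))
        have : t • φ₂ = -(s • φ₁) := eq_neg_of_add_eq_zero_right hst'
        calc φ₂ = t⁻¹ • (t • φ₂) := by rw [smul_smul, inv_mul_cancel₀ ht, one_smul]
          _ = -(s / t) • φ₁ := by
            rw [this, smul_neg, smul_smul, ← neg_smul]
            congr 1
            field_simp
    have h1 := finrank_span_eq_card hli
    rw [Fintype.card_fin] at h1
    have hle : Submodule.span K (Set.range ![φ₁, φ₂]) ≤ PhiSub hF a₁ := by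
      rw [Submodule.span_le]
      rintro f ⟨i, rfl⟩
      fin_cases i
      · exact hS₁
      · exact hS₂
    have := Submodule.finrank_mono hle
    omega
  let P : ℕ → Prop := fun n => ∃ a : V, a ≠ 0 ∧ finrank K (PhiSub hF a) = n
  have hPle : ∀ n, P n → n ≤ finrank K (Dual K V) := by
    rintro n ⟨a, _, rfl⟩
    exact Submodule.finrank_le _
  set N := finrank K (Dual K V) with hN
  have hP1 : P (finrank K (PhiSub hF a₁)) := ⟨a₁, ha₁, rfl⟩
  have hspec := Nat.findGreatest_spec (P := P) (hPle _ hP1) hP1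
  obtain ⟨a, ha, hafr⟩ := hspec
  have hmax : ∀ a' : V, a' ≠ 0 → finrank K (PhiSub hF a') ≤ finrank K (PhiSub hF a) := by
    intro a' ha'
    rw [hafr]
    exact Nat.le_findGreatest (hPle _ ⟨a', ha', rfl⟩) ⟨a', ha', rfl⟩
  have hfr : 2 ≤ finrank K (PhiSub hF a) := hfr1.trans (hmax a₁ ha₁)
  have hne : ∃ φ : Dual K V, S G a φ ∧ φ ≠ 0 := by
    have : PhiSub hF a ≠ ⊥ := by
      intro h
      rw [h, finrank_bot] at hfr
      omega
    obtain ⟨φ, hφ, hφne⟩ := (Submodule.ne_bot_iff _).mp this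
    exact ⟨φ, hφ, hφne⟩
  obtain ⟨b, ψ, hb, hSb, hψa⟩ := exists_partner hF hI ha hne
  -- some axis of `a` does not vanish at `b`
  have hex : ∃ φ : Dual K V, S G a φ ∧ φ b ≠ 0 := by
    by_contra hcon
    push Not at hcon
    have hle : PhiSub hF a ≤ PhiSub hF b := fun φ hφ => fact2 hF hφ hSb (hcon φ hφ) hψa
    have hlt : PhiSub hF a < PhiSub hF b := by
      refine lt_of_le_of_ne hle ?_
      intro h
      have : ψ ∈ PhiSub hF a := by rw [h]; exact hSb
      exact hψa this.1
    have := Submodule.finrank_lt_finrank_of_lt hlt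
    have := hmax b hb
    omega
  obtain ⟨φ, hSa, hφb⟩ := hex
  -- an extra axis of `a` vanishing at `b`
  let ev : PhiSub hF a →ₗ[K] K :=
    { toFun := fun f => (f : Dual K V) b
      map_add' := fun f f' => by simp
      map_smul' := fun c f => by simp }
  have hker : LinearMap.ker ev ≠ ⊥ := by
    intro hbot
    have hinj : Function.Injective ev := by
      intro x y hxy
      have hxy' : (x : Dual K V) b = (y : Dual K V) b := hxy
      have hmem : x - y ∈ LinearMap.ker ev := by
        rw [LinearMap.mem_ker]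
        show ((x - y : PhiSub hF a) : Dual K V) b = 0
        rw [Submodule.coe_sub, LinearMap.sub_apply, hxy', sub_self]
      rw [hbot, Submodule.mem_bot] at hmem
      exact sub_eq_zero.mp hmem
    have hle := LinearMap.finrank_le_finrank_of_injective hinj
    rw [Module.finrank_self] at hle
    omega
  obtain ⟨⟨φ'', hφ''S⟩, hφ''k, hφ''ne⟩ := (Submodule.ne_bot_iff _).mp hker
  have hφ''b : φ'' b = 0 := hφ''k
  have hφ''0 : φ'' ≠ 0 := fun h => hφ''ne (by ext1; exact h)
  have hφ''S : S G a φ'' := hφ''S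
  -- the standard pair
  have hT := SLT_of_pair hF hSa hSb hφb hψa
  obtain ⟨g, hg, hga, hgb, hgx⟩ := exists_invol hF hSa hSb hφb hψa
  have hgW : ∀ w ∈ Submodule.span K ({a, b} : Set V), g w = -w := by
    intro w hw
    obtain ⟨s, t, rfl⟩ := Submodule.mem_span_pair.mp hw
    rw [map_add, map_smul, map_smul, hga, hgb]
    simp only [smul_neg, neg_add_rev]
    abel
  have hgZ : ∀ z ∈ LinearMap.ker φ ⊓ LinearMap.ker ψ, g z = z := fun z hz => hgx z hz.1 hz.2
  have hφ''W : ∀ w ∈ Submodule.span K ({a, b} : Set V), φ'' w = 0 := by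
    intro w hw
    obtain ⟨s, t, rfl⟩ := Submodule.mem_span_pair.mp hw
    rw [map_add, map_smul, map_smul, hφ''S.1, hφ''b, smul_zero, smul_zero, add_zero]
  have haW : a ∈ Submodule.span K ({a, b} : Set V) :=
    Submodule.subset_span (Set.mem_insert _ _)
  obtain ⟨z₀, hz₀, ζ₀, hζ₀, hκ⟩ :=
    exists_pair hF hI h2 hT hg hgW hgZ haW ha hφ''0 hφ''W hφ''S
  have hT' := stepD hF hT hz₀ hζ₀ hκ
  have h3 : 3 ≤ finrank K ↥(Submodule.span K ({a, b} : Set V) ⊔ Submodule.span K {z₀}) := by
    have h2' := pair_lt_of_mem hSa.1 hSb.1 hφb hψa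
    have hlt : Submodule.span K ({a, b} : Set V) <
        Submodule.span K ({a, b} : Set V) ⊔ Submodule.span K {z₀} := by
      refine lt_of_le_of_ne le_sup_left ?_
      intro h
      have hz₀W : z₀ ∈ Submodule.span K ({a, b} : Set V) := by
        rw [h]
        exact Submodule.mem_sup_right (Submodule.mem_span_singleton_self z₀)
      have : z₀ = 0 := inter_eq_zero hT.compl hz₀W hz₀.1
      rw [this, map_zero] at hκ
      exact hκ rfl
    have := Submodule.finrank_lt_finrank_of_lt hlt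
    omega
  exact exists_closed hF hI _ _ _ rfl hT' h3

end Main

end Cfsg.Agent.Lib.Helper94_McL3
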