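import Mathlib
import Cfsg.Agent.Lib.Helper94_McL3

/-!
# Groups generated by transvections: the symplectic case (helper94)

If every centre has at most a line of axes (`OneDim G`), `G` has full root subgroups, is relatively
irreducible and `2 ≠ 0`, then a nonzero transvection of `G` lies in a closed standard pair of
symplectic type (`caseB`).
-/

set_option autoImplicit false

namespace Cfsg.Agent.Lib.Helper94_McL4

open Module Cfsg.Agent.Lib.Helper94_McL1 Cfsg.Agent.Lib.Helper94_McL2 Cfsg.Agent.Lib.Helper94_McL3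

variable {K V : Type*} [Field K] [AddCommGroup V] [Module K V]
variable {G : Subgroup (V ≃ₗ[K] V)}

/-- Under `OneDim`, orthogonality of transvection pairs is symmetric. -/
lemma perp_symm (hF : Full G) (hO : OneDim G) {a b : V} {φ ψ : Dual K V} (h : S G a φ)
    (h' : S G b ψ) (hb : b ≠ 0) (hφ : φ ≠ 0) (h1 : φ b = 0) : ψ a = 0 := by
  by_contra h2
  have h3 : S G b φ := fact2 hF h h' h1 h2
  have hψ : ψ ≠ 0 := by
    rintro rfl
    exact h2 rfl
  obtain ⟨c, hc⟩ := hO b ψ φ hb h' h3 hψ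
  have : φ a = c * ψ a := by rw [hc, LinearMap.smul_apply, smul_eq_mul]
  rw [h.1] at this
  have hc0 : c = 0 := (mul_eq_zero.mp this.symm).resolve_right h2
  apply hφ
  rw [hc, hc0, zero_smul]

/-! ### The alternating form attached to two functionals -/

/-- `wedge ζ₁ ζ₂ x y = ζ₁ x * ζ₂ y - ζ₂ x * ζ₁ y`. -/
noncomputable def wedge (ζ₁ ζ₂ : Dual K V) : LinearMap.BilinForm K V :=
  ζ₁.smulRight ζ₂ - ζ₂.smulRight ζ₁

lemma wedge_apply (ζ₁ ζ₂ : Dual K V) (x y : V) :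
    wedge ζ₁ ζ₂ x y = ζ₁ x * ζ₂ y - ζ₂ x * ζ₁ y := by
  simp [wedge, LinearMap.smulRight_apply]

lemma wedge_isAlt (ζ₁ ζ₂ : Dual K V) : (wedge ζ₁ ζ₂).IsAlt := by
  intro x
  rw [wedge_apply]
  ring

/-! ### Isometries generated by transvections with centres in a subspace -/

section GoodEl

variable {B : LinearMap.BilinForm K V} {U : Submodule K V}

lemma alt_swap (hB : B.IsAlt) (x y : V) : B x y = - B y x := (hB.neg_eq y x).symm

/-- Elements of `G` that are isometries of `B`, move every vector inside `U`, and fix the vectors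
orthogonal to `U`. -/
def GoodEl (G : Subgroup (V ≃ₗ[K] V)) (B : LinearMap.BilinForm K V) (U : Submodule K V)
    (g : V ≃ₗ[K] V) : Prop :=
  g ∈ G ∧ (∀ x y, B (g x) (g y) = B x y) ∧ (∀ x, g x - x ∈ U) ∧
    ∀ x, (∀ u ∈ U, B u x = 0) → g x = x

lemma goodEl_mul {g h : V ≃ₗ[K] V} (hg : GoodEl G B U g) (hh : GoodEl G B U h) :
    GoodEl G B U (g * h) := by
  refine ⟨G.mul_mem hg.1 hh.1, ?_, ?_, ?_⟩
  · intro x y
    rw [LinearEquiv.mul_apply, LinearEquiv.mul_apply, hg.2.1, hh.2.1]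
  · intro x
    rw [LinearEquiv.mul_apply]
    have : g (h x) - x = (g (h x) - h x) + (h x - x) := by abel
    rw [this]
    exact U.add_mem (hg.2.2.1 _) (hh.2.2.1 _)
  · intro x hx
    rw [LinearEquiv.mul_apply, hh.2.2.2 x hx, hg.2.2.2 x hx]

lemma goodEl_inv_sub {g : V ≃ₗ[K] V} (hg : GoodEl G B U g) (x : V) : g⁻¹ x - x ∈ U := by
  have h := hg.2.2.1 (g⁻¹ x)
  rw [apply_inv_apply'] at h
  have : g⁻¹ x - x = -(x - g⁻¹ x) := by abel
  rw [this]
  exact U.neg_mem h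

lemma cod_iso {g : V ≃ₗ[K] V} (hg : ∀ x y, B (g x) (g y) = B x y) (a : V) :
    cod g (B a) = B (g a) := by
  ext x
  rw [cod_apply]
  conv_rhs => rw [← apply_inv_apply' g x]
  rw [hg]

lemma goodEl_stv (hF : Full G) (hB : B.IsAlt) {u : V} (hu : u ∈ U) (hS : S G u (B u)) (c : K) :
    GoodEl G B U (tve u (c • B u)) := by
  have h0 : (c • B u) u = 0 := by rw [LinearMap.smul_apply, hB u, smul_zero]
  have hap : ∀ x, tve u (c • B u) x = x + (c * B u x) • u := by
    intro x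
    rw [tve_apply h0, LinearMap.smul_apply, smul_eq_mul]
  refine ⟨(S_smul_right hF c hS).2, ?_, ?_, ?_⟩
  · intro x y
    rw [hap, hap]
    simp only [map_add, map_smul, LinearMap.add_apply, LinearMap.smul_apply, smul_eq_mul, hB u]
    have := alt_swap hB x u
    rw [this]
    ring
  · intro x
    rw [hap, add_sub_cancel_left]
    exact U.smul_mem _ hu
  · intro x hx
    rw [hap, hx u hu, mul_zero, zero_smul, add_zero]

lemma goodEl_move1 (hF : Full G) (hB : B.IsAlt) (hU : ∀ u ∈ U, S G u (B u)) {x y : V}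
    (hx : x ∈ U) (hy : y ∈ U) (h : B y x ≠ 0) : ∃ g, GoodEl G B U g ∧ g x = y := by
  have hu : y - x ∈ U := U.sub_mem hy hx
  refine ⟨tve (y - x) ((B y x)⁻¹ • B (y - x)), goodEl_stv hF hB hu (hU _ hu) _, ?_⟩
  have h0 : ((B y x)⁻¹ • B (y - x)) (y - x) = 0 := by
    rw [LinearMap.smul_apply, hB (y - x), smul_zero]
  rw [tve_apply h0, LinearMap.smul_apply, map_sub, LinearMap.sub_apply, hB x, sub_zero,
    smul_eq_mul, inv_mul_cancel₀ h, one_smul]
  abel

lemma goodEl_move (hF : Full G) (hB : B.IsAlt) (hU : ∀ u ∈ U, S G u (B u))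
    (hnd : ∀ u ∈ U, u ≠ 0 → ∃ u' ∈ U, B u u' ≠ 0) {x y : V} (hx : x ∈ U) (hy : y ∈ U)
    (hx0 : x ≠ 0) (hy0 : y ≠ 0) : ∃ g, GoodEl G B U g ∧ g x = y := by
  by_cases h : B y x ≠ 0
  · exact goodEl_move1 hF hB hU hx hy h
  · push Not at h
    obtain ⟨u₁, hu₁, h1⟩ := hnd x hx hx0
    obtain ⟨u₂, hu₂, h2⟩ := hnd y hy hy0
    obtain ⟨u, hu, hux, huy⟩ : ∃ u ∈ U, B x u ≠ 0 ∧ B y u ≠ 0 := by
      by_cases h3 : B y u₁ ≠ 0
      · exact ⟨u₁, hu₁, h1, h3⟩
      · push Not at h3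
        by_cases h4 : B x u₂ ≠ 0
        · exact ⟨u₂, hu₂, h4, h2⟩
        · push Not at h4
          refine ⟨u₁ + u₂, U.add_mem hu₁ hu₂, ?_, ?_⟩
          · rw [map_add, h4, add_zero]; exact h1
          · rw [map_add, h3, zero_add]; exact h2
    have hux' : B u x ≠ 0 := by
      rw [alt_swap hB]
      exact neg_ne_zero.mpr hux
    obtain ⟨g₁, hg₁, e₁⟩ := goodEl_move1 hF hB hU hx hu hux'
    obtain ⟨g₂, hg₂, e₂⟩ := goodEl_move1 hF hB hU hu hy huy
    refine ⟨g₂ * g₁, goodEl_mul hg₂ hg₁, ?_⟩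
    rw [LinearEquiv.mul_apply, e₁, e₂]

end GoodEl

/-! ### Standard pairs of symplectic type -/

/-- A standard subgroup of symplectic type: `W` is a complement of the radical of the alternating
form `B`, and `B w` is an axis for each centre `w ∈ W`. -/
structure SpT (G : Subgroup (V ≃ₗ[K] V)) (W : Submodule K V) (B : LinearMap.BilinForm K V) :
    Prop where
  alt : B.IsAlt
  compl : IsCompl W (LinearMap.ker B)
  mem : ∀ w ∈ W, S G w (B w)

section Sp

variable {W : Submodule K V} {B : LinearMap.BilinForm K V}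

lemma SpT.ker_left (hT : SpT G W B) {z : V} (hz : z ∈ LinearMap.ker B) (x : V) : B z x = 0 := by
  have : B z = 0 := hz
  rw [this, LinearMap.zero_apply]

lemma SpT.ker_right (hT : SpT G W B) {z : V} (hz : z ∈ LinearMap.ker B) (x : V) : B x z = 0 := by
  rw [alt_swap hT.alt, hT.ker_left hz, neg_zero]

lemma SpT.apply_pr1 (hT : SpT G W B) (x y : V) : B x (pr1 hT.compl y) = B x y := by
  conv_rhs => rw [← pr1_add_pr2 hT.compl y, map_add, hT.ker_right (pr2_mem hT.compl y), add_zero]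

lemma SpT.nondeg (hT : SpT G W B) {w : V} (hw : w ∈ W) (h : ∀ w' ∈ W, B w w' = 0) : w = 0 := by
  have : w ∈ LinearMap.ker B := by
    rw [LinearMap.mem_ker]
    ext y
    rw [← hT.apply_pr1, h _ (pr1_mem hT.compl y), LinearMap.zero_apply]
  exact inter_eq_zero hT.compl hw this

lemma SpT.nondeg' (hT : SpT G W B) : ∀ u ∈ W, u ≠ 0 → ∃ u' ∈ W, B u u' ≠ 0 := by
  intro u hu hu0
  by_contra hcon
  push Not at hcon
  exact hu0 (hT.nondeg hu hcon)

lemma SpT.axis_ne_zero (hT : SpT G W B) {w : V} (hw : w ∈ W) (hw0 : w ≠ 0) : B w ≠ 0 := by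
  intro h
  apply hw0
  apply hT.nondeg hw
  intro w' _
  rw [h, LinearMap.zero_apply]

variable [FiniteDimensional K V]

/-- Splitting a transvection of `G` that is not supported on `W` but whose axis meets `W`. -/
theorem sp_split (hF : Full G) (hO : OneDim G) (h2 : (2 : K) ≠ 0) (hT : SpT G W B) {b : V}
    {ψ : Dual K V} (hS : S G b ψ) (hbW : b ∉ W) {y : V} (hy : y ∈ W) (hψy : ψ y ≠ 0) :
    ∃ (ζ : Dual K V) (c : K), c ≠ 0 ∧ ζ = c • ψ - B (pr1 hT.compl b) ∧ ζ ≠ 0 ∧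
      (∀ w ∈ W, ζ w = 0) ∧ S G (pr2 hT.compl b) ζ ∧
      pr1 hT.compl b ≠ 0 ∧ S G b (B (pr1 hT.compl b) + ζ) := by
  have hc := hT.compl
  have hB := hT.alt
  set bW := pr1 hc b with hbWdef
  set bZ := pr2 hc b with hbZdef
  have hbWW : bW ∈ W := pr1_mem hc b
  have hbZZ : bZ ∈ LinearMap.ker B := pr2_mem hc b
  have hbsum : bW + bZ = b := pr1_add_pr2 hc b
  have hb0 : b ≠ 0 := by
    rintro rfl
    exact hbW W.zero_mem
  have hψ0 : ψ ≠ 0 := by
    rintro rfl
    exact hψy rfl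
  have hbZ0 : bZ ≠ 0 := fun h => hbW ((mem_W_iff hc).mpr h)
  -- the kernel of `ψ` on `W`
  have hBwb : ∀ w, B w b = B w bW := by
    intro w
    rw [← hbsum, map_add, hT.ker_right hbZZ, add_zero]
  have hiff : ∀ w ∈ W, ψ w = 0 ↔ B w bW = 0 := by
    intro w hw
    by_cases hw0 : w = 0
    · subst hw0
      simp
    constructor
    · intro h
      have := perp_symm hF hO hS (hT.mem w hw) hw0 hψ0 h
      rwa [hBwb] at this
    · intro h
      have h' : B w b = 0 := by rw [hBwb]; exact h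
      exact perp_symm hF hO (hT.mem w hw) hS hb0 (hT.axis_ne_zero hw hw0) h'
  have hyb : B y bW ≠ 0 := fun h => hψy ((hiff y hy).mpr h)
  have hbW0 : bW ≠ 0 := by
    intro h
    rw [h, map_zero] at hyb
    exact hyb rfl
  -- proportionality on `W`
  set c : K := B bW y / ψ y with hcdef
  have hby : B bW y ≠ 0 := by
    rw [alt_swap hB]
    exact neg_ne_zero.mpr hyb
  have hc0 : c ≠ 0 := div_ne_zero hby hψy
  have hprop : ∀ w ∈ W, c * ψ w = B bW w := by
    intro w hw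
    have hw' : w - (ψ w / ψ y) • y ∈ W := W.sub_mem hw (W.smul_mem _ hy)
    have h1 : ψ (w - (ψ w / ψ y) • y) = 0 := by
      rw [map_sub, map_smul, smul_eq_mul, div_mul_cancel₀ _ hψy, sub_self]
    have h3 := (hiff _ hw').mp h1
    rw [alt_swap hB, neg_eq_zero, map_sub, map_smul, smul_eq_mul] at h3
    rw [hcdef, sub_eq_zero.mp h3]
    ring
  set ψ₁ : Dual K V := c • ψ with hψ₁
  have hS₁ : S G b ψ₁ := S_smul_right hF c hS
  set β : Dual K V := B bW with hβ
  set ζ : Dual K V := ψ₁ - β with hζ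
  have hζW : ∀ w ∈ W, ζ w = 0 := by
    intro w hw
    rw [hζ, LinearMap.sub_apply, hψ₁, LinearMap.smul_apply, smul_eq_mul, hprop w hw, sub_self]
  have hψ₁eq : ψ₁ = β + ζ := by rw [hζ]; abel
  have hβZ : ∀ z ∈ LinearMap.ker B, β z = 0 := fun z hz => hT.ker_right hz bW
  have hβbW : β bW = 0 := hB bW
  have hζbZ : ζ bZ = 0 := by
    have := hS₁.1
    rw [hψ₁eq, ← hbsum, LinearMap.add_apply, map_add, map_add, hβbW, hβZ bZ hbZZ, hζW bW hbWW]
      at this
    simpa using this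
  -- the element of `G` negating `bW`
  obtain ⟨g, hg, hgb⟩ := goodEl_move hF hB hT.mem hT.nondeg' hbWW (W.neg_mem hbWW) hbW0
    (neg_ne_zero.mpr hbW0)
  have hgZ : g bZ = bZ := hg.2.2.2 bZ (fun u _ => hT.ker_right hbZZ u)
  have hS₂ := S_conj hg.1 hS₁
  have e1 : g b = -bW + bZ := by rw [← hbsum, map_add, hgb, hgZ]
  have e2 : cod g ψ₁ = -β + ζ := by
    rw [hψ₁eq]
    ext x
    rw [cod_apply, LinearMap.add_apply, LinearMap.add_apply, LinearMap.neg_apply]
    have h1 : β (g⁻¹ x) = -β x := by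
      have := cod_iso hg.2.1 bW
      have h' := congrArg (fun f : Dual K V => f x) this
      simp only [cod_apply] at h'
      rw [hβ, h', hgb, map_neg, LinearMap.neg_apply]
    have h3 : ζ (g⁻¹ x) = ζ x := by
      have : g⁻¹ x = x + (g⁻¹ x - x) := by abel
      rw [this, map_add, hζW _ (goodEl_inv_sub hg x), add_zero]
    rw [h1, h3]
  rw [e1, e2] at hS₂
  -- the product of the two transvections
  have hprod : tve b ψ₁ * tve (-bW + bZ) (-β + ζ) = tve bW ((2 : K) • β) * tve bZ ((2 : K) • ζ) := by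
    have k1 : ψ₁ b = 0 := hS₁.1
    have k2 : (-β + ζ) (-bW + bZ) = 0 := hS₂.1
    have k3 : ((2 : K) • β) bW = 0 := by rw [LinearMap.smul_apply, hβbW, smul_zero]
    have k4 : ((2 : K) • ζ) bZ = 0 := by rw [LinearMap.smul_apply, hζbZ, smul_zero]
    ext x
    rw [LinearEquiv.mul_apply, LinearEquiv.mul_apply, tve_apply k1, tve_apply k2, tve_apply k3,
      tve_apply k4, hψ₁eq]
    simp only [map_add, map_smul, map_neg, LinearMap.add_apply, LinearMap.neg_apply,
      LinearMap.smul_apply, smul_eq_mul, hβbW, hβZ bZ hbZZ, hζW bW hbWW, hζbZ]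
    rw [← hbsum]
    module
  have h5 : tve bZ ((2 : K) • ζ) ∈ G := by
    have h6 : tve bW ((2 : K) • β) ∈ G := (S_smul_right hF 2 (hT.mem bW hbWW)).2
    have h7 : tve b ψ₁ * tve (-bW + bZ) (-β + ζ) ∈ G := G.mul_mem hS₁.2 hS₂.2
    rw [hprod] at h7
    have := G.mul_mem (G.inv_mem h6) h7
    rwa [inv_mul_cancel_left] at this
  have hSZ : S G bZ ζ := by
    have : S G bZ ((2 : K) • ζ) := ⟨by rw [LinearMap.smul_apply, hζbZ, smul_zero], h5⟩
    exact S_of_smul_right hF h2 this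
  have hζ0 : ζ ≠ 0 := by
    intro h
    have h8 : S G b β := by
      have := hS₁
      rwa [hψ₁eq, h, add_zero] at this
    have h9 : S G bZ β := by
      have := S_sub_left h8 (hT.mem bW hbWW)
      rwa [← hbsum, add_sub_cancel_left] at this
    have := perp_symm hF hO (hT.mem y hy) h9 hbZ0 (hT.axis_ne_zero hy (by
      rintro rfl
      rw [map_zero] at hψy
      exact hψy rfl)) (hT.ker_right hbZZ y)
    exact hby this
  refine ⟨ζ, c, hc0, rfl, hζ0, hζW, hSZ, hbW0, ?_⟩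
  rw [← hψ₁eq]
  exact hS₁

/-- Adding a hyperbolic plane to a standard pair of symplectic type. -/
theorem add_plane (hF : Full G) (hT : SpT G W B) {z₁ z₂ : V} {ζ₁ ζ₂ : Dual K V}
    (hz₁ : z₁ ∈ LinearMap.ker B) (hz₂ : z₂ ∈ LinearMap.ker B)
    (hζ₁ : ∀ w ∈ W, ζ₁ w = 0) (hζ₂ : ∀ w ∈ W, ζ₂ w = 0) (hS₁ : S G z₁ ζ₁) (hS₂ : S G z₂ ζ₂)
    (h12 : ζ₁ z₂ ≠ 0) (h21 : ζ₂ z₁ ≠ 0)
    (hmix : W ≠ ⊥ → ∃ bW ∈ W, bW ≠ 0 ∧ S G (bW + z₁) (B bW + ζ₁)) :
    SpT G (W ⊔ Submodule.span K {z₁, z₂}) (B + (-(ζ₂ z₁)⁻¹) • wedge ζ₁ ζ₂) := by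
  have hc := hT.compl
  have hB := hT.alt
  set κ : K := -(ζ₂ z₁)⁻¹ with hκ
  set B' : LinearMap.BilinForm K V := B + κ • wedge ζ₁ ζ₂ with hB'def
  set P : Submodule K V := Submodule.span K {z₁, z₂} with hP
  have hκ21 : κ * ζ₂ z₁ = -1 := by rw [hκ, neg_mul, inv_mul_cancel₀ h21]
  have hB'ap : ∀ x y, B' x y = B x y + κ * (ζ₁ x * ζ₂ y - ζ₂ x * ζ₁ y) := by
    intro x y
    rw [hB'def, LinearMap.add_apply, LinearMap.add_apply, LinearMap.smul_apply,
      LinearMap.smul_apply, wedge_apply, smul_eq_mul]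
  have hB'alt : B'.IsAlt := by
    intro x
    rw [hB'ap, hB x]
    ring
  have hB'W : ∀ w ∈ W, B' w = B w := by
    intro w hw
    ext y
    rw [hB'ap, hζ₁ w hw, hζ₂ w hw]
    ring
  have hB'z₁ : B' z₁ = ζ₁ := by
    ext y
    rw [hB'ap, hT.ker_left hz₁, hS₁.1]
    linear_combination (-(ζ₁ y)) * hκ21
  set κ' : K := κ * ζ₁ z₂ with hκ'
  have hκ'0 : κ' ≠ 0 := by
    rw [hκ', hκ]
    exact mul_ne_zero (neg_ne_zero.mpr (inv_ne_zero h21)) h12
  have hB'z₂ : B' z₂ = κ' • ζ₂ := by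
    ext y
    rw [hB'ap, hT.ker_left hz₂, hS₂.1, LinearMap.smul_apply, smul_eq_mul, hκ']
    ring
  have hz₁P : z₁ ∈ P := Submodule.subset_span (Set.mem_insert _ _)
  have hz₂P : z₂ ∈ P := Submodule.subset_span (Set.mem_insert_of_mem _ rfl)
  have hPker : P ≤ LinearMap.ker B := by
    rw [hP, Submodule.span_le]
    rintro x (rfl | rfl)
    · exact hz₁
    · exact hz₂
  have hB'P : ∀ s t : K, B' (s • z₁ + t • z₂) = s • ζ₁ + (t * κ') • ζ₂ := by
    intro s t
    rw [map_add, map_smul, map_smul, hB'z₁, hB'z₂, smul_smul]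
  -- (a) centres in `W`
  have hmemW : ∀ w ∈ W, S G w (B' w) := by
    intro w hw
    rw [hB'W w hw]
    exact hT.mem w hw
  -- (b) centres in `P`
  have hmemP : ∀ p ∈ P, S G p (B' p) := by
    intro p hp
    obtain ⟨s, t, rfl⟩ := Submodule.mem_span_pair.mp hp
    rw [hB'P]
    refine S_pair hF hS₁ hS₂ h12 h21 s t s (t * κ') ?_
    rw [← hB'P]
    exact hB'alt _
  have hWP : ∀ u ∈ W, ∀ p ∈ P, B' u p = 0 := by
    intro u hu p hp
    rw [hB'W u hu]
    exact hT.ker_right (hPker hp) u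
  have hPW : ∀ p ∈ P, ∀ u ∈ W, B' p u = 0 := by
    intro p hp u hu
    rw [alt_swap hB'alt, hWP u hu p hp, neg_zero]
  have hndW : ∀ u ∈ W, u ≠ 0 → ∃ u' ∈ W, B' u u' ≠ 0 := by
    intro u hu hu0
    obtain ⟨u', hu', h⟩ := hT.nondeg' u hu hu0
    exact ⟨u', hu', by rwa [hB'W u hu]⟩
  have hPzero : ∀ s t : K, s • z₁ + t • z₂ = 0 → s = 0 ∧ t = 0 := by
    intro s t h
    have e1 := congrArg ζ₂ h
    have e2 := congrArg ζ₁ h
    rw [map_add, map_smul, map_smul, hS₂.1, smul_zero, add_zero, map_zero, smul_eq_mul] at e1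
    rw [map_add, map_smul, map_smul, hS₁.1, smul_zero, zero_add, map_zero, smul_eq_mul] at e2
    exact ⟨(mul_eq_zero.mp e1).resolve_right h21, (mul_eq_zero.mp e2).resolve_right h12⟩
  have hndP : ∀ u ∈ P, u ≠ 0 → ∃ u' ∈ P, B' u u' ≠ 0 := by
    intro u hu hu0
    obtain ⟨s, t, rfl⟩ := Submodule.mem_span_pair.mp hu
    by_cases hs : s = 0
    · have ht : t ≠ 0 := by
        rintro rfl
        apply hu0
        rw [hs, zero_smul, zero_smul, add_zero]
      refine ⟨z₁, hz₁P, ?_⟩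
      rw [hB'P, LinearMap.add_apply, LinearMap.smul_apply, LinearMap.smul_apply, hS₁.1, smul_zero,
        zero_add, smul_eq_mul]
      exact mul_ne_zero (mul_ne_zero ht hκ'0) h21
    · refine ⟨z₂, hz₂P, ?_⟩
      rw [hB'P, LinearMap.add_apply, LinearMap.smul_apply, LinearMap.smul_apply, hS₂.1, smul_zero,
        add_zero, smul_eq_mul]
      exact mul_ne_zero hs h12
  have hz₁0 : z₁ ≠ 0 := by
    rintro rfl
    rw [map_zero] at h21
    exact h21 rfl
  refine ⟨hB'alt, ?_, ?_⟩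
  · -- complement
    rw [isCompl_iff, disjoint_iff, codisjoint_iff]
    constructor
    · rw [eq_bot_iff]
      rintro x ⟨hx1, hx2⟩
      obtain ⟨w, hw, p, hp, rfl⟩ := Submodule.mem_sup.mp hx1
      have hx2' : B' (w + p) = 0 := hx2
      have hw0 : w = 0 := by
        apply hT.nondeg hw
        intro w' hw'
        have := congrArg (fun f : Dual K V => f w') hx2'
        simp only [map_add, LinearMap.add_apply, LinearMap.zero_apply] at this
        rw [hPW p hp w' hw', add_zero, hB'W w hw] at this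
        exact this
      subst hw0
      rw [zero_add] at hx2' ⊢
      obtain ⟨s, t, rfl⟩ := Submodule.mem_span_pair.mp hp
      rw [hB'P] at hx2'
      have e1 := congrArg (fun f : Dual K V => f z₂) hx2'
      have e2 := congrArg (fun f : Dual K V => f z₁) hx2'
      simp only [LinearMap.add_apply, LinearMap.smul_apply, LinearMap.zero_apply, smul_eq_mul,
        hS₁.1, hS₂.1, mul_zero, add_zero, zero_add] at e1 e2
      have hs : s = 0 := (mul_eq_zero.mp e1).resolve_right h12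
      have ht : t = 0 := by
        rcases mul_eq_zero.mp e2 with h | h
        · exact (mul_eq_zero.mp h).resolve_right hκ'0
        · exact absurd h h21
      rw [hs, ht, zero_smul, zero_smul, add_zero]
      exact Submodule.zero_mem _
    · rw [eq_top_iff]
      intro x _
      set xZ := pr2 hc x with hxZ
      have hxZk : xZ ∈ LinearMap.ker B := pr2_mem hc x
      set r : V := xZ - ((ζ₂ xZ / ζ₂ z₁) • z₁ + (ζ₁ xZ / ζ₁ z₂) • z₂) with hr
      have hrk : r ∈ LinearMap.ker B :=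
        (LinearMap.ker B).sub_mem hxZk (hPker (Submodule.mem_span_pair.mpr ⟨_, _, rfl⟩))
      have hr1 : ζ₁ r = 0 := by
        rw [hr, map_sub, map_add, map_smul, map_smul, hS₁.1, smul_zero, zero_add, smul_eq_mul,
          div_mul_cancel₀ _ h12, sub_self]
      have hr2 : ζ₂ r = 0 := by
        rw [hr, map_sub, map_add, map_smul, map_smul, hS₂.1, smul_zero, add_zero, smul_eq_mul,
          div_mul_cancel₀ _ h21, sub_self]
      have hrB' : r ∈ LinearMap.ker B' := by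
        rw [LinearMap.mem_ker]
        ext y
        rw [hB'ap, hT.ker_left hrk, hr1, hr2, LinearMap.zero_apply]
        ring
      have e : x = (pr1 hc x + ((ζ₂ xZ / ζ₂ z₁) • z₁ + (ζ₁ xZ / ζ₁ z₂) • z₂)) + r := by
        rw [hr]
        conv_lhs => rw [← pr1_add_pr2 hc x]
        abel
      rw [e]
      exact Submodule.add_mem_sup
        (Submodule.add_mem_sup (pr1_mem hc x) (Submodule.mem_span_pair.mpr ⟨_, _, rfl⟩)) hrB'
  · -- all centres
    intro x hx
    obtain ⟨w, hw, p, hp, rfl⟩ := Submodule.mem_sup.mp hx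
    by_cases hw0 : w = 0
    · subst hw0
      rw [zero_add]
      exact hmemP p hp
    by_cases hp0 : p = 0
    · subst hp0
      rw [add_zero]
      exact hmemW w hw
    have hWbot : W ≠ ⊥ := by
      intro h
      rw [h, Submodule.mem_bot] at hw
      exact hw0 hw
    obtain ⟨bW, hbW, hbW0, hSmix⟩ := hmix hWbot
    obtain ⟨g₁, hg₁, e₁⟩ := goodEl_move hF hB'alt hmemW hndW hbW hw hbW0 hw0
    obtain ⟨g₂, hg₂, e₂⟩ := goodEl_move hF hB'alt hmemP hndP hz₁P hp hz₁0 hp0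
    have hSc := S_conj (G.mul_mem hg₁.1 hg₂.1) hSmix
    have e3 : B bW + ζ₁ = B' (bW + z₁) := by rw [map_add, hB'W bW hbW, hB'z₁]
    have hiso : ∀ x y, B' ((g₁ * g₂) x) ((g₁ * g₂) y) = B' x y := by
      intro x y
      rw [LinearEquiv.mul_apply, LinearEquiv.mul_apply, hg₁.2.1, hg₂.2.1]
    rw [e3, cod_iso hiso] at hSc
    have e4 : (g₁ * g₂) (bW + z₁) = w + p := by
      rw [LinearEquiv.mul_apply, map_add, e₂, hg₂.2.2.2 bW (fun u hu => hPW u hu bW hbW), map_add,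
        e₁, hg₁.2.2.2 p (fun u hu => hWP u hu p hp)]
    rwa [e4] at hSc

/-- A standard pair of symplectic type that cannot grow is closed. -/
theorem sp_closed_of_no_witness (hF : Full G) (hO : OneDim G) (hT : SpT G W B)
    (hE : ¬ ∃ (b : V) (ψ : Dual K V), S G b ψ ∧ b ∉ W ∧ ∃ y ∈ W, ψ y ≠ 0) :
    ClosedPair G W (LinearMap.ker B) := by
  have hc := hT.compl
  push Not at hE
  intro a φ hS ha hφ
  by_cases haW : a ∈ W
  · left
    refine ⟨haW, ?_⟩
    obtain ⟨c, hc'⟩ := hO a (B a) φ ha (hT.mem a haW) hS (hT.axis_ne_zero haW ha)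
    intro z hz
    rw [hc', LinearMap.smul_apply, hT.ker_right hz, smul_zero]
  · right
    have hφW : ∀ w ∈ W, φ w = 0 := hE a φ hS haW
    refine ⟨?_, hφW⟩
    rw [mem_Z_iff hc]
    apply hT.nondeg (pr1_mem hc a)
    intro w hw
    by_cases hw0 : w = 0
    · rw [hw0, map_zero]
    have h1 := perp_symm hF hO hS (hT.mem w hw) hw0 hφ (hφW w hw)
    rw [← hT.apply_pr1] at h1
    rw [alt_swap hT.alt, h1, neg_zero]

/-- Growth step for standard pairs of symplectic type. -/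
theorem sp_grow (hF : Full G) (hI : Irr G) (hO : OneDim G) (h2 : (2 : K) ≠ 0) (hT : SpT G W B)
    (hE : ∃ (b : V) (ψ : Dual K V), S G b ψ ∧ b ∉ W ∧ ∃ y ∈ W, ψ y ≠ 0) :
    ∃ (W' : Submodule K V) (B' : LinearMap.BilinForm K V), SpT G W' B' ∧ W < W' := by
  have hc := hT.compl
  obtain ⟨b, ψ, hSb, hbW, y, hy, hψy⟩ := hE
  obtain ⟨ζ₁, c₁, hc₁, -, hζ₁0, hζ₁W, hSz₁, hbW0, hmix⟩ := sp_split hF hO h2 hT hSb hbW hy hψy
  set z₁ := pr2 hc b with hz₁def
  have hz₁k : z₁ ∈ LinearMap.ker B := pr2_mem hc b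
  have hz₁0 : z₁ ≠ 0 := fun h => hbW ((mem_W_iff hc).mpr h)
  -- a partner
  obtain ⟨b', ψ', hSb', hb'Y, y', hy', hψ'y'⟩ :=
    hI (LinearMap.ker ζ₁) z₁ ζ₁ hz₁0 hζ₁0 hSz₁ hSz₁.1 (fun y hy => hy)
  have hζ₁b' : ζ₁ b' ≠ 0 := hb'Y
  have hb'W : b' ∉ W := fun h => hζ₁b' (hζ₁W b' h)
  have hb'0 : b' ≠ 0 := by
    rintro rfl
    exact hb'W W.zero_mem
  have hψ'0 : ψ' ≠ 0 := by
    rintro rfl
    exact hψ'y' rfl
  obtain ⟨z₂, ζ₂, hz₂k, hζ₂W, hSz₂, hζ₂0, h12⟩ : ∃ (z₂ : V) (ζ₂ : Dual K V),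
      z₂ ∈ LinearMap.ker B ∧ (∀ w ∈ W, ζ₂ w = 0) ∧ S G z₂ ζ₂ ∧ ζ₂ ≠ 0 ∧ ζ₁ z₂ ≠ 0 := by
    by_cases hcase : ∃ w ∈ W, ψ' w ≠ 0
    · obtain ⟨w, hw, hψ'w⟩ := hcase
      obtain ⟨ζ₂, c₂, -, -, hζ₂0, hζ₂W, hSz₂, -, -⟩ := sp_split hF hO h2 hT hSb' hb'W hw hψ'w
      refine ⟨pr2 hc b', ζ₂, pr2_mem hc b', hζ₂W, hSz₂, hζ₂0, ?_⟩
      have : ζ₁ b' = ζ₁ (pr2 hc b') := by
        conv_lhs => rw [← pr1_add_pr2 hc b', map_add, hζ₁W _ (pr1_mem hc b'), zero_add]
      rwa [← this]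
    · push Not at hcase
      refine ⟨b', ψ', ?_, hcase, hSb', hψ'0, hζ₁b'⟩
      have : pr1 hc b' = 0 := by
        apply hT.nondeg (pr1_mem hc b')
        intro w hw
        by_cases hw0 : w = 0
        · rw [hw0, map_zero]
        have h1 := perp_symm hF hO hSb' (hT.mem w hw) hw0 hψ'0 (hcase w hw)
        rw [← hT.apply_pr1] at h1
        rw [alt_swap hT.alt, h1, neg_zero]
      exact (mem_Z_iff hc).mpr this
  have hz₂0 : z₂ ≠ 0 := by
    rintro rfl
    rw [map_zero] at h12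
    exact h12 rfl
  have h21 : ζ₂ z₁ ≠ 0 := by
    intro h
    exact h12 (perp_symm hF hO hSz₂ hSz₁ hz₁0 hζ₂0 h)
  have hmix' : W ≠ ⊥ → ∃ bW ∈ W, bW ≠ 0 ∧ S G (bW + z₁) (B bW + ζ₁) := by
    intro _
    refine ⟨pr1 hc b, pr1_mem hc b, hbW0, ?_⟩
    rw [hz₁def, pr1_add_pr2]
    exact hmix
  refine ⟨_, _, add_plane hF hT hz₁k hz₂k hζ₁W hζ₂W hSz₁ hSz₂ h12 h21 hmix', ?_⟩
  refine lt_of_le_of_ne le_sup_left ?_
  intro h
  have hz₁W : z₁ ∈ W := by
    rw [h]
    exact Submodule.mem_sup_right (Submodule.subset_span (Set.mem_insert _ _))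
  exact hz₁0 (inter_eq_zero hc hz₁W hz₁k)

/-- The first hyperbolic plane. -/
theorem sp_start (hF : Full G) (hI : Irr G) (hO : OneDim G) {a : V} {φ : Dual K V} (ha : a ≠ 0)
    (hφ : φ ≠ 0) (hS : S G a φ) :
    ∃ (W' : Submodule K V) (B' : LinearMap.BilinForm K V), SpT G W' B' ∧ W' ≠ ⊥ := by
  obtain ⟨b, ψ, hb, hSb, hψa⟩ := exists_partner hF hI ha ⟨φ, hS, hφ⟩
  have hψ : ψ ≠ 0 := by
    rintro rfl
    exact hψa rfl
  have hφb : φ b ≠ 0 := by
    intro h
    exact hψa (perp_symm hF hO hS hSb hb hφ h)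
  have hT0 : SpT G (⊥ : Submodule K V) (0 : LinearMap.BilinForm K V) := by
    refine ⟨fun x => by simp, ?_, ?_⟩
    · rw [LinearMap.ker_zero]
      exact isCompl_bot_top
    · intro w hw
      rw [Submodule.mem_bot] at hw
      rw [hw]
      exact S_zero_left _
  have hk : ∀ x : V, x ∈ LinearMap.ker (0 : LinearMap.BilinForm K V) := by
    intro x
    rw [LinearMap.ker_zero]
    trivial
  have h := add_plane hF hT0 (hk a) (hk b) (fun w hw => by
      rw [Submodule.mem_bot] at hw; rw [hw, map_zero]) (fun w hw => by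
      rw [Submodule.mem_bot] at hw; rw [hw, map_zero]) hS hSb hφb hψa (fun h => absurd rfl h)
  refine ⟨_, _, h, ?_⟩
  intro h'
  have : a ∈ (⊥ : Submodule K V) ⊔ Submodule.span K {a, b} :=
    Submodule.mem_sup_right (Submodule.subset_span (Set.mem_insert _ _))
  rw [h', Submodule.mem_bot] at this
  exact ha this

/-- The symplectic case: a closed standard pair of symplectic type. -/
theorem caseB (hF : Full G) (hI : Irr G) (hO : OneDim G) (h2 : (2 : K) ≠ 0) {a : V}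
    {φ : Dual K V} (ha : a ≠ 0) (hφ : φ ≠ 0) (hS : S G a φ) :
    ∃ (W : Submodule K V) (B : LinearMap.BilinForm K V), SpT G W B ∧ W ≠ ⊥ ∧
      ClosedPair G W (LinearMap.ker B) := by
  obtain ⟨W₀, B₀, hT₀, hW₀⟩ := sp_start hF hI hO ha hφ hS
  have key : ∀ (n : ℕ) (W : Submodule K V) (B : LinearMap.BilinForm K V),
      finrank K V - finrank K W = n → SpT G W B → W ≠ ⊥ →
      ∃ (W' : Submodule K V) (B' : LinearMap.BilinForm K V), SpT G W' B' ∧ W' ≠ ⊥ ∧
        ClosedPair G W' (LinearMap.ker B') := by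
    intro n
    induction n using Nat.strong_induction_on with
    | _ n ih =>
      intro W B hn hT hW
      by_cases hE : ∃ (b : V) (ψ : Dual K V), S G b ψ ∧ b ∉ W ∧ ∃ y ∈ W, ψ y ≠ 0
      · obtain ⟨W', B', hT', hlt⟩ := sp_grow hF hI hO h2 hT hE
        have h1 := Submodule.finrank_lt_finrank_of_lt hlt
        have h3 : finrank K W' ≤ finrank K V := Submodule.finrank_le W'
        have hW' : W' ≠ ⊥ := by
          intro h
          rw [h] at hlt
          exact not_lt_bot hlt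
        exact ih (finrank K V - finrank K W') (by omega) W' B' rfl hT' hW'
      · exact ⟨W, B, hT, hW, sp_closed_of_no_witness hF hO hT hE⟩
  exact key _ W₀ B₀ rfl hT₀ hW₀

end Sp

end Cfsg.Agent.Lib.Helper94_McL4
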