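import Mathlib
import Cfsg.Agent.Lib.Helper94_McL4

/-!
# Groups generated by transvections: peeling off components (helper94)

A group generated by finitely many transvections, with full root subgroups and without unipotent
normal pieces (`NoUni`), is a commuting product of standard components of special linear or
symplectic type (`decomp`).
-/

set_option autoImplicit false

namespace Cfsg.Agent.Lib.Helper94_McL5

open Module Cfsg.Agent.Lib.Helper94_McL1 Cfsg.Agent.Lib.Helper94_McL2 Cfsg.Agent.Lib.Helper94_McL3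
  Cfsg.Agent.Lib.Helper94_McL4

variable {K V : Type*} [Field K] [AddCommGroup V] [Module K V]

/-- A nontrivial transvection. -/
def IsTv (t : V ≃ₗ[K] V) : Prop :=
  ∃ (a : V) (φ : Dual K V), a ≠ 0 ∧ φ ≠ 0 ∧ φ a = 0 ∧ t = tve a φ

/-- No transvection of `G` has its centre in a `G`-invariant subspace killed by its axis. -/
def NoUni (G : Subgroup (V ≃ₗ[K] V)) : Prop :=
  ∀ (Y : Submodule K V) (a : V) (ξ : Dual K V), a ≠ 0 → ξ ≠ 0 → S G a ξ →
    (∀ g ∈ G, ∀ y ∈ Y, g y ∈ Y) → a ∈ Y → ¬ ∀ y ∈ Y, ξ y = 0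

theorem irr_of_noUni {T : Set (V ≃ₗ[K] V)} (hT : ∀ t ∈ T, IsTv t)
    (hN : NoUni (Subgroup.closure T)) : Irr (Subgroup.closure T) := by
  intro Y a ξ ha hξ hS haY hker
  by_contra hcon
  push Not at hcon
  refine hN Y a ξ ha hξ hS ?_ haY hker
  have key : ∀ g ∈ Subgroup.closure T, ∀ y, y ∈ Y ↔ g y ∈ Y := by
    intro g hg
    induction hg using Subgroup.closure_induction with
    | mem t ht =>
      obtain ⟨b, ψ, hb, hψ, hψb, rfl⟩ := hT t ht
      have hSb : S (Subgroup.closure T) b ψ := ⟨hψb, Subgroup.subset_closure ht⟩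
      intro y
      rw [tve_apply hψb]
      by_cases hbY : b ∈ Y
      · constructor
        · intro hy
          exact Y.add_mem hy (Y.smul_mem _ hbY)
        · intro h
          have : y = (y + ψ y • b) - ψ y • b := by abel
          rw [this]
          exact Y.sub_mem h (Y.smul_mem _ hbY)
      · have h0 : ∀ y ∈ Y, ψ y = 0 := hcon b ψ hSb hbY
        constructor
        · intro hy
          rw [h0 y hy, zero_smul, add_zero]
          exact hy
        · intro h
          have h1 : ψ (y + ψ y • b) = 0 := h0 _ h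
          rw [map_add, map_smul, hψb, smul_zero, add_zero] at h1
          rw [h1, zero_smul, add_zero] at h
          exact h
    | one => intro y; rfl
    | mul g h _ _ ihg ihh =>
      intro y
      rw [LinearEquiv.mul_apply]
      exact (ihh y).trans (ihg (h y))
    | inv g _ ih =>
      intro y
      have := ih (g⁻¹ y)
      rw [apply_inv_apply'] at this
      exact this.symm
  intro g hg y hy
  exact (key g hg y).mp hy

/-! ### Supports -/

section Supp

variable {W Z : Submodule K V}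

lemma supp_tve {a : V} {φ : Dual K V} (h : φ a = 0) (ha : a ∈ W) (hφ : ∀ z ∈ Z, φ z = 0) :
    (∀ z ∈ Z, tve a φ z = z) ∧ ∀ x, tve a φ x - x ∈ W := by
  constructor
  · intro z hz
    rw [tve_apply h, hφ z hz, zero_smul, add_zero]
  · intro x
    rw [tve_apply h, add_sub_cancel_left]
    exact W.smul_mem _ ha

lemma supp_closure {T' : Set (V ≃ₗ[K] V)}
    (h : ∀ t ∈ T', (∀ z ∈ Z, t z = z) ∧ ∀ x, t x - x ∈ W) :
    ∀ g ∈ Subgroup.closure T', (∀ z ∈ Z, g z = z) ∧ ∀ x, g x - x ∈ W := by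
  intro g hg
  induction hg using Subgroup.closure_induction with
  | mem t ht => exact h t ht
  | one =>
    refine ⟨fun z _ => rfl, fun x => ?_⟩
    rw [LinearEquiv.coe_one, id_eq, sub_self]
    exact W.zero_mem
  | mul g h _ _ ihg ihh =>
    refine ⟨fun z hz => ?_, fun x => ?_⟩
    · rw [LinearEquiv.mul_apply, ihh.1 z hz, ihg.1 z hz]
    · rw [LinearEquiv.mul_apply]
      have : g (h x) - x = (g (h x) - h x) + (h x - x) := by abel
      rw [this]
      exact W.add_mem (ihg.2 _) (ihh.2 _)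
  | inv g _ ih =>
    refine ⟨fun z hz => ?_, fun x => ?_⟩
    · conv_lhs => rw [← ih.1 z hz]
      exact inv_apply_apply' g z
    · have h1 := ih.2 (g⁻¹ x)
      rw [apply_inv_apply'] at h1
      have : g⁻¹ x - x = -(x - g⁻¹ x) := by abel
      rw [this]
      exact W.neg_mem h1

lemma commute_of_supp {g h : V ≃ₗ[K] V} (hg : (∀ z ∈ Z, g z = z) ∧ ∀ x, g x - x ∈ W)
    (hh : (∀ w ∈ W, h w = w) ∧ ∀ x, h x - x ∈ Z) : g * h = h * g := by
  ext x
  rw [LinearEquiv.mul_apply, LinearEquiv.mul_apply]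
  have e1 : g (h x) = g x + (h x - x) := by
    have : h x = x + (h x - x) := by abel
    conv_lhs => rw [this, map_add, hg.1 _ (hh.2 x)]
  have e2 : h (g x) = h x + (g x - x) := by
    have : g x = x + (g x - x) := by abel
    conv_lhs => rw [this, map_add, hh.1 _ (hg.2 x)]
  rw [e1, e2]
  abel

lemma eq_one_of_supp (hc : IsCompl W Z) {g : V ≃ₗ[K] V} (h1 : ∀ z ∈ Z, g z = z)
    (h2 : ∀ w ∈ W, g w = w) : g = 1 := by
  ext x
  conv_lhs => rw [← pr1_add_pr2 hc x, map_add, h2 _ (pr1_mem hc x), h1 _ (pr2_mem hc x)]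
  rw [pr1_add_pr2]
  rfl

end Supp

/-- Products in the closure of a union of two commuting sets. -/
lemma mem_closure_union_comm {T₁ T₂ : Set (V ≃ₗ[K] V)}
    (hcomm : ∀ a ∈ Subgroup.closure T₁, ∀ b ∈ Subgroup.closure T₂, a * b = b * a)
    {g : V ≃ₗ[K] V} (hg : g ∈ Subgroup.closure (T₁ ∪ T₂)) :
    ∃ g₁ ∈ Subgroup.closure T₁, ∃ g₂ ∈ Subgroup.closure T₂, g = g₁ * g₂ := by
  induction hg using Subgroup.closure_induction with
  | mem t ht =>
    rcases ht with ht | ht
    · exact ⟨t, Subgroup.subset_closure ht, 1, Subgroup.one_mem _, (mul_one t).symm⟩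
    · exact ⟨1, Subgroup.one_mem _, t, Subgroup.subset_closure ht, (one_mul t).symm⟩
  | one => exact ⟨1, Subgroup.one_mem _, 1, Subgroup.one_mem _, (mul_one 1).symm⟩
  | mul g h _ _ ihg ihh =>
    obtain ⟨g₁, hg₁, g₂, hg₂, rfl⟩ := ihg
    obtain ⟨h₁, hh₁, h₂, hh₂, rfl⟩ := ihh
    refine ⟨g₁ * h₁, Subgroup.mul_mem _ hg₁ hh₁, g₂ * h₂, Subgroup.mul_mem _ hg₂ hh₂, ?_⟩
    have := hcomm h₁ hh₁ g₂ hg₂
    calc g₁ * g₂ * (h₁ * h₂) = g₁ * (g₂ * h₁) * h₂ := by simp only [mul_assoc]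
      _ = g₁ * (h₁ * g₂) * h₂ := by rw [this]
      _ = g₁ * h₁ * (g₂ * h₂) := by simp only [mul_assoc]
  | inv g _ ih =>
    obtain ⟨g₁, hg₁, g₂, hg₂, rfl⟩ := ih
    refine ⟨g₁⁻¹, Subgroup.inv_mem _ hg₁, g₂⁻¹, Subgroup.inv_mem _ hg₂, ?_⟩
    have := hcomm g₁⁻¹ (Subgroup.inv_mem _ hg₁) g₂⁻¹ (Subgroup.inv_mem _ hg₂)
    rw [mul_inv_rev, this]

/-! ### Peeling off a closed pair -/

/-- A closed pair carrying enough transvections of `G`. -/
structure Rich (G : Subgroup (V ≃ₗ[K] V)) (W Z : Submodule K V) : Prop where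
  compl : IsCompl W Z
  closed : ClosedPair G W Z
  axis : ∀ w ∈ W, w ≠ 0 → ∃ ω : Dual K V, ω ≠ 0 ∧ (∀ z ∈ Z, ω z = 0) ∧ S G w ω
  moves : ∀ w ∈ W, w ≠ 0 → ∃ (u : V) (ω : Dual K V), u ∈ W ∧ (∀ z ∈ Z, ω z = 0) ∧ S G u ω ∧
    ω w ≠ 0 ∧ u ≠ 0
  ne : W ≠ ⊥

/-- The generators supported on `W`. -/
def Tin (T : Set (V ≃ₗ[K] V)) (W Z : Submodule K V) : Set (V ≃ₗ[K] V) :=
  {t | t ∈ T ∧ ∃ (a : V) (φ : Dual K V), a ≠ 0 ∧ φ ≠ 0 ∧ φ a = 0 ∧ t = tve a φ ∧ a ∈ W ∧
    ∀ z ∈ Z, φ z = 0}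

/-- The generators supported on `Z`. -/
def Tc (T : Set (V ≃ₗ[K] V)) (W Z : Submodule K V) : Set (V ≃ₗ[K] V) :=
  {t | t ∈ T ∧ ∃ (a : V) (φ : Dual K V), a ≠ 0 ∧ φ ≠ 0 ∧ φ a = 0 ∧ t = tve a φ ∧ a ∈ Z ∧
    ∀ w ∈ W, φ w = 0}

section Peel

variable {T : Set (V ≃ₗ[K] V)} {W Z : Submodule K V}

lemma Tin_subset : Tin T W Z ⊆ T := fun _ h => h.1

lemma Tc_subset : Tc T W Z ⊆ T := fun _ h => h.1

lemma union_eq (hT : ∀ t ∈ T, IsTv t) (hR : Rich (Subgroup.closure T) W Z) :
    Tin T W Z ∪ Tc T W Z = T := by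
  apply Set.Subset.antisymm
  · rintro t (h | h)
    · exact h.1
    · exact h.1
  · intro t ht
    obtain ⟨a, φ, ha, hφ, hφa, rfl⟩ := hT t ht
    have hS : S (Subgroup.closure T) a φ := ⟨hφa, Subgroup.subset_closure ht⟩
    rcases hR.closed a φ hS ha hφ with h | h
    · left
      exact ⟨ht, a, φ, ha, hφ, hφa, rfl, h.1, h.2⟩
    · right
      exact ⟨ht, a, φ, ha, hφ, hφa, rfl, h.1, h.2⟩

lemma supp_in : ∀ g ∈ Subgroup.closure (Tin T W Z), (∀ z ∈ Z, g z = z) ∧ ∀ x, g x - x ∈ W := by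
  apply supp_closure
  rintro t ⟨_, a, φ, _, _, hφa, rfl, haW, hφZ⟩
  exact supp_tve hφa haW hφZ

lemma supp_c : ∀ g ∈ Subgroup.closure (Tc T W Z), (∀ w ∈ W, g w = w) ∧ ∀ x, g x - x ∈ Z := by
  apply supp_closure
  rintro t ⟨_, a, φ, _, _, hφa, rfl, haZ, hφW⟩
  exact supp_tve hφa haZ hφW

lemma comm_in_c : ∀ a ∈ Subgroup.closure (Tin T W Z), ∀ b ∈ Subgroup.closure (Tc T W Z),
    a * b = b * a :=
  fun a ha b hb => commute_of_supp (supp_in a ha) (supp_c b hb)

lemma exists_factor (hT : ∀ t ∈ T, IsTv t) (hR : Rich (Subgroup.closure T) W Z)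
    {g : V ≃ₗ[K] V} (hg : g ∈ Subgroup.closure T) :
    ∃ g₁ ∈ Subgroup.closure (Tin T W Z), ∃ g₂ ∈ Subgroup.closure (Tc T W Z), g = g₁ * g₂ := by
  rw [← union_eq hT hR] at hg
  exact mem_closure_union_comm comm_in_c hg

lemma S_in (hT : ∀ t ∈ T, IsTv t) (hR : Rich (Subgroup.closure T) W Z) {a : V} {φ : Dual K V}
    (hS : S (Subgroup.closure T) a φ) (ha : a ∈ W) (hφ : ∀ z ∈ Z, φ z = 0) :
    S (Subgroup.closure (Tin T W Z)) a φ := by
  refine ⟨hS.1, ?_⟩
  obtain ⟨g₁, hg₁, g₂, hg₂, h⟩ := exists_factor hT hR hS.2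
  have h2 : g₂ = g₁⁻¹ * tve a φ := by rw [h, inv_mul_cancel_left]
  have h3 : g₂ = 1 := by
    apply eq_one_of_supp hR.compl
    · intro z hz
      rw [h2, LinearEquiv.mul_apply, (supp_tve hS.1 ha hφ).1 z hz]
      exact ((supp_in g₁⁻¹ (Subgroup.inv_mem _ hg₁)).1 z hz)
    · exact (supp_c g₂ hg₂).1
  rw [h, h3, mul_one]
  exact hg₁

lemma Tc_ssubset (hR : Rich (Subgroup.closure T) W Z) : Tc T W Z ⊂ T := by
  refine ⟨Tc_subset, ?_⟩
  intro hsub
  obtain ⟨w, hw, hw0⟩ := (Submodule.ne_bot_iff _).mp hR.ne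
  obtain ⟨u, ω, _, _, hS, hωw, hu0⟩ := hR.moves w hw hw0
  have h1 : tve u ω ∈ Subgroup.closure (Tc T W Z) := Subgroup.closure_mono hsub hS.2
  have h2 := (supp_c _ h1).1 w hw
  rw [tve_apply hS.1] at h2
  have h3 : ω w • u = 0 := by
    have : w + ω w • u - w = 0 := by rw [h2, sub_self]
    rwa [add_sub_cancel_left] at this
  rcases smul_eq_zero.mp h3 with h | h
  · exact hωw h
  · exact hu0 h

lemma noUni_c (hT : ∀ t ∈ T, IsTv t) (hR : Rich (Subgroup.closure T) W Z)
    (hN : NoUni (Subgroup.closure T)) : NoUni (Subgroup.closure (Tc T W Z)) := by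
  intro Y a ξ ha hξ hS hinv haY hker
  have hs := supp_c _ hS.2
  have hξW : ∀ w ∈ W, ξ w = 0 := by
    intro w hw
    have h2 := hs.1 w hw
    rw [tve_apply hS.1] at h2
    have h3 : ξ w • a = 0 := by
      have : w + ξ w • a - w = 0 := by rw [h2, sub_self]
      rwa [add_sub_cancel_left] at this
    exact (smul_eq_zero.mp h3).resolve_right ha
  have haZ : a ∈ Z := by
    obtain ⟨x, hx⟩ : ∃ x, ξ x ≠ 0 := by
      by_contra hcon
      push Not at hcon
      exact hξ (LinearMap.ext hcon)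
    have h2 := hs.2 x
    rw [tve_apply hS.1, add_sub_cancel_left] at h2
    exact (Submodule.smul_mem_iff Z hx).mp h2
  refine hN (Y ⊓ Z) a ξ ha hξ ⟨hS.1, Subgroup.closure_mono Tc_subset hS.2⟩ ?_ ⟨haY, haZ⟩
    (fun y hy => hker y hy.1)
  intro g hg y hy
  obtain ⟨g₁, hg₁, g₂, hg₂, rfl⟩ := exists_factor hT hR hg
  have h1 : g₂ y ∈ Y := hinv g₂ hg₂ y hy.1
  have h2 : g₂ y ∈ Z := by
    have : g₂ y = y + (g₂ y - y) := by abel
    rw [this]
    exact Z.add_mem hy.2 ((supp_c g₂ hg₂).2 y)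
  rw [LinearEquiv.mul_apply, (supp_in g₁ hg₁).1 _ h2]
  exact ⟨h1, h2⟩

lemma fix_in (hT : ∀ t ∈ T, IsTv t) (hR : Rich (Subgroup.closure T) W Z) (x : V)
    (hx : ∀ g ∈ Subgroup.closure (Tin T W Z), g x = x) : x ∈ Z := by
  have hc := hR.compl
  rw [mem_Z_iff hc]
  by_contra hw0
  obtain ⟨u, ω, hu, hωZ, hS, hωw, hu0⟩ := hR.moves _ (pr1_mem hc x) hw0
  have hS' := S_in hT hR hS hu hωZ
  have h2 := hx _ hS'.2
  rw [tve_apply hS.1] at h2
  have h3 : ω x • u = 0 := by
    have : x + ω x • u - x = 0 := by rw [h2, sub_self]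
    rwa [add_sub_cancel_left] at this
  have h4 : ω x = ω (pr1 hc x) := by
    conv_lhs => rw [← pr1_add_pr2 hc x, map_add, hωZ _ (pr2_mem hc x), add_zero]
  rcases smul_eq_zero.mp h3 with h | h
  · exact hωw (h4 ▸ h)
  · exact hu0 h

lemma com_in (hT : ∀ t ∈ T, IsTv t) (hR : Rich (Subgroup.closure T) W Z) (Y : Submodule K V)
    (hY : ∀ g ∈ Subgroup.closure (Tin T W Z), ∀ x, g x - x ∈ Y) : W ≤ Y := by
  intro w hw
  by_cases hw0 : w = 0
  · rw [hw0]
    exact Y.zero_mem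
  obtain ⟨ω, hω0, hωZ, hS⟩ := hR.axis w hw hw0
  have hS' := S_in hT hR hS hw hωZ
  obtain ⟨x, hx⟩ : ∃ x, ω x ≠ 0 := by
    by_contra hcon
    push Not at hcon
    exact hω0 (LinearMap.ext hcon)
  have h2 := hY _ hS'.2 x
  rw [tve_apply hS.1, add_sub_cancel_left] at h2
  exact (Submodule.smul_mem_iff Y hx).mp h2

end Peel

/-! ### Components -/

/-- A standard component: a subgroup supported on `W`, fixing the complement `Z` pointwise, inducing
on `W` a group of special linear or symplectic type. -/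
structure Comp (X : Subgroup (V ≃ₗ[K] V)) (W Z : Submodule K V) : Prop where
  compl : IsCompl W Z
  supp : ∀ g ∈ X, (∀ z ∈ Z, g z = z) ∧ ∀ x, g x - x ∈ W
  fix : ∀ x, (∀ g ∈ X, g x = x) → x ∈ Z
  com : ∀ Y : Submodule K V, (∀ g ∈ X, ∀ x, g x - x ∈ Y) → W ≤ Y
  type : (SLT X W Z ∧ finrank K W ≠ 1 ∧ ∃ T' : Set (V ≃ₗ[K] V), X = Subgroup.closure T' ∧
      ∀ t ∈ T', ∃ (a : V) (φ : Dual K V), a ∈ W ∧ (∀ z ∈ Z, φ z = 0) ∧ φ a = 0 ∧ t = tve a φ) ∨
    ∃ B : LinearMap.BilinForm K V, SpT X W B ∧ LinearMap.ker B = Z ∧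
      ∀ g ∈ X, ∀ x y, B (g x) (g y) = B x y

section RichPairs

variable {G : Subgroup (V ≃ₗ[K] V)} {W Z : Submodule K V} [FiniteDimensional K V]

lemma exists_notMem_span (h2 : 2 ≤ finrank K W) (w : V) :
    ∃ w' ∈ W, w' ∉ Submodule.span K {w} := by
  by_contra hcon
  push Not at hcon
  have hle : W ≤ Submodule.span K {w} := hcon
  have h1 := Submodule.finrank_mono hle
  have h3 : finrank K (Submodule.span K {w}) ≤ 1 := by
    by_cases hw : w = 0
    · rw [hw, Submodule.span_zero_singleton, finrank_bot]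
      omega
    · rw [finrank_span_singleton hw]
  omega

theorem rich_of_SLT (hT : SLT G W Z) (h2 : 2 ≤ finrank K W) (hcl : ClosedPair G W Z) :
    Rich G W Z := by
  have hc := hT.compl
  refine ⟨hc, hcl, ?_, ?_, ?_⟩
  · intro w hw hw0
    obtain ⟨w', hw', hw'n⟩ := exists_notMem_span h2 w
    have hw'p : w' ∉ Z ⊔ Submodule.span K {w} := by
      intro hmem
      obtain ⟨z, hz, y, hy, hsum⟩ := Submodule.mem_sup.mp hmem
      have hzW : z ∈ W := by
        have : z = w' - y := by rw [← hsum]; abel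
        rw [this]
        refine W.sub_mem hw' ?_
        obtain ⟨c, rfl⟩ := Submodule.mem_span_singleton.mp hy
        exact W.smul_mem c hw
      have : z = 0 := inter_eq_zero hc hzW hz
      rw [this, zero_add] at hsum
      exact hw'n (hsum ▸ hy)
    obtain ⟨ω, hωne, hωp⟩ := exists_dual_vanish hw'p
    have hωZ : ∀ z ∈ Z, ω z = 0 := fun z hz => hωp z (Submodule.mem_sup_left hz)
    have hωw : ω w = 0 := hωp w (Submodule.mem_sup_right (Submodule.mem_span_singleton_self w))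
    refine ⟨ω, ?_, hωZ, hT.flags w hw ω hωZ hωw⟩
    rintro rfl
    exact hωne rfl
  · intro w hw hw0
    obtain ⟨w', hw', hw'n⟩ := exists_notMem_span h2 w
    have hwZ : w ∉ Z := fun h => hw0 (inter_eq_zero hc hw h)
    obtain ⟨ω, hωne, hωZ⟩ := exists_dual_vanish hwZ
    refine ⟨w' - (ω w' / ω w) • w, ω, W.sub_mem hw' (W.smul_mem _ hw), hωZ, ?_, hωne, ?_⟩
    · refine hT.flags _ (W.sub_mem hw' (W.smul_mem _ hw)) ω hωZ ?_
      rw [map_sub, map_smul, smul_eq_mul, div_mul_cancel₀ _ hωne, sub_self]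
    · intro h
      apply hw'n
      rw [Submodule.mem_span_singleton]
      exact ⟨ω w' / ω w, (sub_eq_zero.mp h).symm⟩
  · intro h
    rw [h, finrank_bot] at h2
    omega

theorem rich_of_SpT {B : LinearMap.BilinForm K V} (hT : SpT G W B) (hW : W ≠ ⊥)
    (hcl : ClosedPair G W (LinearMap.ker B)) : Rich G W (LinearMap.ker B) := by
  refine ⟨hT.compl, hcl, ?_, ?_, hW⟩
  · intro w hw hw0
    exact ⟨B w, hT.axis_ne_zero hw hw0, fun z hz => hT.ker_right hz w, hT.mem w hw⟩
  · intro w hw hw0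
    obtain ⟨u, hu, hwu⟩ := hT.nondeg' w hw hw0
    refine ⟨u, B u, hu, fun z hz => hT.ker_right hz u, hT.mem u hu, ?_, ?_⟩
    · rw [alt_swap hT.alt]
      exact neg_ne_zero.mpr hwu
    · rintro rfl
      rw [map_zero] at hwu
      exact hwu rfl

end RichPairs

/-! ### The decomposition -/

section Decomp

variable [FiniteDimensional K V]

theorem decomp (hFull : ∀ H : Subgroup (V ≃ₗ[K] V), Full H) (h2 : (2 : K) ≠ 0) :
    ∀ (m : ℕ) (T : Set (V ≃ₗ[K] V)), T.Finite → T.ncard = m → (∀ t ∈ T, IsTv t) →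
      NoUni (Subgroup.closure T) →
      ∃ (n : ℕ) (X : Fin n → Subgroup (V ≃ₗ[K] V)) (W Z : Fin n → Submodule K V),
        (∀ j, Comp (X j) (W j) (Z j)) ∧ (⨆ j, X j = Subgroup.closure T) ∧
        ∀ i j, i ≠ j → W i ≤ Z j := by
  intro m
  induction m using Nat.strong_induction_on with
  | _ m ih =>
    intro T hfin hm hT hN
    by_cases hTe : T = ∅
    · refine ⟨0, fun j => j.elim0, fun j => j.elim0, fun j => j.elim0, fun j => j.elim0, ?_,
        fun i => i.elim0⟩
      rw [hTe, Subgroup.closure_empty, iSup_of_empty]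
    obtain ⟨t₀, ht₀⟩ := Set.nonempty_iff_ne_empty.mpr hTe
    obtain ⟨a₀, φ₀, ha₀, hφ₀, hφa₀, rfl⟩ := hT t₀ ht₀
    set G := Subgroup.closure T with hG
    have hF : Full G := hFull G
    have hI : Irr G := irr_of_noUni hT hN
    have hS₀ : S G a₀ φ₀ := ⟨hφa₀, Subgroup.subset_closure ht₀⟩
    obtain ⟨W, Z, hR, htype⟩ : ∃ W Z : Submodule K V, Rich G W Z ∧
        ((SLT G W Z ∧ 3 ≤ finrank K W) ∨ ∃ B : LinearMap.BilinForm K V, SpT G W B ∧
          LinearMap.ker B = Z ∧ OneDim G) := by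
      by_cases hO : OneDim G
      · obtain ⟨W, B, hSp, hW, hcl⟩ := caseB hF hI hO h2 ha₀ hφ₀ hS₀
        exact ⟨W, LinearMap.ker B, rich_of_SpT hSp hW hcl, Or.inr ⟨B, hSp, rfl, hO⟩⟩
      · obtain ⟨W, Z, hSL, h3, hcl⟩ := caseA hF hI h2 hO
        exact ⟨W, Z, rich_of_SLT hSL (by omega) hcl, Or.inl ⟨hSL, h3⟩⟩
    -- the component
    have hcomp : Comp (Subgroup.closure (Tin T W Z)) W Z := by
      refine ⟨hR.compl, supp_in, fix_in hT hR, com_in hT hR, ?_⟩
      rcases htype with ⟨hSL, h3⟩ | ⟨B, hSp, hker, hO⟩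
      · left
        refine ⟨⟨hR.compl, fun w hw ω hωZ hωw => S_in hT hR (hSL.flags w hw ω hωZ hωw) hw hωZ⟩,
          by omega, Tin T W Z, rfl, ?_⟩
        rintro t ⟨_, a, φ, _, _, hφa, rfl, haW, hφZ⟩
        exact ⟨a, φ, haW, hφZ, hφa, rfl⟩
      · right
        refine ⟨B, ⟨hSp.alt, hSp.compl, fun w hw => S_in hT hR (hSp.mem w hw) hw ?_⟩, hker, ?_⟩
        · intro z hz
          rw [← hker] at hz
          exact hSp.ker_right hz w
        · intro g hg
          induction hg using Subgroup.closure_induction with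
          | mem t ht =>
            obtain ⟨htT, a, φ, ha, hφ, hφa, rfl, haW, hφZ⟩ := ht
            have hSa : S G a φ := ⟨hφa, Subgroup.subset_closure htT⟩
            obtain ⟨c, rfl⟩ := hO a (B a) φ ha (hSp.mem a haW) hSa (hSp.axis_ne_zero haW ha)
            exact (goodEl_stv hF hSp.alt (U := W) haW (hSp.mem a haW) c).2.1
          | one => intro x y; rfl
          | mul g h _ _ ihg ihh =>
            intro x y
            rw [LinearEquiv.mul_apply, LinearEquiv.mul_apply, ihg, ihh]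
          | inv g _ ih =>
            intro x y
            conv_rhs => rw [← apply_inv_apply' g x, ← apply_inv_apply' g y]
            rw [ih]
    -- recursion
    have hss : Tc T W Z ⊂ T := Tc_ssubset hR
    have hlt : (Tc T W Z).ncard < m := hm ▸ Set.ncard_lt_ncard hss hfin
    obtain ⟨n, X', W', Z', hC', hsup', hcross'⟩ :=
      ih _ hlt (Tc T W Z) (hfin.subset Tc_subset) rfl (fun t ht => hT t ht.1) (noUni_c hT hR hN)
    have hX'le : ∀ j, X' j ≤ Subgroup.closure (Tc T W Z) := fun j => hsup' ▸ le_iSup X' j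
    refine ⟨n + 1, Fin.cons (Subgroup.closure (Tin T W Z)) X', Fin.cons W W', Fin.cons Z Z',
      ?_, ?_, ?_⟩
    · intro j
      refine Fin.cases ?_ (fun j => ?_) j
      · simpa using hcomp
      · simpa using hC' j
    · apply le_antisymm
      · apply iSup_le
        intro j
        refine Fin.cases ?_ (fun j => ?_) j
        · simp only [Fin.cons_zero]
          exact Subgroup.closure_mono Tin_subset
        · simp only [Fin.cons_succ]
          exact (hX'le j).trans (Subgroup.closure_mono Tc_subset)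
      · have hGeq : Subgroup.closure T =
            Subgroup.closure (Tin T W Z) ⊔ Subgroup.closure (Tc T W Z) := by
          rw [← Subgroup.closure_union, union_eq hT hR]
        rw [hG, hGeq]
        apply sup_le
        · refine le_trans ?_ (le_iSup _ (0 : Fin (n + 1)))
          simp
        · rw [← hsup']
          apply iSup_le
          intro j
          refine le_trans ?_ (le_iSup _ j.succ)
          simp
    · intro i j
      refine Fin.cases ?_ (fun i => ?_) i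
      · refine Fin.cases ?_ (fun j => ?_) j
        · intro h
          exact absurd rfl h
        · intro _
          simp only [Fin.cons_zero, Fin.cons_succ]
          intro w hw
          apply (hC' j).fix
          intro g hg
          exact (supp_c g (hX'le j hg)).1 w hw
      · refine Fin.cases ?_ (fun j => ?_) j
        · intro _
          simp only [Fin.cons_zero, Fin.cons_succ]
          apply (hC' i).com
          intro g hg x
          exact (supp_c g (hX'le i hg)).2 x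
        · intro h
          simp only [Fin.cons_succ]
          exact hcross' i j (fun h' => h (by rw [h']))

end Decomp

end Cfsg.Agent.Lib.Helper94_McL5
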