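import Mathlib
import Cfsg.Prelude.Def_Solvable
import Cfsg.Agent.Lib.Helper94_McL5

/-!
# Groups generated by transvections over a prime field (helper94)

Facts specific to `ZMod p`: root subgroups are automatically full, elements of order `p` fixing a
hyperplane are transvections, and a trivial `p`-core excludes unipotent normal pieces.
-/

set_option autoImplicit false

namespace Cfsg.Agent.Lib.Helper94_McL6

open Module Cfsg.Agent.Lib.Helper94_McL1 Cfsg.Agent.Lib.Helper94_McL2 Cfsg.Agent.Lib.Helper94_McL3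
  Cfsg.Agent.Lib.Helper94_McL4 Cfsg.Agent.Lib.Helper94_McL5

section General

variable {K V : Type*} [Field K] [AddCommGroup V] [Module K V]

lemma tve_pow {a : V} {φ : Dual K V} (h : φ a = 0) (n : ℕ) :
    (tve a φ) ^ n = tve a ((n : K) • φ) := by
  induction n with
  | zero => rw [pow_zero, Nat.cast_zero, zero_smul, tve_zero_right]
  | succ n ih =>
    have h' : ((n : K) • φ) a = 0 := by rw [LinearMap.smul_apply, h, smul_zero]
    rw [pow_succ, ih, tve_mul_right h' h, Nat.cast_succ, add_smul, one_smul]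

end General

section Prime

variable {p : ℕ} [Fact p.Prime] {V : Type*} [AddCommGroup V] [Module (ZMod p) V]

theorem full_zmod (H : Subgroup (V ≃ₗ[ZMod p] V)) : Full H := by
  intro a φ c hS
  refine ⟨by rw [LinearMap.smul_apply, hS.1, smul_zero], ?_⟩
  have : c = ((c.val : ℕ) : ZMod p) := (ZMod.natCast_zmod_val c).symm
  rw [this, ← tve_pow hS.1]
  exact H.pow_mem hS.2 _

variable [Finite V]

theorem isTv_of_order (t : V ≃ₗ[ZMod p] V) (ho : orderOf t = p)
    (hk : finrank (ZMod p) ↥(LinearMap.ker ((t : V →ₗ[ZMod p] V) - LinearMap.id)) + 1 =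
      finrank (ZMod p) V) : IsTv t := by
  set N : V →ₗ[ZMod p] V := (t : V →ₗ[ZMod p] V) - LinearMap.id with hN
  have hNx : ∀ x, t x = x + N x := by
    intro x
    rw [hN, LinearMap.sub_apply, LinearMap.id_apply, LinearEquiv.coe_coe]
    abel
  have hrk := LinearMap.finrank_range_add_finrank_ker N
  have h1 : finrank (ZMod p) ↥(LinearMap.range N) = 1 := by omega
  obtain ⟨⟨a, haR⟩, ha0, hall⟩ := finrank_eq_one_iff'.mp h1
  have ha : a ≠ 0 := fun h => ha0 (Subtype.ext h)
  have hall' : ∀ x, ∃ c : ZMod p, c • a = N x := by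
    intro x
    obtain ⟨c, hc⟩ := hall ⟨N x, LinearMap.mem_range_self N x⟩
    exact ⟨c, congrArg Subtype.val hc⟩
  have habot : a ∉ (⊥ : Submodule (ZMod p) V) := by
    rw [Submodule.mem_bot]; exact ha
  obtain ⟨f, hfa, -⟩ := exists_dual_vanish habot
  set ε : Dual (ZMod p) V := (f a)⁻¹ • f with hε
  have hεa : ε a = 1 := by rw [hε, LinearMap.smul_apply, smul_eq_mul, inv_mul_cancel₀ hfa]
  set φ : Dual (ZMod p) V := ε ∘ₗ N with hφ
  have hNφ : ∀ x, N x = φ x • a := by
    intro x
    obtain ⟨c, hc⟩ := hall' x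
    rw [hφ, LinearMap.comp_apply, ← hc, map_smul, hεa, smul_eq_mul, mul_one]
  have htx : ∀ x, t x = x + φ x • a := fun x => by rw [hNx, hNφ]
  obtain ⟨x₀, hx₀⟩ := haR
  have hφ0 : φ ≠ 0 := by
    intro h
    apply ha
    rw [← hx₀, hNφ, h, LinearMap.zero_apply, zero_smul]
  have hφa : φ a = 0 := by
    have hpow : ∀ k : ℕ, (t ^ k) a = (1 + φ a) ^ k • a := by
      intro k
      induction k with
      | zero => simp
      | succ k ih =>
        rw [pow_succ', LinearEquiv.mul_apply, ih, map_smul, htx a, pow_succ, mul_smul, add_smul,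
          one_smul]
    have h2 := hpow p
    have htp : t ^ p = 1 := by
      have := pow_orderOf_eq_one t
      rwa [ho] at this
    rw [htp, ZMod.pow_card] at h2
    have h3 : φ a • a = 0 := by
      have : a = a + φ a • a := by
        conv_lhs => rw [show a = (1 : V ≃ₗ[ZMod p] V) a from rfl, h2, add_smul, one_smul]
      have h4 : a + φ a • a - a = 0 := by rw [← this, sub_self]
      rwa [add_sub_cancel_left] at h4
    exact (smul_eq_zero.mp h3).resolve_right ha
  refine ⟨a, φ, ha, hφ0, hφa, ?_⟩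
  ext x
  rw [htx, tve_apply hφa]

theorem noUni_of_pCore (H : Subgroup (V ≃ₗ[ZMod p] V)) (hOp : Cfsg.pCore p ↥H = ⊥) :
    NoUni H := by
  intro Y a ξ ha hξ hS hinv haY hker
  let N : Subgroup ↥H :=
    { carrier := {h | (∀ y ∈ Y, (h : V ≃ₗ[ZMod p] V) y = y) ∧
        ∀ x, (h : V ≃ₗ[ZMod p] V) x - x ∈ Y}
      one_mem' := by
        refine ⟨fun y _ => rfl, fun x => ?_⟩
        rw [Subgroup.coe_one, LinearEquiv.coe_one, id_eq, sub_self]
        exact Y.zero_mem
      mul_mem' := by
        rintro g h ⟨hg1, hg2⟩ ⟨hh1, hh2⟩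
        refine ⟨fun y hy => ?_, fun x => ?_⟩
        · rw [Subgroup.coe_mul, LinearEquiv.mul_apply, hh1 y hy, hg1 y hy]
        · rw [Subgroup.coe_mul, LinearEquiv.mul_apply]
          have : (g : V ≃ₗ[ZMod p] V) ((h : V ≃ₗ[ZMod p] V) x) - x =
              ((g : V ≃ₗ[ZMod p] V) ((h : V ≃ₗ[ZMod p] V) x) - (h : V ≃ₗ[ZMod p] V) x) +
                ((h : V ≃ₗ[ZMod p] V) x - x) := by abel
          rw [this]
          exact Y.add_mem (hg2 _) (hh2 _)
      inv_mem' := by
        rintro g ⟨hg1, hg2⟩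
        refine ⟨fun y hy => ?_, fun x => ?_⟩
        · rw [Subgroup.coe_inv]
          conv_lhs => rw [← hg1 y hy]
          exact inv_apply_apply' _ y
        · rw [Subgroup.coe_inv]
          have h1 := hg2 ((g : V ≃ₗ[ZMod p] V)⁻¹ x)
          rw [apply_inv_apply'] at h1
          have : (g : V ≃ₗ[ZMod p] V)⁻¹ x - x = -(x - (g : V ≃ₗ[ZMod p] V)⁻¹ x) := by abel
          rw [this]
          exact Y.neg_mem h1 }
  have hNn : N.Normal := by
    constructor
    rintro n ⟨hn1, hn2⟩ g
    have hginv : ∀ y ∈ Y, (g : V ≃ₗ[ZMod p] V)⁻¹ y ∈ Y := fun y hy =>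
      hinv _ (H.inv_mem g.2) y hy
    refine ⟨fun y hy => ?_, fun x => ?_⟩
    · rw [Subgroup.coe_mul, Subgroup.coe_mul, Subgroup.coe_inv, LinearEquiv.mul_apply,
        LinearEquiv.mul_apply, hn1 _ (hginv y hy), apply_inv_apply']
    · rw [Subgroup.coe_mul, Subgroup.coe_mul, Subgroup.coe_inv, LinearEquiv.mul_apply,
        LinearEquiv.mul_apply]
      have h1 := hn2 ((g : V ≃ₗ[ZMod p] V)⁻¹ x)
      have h2 := hinv _ g.2 _ h1
      rw [map_sub, apply_inv_apply'] at h2
      exact h2
  have hNp : IsPGroup p N := by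
    rintro ⟨g, hg1, hg2⟩
    refine ⟨1, ?_⟩
    rw [pow_one]
    apply Subtype.ext
    apply Subtype.ext
    rw [Subgroup.coe_pow, Subgroup.coe_pow, Subgroup.coe_one, Subgroup.coe_one]
    show (g : V ≃ₗ[ZMod p] V) ^ p = 1
    have hpow : ∀ (k : ℕ) (x : V), ((g : V ≃ₗ[ZMod p] V) ^ k) x =
        x + k • ((g : V ≃ₗ[ZMod p] V) x - x) := by
      intro k x
      induction k with
      | zero => simp
      | succ k ih =>
        rw [pow_succ', LinearEquiv.mul_apply, ih, map_add, map_nsmul, hg1 _ (hg2 x), succ_nsmul]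
        abel
    ext x
    rw [hpow, ZModModule.char_nsmul_eq_zero p, add_zero]
    rfl
  have hle : N ≤ Cfsg.pCore p ↥H := le_sSup ⟨hNn, hNp⟩
  rw [hOp] at hle
  have hmem : (⟨tve a ξ, hS.2⟩ : ↥H) ∈ N := by
    refine ⟨fun y hy => ?_, fun x => ?_⟩
    · show tve a ξ y = y
      rw [tve_apply hS.1, hker y hy, zero_smul, add_zero]
    · show tve a ξ x - x ∈ Y
      rw [tve_apply hS.1, add_sub_cancel_left]
      exact Y.smul_mem _ haY
  have h1 := hle hmem
  rw [Subgroup.mem_bot] at h1
  have h2 : tve a ξ = 1 := congrArg Subtype.val h1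
  obtain ⟨x, hx⟩ : ∃ x, ξ x ≠ 0 := by
    by_contra hcon
    push Not at hcon
    exact hξ (LinearMap.ext hcon)
  have h3 : tve a ξ x = x := by rw [h2]; rfl
  rw [tve_apply hS.1] at h3
  have h4 : ξ x • a = 0 := by
    have : x + ξ x • a - x = 0 := by rw [h3, sub_self]
    rwa [add_sub_cancel_left] at this
  rcases smul_eq_zero.mp h4 with h | h
  · exact hx h
  · exact ha h

end Prime

end Cfsg.Agent.Lib.Helper94_McL6
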