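import Mathlib
import Cfsg.Agent.Lib.Helper94_McL5
import Cfsg.Agent.Lib.Helper94_SLBridge
import Cfsg.Agent.Lib.Helper94_Symp

/-!
# Groups generated by transvections: the action on the components (helper94)

For a standard component `X` supported on `W` (`Comp X W Z`), the restriction homomorphism
`rho : X →* GL(W)` has range the special linear group of `W` or the isometry group of a nondegenerate
alternating form on `W`.  `assemble` puts the components together.
-/

set_option autoImplicit false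

namespace Cfsg.Agent.Lib.Helper94_McL7

open Module Cfsg.Agent.Lib.Helper94_McL1 Cfsg.Agent.Lib.Helper94_McL2 Cfsg.Agent.Lib.Helper94_McL3
  Cfsg.Agent.Lib.Helper94_McL4 Cfsg.Agent.Lib.Helper94_McL5

variable {K V : Type*} [Field K] [AddCommGroup V] [Module K V]

/-- Restriction of an automorphism to an invariant subspace. -/
noncomputable def resEquiv (W : Submodule K V) (g : V ≃ₗ[K] V) (h1 : ∀ w ∈ W, g w ∈ W)
    (h2 : ∀ w ∈ W, g⁻¹ w ∈ W) : ↥W ≃ₗ[K] ↥W where
  toFun v := ⟨g v, h1 v v.2⟩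
  map_add' x y := by
    apply Subtype.ext
    simp
  map_smul' c x := by
    apply Subtype.ext
    simp
  invFun v := ⟨g⁻¹ v, h2 v v.2⟩
  left_inv v := by
    apply Subtype.ext
    exact inv_apply_apply' g v
  right_inv v := by
    apply Subtype.ext
    exact apply_inv_apply' g v

lemma resEquiv_apply (W : Submodule K V) (g : V ≃ₗ[K] V) (h1 : ∀ w ∈ W, g w ∈ W)
    (h2 : ∀ w ∈ W, g⁻¹ w ∈ W) (v : ↥W) : ((resEquiv W g h1 h2 v : ↥W) : V) = g v := rfl

section Rho

variable {X : Subgroup (V ≃ₗ[K] V)} {W Z : Submodule K V}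

lemma comp_map_mem (hC : Comp X W Z) {g : V ≃ₗ[K] V} (hg : g ∈ X) {w : V} (hw : w ∈ W) :
    g w ∈ W := by
  have : g w = w + (g w - w) := by abel
  rw [this]
  exact W.add_mem hw ((hC.supp g hg).2 w)

/-- The action of a component on its support. -/
noncomputable def rho (hC : Comp X W Z) : ↥X →* (↥W ≃ₗ[K] ↥W) where
  toFun g := resEquiv W g (fun _ hw => comp_map_mem hC g.2 hw)
    (fun _ hw => comp_map_mem hC (X.inv_mem g.2) hw)
  map_one' := by
    ext v
    rfl
  map_mul' g h := by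
    ext v
    rfl

lemma rho_apply (hC : Comp X W Z) (g : ↥X) (v : ↥W) :
    ((rho hC g v : ↥W) : V) = (g : V ≃ₗ[K] V) v := rfl

/-- Conjugation by a linear equivalence, as a group homomorphism. -/
noncomputable def conjHom {U U' : Type*} [AddCommGroup U] [Module K U] [AddCommGroup U']
    [Module K U'] (e : U ≃ₗ[K] U') : (U' ≃ₗ[K] U') →* (U ≃ₗ[K] U) where
  toFun g := (e.trans g).trans e.symm
  map_one' := by
    ext x
    simp
  map_mul' g h := by
    ext x
    simp [LinearEquiv.mul_apply]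

lemma conjHom_apply {U U' : Type*} [AddCommGroup U] [Module K U] [AddCommGroup U']
    [Module K U'] (e : U ≃ₗ[K] U') (g : U' ≃ₗ[K] U') (x : U) :
    conjHom e g x = e.symm (g (e x)) := rfl

variable [FiniteDimensional K V]

theorem det_rho (hC : Comp X W Z)
    (hgen : ∃ T' : Set (V ≃ₗ[K] V), X = Subgroup.closure T' ∧
      ∀ t ∈ T', ∃ (a : V) (φ : Dual K V), a ∈ W ∧ (∀ z ∈ Z, φ z = 0) ∧ φ a = 0 ∧ t = tve a φ)
    (g : ↥X) : LinearEquiv.det (rho hC g) = 1 := by
  obtain ⟨T', hX, hT'⟩ := hgen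
  have key : ∀ (g : V ≃ₗ[K] V) (hg : g ∈ X), LinearEquiv.det (rho hC ⟨g, hg⟩) = 1 := by
    intro g hg
    have hg' : g ∈ Subgroup.closure T' := hX ▸ hg
    induction hg' using Subgroup.closure_induction with
    | mem t ht =>
      obtain ⟨a, φ, haW, _, hφa, rfl⟩ := hT' t ht
      have h0 : (φ ∘ₗ W.subtype) ⟨a, haW⟩ = 0 := hφa
      have : rho hC ⟨tve a φ, hg⟩ = LinearEquiv.transvection h0 := by
        ext v
        rw [rho_apply, LinearEquiv.transvection.apply]
        show tve a φ (v : V) = _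
        rw [tve_apply hφa]
        rfl
      rw [this]
      exact LinearEquiv.transvection.det_eq_one h0
    | one =>
      have : (⟨1, hg⟩ : ↥X) = 1 := rfl
      rw [this, map_one, map_one]
    | mul g h hg1 hh1 ihg ihh =>
      have hgX : g ∈ X := hX ▸ hg1
      have hhX : h ∈ X := hX ▸ hh1
      have : (⟨g * h, hg⟩ : ↥X) = ⟨g, hgX⟩ * ⟨h, hhX⟩ := rfl
      rw [this, map_mul, map_mul, ihg hgX, ihh hhX, one_mul]
    | inv g hg1 ih =>
      have hgX : g ∈ X := hX ▸ hg1
      have : (⟨g⁻¹, hg⟩ : ↥X) = (⟨g, hgX⟩ : ↥X)⁻¹ := rfl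
      rw [this, map_inv, map_inv, ih hgX, inv_one]
  exact key g.1 g.2

open Cfsg.Agent.Lib.Helper94_SLBridge in
theorem range_sl (hC : Comp X W Z) (hSL : SLT X W Z) (hdim : finrank K ↥W ≠ 1)
    (hgen : ∃ T' : Set (V ≃ₗ[K] V), X = Subgroup.closure T' ∧
      ∀ t ∈ T', ∃ (a : V) (φ : Dual K V), a ∈ W ∧ (∀ z ∈ Z, φ z = 0) ∧ φ a = 0 ∧ t = tve a φ) :
    ((rho hC).range : Set (↥W ≃ₗ[K] ↥W)) =
      {f : ↥W ≃ₗ[K] ↥W | LinearMap.det (f : ↥W →ₗ[K] ↥W) = 1} := by
  have hc := hC.compl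
  apply Set.Subset.antisymm
  · rintro f ⟨g, rfl⟩
    show LinearMap.det ((rho hC g : ↥W ≃ₗ[K] ↥W) : ↥W →ₗ[K] ↥W) = 1
    rw [← LinearEquiv.coe_det, det_rho hC hgen g, Units.val_one]
  · intro f hf
    have hf' : LinearEquiv.det f = 1 := by
      apply Units.ext
      rw [LinearEquiv.coe_det, Units.val_one]
      exact hf
    rcases Nat.lt_or_ge (finrank K ↥W) 2 with hlt | hge
    · have h0 : finrank K ↥W = 0 := by omega
      have : Subsingleton ↥W := Module.finrank_zero_iff.mp h0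
      have : f = 1 := by
        ext v
        exact congrArg Subtype.val (Subsingleton.elim _ _)
      rw [this]
      exact (rho hC).range.one_mem
    · have : Nontrivial (Fin (finrank K ↥W)) := Fin.nontrivial_iff_two_le.mpr hge
      let b := Module.finBasis K ↥W
      let e : ↥W ≃ₗ[K] (Fin (finrank K ↥W) → K) := b.equivFun
      let M' : Subgroup ((Fin (finrank K ↥W) → K) ≃ₗ[K] (Fin (finrank K ↥W) → K)) :=
        (rho hC).range.comap (conjHom e)
      have hM' : ∀ (φ : Module.Dual K (Fin (finrank K ↥W) → K)) (v : Fin (finrank K ↥W) → K)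
          (h : φ v = 0), LinearEquiv.transvection h ∈ M' := by
        intro φ v h
        rw [Subgroup.mem_comap]
        set ω : Dual K V := (φ ∘ₗ e.toLinearMap) ∘ₗ (W.projectionOnto Z hc) with hω
        have hωW : ∀ w : ↥W, ω (w : V) = φ (e w) := by
          intro w
          rw [hω, LinearMap.comp_apply, Submodule.projectionOnto_apply_left]
          rfl
        have hωZ : ∀ z ∈ Z, ω z = 0 := by
          intro z hz
          rw [hω, LinearMap.comp_apply]
          rw [Submodule.projectionOnto_apply_of_mem_right hc hz, map_zero]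
        have hωv : ω ((e.symm v : ↥W) : V) = 0 := by
          rw [hωW, LinearEquiv.apply_symm_apply, h]
        have hS := hSL.flags _ (e.symm v).2 ω hωZ hωv
        refine ⟨⟨tve ((e.symm v : ↥W) : V) ω, hS.2⟩, ?_⟩
        ext x
        rw [rho_apply, conjHom_apply, LinearEquiv.transvection.apply]
        show tve ((e.symm v : ↥W) : V) ω (x : V) = _
        rw [tve_apply hωv, hωW, map_add, map_smul, LinearEquiv.symm_apply_apply]
        rfl
      have hle := slK_le_of_transvections M' hM'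
      set g₀ : (Fin (finrank K ↥W) → K) ≃ₗ[K] (Fin (finrank K ↥W) → K) :=
        (e.symm.trans f).trans e with hg₀
      have hg₀det : LinearEquiv.det g₀ = 1 := by rw [hg₀, LinearEquiv.det_conj, hf']
      have hg₀mem : g₀ ∈ M' := hle ((mem_slK g₀).mpr hg₀det)
      rw [Subgroup.mem_comap] at hg₀mem
      have : conjHom e g₀ = f := by
        ext x
        rw [conjHom_apply, hg₀]
        simp
      rw [← this]
      exact hg₀mem

open Cfsg.Agent.Lib.Helper94_Symp in
theorem range_sp (hF : Full X) (hC : Comp X W Z) {B : LinearMap.BilinForm K V} (hSp : SpT X W B)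
    (hiso : ∀ g ∈ X, ∀ x y, B (g x) (g y) = B x y) :
    (B.domRestrict₁₂ W W).IsAlt ∧ (B.domRestrict₁₂ W W).Nondegenerate ∧
      ((rho hC).range : Set (↥W ≃ₗ[K] ↥W)) =
        {f : ↥W ≃ₗ[K] ↥W | ∀ x y, (B.domRestrict₁₂ W W) (f x) (f y) = (B.domRestrict₁₂ W W) x y} := by
  set BW : LinearMap.BilinForm K ↥W := B.domRestrict₁₂ W W with hBW
  have hap : ∀ x y : ↥W, BW x y = B (x : V) (y : V) := fun x y => rfl
  have halt : BW.IsAlt := fun x => hSp.alt (x : V)
  have hnd : BW.Nondegenerate := by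
    constructor
    · intro x hx
      apply Subtype.ext
      apply hSp.nondeg x.2
      intro w' hw'
      exact hx ⟨w', hw'⟩
    · intro y hy
      apply Subtype.ext
      apply hSp.nondeg y.2
      intro w' hw'
      have := hy ⟨w', hw'⟩
      rw [hap] at this
      rw [alt_swap hSp.alt, this, neg_zero]
  refine ⟨halt, hnd, ?_⟩
  apply Set.Subset.antisymm
  · rintro f ⟨g, rfl⟩ x y
    rw [hap, hap, rho_apply, rho_apply]
    exact hiso _ g.2 _ _
  · intro f hf
    have hM : ∀ (v : ↥W) (c : K), stv BW halt v c ∈ (rho hC).range := by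
      intro v c
      have hS := S_smul_right hF (-c) (hSp.mem (v : V) v.2)
      refine ⟨⟨tve (v : V) ((-c) • B (v : V)), hS.2⟩, ?_⟩
      ext x
      rw [rho_apply, stv_apply]
      show tve (v : V) ((-c) • B (v : V)) (x : V) = _
      rw [tve_apply hS.1, LinearMap.smul_apply, smul_eq_mul, hap, alt_swap hSp.alt (x : V) (v : V)]
      simp only [Submodule.coe_add, Submodule.coe_smul, mul_neg, neg_mul]
    exact isoGroup_le_of_stv_mem BW halt hnd (rho hC).range hM hf

end Rho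

section Assemble

variable [FiniteDimensional K V] {n : ℕ}

theorem isInternal_of_comp (X : Fin n → Subgroup (V ≃ₗ[K] V)) (W : Fin (n + 1) → Submodule K V)
    (Z : Fin n → Submodule K V) (hC : ∀ j, Comp (X j) (W j.succ) (Z j)) (hW0 : W 0 = ⨅ j, Z j)
    (hcross : ∀ i j : Fin n, i ≠ j → W i.succ ≤ Z j) : DirectSum.IsInternal W := by
  classical
  set π : Fin n → V →ₗ[K] V := fun j => pr1 (hC j).compl with hπ
  have hπ_mem : ∀ j x, π j x ∈ W j.succ := fun j x => pr1_mem (hC j).compl x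
  have hπ_self : ∀ j, ∀ x ∈ W j.succ, π j x = x := fun j x hx => pr1_of_mem (hC j).compl hx
  have hπ_cross : ∀ i j, i ≠ j → ∀ x ∈ W i.succ, π j x = 0 := fun i j hij x hx =>
    pr1_of_mem' (hC j).compl (hcross i j hij hx)
  have hW0Z : ∀ j, W 0 ≤ Z j := fun j => hW0 ▸ iInf_le Z j
  have hπ_zero : ∀ j, ∀ x ∈ W 0, π j x = 0 := fun j x hx => pr1_of_mem' (hC j).compl (hW0Z j hx)
  set Φ : V →ₗ[K] V := ∑ j, π j with hΦ
  have hΦap : ∀ x, Φ x = ∑ j, π j x := fun x => by rw [hΦ, LinearMap.sum_apply]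
  rw [DirectSum.isInternal_submodule_iff_iSupIndep_and_iSup_eq_top]
  constructor
  · rw [iSupIndep_def]
    intro i
    rw [Submodule.disjoint_def]
    refine Fin.cases ?_ (fun i₀ => ?_) i
    · intro x hx hx'
      have hle : (⨆ (j : Fin (n + 1)) (_ : j ≠ 0), W j) ≤ LinearMap.eqLocus Φ LinearMap.id := by
        refine iSup_le fun j => iSup_le fun hj => ?_
        obtain ⟨j₀, rfl⟩ := Fin.exists_succ_eq.mpr hj
        intro y hy
        rw [LinearMap.mem_eqLocus, LinearMap.id_apply, hΦap,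
          Finset.sum_eq_single j₀ (fun k _ hk => hπ_cross j₀ k hk.symm y hy)
            (fun h => absurd (Finset.mem_univ _) h)]
        exact hπ_self j₀ y hy
      have h1 : Φ x = x := hle hx'
      rw [hΦap, Finset.sum_eq_zero (fun j _ => hπ_zero j x hx)] at h1
      exact h1.symm
    · intro x hx hx'
      have hle : (⨆ (j : Fin (n + 1)) (_ : j ≠ i₀.succ), W j) ≤ Z i₀ := by
        refine iSup_le fun j => iSup_le ?_
        refine Fin.cases ?_ (fun j₀ => ?_) j
        · intro _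
          exact hW0Z i₀
        · intro hj
          exact hcross j₀ i₀ (fun h => hj (by rw [h]))
      exact inter_eq_zero (hC i₀).compl hx (hle hx')
  · rw [eq_top_iff]
    intro x _
    have hr : x - Φ x ∈ W 0 := by
      rw [hW0, Submodule.mem_iInf]
      intro i
      rw [mem_Z_iff (hC i).compl]
      show π i (x - Φ x) = 0
      rw [map_sub, hΦap, map_sum,
        Finset.sum_eq_single i (fun j _ hj => hπ_cross j i hj _ (hπ_mem j x))
          (fun h => absurd (Finset.mem_univ _) h), hπ_self i _ (hπ_mem i x), sub_self]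
    have : x = (x - Φ x) + Φ x := by abel
    rw [this]
    refine Submodule.add_mem _ (Submodule.mem_iSup_of_mem 0 hr) ?_
    rw [hΦap]
    exact Submodule.sum_mem _ fun j _ => Submodule.mem_iSup_of_mem j.succ (hπ_mem j x)

theorem assemble (hFull : ∀ H' : Subgroup (V ≃ₗ[K] V), Full H') (H : Subgroup (V ≃ₗ[K] V))
    (X : Fin n → Subgroup (V ≃ₗ[K] V)) (W : Fin (n + 1) → Submodule K V)
    (Z : Fin n → Submodule K V) (hC : ∀ j, Comp (X j) (W j.succ) (Z j)) (hW0 : W 0 = ⨅ j, Z j)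
    (hcross : ∀ i j : Fin n, i ≠ j → W i.succ ≤ Z j) (hsup : ⨆ j, X j = H) :
    DirectSum.IsInternal W ∧
    (∀ h ∈ H, ∀ i, (W i).map (h : V →ₗ[K] V) = W i) ∧
    (∀ j, X j ≤ H ∧ ((X j).subgroupOf H).Normal) ∧ ⨆ j, X j = H ∧
    (∀ j, X j ⊓ (⨆ j' ∈ {j' : Fin n | j' ≠ j}, X j') = ⊥) ∧
    (∀ j j', j ≠ j' → ∀ a ∈ X j, ∀ b ∈ X j', a * b = b * a) ∧
    (∀ j, ∀ h ∈ X j, ∀ i : Fin (n + 1), i ≠ j.succ → ∀ v ∈ W i, h v = v) ∧
    (∀ j, ∃ ρ : ↥(X j) →* (↥(W j.succ) ≃ₗ[K] ↥(W j.succ)),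
      (∀ (h : ↥(X j)) (v : ↥(W j.succ)),
        ((ρ h v : ↥(W j.succ)) : V) = (h : V ≃ₗ[K] V) (v : V)) ∧
      ((ρ.range : Set (↥(W j.succ) ≃ₗ[K] ↥(W j.succ))) =
          {f : ↥(W j.succ) ≃ₗ[K] ↥(W j.succ) |
            LinearMap.det (f : ↥(W j.succ) →ₗ[K] ↥(W j.succ)) = 1} ∨
        ∃ B : LinearMap.BilinForm K ↥(W j.succ), B.IsAlt ∧ B.Nondegenerate ∧
          (ρ.range : Set (↥(W j.succ) ≃ₗ[K] ↥(W j.succ))) =
            {f : ↥(W j.succ) ≃ₗ[K] ↥(W j.succ) | ∀ x y, B (f x) (f y) = B x y})) := by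
  have hW0Z : ∀ j, W 0 ≤ Z j := fun j => hW0 ▸ iInf_le Z j
  have hfixW0 : ∀ j, ∀ h ∈ X j, ∀ v ∈ W 0, h v = v := fun j h hh v hv =>
    ((hC j).supp h hh).1 v (hW0Z j hv)
  have hfixcross : ∀ j, ∀ h ∈ X j, ∀ i, i ≠ j → ∀ v ∈ W i.succ, h v = v :=
    fun j h hh i hij v hv => ((hC j).supp h hh).1 v (hcross i j hij hv)
  have hcomm : ∀ j j', j ≠ j' → ∀ a ∈ X j, ∀ b ∈ X j', a * b = b * a := by
    intro j j' hjj' a ha b hb
    refine commute_of_supp (W := W j.succ) (Z := Z j) ((hC j).supp a ha) ⟨?_, ?_⟩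
    · exact hfixcross j' b hb j hjj'
    · intro x
      exact hcross j' j (Ne.symm hjj') (((hC j').supp b hb).2 x)
  have hle : ∀ j, X j ≤ H := fun j => hsup ▸ le_iSup X j
  have hinv : ∀ h ∈ H, ∀ i, ∀ v ∈ W i, h v ∈ W i := by
    intro h hh
    rw [← hsup] at hh
    refine Subgroup.iSup_induction X (C := fun h => ∀ i, ∀ v ∈ W i, h v ∈ W i) hh ?_ ?_ ?_
    · intro j g hg i
      refine Fin.cases ?_ (fun i₀ => ?_) i
      · intro v hv
        rw [hfixW0 j g hg v hv]
        exact hv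
      · intro v hv
        by_cases hij : i₀ = j
        · subst hij
          exact comp_map_mem (hC i₀) hg hv
        · rw [hfixcross j g hg i₀ hij v hv]
          exact hv
    · intro i v hv
      exact hv
    · intro x y hx hy i v hv
      rw [LinearEquiv.mul_apply]
      exact hx i _ (hy i v hv)
  refine ⟨isInternal_of_comp X W Z hC hW0 hcross, ?_, ?_, hsup, ?_, hcomm, ?_, ?_⟩
  · intro h hh i
    apply le_antisymm
    · rintro _ ⟨v, hv, rfl⟩
      exact hinv h hh i v hv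
    · intro v hv
      refine ⟨h⁻¹ v, hinv h⁻¹ (H.inv_mem hh) i v hv, ?_⟩
      rw [LinearEquiv.coe_coe]
      exact apply_inv_apply' h v
  · intro j
    refine ⟨hle j, ?_⟩
    constructor
    intro k hk g
    rw [Subgroup.mem_subgroupOf] at hk ⊢
    rw [Subgroup.coe_mul, Subgroup.coe_mul, Subgroup.coe_inv]
    have hg : (g : V ≃ₗ[K] V) ∈ ⨆ j, X j := hsup ▸ g.2
    have key : ∀ k' ∈ X j, (g : V ≃ₗ[K] V) * k' * (g : V ≃ₗ[K] V)⁻¹ ∈ X j := by
      refine Subgroup.iSup_induction X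
        (C := fun g => ∀ k' ∈ X j, g * k' * g⁻¹ ∈ X j) hg ?_ ?_ ?_
      · intro i x hx k' hk'
        by_cases hij : i = j
        · subst hij
          exact (X i).mul_mem ((X i).mul_mem hx hk') ((X i).inv_mem hx)
        · rw [hcomm i j hij x hx k' hk', mul_inv_cancel_right]
          exact hk'
      · intro k' hk'
        rw [one_mul, inv_one, mul_one]
        exact hk'
      · intro x y hx hy k' hk'
        have : x * y * k' * (x * y)⁻¹ = x * (y * k' * y⁻¹) * x⁻¹ := by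
          rw [mul_inv_rev]
          simp only [mul_assoc]
        rw [this]
        exact hx _ (hy k' hk')
    exact key _ hk
  · intro j
    rw [eq_bot_iff]
    rintro g ⟨hg1, hg2⟩
    rw [Subgroup.mem_bot]
    have hfix : ∀ w ∈ W j.succ, g w = w := by
      refine Subgroup.iSup_induction (fun j' => ⨆ (_ : j' ∈ {j' : Fin n | j' ≠ j}), X j')
        (C := fun g => ∀ w ∈ W j.succ, g w = w) hg2 ?_ ?_ ?_
      · intro j' x hx
        by_cases hj' : j' ∈ {j' : Fin n | j' ≠ j}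
        · rw [iSup_pos hj'] at hx
          exact hfixcross j' x hx j (Ne.symm hj')
        · rw [iSup_neg hj', Subgroup.mem_bot] at hx
          subst hx
          intro w _
          rfl
      · intro w _
        rfl
      · intro x y hx hy w hw
        rw [LinearEquiv.mul_apply, hy w hw, hx w hw]
    exact eq_one_of_supp (hC j).compl ((hC j).supp g hg1).1 hfix
  · intro j h hh i
    refine Fin.cases ?_ (fun i₀ => ?_) i
    · intro _ v hv
      exact hfixW0 j h hh v hv
    · intro hi v hv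
      exact hfixcross j h hh i₀ (fun h' => hi (by rw [h'])) v hv
  · intro j
    refine ⟨rho (hC j), fun h v => rho_apply (hC j) h v, ?_⟩
    rcases (hC j).type with ⟨hSL, hdim, hgen⟩ | ⟨B, hSp, _, hiso⟩
    · left
      exact range_sl (hC j) hSL hdim hgen
    · right
      obtain ⟨h1, h2, h3⟩ := range_sp (hFull (X j)) (hC j) hSp hiso
      exact ⟨_, h1, h2, h3⟩

omit [FiniteDimensional K V] in
lemma comp_bot : Comp (⊥ : Subgroup (V ≃ₗ[K] V)) (⊥ : Submodule K V) (⊤ : Submodule K V) := by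
  refine ⟨isCompl_bot_top, ?_, fun _ _ => Submodule.mem_top, fun _ _ => bot_le, ?_⟩
  · intro g hg
    rw [Subgroup.mem_bot] at hg
    subst hg
    refine ⟨fun z _ => rfl, fun x => ?_⟩
    rw [LinearEquiv.coe_one, id_eq, sub_self]
    exact Submodule.zero_mem _
  · left
    refine ⟨⟨isCompl_bot_top, ?_⟩, ?_, ∅, Subgroup.closure_empty.symm, fun t ht => absurd ht id⟩
    · intro w hw ω _ _
      rw [Submodule.mem_bot] at hw
      subst hw
      exact S_zero_left ω
    · rw [finrank_bot]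
      exact zero_ne_one

theorem package (hFull : ∀ H' : Subgroup (V ≃ₗ[K] V), Full H') (H : Subgroup (V ≃ₗ[K] V))
    (X : Fin n → Subgroup (V ≃ₗ[K] V)) (W Z : Fin n → Submodule K V)
    (hC : ∀ j, Comp (X j) (W j) (Z j)) (hsup : ⨆ j, X j = H)
    (hcross : ∀ i j : Fin n, i ≠ j → W i ≤ Z j) :
    ∃ (n' : ℕ) (W' : Fin (n' + 1) → Submodule K V) (K' : Fin n' → Subgroup (V ≃ₗ[K] V)),
      1 ≤ n' ∧ DirectSum.IsInternal W' ∧
      (∀ h ∈ H, ∀ i, (W' i).map (h : V →ₗ[K] V) = W' i) ∧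
      (∀ j, K' j ≤ H ∧ ((K' j).subgroupOf H).Normal) ∧ ⨆ j, K' j = H ∧
      (∀ j, K' j ⊓ (⨆ j' ∈ {j' : Fin n' | j' ≠ j}, K' j') = ⊥) ∧
      (∀ j j', j ≠ j' → ∀ a ∈ K' j, ∀ b ∈ K' j', a * b = b * a) ∧
      (∀ j, ∀ h ∈ K' j, ∀ i : Fin (n' + 1), i ≠ j.succ → ∀ v ∈ W' i, h v = v) ∧
      (∀ j, ∃ ρ : ↥(K' j) →* (↥(W' j.succ) ≃ₗ[K] ↥(W' j.succ)),
        (∀ (h : ↥(K' j)) (v : ↥(W' j.succ)),
          ((ρ h v : ↥(W' j.succ)) : V) = (h : V ≃ₗ[K] V) (v : V)) ∧
        ((ρ.range : Set (↥(W' j.succ) ≃ₗ[K] ↥(W' j.succ))) =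
            {f : ↥(W' j.succ) ≃ₗ[K] ↥(W' j.succ) |
              LinearMap.det (f : ↥(W' j.succ) →ₗ[K] ↥(W' j.succ)) = 1} ∨
          ∃ B : LinearMap.BilinForm K ↥(W' j.succ), B.IsAlt ∧ B.Nondegenerate ∧
            (ρ.range : Set (↥(W' j.succ) ≃ₗ[K] ↥(W' j.succ))) =
              {f : ↥(W' j.succ) ≃ₗ[K] ↥(W' j.succ) | ∀ x y, B (f x) (f y) = B x y})) := by
  by_cases hn : n = 0
  · subst hn
    have hH : H = ⊥ := by rw [← hsup, iSup_of_empty]
    refine ⟨1, Fin.cons ⊤ (fun _ => ⊥), fun _ => ⊥, le_refl 1, ?_⟩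
    refine assemble hFull H (fun _ => ⊥) (Fin.cons ⊤ (fun _ => ⊥)) (fun _ => ⊤) ?_ ?_ ?_ ?_
    · intro j
      simpa using comp_bot
    · simp
    · intro i j hij
      exact absurd (Subsingleton.elim i j) hij
    · rw [hH]
      simp
  · refine ⟨n, Fin.cons (⨅ j, Z j) W, X, Nat.one_le_iff_ne_zero.mpr hn, ?_⟩
    refine assemble hFull H X (Fin.cons (⨅ j, Z j) W) Z ?_ ?_ ?_ hsup
    · intro j
      simpa using hC j
    · simp
    · intro i j hij
      simpa using hcross i j hij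

end Assemble

end Cfsg.Agent.Lib.Helper94_McL7
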