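import Mathlib
import Cfsg.Agent.Lib.Helper94_OD3Defs
import Cfsg.Agent.Lib.Helper38_OD2_A1
import Cfsg.Agent.Lib.Helper38_OD2_A2
import Cfsg.Agent.Lib.Helper73_OD_3CYC

set_option autoImplicit false
set_option linter.unusedSectionVars false
set_option linter.unusedVariables false

/-!
OD3-CASEA: case A of the OD scheme as the hypothesis `CaseAHyp`, from helper38's
characteristic-free `edge_of_notMem` / `caseA_finish`.  (helper94)
-/

namespace Cfsg.Agent.Lib.Helper94_OD3_CASEA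

open Module Cfsg.Agent.Lib.Helper94_Symp Cfsg.Agent.Lib.Helper94_OrthSmall
  Cfsg.Agent.Lib.Helper94_OrthSiegel Cfsg.Agent.Lib.Helper94_OrthNondeg
  Cfsg.Agent.Lib.Helper29_ODDefs Cfsg.Agent.Lib.Helper94_Q2Defs Cfsg.Agent.Lib.Helper94_OD3Defs
  Cfsg.Agent.Lib.Helper38_OD2Defs

variable {F V : Type*} [Field F] [AddCommGroup V] [Module F V] [Finite F] [FiniteDimensional F V]
  {Q : V → F} {B : LinearMap.BilinForm F V} {t k : ℕ} {D : Fin t → Submodule F V}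
  {S M L : Subgroup (V ≃ₗ[F] V)}

/-- **OD3-CASEA** -/
theorem CASEA (hQs : ∀ (c : F) (v : V), Q (c • v) = c * c * Q v)
    (hQp : ∀ u v : V, Q (u + v) = Q u + Q v + B u v) (hN : B.Nondegenerate)
    (hG2 : ∀ u z, Q u = 0 → B u z = 0 → sieg Q B u z ∈ ⁅oG Q, oG Q⁆)
    (hG3 : ∀ M : Subgroup (V ≃ₗ[F] V),
      (∀ u z, Q u = 0 → B u z = 0 → sieg Q B u z ∈ M) → ⁅oG Q, oG Q⁆ ≤ M)
    (hD : ODec Q B k D) (hk : 3 ≤ k) (ht : 3 ≤ t) (hS : IsDStab D S)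
    (hirr : Cfsg.Agent.Lib.Helper38_OD2Defs.IrrK Q B 3) : CaseAHyp Q B D S := by
  intro L hHL hLO hB
  have hC : Ctx2 Q B k D S L := ⟨hQs, hQp, hN, hD, by omega, hk, hS, hG2, hHL, hLO⟩
  have h3c : ThreeCycles Q D := Cfsg.Agent.Lib.Helper73_OD_3CYC.three_cycles hQs hQp hN hD
  apply hG3
  unfold CaseB at hB
  push Not at hB
  obtain ⟨i, w, hw, hw0, hQw, z, hz, hzD⟩ := hB
  obtain ⟨j, hji, he, he'⟩ :=
    Cfsg.Agent.Lib.Helper38_OD2_A1.edge_of_notMem hC hirr hk hw hw0 hQw hz hzD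
  exact Cfsg.Agent.Lib.Helper38_OD2_A2.caseA_finish hC h3c (Ne.symm hji) he he'

end Cfsg.Agent.Lib.Helper94_OD3_CASEA
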