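import Mathlib
import Cfsg.Agent.Lib.Helper29_ODDefs
import Cfsg.Agent.Lib.Helper94_OrthRefl
import Cfsg.Agent.Lib.Helper74_OD_BASIC
import Cfsg.Agent.Lib.Helper35_OD_PLANE

set_option autoImplicit false

/-!
OD-B5 (helper29's S5677 market): in case B with blocks of dimension at least five, every
`M`-image of a block lies in a block.
-/

namespace Cfsg.Agent.Lib.Helper94_OD_B5

open Module Cfsg.Agent.Lib.Helper94_Symp Cfsg.Agent.Lib.Helper94_OrthSmall
  Cfsg.Agent.Lib.Helper94_OrthSiegel Cfsg.Agent.Lib.Helper94_OrthSiegel2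
  Cfsg.Agent.Lib.Helper94_OrthPara Cfsg.Agent.Lib.Helper94_OrthVec
  Cfsg.Agent.Lib.Helper94_OrthNondeg Cfsg.Agent.Lib.Helper94_OrthRefl
  Cfsg.Agent.Lib.Helper29_ODDefs
open Cfsg.Agent.Lib.Helper74_OD_BASIC Cfsg.Agent.Lib.Helper35_OD_PLANE

variable {F V : Type*} [Field F] [AddCommGroup V] [Module F V] [Finite F] [FiniteDimensional F V]
  {Q : V → F} {B : LinearMap.BilinForm F V}

/-- The image of a nondegenerate subspace under an isometry is nondegenerate. -/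
lemma map_nd (hQp : ∀ u v : V, Q (u + v) = Q u + Q v + B u v) {g : V ≃ₗ[F] V} (hg : g ∈ oG Q)
    (A : Submodule F V) (hA : ∀ a ∈ A, a ≠ 0 → ∃ x ∈ A, B x a ≠ 0) :
    ∀ a ∈ A.map (g : V →ₗ[F] V), a ≠ 0 → ∃ x ∈ A.map (g : V →ₗ[F] V), B x a ≠ 0 := by
  rintro a ⟨a0, ha0, rfl⟩ hne
  have h0 : a0 ≠ 0 := by
    rintro rfl
    exact hne (map_zero _)
  obtain ⟨x0, hx0, hx⟩ := hA a0 ha0 h0
  refine ⟨g x0, ⟨x0, hx0, rfl⟩, ?_⟩
  change B (g x0) (g a0) ≠ 0
  rw [oG_B Q B hQp hg]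
  exact hx

/-- A nondegenerate subspace of dimension at least five is spanned by its singular vectors. -/
lemma le_of_sing_mem (hQs : ∀ (c : F) (v : V), Q (c • v) = c * c * Q v)
    (hQp : ∀ u v : V, Q (u + v) = Q u + Q v + B u v)
    (U : Submodule F V) (hU : ∀ a ∈ U, a ≠ 0 → ∃ x ∈ U, B x a ≠ 0) (h5 : 5 ≤ finrank F U)
    (T : Submodule F V) (hT : ∀ s ∈ U, Q s = 0 → s ∈ T) : U ≤ T := by
  have hsapp := @sieg_apply F V _ _ _ Q B hQs hQp
  set X : Submodule F V := Submodule.span F {s | s ∈ U ∧ Q s = 0} with hX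
  have hXT : X ≤ T := Submodule.span_le.mpr (fun s hs => hT s hs.1 hs.2)
  have hinv : ∀ u ∈ U, ∀ v ∈ U, Q u = 0 → B u v = 0 → ∀ x ∈ X, sieg Q B u v x ∈ X := by
    intro u hu v hv hQu huv x hx
    induction hx using Submodule.span_induction with
    | mem s hs =>
      apply Submodule.subset_span
      refine ⟨?_, ?_⟩
      · rw [hsapp hQu huv]
        exact U.sub_mem (U.sub_mem (U.add_mem hs.1 (U.smul_mem _ hv)) (U.smul_mem _ hu))
          (U.smul_mem _ hu)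
      · rw [sieg_mem_oG Q B hQs hQp hQu huv]
        exact hs.2
    | zero => rw [map_zero]; exact X.zero_mem
    | add a b _ _ iha ihb => rw [map_add]; exact X.add_mem iha ihb
    | smul c a _ iha => rw [map_smul]; exact X.smul_mem c iha
  obtain ⟨s0, hs0U, hs00, hQs0⟩ := exists_singular_in Q B hQs hQp U (by omega)
  have h1 : s0 + 0 ∈ X := by
    rw [add_zero]
    exact Submodule.subset_span ⟨hs0U, hQs0⟩
  exact (irr Q B hQs hQp U hU h5 X hinv h1 hs0U hs00 (fun y _ => by simp)).trans hXT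

theorem caseB5 {t k : ℕ} {D : Fin t → Submodule F V} {S M : Subgroup (V ≃ₗ[F] V)}
    (hC : Ctx Q B k D S M) (hk5 : 5 ≤ k) (hsa : StarA Q B D M) (hsb : StarB Q B D M) :
    ∀ g ∈ M, ∀ i, ∃ j, (D i).map (g : V →ₗ[F] V) ≤ D j := by
  obtain ⟨hQs, hQp, h2, hN, hD, ht, hk, hS, hG2, hHM, hMO⟩ := hC
  have hsymm := B_symm Q B hQp
  have hsapp := @sieg_apply F V _ _ _ Q B hQs hQp
  have hUnd : ∀ g ∈ M, ∀ i, ∀ a ∈ (D i).map (g : V →ₗ[F] V), a ≠ 0 →
      ∃ x ∈ (D i).map (g : V →ₗ[F] V), B x a ≠ 0 :=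
    fun g hg i => map_nd hQp (hMO hg) (D i) (hD.nd i)
  have hUfr : ∀ (g : V ≃ₗ[F] V) (i : Fin t), finrank F ((D i).map (g : V →ₗ[F] V)) = k := by
    intro g i
    rw [LinearEquiv.finrank_map_eq, hD.fr]
  -- Claim 1
  have claim1 : ∀ g ∈ M, ∀ i, ∀ y ∈ (D i).map (g : V →ₗ[F] V),
      ∀ y' ∈ (D i).map (g : V →ₗ[F] V), y ≠ 0 → y' ≠ 0 → Q y = 0 → Q y' = 0 →
      ∀ j, Perp B D y j → Perp B D y' j := by
    intro g hg i y hy y' hy' hy0 hy'0 hQy hQy' j hperp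
    obtain ⟨w, hwU, hw0, hQw, hwy, hwy'⟩ := exists_sing_orth2 Q B hQs hQp
      ((D i).map (g : V →ₗ[F] V)) (by rw [hUfr]; exact hk5) y y'
    have h1 : InZ Q B M y w := (hsa g hg i y hy hy0 hQy w).mpr ⟨hwU, by rw [hsymm]; exact hwy⟩
    have h2 : Perp B D w j := hsb y ⟨hy0, hQy, g, hg, i, hy⟩ j hperp w h1
    have h3 : InZ Q B M w y' := (hsa g hg i w hwU hw0 hQw y').mpr ⟨hy', hwy'⟩
    exact hsb w ⟨hw0, hQw, g, hg, i, hwU⟩ j h2 y' h3
  have hspan : ∀ g ∈ M, ∀ i a, (∀ s ∈ (D i).map (g : V →ₗ[F] V), Q s = 0 → s ∈ D a) →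
      (D i).map (g : V →ₗ[F] V) ≤ D a := by
    intro g hg i a h
    exact le_of_sing_mem hQs hQp _ (hUnd g hg i) (by rw [hUfr]; exact hk5) (D a) h
  intro g hg i
  obtain ⟨y0, hy0U, hy00, hQy0⟩ := exists_singular_in Q B hQs hQp ((D i).map (g : V →ₗ[F] V))
    (by rw [hUfr]; omega)
  obtain ⟨a, ha⟩ : ∃ a, ¬ Perp B D y0 a := by
    by_contra hcon
    push Not at hcon
    exact hy00 (eq_zero_of_perp hQp hN hD hcon)
  by_cases hall : ∀ j, j ≠ a → Perp B D y0 j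
  · refine ⟨a, hspan g hg i a ?_⟩
    intro s hs hQs'
    by_cases hs0 : s = 0
    · rw [hs0]; exact zero_mem _
    exact mem_of_perp hQs hQp hN hD
      (fun j hj => claim1 g hg i y0 hy0U s hs hy00 hs0 hQy0 hQs' j (hall j hj))
  · exfalso
    push Not at hall
    obtain ⟨b, hba, hb⟩ := hall
    obtain ⟨p, hpU, hp⟩ := hUnd g hg i y0 hy0U hy00
    obtain ⟨w, hwU, hw0, hQw, hwy0, hwp⟩ := exists_sing_orth2 Q B hQs hQp
      ((D i).map (g : V →ₗ[F] V)) (by rw [hUfr]; exact hk5) y0 p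
    have hwy : ∀ c : F, w ≠ c • y0 := by
      intro c hc
      have h1 : c * B y0 p = 0 := by
        rw [hc, map_smul, LinearMap.smul_apply, smul_eq_mul] at hwp
        exact hwp
      have h3 : B y0 p ≠ 0 := by rw [hsymm]; exact hp
      have h4 : c = 0 := (mul_eq_zero.mp h1).resolve_right h3
      rw [h4, zero_smul] at hc
      exact hw0 hc
    have hy0w : B y0 w = 0 := by rw [hsymm]; exact hwy0
    have hInZ : InZ Q B M y0 w := (hsa g hg i y0 hy0U hy00 hQy0 w).mpr ⟨hwU, hy0w⟩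
    have hhM : sieg Q B y0 w ∈ M := by
      have := hInZ.2 1
      rwa [one_smul] at this
    obtain ⟨x, hxa, hx0, hQx, hxy0, hxw⟩ := exists_sing_orth2 Q B hQs hQp (D a)
      (by rw [hD.fr]; exact hk5) y0 w
    have hhx : sieg Q B y0 w x = x := by
      rw [hsapp hQy0 hy0w, hxy0, hxw]
      simp
    have hxmem : x ∈ (D a).map ((sieg Q B y0 w : V ≃ₗ[F] V) : V →ₗ[F] V) := ⟨x, hxa, hhx⟩
    have hxperp : ∀ j, j ≠ a → Perp B D x j :=
      fun j hj d hd => hD.orth a j (Ne.symm hj) x hxa d hd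
    have hle : (D a).map ((sieg Q B y0 w : V ≃ₗ[F] V) : V →ₗ[F] V) ≤ D a := by
      apply hspan _ hhM a a
      intro s hs hQs'
      by_cases hs0 : s = 0
      · rw [hs0]; exact zero_mem _
      exact mem_of_perp hQs hQp hN hD
        (fun j hj => claim1 _ hhM a x hxmem s hs hx0 hs0 hQx hQs' j (hxperp j hj))
    obtain ⟨x', hx'a, hx'⟩ : ∃ x' ∈ D a, B y0 x' ≠ 0 := by
      by_contra hcon
      push Not at hcon
      exact ha hcon
    have hx'y0 : B x' y0 ≠ 0 := by rw [hsymm]; exact hx'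
    set y1 := B x' y0 • w - B x' w • y0 with hy1
    have hy1eq : sieg Q B y0 w x' - x' = y1 := by
      rw [hsapp hQy0 hy0w, hQw, hy1]
      module
    have hy1a : y1 ∈ D a := by
      rw [← hy1eq]
      exact (D a).sub_mem (hle ⟨x', hx'a, rfl⟩) hx'a
    have hy1U : y1 ∈ (D i).map (g : V →ₗ[F] V) :=
      Submodule.sub_mem _ (Submodule.smul_mem _ _ hwU) (Submodule.smul_mem _ _ hy0U)
    have hy10 : y1 ≠ 0 := by
      intro h0
      apply hwy ((B x' y0)⁻¹ * B x' w)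
      have h1 : B x' y0 • w = B x' w • y0 := sub_eq_zero.mp h0
      rw [mul_smul, ← h1, smul_smul, inv_mul_cancel₀ hx'y0, one_smul]
    have hQy1 : Q y1 = 0 := by
      have e : y1 = B x' y0 • w + (-(B x' w)) • y0 := by rw [hy1]; module
      rw [e, Q_add_smul Q B hQs hQp, hQs, hQw, hQy0, map_smul, LinearMap.smul_apply, hwy0]
      simp
    have : Perp B D y0 b := claim1 g hg i y1 hy1U y0 hy0U hy10 hy00 hQy1 hQy0 b
      (fun d hd => hD.orth a b (Ne.symm hba) y1 hy1a d hd)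
    exact hb this

end Cfsg.Agent.Lib.Helper94_OD_B5
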