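import Mathlib
import Cfsg.Agent.Lib.Helper38_OTDefs
import Cfsg.Agent.Lib.Helper43_OT_ODDALG

set_option autoImplicit false
set_option linter.unusedSectionVars false
set_option linter.unusedVariables false

/-!
OTENS4 package OT-ODDTR (helper94): transfer of the `SL_2`-computation `odd_algO` to a maximal
pair; orthogonal twin of helper51's `Helper51_UT_ODDTR` (root groups `{1 + s N | s ∈ F}`).

NOTE: the stub `odd_transferO` of `OTENS4_packages3` is not provable as stated (nothing makes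
`1 + s N` invertible, so `GamO N N'` may be trivial) - the same defect as the stub of UT-ODDTR; the
versions proved here have the extra hypotheses `N² = 0 = N'²` (`odd_transferO_sq`) or
`IsRootOpO f ℓ N`, `IsRootOpO f ℓ' N'` (`odd_transferO`).
-/

namespace Cfsg.Agent.Lib.Helper94_OT_ODDTR

open Module
open Cfsg.Agent.Lib.Helper94_Herm
open Cfsg.Agent.Lib.Helper37_UTPairDefs Cfsg.Agent.Lib.Helper38_OTDefs

variable {F : Type*} [Field F] {V : Type*} [AddCommGroup V] [Module F V]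
variable {f : LinearMap.BilinForm F V} {ℓ ℓ' : Submodule F V} {N N' : V →ₗ[F] V}

/-- `1 + s N` as a linear equivalence, for `N² = 0` -/
def h94_E (N : V →ₗ[F] V) (hsq : ∀ v, N (N v) = 0) (s : F) : V ≃ₗ[F] V :=
  LinearEquiv.ofLinearMap (LinearMap.id + s • N) (LinearMap.id - s • N)
    (by
      ext v
      simp only [LinearMap.comp_apply, LinearMap.add_apply, LinearMap.sub_apply,
        LinearMap.id_apply, LinearMap.smul_apply, map_sub, map_smul, hsq, smul_zero]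
      abel_nf)
    (by
      ext v
      simp only [LinearMap.comp_apply, LinearMap.add_apply, LinearMap.sub_apply,
        LinearMap.id_apply, LinearMap.smul_apply, map_add, map_smul, hsq, smul_zero]
      abel_nf)

theorem h94_E_apply (N : V →ₗ[F] V) (hsq : ∀ v, N (N v) = 0) (s : F) (v : V) :
    h94_E N hsq s v = v + s • N v := rfl

theorem h94_sq_of_rootOp (hℓ : IsRootOpO f ℓ N) : ∀ v, N (N v) = 0 := by
  intro v
  have h1 : N v ∈ ℓ := by
    rw [← hℓ.range_eq]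
    exact LinearMap.mem_range_self N v
  have h2 : N v ∈ LinearMap.ker N := by
    rw [hℓ.ker_eq]
    exact hℓ.ti h1
  exact LinearMap.mem_ker.mp h2

/-- `T = N ∘ N'` on `J0 = N ℓ'` -/
def h94_T (hG : PairGeo f ℓ ℓ' N N') : ↥(ℓ'.map N) →ₗ[F] ↥(ℓ'.map N) :=
  LinearMap.restrict (N ∘ₗ N') (p := ℓ'.map N) (q := ℓ'.map N) (by
    intro u hu
    have h1 : N' u ∈ ℓ.map N' := by
      rw [← hG.N'_J]
      exact Submodule.mem_map_of_mem hu
    rw [← hG.N_J']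
    exact Submodule.mem_map_of_mem h1)

theorem h94_T_coe (hG : PairGeo f ℓ ℓ' N N') (u : ↥(ℓ'.map N)) :
    ((h94_T hG u : ↥(ℓ'.map N)) : V) = N (N' (u : V)) := rfl

theorem h94_T_inj (hG : PairGeo f ℓ ℓ' N N') : Function.Injective (h94_T hG) := by
  rw [← LinearMap.ker_eq_bot, LinearMap.ker_eq_bot']
  intro u hu
  have h0 : N (N' (u : V)) = 0 := by
    rw [← h94_T_coe hG u, hu]
    rfl
  have h1 : N' (u : V) ∈ ℓ.map N' := by
    rw [← hG.N'_J]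
    exact Submodule.mem_map_of_mem u.2
  have h2 : N' (u : V) = 0 := hG.N_inj _ h1 h0
  have h3 : (u : V) = 0 := hG.N'_inj _ u.2 h2
  exact Subtype.ext h3

/-- `Ψ (u, v) = u + N' v` -/
def h94_Psi (N' : V →ₗ[F] V) (J : Submodule F V) (p : ↥J × ↥J) : V := (p.1 : V) + N' (p.2 : V)

/-- the statement of `odd_alg` for `J0` -/
def h94_OddAlg (J : Submodule F V) : Prop :=
  ∀ T : ↥J ≃ₗ[F] ↥J,
    ∃ g ∈ Subgroup.closure {g : (↥J × ↥J) ≃ₗ[F] (↥J × ↥J) | ∃ s : F,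
        ((∀ p, g p = (p.1 + s • T p.2, p.2)) ∨ (∀ p, g p = (p.1, p.2 + s • p.1)))},
      g ≠ 1 ∧ ∃ c : ↥J →ₗ[F] ↥J, ∀ p, g p = (c p.1, c p.2)

/-- every element of the closure of the `SL_2`-generators is induced by an element of `Gam` -/
theorem h94_lift [FiniteDimensional F V] (hG : PairGeo f ℓ ℓ' N N')
    (hsq : ∀ v, N (N v) = 0) (hsq' : ∀ v, N' (N' v) = 0)
    (T : ↥(ℓ'.map N) ≃ₗ[F] ↥(ℓ'.map N)) (hT : ∀ u, T u = h94_T hG u)
    (g : (↥(ℓ'.map N) × ↥(ℓ'.map N)) ≃ₗ[F] (↥(ℓ'.map N) × ↥(ℓ'.map N)))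
    (hg : g ∈ Subgroup.closure {g : (↥(ℓ'.map N) × ↥(ℓ'.map N)) ≃ₗ[F]
        (↥(ℓ'.map N) × ↥(ℓ'.map N)) | ∃ s : F,
        ((∀ p, g p = (p.1 + s • T p.2, p.2)) ∨ (∀ p, g p = (p.1, p.2 + s • p.1)))}) :
    ∃ γ ∈ GamO N N', ∀ p, γ (h94_Psi N' (ℓ'.map N) p) = h94_Psi N' (ℓ'.map N) (g p) := by
  induction hg using Subgroup.closure_induction with
  | mem g hg =>
    obtain ⟨s, h | h⟩ := hg
    · refine ⟨h94_E N hsq s, Subgroup.subset_closure ⟨s, Or.inl (fun v => rfl)⟩, ?_⟩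
      intro p
      rw [h94_E_apply, h]
      simp only [h94_Psi, map_add, Submodule.coe_add, Submodule.coe_smul, hT, h94_T_coe]
      rw [hG.N_J _ p.1.2, zero_add]
      abel
    · refine ⟨h94_E N' hsq' s, Subgroup.subset_closure ⟨s, Or.inr (fun v => rfl)⟩, ?_⟩
      intro p
      rw [h94_E_apply, h]
      simp only [h94_Psi, map_add, Submodule.coe_add, Submodule.coe_smul, map_smul, hsq',
        add_zero]
      abel
  | one =>
    exact ⟨1, Subgroup.one_mem _, fun p => rfl⟩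
  | mul g₁ g₂ _ _ ih₁ ih₂ =>
    obtain ⟨γ₁, h₁, e₁⟩ := ih₁
    obtain ⟨γ₂, h₂, e₂⟩ := ih₂
    refine ⟨γ₁ * γ₂, Subgroup.mul_mem _ h₁ h₂, fun p => ?_⟩
    rw [LinearEquiv.mul_apply, e₂, e₁, LinearEquiv.mul_apply]
  | inv g _ ih =>
    obtain ⟨γ, h, e⟩ := ih
    refine ⟨γ⁻¹, Subgroup.inv_mem _ h, fun p => ?_⟩
    have h1 := e (g⁻¹ p)
    have h2 : g (g⁻¹ p) = p := by
      rw [← LinearEquiv.mul_apply, mul_inv_cancel]; rfl
    rw [h2] at h1
    rw [← h1, ← LinearEquiv.mul_apply, inv_mul_cancel]; rfl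

/-- ODDTR with `odd_alg` as a hypothesis and `N² = 0 = N'²` -/
theorem odd_transfer_of [FiniteDimensional F V]
    (hsq : ∀ v, N (N v) = 0) (hsq' : ∀ v, N' (N' v) = 0)
    (hG : PairGeo f ℓ ℓ' N N') (hOA : h94_OddAlg (ℓ'.map N)) :
    ∃ γ ∈ GamO N N', (∀ u ∈ ℓ'.map N, γ u ∈ ℓ'.map N) ∧
      ¬ ∃ s : F, ∀ w ∈ ℓ'.map N ⊔ ℓ.map N', γ w = w + s • N w := by
  set T : ↥(ℓ'.map N) ≃ₗ[F] ↥(ℓ'.map N) :=
    LinearEquiv.ofInjectiveEndo (h94_T hG) (h94_T_inj hG) with hTdef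
  have hT : ∀ u, T u = h94_T hG u := fun u => by
    rw [hTdef, LinearEquiv.coe_ofInjectiveEndo]
  obtain ⟨g, hg, hg1, c, hc⟩ := hOA T
  obtain ⟨γ, hγ, e⟩ := h94_lift hG hsq hsq' T hT g hg
  have hu : ∀ u : ↥(ℓ'.map N), γ (u : V) = ((c u : ↥(ℓ'.map N)) : V) := by
    intro u
    have h1 := e (u, 0)
    rw [hc] at h1
    simpa [h94_Psi] using h1
  refine ⟨γ, hγ, ?_, ?_⟩
  · intro u hu'
    rw [hu ⟨u, hu'⟩]
    exact (c ⟨u, hu'⟩).2
  · rintro ⟨s, hs⟩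
    apply hg1
    have hcid : ∀ u : ↥(ℓ'.map N), c u = u := by
      intro u
      apply Subtype.ext
      rw [← hu u, hs _ (Submodule.mem_sup_left u.2), hG.N_J _ u.2, smul_zero, add_zero]
    apply LinearEquiv.ext
    intro p
    rw [hc, hcid, hcid]
    rfl

/-- ODDTR with `N² = 0 = N'²` -/
theorem odd_transferO_sq [Finite F] [FiniteDimensional F V] (h2 : (2 : F) ≠ 0)
    (hsq : ∀ v, N (N v) = 0) (hsq' : ∀ v, N' (N' v) = 0)
    (hG : PairGeo f ℓ ℓ' N N') (hJ : ℓ'.map N ≠ ⊥) :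
    ∃ γ ∈ GamO N N', (∀ u ∈ ℓ'.map N, γ u ∈ ℓ'.map N) ∧
      ¬ ∃ s : F, ∀ w ∈ ℓ'.map N ⊔ ℓ.map N', γ w = w + s • N w := by
  have : Nontrivial ↥(ℓ'.map N) := Submodule.nontrivial_iff_ne_bot.mpr hJ
  exact odd_transfer_of hsq hsq' hG
    (fun T => Cfsg.Agent.Lib.Helper43_OT_ODDALG.odd_algO h2 T)

/-- ODDTR (L): transfer to the pair (the stub statement plus the two root operator hypotheses) -/
theorem odd_transferO [Finite F] [FiniteDimensional F V] (h2 : (2 : F) ≠ 0)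
    (hℓ : IsRootOpO f ℓ N) (hℓ' : IsRootOpO f ℓ' N')
    (hG : PairGeo f ℓ ℓ' N N') (hJ : ℓ'.map N ≠ ⊥) :
    ∃ γ ∈ GamO N N', (∀ u ∈ ℓ'.map N, γ u ∈ ℓ'.map N) ∧
      ¬ ∃ s : F, ∀ w ∈ ℓ'.map N ⊔ ℓ.map N', γ w = w + s • N w :=
  odd_transferO_sq h2 (h94_sq_of_rootOp hℓ) (h94_sq_of_rootOp hℓ') hG hJ

end Cfsg.Agent.Lib.Helper94_OT_ODDTR
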