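import Mathlib
import Cfsg.Agent.Lib.Helper38_OTDefs

/-!
# OTENS4 market `otens4_packages` (architect helper38), package OT-PGEOA (helper94)
`pairGeoO`: the structure of a maximal pair, part A (abstract linear algebra); orthogonal twin of
helper10's `Helper10_UT_PGEOA` (the root operators are skew-adjoint, which is never used).
`I = ℓ ⊓ ℓ'`, `J = N ℓ'`, `J' = N' ℓ`, `W = J ⊔ J'`.
-/

set_option autoImplicit false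
set_option linter.unusedSectionVars false
set_option linter.unusedVariables false

namespace Cfsg.Agent.Lib.Helper94_OT_PGEOA

open Module
open Cfsg.Agent.Lib.Helper94_Herm
open Cfsg.Agent.Lib.Helper37_UTPairDefs Cfsg.Agent.Lib.Helper38_OTDefs

variable {F : Type*} [Field F] {V : Type*} [AddCommGroup V] [Module F V]
variable {f : LinearMap.BilinForm F V} {ℓ ℓ' : Submodule F V} {N N' : V →ₗ[F] V}

theorem rootOp_mem (hℓ : IsRootOpO f ℓ N) (v : V) : N v ∈ ℓ := by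
  rw [← hℓ.range_eq]
  exact LinearMap.mem_range_self N v

theorem rootOp_eq_zero_iff (hℓ : IsRootOpO f ℓ N) (v : V) : N v = 0 ↔ v ∈ orthS f ℓ := by
  rw [← hℓ.ker_eq, LinearMap.mem_ker]

theorem rootOp_zero_of_mem (hℓ : IsRootOpO f ℓ N) {v : V} (hv : v ∈ ℓ) : N v = 0 :=
  (rootOp_eq_zero_iff hℓ v).mpr (hℓ.ti hv)

theorem map_le_of_rootOp (hℓ : IsRootOpO f ℓ N) (p : Submodule F V) : p.map N ≤ ℓ := by
  rintro _ ⟨v, -, rfl⟩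
  exact rootOp_mem hℓ v

/-- the first half: `ℓ' ⊓ ℓ^⊥ = I`, `J ⊓ I = 0`, `J ⊔ I = ℓ` -/
theorem half [FiniteDimensional F V] (hℓ : IsRootOpO f ℓ N)
    (hdim : finrank F ↥ℓ = finrank F ↥ℓ')
    (hm : finrank F ↥(ℓ' ⊓ (ℓ ⊓ ℓ').comap N) ≤ finrank F ↥(ℓ ⊓ ℓ')) :
    ℓ' ⊓ orthS f ℓ = ℓ ⊓ ℓ' ∧ ℓ'.map N ⊓ (ℓ ⊓ ℓ') = ⊥ ∧ ℓ'.map N ⊔ (ℓ ⊓ ℓ') = ℓ := by
  -- `K = I`
  have hIK : ℓ ⊓ ℓ' ≤ ℓ' ⊓ (ℓ ⊓ ℓ').comap N := by
    intro v hv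
    refine ⟨hv.2, ?_⟩
    show N v ∈ ℓ ⊓ ℓ'
    rw [rootOp_zero_of_mem hℓ hv.1]
    exact Submodule.zero_mem _
  have hK : ℓ ⊓ ℓ' = ℓ' ⊓ (ℓ ⊓ ℓ').comap N := Submodule.eq_of_le_of_finrank_le hIK hm
  have hA : ℓ' ⊓ orthS f ℓ = ℓ ⊓ ℓ' := by
    apply le_antisymm
    · rw [hK]
      intro v hv
      refine ⟨hv.1, ?_⟩
      show N v ∈ ℓ ⊓ ℓ'
      rw [(rootOp_eq_zero_iff hℓ v).mpr hv.2]
      exact Submodule.zero_mem _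
    · intro v hv
      exact ⟨hv.2, hℓ.ti hv.1⟩
  have hJI : ℓ'.map N ⊓ (ℓ ⊓ ℓ') = ⊥ := by
    rw [eq_bot_iff]
    rintro _ ⟨⟨u, hu, rfl⟩, hNu⟩
    have huK : u ∈ ℓ' ⊓ (ℓ ⊓ ℓ').comap N := ⟨hu, hNu⟩
    rw [← hK] at huK
    rw [Submodule.mem_bot]
    exact rootOp_zero_of_mem hℓ huK.1
  refine ⟨hA, hJI, ?_⟩
  -- dimension count
  have hle : ℓ'.map N ⊔ (ℓ ⊓ ℓ') ≤ ℓ := sup_le (map_le_of_rootOp hℓ ℓ') inf_le_left
  apply Submodule.eq_of_le_of_finrank_eq hle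
  have h1 := LinearMap.finrank_range_add_finrank_ker (N.domRestrict ℓ')
  rw [LinearMap.range_domRestrict, LinearMap.ker_domRestrict] at h1
  have h2 : finrank F ↥((LinearMap.ker N).comap ℓ'.subtype) = finrank F ↥(ℓ ⊓ ℓ') := by
    rw [← Submodule.finrank_map_subtype_eq ℓ' ((LinearMap.ker N).comap ℓ'.subtype),
      Submodule.map_comap_subtype, hℓ.ker_eq, hA]
  rw [h2] at h1
  have h3 := Submodule.finrank_sup_add_finrank_inf_eq (ℓ'.map N) (ℓ ⊓ ℓ')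
  rw [hJI, finrank_bot, add_zero] at h3
  rw [h3, h1, hdim]

/-- the second half, from the six basic facts -/
theorem second (hℓ : IsRootOpO f ℓ N) (hℓ' : IsRootOpO f ℓ' N')
    (hA : ℓ' ⊓ orthS f ℓ = ℓ ⊓ ℓ') (hA' : ℓ ⊓ orthS f ℓ' = ℓ ⊓ ℓ')
    (hJI : ℓ'.map N ⊓ (ℓ ⊓ ℓ') = ⊥) (hJ'I : ℓ.map N' ⊓ (ℓ ⊓ ℓ') = ⊥)
    (hJs : ℓ'.map N ⊔ (ℓ ⊓ ℓ') = ℓ) (hJ's : ℓ.map N' ⊔ (ℓ ⊓ ℓ') = ℓ') :
    (∀ v ∈ ℓ.map N', N v = 0 → v = 0) ∧ (ℓ.map N').map N = ℓ'.map N ∧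
      (∀ u ∈ ℓ'.map N, ∀ u' ∈ ℓ.map N', (∀ y ∈ ℓ'.map N, f (u + u') y = 0) → u' = 0) := by
  have hJ'ℓ' : ℓ.map N' ≤ ℓ' := map_le_of_rootOp hℓ' ℓ
  have hJℓ : ℓ'.map N ≤ ℓ := map_le_of_rootOp hℓ ℓ'
  refine ⟨?_, ?_, ?_⟩
  · intro v hv hNv
    have h1 : v ∈ ℓ' ⊓ orthS f ℓ := ⟨hJ'ℓ' hv, (rootOp_eq_zero_iff hℓ v).mp hNv⟩
    rw [hA] at h1
    have h2 : v ∈ ℓ.map N' ⊓ (ℓ ⊓ ℓ') := ⟨hv, h1⟩
    rw [hJ'I, Submodule.mem_bot] at h2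
    exact h2
  · conv_rhs => rw [← hJ's]
    rw [Submodule.map_sup]
    have : (ℓ ⊓ ℓ').map N = ⊥ := by
      rw [eq_bot_iff]
      rintro _ ⟨v, hv, rfl⟩
      rw [Submodule.mem_bot]
      exact rootOp_zero_of_mem hℓ hv.1
    rw [this, sup_bot_eq]
  · intro u hu u' hu' hperp
    -- `u' ⊥ J` and `u' ⊥ I`, so `u' ⊥ ℓ`
    have h1 : u' ∈ orthS f ℓ := by
      intro z hz
      rw [← hJs] at hz
      obtain ⟨y, hy, i, hi, rfl⟩ := Submodule.mem_sup.mp hz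
      have e1 : f u' y = 0 := by
        have := hperp y hy
        rw [map_add, LinearMap.add_apply, hℓ.ti (hJℓ hu) y (hJℓ hy), zero_add] at this
        exact this
      have e2 : f u' i = 0 := hℓ'.ti (hJ'ℓ' hu') i hi.2
      rw [map_add, e1, e2, add_zero]
    have h2 : u' ∈ ℓ' ⊓ orthS f ℓ := ⟨hJ'ℓ' hu', h1⟩
    rw [hA] at h2
    have h3 : u' ∈ ℓ.map N' ⊓ (ℓ ⊓ ℓ') := ⟨hu', h2⟩
    rw [hJ'I, Submodule.mem_bot] at h3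
    exact h3

/-! ## PGEOA (L): the structure of a maximal pair, part A -/

theorem pairGeoO [FiniteDimensional F V] (hf : ∀ u v, f u v = 0 → f v u = 0) (hfN : NondegOn f ⊤)
    (hℓ : IsRootOpO f ℓ N) (hℓ' : IsRootOpO f ℓ' N')
    (hdim : finrank F ↥ℓ = finrank F ↥ℓ')
    (hm : finrank F ↥(ℓ' ⊓ (ℓ ⊓ ℓ').comap N) ≤ finrank F ↥(ℓ ⊓ ℓ'))
    (hm' : finrank F ↥(ℓ ⊓ (ℓ ⊓ ℓ').comap N') ≤ finrank F ↥(ℓ ⊓ ℓ')) :
    PairGeo f ℓ ℓ' N N' := by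
  obtain ⟨hA, hJI, hJs⟩ := half hℓ hdim hm
  have hm'' : finrank F ↥(ℓ ⊓ (ℓ' ⊓ ℓ).comap N') ≤ finrank F ↥(ℓ' ⊓ ℓ) := by
    rw [inf_comm ℓ' ℓ]
    exact hm'
  obtain ⟨hA', hJ'I, hJ's⟩ := half hℓ' hdim.symm hm''
  rw [inf_comm ℓ' ℓ] at hA' hJ'I hJ's
  obtain ⟨hNinj, hNJ', hnd⟩ := second hℓ hℓ' hA hA' hJI hJ'I hJs hJ's
  have hA'c : ℓ ⊓ orthS f ℓ' = ℓ' ⊓ ℓ := by rw [hA', inf_comm]
  have hAc : ℓ' ⊓ orthS f ℓ = ℓ' ⊓ ℓ := by rw [hA, inf_comm]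
  have hJIc : ℓ'.map N ⊓ (ℓ' ⊓ ℓ) = ⊥ := by rw [inf_comm ℓ' ℓ]; exact hJI
  have hJ'Ic : ℓ.map N' ⊓ (ℓ' ⊓ ℓ) = ⊥ := by rw [inf_comm ℓ' ℓ]; exact hJ'I
  have hJsc : ℓ'.map N ⊔ (ℓ' ⊓ ℓ) = ℓ := by rw [inf_comm ℓ' ℓ]; exact hJs
  have hJ'sc : ℓ.map N' ⊔ (ℓ' ⊓ ℓ) = ℓ' := by rw [inf_comm ℓ' ℓ]; exact hJ's
  obtain ⟨hN'inj, hN'J, hnd'⟩ := second hℓ' hℓ hA'c hAc hJ'Ic hJIc hJ'sc hJsc
  have hJℓ : ℓ'.map N ≤ ℓ := map_le_of_rootOp hℓ ℓ'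
  have hJ'ℓ' : ℓ.map N' ≤ ℓ' := map_le_of_rootOp hℓ' ℓ
  -- perpendicularity to `W` forces both components to vanish
  have key : ∀ u ∈ ℓ'.map N, ∀ u' ∈ ℓ.map N', (∀ y ∈ ℓ'.map N, f (u + u') y = 0) → u' = 0 := hnd
  have key' : ∀ u ∈ ℓ'.map N, ∀ u' ∈ ℓ.map N', (∀ y ∈ ℓ.map N', f (u + u') y = 0) → u = 0 := by
    intro u hu u' hu' hperp
    apply hnd' u' hu' u hu
    intro y hy
    rw [add_comm]
    exact hperp y hy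
  refine
    { meet_orth := hA
      meet_orth' := hA'
      J_disj := hJI
      J_sup := hJs
      J'_disj := hJ'I
      J'_sup := hJ's
      JJ_disj := ?_
      N_inj := hNinj
      N'_inj := hN'inj
      N_J' := hNJ'
      N'_J := hN'J
      N_J := fun v hv => rootOp_zero_of_mem hℓ (hJℓ hv)
      N'_J' := fun v hv => rootOp_zero_of_mem hℓ' (hJ'ℓ' hv)
      N_I := fun v hv => rootOp_zero_of_mem hℓ hv.1
      N'_I := fun v hv => rootOp_zero_of_mem hℓ' hv.2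
      nondegW := ?_
      J_orth := ?_
      J'_orth := ?_ }
  · rw [eq_bot_iff]
    intro v hv
    have : v ∈ ℓ'.map N ⊓ (ℓ ⊓ ℓ') := ⟨hv.1, hJℓ hv.1, hJ'ℓ' hv.2⟩
    rw [hJI] at this
    exact this
  · intro w hw hw0
    by_contra hcon
    push Not at hcon
    obtain ⟨u, hu, u', hu', rfl⟩ := Submodule.mem_sup.mp hw
    have h1 : u' = 0 := key u hu u' hu' (fun y hy => hcon y (Submodule.mem_sup_left hy))
    have h2 : u = 0 := key' u hu u' hu' (fun y hy => hcon y (Submodule.mem_sup_right hy))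
    apply hw0
    rw [h1, h2, add_zero]
  · apply le_antisymm
    · rintro w ⟨hw1, hw2⟩
      obtain ⟨u, hu, u', hu', rfl⟩ := Submodule.mem_sup.mp hw2
      have h1 : u' = 0 := key u hu u' hu' (fun y hy => hw1 y hy)
      rw [h1, add_zero]
      exact hu
    · intro w hw
      refine ⟨?_, Submodule.mem_sup_left hw⟩
      intro y hy
      exact hℓ.ti (hJℓ hw) y (hJℓ hy)
  · apply le_antisymm
    · rintro w ⟨hw1, hw2⟩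
      obtain ⟨u, hu, u', hu', rfl⟩ := Submodule.mem_sup.mp hw2
      have h1 : u = 0 := key' u hu u' hu' (fun y hy => hw1 y hy)
      rw [h1, zero_add]
      exact hu'
    · intro w hw
      refine ⟨?_, Submodule.mem_sup_right hw⟩
      intro y hy
      exact hℓ'.ti (hJ'ℓ' hw) y (hJ'ℓ' hy)

end Cfsg.Agent.Lib.Helper94_OT_PGEOA
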