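import Mathlib
import Cfsg.Agent.Lib.Helper97_OX3Defs
import Cfsg.Agent.Lib.Helper94_OrthVec
import Cfsg.Agent.Lib.Helper3_OX3_NMAP3
import Cfsg.Agent.Lib.Helper34_OX3_LINE6

set_option autoImplicit false
set_option linter.unusedSectionVars false
set_option linter.unusedVariables false

/-!
OEXT3 market (helper97), package **D2a**: for a totally singular `F`-6-space `t` meeting the
totally singular `K`-line `L = K u + K w` in dimension two there is `κ ≠ 0` such that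
`N_κ (t) ⊇ t ∩ L`.  (helper94)
-/

namespace Cfsg.Agent.Lib.Helper94_OX3_D2a

open Module Cfsg.Agent.Lib.Helper94_OrthSmall Cfsg.Agent.Lib.Helper94_OrthSiegel
  Cfsg.Agent.Lib.Helper98_ExtDefs Cfsg.Agent.Lib.Helper97_OX2Defs
  Cfsg.Agent.Lib.Helper97_OX3Defs
open scoped commutatorElement

variable {F K V : Type*} [Field F] [Field K] [Algebra F K] [AddCommGroup V] [Module F V]
  [Module K V] [IsScalarTower F K V]
variable {τ : K →ₗ[F] F} {QK : V → K} {BK : LinearMap.BilinForm K V}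
variable [Finite F] [Finite K] [Module.Finite F V] [Module.Finite K V]

/-- a nonzero `l` with `τ (l * δ) = 0` -/
theorem exists_tau_mul_eq_zero (C : Ctx3 τ QK BK) (δ : K) : ∃ l : K, l ≠ 0 ∧ τ (l * δ) = 0 := by
  have := C.finiteDimensional
  obtain ⟨φ, hφ⟩ : ∃ φ : K →ₗ[F] F, ∀ k, φ k = τ (k * δ) :=
    ⟨τ ∘ₗ (LinearMap.mulRight F δ), fun k => by simp⟩
  have hker : LinearMap.ker φ ≠ ⊥ :=
    LinearMap.ker_ne_bot_of_finrank_lt (by rw [Module.finrank_self, C.hdim]; norm_num)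
  obtain ⟨l, hl, hl0⟩ := (Submodule.ne_bot_iff _).mp hker
  exact ⟨l, hl0, by rw [← hφ]; exact hl⟩

/-- D2a -/
theorem exists_kappa_cover (C : Ctx3 τ QK BK) (t : Submodule F V) (ht6 : finrank F t = 6)
    (hts : ∀ x ∈ t, trQ τ QK x = 0)
    (hperp : ∀ x : V, (∀ z ∈ t, trB τ BK x z = 0) → x ∈ t) {u w : V} (h : TSPair QK BK u w)
    (hd : finrank F ↥(t ⊓ kln F (K := K) u w) = 2) :
    ∃ κ : K, κ ≠ 0 ∧ ∀ d ∈ t ⊓ kln F (K := K) u w, ∃ x ∈ t, nmap F BK κ u w x = d := by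
  obtain ⟨hpp, hsurj⟩ := Cfsg.Agent.Lib.Helper3_OX3_NMAP3.pair_perp C h
  have hNL : ∀ κ : K, ∀ x ∈ kln F (K := K) u w, nmap F BK κ u w x = 0 := fun κ =>
    (Cfsg.Agent.Lib.Helper3_OX3_NMAP3.nmap_props3 C h κ).2.2.1
  have hL6 : finrank F ↥(kln F (K := K) u w) = 6 :=
    Cfsg.Agent.Lib.Helper34_OX3_LINE6.finrank_kln C h.2.2.2
  obtain ⟨hu, hw, huw, hind⟩ := h
  have huu : BK u u = 0 := by rw [C.BK_self, hu, mul_zero]
  have hww : BK w w = 0 := by rw [C.BK_self, hw, mul_zero]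
  have hwu : BK w u = 0 := by rw [C.BK_symm, huw]
  -- `L` is totally isotropic for `BK`
  have hLiso : ∀ x ∈ kln F (K := K) u w, ∀ y ∈ kln F (K := K) u w, BK x y = 0 := by
    intro x hx y hy
    obtain ⟨a, b, rfl⟩ := mem_kln.mp hx
    obtain ⟨a', b', rfl⟩ := mem_kln.mp hy
    simp only [map_add, map_smul, LinearMap.add_apply, LinearMap.smul_apply, huu, hww, huw, hwu,
      smul_zero, add_zero]
  -- `t` is totally isotropic for `trB`
  have htiso : ∀ x ∈ t, ∀ y ∈ t, trB τ BK x y = 0 := by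
    intro x hx y hy
    have h1 := C.trQ_add x y
    rw [hts x hx, hts y hy, hts _ (t.add_mem hx hy)] at h1
    simpa using h1.symm
  -- a basis of `D = t ∩ L`
  obtain ⟨D, hD⟩ : ∃ D : Submodule F V, D = t ⊓ kln F (K := K) u w := ⟨_, rfl⟩
  rw [← hD] at hd ⊢
  have hDt : D ≤ t := by rw [hD]; exact inf_le_left
  have hDL : D ≤ kln F (K := K) u w := by rw [hD]; exact inf_le_right
  obtain ⟨bD⟩ : Nonempty (Basis (Fin 2) F D) := ⟨Module.finBasisOfFinrankEq F D hd⟩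
  obtain ⟨d₁, hd₁⟩ : ∃ d₁ : V, d₁ = (bD 0 : V) := ⟨_, rfl⟩
  obtain ⟨d₂, hd₂⟩ : ∃ d₂ : V, d₂ = (bD 1 : V) := ⟨_, rfl⟩
  have hd₁D : d₁ ∈ D := by rw [hd₁]; exact (bD 0).2
  have hd₂D : d₂ ∈ D := by rw [hd₂]; exact (bD 1).2
  have hspan : ∀ d ∈ D, ∃ c₁ c₂ : F, d = c₁ • d₁ + c₂ • d₂ := by
    intro d hdD
    refine ⟨bD.repr ⟨d, hdD⟩ 0, bD.repr ⟨d, hdD⟩ 1, ?_⟩
    have h1 := bD.sum_repr ⟨d, hdD⟩
    rw [Fin.sum_univ_two] at h1
    have h2 := congrArg Subtype.val h1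
    rw [hd₁, hd₂]
    simpa using h2.symm
  obtain ⟨a₁, b₁, e₁⟩ := mem_kln.mp (hDL hd₁D)
  obtain ⟨a₂, b₂, e₂⟩ := mem_kln.mp (hDL hd₂D)
  -- the choice of `κ`
  obtain ⟨l, hl0, hl⟩ := exists_tau_mul_eq_zero C (a₁ * b₂ - a₂ * b₁)
  refine ⟨l⁻¹, inv_ne_zero hl0, ?_⟩
  -- the preimages in `V`
  obtain ⟨y₁, hy₁u, hy₁w⟩ := hsurj (l * b₁) (-(l * a₁))
  obtain ⟨y₂, hy₂u, hy₂w⟩ := hsurj (l * b₂) (-(l * a₂))
  have hNy₁ : nmap F BK l⁻¹ u w y₁ = d₁ := by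
    rw [nmap_apply, hy₁u, hy₁w, e₁, smul_sub, smul_smul, smul_smul, ← mul_assoc,
      inv_mul_cancel₀ hl0, one_mul, mul_neg, ← mul_assoc, inv_mul_cancel₀ hl0, one_mul, neg_smul,
      sub_neg_eq_add, add_comm]
  have hNy₂ : nmap F BK l⁻¹ u w y₂ = d₂ := by
    rw [nmap_apply, hy₂u, hy₂w, e₂, smul_sub, smul_smul, smul_smul, ← mul_assoc,
      inv_mul_cancel₀ hl0, one_mul, mul_neg, ← mul_assoc, inv_mul_cancel₀ hl0, one_mul, neg_smul,
      sub_neg_eq_add, add_comm]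
  -- `y₁, y₂ ⊥ D`
  have hB11 : trB τ BK d₁ y₁ = 0 := by
    rw [trB_apply, C.BK_symm, e₁, map_add, map_smul, map_smul, hy₁u, hy₁w]
    have : a₁ • (l * b₁) + b₁ • -(l * a₁) = 0 := by simp only [smul_eq_mul]; ring
    rw [this, map_zero]
  have hB22 : trB τ BK d₂ y₂ = 0 := by
    rw [trB_apply, C.BK_symm, e₂, map_add, map_smul, map_smul, hy₂u, hy₂w]
    have : a₂ • (l * b₂) + b₂ • -(l * a₂) = 0 := by simp only [smul_eq_mul]; ring
    rw [this, map_zero]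
  have hB21 : trB τ BK d₂ y₁ = 0 := by
    rw [trB_apply, C.BK_symm, e₂, map_add, map_smul, map_smul, hy₁u, hy₁w]
    have : a₂ • (l * b₁) + b₂ • -(l * a₁) = -(l * (a₁ * b₂ - a₂ * b₁)) := by
      simp only [smul_eq_mul]; ring
    rw [this, map_neg, hl, neg_zero]
  have hB12 : trB τ BK d₁ y₂ = 0 := by
    rw [trB_apply, C.BK_symm, e₁, map_add, map_smul, map_smul, hy₂u, hy₂w]
    have : a₁ • (l * b₂) + b₁ • -(l * a₂) = l * (a₁ * b₂ - a₂ * b₁) := by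
      simp only [smul_eq_mul]; ring
    rw [this, hl]
  -- `D^⊥ = t + L`
  have hNd := C.trB_nondeg
  have hsup : (trB τ BK).orthogonal D = t ⊔ kln F (K := K) u w := by
    symm
    apply Submodule.eq_of_le_of_finrank_eq
    · apply sup_le
      · intro x hx
        rw [LinearMap.BilinForm.mem_orthogonal_iff]
        intro n hn
        exact htiso n (hDt hn) x hx
      · intro x hx
        rw [LinearMap.BilinForm.mem_orthogonal_iff]
        intro n hn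
        exact trB_eq_zero (hLiso n (hDL hn) x hx)
    · have h1 := Submodule.finrank_sup_add_finrank_inf_eq t (kln F (K := K) u w)
      rw [← hD, hd, ht6, hL6] at h1
      rw [LinearMap.BilinForm.finrank_orthogonal hNd, C.finrank_FV, hd]
      omega
  have hmem : ∀ y : V, trB τ BK d₁ y = 0 → trB τ BK d₂ y = 0 →
      ∃ x ∈ t, nmap F BK l⁻¹ u w x = nmap F BK l⁻¹ u w y := by
    intro y h1 h2
    have hy : y ∈ (trB τ BK).orthogonal D := by
      rw [LinearMap.BilinForm.mem_orthogonal_iff]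
      intro n hn
      obtain ⟨c₁, c₂, rfl⟩ := hspan n hn
      change trB τ BK (c₁ • d₁ + c₂ • d₂) y = 0
      rw [map_add, map_smul, map_smul, LinearMap.add_apply, LinearMap.smul_apply,
        LinearMap.smul_apply, h1, h2, smul_zero, smul_zero, add_zero]
    rw [hsup, Submodule.mem_sup] at hy
    obtain ⟨x, hx, z, hz, rfl⟩ := hy
    exact ⟨x, hx, by rw [map_add, hNL _ z hz, add_zero]⟩
  obtain ⟨x₁, hx₁, hx₁N⟩ := hmem y₁ hB11 hB21
  obtain ⟨x₂, hx₂, hx₂N⟩ := hmem y₂ hB12 hB22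
  intro d hdD
  obtain ⟨c₁, c₂, rfl⟩ := hspan d hdD
  refine ⟨c₁ • x₁ + c₂ • x₂, t.add_mem (t.smul_mem _ hx₁) (t.smul_mem _ hx₂), ?_⟩
  rw [map_add, map_smul, map_smul, hx₁N, hx₂N, hNy₁, hNy₂]

end Cfsg.Agent.Lib.Helper94_OX3_D2a
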