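import Mathlib
import Cfsg.Agent.Lib.Helper97_OX3Defs
import Cfsg.Agent.Lib.Helper94_OrthVec
import Cfsg.Agent.Lib.Helper94_OX3_LINEALLaux
import Cfsg.Agent.Lib.Helper80_OX3_CROSS

set_option autoImplicit false
set_option linter.unusedSectionVars false
set_option linter.unusedVariables false

/-!
OEXT3 market (helper97), package **LINEALL**, verbatim.  (helper94)
-/

namespace Cfsg.Agent.Lib.Helper94_OX3_LINEALL

open Module Cfsg.Agent.Lib.Helper94_OrthSmall Cfsg.Agent.Lib.Helper94_OrthSiegel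
  Cfsg.Agent.Lib.Helper98_ExtDefs Cfsg.Agent.Lib.Helper97_OX2Defs
  Cfsg.Agent.Lib.Helper97_OX3Defs
open scoped commutatorElement

variable {F K V : Type*} [Field F] [Field K] [Algebra F K] [AddCommGroup V] [Module F V]
  [Module K V] [IsScalarTower F K V]
variable {τ : K →ₗ[F] F} {QK : V → K} {BK : LinearMap.BilinForm K V}
variable [Finite F] [Finite K] [Module.Finite F V] [Module.Finite K V]

/-- LINEALL -/
theorem line_all3 (C : Ctx3 τ QK BK) (M : Subgroup (V ≃ₗ[F] V)) (hM : HypO3 τ QK BK M)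
    (hroot : ∀ v : V, QK v = 0 → Root τ QK BK M v) {x y : V} (h : TSPair QK BK x y) :
    ∀ z ∈ kln F (K := K) x y, ∀ z' ∈ kln F (K := K) x y,
      sieg (trQ τ QK) (trB τ BK) z z' ∈ M :=
  Cfsg.Agent.Lib.Helper94_OX3_LINEALLaux.line_all3_of C M hroot
    (fun x y hxy κ => Cfsg.Agent.Lib.Helper80_OX3_CROSS.cross_mem C M hM hroot hxy κ) h

end Cfsg.Agent.Lib.Helper94_OX3_LINEALL
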