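import Mathlib
import Cfsg.Agent.Lib.Helper97_OX3Defs
import Cfsg.Agent.Lib.Helper94_OrthVec
import Cfsg.Agent.Lib.Helper44_OX3_G4_THRU
import Cfsg.Agent.Lib.Helper21_OX3_G4_PAIR

set_option autoImplicit false
set_option linter.unusedSectionVars false
set_option linter.unusedVariables false

/-!
OEXT3 market (helper97), package **PERPALL** in `_of` form (the statement of G4_DECOMP is a
hypothesis): `sieg Q B a f ∈ M` for singular `a` and `f ∈ a^{⊥_K}`.  (helper94)
-/

namespace Cfsg.Agent.Lib.Helper94_OX3_PERPALLaux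

open Module Cfsg.Agent.Lib.Helper94_OrthSmall Cfsg.Agent.Lib.Helper94_OrthSiegel
  Cfsg.Agent.Lib.Helper98_ExtDefs Cfsg.Agent.Lib.Helper97_OX2Defs
  Cfsg.Agent.Lib.Helper97_OX3Defs
open scoped commutatorElement

variable {F K V : Type*} [Field F] [Field K] [Algebra F K] [AddCommGroup V] [Module F V]
  [Module K V] [IsScalarTower F K V]
variable {τ : K →ₗ[F] F} {QK : V → K} {BK : LinearMap.BilinForm K V}
variable [Finite F] [Finite K] [Module.Finite F V] [Module.Finite K V]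

/-- PERPALL, with the statement of G4_DECOMP as a hypothesis -/
theorem perp_all3_of (C : Ctx3 τ QK BK) (hs : Split3 QK BK)
    (M : Subgroup (V ≃ₗ[F] V))
    (hdecomp : ∀ {p p' a b : V}, Frame QK BK p p' a b → ∀ v : V,
      v = BK v p' • p + BK v p • p' + BK v b • a + BK v a • b)
    (hline : ∀ x y : V, TSPair QK BK x y → ∀ z ∈ kln F (K := K) x y,
      ∀ z' ∈ kln F (K := K) x y, sieg (trQ τ QK) (trB τ BK) z z' ∈ M)
    {a f : V} (ha : QK a = 0) (hf : BK a f = 0) : sieg (trQ τ QK) (trB τ BK) a f ∈ M := by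
  have hQs := C.trQ_smul
  have hQp := C.trQ_add
  by_cases ha0 : a = 0
  · rw [ha0, sieg_zero_left _ _ hQs hQp]
    exact M.one_mem
  obtain ⟨c, hac⟩ :=
    Cfsg.Agent.Lib.Helper44_OX3_G4_THRU.exists_pair_through QK BK C.hQs C.hQp C.hN hs ha0 ha
  obtain ⟨a', c', fr⟩ :=
    Cfsg.Agent.Lib.Helper21_OX3_G4_PAIR.frame_of_pair QK BK C.hQs C.hQp C.hN hac
  have hfa : BK f a = 0 := by rw [C.BK_symm, hf]
  have hdec := hdecomp fr f
  rw [hfa, zero_smul, add_zero] at hdec
  -- the second totally singular pair `a, c'`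
  have hc'c : BK c' c = 1 := by rw [C.BK_symm, fr.hab]
  have hac' : TSPair QK BK a c' := by
    refine ⟨fr.hp, fr.hb, fr.hpb, ?_⟩
    intro s t hst
    have h1 : BK (s • a + t • c') c = 0 := by rw [hst, map_zero, LinearMap.zero_apply]
    rw [map_add, LinearMap.add_apply, map_smul, map_smul, LinearMap.smul_apply,
      LinearMap.smul_apply, fr.hpa, hc'c, smul_zero, zero_add, smul_eq_mul, mul_one] at h1
    have h2 : BK (s • a + t • c') a' = 0 := by rw [hst, map_zero, LinearMap.zero_apply]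
    rw [h1, zero_smul, add_zero, map_smul, LinearMap.smul_apply, fr.hpp', smul_eq_mul,
      mul_one] at h2
    exact ⟨h2, h1⟩
  -- memberships
  have mem_a : a ∈ kln F (K := K) a c := mem_kln.mpr ⟨1, 0, by rw [one_smul, zero_smul, add_zero]⟩
  have mem_a' : a ∈ kln F (K := K) a c' :=
    mem_kln.mpr ⟨1, 0, by rw [one_smul, zero_smul, add_zero]⟩
  have m1 : sieg (trQ τ QK) (trB τ BK) a (BK f a' • a) ∈ M :=
    hline a c hac a mem_a _ (mem_kln.mpr ⟨BK f a', 0, by rw [zero_smul, add_zero]⟩)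
  have m2 : sieg (trQ τ QK) (trB τ BK) a (BK f c' • c) ∈ M :=
    hline a c hac a mem_a _ (mem_kln.mpr ⟨0, BK f c', by rw [zero_smul, zero_add]⟩)
  have m3 : sieg (trQ τ QK) (trB τ BK) a (BK f c • c') ∈ M :=
    hline a c' hac' a mem_a' _ (mem_kln.mpr ⟨0, BK f c, by rw [zero_smul, zero_add]⟩)
  have qa : trQ τ QK a = 0 := trQ_eq_zero ha
  have haa : BK a a = 0 := by rw [C.BK_self, ha, mul_zero]
  have b1 : trB τ BK a (BK f a' • a) = 0 := trB_eq_zero (by rw [map_smul, haa, smul_zero])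
  have b2 : trB τ BK a (BK f c' • c) = 0 := trB_eq_zero (by rw [map_smul, fr.hpa, smul_zero])
  have b3 : trB τ BK a (BK f c • c') = 0 := trB_eq_zero (by rw [map_smul, fr.hpb, smul_zero])
  have b12 : trB τ BK a (BK f a' • a + BK f c' • c) = 0 := by rw [map_add, b1, b2, add_zero]
  rw [hdec, ← sieg_mul _ _ hQs hQp qa b12 b3, ← sieg_mul _ _ hQs hQp qa b1 b2]
  exact M.mul_mem (M.mul_mem m1 m2) m3

end Cfsg.Agent.Lib.Helper94_OX3_PERPALLaux
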