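import Mathlib
import Cfsg.Agent.Lib.Helper97_OX3Defs
import Cfsg.Agent.Lib.Helper94_OrthVec

set_option autoImplicit false
set_option linter.unusedSectionVars false
set_option linter.unusedVariables false

/-!
# OEXT3 package G4_DECOMP (architect helper97): coordinates with respect to a frame of a
four-dimensional nondegenerate quadratic space.
-/

namespace Cfsg.Agent.Lib.Helper99_OX3_G4_DECOMP

open Module Cfsg.Agent.Lib.Helper94_OrthSmall Cfsg.Agent.Lib.Helper94_OrthSiegel
  Cfsg.Agent.Lib.Helper98_ExtDefs Cfsg.Agent.Lib.Helper97_OX2Defs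
  Cfsg.Agent.Lib.Helper97_OX3Defs
open scoped commutatorElement

section GEO

variable {K V : Type*} [Field K] [AddCommGroup V] [Module K V]
  (Q : V → K) (B : LinearMap.BilinForm K V)
  (hQs : ∀ (c : K) (v : V), Q (c • v) = c * c * Q v)
  (hQp : ∀ u v : V, Q (u + v) = Q u + Q v + B u v)

include hQs hQp

/-- the polar form is symmetric -/
theorem B_symm (u v : V) : B u v = B v u := by
  have h1 := hQp u v
  have h2 := hQp v u
  rw [add_comm v u] at h2
  have : Q u + Q v + B u v = Q v + Q u + B v u := by rw [← h1, ← h2]
  have h3 : B u v = (Q u + Q v + B u v) - (Q u + Q v) := by ring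
  rw [h3, this]; ring

/-- `B v v = 0` for singular `v` -/
theorem B_self_of_sing {v : V} (hv : Q v = 0) : B v v = 0 := by
  have h1 := hQp v v
  have h2 := hQs 2 v
  rw [two_smul] at h2
  rw [h2, hv] at h1
  simpa using h1.symm

/-- the four vectors of a frame are linearly independent -/
theorem frame_li {p p' a b : V} (fr : Frame Q B p p' a b) :
    LinearIndependent K ![p, p', a, b] := by
  have hsym := B_symm Q B hQs hQp
  have hpp := B_self_of_sing Q B hQs hQp fr.hp
  have hp'p' := B_self_of_sing Q B hQs hQp fr.hp'
  have haa := B_self_of_sing Q B hQs hQp fr.ha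
  have hbb := B_self_of_sing Q B hQs hQp fr.hb
  rw [Fintype.linearIndependent_iff]
  intro g hg
  simp only [Fin.sum_univ_four, Matrix.cons_val_zero, Matrix.cons_val_one] at hg
  have e2 : (![p, p', a, b] : Fin 4 → V) 2 = a := rfl
  have e3 : (![p, p', a, b] : Fin 4 → V) 3 = b := rfl
  rw [e2, e3] at hg
  have key : ∀ x : V, g 0 * B p x + g 1 * B p' x + g 2 * B a x + g 3 * B b x = 0 := by
    intro x
    have := congrArg (fun y => B y x) hg
    simpa [LinearMap.add_apply, LinearMap.smul_apply, smul_eq_mul] using this
  have k0 := key p'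
  have k1 := key p
  have k2 := key b
  have k3 := key a
  rw [fr.hpp', hp'p', hsym a p', fr.hp'a, hsym b p', fr.hp'b] at k0
  rw [hpp, hsym p' p, fr.hpp', hsym a p, fr.hpa, hsym b p, fr.hpb] at k1
  rw [fr.hpb, fr.hp'b, fr.hab, hbb] at k2
  rw [fr.hpa, fr.hp'a, haa, hsym b a, fr.hab] at k3
  intro i
  fin_cases i
  · simpa using k0
  · simpa using k1
  · simpa using k2
  · simpa using k3

/-- G4_DECOMP: coordinates with respect to a frame of a four-dimensional space -/
theorem frame_decomp [FiniteDimensional K V] (hN : B.Nondegenerate) (hm : finrank K V = 4)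
    {p p' a b : V} (fr : Frame Q B p p' a b) (v : V) :
    v = B v p' • p + B v p • p' + B v b • a + B v a • b := by
  have hsym := B_symm Q B hQs hQp
  have hpp := B_self_of_sing Q B hQs hQp fr.hp
  have hp'p' := B_self_of_sing Q B hQs hQp fr.hp'
  have haa := B_self_of_sing Q B hQs hQp fr.ha
  have hbb := B_self_of_sing Q B hQs hQp fr.hb
  have hli := frame_li Q B hQs hQp fr
  have hspan : Submodule.span K (Set.range ![p, p', a, b]) = ⊤ := by
    apply hli.span_eq_top_of_card_eq_finrank'
    simp [hm]
  set w : V := v - (B v p' • p + B v p • p' + B v b • a + B v a • b) with hw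
  have hw0 : w = 0 := by
    apply hN.1
    intro x
    have hx : x ∈ Submodule.span K (Set.range ![p, p', a, b]) := by rw [hspan]; trivial
    induction hx using Submodule.span_induction with
    | mem y hy =>
      obtain ⟨i, rfl⟩ := hy
      fin_cases i
      · show B w p = 0
        simp only [hw, map_sub, map_add, map_smul, LinearMap.sub_apply, LinearMap.add_apply,
          LinearMap.smul_apply, smul_eq_mul]
        rw [hpp, hsym p' p, fr.hpp', hsym a p, fr.hpa, hsym b p, fr.hpb]; ring
      · show B w p' = 0
        simp only [hw, map_sub, map_add, map_smul, LinearMap.sub_apply, LinearMap.add_apply,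
          LinearMap.smul_apply, smul_eq_mul]
        rw [fr.hpp', hp'p', hsym a p', fr.hp'a, hsym b p', fr.hp'b]; ring
      · show B w a = 0
        simp only [hw, map_sub, map_add, map_smul, LinearMap.sub_apply, LinearMap.add_apply,
          LinearMap.smul_apply, smul_eq_mul]
        rw [fr.hpa, fr.hp'a, haa, hsym b a, fr.hab]; ring
      · show B w b = 0
        simp only [hw, map_sub, map_add, map_smul, LinearMap.sub_apply, LinearMap.add_apply,
          LinearMap.smul_apply, smul_eq_mul]
        rw [fr.hpb, fr.hp'b, fr.hab, hbb]; ring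
    | zero => simp
    | add y z _ _ hy hz => rw [map_add, hy, hz, add_zero]
    | smul c y _ hy => rw [map_smul, hy, smul_zero]
  have : v - (B v p' • p + B v p • p' + B v b • a + B v a • b) = 0 := hw0
  exact sub_eq_zero.mp this

end GEO

end Cfsg.Agent.Lib.Helper99_OX3_G4_DECOMP
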