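import Mathlib
import Cfsg.Agent.Lib.Helper97_OX3Defs
import Cfsg.Agent.Lib.Helper94_OrthVec
import Cfsg.Agent.Lib.Helper94_OX3_PERPALLaux
import Cfsg.Agent.Lib.Helper99_OX3_G4_DECOMP

set_option autoImplicit false
set_option linter.unusedSectionVars false
set_option linter.unusedVariables false

/-!
OEXT3 market (helper97), package **PERPALL**, verbatim.  (helper94)
-/

namespace Cfsg.Agent.Lib.Helper94_OX3_PERPALL

open Module Cfsg.Agent.Lib.Helper94_OrthSmall Cfsg.Agent.Lib.Helper94_OrthSiegel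
  Cfsg.Agent.Lib.Helper98_ExtDefs Cfsg.Agent.Lib.Helper97_OX2Defs
  Cfsg.Agent.Lib.Helper97_OX3Defs
open scoped commutatorElement

variable {F K V : Type*} [Field F] [Field K] [Algebra F K] [AddCommGroup V] [Module F V]
  [Module K V] [IsScalarTower F K V]
variable {τ : K →ₗ[F] F} {QK : V → K} {BK : LinearMap.BilinForm K V}
variable [Finite F] [Finite K] [Module.Finite F V] [Module.Finite K V]

/-- PERPALL -/
theorem perp_all3 (C : Ctx3 τ QK BK) (hs : Split3 QK BK)
    (M : Subgroup (V ≃ₗ[F] V)) (hM : HypO3 τ QK BK M)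
    (hline : ∀ x y : V, TSPair QK BK x y → ∀ z ∈ kln F (K := K) x y,
      ∀ z' ∈ kln F (K := K) x y, sieg (trQ τ QK) (trB τ BK) z z' ∈ M)
    {a f : V} (ha : QK a = 0) (hf : BK a f = 0) : sieg (trQ τ QK) (trB τ BK) a f ∈ M :=
  Cfsg.Agent.Lib.Helper94_OX3_PERPALLaux.perp_all3_of C hs M
    (fun fr v => Cfsg.Agent.Lib.Helper99_OX3_G4_DECOMP.frame_decomp QK BK C.hQs C.hQp C.hN C.hm
      fr v) hline ha hf

end Cfsg.Agent.Lib.Helper94_OX3_PERPALL
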