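import Mathlib
import Cfsg.Agent.Lib.Helper94_Symp
import Cfsg.Agent.Lib.Helper94_OrthSmall
import Cfsg.Agent.Lib.Helper94_OrthSiegel
import Cfsg.Agent.Lib.Helper94_OrthNondeg
import Cfsg.Agent.Lib.Helper94_OrthHyp

set_option autoImplicit false

/-!
Orthogonal decompositions into hyperbolic planes over the fields of order two and four, and into
four-dimensional blocks of plus type over the field of order two: their stabilisers in a group
containing the Siegel elements are not maximal (helper94).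
-/

namespace Cfsg.Agent.Lib.Helper94_OrthC2Small

open Module Cfsg.Agent.Lib.Helper94_Symp Cfsg.Agent.Lib.Helper94_OrthSmall
  Cfsg.Agent.Lib.Helper94_OrthSiegel Cfsg.Agent.Lib.Helper94_OrthNondeg
  Cfsg.Agent.Lib.Helper94_OrthHyp

variable {F V : Type*} [Field F] [AddCommGroup V] [Module F V]

section

variable [FiniteDimensional F V] {Q : V → F} {B : LinearMap.BilinForm F V}
  (hQs : ∀ (c : F) (v : V), Q (c • v) = c * c * Q v)
  (hQp : ∀ u v : V, Q (u + v) = Q u + Q v + B u v)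

omit [FiniteDimensional F V] in
/-- Block-permuting isometries preserve the set of block vectors with a given norm property. -/
lemma mem_iff_of_perm {t : ℕ} (D : Fin t → Submodule F V) (P : F → Prop) {g : V ≃ₗ[F] V}
    (hgO : g ∈ oG Q) (σ : Equiv.Perm (Fin t))
    (hσ : ∀ i, (D i).map (g : V →ₗ[F] V) = D (σ i)) (v : V) :
    (∃ i, v ∈ D i ∧ P (Q v)) ↔ (∃ i, g v ∈ D i ∧ P (Q (g v))) := by
  constructor
  · rintro ⟨i, hv, hQv⟩
    refine ⟨σ i, ?_, by rw [hgO]; exact hQv⟩
    rw [← hσ i]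
    exact ⟨v, hv, rfl⟩
  · rintro ⟨j, hv, hQv⟩
    refine ⟨σ.symm j, ?_, by rw [← hgO v]; exact hQv⟩
    have h3 := hσ (σ.symm j)
    rw [Equiv.apply_symm_apply] at h3
    rw [← h3] at hv
    obtain ⟨v', hv', e⟩ := hv
    have : v' = v := g.injective e
    rw [← this]
    exact hv'

include hQs hQp in
lemma Q_hyp2 {e f : V} (hQe : Q e = 0) (hQf : Q f = 0) (hef : B e f = 1) (x y : F) :
    Q (x • e + y • f) = x * y := by
  rw [hQp, hQs, hQs, hQe, hQf]
  simp only [map_smul, LinearMap.smul_apply, smul_eq_mul, hef]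
  ring

include hQs hQp in
/-- **Hyperbolic planes over the field of order two.** -/
theorem not_maximal_hyp2_two (hF2 : ∀ x : F, x = 0 ∨ x = 1) (G : Subgroup (V ≃ₗ[F] V))
    (hG1 : G ≤ oG Q) (hG2 : ∀ u z, Q u = 0 → B u z = 0 → sieg Q B u z ∈ G)
    {t : ℕ} (D : Fin t → Submodule F V)
    (horth : ∀ i j, i ≠ j → ∀ x ∈ D i, ∀ y ∈ D j, B x y = 0)
    (hnd : ∀ i, ∀ a ∈ D i, a ≠ 0 → ∃ x ∈ D i, B x a ≠ 0)
    (S : Subgroup (V ≃ₗ[F] V))
    (hS : ∀ g, g ∈ S ↔ ∃ σ : Equiv.Perm (Fin t), ∀ i, (D i).map (g : V →ₗ[F] V) = D (σ i))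
    (hk : ∀ i, finrank F (D i) = 2) (hplus : ∀ i, ∃ e ∈ D i, e ≠ 0 ∧ Q e = 0) (ht : 4 ≤ t) :
    ∃ K : Subgroup (V ≃ₗ[F] V), S ⊓ G < K ∧ K < G := by
  classical
  have hsymm := B_symm Q B hQp
  have h11 : (1 : F) + 1 = 0 := by
    rcases hF2 (1 + 1) with h | h
    · exact h
    · exfalso
      have : (1 : F) = 0 := by linear_combination h
      exact one_ne_zero this
  have h2 : (2 : F) = 0 := by linear_combination h11
  have hdisj : ∀ i j, i ≠ j → ∀ x, x ∈ D i → x ∈ D j → x = 0 := by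
    intro i j hij x hxi hxj
    by_contra hx0
    obtain ⟨y, hy, hyx⟩ := hnd i x hxi hx0
    exact hyx (horth i j hij y hy x hxj)
  choose e he he0 hQe using hplus
  have hb : ∀ i, ∃ f ∈ D i, Q f = 0 ∧ B (e i) f = 1 ∧
      ∀ v ∈ D i, v = B v f • e i + B v (e i) • f := fun i =>
    exists_hyp_basis2 hQs hQp (D i) (hnd i) (hk i) (he i) (he0 i) (hQe i)
  choose f hf hQf hef hspan using hb
  have hee : ∀ i, B (e i) (e i) = 0 := fun i => by rw [B_self Q B hQs hQp, hQe, mul_zero]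
  have hff : ∀ i, B (f i) (f i) = 0 := fun i => by rw [B_self Q B hQs hQp, hQf, mul_zero]
  have hfe : ∀ i, B (f i) (e i) = 1 := fun i => by rw [hsymm]; exact hef i
  have hdD : ∀ i, e i + f i ∈ D i := fun i => (D i).add_mem (he i) (hf i)
  have hQd : ∀ i, Q (e i + f i) = 1 := by
    intro i
    rw [hQp, hQe, hQf, hef]
    ring
  have hd0 : ∀ i, e i + f i ≠ 0 := by
    intro i h
    have := hQd i
    rw [h, Q_zero Q hQs] at this
    exact zero_ne_one this
  -- classification of the nonsingular vectors of a block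
  have hclass : ∀ i, ∀ v ∈ D i, Q v ≠ 0 → v = e i + f i := by
    intro i v hv hQv
    have h1 := hspan i v hv
    have h3 : Q v = B v (f i) * B v (e i) := by
      conv_lhs => rw [h1]
      exact Q_hyp2 hQs hQp (hQe i) (hQf i) (hef i) _ _
    rcases hF2 (B v (f i)) with hx | hx
    · exfalso
      apply hQv
      rw [h3, hx, zero_mul]
    · rcases hF2 (B v (e i)) with hy | hy
      · exfalso
        apply hQv
        rw [h3, hy, mul_zero]
      · rw [h1, hx, hy, one_smul, one_smul]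
  have hdd : ∀ i j, B (e i + f i) (e j + f j) = 0 := by
    intro i j
    by_cases hij : i = j
    · subst hij
      rw [B_self Q B hQs hQp, hQd, mul_one]
      exact h2
    · exact horth i j hij _ (hdD i) _ (hdD j)
  -- four indices
  let i1 : Fin t := ⟨0, by omega⟩
  let i2 : Fin t := ⟨1, by omega⟩
  let i3 : Fin t := ⟨2, by omega⟩
  let i4 : Fin t := ⟨3, by omega⟩
  have h12 : i1 ≠ i2 := by intro h; have := congrArg Fin.val h; simp [i1, i2] at this
  have h13 : i1 ≠ i3 := by intro h; have := congrArg Fin.val h; simp [i1, i3] at this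
  have h14 : i1 ≠ i4 := by intro h; have := congrArg Fin.val h; simp [i1, i4] at this
  have h34 : i3 ≠ i4 := by intro h; have := congrArg Fin.val h; simp [i3, i4] at this
  let X : Set V := {v | ∃ i, v ∈ D i ∧ Q v ≠ 0}
  have hXmem : ∀ v, v ∈ X ↔ ∃ i, v ∈ D i ∧ Q v ≠ 0 := fun v => Iff.rfl
  let K : Subgroup (V ≃ₗ[F] V) :=
    { carrier := {g | g ∈ G ∧ ∀ v, v ∈ X ↔ g v ∈ X}
      mul_mem' := by
        rintro a b ⟨haG, ha⟩ ⟨hbG, hb'⟩
        refine ⟨G.mul_mem haG hbG, fun v => ?_⟩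
        rw [hb' v, ha (b v)]
        rfl
      one_mem' := ⟨G.one_mem, fun v => Iff.rfl⟩
      inv_mem' := by
        rintro a ⟨haG, ha⟩
        refine ⟨G.inv_mem haG, fun v => ?_⟩
        have := ha (a⁻¹ v)
        rw [apply_inv_apply'] at this
        exact this.symm }
  have hKmem : ∀ g, g ∈ K ↔ g ∈ G ∧ ∀ v, v ∈ X ↔ g v ∈ X := fun g => Iff.rfl
  -- the Siegel element fixing all nonsingular block vectors
  have hQu : Q ((e i1 + f i1) + (e i2 + f i2)) = 0 := by
    rw [hQp, hQd, hQd, hdd]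
    linear_combination h11
  have hQz : Q ((e i3 + f i3) + (e i4 + f i4)) = 0 := by
    rw [hQp, hQd, hQd, hdd]
    linear_combination h11
  have hdu : ∀ i, B (e i + f i) ((e i1 + f i1) + (e i2 + f i2)) = 0 := by
    intro i
    rw [map_add, hdd, hdd, add_zero]
  have hdz : ∀ i, B (e i + f i) ((e i3 + f i3) + (e i4 + f i4)) = 0 := by
    intro i
    rw [map_add, hdd, hdd, add_zero]
  have huz : B ((e i1 + f i1) + (e i2 + f i2)) ((e i3 + f i3) + (e i4 + f i4)) = 0 := by
    have h5 := hdz i1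
    have h6 := hdz i2
    rw [LinearMap.map_add₂, h5, h6, add_zero]
  have hfixd : ∀ i, sieg Q B ((e i1 + f i1) + (e i2 + f i2)) ((e i3 + f i3) + (e i4 + f i4))
      (e i + f i) = e i + f i := by
    intro i
    rw [sieg_apply Q B hQs hQp hQu huz, hdu, hdz, zero_smul, zero_smul, mul_zero, zero_smul,
      add_zero, sub_zero, sub_zero]
  have hfixX : ∀ v ∈ X, sieg Q B ((e i1 + f i1) + (e i2 + f i2))
      ((e i3 + f i3) + (e i4 + f i4)) v = v := by
    rintro v ⟨i, hv, hQv⟩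
    rw [hclass i v hv hQv]
    exact hfixd i
  refine ⟨K, ?_, ?_⟩
  · refine lt_of_le_of_ne ?_ ?_
    · rintro g ⟨hgS, hgG⟩
      rw [hKmem]
      obtain ⟨σ, hσ⟩ := (hS g).mp hgS
      exact ⟨hgG, fun v => mem_iff_of_perm D (fun c => c ≠ 0) (hG1 hgG) σ hσ v⟩
    · intro heq
      have hg₀K : sieg Q B ((e i1 + f i1) + (e i2 + f i2)) ((e i3 + f i3) + (e i4 + f i4)) ∈ K := by
        rw [hKmem]
        refine ⟨hG2 _ _ hQu huz, fun v => ⟨fun hv => ?_, fun hv => ?_⟩⟩
        · rw [hfixX v hv]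
          exact hv
        · have h5 := hfixX _ hv
          have h6 := (sieg Q B ((e i1 + f i1) + (e i2 + f i2))
            ((e i3 + f i3) + (e i4 + f i4))).injective h5
          rw [h6] at hv
          exact hv
      rw [← heq] at hg₀K
      obtain ⟨σ, hσ⟩ := (hS _).mp hg₀K.1
      have h5 : e i1 + f i1 ∈ D (σ i1) := by
        have h50 : sieg Q B ((e i1 + f i1) + (e i2 + f i2)) ((e i3 + f i3) + (e i4 + f i4))
            (e i1 + f i1) ∈ D (σ i1) := by
          rw [← hσ i1]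
          exact ⟨_, hdD i1, rfl⟩
        rwa [hfixd] at h50
      have hσ1 : σ i1 = i1 := by
        by_contra hne
        exact hd0 i1 (hdisj _ _ hne _ h5 (hdD i1))
      have h6 : sieg Q B ((e i1 + f i1) + (e i2 + f i2)) ((e i3 + f i3) + (e i4 + f i4))
          (e i1) ∈ D (σ i1) := by
        rw [← hσ i1]
        exact ⟨_, he i1, rfl⟩
      rw [hσ1] at h6
      have hBeu : B (e i1) ((e i1 + f i1) + (e i2 + f i2)) = 1 := by
        rw [map_add, map_add, hee, hef, horth i1 i2 h12 _ (he i1) _ (hdD i2)]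
        ring
      have hBez : B (e i1) ((e i3 + f i3) + (e i4 + f i4)) = 0 := by
        rw [map_add, horth i1 i3 h13 _ (he i1) _ (hdD i3), horth i1 i4 h14 _ (he i1) _ (hdD i4),
          add_zero]
      rw [sieg_apply Q B hQs hQp hQu huz, hBeu, hBez, hQz, one_smul, zero_smul, zero_mul,
        zero_smul, sub_zero, sub_zero] at h6
      have h7 : (e i3 + f i3) + (e i4 + f i4) ∈ D i1 := by
        have := (D i1).sub_mem h6 (he i1)
        rwa [add_sub_cancel_left] at this
      have h8 := horth i1 i3 h13 _ h7 _ (hf i3)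
      rw [map_add, LinearMap.add_apply, map_add, LinearMap.add_apply, hef, hff,
        horth i4 i3 h34.symm _ (hdD i4) _ (hf i3)] at h8
      have : (1 : F) = 0 := by linear_combination h8
      exact one_ne_zero this
  · refine lt_of_le_of_ne (fun g hg => ((hKmem g).mp hg).1) ?_
    intro heq
    have hez : B (e i1) (e i2 + f i2) = 0 := horth i1 i2 h12 _ (he i1) _ (hdD i2)
    have hg₁K : sieg Q B (e i1) (e i2 + f i2) ∈ K := by
      rw [heq]
      exact hG2 _ _ (hQe i1) hez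
    have h5 := (((hKmem _).mp hg₁K).2 (e i1 + f i1)).mp ⟨i1, hdD i1, by rw [hQd]; exact one_ne_zero⟩
    obtain ⟨j, hj, -⟩ := h5
    have hBde : B (e i1 + f i1) (e i1) = 1 := by
      rw [map_add, LinearMap.add_apply, hee, hfe, zero_add]
    rw [sieg_apply Q B hQs hQp (hQe i1) hez, hBde, hdd, hQd, one_smul, zero_smul, mul_one,
      one_smul, sub_zero] at hj
    have hBj : B (e i1 + f i1 + (e i2 + f i2) - e i1) (e i1) = 1 := by
      rw [map_sub, map_add, LinearMap.sub_apply, LinearMap.add_apply, hBde, hee,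
        horth i2 i1 h12.symm _ (hdD i2) _ (he i1)]
      ring
    by_cases hj1 : j = i1
    · rw [hj1] at hj
      have h7 : e i2 + f i2 ∈ D i1 := by
        have := (D i1).sub_mem ((D i1).add_mem hj (he i1)) (hdD i1)
        have e' : e i1 + f i1 + (e i2 + f i2) - e i1 + e i1 - (e i1 + f i1) = e i2 + f i2 := by abel
        rwa [e'] at this
      exact hd0 i2 (hdisj i1 i2 h12 _ h7 (hdD i2))
    · have h7 := horth j i1 hj1 _ hj _ (he i1)
      rw [hBj] at h7
      exact one_ne_zero h7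

omit [FiniteDimensional F V] in
/-- The key identity in the field of order four. -/
lemma f4_key (h2 : (2 : F) = 0) (h3 : ∀ x : F, x ≠ 0 → x * x * x = 1) {a b a' b' : F}
    (hab : a * b = 1) (hab' : a' * b' = 1) :
    (a * b' + b * a') * (a * b' + b * a') = a * b' + b * a' := by
  have ha0 : a ≠ 0 := by
    intro h
    rw [h, zero_mul] at hab
    exact zero_ne_one hab
  have ha'0 : a' ≠ 0 := by
    intro h
    rw [h, zero_mul] at hab'
    exact zero_ne_one hab'
  have ha3 := h3 a ha0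
  have ha'3 := h3 a' ha'0
  have hb : b = a * a := by linear_combination (-b) * ha3 + (a * a) * hab
  have hb' : b' = a' * a' := by linear_combination (-b') * ha'3 + (a' * a') * hab'
  rw [hb, hb']
  linear_combination (a * a * a') * ha'3 + (a * a' * a') * ha3 +
    (a * a * a * a' * a' * a') * h2

include hQs hQp in
/-- **Hyperbolic planes over the field of order four.** -/
theorem not_maximal_hyp2_four (h2 : (2 : F) = 0) (h3 : ∀ x : F, x ≠ 0 → x * x * x = 1)
    (ω : F) (hω : ω * ω + ω + 1 = 0) (G : Subgroup (V ≃ₗ[F] V))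
    (hG1 : G ≤ oG Q) (hG2 : ∀ u z, Q u = 0 → B u z = 0 → sieg Q B u z ∈ G)
    {t : ℕ} (D : Fin t → Submodule F V)
    (horth : ∀ i j, i ≠ j → ∀ x ∈ D i, ∀ y ∈ D j, B x y = 0)
    (hnd : ∀ i, ∀ a ∈ D i, a ≠ 0 → ∃ x ∈ D i, B x a ≠ 0)
    (S : Subgroup (V ≃ₗ[F] V))
    (hS : ∀ g, g ∈ S ↔ ∃ σ : Equiv.Perm (Fin t), ∀ i, (D i).map (g : V →ₗ[F] V) = D (σ i))
    (hk : ∀ i, finrank F (D i) = 2) (hplus : ∀ i, ∃ e ∈ D i, e ≠ 0 ∧ Q e = 0) (ht : 4 ≤ t) :
    ∃ K : Subgroup (V ≃ₗ[F] V), S ⊓ G < K ∧ K < G := by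
  classical
  have hsymm := B_symm Q B hQp
  have h11 : (1 : F) + 1 = 0 := by linear_combination h2
  have hneg1 : (-1 : F) = 1 := by linear_combination -h2
  have hdisj : ∀ i j, i ≠ j → ∀ x, x ∈ D i → x ∈ D j → x = 0 := by
    intro i j hij x hxi hxj
    by_contra hx0
    obtain ⟨y, hy, hyx⟩ := hnd i x hxi hx0
    exact hyx (horth i j hij y hy x hxj)
  choose e he he0 hQe using hplus
  have hb : ∀ i, ∃ f ∈ D i, Q f = 0 ∧ B (e i) f = 1 ∧
      ∀ v ∈ D i, v = B v f • e i + B v (e i) • f := fun i =>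
    exists_hyp_basis2 hQs hQp (D i) (hnd i) (hk i) (he i) (he0 i) (hQe i)
  choose f hf hQf hef hspan using hb
  have hee : ∀ i, B (e i) (e i) = 0 := fun i => by rw [B_self Q B hQs hQp, hQe, mul_zero]
  have hff : ∀ i, B (f i) (f i) = 0 := fun i => by rw [B_self Q B hQs hQp, hQf, mul_zero]
  have hfe : ∀ i, B (f i) (e i) = 1 := fun i => by rw [hsymm]; exact hef i
  have hdD : ∀ i, e i + f i ∈ D i := fun i => (D i).add_mem (he i) (hf i)
  have hQd : ∀ i, Q (e i + f i) = 1 := by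
    intro i
    rw [hQp, hQe, hQf, hef]
    ring
  have hd0 : ∀ i, e i + f i ≠ 0 := by
    intro i h
    have := hQd i
    rw [h, Q_zero Q hQs] at this
    exact zero_ne_one this
  have hdd : ∀ i j, B (e i + f i) (e j + f j) = 0 := by
    intro i j
    by_cases hij : i = j
    · subst hij
      rw [B_self Q B hQs hQp, hQd, mul_one]
      exact h2
    · exact horth i j hij _ (hdD i) _ (hdD j)
  -- the second norm one vector of a block
  have hd'D : ∀ i, ω • e i + (ω + 1) • f i ∈ D i := fun i =>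
    (D i).add_mem ((D i).smul_mem _ (he i)) ((D i).smul_mem _ (hf i))
  have hQd' : ∀ i, Q (ω • e i + (ω + 1) • f i) = 1 := by
    intro i
    rw [Q_hyp2 hQs hQp (hQe i) (hQf i) (hef i)]
    linear_combination hω - h2
  have hBdd' : ∀ i, B (e i + f i) (ω • e i + (ω + 1) • f i) = 1 := by
    intro i
    simp only [map_add, map_smul, LinearMap.add_apply, hee, hff, hef, hfe, smul_eq_mul, mul_zero,
      mul_one, zero_add, add_zero]
    linear_combination ω * h2
  have hBd'd : ∀ i, B (ω • e i + (ω + 1) • f i) (e i + f i) = 1 := fun i => by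
    rw [hsymm]; exact hBdd' i
  -- four indices
  let i1 : Fin t := ⟨0, by omega⟩
  let i2 : Fin t := ⟨1, by omega⟩
  let i3 : Fin t := ⟨2, by omega⟩
  let i4 : Fin t := ⟨3, by omega⟩
  have h12 : i1 ≠ i2 := by intro h; have := congrArg Fin.val h; simp [i1, i2] at this
  have h13 : i1 ≠ i3 := by intro h; have := congrArg Fin.val h; simp [i1, i3] at this
  have h14 : i1 ≠ i4 := by intro h; have := congrArg Fin.val h; simp [i1, i4] at this
  have h23 : i2 ≠ i3 := by intro h; have := congrArg Fin.val h; simp [i2, i3] at this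
  have h34 : i3 ≠ i4 := by intro h; have := congrArg Fin.val h; simp [i3, i4] at this
  let X : Set V := {v | ∃ i, v ∈ D i ∧ Q v = 1}
  have hXmem : ∀ v, v ∈ X ↔ ∃ i, v ∈ D i ∧ Q v = 1 := fun v => Iff.rfl
  let L : AddSubgroup V := AddSubgroup.closure X
  have hXL : ∀ v, v ∈ X → v ∈ L := fun v hv => AddSubgroup.subset_closure hv
  have hdX : ∀ i, e i + f i ∈ X := fun i => ⟨i, hdD i, hQd i⟩
  have hd'X : ∀ i, ω • e i + (ω + 1) • f i ∈ X := fun i => ⟨i, hd'D i, hQd' i⟩
  -- the values of the polar form on the lattice lie in the prime field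
  have hXX : ∀ x ∈ X, ∀ x' ∈ X, B x x' * B x x' = B x x' := by
    rintro x ⟨i, hx, hQx⟩ x' ⟨j, hx', hQx'⟩
    by_cases hij : i = j
    · subst hij
      have e1 := hspan i x hx
      have e2 := hspan i x' hx'
      have q1 : B x (f i) * B x (e i) = 1 := by
        rw [← hQx]
        conv_rhs => rw [e1]
        exact (Q_hyp2 hQs hQp (hQe i) (hQf i) (hef i) _ _).symm
      have q2 : B x' (f i) * B x' (e i) = 1 := by
        rw [← hQx']
        conv_rhs => rw [e2]
        exact (Q_hyp2 hQs hQp (hQe i) (hQf i) (hef i) _ _).symm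
      have e3 : B x x' = B x (f i) * B x' (e i) + B x (e i) * B x' (f i) := by
        conv_lhs => rw [e1]
        simp only [map_add, map_smul, LinearMap.add_apply, LinearMap.smul_apply, smul_eq_mul,
          hsymm (e i) x', hsymm (f i) x']
      rw [e3]
      exact f4_key h2 h3 q1 q2
    · rw [horth i j hij x hx x' hx', mul_zero]
  have hF2add : ∀ p q : F, p * p = p → q * q = q → (p + q) * (p + q) = p + q := by
    intro p q hp hq
    linear_combination hp + hq + (p * q) * h2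
  have hF2neg : ∀ p : F, p * p = p → (-p) * (-p) = -p := by
    intro p hp
    linear_combination hp + p * h2
  have hLX : ∀ l ∈ L, ∀ x ∈ X, B l x * B l x = B l x := by
    intro l hl x hx
    induction hl using AddSubgroup.closure_induction with
    | mem y hy => exact hXX y hy x hx
    | zero => simp
    | add y z _ _ hy hz =>
      rw [map_add, LinearMap.add_apply]
      exact hF2add _ _ hy hz
    | neg y _ hy =>
      rw [map_neg, LinearMap.neg_apply]
      exact hF2neg _ hy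
  have hLL : ∀ l ∈ L, ∀ m ∈ L, B l m * B l m = B l m := by
    intro l hl m hm
    induction hm using AddSubgroup.closure_induction with
    | mem y hy => exact hLX l hl y hy
    | zero => simp
    | add y z _ _ hy hz =>
      rw [map_add]
      exact hF2add _ _ hy hz
    | neg y _ hy =>
      rw [map_neg]
      exact hF2neg _ hy
  have hsmulL : ∀ c : F, c * c = c → ∀ w ∈ L, c • w ∈ L := by
    intro c hc w hw
    have : c * (c - 1) = 0 := by linear_combination hc
    rcases mul_eq_zero.mp this with h | h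
    · rw [h, zero_smul]
      exact L.zero_mem
    · rw [sub_eq_zero.mp h, one_smul]
      exact hw
  have hsiegL : ∀ u ∈ L, ∀ z ∈ L, Q u = 0 → Q z = 0 → B u z = 0 → ∀ v ∈ L,
      sieg Q B u z v ∈ L := by
    intro u hu z hz hQu hQz huz v hv
    rw [sieg_apply Q B hQs hQp hQu huz, hQz, zero_mul, zero_smul, sub_zero]
    exact L.sub_mem (L.add_mem hv (hsmulL _ (hLL v hv u hu) z hz)) (hsmulL _ (hLL v hv z hz) u hu)
  let K : Subgroup (V ≃ₗ[F] V) :=
    { carrier := {g | g ∈ G ∧ ∀ v, v ∈ L ↔ g v ∈ L}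
      mul_mem' := by
        rintro a b ⟨haG, ha⟩ ⟨hbG, hb'⟩
        refine ⟨G.mul_mem haG hbG, fun v => ?_⟩
        rw [hb' v, ha (b v)]
        rfl
      one_mem' := ⟨G.one_mem, fun v => Iff.rfl⟩
      inv_mem' := by
        rintro a ⟨haG, ha⟩
        refine ⟨G.inv_mem haG, fun v => ?_⟩
        have := ha (a⁻¹ v)
        rw [apply_inv_apply'] at this
        exact this.symm }
  have hKmem : ∀ g, g ∈ K ↔ g ∈ G ∧ ∀ v, v ∈ L ↔ g v ∈ L := fun g => Iff.rfl
  have huL : (e i1 + f i1) + (e i2 + f i2) ∈ L := L.add_mem (hXL _ (hdX i1)) (hXL _ (hdX i2))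
  have hzL : (e i3 + f i3) + (e i4 + f i4) ∈ L := L.add_mem (hXL _ (hdX i3)) (hXL _ (hdX i4))
  have hQu : Q ((e i1 + f i1) + (e i2 + f i2)) = 0 := by
    rw [hQp, hQd, hQd, hdd]
    linear_combination h11
  have hQz : Q ((e i3 + f i3) + (e i4 + f i4)) = 0 := by
    rw [hQp, hQd, hQd, hdd]
    linear_combination h11
  have hdu : ∀ i, B (e i + f i) ((e i1 + f i1) + (e i2 + f i2)) = 0 := by
    intro i
    rw [map_add, hdd, hdd, add_zero]
  have hdz : ∀ i, B (e i + f i) ((e i3 + f i3) + (e i4 + f i4)) = 0 := by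
    intro i
    rw [map_add, hdd, hdd, add_zero]
  have huz : B ((e i1 + f i1) + (e i2 + f i2)) ((e i3 + f i3) + (e i4 + f i4)) = 0 := by
    have h5 := hdz i1
    have h6 := hdz i2
    rw [LinearMap.map_add₂, h5, h6, add_zero]
  have hfixd : ∀ i, sieg Q B ((e i1 + f i1) + (e i2 + f i2)) ((e i3 + f i3) + (e i4 + f i4))
      (e i + f i) = e i + f i := by
    intro i
    rw [sieg_apply Q B hQs hQp hQu huz, hdu, hdz, zero_smul, zero_smul, mul_zero, zero_smul,
      add_zero, sub_zero, sub_zero]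
  refine ⟨K, ?_, ?_⟩
  · refine lt_of_le_of_ne ?_ ?_
    · have hfwd : ∀ g, g ∈ S ⊓ G → ∀ v ∈ L, g v ∈ L := by
        rintro g ⟨hgS, hgG⟩ v hv
        obtain ⟨σ, hσ⟩ := (hS g).mp hgS
        have hX := mem_iff_of_perm D (fun c => c = 1) (hG1 hgG) σ hσ
        induction hv using AddSubgroup.closure_induction with
        | mem y hy => exact hXL _ ((hX y).mp hy)
        | zero => rw [map_zero]; exact L.zero_mem
        | add y z _ _ hy hz => rw [map_add]; exact L.add_mem hy hz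
        | neg y _ hy => rw [map_neg]; exact L.neg_mem hy
      intro g hg
      rw [hKmem]
      refine ⟨hg.2, fun v => ⟨hfwd g hg v, fun h => ?_⟩⟩
      have := hfwd g⁻¹ (inv_mem hg) _ h
      rwa [inv_apply_apply'] at this
    · intro heq
      have hg₀K : sieg Q B ((e i1 + f i1) + (e i2 + f i2)) ((e i3 + f i3) + (e i4 + f i4)) ∈ K := by
        rw [hKmem]
        refine ⟨hG2 _ _ hQu huz, fun v => ⟨hsiegL _ huL _ hzL hQu hQz huz v, fun hv => ?_⟩⟩
        have hQz' : Q (-((e i3 + f i3) + (e i4 + f i4))) = 0 := by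
          rw [← neg_one_smul F, hQs, hQz, mul_zero]
        have huz' : B ((e i1 + f i1) + (e i2 + f i2)) (-((e i3 + f i3) + (e i4 + f i4))) = 0 := by
          rw [map_neg, huz, neg_zero]
        have h5 := hsiegL _ huL _ (L.neg_mem hzL) hQu hQz' huz' _ hv
        rw [← sieg_inv Q B hQs hQp hQu huz, inv_apply_apply'] at h5
        exact h5
      rw [← heq] at hg₀K
      obtain ⟨σ, hσ⟩ := (hS _).mp hg₀K.1
      have h5 : e i1 + f i1 ∈ D (σ i1) := by
        have h50 : sieg Q B ((e i1 + f i1) + (e i2 + f i2)) ((e i3 + f i3) + (e i4 + f i4))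
            (e i1 + f i1) ∈ D (σ i1) := by
          rw [← hσ i1]
          exact ⟨_, hdD i1, rfl⟩
        rwa [hfixd] at h50
      have hσ1 : σ i1 = i1 := by
        by_contra hne
        exact hd0 i1 (hdisj _ _ hne _ h5 (hdD i1))
      have h6 : sieg Q B ((e i1 + f i1) + (e i2 + f i2)) ((e i3 + f i3) + (e i4 + f i4))
          (e i1) ∈ D (σ i1) := by
        rw [← hσ i1]
        exact ⟨_, he i1, rfl⟩
      rw [hσ1] at h6
      have hBeu : B (e i1) ((e i1 + f i1) + (e i2 + f i2)) = 1 := by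
        rw [map_add, map_add, hee, hef, horth i1 i2 h12 _ (he i1) _ (hdD i2)]
        ring
      have hBez : B (e i1) ((e i3 + f i3) + (e i4 + f i4)) = 0 := by
        rw [map_add, horth i1 i3 h13 _ (he i1) _ (hdD i3), horth i1 i4 h14 _ (he i1) _ (hdD i4),
          add_zero]
      rw [sieg_apply Q B hQs hQp hQu huz, hBeu, hBez, hQz, one_smul, zero_smul, zero_mul,
        zero_smul, sub_zero, sub_zero] at h6
      have h7 : (e i3 + f i3) + (e i4 + f i4) ∈ D i1 := by
        have := (D i1).sub_mem h6 (he i1)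
        rwa [add_sub_cancel_left] at this
      have h8 := horth i1 i3 h13 _ h7 _ (hf i3)
      rw [map_add, LinearMap.add_apply, map_add, LinearMap.add_apply, hef, hff,
        horth i4 i3 h34.symm _ (hdD i4) _ (hf i3)] at h8
      have : (1 : F) = 0 := by linear_combination h8
      exact one_ne_zero this
  · refine lt_of_le_of_ne (fun g hg => ((hKmem g).mp hg).1) ?_
    intro heq
    have hQwu : Q (ω • ((e i1 + f i1) + (e i2 + f i2))) = 0 := by rw [hQs, hQu, mul_zero]
    have hwuz : B (ω • ((e i1 + f i1) + (e i2 + f i2))) ((e i3 + f i3) + (e i4 + f i4)) = 0 := by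
      rw [map_smul, LinearMap.smul_apply, huz, smul_zero]
    have hg₁K : sieg Q B (ω • ((e i1 + f i1) + (e i2 + f i2))) ((e i3 + f i3) + (e i4 + f i4)) ∈ K := by
      rw [heq]
      exact hG2 _ _ hQwu hwuz
    have h5 := (((hKmem _).mp hg₁K).2 (ω • e i3 + (ω + 1) • f i3)).mp (hXL _ (hd'X i3))
    have hB1 : B (ω • e i3 + (ω + 1) • f i3) (ω • ((e i1 + f i1) + (e i2 + f i2))) = 0 := by
      rw [map_smul, map_add, horth i3 i1 h13.symm _ (hd'D i3) _ (hdD i1),
        horth i3 i2 h23.symm _ (hd'D i3) _ (hdD i2), add_zero, smul_zero]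
    have hB2 : B (ω • e i3 + (ω + 1) • f i3) ((e i3 + f i3) + (e i4 + f i4)) = 1 := by
      rw [map_add, hBd'd, horth i3 i4 h34 _ (hd'D i3) _ (hdD i4), add_zero]
    rw [sieg_apply Q B hQs hQp hQwu hwuz, hB1, hB2, zero_smul, add_zero, mul_zero, zero_smul,
      sub_zero, one_smul] at h5
    have h6 : ω • ((e i1 + f i1) + (e i2 + f i2)) ∈ L := by
      have := L.sub_mem (hXL _ (hd'X i3)) h5
      rwa [sub_sub_cancel] at this
    have h7 := hLX _ h6 _ (hd'X i1)
    have h8 : B (ω • ((e i1 + f i1) + (e i2 + f i2))) (ω • e i1 + (ω + 1) • f i1) = ω := by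
      rw [map_smul, LinearMap.smul_apply, LinearMap.map_add₂, hBdd',
        horth i2 i1 h12.symm _ (hdD i2) _ (hd'D i1), add_zero, smul_eq_mul, mul_one]
    rw [h8] at h7
    have : (1 : F) = 0 := by linear_combination hω - h7 - ω * h2
    exact one_ne_zero this

omit [FiniteDimensional F V] in
/-- Nonsingular vectors of the hyperbolic space of dimension four over the field of order two. -/
lemma f2_class (hF2 : ∀ x : F, x = 0 ∨ x = 1) (x1 y1 x2 y2 : F) (h : x1 * y1 + x2 * y2 ≠ 0) :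
    (x1 = 1 ∧ y1 = 1 ∧ x2 = 0 ∧ y2 = 0) ∨ (x1 = 1 ∧ y1 = 0 ∧ x2 = 1 ∧ y2 = 1) ∨
    (x1 = 0 ∧ y1 = 1 ∧ x2 = 1 ∧ y2 = 1) ∨ (x1 + y1 = 0 ∧ y1 + y2 + x2 = 0) := by
  have h11 : (1 : F) + 1 = 0 := by
    rcases hF2 (1 + 1) with h | h
    · exact h
    · exfalso
      have : (1 : F) = 0 := by linear_combination h
      exact one_ne_zero this
  rcases hF2 x1 with rfl | rfl <;> rcases hF2 y1 with rfl | rfl <;>
    rcases hF2 x2 with rfl | rfl <;> rcases hF2 y2 with rfl | rfl <;>
    simp [h11] at h ⊢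

include hQs hQp in
/-- **Hyperbolic blocks of dimension four over the field of order two.** -/
theorem not_maximal_hyp4_two (hF2 : ∀ x : F, x = 0 ∨ x = 1) (G : Subgroup (V ≃ₗ[F] V))
    (hG1 : G ≤ oG Q) (hG2 : ∀ u z, Q u = 0 → B u z = 0 → sieg Q B u z ∈ G)
    {t : ℕ} (D : Fin t → Submodule F V)
    (horth : ∀ i j, i ≠ j → ∀ x ∈ D i, ∀ y ∈ D j, B x y = 0)
    (hnd : ∀ i, ∀ a ∈ D i, a ≠ 0 → ∃ x ∈ D i, B x a ≠ 0)
    (S : Subgroup (V ≃ₗ[F] V))
    (hS : ∀ g, g ∈ S ↔ ∃ σ : Equiv.Perm (Fin t), ∀ i, (D i).map (g : V →ₗ[F] V) = D (σ i))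
    (hk : ∀ i, finrank F (D i) = 4)
    (hplus : ∀ i, ∃ U : Submodule F V, U ≤ D i ∧ (∀ u ∈ U, Q u = 0) ∧ finrank F U = 2)
    (ht : 2 ≤ t) :
    ∃ K : Subgroup (V ≃ₗ[F] V), S ⊓ G < K ∧ K < G := by
  classical
  have hsymm := B_symm Q B hQp
  have h11 : (1 : F) + 1 = 0 := by
    rcases hF2 (1 + 1) with h | h
    · exact h
    · exfalso
      have : (1 : F) = 0 := by linear_combination h
      exact one_ne_zero this
  have h2 : (2 : F) = 0 := by linear_combination h11
  have hvv : ∀ v : V, v + v = 0 := by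
    intro v
    rw [← two_smul F v, h2, zero_smul]
  have hneg : ∀ v : V, -v = v := fun v => neg_eq_of_add_eq_zero_left (hvv v)
  have hcancel : ∀ x y : V, x + (x + y) = y := by
    intro x y
    rw [← add_assoc, hvv, zero_add]
  have hdisj : ∀ i j, i ≠ j → ∀ x, x ∈ D i → x ∈ D j → x = 0 := by
    intro i j hij x hxi hxj
    by_contra hx0
    obtain ⟨y, hy, hyx⟩ := hnd i x hxi hx0
    exact hyx (horth i j hij y hy x hxj)
  have hb : ∀ i, ∃ e1 ∈ D i, ∃ f1 ∈ D i, ∃ e2 ∈ D i, ∃ f2 ∈ D i, Q e1 = 0 ∧ Q f1 = 0 ∧ Q e2 = 0 ∧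
      Q f2 = 0 ∧ B e1 f1 = 1 ∧ B e2 f2 = 1 ∧ B e1 e2 = 0 ∧ B e1 f2 = 0 ∧ B f1 e2 = 0 ∧
      B f1 f2 = 0 ∧ ∀ v ∈ D i, v = B v f1 • e1 + B v e1 • f1 + B v f2 • e2 + B v e2 • f2 := by
    intro i
    obtain ⟨U, hU1, hU2, hU3⟩ := hplus i
    exact exists_hyp_basis4 hQs hQp (D i) (hnd i) (hk i) U hU1 hU2 hU3
  choose E1 hE1m F1 hF1m E2 hE2m F2 hF2m hQE1 hQF1 hQE2 hQF2 hE1F1 hE2F2 hE1E2 hE1F2 hF1E2 hF1F2
    hspan using hb
  have hE1E1 : ∀ i, B (E1 i) (E1 i) = 0 := fun i => by rw [B_self Q B hQs hQp, hQE1, mul_zero]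
  have hF1F1 : ∀ i, B (F1 i) (F1 i) = 0 := fun i => by rw [B_self Q B hQs hQp, hQF1, mul_zero]
  have hE2E2 : ∀ i, B (E2 i) (E2 i) = 0 := fun i => by rw [B_self Q B hQs hQp, hQE2, mul_zero]
  have hF2F2 : ∀ i, B (F2 i) (F2 i) = 0 := fun i => by rw [B_self Q B hQs hQp, hQF2, mul_zero]
  have hF1E1 : ∀ i, B (F1 i) (E1 i) = 1 := fun i => by rw [hsymm]; exact hE1F1 i
  have hF2E2 : ∀ i, B (F2 i) (E2 i) = 1 := fun i => by rw [hsymm]; exact hE2F2 i
  have hE2E1 : ∀ i, B (E2 i) (E1 i) = 0 := fun i => by rw [hsymm]; exact hE1E2 i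
  have hF2E1 : ∀ i, B (F2 i) (E1 i) = 0 := fun i => by rw [hsymm]; exact hE1F2 i
  have hE2F1 : ∀ i, B (E2 i) (F1 i) = 0 := fun i => by rw [hsymm]; exact hF1E2 i
  have hF2F1 : ∀ i, B (F2 i) (F1 i) = 0 := fun i => by rw [hsymm]; exact hF1F2 i
  obtain ⟨a, had⟩ : ∃ a : Fin t → V, ∀ i, a i = E1 i + F1 i := ⟨_, fun i => rfl⟩
  obtain ⟨b, hbd⟩ : ∃ b : Fin t → V, ∀ i, b i = E1 i + E2 i + F2 i := ⟨_, fun i => rfl⟩
  obtain ⟨a', ha'd⟩ : ∃ a' : Fin t → V, ∀ i, a' i = E2 i + F2 i := ⟨_, fun i => rfl⟩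
  have haD : ∀ i, a i ∈ D i := fun i => by
    rw [had]; exact (D i).add_mem (hE1m i) (hF1m i)
  have hbD : ∀ i, b i ∈ D i := fun i => by
    rw [hbd]; exact (D i).add_mem ((D i).add_mem (hE1m i) (hE2m i)) (hF2m i)
  have ha'D : ∀ i, a' i ∈ D i := fun i => by
    rw [ha'd]; exact (D i).add_mem (hE2m i) (hF2m i)
  have hQa : ∀ i, Q (a i) = 1 := by
    intro i
    rw [had, hQp, hQE1, hQF1, hE1F1]
    ring
  have hQa' : ∀ i, Q (a' i) = 1 := by
    intro i
    rw [ha'd, hQp, hQE2, hQF2, hE2F2]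
    ring
  have hQb : ∀ i, Q (b i) = 1 := by
    intro i
    rw [hbd, hQp, hQp, hQE1, hQE2, hQF2, hE1E2, map_add, LinearMap.add_apply, hE1F2, hE2F2]
    ring
  have hBab : ∀ i, B (a i) (b i) = 1 := by
    intro i
    rw [had, hbd]
    simp only [map_add, LinearMap.add_apply, hE1E1, hE1E2, hE1F2, hF1E1, hF1E2, hF1F2]
    ring
  have hBba : ∀ i, B (b i) (a i) = 1 := fun i => by
    rw [hsymm]; exact hBab i
  have hBaa : ∀ i, B (a i) (a i) = 0 := by
    intro i
    rw [B_self Q B hQs hQp, hQa, mul_one]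
    exact h2
  have hBbb : ∀ i, B (b i) (b i) = 0 := by
    intro i
    rw [B_self Q B hQs hQp, hQb, mul_one]
    exact h2
  have hBa'a : ∀ i, B (a' i) (a i) = 0 := by
    intro i
    rw [had, ha'd]
    simp only [map_add, LinearMap.add_apply, hE2E1, hE2F1, hF2E1, hF2F1]
    ring
  have hBa'b : ∀ i, B (a' i) (b i) = 0 := by
    intro i
    rw [hbd, ha'd]
    simp only [map_add, LinearMap.add_apply, hE2E1, hE2E2, hE2F2, hF2E1, hF2E2, hF2F2]
    linear_combination h11
  have hBaE : ∀ i, B (a i) (E1 i) = 1 := by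
    intro i
    rw [had, map_add, LinearMap.add_apply, hE1E1, hF1E1, zero_add]
  have ha0 : ∀ i, a i ≠ 0 := by
    intro i h
    have := hQa i
    rw [h, Q_zero Q hQs] at this
    exact zero_ne_one this
  have ha'0 : ∀ i, a' i ≠ 0 := by
    intro i h
    have := hQa' i
    rw [h, Q_zero Q hQs] at this
    exact zero_ne_one this
  have hQab : ∀ i, Q (a i + b i) = 1 := by
    intro i
    rw [hQp, hQa, hQb, hBab]
    linear_combination h11
  -- the norm in coordinates
  have hQ4 : ∀ i (x1 y1 x2 y2 : F), Q (x1 • E1 i + y1 • F1 i + x2 • E2 i + y2 • F2 i) =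
      x1 * y1 + x2 * y2 := by
    intro i x1 y1 x2 y2
    rw [hQp, hQp, hQp, hQs, hQs, hQs, hQs, hQE1, hQF1, hQE2, hQF2]
    simp only [map_add, map_smul, LinearMap.add_apply, LinearMap.smul_apply, smul_eq_mul, hE1F1,
      hE1E2, hE1F2, hF1E2, hF1F2, hE2F2]
    ring
  -- classification of the nonsingular vectors of a block
  have hclass : ∀ i, ∀ v ∈ D i, Q v ≠ 0 →
      v = a i ∨ v = b i ∨ v = a i + b i ∨ (B v (a i) = 0 ∧ B v (b i) = 0) := by
    intro i v hv hQv
    have h1 := hspan i v hv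
    have h3 : Q v = B v (F1 i) * B v (E1 i) + B v (F2 i) * B v (E2 i) := by
      conv_lhs => rw [h1]
      exact hQ4 i _ _ _ _
    rw [h3] at hQv
    have hBa : B v (a i) = B v (F1 i) + B v (E1 i) := by
      rw [had, map_add, add_comm]
    have hBb : B v (b i) = B v (E1 i) + B v (E2 i) + B v (F2 i) := by
      rw [hbd, map_add, map_add]
    rcases f2_class hF2 _ _ _ _ hQv with ⟨c1, c2, c3, c4⟩ | ⟨c1, c2, c3, c4⟩ | ⟨c1, c2, c3, c4⟩ |
      ⟨c1, c2⟩
    · left
      rw [had]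
      conv_lhs => rw [h1, c1, c2, c3, c4, one_smul, one_smul, zero_smul, zero_smul, add_zero,
        add_zero]
    · right; left
      rw [hbd]
      conv_lhs => rw [h1, c1, c2, c3, c4, one_smul, one_smul, one_smul, zero_smul, add_zero]
    · right; right; left
      have : a i + b i = F1 i + E2 i + F2 i + (2 : F) • E1 i := by
        rw [had, hbd]
        module
      rw [this, h2, zero_smul, add_zero]
      conv_lhs => rw [h1, c1, c2, c3, c4, one_smul, one_smul, one_smul, zero_smul, zero_add]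
    · right; right; right
      rw [hBa, hBb]
      exact ⟨c1, c2⟩
  -- two indices
  let i1 : Fin t := ⟨0, by omega⟩
  let i2 : Fin t := ⟨1, by omega⟩
  have h12 : i1 ≠ i2 := by intro h; have := congrArg Fin.val h; simp [i1, i2] at this
  let X : Set V := {v | ∃ i, v ∈ D i ∧ Q v ≠ 0}
  have hXmem : ∀ v, v ∈ X ↔ ∃ i, v ∈ D i ∧ Q v ≠ 0 := fun v => Iff.rfl
  let K : Subgroup (V ≃ₗ[F] V) :=
    { carrier := {g | g ∈ G ∧ ∀ v, v ∈ X ↔ g v ∈ X}
      mul_mem' := by
        rintro a b ⟨haG, ha⟩ ⟨hbG, hb'⟩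
        refine ⟨G.mul_mem haG hbG, fun v => ?_⟩
        rw [hb' v, ha (b v)]
        rfl
      one_mem' := ⟨G.one_mem, fun v => Iff.rfl⟩
      inv_mem' := by
        rintro a ⟨haG, ha⟩
        refine ⟨G.inv_mem haG, fun v => ?_⟩
        have := ha (a⁻¹ v)
        rw [apply_inv_apply'] at this
        exact this.symm }
  have hKmem : ∀ g, g ∈ K ↔ g ∈ G ∧ ∀ v, v ∈ X ↔ g v ∈ X := fun g => Iff.rfl
  -- the swapping Siegel elements
  have hQu : ∀ j j', j ≠ j' → Q (a j + a j') = 0 := by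
    intro j j' hjj
    rw [hQp, hQa, hQa, horth j j' hjj _ (haD j) _ (haD j')]
    linear_combination h11
  have hQz : ∀ j j', j ≠ j' → Q (b j + b j') = 0 := by
    intro j j' hjj
    rw [hQp, hQb, hQb, horth j j' hjj _ (hbD j) _ (hbD j')]
    linear_combination h11
  have huz : ∀ j j', j ≠ j' → B (a j + a j') (b j + b j') = 0 := by
    intro j j' hjj
    rw [LinearMap.map_add₂, map_add (B (a j)), map_add (B (a j')), hBab, hBab,
      horth j j' hjj _ (haD j) _ (hbD j'), horth j' j hjj.symm _ (haD j') _ (hbD j)]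
    linear_combination h11
  have hform : ∀ j j', j ≠ j' → ∀ v, sieg Q B (a j + a j') (b j + b j') v =
      v + B v (a j + a j') • (b j + b j') + B v (b j + b j') • (a j + a j') := by
    intro j j' hjj v
    rw [sieg_apply Q B hQs hQp (hQu j j' hjj) (huz j j' hjj), hQz j j' hjj, zero_mul, zero_smul,
      sub_zero, sub_eq_add_neg, hneg]
  have hswap : ∀ j j', j ≠ j' → ∀ v ∈ D j, Q v ≠ 0 →
      sieg Q B (a j + a j') (b j + b j') v ∈ X := by
    intro j j' hjj v hv hQv
    have hva' : B v (a j') = 0 := horth j j' hjj _ hv _ (haD j')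
    have hvb' : B v (b j') = 0 := horth j j' hjj _ hv _ (hbD j')
    rw [hform j j' hjj, map_add (B v) (a j), map_add (B v) (b j), hva', hvb', add_zero, add_zero]
    rcases hclass j v hv hQv with h | h | h | ⟨h5, h6⟩
    · have hα : B v (a j) = 0 := by rw [h]; exact hBaa j
      have hβ : B v (b j) = 1 := by rw [h]; exact hBab j
      rw [hα, hβ, zero_smul, add_zero, one_smul, h, hcancel]
      exact ⟨j', haD j', by rw [hQa]; exact one_ne_zero⟩
    · have hα : B v (a j) = 1 := by rw [h]; exact hBba j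
      have hβ : B v (b j) = 0 := by rw [h]; exact hBbb j
      rw [hα, hβ, zero_smul, add_zero, one_smul, h, hcancel]
      exact ⟨j', hbD j', by rw [hQb]; exact one_ne_zero⟩
    · have hα : B v (a j) = 1 := by rw [h, LinearMap.map_add₂, hBaa, hBba, zero_add]
      have hβ : B v (b j) = 1 := by rw [h, LinearMap.map_add₂, hBab, hBbb, add_zero]
      rw [hα, hβ, one_smul, one_smul, h]
      have : (a j + b j) + (b j + b j') + (a j + a j') =
          (a j' + b j') + (2 : F) • (a j + b j) := by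
        module
      rw [this, h2, zero_smul, add_zero]
      exact ⟨j', (D j').add_mem (haD j') (hbD j'), by rw [hQab]; exact one_ne_zero⟩
    · rw [h5, h6, zero_smul, zero_smul, add_zero, add_zero]
      exact ⟨j, hv, hQv⟩
  obtain ⟨g₀, hg₀⟩ : ∃ g₀ : V ≃ₗ[F] V, g₀ = sieg Q B (a i1 + a i2) (b i1 + b i2) := ⟨_, rfl⟩
  have hcomm : sieg Q B (a i2 + a i1) (b i2 + b i1) = g₀ := by
    rw [hg₀, add_comm (a i2), add_comm (b i2)]
  have hX0 : ∀ v ∈ X, g₀ v ∈ X := by
    rintro v ⟨i, hv, hQv⟩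
    by_cases hi1 : i = i1
    · subst hi1
      rw [hg₀]
      exact hswap i1 i2 h12 v hv hQv
    · by_cases hi2 : i = i2
      · subst hi2
        rw [← hcomm]
        exact hswap i2 i1 h12.symm v hv hQv
      · rw [hg₀, hform i1 i2 h12, map_add (B v) (a i1), map_add (B v) (b i1),
          horth i i1 hi1 _ hv _ (haD i1),
          horth i i2 hi2 _ hv _ (haD i2), horth i i1 hi1 _ hv _ (hbD i1),
          horth i i2 hi2 _ hv _ (hbD i2), add_zero, zero_smul, zero_smul, add_zero, add_zero]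
        exact ⟨i, hv, hQv⟩
  have hinv : g₀⁻¹ = g₀ := by
    rw [hg₀, sieg_inv Q B hQs hQp (hQu i1 i2 h12) (huz i1 i2 h12), hneg]
  have hg₀G : g₀ ∈ G := by
    rw [hg₀]
    exact hG2 _ _ (hQu i1 i2 h12) (huz i1 i2 h12)
  have hg₀a : g₀ (a i1) = a i2 := by
    rw [hg₀, hform i1 i2 h12, map_add (B (a i1)) (a i1), map_add (B (a i1)) (b i1), hBaa, hBab,
      horth i1 i2 h12 _ (haD i1) _ (haD i2), horth i1 i2 h12 _ (haD i1) _ (hbD i2), add_zero,
      add_zero, zero_smul, add_zero, one_smul, hcancel]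
  have hg₀a' : g₀ (a' i1) = a' i1 := by
    rw [hg₀, hform i1 i2 h12, map_add (B (a' i1)) (a i1), map_add (B (a' i1)) (b i1), hBa'a,
      hBa'b, horth i1 i2 h12 _ (ha'D i1) _ (haD i2), horth i1 i2 h12 _ (ha'D i1) _ (hbD i2),
      add_zero, zero_smul, zero_smul, add_zero, add_zero]
  refine ⟨K, ?_, ?_⟩
  · refine lt_of_le_of_ne ?_ ?_
    · rintro g ⟨hgS, hgG⟩
      rw [hKmem]
      obtain ⟨σ, hσ⟩ := (hS g).mp hgS
      exact ⟨hgG, fun v => mem_iff_of_perm D (fun c => c ≠ 0) (hG1 hgG) σ hσ v⟩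
    · intro heq
      have hg₀K : g₀ ∈ K := by
        rw [hKmem]
        refine ⟨hg₀G, fun v => ⟨hX0 v, fun hv => ?_⟩⟩
        have h5 := hX0 _ hv
        have h6 : g₀ (g₀ v) = v := by
          have := inv_apply_apply' g₀ v
          rw [hinv] at this
          exact this
        rw [h6] at h5
        exact h5
      rw [← heq] at hg₀K
      obtain ⟨σ, hσ⟩ := (hS _).mp hg₀K.1
      have h5 : a i2 ∈ D (σ i1) := by
        rw [← hg₀a, ← hσ i1]
        exact ⟨_, haD i1, rfl⟩
      have hσ1 : σ i1 = i2 := by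
        by_contra hne
        exact ha0 i2 (hdisj _ _ hne _ h5 (haD i2))
      have h6 : a' i1 ∈ D (σ i1) := by
        rw [← hg₀a', ← hσ i1]
        exact ⟨_, ha'D i1, rfl⟩
      rw [hσ1] at h6
      exact ha'0 i1 (hdisj _ _ h12 _ (ha'D i1) h6)
  · refine lt_of_le_of_ne (fun g hg => ((hKmem g).mp hg).1) ?_
    intro heq
    have hez : B (E1 i1) (a i2) = 0 := horth i1 i2 h12 _ (hE1m i1) _ (haD i2)
    have hg₁K : sieg Q B (E1 i1) (a i2) ∈ K := by
      rw [heq]
      exact hG2 _ _ (hQE1 i1) hez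
    have h5 := (((hKmem _).mp hg₁K).2 (a i1)).mp ⟨i1, haD i1, by rw [hQa]; exact one_ne_zero⟩
    obtain ⟨j, hj, -⟩ := h5
    rw [sieg_apply Q B hQs hQp (hQE1 i1) hez, hBaE, horth i1 i2 h12 _ (haD i1) _ (haD i2), hQa,
      one_smul, zero_smul, mul_one, one_smul, sub_zero] at hj
    have hBj : B (a i1 + a i2 - E1 i1) (E1 i1) = 1 := by
      rw [map_sub, map_add, LinearMap.sub_apply, LinearMap.add_apply, hBaE, hE1E1,
        horth i2 i1 h12.symm _ (haD i2) _ (hE1m i1)]
      ring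
    by_cases hj1 : j = i1
    · rw [hj1] at hj
      have h7 : a i2 ∈ D i1 := by
        have := (D i1).sub_mem ((D i1).add_mem hj (hE1m i1)) (haD i1)
        have e' : a i1 + a i2 - E1 i1 + E1 i1 - a i1 = a i2 := by abel
        rwa [e'] at this
      exact ha0 i2 (hdisj i1 i2 h12 _ h7 (haD i2))
    · have h7 := horth j i1 hj1 _ hj _ (hE1m i1)
      rw [hBj] at h7
      exact one_ne_zero h7

end

end Cfsg.Agent.Lib.Helper94_OrthC2Small
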