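import Mathlib
import Cfsg.Prelude.Def_GeometricClasses
import Cfsg.Agent.Lib.Helper94_OrthReflBridge
import Cfsg.Agent.Lib.Helper94_OrthDouble

set_option autoImplicit false

/-!
Prelude-level statement: in `Ω(Q)`, `Q` a non-degenerate quadratic form of minus type on `ι → F`
over a finite field, of dimension at least thirteen, the stabiliser of a non-degenerate subspace
of even dimension `n / 2` is maximal (helper94).
-/

namespace Cfsg.Agent.Lib.Helper94_OrthDoubleBridge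

open Matrix Module Cfsg.Agent.Lib.Helper94_Symp Cfsg.Agent.Lib.Helper94_Bridge
  Cfsg.Agent.Lib.Helper94_SLBridge
  Cfsg.Agent.Lib.Helper94_OrthSmall Cfsg.Agent.Lib.Helper94_OrthBridge
  Cfsg.Agent.Lib.Helper94_OrthSiegel Cfsg.Agent.Lib.Helper94_OrthSiegel2
  Cfsg.Agent.Lib.Helper94_OrthGenBridge Cfsg.Agent.Lib.Helper94_OrthFinal
  Cfsg.Agent.Lib.Helper94_OrthNondeg Cfsg.Agent.Lib.Helper94_OrthRefl
  Cfsg.Agent.Lib.Helper94_OrthDouble
  Cfsg.Agent.Lib.Helper14_Siegel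

variable {ι : Type} [Fintype ι] [DecidableEq ι] {F : Type*} [Field F] [Fintype F]

theorem nondeg_maximal_equal (Q : (ι → F) → F) (hQ : Cfsg.Geo.IsNondegenerateQuadraticForm Q)
    (hc2 : (2 : F) = 0 →
      commutator ↥(Cfsg.isometryGroup F (⇑(qfOf Q hQ))) ≤ siegelGroup (qfOf Q hQ))
    (hn : 13 ≤ Fintype.card ι) (hminus : ¬ Cfsg.Geo.IsPlusTypeOn Q ⊤)
    (W : Submodule F (ι → F)) (hd : 2 * finrank F W = Fintype.card ι)
    (hev : Even (finrank F W))
    (hW : Cfsg.Geo.IsNondegenerateOn (QuadraticMap.polar Q) W) :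
    Cfsg.Geo.IsMaximalIn (Cfsg.Geo.omegaGL Q)
      (Cfsg.Geo.subspaceStabilizer W ⊓ Cfsg.Geo.omegaGL Q) := by
  classical
  have hfrV : finrank F (ι → F) = Fintype.card ι := Module.finrank_pi F
  have hQs := gen_hQs Q hQ
  have hQp := gen_hQp Q hQ
  have hN := gen_hN Q hQ
  have hsymm := B_symm Q (polarForm Q hQ) hQp
  have hR : (polarForm Q hQ).IsRefl := B_isRefl Q (polarForm Q hQ) hQp
  have hWnd : ∀ a ∈ W, a ≠ 0 → ∃ x ∈ W, polarForm Q hQ x a ≠ 0 := fun a ha ha0 => by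
    obtain ⟨x, hx, hxa⟩ := (hW a ha ha0).1
    exact ⟨x, hx, hxa⟩
  have hdisj : W ⊓ (polarForm Q hQ).orthogonal W = ⊥ := by
    rw [eq_bot_iff]
    intro x hx
    obtain ⟨hx1, hx2⟩ := Submodule.mem_inf.mp hx
    by_contra hx0
    obtain ⟨y, hy, hyx⟩ := hWnd x hx1 hx0
    exact hyx ((mem_orth _).mp hx2 y hy)
  have hcompl : IsCompl W ((polarForm Q hQ).orthogonal W) :=
    (LinearMap.BilinForm.isCompl_orthogonal_iff_disjoint hR).mpr (disjoint_iff.mpr hdisj)
  have hsup : W ⊔ (polarForm Q hQ).orthogonal W = ⊤ := hcompl.sup_eq_top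
  have hfr' : finrank F ((polarForm Q hQ).orthogonal W) = finrank F (ι → F) - finrank F W :=
    LinearMap.BilinForm.finrank_orthogonal hN W
  have hWW' : ∀ a ∈ W, ∀ a' ∈ (polarForm Q hQ).orthogonal W, polarForm Q hQ a a' = 0 :=
    fun a ha a' ha' => (mem_orth _).mp ha' a ha
  have hW'W : ∀ a ∈ (polarForm Q hQ).orthogonal W, ∀ a' ∈ W, polarForm Q hQ a a' = 0 :=
    fun a ha a' ha' => by rw [hsymm]; exact hWW' a' ha' a ha
  have hsup' : (polarForm Q hQ).orthogonal W ⊔ W = ⊤ := by rw [sup_comm]; exact hsup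
  have hG1 : ⁅oG Q, oG Q⁆ ≤ oG Q := Subgroup.commutator_le_self _
  have hG2 : ∀ u z, Q u = 0 → polarForm Q hQ u z = 0 →
      sieg Q (polarForm Q hQ) u z ∈ ⁅oG Q, oG Q⁆ := fun u z hu huz =>
    sieg_mem_commutator' Q _ hQs hQp hN (by rw [hfrV]; omega) hu huz
  have hG3 := gen_hG3 Q hQ hc2 (by omega)
  rw [subspaceStabilizer_eq, omegaGL_eq, ← Subgroup.comap_inf]
  apply isMaximalIn_comap
  apply maximal_stab_nondeg hQs hQp hN _ hG1 hG2 hG3 _ W hW'W hsup'
    (by rw [hfr', hfrV]; omega) (by omega)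
  intro g hg hcon
  obtain ⟨T, hT, hTfr⟩ := exists_ts_double hQs hQp hg W hev hWnd
    (fun a ha a' ha' => hWW' a ha (g a') (hcon a' ha'))
  apply hminus
  exact ⟨T, le_top, hT, by rw [hTfr, finrank_top, hfrV]; exact hd⟩

end Cfsg.Agent.Lib.Helper94_OrthDoubleBridge
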