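import Mathlib
import Cfsg.Agent.Lib.Helper94_OrthTS

set_option autoImplicit false

/-!
Orthogonal groups: the stabiliser of a pair `{U, U'}` of complementary totally singular subspaces
of even dimension at least six is maximal (sharpening of `Helper94_OrthTS`, where the bound was
eight; the only change is a better proof of the key claim) (helper94).
-/

namespace Cfsg.Agent.Lib.Helper94_OrthTS6

open Module Cfsg.Agent.Lib.Helper94_Symp Cfsg.Agent.Lib.Helper94_OrthSmall
  Cfsg.Agent.Lib.Helper94_OrthSiegel Cfsg.Agent.Lib.Helper94_OrthSiegel2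
  Cfsg.Agent.Lib.Helper94_OrthPara Cfsg.Agent.Lib.Helper94_OrthVec
  Cfsg.Agent.Lib.Helper94_OrthNondeg Cfsg.Agent.Lib.Helper94_OrthTS

variable {F V : Type*} [Field F] [AddCommGroup V] [Module F V]

section Key

variable [Finite F] [FiniteDimensional F V] {Q : V → F} {B : LinearMap.BilinForm F V}
  (hQs : ∀ (c : F) (v : V), Q (c • v) = c * c * Q v)
  (hQp : ∀ u v : V, Q (u + v) = Q u + Q v + B u v)

include hQs hQp in
/-- One half of the key claim: if `T` contains `x1 + x1'` with `x1 ∉ F u`, then `T` contains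
`U ∩ u'^⊥ ∩ x1'^⊥`. -/
lemma key_half {U U' : Submodule F V} (P : TSPair Q B U U') (h5 : 5 ≤ finrank F U)
    (T : Submodule F V) {u u' : V} (hu : u ∈ U)
    (hinv : ∀ c ∈ U, ∀ d ∈ U', B c d = 0 → B c u' = 0 → B u d = 0 →
      ∀ t ∈ T, sieg Q B c d t ∈ T)
    {x1 x1' : V} (hx1 : x1 ∈ U) (hx1' : x1' ∈ U') (ht1 : x1 + x1' ∈ T)
    (hx1u : x1 ∉ Submodule.span F {u}) :
    ∀ c ∈ U, B c u' = 0 → B c x1' = 0 → c ∈ T := by
  have hsymm := B_symm Q B hQp
  have hA : ∀ c ∈ U, B c u' = 0 → B c x1' = 0 → x1 ∉ Submodule.span F {u, c} → c ∈ T := by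
    intro c hc hcu' hcx1' hn
    have hE : Submodule.span F {u, c} ≤ U := by
      rw [Submodule.span_le]
      intro x hx
      rcases hx with rfl | rfl
      · exact hu
      · exact hc
    obtain ⟨d1, hd1, hd1E, hx1d1⟩ := P.sep hQp _ hE hx1 hn
    have hud1 : B u d1 = 0 := hd1E u (Submodule.subset_span (by simp))
    have hcd1 : B c d1 = 0 := hd1E c (Submodule.subset_span (by simp))
    have h3 := hinv c hc d1 hd1 hcd1 hcu' hud1 _ ht1
    rw [sieg_apply Q B hQs hQp (P.qU c hc) hcd1, P.qU' d1 hd1] at h3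
    have e1 : B (x1 + x1') c = 0 := by
      rw [map_add, LinearMap.add_apply, P.tiU hQp x1 hx1 c hc, zero_add, hsymm, hcx1']
    have e2 : B (x1 + x1') d1 = B x1 d1 := by
      rw [map_add, LinearMap.add_apply, P.tiU' hQp x1' hx1' d1 hd1, add_zero]
    rw [e1, e2] at h3
    have h4 := T.sub_mem ht1 h3
    have e3 : x1 + x1' - (x1 + x1' + (0 : F) • d1 - B x1 d1 • c - (0 * 0 : F) • c) =
        B x1 d1 • c := by module
    rw [e3] at h4
    have h5 := T.smul_mem (B x1 d1)⁻¹ h4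
    rwa [smul_smul, inv_mul_cancel₀ hx1d1, one_smul] at h5
  intro c hc hcu' hcx1'
  by_cases hn : x1 ∈ Submodule.span F {u, c}
  · obtain ⟨α', β', hαβ'⟩ := Submodule.mem_span_pair.mp hn
    have hβ' : β' ≠ 0 := by
      intro h
      apply hx1u
      rw [Submodule.mem_span_singleton]
      exact ⟨α', by rw [← hαβ', h, zero_smul, add_zero]⟩
    have hcS : c ∈ Submodule.span F {u, x1} := by
      rw [Submodule.mem_span_pair]
      refine ⟨-(β'⁻¹ * α'), β'⁻¹, ?_⟩
      rw [← hαβ', smul_add, smul_smul, smul_smul, inv_mul_cancel₀ hβ', one_smul]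
      module
    have hf1 := finrank_le_inf_ker_add_one U (B.flip u')
    have hf2 := finrank_le_inf_ker_add_one (U ⊓ LinearMap.ker (B.flip u')) (B.flip x1')
    have hf4 := finrank_span_two_le (F := F) u x1
    obtain ⟨c0, hc0C, hc0E⟩ : ∃ c0 ∈ (U ⊓ LinearMap.ker (B.flip u') ⊓
        LinearMap.ker (B.flip x1') : Submodule F V), c0 ∉ Submodule.span F {u, x1} := by
      by_contra hcon
      push Not at hcon
      have := Submodule.finrank_mono (show (U ⊓ LinearMap.ker (B.flip u') ⊓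
        LinearMap.ker (B.flip x1') : Submodule F V) ≤ Submodule.span F {u, x1} from hcon)
      omega
    have hc0U : c0 ∈ U := hc0C.1.1
    have hc0u' : B c0 u' = 0 := mem_ker_flip.mp hc0C.1.2
    have hc0x1' : B c0 x1' = 0 := mem_ker_flip.mp hc0C.2
    have hgen : ∀ w ∈ U, w ∉ Submodule.span F {u, x1} → x1 ∉ Submodule.span F {u, w} := by
      intro w _ hw h
      obtain ⟨α, β, hαβ⟩ := Submodule.mem_span_pair.mp h
      have hβ : β ≠ 0 := by
        intro h0
        apply hx1u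
        rw [Submodule.mem_span_singleton]
        exact ⟨α, by rw [← hαβ, h0, zero_smul, add_zero]⟩
      apply hw
      rw [Submodule.mem_span_pair]
      refine ⟨-(β⁻¹ * α), β⁻¹, ?_⟩
      rw [← hαβ, smul_add, smul_smul, smul_smul, inv_mul_cancel₀ hβ, one_smul]
      module
    have h1 : c0 ∈ T := hA c0 hc0U hc0u' hc0x1' (hgen c0 hc0U hc0E)
    have hsumE : c + c0 ∉ Submodule.span F {u, x1} := by
      intro h
      apply hc0E
      have := (Submodule.span F {u, x1}).sub_mem h hcS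
      rwa [add_sub_cancel_left] at this
    have h2 : c + c0 ∈ T := hA (c + c0) (U.add_mem hc hc0U)
      (by rw [map_add, LinearMap.add_apply, hcu', hc0u', add_zero])
      (by rw [map_add, LinearMap.add_apply, hcx1', hc0x1', add_zero])
      (hgen (c + c0) (U.add_mem hc hc0U) hsumE)
    have := T.sub_mem h2 h1
    rwa [add_sub_cancel_right] at this
  · exact hA c hc hcu' hcx1' hn

include hQs hQp in
/-- A totally isotropic subspace containing `u ∈ U`, `u' ∈ U'` and invariant under the Siegel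
elements of the pair fixing `u` and `u'` lies in `F u + U'` or in `F u' + U`. -/
lemma key_claim5 {U U' : Submodule F V} (P : TSPair Q B U U') (h5 : 5 ≤ finrank F U)
    (h5' : 5 ≤ finrank F U')
    (T : Submodule F V) (hT : ∀ t1 ∈ T, ∀ t2 ∈ T, B t1 t2 = 0)
    {u u' : V} (hu : u ∈ U) (hu' : u' ∈ U') (huT : u ∈ T) (hu'T : u' ∈ T)
    (hinv : ∀ c ∈ U, ∀ d ∈ U', B c d = 0 → B c u' = 0 → B u d = 0 →
      ∀ t ∈ T, sieg Q B c d t ∈ T) :
    (∀ t ∈ T, InT B U' u t) ∨ (∀ t ∈ T, InT B U u' t) := by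
  have hsymm := B_symm Q B hQp
  by_contra hcon
  push Not at hcon
  obtain ⟨⟨t1, ht1, hn1⟩, ⟨t2, ht2, hn2⟩⟩ := hcon
  obtain ⟨x1, hx1, x1', hx1', ht1e⟩ := P.dec t1
  obtain ⟨x2, hx2, x2', hx2', ht2e⟩ := P.dec t2
  have h1 : B x1' u = 0 := by
    have := hT t1 ht1 u huT
    rw [← ht1e, map_add, LinearMap.add_apply, P.tiU hQp x1 hx1 u hu, zero_add] at this
    exact this
  have h2 : B x2 u' = 0 := by
    have := hT t2 ht2 u' hu'T
    rw [← ht2e, map_add, LinearMap.add_apply, P.tiU' hQp x2' hx2' u' hu', add_zero] at this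
    exact this
  have hx1u : x1 ∉ Submodule.span F {u} := by
    intro h
    obtain ⟨α, rfl⟩ := Submodule.mem_span_singleton.mp h
    exact hn1 ⟨α, x1', hx1', h1, ht1e.symm⟩
  have hx2u' : x2' ∉ Submodule.span F {u'} := by
    intro h
    obtain ⟨α, rfl⟩ := Submodule.mem_span_singleton.mp h
    exact hn2 ⟨α, x2, hx2, h2, by rw [← ht2e, add_comm]⟩
  have hinv' : ∀ c ∈ U', ∀ d ∈ U, B c d = 0 → B c u = 0 → B u' d = 0 →
      ∀ t ∈ T, sieg Q B c d t ∈ T := by
    intro c hc d hd hcd hcu hu'd t ht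
    have hdc : B d c = 0 := by rw [hsymm, hcd]
    rw [sieg_swap hQs hQp (P.qU d hd) (P.qU' c hc) hdc]
    exact hinv d hd (-c) (U'.neg_mem hc) (by rw [map_neg, hdc, neg_zero])
      (by rw [hsymm, hu'd]) (by rw [map_neg, hsymm, hcu, neg_zero]) t ht
  have hC1 := key_half hQs hQp P h5 T hu hinv hx1 hx1' (ht1e ▸ ht1) hx1u
  have hC2 := key_half hQs hQp P.symm h5' T hu' hinv' hx2' hx2
    (by rw [add_comm, ht2e]; exact ht2) hx2u'
  have hf1 := finrank_le_inf_ker_add_one U (B.flip u')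
  have hf2 := finrank_le_inf_ker_add_one (U ⊓ LinearMap.ker (B.flip u')) (B.flip x1')
  have hf4 := finrank_span_two_le (F := F) u x2
  obtain ⟨c, hcC, hcE⟩ : ∃ c ∈ (U ⊓ LinearMap.ker (B.flip u') ⊓
      LinearMap.ker (B.flip x1') : Submodule F V), c ∉ Submodule.span F {u, x2} := by
    by_contra hcon
    push Not at hcon
    have := Submodule.finrank_mono (show (U ⊓ LinearMap.ker (B.flip u') ⊓
      LinearMap.ker (B.flip x1') : Submodule F V) ≤ Submodule.span F {u, x2} from hcon)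
    omega
  have hcU : c ∈ U := hcC.1.1
  have hE2 : Submodule.span F {u, x2} ≤ U := by
    rw [Submodule.span_le]
    intro x hx
    rcases hx with rfl | rfl
    · exact hu
    · exact hx2
  obtain ⟨d, hd, hdE, hcd⟩ := P.sep hQp _ hE2 hcU hcE
  have hcT : c ∈ T := hC1 c hcU (mem_ker_flip.mp hcC.1.2) (mem_ker_flip.mp hcC.2)
  have hdT : d ∈ T := hC2 d hd (by rw [hsymm]; exact hdE u (Submodule.subset_span (by simp)))
    (by rw [hsymm]; exact hdE x2 (Submodule.subset_span (by simp)))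
  exact hcd (hT c hcT d hdT)

end Key

section Like

variable [Finite F] [FiniteDimensional F V] {Q : V → F} {B : LinearMap.BilinForm F V}
  (hQs : ∀ (c : F) (v : V), Q (c • v) = c * c * Q v)
  (hQp : ∀ u v : V, Q (u + v) = Q u + Q v + B u v)

include hQs hQp in
/-- Step A: every nonzero vector of `U` is `U`-like or `U'`-like. -/
lemma like_cases5 {U U' : Submodule F V} (P : TSPair Q B U U') (h7 : 5 ≤ finrank F U)
    (h7' : 5 ≤ finrank F U')
    {M : Subgroup (V ≃ₗ[F] V)} (hHE : HE Q B M U U') (hMO : M ≤ oG Q)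
    (hZU : ∀ a ∈ U, a ≠ 0 → ∀ z, InZ Q B M a z → InT B U' a z)
    (hZU' : ∀ b ∈ U', b ≠ 0 → ∀ z, InZ Q B M b z → InT B U b z)
    {m : V ≃ₗ[F] V} (hmM : m ∈ M) {a : V} (ha : a ∈ U) (ha0 : a ≠ 0) :
    LikeW B U' U U' m a ∨ LikeW B U' U' U m a := by
  have hsymm := B_symm Q B hQp
  have hmO := hMO hmM
  have hQa := P.qU a ha
  have hTZ : ∀ t, InT B U' a t → InZ Q B M a t := by
    rintro t ⟨α, y, hy, hya, rfl⟩
    have hay : B a y = 0 := by rw [hsymm, hya]
    exact InZ_add hQs hQp hQa (InZ_smul α (InZ_self hQs hQp hQa))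
      ⟨hay, fun s => hHE a ha (s • y) (U'.smul_mem s hy) (by rw [map_smul, hay, smul_zero])⟩
  obtain ⟨p, hpm⟩ : ∃ p, m a = p := ⟨_, rfl⟩
  have hmT : ∀ t, InT B U' a t → InZ Q B M p (m t) := fun t ht => by
    have := InZ_map hQs hQp hmM hmO hQa (hTZ t ht)
    rwa [hpm] at this
  have hQp' : Q p = 0 := by rw [← hpm, hmO, hQa]
  have hp0 : p ≠ 0 := by
    intro h
    apply ha0
    rw [h] at hpm
    exact (LinearEquiv.map_eq_zero_iff m).mp hpm
  have hap : m⁻¹ p = a := by rw [← hpm, inv_apply_apply']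
  obtain ⟨u, hu, u', hu', hp⟩ := P.dec p
  by_cases hu'0 : u' = 0
  · left
    have hpu : p = u := by rw [← hp, hu'0, add_zero]
    exact ⟨p, hpu ▸ hu, hp0, fun t ht => hZU p (hpu ▸ hu) hp0 _ (hmT t ht)⟩
  by_cases hu0 : u = 0
  · right
    have hpu : p = u' := by rw [← hp, hu0, zero_add]
    exact ⟨p, hpu ▸ hu', hp0, fun t ht => hZU' p (hpu ▸ hu') hp0 _ (hmT t ht)⟩
  have huu' : B u u' = 0 := by
    have := hQp u u'
    rw [hp, hQp', P.qU u hu, P.qU' u' hu'] at this
    linear_combination -this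
  have hu'u : B u' u = 0 := by rw [hsymm, huu']
  let T : Submodule F V :=
    { carrier := {z | InZ Q B M p z}
      add_mem' := fun h1 h2 => InZ_add hQs hQp hQp' h1 h2
      zero_mem' := InZ_zero hQs hQp hQp'
      smul_mem' := fun c _ h => InZ_smul c h }
  have hTmem : ∀ z, z ∈ T ↔ InZ Q B M p z := fun z => Iff.rfl
  have hTiso : ∀ t1 ∈ T, ∀ t2 ∈ T, B t1 t2 = 0 := by
    intro t1 ht1 t2 ht2
    have hiO : m⁻¹ ∈ oG Q := (oG Q).inv_mem hmO
    have h1 := InZ_map hQs hQp (M.inv_mem hmM) hiO hQp' ((hTmem t1).mp ht1)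
    have h2 := InZ_map hQs hQp (M.inv_mem hmM) hiO hQp' ((hTmem t2).mp ht2)
    rw [hap] at h1 h2
    have h3 := hZU a ha ha0 _ h1
    have h4 := hZU a ha ha0 _ h2
    have h5 := InT_iso hQs hQp (P.tiU' hQp) hQa h3 h4
    rwa [oG_B Q B hQp hiO] at h5
  have hpu : B p u = 0 := by
    rw [← hp, map_add, LinearMap.add_apply, P.tiU hQp u hu u hu, zero_add, hu'u]
  have hpu' : B p u' = 0 := by
    rw [← hp, map_add, LinearMap.add_apply, P.tiU' hQp u' hu' u' hu', add_zero, huu']
  have huT : u ∈ T := by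
    rw [hTmem]
    refine ⟨hpu, fun t => ?_⟩
    have e : sieg Q B p (t • u) = sieg Q B u' (t • u) := by
      ext x
      rw [sieg_apply Q B hQs hQp hQp' (by rw [map_smul, hpu, smul_zero]),
        sieg_apply Q B hQs hQp (P.qU' u' hu') (by rw [map_smul, hu'u, smul_zero]),
        hQs, P.qU u hu, ← hp]
      simp only [map_add, map_smul, smul_eq_mul]
      module
    rw [e]
    exact (HE.symm hQs hQp P hHE) u' hu' (t • u) (U.smul_mem t hu)
      (by rw [map_smul, hu'u, smul_zero])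
  have hu'T : u' ∈ T := by
    rw [hTmem]
    refine ⟨hpu', fun t => ?_⟩
    have e : sieg Q B p (t • u') = sieg Q B u (t • u') := by
      ext x
      rw [sieg_apply Q B hQs hQp hQp' (by rw [map_smul, hpu', smul_zero]),
        sieg_apply Q B hQs hQp (P.qU u hu) (by rw [map_smul, huu', smul_zero]),
        hQs, P.qU' u' hu', ← hp]
      simp only [map_add, map_smul, smul_eq_mul]
      module
    rw [e]
    exact hHE u hu (t • u') (U'.smul_mem t hu') (by rw [map_smul, huu', smul_zero])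
  have hinv : ∀ c ∈ U, ∀ d ∈ U', B c d = 0 → B c u' = 0 → B u d = 0 →
      ∀ t ∈ T, sieg Q B c d t ∈ T := by
    intro c hc d hd hcd hcu' hud t ht
    have hgM := hHE c hc d hd hcd
    have hgO := hMO hgM
    have e1 : B p c = 0 := by
      rw [← hp, map_add, LinearMap.add_apply, P.tiU hQp u hu c hc, hsymm u' c, hcu', add_zero]
    have e2 : B p d = 0 := by
      rw [← hp, map_add, LinearMap.add_apply, hud, P.tiU' hQp u' hu' d hd, add_zero]
    have hfix : sieg Q B c d p = p := by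
      rw [sieg_apply Q B hQs hQp (P.qU c hc) hcd, e1, e2]
      simp
    have := InZ_map hQs hQp hgM hgO hQp' ((hTmem t).mp ht)
    rw [hfix] at this
    exact (hTmem _).mpr this
  rcases key_claim5 hQs hQp P h7 h7' T hTiso hu hu' huT hu'T hinv with h | h
  · left
    exact ⟨u, hu, hu0, fun t ht => h _ ((hTmem _).mpr (hmT t ht))⟩
  · right
    exact ⟨u', hu', hu'0, fun t ht => h _ ((hTmem _).mpr (hmT t ht))⟩


include hQs hQp in
/-- In the small case every element of `M` maps `U'` into `U'` or into `U`. -/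
lemma map_U'_of_small5 {U U' : Submodule F V} (P : TSPair Q B U U') (h7 : 5 ≤ finrank F U)
    (h7' : 5 ≤ finrank F U')
    {M : Subgroup (V ≃ₗ[F] V)} (hHE : HE Q B M U U') (hMO : M ≤ oG Q)
    (hZU : ∀ a ∈ U, a ≠ 0 → ∀ z, InZ Q B M a z → InT B U' a z)
    (hZU' : ∀ b ∈ U', b ≠ 0 → ∀ z, InZ Q B M b z → InT B U b z)
    {m : V ≃ₗ[F] V} (hmM : m ∈ M) :
    (∀ y ∈ U', m y ∈ U') ∨ (∀ y ∈ U', m y ∈ U) := by
  have hmO := hMO hmM
  have hA : ∀ a ∈ U, a ≠ 0 → LikeW B U' U U' m a ∨ LikeW B U' U' U m a := fun a ha ha0 =>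
    like_cases5 hQs hQp P h7 h7' hHE hMO hZU hZU' hmM ha ha0
  by_cases hall : ∀ a ∈ U, a ≠ 0 → LikeW B U' U U' m a
  · left
    exact map_mem_of_like hQs hQp P P (by omega) hmO hall
  · right
    push Not at hall
    obtain ⟨a1, ha1, ha10, hna1⟩ := hall
    apply map_mem_of_like hQs hQp P P.symm (by omega) hmO
    intro a ha ha0
    rcases hA a ha ha0 with h | h
    · exfalso
      obtain ⟨c1, hc1, -, h1⟩ := h
      rcases hA a1 ha1 ha10 with h' | h'
      · exact hna1 h'
      · obtain ⟨c2, hc2, -, h2⟩ := h'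
        exact not_mixed hQp P (by omega) hc1 hc2 h1 h2
    · exact h


end Like

section Final

variable [Finite F] [FiniteDimensional F V] {Q : V → F} {B : LinearMap.BilinForm F V}
  (hQs : ∀ (c : F) (v : V), Q (c • v) = c * c * Q v)
  (hQp : ∀ u v : V, Q (u + v) = Q u + Q v + B u v)

include hQs hQp in
/-- **Maximality of the stabiliser of a pair of complementary totally singular subspaces** of even
dimension at least six, in a group `G` of isometries containing and generated by the Siegel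
elements. -/
theorem maximal_tspair5 (hN : B.Nondegenerate) (G : Subgroup (V ≃ₗ[F] V)) (hG1 : G ≤ oG Q)
    (hG2 : ∀ u z, Q u = 0 → B u z = 0 → sieg Q B u z ∈ G)
    (hG3 : ∀ M : Subgroup (V ≃ₗ[F] V),
      (∀ u z, Q u = 0 → B u z = 0 → sieg Q B u z ∈ M) → G ≤ M)
    (k : ℕ) (hk : 5 ≤ k) (hke : Even k) (D : Fin 2 → Submodule F V)
    (hfr : ∀ i, finrank F (D i) = k) (hsup : iSup D = ⊤) (hts : ∀ i, ∀ u ∈ D i, Q u = 0)
    (S : Subgroup (V ≃ₗ[F] V))
    (hS : ∀ g, g ∈ S ↔ ∃ σ : Equiv.Perm (Fin 2), ∀ i, (D i).map (g : V →ₗ[F] V) = D (σ i)) :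
    (S ⊓ G < G) ∧
      ∀ M : Subgroup (V ≃ₗ[F] V), S ⊓ G ≤ M → M ≤ G → M = S ⊓ G ∨ M = G := by
  classical
  have hsymm := B_symm Q B hQp
  have hsup' : D 0 ⊔ D 1 = ⊤ := by
    rw [eq_top_iff, ← hsup]
    apply iSup_le
    intro i
    fin_cases i
    · exact le_sup_left
    · exact le_sup_right
  have P : TSPair Q B (D 0) (D 1) := ⟨hts 0, hts 1, hsup', hN⟩
  have hbot := P.inf_eq_bot hQp
  have hkU : 5 ≤ finrank F (D 0) := by rw [hfr]; exact hk
  have hkU' : 5 ≤ finrank F (D 1) := by rw [hfr]; exact hk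
  have hmapeq : ∀ (g : V ≃ₗ[F] V) (W W' : Submodule F V), finrank F W = finrank F W' →
      (∀ v ∈ W, g v ∈ W') → W.map (g : V →ₗ[F] V) = W' := by
    intro g W W' hf h
    apply Submodule.eq_of_le_of_finrank_eq
    · rintro _ ⟨v, hv, rfl⟩
      exact h v hv
    · rw [LinearEquiv.finrank_map_eq g W]
      exact hf
  have hS0 : ∀ g : V ≃ₗ[F] V, (∀ u ∈ D 0, g u ∈ D 0) → (∀ y ∈ D 1, g y ∈ D 1) → g ∈ S := by
    intro g h h'
    rw [hS]
    refine ⟨1, ?_⟩
    intro i
    fin_cases i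
    · exact hmapeq g _ _ rfl h
    · exact hmapeq g _ _ rfl h'
  have hS1 : ∀ g : V ≃ₗ[F] V, (∀ u ∈ D 0, g u ∈ D 1) → (∀ y ∈ D 1, g y ∈ D 0) → g ∈ S := by
    intro g h h'
    rw [hS]
    refine ⟨Equiv.swap 0 1, ?_⟩
    intro i
    fin_cases i
    · simp only [Fin.zero_eta, Equiv.swap_apply_left]
      exact hmapeq g _ _ (by rw [hfr, hfr]) h
    · simp only [Fin.mk_one, Equiv.swap_apply_right]
      exact hmapeq g _ _ (by rw [hfr, hfr]) h'
  obtain ⟨r, hr⟩ := hke
  obtain ⟨s, hsall, hsU, hsU', -⟩ := exists_swap_aux hQs hQp r (D 0) (D 1)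
    (by rw [hfr, hr]; ring) (hts 0) (hts 1) (P.pairU hQp) (P.symm.pairU hQp)
  have hsS : s ∈ S := hS1 s hsU hsU'
  have hsG : s ∈ G := hsall G hG2
  have hHEall : ∀ M : Subgroup (V ≃ₗ[F] V), S ⊓ G ≤ M → HE Q B M (D 0) (D 1) := by
    intro M hM c hc d hd hcd
    apply hM
    obtain ⟨h1, h2⟩ := sieg_pair_mem hQs hQp P hc hd hcd
    exact ⟨hS0 _ h1 h2, hG2 c d (P.qU c hc) hcd⟩
  constructor
  · refine lt_of_le_of_ne inf_le_right ?_
    intro heq
    obtain ⟨c, hc, hc0⟩ : ∃ c ∈ D 1, c ≠ 0 := by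
      apply Submodule.exists_mem_ne_zero_of_ne_bot
      intro h
      rw [h, finrank_bot] at hkU'
      omega
    obtain ⟨d, hd, hdn⟩ : ∃ d ∈ D 1, d ∉ Submodule.span F {c} := by
      by_contra hcon2
      push Not at hcon2
      have h8 := Submodule.finrank_mono (show D 1 ≤ Submodule.span F {c} from hcon2)
      have h9 := finrank_span_singleton (K := F) hc0
      omega
    obtain ⟨x, hx, hxE, hdx⟩ := P.symm.sep hQp (Submodule.span F {c})
      (by rw [Submodule.span_le]; intro x hx; rw [Set.mem_singleton_iff.mp hx]; exact hc) hd hdn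
    have hcx : B c x = 0 := hxE c (Submodule.mem_span_singleton_self c)
    have hcd : B c d = 0 := P.tiU' hQp c hc d hd
    have hx0 : x ≠ 0 := by
      intro h
      apply hdx
      rw [h, map_zero]
    have hg : sieg Q B c d ∈ S := by
      have : sieg Q B c d ∈ S ⊓ G := by
        rw [heq]
        exact hG2 c d (P.qU' c hc) hcd
      exact this.1
    rw [hS] at hg
    obtain ⟨σ, hσ⟩ := hg
    have hmem : sieg Q B c d x ∈ D (σ 0) := by
      rw [← hσ 0]
      exact ⟨x, hx, rfl⟩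
    rw [sieg_apply Q B hQs hQp (P.qU' c hc) hcd, hsymm x c, hcx] at hmem
    have e : x + (0 : F) • d - B x d • c - (Q d * 0) • c = x - B x d • c := by
      rw [zero_smul, mul_zero, zero_smul, add_zero, sub_zero]
    rw [e] at hmem
    have hxd : B x d ≠ 0 := by rw [hsymm]; exact hdx
    have h01 : ∀ j : Fin 2, j = 0 ∨ j = 1 := by decide
    rcases h01 (σ 0) with h | h
    · rw [h] at hmem
      have h1 : B x d • c ∈ D 0 := by
        have := (D 0).sub_mem hx hmem
        rwa [sub_sub_cancel] at this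
      have h3 : c ∈ D 0 := by
        have := (D 0).smul_mem (B x d)⁻¹ h1
        rwa [smul_smul, inv_mul_cancel₀ hxd, one_smul] at this
      have : c ∈ (D 0 ⊓ D 1 : Submodule F V) := ⟨h3, hc⟩
      rw [hbot, Submodule.mem_bot] at this
      exact hc0 this
    · rw [h] at hmem
      have h1 : x ∈ D 1 := by
        have := (D 1).add_mem hmem ((D 1).smul_mem (B x d) hc)
        rwa [sub_add_cancel] at this
      have : x ∈ (D 0 ⊓ D 1 : Submodule F V) := ⟨hx, h1⟩
      rw [hbot, Submodule.mem_bot] at this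
      exact hx0 this
  · intro M hSM hMG
    have hMO : M ≤ oG Q := hMG.trans hG1
    have hHE := hHEall M hSM
    have hsM : s ∈ M := hSM ⟨hsS, hsG⟩
    by_cases hZ : (∀ a ∈ D 0, a ≠ 0 → ∀ z, InZ Q B M a z → InT B (D 1) a z) ∧
        (∀ b ∈ D 1, b ≠ 0 → ∀ z, InZ Q B M b z → InT B (D 0) b z)
    · left
      obtain ⟨hZU, hZU'⟩ := hZ
      apply le_antisymm _ hSM
      intro m hmM
      refine ⟨?_, hMG hmM⟩
      have hsurj : ∀ x : V, ∃ a ∈ D 0, ∃ a' ∈ D 1, m a + m a' = x := by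
        intro x
        obtain ⟨a, ha, a', ha', haa'⟩ := P.dec (m⁻¹ x)
        refine ⟨a, ha, a', ha', ?_⟩
        rw [← map_add, haa', apply_inv_apply']
      obtain ⟨c, hc, hc0⟩ : ∃ c ∈ D 1, c ≠ 0 := by
        apply Submodule.exists_mem_ne_zero_of_ne_bot
        intro h
        rw [h, finrank_bot] at hkU'
        omega
      obtain ⟨c', hc', hc'0⟩ : ∃ c ∈ D 0, c ≠ 0 := by
        apply Submodule.exists_mem_ne_zero_of_ne_bot
        intro h
        rw [h, finrank_bot] at hkU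
        omega
      rcases map_U'_of_small5 hQs hQp P hkU hkU' hHE hMO hZU hZU' hmM with h1 | h1
      · rcases map_U'_of_small5 hQs hQp P.symm hkU' hkU (HE.symm hQs hQp P hHE) hMO hZU' hZU hmM
          with h2 | h2
        · exact hS0 m h2 h1
        · exfalso
          obtain ⟨a, ha, a', ha', haa'⟩ := hsurj c'
          have : c' ∈ (D 0 ⊓ D 1 : Submodule F V) :=
            ⟨hc', haa' ▸ (D 1).add_mem (h2 a ha) (h1 a' ha')⟩
          rw [hbot, Submodule.mem_bot] at this
          exact hc'0 this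
      · rcases map_U'_of_small5 hQs hQp P.symm hkU' hkU (HE.symm hQs hQp P hHE) hMO hZU' hZU hmM
          with h2 | h2
        · exfalso
          obtain ⟨a, ha, a', ha', haa'⟩ := hsurj c
          have : c ∈ (D 0 ⊓ D 1 : Submodule F V) :=
            ⟨haa' ▸ (D 0).add_mem (h2 a ha) (h1 a' ha'), hc⟩
          rw [hbot, Submodule.mem_bot] at this
          exact hc0 this
        · exact hS1 m h2 h1
    · right
      apply le_antisymm hMG
      apply hG3
      rw [not_and_or] at hZ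
      rcases hZ with h | h
      · push Not at h
        obtain ⟨a, ha, ha0, z, hz, hzT⟩ := h
        have hfull := full_of_notInT hQs hQp P hHE hMO ha hz hzT
        exact all_of_full' hQs hQp P hHE hMO hsM hsU hsU' ha ha0 ⟨P.qU a ha, hfull⟩
      · push Not at h
        obtain ⟨b, hb, hb0, z, hz, hzT⟩ := h
        have hHE' := HE.symm hQs hQp P hHE
        have hfull := full_of_notInT hQs hQp P.symm hHE' hMO hb hz hzT
        exact all_of_full' hQs hQp P.symm hHE' hMO hsM hsU' hsU hb hb0 ⟨P.qU' b hb, hfull⟩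


end Final

end Cfsg.Agent.Lib.Helper94_OrthTS6
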