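import Mathlib
import Cfsg.Agent.Lib.Helper94_Bridge
import Cfsg.Agent.Lib.Helper94_SLBridge
import Cfsg.Agent.Lib.Helper94_OrthFinal
import Cfsg.Agent.Lib.Helper94_OrthNondeg
import Cfsg.Agent.Lib.Helper94_OrthTS6
import Cfsg.Agent.Lib.Helper38_OD2Bridge7

set_option autoImplicit false

/-!
Bridge for `Helper94_OrthTS6.maximal_tspair5`: in `Ω(Q)` on `F^n`, `n ≥ 7`, the stabiliser of a
decomposition into two totally singular subspaces of even dimension `k ≥ 5` is maximal; in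
particular conjunct (13) of the row on `Ω_12^+(q)` (helper94).
-/

namespace Cfsg.Agent.Lib.Helper94_OrthTS6Bridge

open Matrix Module Cfsg.Agent.Lib.Helper94_Symp Cfsg.Agent.Lib.Helper94_Bridge
  Cfsg.Agent.Lib.Helper94_SLBridge
  Cfsg.Agent.Lib.Helper94_OrthSmall Cfsg.Agent.Lib.Helper94_OrthBridge
  Cfsg.Agent.Lib.Helper94_OrthSiegel Cfsg.Agent.Lib.Helper94_OrthSiegel2
  Cfsg.Agent.Lib.Helper94_OrthGenBridge Cfsg.Agent.Lib.Helper94_OrthFinal
  Cfsg.Agent.Lib.Helper94_OrthNondeg Cfsg.Agent.Lib.Helper94_OrthTS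
  Cfsg.Agent.Lib.Helper94_OrthTS6 Cfsg.Agent.Lib.Helper38_OD2Bridge7

theorem tspair_maximal7 {F : Type*} [Field F] [Fintype F] {n : ℕ} (hn : 7 ≤ n)
    (Q : (Fin n → F) → F) (hQ : Cfsg.Geo.IsNondegenerateQuadraticForm Q) (k : ℕ) (hk5 : 5 ≤ k)
    (hke : Even k) (D : Fin 2 → Submodule F (Fin n → F)) (hD : Cfsg.Geo.IsMDecomposition k D)
    (hts : ∀ i, Cfsg.Geo.IsTotallySingularQuad Q (D i)) :
    Cfsg.Geo.IsMaximalIn (Cfsg.Geo.omegaGL Q)
      (Cfsg.Geo.decompositionStabilizer D ⊓ Cfsg.Geo.omegaGL Q) := by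
  classical
  let S : Subgroup ((Fin n → F) ≃ₗ[F] (Fin n → F)) :=
    (Cfsg.Geo.decompositionStabilizer D).comap (glEquiv (Fin n) F).symm.toMonoidHom
  have hSeq : Cfsg.Geo.decompositionStabilizer D = S.comap (glEquiv (Fin n) F).toMonoidHom :=
    (comap_symm_comap (glEquiv (Fin n) F) _).symm
  have hSchar : ∀ g, g ∈ S ↔ ∃ π : Equiv.Perm (Fin 2),
      ∀ i, (D i).map (g : (Fin n → F) →ₗ[F] (Fin n → F)) = D (π i) := by
    intro g
    have key : Matrix.toLin' (((glEquiv (Fin n) F).symm g :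
        Matrix.GeneralLinearGroup (Fin n) F) : Matrix (Fin n) (Fin n) F) =
        (g : (Fin n → F) →ₗ[F] (Fin n → F)) := by
      refine LinearMap.ext fun x => ?_
      rw [Matrix.toLin'_apply, ← glEquiv_apply, MulEquiv.apply_symm_apply]
      rfl
    constructor
    · rintro ⟨π, hπ⟩
      refine ⟨π, fun i => ?_⟩
      have := hπ i
      simp only [MulEquiv.toMonoidHom_eq_coe, MonoidHom.coe_coe] at this
      rw [key] at this
      exact this
    · rintro ⟨π, hπ⟩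
      refine ⟨π, fun i => ?_⟩
      simp only [MulEquiv.toMonoidHom_eq_coe, MonoidHom.coe_coe]
      rw [key]
      exact hπ i
  rw [hSeq, omegaGL_eq, ← Subgroup.comap_inf]
  apply isMaximalIn_comap
  exact maximal_tspair5 (gen_hQs Q hQ) (gen_hQp Q hQ) (gen_hN Q hQ) ⁅oG Q, oG Q⁆
    (Subgroup.commutator_le_self _)
    (hG2_of_geo7 Q hQ (by rw [Fintype.card_fin]; exact hn))
    (hG3_of_geo7 Q hQ (by rw [Fintype.card_fin]; exact hn)) k hk5 hke D hD.finrank_eq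
    hD.iSup_eq_top hts S hSchar

/-- Conjunct (13) of the row on `Ω_12^+(q)`, verbatim. -/
theorem omega12_tspair {F : Type*} [Field F] [Fintype F] (Q : (Fin 12 → F) → F)
    (hQ : Cfsg.Geo.IsNondegenerateQuadraticForm Q) :
    ∀ D : Fin 2 → Submodule F (Fin 12 → F), Cfsg.Geo.IsMDecomposition 6 D →
      (∀ i, Cfsg.Geo.IsTotallySingularQuad Q (D i)) →
      Cfsg.Geo.IsMaximalIn (Cfsg.Geo.omegaGL Q)
        (Cfsg.Geo.decompositionStabilizer D ⊓ Cfsg.Geo.omegaGL Q) :=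
  fun D hD hts => tspair_maximal7 (by norm_num) Q hQ 6 (by norm_num) ⟨3, by norm_num⟩ D hD hts

end Cfsg.Agent.Lib.Helper94_OrthTS6Bridge
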