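import Mathlib
import Cfsg.Prelude.Def_Characters
import Cfsg.Agent.S0157
import Cfsg.Agent.S0494
import Cfsg.Agent.Lib.Helper81_Rank

/-!
# S4707 PK-B (helper15's market): a rank three permutation character is `1 + ψ₁ + ψ₂`.
-/

set_option autoImplicit false
set_option linter.unusedSectionVars false
set_option linter.unusedVariables false

open Cfsg MulAction
open scoped ComplexConjugate

namespace Cfsg.Agent.Lib.Helper94_S4707_B

open Cfsg.Agent.Lib.Helper3_CharBridge Cfsg.Agent.Lib.Helper3_CharOrtho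
  Cfsg.Agent.Lib.Helper3_CharComplete Cfsg.Agent.Lib.Helper75_CharArith
  Cfsg.Agent.Lib.Helper80_CharBasic Cfsg.Agent.Lib.Helper81_Rank

theorem pkB {G : Type*} [Group G] [Fintype G] {Ω : Type*} [Fintype Ω] [MulAction G Ω]
    [MulAction.IsPretransitive G Ω] (a₀ : Ω)
    (h3 : Nat.card (MulAction.orbitRel.Quotient (MulAction.stabilizer G a₀) Ω) = 3) :
    ∃ ψ₁ ψ₂ : IrrCharacter G, ψ₁ ≠ ψ₂ ∧ (ψ₁ : G → ℂ) ≠ (fun _ => 1) ∧
      (ψ₂ : G → ℂ) ≠ (fun _ => 1) ∧
      ∀ g : G, (Nat.card (MulAction.fixedBy Ω g) : ℂ) =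
        1 + (ψ₁ : G → ℂ) g + (ψ₂ : G → ℂ) g := by
  classical
  have : Nonempty Ω := ⟨a₀⟩
  have hchar : Cfsg.IsCharacter G (fun g : G => (Nat.card (fixedBy Ω g) : ℂ)) := isCharacter_perm
  obtain ⟨m, hm, hsum⟩ := exists_multiplicities hchar
  -- m 1 = 1
  have hm1 : m (oneIrr G) = 1 := by
    have h1 := hm (oneIrr G)
    have h2 : Cfsg.classInner (fun g : G => (Nat.card (fixedBy Ω g) : ℂ))
        ((oneIrr G : Cfsg.IrrCharacter G) : G → ℂ) = 1 := classInner_perm_one
    rw [h2] at h1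
    exact_mod_cast h1.symm
  -- sum of squares = 3
  have hsq : ∑ χ, m χ ^ 2 = 3 := by
    have h1 := classInner_self_eq_sum (isClassFunction_of_isCharacter hchar)
    rw [rank_eq_classInner a₀] at h1
    simp only [hm, Complex.conj_natCast] at h1
    have h2 : (Nat.card (orbitRel.Quotient (stabilizer G a₀) Ω) : ℂ) =
        ((∑ χ, m χ ^ 2 : ℕ) : ℂ) := by
      rw [h1]; push_cast
      exact Finset.sum_congr rfl fun χ _ => (sq _).symm
    have h4 : Nat.card (orbitRel.Quotient (stabilizer G a₀) Ω) = ∑ χ, m χ ^ 2 := by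
      exact_mod_cast h2
    rw [← h4, h3]
  -- every multiplicity is at most one
  have hle : ∀ χ, m χ ≤ 1 := by
    intro χ
    by_cases hχ : χ = oneIrr G
    · rw [hχ, hm1]
    · have h1 : m χ ^ 2 + m (oneIrr G) ^ 2 ≤ ∑ χ, m χ ^ 2 := by
        have hsub : ({χ, oneIrr G} : Finset (IrrCharacter G)) ⊆ Finset.univ :=
          Finset.subset_univ _
        have := Finset.sum_le_sum_of_subset (f := fun χ => m χ ^ 2) hsub
        rwa [Finset.sum_pair hχ] at this
      rw [hsq, hm1] at h1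
      by_contra hlt
      push Not at hlt
      nlinarith
  have hsq' : ∀ χ, m χ ^ 2 = m χ := by
    intro χ
    have := hle χ
    interval_cases (m χ) <;> rfl
  have hcard : (Finset.univ.filter (fun χ => m χ = 1)).card = 3 := by
    rw [Finset.card_filter]
    rw [← hsq]
    refine Finset.sum_congr rfl fun χ _ => ?_
    rw [hsq']
    have := hle χ
    interval_cases (m χ) <;> simp
  have hmem1 : oneIrr G ∈ Finset.univ.filter (fun χ => m χ = 1) := by
    simp [hm1]
  have hcard2 : ((Finset.univ.filter (fun χ => m χ = 1)).erase (oneIrr G)).card = 2 := by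
    rw [Finset.card_erase_of_mem hmem1, hcard]
  obtain ⟨ψ₁, ψ₂, hne, hpair⟩ := Finset.card_eq_two.mp hcard2
  have hψ₁ : ψ₁ ∈ (Finset.univ.filter (fun χ => m χ = 1)).erase (oneIrr G) := by
    rw [hpair]; simp
  have hψ₂ : ψ₂ ∈ (Finset.univ.filter (fun χ => m χ = 1)).erase (oneIrr G) := by
    rw [hpair]; simp
  have hψ₁1 : ψ₁ ≠ oneIrr G := (Finset.mem_erase.mp hψ₁).1
  have hψ₂1 : ψ₂ ≠ oneIrr G := (Finset.mem_erase.mp hψ₂).1
  have hfilter : Finset.univ.filter (fun χ => m χ = 1) = insert (oneIrr G) {ψ₁, ψ₂} := by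
    rw [← hpair, Finset.insert_erase hmem1]
  refine ⟨ψ₁, ψ₂, hne, fun h => hψ₁1 (Subtype.ext h), fun h => hψ₂1 (Subtype.ext h), ?_⟩
  intro g
  have h1 := congrFun hsum g
  simp only [Finset.sum_apply, Pi.smul_apply, smul_eq_mul] at h1
  rw [h1]
  have h2 : ∑ χ : IrrCharacter G, (m χ : ℂ) * (χ : G → ℂ) g =
      ∑ χ ∈ Finset.univ.filter (fun χ => m χ = 1), (χ : G → ℂ) g := by
    rw [Finset.sum_filter]
    refine Finset.sum_congr rfl fun χ _ => ?_
    have := hle χ
    interval_cases hmχ : (m χ) <;> simp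
  rw [h2, hfilter, Finset.sum_insert, Finset.sum_pair hne]
  · have : ((oneIrr G : IrrCharacter G) : G → ℂ) g = 1 := rfl
    rw [this]
    ring
  · simp only [Finset.mem_insert, Finset.mem_singleton, not_or]
    exact ⟨fun h => hψ₁1 h.symm, fun h => hψ₂1 h.symm⟩

end Cfsg.Agent.Lib.Helper94_S4707_B
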