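import Mathlib
import Cfsg.Prelude.Def_Characters
import Cfsg.Agent.S0157
import Cfsg.Agent.S0494
import Cfsg.Agent.Lib.Helper81_Rank
import Cfsg.Agent.Lib.Helper75_GalConj
import Cfsg.Agent.Lib.Helper76_GalConj
import Cfsg.Agent.Lib.Helper3_CharGaloisAct
import Cfsg.Agent.Lib.Helper21_BSW_B5c
import Cfsg.Agent.Lib.Helper15_Brauer503F

/-!
# S4707 PK-C (helper15's market): the constituent of degree `p - 1` of the permutation character
of a primitive rank three group of degree `2p`.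
-/

set_option autoImplicit false
set_option linter.unusedSectionVars false
set_option linter.unusedVariables false

open Cfsg MulAction
open scoped ComplexConjugate

namespace Cfsg.Agent.Lib.Helper94_S4707_C

open Cfsg.Agent.Lib.Helper3_CharBridge Cfsg.Agent.Lib.Helper3_CharOrtho
  Cfsg.Agent.Lib.Helper3_CharComplete Cfsg.Agent.Lib.Helper75_CharArith
  Cfsg.Agent.Lib.Helper80_CharBasic Cfsg.Agent.Lib.Helper81_Rank

/-- Lifting a residue coprime to `d` to one coprime to a multiple `N` of `d`. -/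
theorem coprime_lift (d N : ℕ) [NeZero N] (h : d ∣ N) (x : ℕ) (hx : x.Coprime d) :
    ∃ y : ℕ, y.Coprime N ∧ y ≡ x [MOD d] := by
  obtain ⟨u, hu⟩ := ZMod.unitsMap_surjective h (ZMod.unitOfCoprime x hx)
  refine ⟨(u : ZMod N).val, ZMod.val_coe_unit_coprime u, ?_⟩
  rw [← ZMod.natCast_eq_natCast_iff]
  have h1 := congrArg (fun v : (ZMod d)ˣ => (v : ZMod d)) hu
  simp only [ZMod.unitsMap_def, Units.coe_map, MonoidHom.coe_coe, ZMod.castHom_apply,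
    ZMod.coe_unitOfCoprime] at h1
  rw [ZMod.natCast_val]
  exact h1

section

variable {G : Type*} [Group G] [Fintype G] {Ω : Type*} [Fintype Ω] [MulAction G Ω]

theorem fixedBy_pow_coprime (g : G) (k : ℕ) (hk : k.Coprime (Nat.card G)) :
    fixedBy Ω (g ^ k) = fixedBy Ω g := by
  have hk' : k.Coprime (orderOf g) := Nat.Coprime.coprime_dvd_right (orderOf_dvd_natCard g) hk
  obtain ⟨m, hm⟩ := exists_pow_eq_self_of_coprime hk'
  apply Set.Subset.antisymm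
  · have h1 := fixedBy_subset_fixedBy_zpow Ω (g ^ k) (m : ℤ)
    rw [zpow_natCast, hm] at h1
    exact h1
  · have h1 := fixedBy_subset_fixedBy_zpow Ω g (k : ℤ)
    rw [zpow_natCast] at h1
    exact h1

/-- Galois stability of the two constituents. -/
theorem pow_stable (ψ₁ ψ₂ : IrrCharacter G)
    (hπ : ∀ g : G, (Nat.card (MulAction.fixedBy Ω g) : ℂ) =
        1 + (ψ₁ : G → ℂ) g + (ψ₂ : G → ℂ) g)
    (hdeg : (ψ₁ : G → ℂ) 1 ≠ (ψ₂ : G → ℂ) 1) (k : ℕ) (hk : k.Coprime (Nat.card G)) (g : G) :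
    (ψ₁ : G → ℂ) (g ^ k) = (ψ₁ : G → ℂ) g := by
  classical
  set φ₁ : G → ℂ := fun g => (ψ₁ : G → ℂ) (g ^ k) with hφ₁
  set φ₂ : G → ℂ := fun g => (ψ₂ : G → ℂ) (g ^ k) with hφ₂
  have hi₁ : IsIrrCharacter G φ₁ :=
    Cfsg.Agent.Lib.Helper75_GalConj.isIrrCharacter_powMap ψ₁.2 k hk
  have hi₂ : IsIrrCharacter G φ₂ :=
    Cfsg.Agent.Lib.Helper75_GalConj.isIrrCharacter_powMap ψ₂.2 k hk
  have hadd : (ψ₁ : G → ℂ) + (ψ₂ : G → ℂ) = φ₁ + φ₂ := by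
    funext x
    have h1 := hπ x
    have h2 := hπ (x ^ k)
    rw [fixedBy_pow_coprime x k hk, h1] at h2
    simp only [Pi.add_apply, hφ₁, hφ₂]
    linear_combination h2
  have h3 : classInner ((ψ₁ : G → ℂ) + (ψ₂ : G → ℂ)) φ₁ = classInner (φ₁ + φ₂) φ₁ := by
    rw [hadd]
  rw [classInner_add_left, classInner_add_left, classInner_irr ψ₁.2 hi₁, classInner_irr ψ₂.2 hi₁,
    classInner_irr hi₁ hi₁, classInner_irr hi₂ hi₁, if_pos rfl] at h3
  by_cases e1 : (ψ₁ : G → ℂ) = φ₁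
  · exact (congrFun e1 g).symm
  · exfalso
    rw [if_neg e1] at h3
    by_cases e2 : (ψ₂ : G → ℂ) = φ₁
    · apply hdeg
      have := congrFun e2 1
      rw [this, hφ₁]
      simp
    · rw [if_neg e2] at h3
      split_ifs at h3 <;> norm_num at h3

/-- Integrality of a Galois-stable irreducible character. -/
theorem int_of_stable (ψ : IrrCharacter G)
    (hst : ∀ (k : ℕ), k.Coprime (Nat.card G) → ∀ g : G, (ψ : G → ℂ) (g ^ k) = (ψ : G → ℂ) g)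
    (g : G) : ∃ z : ℤ, (ψ : G → ℂ) g = (z : ℂ) := by
  obtain ⟨n, ρ, hirr, hρ⟩ := ψ.2
  obtain ⟨q, hq⟩ := Cfsg.Agent.Lib.Helper3_CharGaloisAct.exists_rat_of_forall_pow ρ g
    (fun m hm => by rw [hρ]; exact hst m hm g)
  rw [hρ] at hq
  have hint := Cfsg.Agent.Lib.Helper21_BSW_B5c.isIntegral_irr_apply ψ g
  rw [hq] at hint
  obtain ⟨z, hz⟩ := Cfsg.Agent.Lib.Helper21_BSW_B5c.int_of_isIntegral_rat q hint
  refine ⟨z, ?_⟩
  rw [hq, hz]
  simp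

/-- A fixed-point-free element is in the kernel of no constituent (primitive case). -/
theorem not_ker [MulAction.IsPreprimitive G Ω] [Nonempty Ω] (ψ₁ ψ₂ : IrrCharacter G)
    (hπ : ∀ g : G, (Nat.card (MulAction.fixedBy Ω g) : ℂ) =
        1 + (ψ₁ : G → ℂ) g + (ψ₂ : G → ℂ) g)
    (x : G) (hx : ∀ a : Ω, x • a ≠ a) : (ψ₁ : G → ℂ) x ≠ (ψ₁ : G → ℂ) 1 := by
  classical
  intro hker
  set K := Cfsg.Agent.Lib.Helper76_GalConj.kerC ψ₁ with hK
  have hxK : x ∈ K := (Cfsg.Agent.Lib.Helper76_GalConj.mem_kerC ψ₁ x).mpr hker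
  have hnf : fixedPoints K Ω ≠ Set.univ := by
    intro h
    obtain ⟨a⟩ := ‹Nonempty Ω›
    have ha : a ∈ fixedPoints K Ω := by rw [h]; exact Set.mem_univ a
    exact hx a (ha ⟨x, hxK⟩)
  have htr : IsPretransitive K Ω := IsQuasiPreprimitive.isPretransitive_of_normal hnf
  have hB := Cfsg.Agent.Lib.Helper95_Burnside.sum_natCard_fixedBy_of_transitive (G := K) (X := Ω)
  have hB' : ∑ k : K, (Nat.card (fixedBy Ω (k : G)) : ℂ) = (Nat.card K : ℂ) := by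
    rw [← hB]
    push_cast
    rfl
  obtain ⟨d₁, hd₁pos, hd₁⟩ := irr_apply_one ψ₁
  obtain ⟨t, ht⟩ := Cfsg.Agent.Lib.Helper15_Brauer503F.sum_subgroup_nat K
    (isCharacter_of_isIrrCharacter ψ₂.2)
  have h1 : ∑ k : K, (Nat.card (fixedBy Ω (k : G)) : ℂ) =
      (Nat.card K : ℂ) + (d₁ : ℂ) * (Nat.card K : ℂ) + (t : ℂ) * (Nat.card K : ℂ) := by
    simp_rw [hπ]
    rw [Finset.sum_add_distrib, Finset.sum_add_distrib, ht]
    congr 1
    congr 1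
    · simp [Nat.card_eq_fintype_card]
    · have : ∀ k : K, (ψ₁ : G → ℂ) (k : G) = (d₁ : ℂ) := by
        intro k
        rw [← hd₁]
        exact (Cfsg.Agent.Lib.Helper76_GalConj.mem_kerC ψ₁ (k : G)).mp k.2
      simp_rw [this]
      simp [Nat.card_eq_fintype_card, mul_comm]
  rw [hB'] at h1
  have hK0 : (Nat.card K : ℂ) ≠ 0 := by
    exact_mod_cast (Nat.card_pos (α := K)).ne'
  have h2 : ((d₁ : ℂ) + (t : ℂ)) * (Nat.card K : ℂ) = 0 := by linear_combination -h1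
  have h3 : (d₁ : ℂ) + (t : ℂ) = 0 := (mul_eq_zero.mp h2).resolve_right hK0
  have h4 : d₁ + t = 0 := by exact_mod_cast h3
  omega

/-- The sum over a subgroup of order `p` of a function constant off the identity. -/
theorem sum_prime_subgroup (P : Subgroup G) [Fintype P] {p : ℕ} (hP : Nat.card P = p)
    (f : G → ℂ) (d c : ℂ) (hd : f 1 = d) (hc : ∀ y ∈ P, y ≠ 1 → f y = c) :
    ∑ y : P, f (y : G) = d + ((p : ℂ) - 1) * c := by
  classical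
  have h1 : ∀ y : P, f (y : G) = (if y = 1 then (d - c) else 0) + c := by
    intro y
    split_ifs with h
    · rw [h]
      simp [hd]
    · rw [hc y y.2 (fun h' => h (Subtype.ext h'))]
      simp
  simp_rw [h1]
  rw [Finset.sum_add_distrib, Finset.sum_ite_eq' Finset.univ (1 : P) (fun _ => d - c)]
  simp only [Finset.mem_univ, if_true, Finset.sum_const, Finset.card_univ, nsmul_eq_mul]
  rw [← Nat.card_eq_fintype_card, hP]
  ring

/-- The arithmetic endgame. -/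
theorem arith (p : ℕ) (hp : 3 < p) (d₁ d₂ : ℕ) (c₁ c₂ : ℤ) (hd₁ : 1 ≤ d₁) (hd₂ : 1 ≤ d₂)
    (hsum : d₁ + d₂ + 1 = 2 * p) (hc : c₁ + c₂ = -1)
    (h₂ : (d₂ : ℤ) + ((p : ℤ) - 1) * c₂ = 0) (h₁ : (d₁ : ℤ) + ((p : ℤ) - 1) * c₁ = p)
    (hker : c₁ ≠ (d₁ : ℤ)) : c₂ = -1 ∧ (d₂ : ℤ) = (p : ℤ) - 1 := by
  have hp' : (3 : ℤ) < (p : ℤ) := by exact_mod_cast hp
  have hd₁' : (1 : ℤ) ≤ (d₁ : ℤ) := by exact_mod_cast hd₁
  have hd₂' : (1 : ℤ) ≤ (d₂ : ℤ) := by exact_mod_cast hd₂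
  have hsum' : (d₁ : ℤ) + (d₂ : ℤ) + 1 = 2 * (p : ℤ) := by exact_mod_cast hsum
  have hlow : -2 ≤ c₂ := by nlinarith
  have hup : c₂ ≤ -1 := by nlinarith
  interval_cases c₂
  · exfalso
    apply hker
    have : c₁ = 1 := by linarith
    have h3 : (d₂ : ℤ) = 2 * (p : ℤ) - 2 := by linarith
    rw [this]
    linarith
  · exact ⟨rfl, by linarith⟩

/-- The conclusion for the constituent with vanishing sum over `P`. -/
theorem finish [Nonempty Ω] (ψa ψb : IrrCharacter G) (hne : ψa ≠ ψb)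
    (hb1 : (ψb : G → ℂ) ≠ (fun _ => 1))
    (hπ : ∀ g : G, (Nat.card (MulAction.fixedBy Ω g) : ℂ) =
        1 + (ψa : G → ℂ) g + (ψb : G → ℂ) g)
    {p : ℕ} (P : Subgroup G) (db : ℕ) (cb : ℤ) (hdb : (ψb : G → ℂ) 1 = (db : ℂ))
    (hcb : ∀ y ∈ P, y ≠ 1 → (ψb : G → ℂ) y = (cb : ℂ))
    (hc : cb = -1) (hd : (db : ℤ) = (p : ℤ) - 1)
    (hint : ∀ g : G, ∃ z : ℤ, (ψb : G → ℂ) g = (z : ℂ)) :
    ∃ ρ : IrrCharacter G,
      classInner (fun g : G => (Nat.card (MulAction.fixedBy Ω g) : ℂ)) (ρ : G → ℂ) = 1 ∧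
      (ρ : G → ℂ) 1 = (p : ℂ) - 1 ∧
      (∀ y ∈ P, y ≠ 1 → (ρ : G → ℂ) y = -1) ∧
      ∀ g : G, ∃ n : ℤ, (ρ : G → ℂ) g = (n : ℂ) := by
  classical
  refine ⟨ψb, ?_, ?_, ?_, hint⟩
  · have hfun : (fun g : G => (Nat.card (MulAction.fixedBy Ω g) : ℂ)) =
        (fun _ => (1 : ℂ)) + (ψa : G → ℂ) + (ψb : G → ℂ) := by
      funext g
      rw [hπ g]
      rfl
    rw [hfun, classInner_add_left, classInner_add_left,
      classInner_irr (isIrrCharacter_one G) ψb.2, classInner_irr ψa.2 ψb.2,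
      classInner_irr ψb.2 ψb.2, if_pos rfl, if_neg (fun h => hb1 h.symm),
      if_neg (fun h => hne (Subtype.ext h))]
    ring
  · rw [hdb]
    have : ((db : ℤ) : ℂ) = (((p : ℤ) - 1 : ℤ) : ℂ) := by rw [hd]
    push_cast at this
    exact this
  · intro y hy hy1
    rw [hcb y hy hy1, hc]
    simp

theorem pkC {G : Type*} [Group G] [Fintype G] {Ω : Type*} [Fintype Ω] [MulAction G Ω]
    [MulAction.IsPreprimitive G Ω] {p : ℕ} [Fact p.Prime] (hp : 3 < p)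
    (hΩ : Fintype.card Ω = 2 * p)
    (ψ₁ ψ₂ : IrrCharacter G) (hne : ψ₁ ≠ ψ₂) (h1 : (ψ₁ : G → ℂ) ≠ (fun _ => 1))
    (h2 : (ψ₂ : G → ℂ) ≠ (fun _ => 1))
    (hπ : ∀ g : G, (Nat.card (MulAction.fixedBy Ω g) : ℂ) =
        1 + (ψ₁ : G → ℂ) g + (ψ₂ : G → ℂ) g)
    (P : Subgroup G) (hP : Nat.card P = p)
    (hfix : ∀ g : G, p ∣ orderOf g → ∀ a : Ω, g • a ≠ a) :
    ∃ ρ : IrrCharacter G,
      classInner (fun g : G => (Nat.card (MulAction.fixedBy Ω g) : ℂ)) (ρ : G → ℂ) = 1 ∧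
      (ρ : G → ℂ) 1 = (p : ℂ) - 1 ∧
      (∀ y ∈ P, y ≠ 1 → (ρ : G → ℂ) y = -1) ∧
      ∀ g : G, ∃ n : ℤ, (ρ : G → ℂ) g = (n : ℂ) := by
  classical
  have hp' : p.Prime := Fact.out
  have hne0 : Nonempty Ω := by
    rw [← Fintype.card_pos_iff, hΩ]
    omega
  have hπ' : ∀ g : G, (Nat.card (MulAction.fixedBy Ω g) : ℂ) =
      1 + (ψ₂ : G → ℂ) g + (ψ₁ : G → ℂ) g := by
    intro g
    rw [hπ g]
    ring
  -- degrees
  obtain ⟨d₁, hd₁pos, hd₁⟩ := irr_apply_one ψ₁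
  obtain ⟨d₂, hd₂pos, hd₂⟩ := irr_apply_one ψ₂
  have hdsum : d₁ + d₂ + 1 = 2 * p := by
    have h := hπ 1
    rw [perm_one, hΩ, hd₁, hd₂] at h
    have h' : ((2 * p : ℕ) : ℂ) = ((1 + d₁ + d₂ : ℕ) : ℂ) := by
      push_cast
      push_cast at h
      exact h
    have h'' : 2 * p = 1 + d₁ + d₂ := by exact_mod_cast h'
    omega
  have hdeg : (ψ₁ : G → ℂ) 1 ≠ (ψ₂ : G → ℂ) 1 := by
    rw [hd₁, hd₂]
    intro h
    have : d₁ = d₂ := by exact_mod_cast h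
    omega
  have hst₁ : ∀ (k : ℕ), k.Coprime (Nat.card G) → ∀ g : G,
      (ψ₁ : G → ℂ) (g ^ k) = (ψ₁ : G → ℂ) g := fun k hk g => pow_stable ψ₁ ψ₂ hπ hdeg k hk g
  have hst₂ : ∀ (k : ℕ), k.Coprime (Nat.card G) → ∀ g : G,
      (ψ₂ : G → ℂ) (g ^ k) = (ψ₂ : G → ℂ) g :=
    fun k hk g => pow_stable ψ₂ ψ₁ hπ' hdeg.symm k hk g
  have hint₁ := int_of_stable ψ₁ hst₁
  have hint₂ := int_of_stable ψ₂ hst₂
  -- a generator of P
  obtain ⟨x, hxP, hx1⟩ : ∃ x ∈ P, x ≠ 1 := by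
    have hnt : Nontrivial P := by
      rw [← Finite.one_lt_card_iff_nontrivial, hP]
      exact hp'.one_lt
    obtain ⟨⟨x, hx⟩, hne'⟩ := exists_ne (1 : P)
    exact ⟨x, hx, fun h => hne' (Subtype.ext h)⟩
  have hox : orderOf x = p := by
    have h3 : orderOf (⟨x, hxP⟩ : P) ∣ p := by
      rw [← hP]
      exact orderOf_dvd_natCard _
    rw [Subgroup.orderOf_mk] at h3
    rcases (Nat.dvd_prime hp').mp h3 with h | h
    · exact absurd (orderOf_eq_one_iff.mp h) hx1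
    · exact h
  have hxfix : ∀ a : Ω, x • a ≠ a := hfix x (by rw [hox])
  have hpG : p ∣ Nat.card G := by
    rw [← hox]
    exact orderOf_dvd_natCard x
  have hNZ : NeZero (Nat.card G) := ⟨Nat.card_pos.ne'⟩
  -- constancy on P \ 1
  have hconst : ∀ (ψ : IrrCharacter G), (∀ (k : ℕ), k.Coprime (Nat.card G) → ∀ g : G,
      (ψ : G → ℂ) (g ^ k) = (ψ : G → ℂ) g) → ∀ y ∈ P, y ≠ 1 →
      (ψ : G → ℂ) y = (ψ : G → ℂ) x := by
    intro ψ hst y hyP hy1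
    have hmem : (⟨y, hyP⟩ : P) ∈ Subgroup.zpowers (⟨x, hxP⟩ : P) := by
      rw [zpowers_eq_top_of_prime_card hP (fun h => hx1 (congrArg Subtype.val h))]
      exact Subgroup.mem_top _
    rw [← mem_powers_iff_mem_zpowers] at hmem
    obtain ⟨j, hj⟩ := hmem
    have hj' : x ^ j = y := by
      have := congrArg Subtype.val hj
      simpa using this
    have hjp : j.Coprime p := by
      rw [Nat.coprime_comm, Nat.Prime.coprime_iff_not_dvd hp']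
      intro hdvd
      apply hy1
      rw [← hj']
      rw [← hox] at hdvd
      exact orderOf_dvd_iff_pow_eq_one.mp hdvd
    obtain ⟨k, hk, hkj⟩ := coprime_lift p (Nat.card G) hpG j hjp
    have hkx : x ^ k = x ^ j := pow_eq_pow_iff_modEq.mpr (by rw [hox]; exact hkj)
    rw [← hj', ← hkx, hst k hk x]
  obtain ⟨c₁, hc₁⟩ := hint₁ x
  obtain ⟨c₂, hc₂⟩ := hint₂ x
  have hcon₁ : ∀ y ∈ P, y ≠ 1 → (ψ₁ : G → ℂ) y = (c₁ : ℂ) := fun y hy hy1 => by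
    rw [hconst ψ₁ hst₁ y hy hy1, hc₁]
  have hcon₂ : ∀ y ∈ P, y ≠ 1 → (ψ₂ : G → ℂ) y = (c₂ : ℂ) := fun y hy hy1 => by
    rw [hconst ψ₂ hst₂ y hy hy1, hc₂]
  -- c₁ + c₂ = -1
  have hcsum : c₁ + c₂ = -1 := by
    have h := hπ x
    have h0 : fixedBy Ω x = ∅ := by
      ext a
      simp only [mem_fixedBy, Set.mem_empty_iff_false, iff_false]
      exact hxfix a
    rw [h0, hc₁, hc₂] at h
    simp only [Nat.card_eq_fintype_card, Fintype.card_eq_zero, Nat.cast_zero] at h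
    have h' : ((0 : ℤ) : ℂ) = ((1 + c₁ + c₂ : ℤ) : ℂ) := by
      push_cast
      exact h
    have h'' : (0 : ℤ) = 1 + c₁ + c₂ := by exact_mod_cast h'
    linarith
  -- sums over P
  obtain ⟨t₁, ht₁⟩ := Cfsg.Agent.Lib.Helper15_Brauer503F.sum_subgroup_nat P
    (isCharacter_of_isIrrCharacter ψ₁.2)
  obtain ⟨t₂, ht₂⟩ := Cfsg.Agent.Lib.Helper15_Brauer503F.sum_subgroup_nat P
    (isCharacter_of_isIrrCharacter ψ₂.2)
  rw [sum_prime_subgroup P hP _ _ _ hd₁ hcon₁, hP] at ht₁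
  rw [sum_prime_subgroup P hP _ _ _ hd₂ hcon₂, hP] at ht₂
  have e₁ : (d₁ : ℤ) + ((p : ℤ) - 1) * c₁ = (t₁ : ℤ) * (p : ℤ) := by
    have h' : (((d₁ : ℤ) + ((p : ℤ) - 1) * c₁ : ℤ) : ℂ) = (((t₁ : ℤ) * (p : ℤ) : ℤ) : ℂ) := by
      push_cast
      exact ht₁
    exact_mod_cast h'
  have e₂ : (d₂ : ℤ) + ((p : ℤ) - 1) * c₂ = (t₂ : ℤ) * (p : ℤ) := by
    have h' : (((d₂ : ℤ) + ((p : ℤ) - 1) * c₂ : ℤ) : ℂ) = (((t₂ : ℤ) * (p : ℤ) : ℤ) : ℂ) := by
      push_cast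
      exact ht₂
    exact_mod_cast h'
  have hdsum' : (d₁ : ℤ) + (d₂ : ℤ) + 1 = 2 * (p : ℤ) := by exact_mod_cast hdsum
  have hp0 : (p : ℤ) ≠ 0 := by
    have : (3 : ℤ) < (p : ℤ) := by exact_mod_cast hp
    omega
  have htsum : (t₁ : ℤ) + (t₂ : ℤ) = 1 := by
    have h3 : ((t₁ : ℤ) + (t₂ : ℤ)) * (p : ℤ) = 1 * (p : ℤ) := by
      have : c₂ = -1 - c₁ := by linarith
      rw [this] at e₂
      nlinarith
    exact mul_right_cancel₀ hp0 h3
  have htsum' : t₁ + t₂ = 1 := by exact_mod_cast htsum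
  have hk₁ : c₁ ≠ (d₁ : ℤ) := by
    intro h
    apply not_ker ψ₁ ψ₂ hπ x hxfix
    rw [hc₁, hd₁, h]
    simp
  have hk₂ : c₂ ≠ (d₂ : ℤ) := by
    intro h
    apply not_ker ψ₂ ψ₁ hπ' x hxfix
    rw [hc₂, hd₂, h]
    simp
  rcases Nat.eq_zero_or_pos t₂ with ht | ht
  · -- t₂ = 0, t₁ = 1
    have ht1 : t₁ = 1 := by omega
    rw [ht] at e₂
    rw [ht1] at e₁
    obtain ⟨hc, hd⟩ := arith p hp d₁ d₂ c₁ c₂ hd₁pos hd₂pos hdsum hcsum
      (by simpa using e₂) (by simpa using e₁) hk₁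
    exact finish ψ₁ ψ₂ hne h2 hπ P d₂ c₂ hd₂ hcon₂ hc hd hint₂
  · have ht1 : t₁ = 0 := by omega
    have ht2 : t₂ = 1 := by omega
    rw [ht1] at e₁
    rw [ht2] at e₂
    obtain ⟨hc, hd⟩ := arith p hp d₂ d₁ c₂ c₁ hd₂pos hd₁pos (by omega) (by linarith)
      (by simpa using e₁) (by simpa using e₂) hk₂
    exact finish ψ₂ ψ₁ hne.symm h1 hπ' P d₁ c₁ hd₁ hcon₁ hc hd hint₁

end

end Cfsg.Agent.Lib.Helper94_S4707_C
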