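import Mathlib
import Cfsg.Agent.Lib.Helper21_TICDefs
import Cfsg.Agent.Lib.Helper31_TIC_A
import Cfsg.Agent.S0215

/-!
# S4064 package LOC4 (helper21's market): `2 ≤ |N : A|`.
-/

set_option autoImplicit false

namespace Cfsg.Agent.Lib.Helper94_TIC_LOC4

open Cfsg Cfsg.Agent.Lib.Helper21_TICDefs

variable {G : Type*} [Group G]

theorem two_le_of_preLocal [Finite G] (h : TIC G) (hF : FitTriv G) {S : Sylow 2 G}
    {A N : Subgroup G} (hP : PreLocal S A N)
    (hcard : Nat.card {t : G // orderOf t = 2 ∧ t ∈ N} = A.relIndex N) :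
    2 ≤ A.relIndex N := by
  by_contra hlt
  push Not at hlt
  obtain ⟨z, hz2, hzS, hzA⟩ := hP.exists_z
  have hAN : A ≤ N := by rw [hP.N_eq]; exact Subgroup.le_normalizer
  have hSN : (S : Subgroup G) ≤ N := hP.S_le.trans hAN
  have hsub : Subsingleton {t : G // orderOf t = 2 ∧ t ∈ N} := by
    rw [← Finite.card_le_one_iff_subsingleton, hcard]
    omega
  have hiso : ∀ g : G, g * z * g⁻¹ ∈ S → g * z * g⁻¹ = z := by
    intro g hg
    have h1 : orderOf (g * z * g⁻¹) = 2 := by
      have : g * z * g⁻¹ = MulAut.conj g z := rfl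
      rw [this, MulEquiv.orderOf_eq, hz2]
    have h2 := hsub.elim ⟨g * z * g⁻¹, h1, hSN hg⟩ ⟨z, hz2, hSN hzS⟩
    exact congrArg Subtype.val h2
  obtain ⟨N₀, hN₀n, hN₀odd, hN₀⟩ := Cfsg.Agent.S0215.result S z hz2 hzS hiso
  have hN₀bot : N₀ = ⊥ := Cfsg.Agent.Lib.Helper31_TIC_A.odd_normal_eq_bot h hF N₀ hN₀n hN₀odd
  have hzc : z ∈ Subgroup.center G := by
    rw [Subgroup.mem_center_iff]
    intro g
    have h1 := hN₀ g
    rw [hN₀bot, Subgroup.mem_bot] at h1
    -- z g z⁻¹ g⁻¹ = 1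
    have h2 : z * g = g * z := by
      have h3 : z * g * z⁻¹ * g⁻¹ * (g * z) = 1 * (g * z) := by rw [h1]
      rw [one_mul] at h3
      rw [← h3]
      group
    exact h2.symm
  have hnil : Group.IsNilpotent (Subgroup.center G) := by
    letI : CommGroup (Subgroup.center G) :=
      { (inferInstance : Group (Subgroup.center G)) with
        mul_comm := fun a b => Subtype.ext ((Subgroup.mem_center_iff.mp a.2 b).symm) }
    exact CommGroup.isNilpotent
  have hcb : Subgroup.center G = ⊥ :=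
    hF (Subgroup.center G) inferInstance hnil
  rw [hcb, Subgroup.mem_bot] at hzc
  rw [hzc, orderOf_one] at hz2
  omega

end Cfsg.Agent.Lib.Helper94_TIC_LOC4
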