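import Mathlib
import Cfsg.Prelude.Def_GeometricClasses
import Cfsg.Agent.Lib.Helper94_Symp
import Cfsg.Agent.Lib.Helper94_Bridge
import Cfsg.Agent.Lib.Helper94_SLBridge
import Cfsg.Agent.Lib.Helper94_OrthSmall
import Cfsg.Agent.Lib.Helper94_OrthBridge
import Cfsg.Agent.Lib.Helper94_OrthSiegel
import Cfsg.Agent.Lib.Helper94_OrthSiegel2
import Cfsg.Agent.Lib.Helper94_OrthGenBridge
import Cfsg.Agent.Lib.Helper94_OrthC2Bridge
import Cfsg.Agent.Lib.Helper94_TensorVec

set_option autoImplicit false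

/-!
Over the field of order two, the stabiliser in `Ω` of a tensor decomposition `Sp_2 ⊗ Sp_{n₂}` is not
maximal: the element of order three of the first factor defines a structure of vector space over
the field of order four, whose normaliser is a larger proper subgroup (helper94).
-/

namespace Cfsg.Agent.Lib.Helper94_TensorF4

open Matrix Module Cfsg.Agent.Lib.Helper94_Symp Cfsg.Agent.Lib.Helper94_Bridge
  Cfsg.Agent.Lib.Helper94_SLBridge
  Cfsg.Agent.Lib.Helper94_OrthSmall Cfsg.Agent.Lib.Helper94_OrthBridge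
  Cfsg.Agent.Lib.Helper94_OrthSiegel Cfsg.Agent.Lib.Helper94_OrthSiegel2
  Cfsg.Agent.Lib.Helper94_OrthGenBridge Cfsg.Agent.Lib.Helper94_OrthC2Bridge
  Cfsg.Agent.Lib.Helper94_TensorVec
open scoped Kronecker commutatorElement

section coords

variable {F : Type*} [Field F] {n₂ : ℕ}

/-- Multiplication by a primitive cube root of unity on `F^2`. -/
def omg (a : Fin 2 → F) : Fin 2 → F := ![a 1, a 0 + a 1]

@[simp] lemma omg_zero (a : Fin 2 → F) : omg a 0 = a 1 := rfl

@[simp] lemma omg_one (a : Fin 2 → F) : omg a 1 = a 0 + a 1 := rfl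

/-- The induced map on `F^2 ⊗ F^{n₂}` in coordinates. -/
def Jc : (Fin 2 × Fin n₂ → F) →ₗ[F] (Fin 2 × Fin n₂ → F) where
  toFun x := fun p => omg (fun i => x (i, p.2)) p.1
  map_add' x y := by
    ext ⟨i, j⟩
    fin_cases i
    · simp
    · simp only [Fin.mk_one, omg_one, Pi.add_apply]
      ring
  map_smul' c x := by
    ext ⟨i, j⟩
    fin_cases i
    · simp
    · simp [mul_add]

lemma Jc_apply (x : Fin 2 × Fin n₂ → F) (i : Fin 2) (j : Fin n₂) :
    Jc x (i, j) = omg (fun i' => x (i', j)) i := rfl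

lemma Jc_ten (a : Fin 2 → F) (y : Fin n₂ → F) : Jc (ten a y) = ten (omg a) y := by
  ext ⟨i, j⟩
  fin_cases i
  · simp [Jc_apply]
  · simp [Jc_apply, add_mul]

lemma Jc_Jc (x : Fin 2 × Fin n₂ → F) : Jc (Jc x) = Jc x + x := by
  ext ⟨i, j⟩
  fin_cases i
  · simp only [Fin.zero_eta, Jc_apply, omg_zero, omg_one, Pi.add_apply]
    ring
  · simp only [Fin.mk_one, Jc_apply, omg_zero, omg_one, Pi.add_apply]
    ring

lemma eq_two_ten (x : Fin 2 × Fin n₂ → F) :
    x = ten (Pi.single 0 1) (fun j => x (0, j)) + ten (Pi.single 1 1) (fun j => x (1, j)) := by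
  have := eq_sum_ten x
  rw [Fin.sum_univ_two] at this
  exact this

/-- Invertible matrices of degree two over the field of order two. -/
lemma gl2_two (hF2 : ∀ x : F, x = 0 ∨ x = 1) (p q r s : F) (hdet : p * s - q * r ≠ 0) :
    (q = r ∧ s = p + q) ∨ (p = s ∧ p = q + r) := by
  have h11 : (1 : F) + 1 = 0 := by
    rcases hF2 (1 + 1) with h | h
    · exact h
    · exfalso
      have : (1 : F) = 0 := by linear_combination h
      exact one_ne_zero this
  rcases hF2 p with rfl | rfl <;> rcases hF2 q with rfl | rfl <;>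
    rcases hF2 r with rfl | rfl <;> rcases hF2 s with rfl | rfl <;>
    simp [h11] at hdet ⊢

/-- Invertible matrices of degree two over the field of order two normalise the cyclic group of
order three. -/
lemma two_by_two (hF2 : ∀ x : F, x = 0 ∨ x = 1) (A : Matrix (Fin 2) (Fin 2) F)
    (hdet : A.det ≠ 0) :
    (∀ a, A *ᵥ omg a = omg (A *ᵥ a)) ∨ (∀ a, A *ᵥ omg a = omg (A *ᵥ a) + A *ᵥ a) := by
  have h11 : (1 : F) + 1 = 0 := by
    rcases hF2 (1 + 1) with h | h
    · exact h
    · exfalso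
      have : (1 : F) = 0 := by linear_combination h
      exact one_ne_zero this
  have h2 : (2 : F) = 0 := by linear_combination h11
  rw [Matrix.det_fin_two] at hdet
  obtain ⟨p, hp⟩ : ∃ p, A 0 0 = p := ⟨_, rfl⟩
  obtain ⟨q, hq⟩ : ∃ q, A 0 1 = q := ⟨_, rfl⟩
  obtain ⟨r, hr⟩ : ∃ r, A 1 0 = r := ⟨_, rfl⟩
  obtain ⟨s, hs⟩ : ∃ s, A 1 1 = s := ⟨_, rfl⟩
  rw [hp, hq, hr, hs] at hdet
  rcases gl2_two hF2 p q r s hdet with ⟨h1, h3⟩ | ⟨h1, h3⟩
  · left
    intro a
    ext i
    fin_cases i
    · simp only [Fin.zero_eta, Matrix.mulVec, dotProduct, Fin.sum_univ_two, omg_zero, omg_one, hp,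
        hq, hr, hs]
      rw [h3, ← h1]
      ring
    · simp only [Fin.mk_one, Matrix.mulVec, dotProduct, Fin.sum_univ_two, omg_zero, omg_one, hp,
        hq, hr, hs]
      rw [h3, ← h1]
      ring
  · right
    intro a
    ext i
    fin_cases i
    · simp only [Fin.zero_eta, Matrix.mulVec, dotProduct, Fin.sum_univ_two, omg_zero, omg_one, hp,
        hq, hr, hs, Pi.add_apply]
      rw [← h1, h3]
      linear_combination (-(r * a 0)) * h2
    · simp only [Fin.mk_one, Matrix.mulVec, dotProduct, Fin.sum_univ_two, omg_zero, omg_one, hp,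
        hq, hr, hs, Pi.add_apply]
      rw [← h1, h3]
      linear_combination (-(r * a 0) - q * a 1) * h2

end coords

section main

variable {F : Type*} [Field F] [Fintype F] {ι : Type} [Fintype ι] [DecidableEq ι] {n₂ : ℕ}

/-- **Tensor decompositions `Sp_2 ⊗ Sp_{n₂}` over the field of order two are not maximal in `Ω`.** -/
theorem tensor_sp2_not_maximal (Q : (ι → F) → F) (hQ : Cfsg.Geo.IsNondegenerateQuadraticForm Q)
    (hq : Fintype.card F = 2) (hn : 7 ≤ Fintype.card ι) (h2n : 2 < n₂)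
    (e : ι ≃ Fin 2 × Fin n₂) (P : GL ι F)
    (f₁ : (Fin 2 → F) → (Fin 2 → F) → F) (f₂ : (Fin n₂ → F) → (Fin n₂ → F) → F)
    (hf₁ : Cfsg.Geo.IsSymplecticForm f₁) (hf₂ : Cfsg.Geo.IsSymplecticForm f₂)
    (hT : Cfsg.Geo.IsTensorFormStructure id (QuadraticMap.polar Q) f₁ f₂ e P)
    (hpure : ∀ (x₁ : Fin 2 → F) (x₂ : Fin n₂ → F), Q ((P : Matrix ι ι F) *ᵥ
      ((fun a : Fin 2 × Fin n₂ => x₁ a.1 * x₂ a.2) ∘ e)) = 0) :
    ∃ K : Subgroup (GL ι F),
      Cfsg.Geo.tensorProductSubgroup 2 n₂ e P ⊓ Cfsg.Geo.omegaGL Q < K ∧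
        K < Cfsg.Geo.omegaGL Q := by
  classical
  have hF2 : ∀ x : F, x = 0 ∨ x = 1 := field_two hq
  have hone : ∀ x : F, x ≠ 0 → x = 1 := fun x hx => (hF2 x).resolve_left hx
  have h11 : (1 : F) + 1 = 0 := by
    rcases hF2 (1 + 1) with h | h
    · exact h
    · exfalso
      have : (1 : F) = 0 := by linear_combination h
      exact one_ne_zero this
  have h2 : (2 : F) = 0 := by linear_combination h11
  have hneg1 : (-1 : F) = 1 := by linear_combination -h2
  have hvv : ∀ v : ι → F, v + v = 0 := by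
    intro v
    rw [← two_smul F v, h2, zero_smul]
  have hQs := gen_hQs Q hQ
  have hQp := gen_hQp Q hQ
  have hfrV : finrank F (ι → F) = Fintype.card ι := by simp
  obtain ⟨B, hBdef⟩ : ∃ B : LinearMap.BilinForm F (ι → F), B = polarForm Q hQ := ⟨_, rfl⟩
  have hQp' : ∀ u v : ι → F, Q (u + v) = Q u + Q v + B u v := by
    rw [hBdef]; exact hQp
  have hsymm := B_symm Q B hQp'
  obtain ⟨c, hc, hform⟩ := hT
  have hc1 : c = 1 := hone c hc
  -- the forms on pure tensors
  have hτB : ∀ (a a' : Fin 2 → F) (y y' : Fin n₂ → F),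
      B (phi e P (ten a y)) (phi e P (ten a' y')) = f₁ a a' * f₂ y y' := by
    intro a a' y y'
    rw [hBdef, polarForm_apply, phi_apply, phi_apply, hform,
      formOfGram_ten f₁ f₂ hf₁.bilinear hf₂.bilinear, hc1, one_mul]
  have hτQ : ∀ (a : Fin 2 → F) (y : Fin n₂ → F), Q (phi e P (ten a y)) = 0 := by
    intro a y
    rw [phi_apply]
    exact hpure a y
  -- the first factor
  obtain ⟨e₀, he₀⟩ : ∃ e₀ : Fin 2 → F, e₀ = Pi.single 0 1 := ⟨_, rfl⟩
  obtain ⟨e₁, he₁⟩ : ∃ e₁ : Fin 2 → F, e₁ = Pi.single 1 1 := ⟨_, rfl⟩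
  have e00 : e₀ 0 = 1 := by rw [he₀]; simp
  have e01 : e₀ 1 = 0 := by rw [he₀]; simp
  have e10 : e₁ 0 = 0 := by rw [he₁]; simp
  have e11 : e₁ 1 = 1 := by rw [he₁]; simp
  have hG00 : Cfsg.Geo.gramMatrix f₁ 0 0 = 0 := hf₁.alternating _
  have hG11 : Cfsg.Geo.gramMatrix f₁ 1 1 = 0 := hf₁.alternating _
  have hG10 : Cfsg.Geo.gramMatrix f₁ 1 0 = 1 := by
    apply hone
    intro h0
    have he0 : (Pi.single 0 1 : Fin 2 → F) ≠ 0 := by
      intro h
      have := congrFun h 0
      simp at this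
    obtain ⟨x, hx⟩ := (hf₁.nondegenerate _ he0).1
    apply hx
    rw [form_eq_gram f₁ hf₁.bilinear, Fin.sum_univ_two, Fin.sum_univ_two, Fin.sum_univ_two, hG00,
      h0]
    simp
  have hG01 : Cfsg.Geo.gramMatrix f₁ 0 1 = 1 := by
    have : Cfsg.Geo.gramMatrix f₁ 0 1 = -Cfsg.Geo.gramMatrix f₁ 1 0 := hf₁.skew _ _
    rw [this, hG10, hneg1]
  have hf1 : ∀ a a' : Fin 2 → F, f₁ a a' = a 0 * a' 1 + a 1 * a' 0 := by
    intro a a'
    rw [form_eq_gram f₁ hf₁.bilinear, Fin.sum_univ_two, Fin.sum_univ_two, Fin.sum_univ_two, hG00,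
      hG01, hG10, hG11]
    ring
  have hf1ω : ∀ a a' : Fin 2 → F, f₁ (omg a) (omg a') = f₁ a a' := by
    intro a a'
    rw [hf1, hf1, omg_zero, omg_zero, omg_one, omg_one]
    linear_combination (a 1 * a' 1) * h2
  -- the second factor
  have hf2z : ∀ y : Fin n₂ → F, f₂ 0 y = 0 := by
    intro y
    have := hf₂.bilinear.smul_left 0 0 y
    simpa using this
  have hf2sub : ∀ (β : F) (y y' s : Fin n₂ → F), f₂ (y - β • y') s = f₂ y s - β * f₂ y' s := by
    intro β y y' s
    rw [sub_eq_add_neg, ← neg_smul, hf₂.bilinear.add_left, hf₂.bilinear.smul_left]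
    ring
  have hf2symm : ∀ y y' : Fin n₂ → F, f₂ y y' = f₂ y' y := by
    intro y y'
    rw [hf₂.skew y y']
    linear_combination (-(f₂ y' y)) * h2
  let j0 : Fin n₂ := ⟨0, by omega⟩
  let j1 : Fin n₂ := ⟨1, by omega⟩
  let j2 : Fin n₂ := ⟨2, by omega⟩
  have hj01 : j0 ≠ j1 := by intro h; have := congrArg Fin.val h; simp [j0, j1] at this
  have hj02 : j0 ≠ j2 := by intro h; have := congrArg Fin.val h; simp [j0, j2] at this
  have hj12 : j1 ≠ j2 := by intro h; have := congrArg Fin.val h; simp [j1, j2] at this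
  obtain ⟨b, hb⟩ : ∃ b : Fin n₂ → F, b = Pi.single j0 1 := ⟨_, rfl⟩
  have hb0 : b ≠ 0 := by
    intro h
    have := congrFun h j0
    rw [hb] at this
    simp at this
  obtain ⟨b', hbb', j, hbj, hb'j⟩ : ∃ b' : Fin n₂ → F, f₂ b b' = 0 ∧ ∃ j, b j = 0 ∧ b' j = 1 := by
    by_cases h1 : f₂ b (Pi.single j1 1) = 0
    · exact ⟨_, h1, j1, by rw [hb]; simp [hj01.symm], by simp⟩
    · by_cases h3 : f₂ b (Pi.single j2 1) = 0
      · exact ⟨_, h3, j2, by rw [hb]; simp [hj02.symm], by simp⟩
      · refine ⟨Pi.single j1 1 + Pi.single j2 1, ?_, j1, by rw [hb]; simp [hj01.symm],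
          by simp [hj12]⟩
        rw [hf₂.bilinear.add_right, hone _ h1, hone _ h3]
        exact h11
  have hb'b : f₂ b' b = 0 := by rw [hf2symm]; exact hbb'
  have hw : ∀ β : F, b' - β • b ≠ 0 := by
    intro β h
    have := congrFun h j
    simp only [Pi.sub_apply, Pi.smul_apply, hbj, hb'j, smul_eq_mul, mul_zero, sub_zero,
      Pi.zero_apply] at this
    exact one_ne_zero this
  obtain ⟨y, hyb⟩ : ∃ y : Fin n₂ → F, f₂ y b = 1 := by
    obtain ⟨y, hy⟩ := (hf₂.nondegenerate b hb0).1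
    exact ⟨y, hone _ hy⟩
  obtain ⟨β, hβ⟩ : ∃ β : F, β = f₂ y b' := ⟨_, rfl⟩
  -- the structure map
  let Jl : (ι → F) →ₗ[F] (ι → F) :=
    (phi e P).toLinearMap ∘ₗ Jc ∘ₗ (phi e P).symm.toLinearMap
  have hJphi : ∀ x', Jl (phi e P x') = phi e P (Jc x') := by
    intro x'
    simp [Jl]
  have hJten : ∀ (a : Fin 2 → F) (y : Fin n₂ → F),
      Jl (phi e P (ten a y)) = phi e P (ten (omg a) y) := by
    intro a y
    rw [hJphi, Jc_ten]
  have hJJ : ∀ x, Jl (Jl x) = Jl x + x := by
    intro x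
    obtain ⟨x', rfl⟩ := (phi e P).surjective x
    rw [hJphi, hJphi, Jc_Jc, map_add]
  have hdecomp : ∀ x : ι → F, ∃ w₁ w₂ : Fin n₂ → F,
      x = phi e P (ten e₀ w₁) + phi e P (ten e₁ w₂) := by
    intro x
    obtain ⟨x', rfl⟩ := (phi e P).surjective x
    refine ⟨fun j => x' (0, j), fun j => x' (1, j), ?_⟩
    rw [← map_add, he₀, he₁, ← eq_two_ten]
  have hext : ∀ (L L' : (ι → F) →ₗ[F] (ι → F)),
      (∀ a y, L (phi e P (ten a y)) = L' (phi e P (ten a y))) → ∀ x, L x = L' x := by
    intro L L' h x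
    obtain ⟨w₁, w₂, rfl⟩ := hdecomp x
    rw [map_add, map_add, h, h]
  have hJB : ∀ x x', B (Jl x) (Jl x') = B x x' := by
    intro x x'
    obtain ⟨w₁, w₂, rfl⟩ := hdecomp x
    obtain ⟨w₁', w₂', rfl⟩ := hdecomp x'
    simp only [map_add, LinearMap.add_apply, hJten, hτB, hf1ω]
  have hJBv : ∀ x v, B (Jl x) v = B x (Jl v) - B x v := by
    intro x v
    have h5 : v = Jl (Jl v) - Jl v := by rw [hJJ]; abel
    conv_lhs => rw [h5]
    rw [map_sub, hJB, hJB]
  -- the ambient groups
  let G : Subgroup ((ι → F) ≃ₗ[F] (ι → F)) := ⁅oG Q, oG Q⁆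
  have hG2 : ∀ u z, Q u = 0 → B u z = 0 → sieg Q B u z ∈ G := by
    intro u z hu huz
    rw [hBdef] at huz ⊢
    exact sieg_mem_commutator' Q _ hQs hQp (gen_hN Q hQ) (by rw [hfrV]; exact hn) hu huz
  let T' : Subgroup ((ι → F) ≃ₗ[F] (ι → F)) :=
    (Cfsg.Geo.tensorProductSubgroup 2 n₂ e P).comap (glEquiv ι F).symm.toMonoidHom
  have hTeq : Cfsg.Geo.tensorProductSubgroup 2 n₂ e P = T'.comap (glEquiv ι F).toMonoidHom :=
    (comap_symm_comap (glEquiv ι F) _).symm
  have hTfac : ∀ g ∈ T', ∃ (A : Matrix (Fin 2) (Fin 2) F) (B' : Matrix (Fin n₂) (Fin n₂) F),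
      ∀ (a : Fin 2 → F) (y : Fin n₂ → F),
        g (phi e P (ten a y)) = phi e P (ten (A *ᵥ a) (B' *ᵥ y)) := by
    intro g hg
    obtain ⟨A, B', hAB⟩ := exists_factors e P (Subgroup.mem_comap.mp hg)
    refine ⟨A, B', fun a y => ?_⟩
    have := hAB a y
    simp only [MulEquiv.toMonoidHom_eq_coe, MonoidHom.coe_coe, MulEquiv.apply_symm_apply] at this
    exact this
  -- the overgroup
  let K : Subgroup ((ι → F) ≃ₗ[F] (ι → F)) :=
    { carrier := {g | g ∈ G ∧ ((∀ x, g (Jl x) = Jl (g x)) ∨ (∀ x, g (Jl x) = Jl (g x) + g x))}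
      mul_mem' := by
        rintro a₁ a₂ ⟨haG, ha⟩ ⟨hbG, hb'⟩
        refine ⟨G.mul_mem haG hbG, ?_⟩
        rcases ha with ha | ha <;> rcases hb' with hb' | hb'
        · left
          intro x
          rw [LinearEquiv.mul_apply, LinearEquiv.mul_apply, hb', ha]
        · right
          intro x
          rw [LinearEquiv.mul_apply, LinearEquiv.mul_apply, hb', map_add, ha]
        · right
          intro x
          rw [LinearEquiv.mul_apply, LinearEquiv.mul_apply, hb', ha]
        · left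
          intro x
          rw [LinearEquiv.mul_apply, LinearEquiv.mul_apply, hb', map_add, ha, add_assoc, hvv,
            add_zero]
      one_mem' := ⟨G.one_mem, Or.inl (fun x => rfl)⟩
      inv_mem' := by
        rintro a₁ ⟨haG, ha⟩
        refine ⟨G.inv_mem haG, ?_⟩
        rcases ha with ha | ha
        · left
          intro x
          apply a₁.injective
          rw [apply_inv_apply', ha, apply_inv_apply']
        · right
          intro x
          apply a₁.injective
          rw [apply_inv_apply', map_add, ha, apply_inv_apply', add_assoc, hvv, add_zero] }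
  have hKmem : ∀ g, g ∈ K ↔ g ∈ G ∧ ((∀ x, g (Jl x) = Jl (g x)) ∨
      (∀ x, g (Jl x) = Jl (g x) + g x)) := fun g => Iff.rfl
  -- the relevant vectors
  obtain ⟨u, hu⟩ : ∃ u : ι → F, u = phi e P (ten e₀ b) := ⟨_, rfl⟩
  obtain ⟨z, hz⟩ : ∃ z : ι → F, z = phi e P (ten e₀ b') := ⟨_, rfl⟩
  obtain ⟨x, hx⟩ : ∃ x : ι → F, x = phi e P (ten e₁ y) := ⟨_, rfl⟩
  obtain ⟨z', hz'⟩ : ∃ z' : ι → F, z' = phi e P (ten e₁ b') := ⟨_, rfl⟩
  have hQu : Q u = 0 := by rw [hu]; exact hτQ _ _
  have hQz : Q z = 0 := by rw [hz]; exact hτQ _ _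
  have hQz' : Q z' = 0 := by rw [hz']; exact hτQ _ _
  have hBuz : B u z = 0 := by
    rw [hu, hz, hτB, hbb', mul_zero]
  have hBuu : B u u = 0 := by
    rw [hu, hτB, hf₂.alternating, mul_zero]
  have hBxu : B x u = 1 := by
    rw [hx, hu, hτB, hf1, e10, e11, e00, e01, hyb]
    ring
  have hBxz : B x z = β := by
    rw [hx, hz, hτB, hf1, e10, e11, e00, e01, ← hβ]
    ring
  have hu0 : u ≠ 0 := by
    intro h
    rw [h, map_zero] at hBxu
    exact zero_ne_one hBxu
  have hJu : Jl u = phi e P (ten e₁ b) := by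
    rw [hu, hJten]
    congr 2
    ext i
    fin_cases i
    · simp [e01, e10]
    · simp [e00, e01, e11]
  have hJz : Jl z = z' := by
    rw [hz, hz', hJten]
    congr 2
    ext i
    fin_cases i
    · simp [e01, e10]
    · simp [e00, e01, e11]
  refine ⟨K.comap (glEquiv ι F).toMonoidHom, ?_, ?_⟩
  · rw [hTeq, omegaGL_eq, ← Subgroup.comap_inf]
    apply (Subgroup.comap_lt_comap_of_surjective (glEquiv ι F).surjective).mpr
    refine lt_of_le_of_ne ?_ ?_
    · rintro g ⟨hgT, hgG⟩
      rw [hKmem]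
      refine ⟨hgG, ?_⟩
      obtain ⟨A, B', hAB⟩ := hTfac g hgT
      have hdet : A.det ≠ 0 := by
        intro h0
        obtain ⟨a, ha0, haz⟩ := Matrix.exists_mulVec_eq_zero_iff.mpr h0
        have h5 := hAB a b
        rw [haz, ten_zero_left, map_zero] at h5
        have h6 : phi e P (ten a b) = 0 := g.injective (by rw [h5, map_zero])
        have h7 : ten a b = 0 := (phi e P).injective (by rw [h6, map_zero])
        apply ha0
        ext i
        have := congrFun h7 (i, j0)
        rw [hb] at this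
        simpa using this
      rcases two_by_two hF2 A hdet with hA | hA
      · left
        intro x
        refine hext ((g : (ι → F) →ₗ[F] (ι → F)) ∘ₗ Jl) (Jl ∘ₗ (g : (ι → F) →ₗ[F] (ι → F)))
          (fun a y => ?_) x
        simp only [LinearMap.comp_apply, LinearEquiv.coe_coe]
        rw [hJten, hAB, hAB, hJten, hA]
      · right
        intro x
        refine hext ((g : (ι → F) →ₗ[F] (ι → F)) ∘ₗ Jl)
          (Jl ∘ₗ (g : (ι → F) →ₗ[F] (ι → F)) + (g : (ι → F) →ₗ[F] (ι → F))) (fun a y => ?_) x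
        simp only [LinearMap.comp_apply, LinearMap.add_apply, LinearEquiv.coe_coe]
        rw [hJten, hAB, hAB, hJten, hA, ten_add_left, map_add]
    · intro heq
      -- the unitary transvection
      obtain ⟨v, hv⟩ : ∃ v : ι → F, v = u + z' := ⟨_, rfl⟩
      have hJv : Jl v = phi e P (ten e₁ b) + phi e P (ten (omg e₁) b') := by
        rw [hv, map_add, hJu, hz', hJten]
      have hBuz' : B u z' = 0 := by rw [hu, hz', hτB, hbb', mul_zero]
      have hQv : Q v = 0 := by
        rw [hv, hQp', hQu, hQz', hBuz']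
        ring
      have hBvJv : B v (Jl v) = 0 := by
        rw [hJv, hv, hu, hz']
        simp only [map_add, LinearMap.add_apply, hτB, hbb', hb'b, hf₂.alternating, mul_zero,
          add_zero]
      have hQJv : Q (Jl v) = 0 := by
        rw [hJv, hQp', hτQ, hτQ, hτB, hbb', mul_zero]
        ring
      have hg₀ : ∀ x, sieg Q B v (Jl v) x = x + B x v • Jl v - B x (Jl v) • v := by
        intro x
        rw [sieg_apply Q B hQs hQp' hQv hBvJv, hQJv, zero_mul, zero_smul, sub_zero]
      have hg₀K : sieg Q B v (Jl v) ∈ K := by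
        rw [hKmem]
        refine ⟨hG2 _ _ hQv hBvJv, Or.inl fun x => ?_⟩
        rw [hg₀, hg₀, hJB, hJBv, map_sub, map_add, map_smul, map_smul, hJJ]
        have : Jl x + (B x (Jl v) - B x v) • Jl v - B x v • v =
            Jl x + B x v • (Jl v + v) - B x (Jl v) • Jl v +
              (2 : F) • ((B x (Jl v) - B x v) • Jl v - B x v • v) := by
          module
        rw [this, h2, zero_smul, add_zero]
      rw [← heq] at hg₀K
      obtain ⟨A, B', hAB⟩ := hTfac _ hg₀K.1
      have hBxv : B x v = 1 := by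
        rw [hv, map_add, hBxu, hx, hz', hτB, hf₁.alternating, zero_mul, add_zero]
      have hBxJv : B x (Jl v) = β := by
        rw [hJv, map_add, hx, hτB, hτB, hf₁.alternating, zero_mul, zero_add, hf1, omg_zero,
          omg_one, e10, e11, ← hβ]
        ring
      have h5 := hAB e₁ y
      rw [← hx, hg₀, hBxv, hBxJv, one_smul] at h5
      -- pairing with test vectors
      have hE1 : ∀ s : Fin n₂ → F, (A *ᵥ e₁) 0 * f₂ (B' *ᵥ y) s = f₂ b' s - β * f₂ b s := by
        intro s
        have h6 := congrArg (fun w => B w (phi e P (ten e₁ s))) h5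
        simp only [map_add, map_sub, map_smul, LinearMap.add_apply, LinearMap.sub_apply,
          LinearMap.smul_apply, hv, hu, hz', hx, hJten, hτB, hf1, omg_zero, omg_one, e00, e01, e10,
          e11, smul_eq_mul] at h6
        linear_combination -h6
      have hE0 : ∀ s : Fin n₂ → F, (A *ᵥ e₁) 1 * f₂ (B' *ᵥ y) s =
          f₂ y s + f₂ b s + f₂ b' s - β * f₂ b' s := by
        intro s
        have h6 := congrArg (fun w => B w (phi e P (ten e₀ s))) h5
        simp only [map_add, map_sub, map_smul, LinearMap.add_apply, LinearMap.sub_apply,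
          LinearMap.smul_apply, hv, hu, hz', hx, hJten, hτB, hf1, omg_zero, omg_one, e00, e01, e10,
          e11, smul_eq_mul] at h6
        linear_combination -h6
      have h7 := hE0 b
      rw [hyb, hf₂.alternating, hb'b] at h7
      have h8 : (A *ᵥ e₁) 1 ≠ 0 := by
        intro h0
        rw [h0] at h7
        have : (1 : F) = 0 := by linear_combination -h7
        exact one_ne_zero this
      have h9 : f₂ (B' *ᵥ y) b = 1 := by
        rw [hone _ h8] at h7
        linear_combination h7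
      have h10 := hE1 b
      rw [h9, hb'b, hf₂.alternating] at h10
      have h12 : (A *ᵥ e₁) 0 = 0 := by linear_combination h10
      obtain ⟨s, hs⟩ := (hf₂.nondegenerate _ (hw β)).2
      apply hs
      rw [hf2sub]
      have := hE1 s
      rw [h12, zero_mul] at this
      exact this.symm
  · rw [omegaGL_eq]
    apply (Subgroup.comap_lt_comap_of_surjective (glEquiv ι F).surjective).mpr
    refine lt_of_le_of_ne (fun g hg => ((hKmem g).mp hg).1) ?_
    intro heq
    have hg₁K : sieg Q B u z ∈ K := by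
      rw [heq]
      exact hG2 _ _ hQu hBuz
    have hg₁ : ∀ x, sieg Q B u z x = x + B x u • z - B x z • u := by
      intro x
      rw [sieg_apply Q B hQs hQp' hQu hBuz, hQz, zero_mul, zero_smul, sub_zero]
    rcases ((hKmem _).mp hg₁K).2 with hC | hA
    · have h5 := hC x
      have hBJxu : B (Jl x) u = 1 := by
        rw [hx, hJten, hu, hτB, hf1, omg_zero, omg_one, e00, e01, e10, e11, hyb]
        ring
      have hBJxz : B (Jl x) z = β := by
        rw [hx, hJten, hz, hτB, hf1, omg_zero, omg_one, e00, e01, e10, e11, ← hβ]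
        ring
      rw [hg₁, hg₁, hBJxu, hBJxz, hBxu, hBxz, map_sub, map_add, map_smul, map_smul, hJz, hJu,
        one_smul, one_smul] at h5
      obtain ⟨s, hs⟩ := (hf₂.nondegenerate _ (hw β)).2
      have h6 := congrArg (fun w => B w (phi e P (ten e₁ s))) h5
      simp only [map_add, map_sub, map_smul, LinearMap.add_apply, LinearMap.sub_apply,
        LinearMap.smul_apply, hz, hz', hu, hτB, hf1, e00, e01, e10, e11, smul_eq_mul] at h6
      apply hs
      rw [hf2sub]
      linear_combination h6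
    · have h5 := hA u
      have hBJuu : B (Jl u) u = 0 := by
        rw [hJu, hu, hτB, hf₂.alternating, mul_zero]
      have hBJuz : B (Jl u) z = 0 := by
        rw [hJu, hz, hτB, hbb', mul_zero]
      rw [hg₁, hg₁, hBJuu, hBJuz, hBuu, hBuz] at h5
      simp only [zero_smul, add_zero, sub_zero] at h5
      apply hu0
      have : Jl u + u = Jl u + 0 := by rw [add_zero]; exact h5.symm
      exact add_left_cancel this

end main

end Cfsg.Agent.Lib.Helper94_TensorF4
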