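import Mathlib
import Cfsg.Agent.Lib.Helper94_UQStep
import Cfsg.Agent.Lib.Helper50_UQNumDefs
import Cfsg.Agent.Lib.Helper91_S2151_PTS
import Cfsg.Agent.Lib.Helper9_S2151_CNT

set_option autoImplicit false
set_option linter.unusedSectionVars false
set_option linter.unusedVariables false

/-!
# S2152: the induction over even dimensions (assembly layer)

* `card_isoPt_even` : the number of isotropic points of a nondegenerate hermitian space of even
  dimension `n` over a field with `q ^ 2` elements is `Npt q n` (from S2151-PTS + S2151-CNT).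
* `su_even_bound_of` : every proper subgroup of `SUg B` (`dim V = 2 m ≥ 6`, `q ≥ 3`) has index
  `≥ Npt q (2 m)`, by induction on `m` through `Helper94_UQStep.step_geo_main_index`, from
  the base bound `W4` in dimension `4`, the covering count `hsub` in even dimension and the
  numerics `NUM` (all three taken as hypotheses in the shape of helper50's packages).
-/

open Module Cfsg.Agent.Lib.Helper94_Symp Cfsg.Agent.Lib.Helper94_Herm
  Cfsg.Agent.Lib.Helper94_HermEich Cfsg.Agent.Lib.Helper94_HermPara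
  Cfsg.Agent.Lib.Helper94_HermTrans
  Cfsg.Agent.Lib.Helper13_SUGen Cfsg.Agent.Lib.Helper13_PSUSimple
  Cfsg.Agent.Lib.Helper46_U3TI Cfsg.Agent.Lib.Helper14_PSULocal1
  Cfsg.Agent.Lib.Helper27_UQDefs Cfsg.Agent.Lib.Helper50_UQAbsDefs
  Cfsg.Agent.Lib.Helper94_UQInst Cfsg.Agent.Lib.Helper94_UQPts
  Cfsg.Agent.Lib.Helper94_UQStep Cfsg.Agent.Lib.Helper50_UQNumDefs
  Cfsg.Agent.Lib.Helper27_UQ_KISO

namespace Cfsg.Agent.Lib.Helper94_UQEven

universe u

variable {F : Type*} [Field F] {σ : F →+* F}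

/-- the number of isotropic points in even dimension -/
theorem card_isoPt_even {V : Type u} [AddCommGroup V] [Module F V] [Finite F]
    [FiniteDimensional F V] (B : V →ₗ[F] V →ₛₗ[σ] F) (hσ : Invol σ) (hB : IsHerm B)
    (hN : NondegOn B ⊤) {q : ℕ} (hF : Nat.card F = q ^ 2) (n : ℕ) (hn : finrank F V = n)
    (hn1 : 1 ≤ n) (hev : Even n) : Nat.card (IsoPt B) = Npt q n := by
  have hq2 : 2 ≤ q := two_le_q hF
  have h1 := (Cfsg.Agent.Lib.Helper9_S2151_CNT.CNT B hσ hB hN hF n hn hn1).1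
  rw [if_pos hev, if_pos hev] at h1
  have h2 := Cfsg.Agent.Lib.Helper91_S2151_PTS.PTS B hF
  have hpow : q ^ (2 * n - 1) = q ^ n * q ^ (n - 1) := by
    rw [← pow_add]
    congr 1
    omega
  have hqn : 0 < q ^ n := Nat.pow_pos (by omega)
  obtain ⟨b', hb'⟩ : ∃ b', q ^ n = b' + 1 := ⟨q ^ n - 1, by omega⟩
  have hq21 : 0 < q ^ 2 - 1 := by
    have : 4 ≤ q ^ 2 := by nlinarith
    omega
  have key : (q ^ n - 1) * (q ^ (n - 1) + 1) = (q ^ 2 - 1) * Nat.card (IsoPt B) := by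
    rw [hpow, hb'] at h1
    rw [hb', Nat.add_sub_cancel]
    have e1 : (b' + 1) * q ^ (n - 1) = b' * q ^ (n - 1) + q ^ (n - 1) := by ring
    have e2 : b' * (q ^ (n - 1) + 1) = b' * q ^ (n - 1) + b' := by ring
    rw [e1] at h1
    rw [e2]
    omega
  rw [Npt_def, key, Nat.mul_div_cancel_left _ hq21]

/-- **The induction over even dimensions**, from the base bound in dimension `4`, the covering
count and the numerics. -/
theorem su_even_bound_of [Finite F] (hσ : Invol σ) {q : ℕ} (hF : Nat.card F = q ^ 2)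
    (hq : 3 ≤ q)
    (hNUM : ∀ d : ℕ, 2 ≤ d → Even d →
      (Npt q (d + 2) = 1 + q ^ 2 * Npt q d + q ^ (2 * d + 1)) ∧
      (1 + q ^ 2 * Npt q d ≤ 2 * q ^ (2 * d)) ∧
      (0 < Npt q d) ∧
      (6 ≤ d → Npt q (d + 2) ≤ Npt q d * q ^ (d + 1)) ∧
      (Npt q 6 ≤ (q + 1) * q ^ 3 * q ^ (4 + 1)))
    (hW4 : ∀ (V : Type u) [AddCommGroup V] [Module F V] [FiniteDimensional F V]
      (B : V →ₗ[F] V →ₛₗ[σ] F), IsHerm B → NondegOn B ⊤ → finrank F V = 4 →
      ∀ H : Subgroup ↥(SUg B), H ≠ ⊤ → (q + 1) * q ^ 3 ≤ H.index)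
    (hSUB : ∀ (V : Type u) [AddCommGroup V] [Module F V] [FiniteDimensional F V]
      (B : V →ₗ[F] V →ₛₗ[σ] F) (hB : IsHerm B), NondegOn B ⊤ → ∀ {v v' : V}
      (h : HypPair B v v') (d μ : ℕ), finrank F ↥(Wsub B v v') = d → Even d →
      ((d = 4 ∧ μ = (q + 1) * q ^ 3) ∨ (6 ≤ d ∧ μ = Npt q d)) →
      (∀ E : Subgroup ↥(SUg B), E ≤ (udat hσ hB h).K → E ≠ (udat hσ hB h).K →
        μ ≤ E.relIndex (udat hσ hB h).K) →
      ∀ J : AddSubgroup ↥(Wsub B v v'), J ≠ ⊤ →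
        q ^ 2 * Npt q d ≤ J.index * Nat.card {S : Set ↥(Wsub B v v') //
          ∃ k ∈ (udat hσ hB h).K, S = (udat hσ hB h).ρ k '' (J : Set ↥(Wsub B v v'))}) :
    ∀ m : ℕ, 3 ≤ m → ∀ (V : Type u) [AddCommGroup V] [Module F V] [FiniteDimensional F V]
      (B : V →ₗ[F] V →ₛₗ[σ] F), IsHerm B → NondegOn B ⊤ → finrank F V = 2 * m →
      ∀ H : Subgroup ↥(SUg B), H ≠ ⊤ → Npt q (2 * m) ≤ H.index := by
  intro m hm
  induction m, hm using Nat.le_induction with
  | base =>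
    intro V _ _ _ B hB hN hfin
    obtain ⟨v, v', h⟩ := Cfsg.Agent.Lib.Helper13_PSUSimple.exists_hypPair hσ hB hN (by omega)
    have hd : finrank F V = 4 + 2 := by omega
    have hfW : finrank F ↥(Wsub B v v') = 4 := finrank_W h hd
    have hBw : IsHerm (Bw B (Wsub B v v')) := isHerm_Bw hB _
    have hNw : NondegOn (Bw B (Wsub B v v')) ⊤ :=
      nondeg_Bw (by rw [Wsub_eq_Wp]; exact nondegOn_Wp hB hN h)
    have hμ := kv_bound_of_ih hσ hB h ((q + 1) * q ^ 3) (hW4 _ _ hBw hNw hfW)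
    obtain ⟨n1, n2, n3, -, n5⟩ := hNUM 4 (by omega) (by decide)
    have hP : Nat.card (IsoPt B) = Npt q 6 :=
      card_isoPt_even B hσ hB hN hF 6 (by omega) (by omega) (by decide)
    have hT1 : 0 < q ^ 2 * Npt q 4 := Nat.mul_pos (Nat.pow_pos (by omega)) n3
    exact step_geo_main_index hσ hB hN hF hq h 4 ((q + 1) * q ^ 3) (Npt q 6) (q ^ 2 * Npt q 4)
      hd le_rfl hP n1 hT1 n2 n5 hμ
      (hSUB V B hB hN h 4 ((q + 1) * q ^ 3) hfW (by decide) (Or.inl ⟨rfl, rfl⟩) hμ)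
  | succ m hm ih =>
    intro V _ _ _ B hB hN hfin
    obtain ⟨v, v', h⟩ := Cfsg.Agent.Lib.Helper13_PSUSimple.exists_hypPair hσ hB hN (by omega)
    have hd : finrank F V = 2 * m + 2 := by omega
    have hfW : finrank F ↥(Wsub B v v') = 2 * m := finrank_W h hd
    have hBw : IsHerm (Bw B (Wsub B v v')) := isHerm_Bw hB _
    have hNw : NondegOn (Bw B (Wsub B v v')) ⊤ :=
      nondeg_Bw (by rw [Wsub_eq_Wp]; exact nondegOn_Wp hB hN h)
    have hμ := kv_bound_of_ih hσ hB h (Npt q (2 * m)) (ih _ _ hBw hNw hfW)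
    have hev : Even (2 * m) := even_two_mul m
    obtain ⟨n1, n2, n3, n4, -⟩ := hNUM (2 * m) (by omega) hev
    have hP : Nat.card (IsoPt B) = Npt q (2 * (m + 1)) :=
      card_isoPt_even B hσ hB hN hF (2 * (m + 1)) hfin (by omega) (even_two_mul _)
    have hT1 : 0 < q ^ 2 * Npt q (2 * m) := Nat.mul_pos (Nat.pow_pos (by omega)) n3
    have e : 2 * (m + 1) = 2 * m + 2 := by ring
    rw [e] at hP ⊢
    exact step_geo_main_index hσ hB hN hF hq h (2 * m) (Npt q (2 * m)) (Npt q (2 * m + 2))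
      (q ^ 2 * Npt q (2 * m)) hd (by omega) hP n1 hT1 n2 (n4 (by omega)) hμ
      (hSUB V B hB hN h (2 * m) (Npt q (2 * m)) hfW hev (Or.inr ⟨by omega, rfl⟩) hμ)

end Cfsg.Agent.Lib.Helper94_UQEven
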