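import Mathlib

/-!
# Abelian permutation groups: orbit-product bound and saturation (helper95)

For a subgroup `A` of `Perm α` with pairwise commuting elements which is *adapted* to a colouring
`c : α → ι` (it preserves the colours and is transitive on each colour class), we prove
`Nat.card A ≤ ∏ i, Nat.card {x // c x = i}`, construct the saturation `sat A c` and the
restriction of an element to one colour class.
-/

set_option autoImplicit false
set_option linter.unusedSectionVars false

namespace Cfsg.Agent.Helper95AbelAlt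

open Equiv

variable {α : Type*} [Fintype α] [DecidableEq α] {ι : Type*} [Fintype ι] [DecidableEq ι]

/-- `A` preserves the colouring `c` and is transitive on each colour class. -/
structure Adapted (A : Subgroup (Perm α)) (c : α → ι) : Prop where
  pres : ∀ a ∈ A, ∀ x, c (a x) = c x
  trans : ∀ x y, c x = c y → ∃ a ∈ A, a x = y

/-- The elements of `A` commute pairwise. -/
def Comm (A : Subgroup (Perm α)) : Prop := ∀ a ∈ A, ∀ b ∈ A, a * b = b * a

omit [Fintype α] [DecidableEq α] [Fintype ι] [DecidableEq ι] in
/-- Regularity: two elements of a commutative adapted group agreeing at a point agree on its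
whole colour class. -/
theorem agree_on_class {A : Subgroup (Perm α)} {c : α → ι} (hA : Adapted A c) (hc : Comm A)
    {a b : Perm α} (ha : a ∈ A) (hb : b ∈ A) {x y : α} (hxy : c y = c x) (h : a x = b x) :
    a y = b y := by
  obtain ⟨k, hk, rfl⟩ := hA.trans x y hxy.symm
  have h1 : a (k x) = k (a x) := by
    have := hc a ha k hk
    have := congrArg (fun f : Perm α => f x) this
    simpa [Perm.mul_apply] using this
  have h2 : b (k x) = k (b x) := by
    have := hc b hb k hk
    have := congrArg (fun f : Perm α => f x) this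
    simpa [Perm.mul_apply] using this
  rw [h1, h2, h]

omit [Fintype α] [DecidableEq α] [Fintype ι] [DecidableEq ι] in
theorem fix_on_class {A : Subgroup (Perm α)} {c : α → ι} (hA : Adapted A c) (hc : Comm A)
    {a : Perm α} (ha : a ∈ A) {x y : α} (hxy : c y = c x) (h : a x = x) :
    a y = y := by
  have := agree_on_class hA hc ha A.one_mem hxy (by simpa using h)
  simpa using this

omit [DecidableEq α] [DecidableEq ι] in
/-- The orbit-product bound. -/
theorem card_le_prod {A : Subgroup (Perm α)} {c : α → ι} (hsurj : Function.Surjective c)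
    (hA : Adapted A c) (hc : Comm A) :
    Nat.card A ≤ ∏ i, Nat.card {x // c x = i} := by
  classical
  obtain ⟨s, hs⟩ := hsurj.hasRightInverse
  let f : A → (∀ i, {x // c x = i}) := fun a i => ⟨a.1 (s i), by rw [hA.pres a.1 a.2, hs i]⟩
  have hf : Function.Injective f := by
    intro a b hab
    apply Subtype.ext
    ext y
    have h1 : a.1 (s (c y)) = b.1 (s (c y)) := by
      have := congrFun hab (c y)
      exact congrArg Subtype.val this
    exact agree_on_class hA hc a.2 b.2 (hs (c y)).symm h1
  calc Nat.card A ≤ Nat.card (∀ i, {x // c x = i}) := Nat.card_le_card_of_injective f hf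
    _ = ∏ i, Nat.card {x // c x = i} := Nat.card_pi

omit [DecidableEq α] [DecidableEq ι] in
theorem sum_fib (c : α → ι) : ∑ i, Nat.card {x // c x = i} = Fintype.card α := by
  classical
  rw [← Nat.card_eq_fintype_card, ← Nat.card_congr (Equiv.sigmaFiberEquiv c), Nat.card_sigma]

/-- The saturation of `A` with respect to the colouring `c`: permutations that agree, on each
colour class, with some element of `A`. -/
def sat (A : Subgroup (Perm α)) (c : α → ι) (hA : Adapted A c) : Subgroup (Perm α) where
  carrier := {g | ∀ i, ∃ a ∈ A, ∀ y, c y = i → g y = a y}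
  one_mem' := fun i => ⟨1, A.one_mem, fun _ _ => rfl⟩
  mul_mem' := by
    intro g h hg hh i
    obtain ⟨a, ha, hga⟩ := hg i
    obtain ⟨b, hb, hhb⟩ := hh i
    refine ⟨a * b, A.mul_mem ha hb, fun y hy => ?_⟩
    rw [Perm.mul_apply, Perm.mul_apply, hhb y hy, hga (b y) (by rw [hA.pres b hb, hy])]
  inv_mem' := by
    intro g hg i
    obtain ⟨a, ha, hga⟩ := hg i
    refine ⟨a⁻¹, A.inv_mem ha, fun y hy => ?_⟩
    have h1 : c (a⁻¹ y) = i := by rw [hA.pres _ (A.inv_mem ha), hy]
    have h2 := hga (a⁻¹ y) h1
    have h3 : a (a⁻¹ y) = y := by simp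
    rw [h3] at h2
    rw [Perm.inv_eq_iff_eq]
    exact h2.symm

omit [Fintype α] [DecidableEq α] [Fintype ι] [DecidableEq ι] in
theorem mem_sat {A : Subgroup (Perm α)} {c : α → ι} {hA : Adapted A c} {g : Perm α} :
    g ∈ sat A c hA ↔ ∀ i, ∃ a ∈ A, ∀ y, c y = i → g y = a y := Iff.rfl

omit [Fintype α] [DecidableEq α] [Fintype ι] [DecidableEq ι] in
theorem le_sat {A : Subgroup (Perm α)} {c : α → ι} (hA : Adapted A c) : A ≤ sat A c hA :=
  fun a ha _ => ⟨a, ha, fun _ _ => rfl⟩

omit [Fintype α] [DecidableEq α] [Fintype ι] [DecidableEq ι] in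
theorem sat_adapted {A : Subgroup (Perm α)} {c : α → ι} (hA : Adapted A c) :
    Adapted (sat A c hA) c where
  pres := by
    intro g hg x
    obtain ⟨a, ha, hga⟩ := hg (c x)
    rw [hga x rfl, hA.pres a ha]
  trans := by
    intro x y hxy
    obtain ⟨a, ha, h⟩ := hA.trans x y hxy
    exact ⟨a, le_sat hA ha, h⟩

omit [Fintype α] [DecidableEq α] [Fintype ι] [DecidableEq ι] in
theorem sat_comm {A : Subgroup (Perm α)} {c : α → ι} (hA : Adapted A c) (hc : Comm A) :
    Comm (sat A c hA) := by
  intro g hg h hh
  ext y
  obtain ⟨a, ha, hga⟩ := hg (c y)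
  obtain ⟨b, hb, hhb⟩ := hh (c y)
  rw [Perm.mul_apply, Perm.mul_apply, hhb y rfl, hga y rfl,
    hga (b y) (hA.pres b hb y), hhb (a y) (hA.pres a ha y)]
  have := congrArg (fun f : Perm α => f y) (hc a ha b hb)
  simpa [Perm.mul_apply] using this

/-- The restriction of a colour-preserving permutation to one colour class. -/
def res (a : Perm α) (c : α → ι) (h : ∀ x, c (a x) = c x) (i : ι) : Perm α :=
  Perm.ofSubtype (a.subtypePerm (p := fun x => c x = i) (fun x => by rw [h x]))

theorem res_apply_of_mem (a : Perm α) (c : α → ι) (h : ∀ x, c (a x) = c x) (i : ι) {y : α}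
    (hy : c y = i) : res a c h i y = a y :=
  Perm.ofSubtype_subtypePerm_of_mem _ hy

theorem res_apply_of_not_mem (a : Perm α) (c : α → ι) (h : ∀ x, c (a x) = c x) (i : ι) {y : α}
    (hy : c y ≠ i) : res a c h i y = y :=
  Perm.ofSubtype_subtypePerm_of_not_mem _ hy

theorem sign_res (a : Perm α) (c : α → ι) (h : ∀ x, c (a x) = c x) (i : ι) :
    Perm.sign (res a c h i) =
      Perm.sign (a.subtypePerm (p := fun x => c x = i) (fun x => by rw [h x])) := by
  unfold res
  rw [Perm.sign_ofSubtype]

theorem res_mem_sat {A : Subgroup (Perm α)} {c : α → ι} (hA : Adapted A c) {a : Perm α}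
    (ha : a ∈ A) (i : ι) : res a c (hA.pres a ha) i ∈ sat A c hA := by
  intro j
  by_cases hij : j = i
  · subst hij
    exact ⟨a, ha, fun y hy => res_apply_of_mem a c _ _ hy⟩
  · refine ⟨1, A.one_mem, fun y hy => ?_⟩
    rw [res_apply_of_not_mem a c _ _ (by rw [hy]; exact hij)]
    rfl

end Cfsg.Agent.Helper95AbelAlt
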