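import Mathlib

/-!
# Arithmetic for the orbit-shape analysis of abelian subgroups of alternating groups (helper95)
-/

set_option autoImplicit false

namespace Cfsg.Agent.Helper95AbelAlt

theorem two_cube_le {m : ℕ} (h : 6 ≤ m) : 2 * m ^ 3 ≤ 3 ^ m := by
  induction m, h using Nat.le_induction with
  | base => norm_num
  | succ k hk ih =>
    have h1 : 2 * (k + 1) ^ 3 ≤ 3 * (2 * k ^ 3) := by nlinarith [hk, mul_le_mul hk hk (by omega) (by omega)]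
    calc 2 * (k + 1) ^ 3 ≤ 3 * (2 * k ^ 3) := h1
      _ ≤ 3 * 3 ^ k := by omega
      _ = 3 ^ (k + 1) := by ring

theorem cube_le (m : ℕ) : m ^ 3 ≤ 3 ^ m := by
  rcases Nat.lt_or_ge m 6 with h | h
  · interval_cases m <;> norm_num
  · have := two_cube_le h
    omega

theorem cube_ineq {ι : Type*} [Fintype ι] [DecidableEq ι] (m : ι → ℕ) (S : Finset ι) :
    (∏ i, m i) ^ 3 * ∏ i ∈ S, 3 ^ (m i) ≤ (∏ i ∈ S, m i) ^ 3 * 3 ^ (∑ i, m i) := by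
  have h1 : (∏ i, m i) = (∏ i ∈ S, m i) * ∏ i ∈ Sᶜ, m i := (Finset.prod_mul_prod_compl S m).symm
  have h2 : (3 : ℕ) ^ (∑ i, m i) = (∏ i ∈ S, 3 ^ (m i)) * ∏ i ∈ Sᶜ, 3 ^ (m i) := by
    rw [← Finset.prod_pow_eq_pow_sum, Finset.prod_mul_prod_compl]
  have h3 : (∏ i ∈ Sᶜ, m i) ^ 3 ≤ ∏ i ∈ Sᶜ, 3 ^ (m i) := by
    rw [← Finset.prod_pow]
    exact Finset.prod_le_prod' (fun i _ => cube_le (m i))
  rw [h1, h2, mul_pow]
  calc (∏ i ∈ S, m i) ^ 3 * (∏ i ∈ Sᶜ, m i) ^ 3 * ∏ i ∈ S, 3 ^ m i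
      ≤ (∏ i ∈ S, m i) ^ 3 * (∏ i ∈ Sᶜ, 3 ^ (m i)) * ∏ i ∈ S, 3 ^ m i := by
        gcongr
    _ = (∏ i ∈ S, m i) ^ 3 * ((∏ i ∈ S, 3 ^ m i) * ∏ i ∈ Sᶜ, 3 ^ m i) := by ring

theorem size_range (j m : ℕ) (hj : j ≤ 2) (hm : 1 ≤ m) (h : 64 ^ j * 3 ^ m ≤ 81 ^ j * m ^ 3) :
    m = 2 ∨ m = 3 ∨ m = 4 := by
  rcases Nat.lt_or_ge m 6 with h6 | h6
  · interval_cases j <;> interval_cases m <;> simp_all
  · exfalso
    have h1 := two_cube_le h6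
    have h2 : 81 ^ j * (2 * m ^ 3) ≤ 81 ^ j * 3 ^ m := Nat.mul_le_mul_left _ h1
    have h3 : 0 < m ^ 3 := by positivity
    interval_cases j
    · omega
    · omega
    · omega

theorem count_le (s j : ℕ) (h : 81 ^ s * 64 ^ j ≤ 64 ^ s * 81 ^ j) : s ≤ j := by
  by_contra hlt
  push Not at hlt
  obtain ⟨d, rfl⟩ := Nat.exists_eq_add_of_lt hlt
  have h1 : (64 : ℕ) ^ (d + 1) < 81 ^ (d + 1) := Nat.pow_lt_pow_left (by norm_num) (by omega)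
  have h2 : (81 : ℕ) ^ (j + d + 1) * 64 ^ j = 81 ^ j * 64 ^ j * 81 ^ (d + 1) := by ring
  have h3 : (64 : ℕ) ^ (j + d + 1) * 81 ^ j = 81 ^ j * 64 ^ j * 64 ^ (d + 1) := by ring
  rw [h2, h3] at h
  have h4 : 0 < (81 : ℕ) ^ j * 64 ^ j := by positivity
  have := Nat.le_of_mul_le_mul_left h h4
  omega

theorem nonsplit_false (j : ℕ) (hj : j ≤ 2) : ¬ (8 * 64 ^ j ≤ 81 ^ j) := by
  interval_cases j <;> norm_num

end Cfsg.Agent.Helper95AbelAlt
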