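import Mathlib
import Cfsg.Agent.Lib.Helper95_AbelAlt

/-!
# Existence of large abelian subgroups of alternating groups (helper95)

`C₃^a × V₄^b` inside `Alt (Fin n)`, giving the lower bound used to pin down the orbit shape of an
abelian subgroup of maximal order.
-/

set_option autoImplicit false
set_option linter.unusedSectionVars false

namespace Cfsg.Agent.Helper95AbelAlt

open Equiv

/-- There is a subgroup of the alternating group on `α`, with pairwise commuting elements, of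
order `k`. -/
def Ex (α : Type*) [Fintype α] [DecidableEq α] (k : ℕ) : Prop :=
  ∃ C : Subgroup (Perm α), C ≤ alternatingGroup α ∧ Comm C ∧ Nat.card C = k

theorem Ex.sum {α β : Type*} [Fintype α] [DecidableEq α] [Fintype β] [DecidableEq β] {k l : ℕ}
    (h1 : Ex α k) (h2 : Ex β l) : Ex (α ⊕ β) (k * l) := by
  obtain ⟨C, hC, hCc, hCk⟩ := h1
  obtain ⟨D, hD, hDc, hDl⟩ := h2
  refine ⟨(C.prod D).map (Perm.sumCongrHom α β), ?_, ?_, ?_⟩
  · rintro g ⟨⟨a, b⟩, hab, rfl⟩
    rw [Subgroup.coe_prod, Set.mem_prod] at hab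
    rw [Perm.mem_alternatingGroup]
    show Perm.sign (Perm.sumCongr a b) = 1
    rw [Perm.sign_sumCongr, Perm.mem_alternatingGroup.mp (hC hab.1),
      Perm.mem_alternatingGroup.mp (hD hab.2), one_mul]
  · rintro g ⟨⟨a, b⟩, hab, rfl⟩ g' ⟨⟨a', b'⟩, hab', rfl⟩
    rw [Subgroup.coe_prod, Set.mem_prod] at hab hab'
    rw [← map_mul, ← map_mul]
    congr 1
    exact Prod.ext (hCc a hab.1 a' hab'.1) (hDc b hab.2 b' hab'.2)
  · rw [Subgroup.card_map_of_injective Perm.sumCongrHom_injective,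
      Nat.card_congr (Subgroup.prodEquiv C D).toEquiv, Nat.card_prod, hCk, hDl]

theorem Ex.congr {α β : Type*} [Fintype α] [DecidableEq α] [Fintype β] [DecidableEq β] {k : ℕ}
    (e : α ≃ β) (h : Ex α k) : Ex β k := by
  obtain ⟨C, hC, hCc, hCk⟩ := h
  refine ⟨C.map e.permCongrHom.toMonoidHom, ?_, ?_, ?_⟩
  · rintro g ⟨a, ha, rfl⟩
    rw [Perm.mem_alternatingGroup]
    show Perm.sign (e.permCongr a) = 1
    rw [Perm.sign_permCongr]
    exact Perm.mem_alternatingGroup.mp (hC ha)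
  · rintro g ⟨a, ha, rfl⟩ g' ⟨a', ha', rfl⟩
    rw [← map_mul, ← map_mul, hCc a ha a' ha']
  · rw [Subgroup.card_map_of_injective e.permCongrHom.injective, hCk]

theorem ex_zpowers {α : Type*} [Fintype α] [DecidableEq α] (g : Perm α) (p : ℕ) [Fact p.Prime]
    (hs : Perm.sign g = 1) (hp : g ^ p = 1) (h1 : g ≠ 1) : Ex α p := by
  refine ⟨Subgroup.zpowers g, ?_, ?_, ?_⟩
  · rw [Subgroup.zpowers_le]
    exact Perm.mem_alternatingGroup.mpr hs
  · rintro a ⟨m, rfl⟩ b ⟨n, rfl⟩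
    exact zpow_mul_comm g m n
  · rw [Nat.card_zpowers, orderOf_eq_prime hp h1]

theorem ex3 : Ex (Fin 3) 3 :=
  haveI : Fact (Nat.Prime 3) := ⟨by norm_num⟩
  ex_zpowers (finRotate 3) 3 (by decide) (by decide) (by decide)

theorem ex5 : Ex (Fin 5) 5 :=
  haveI : Fact (Nat.Prime 5) := ⟨by norm_num⟩
  ex_zpowers (finRotate 5) 5 (by decide) (by decide) (by decide)

/-- The four-group in `Perm (Fin 4)` as a finset. -/
def v4set : Finset (Perm (Fin 4)) :=
  {1, swap 0 1 * swap 2 3, swap 0 2 * swap 1 3, swap 0 3 * swap 1 2}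

set_option maxRecDepth 100000 in
theorem v4set_mul : ∀ g h : Perm (Fin 4), g ∈ v4set → h ∈ v4set → g * h ∈ v4set := by
  decide

set_option maxRecDepth 100000 in
theorem v4set_inv : ∀ g : Perm (Fin 4), g ∈ v4set → g⁻¹ ∈ v4set := by
  decide

set_option maxRecDepth 100000 in
theorem v4set_comm : ∀ g h : Perm (Fin 4), g ∈ v4set → h ∈ v4set → g * h = h * g := by
  decide

set_option maxRecDepth 100000 in
theorem v4set_sign : ∀ g : Perm (Fin 4), g ∈ v4set → Perm.sign g = 1 := by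
  decide

theorem v4set_card : v4set.card = 4 := by
  decide

/-- The four-group in `Perm (Fin 4)`. -/
def v4 : Subgroup (Perm (Fin 4)) where
  carrier := {g | g ∈ v4set}
  one_mem' := by decide
  mul_mem' := fun {g h} hg hh => v4set_mul g h hg hh
  inv_mem' := fun {g} hg => v4set_inv g hg

theorem ex4 : Ex (Fin 4) 4 := by
  refine ⟨v4, ?_, ?_, ?_⟩
  · intro g hg
    exact Perm.mem_alternatingGroup.mpr (v4set_sign g hg)
  · intro g hg h hh
    exact v4set_comm g h hg hh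
  · have : Nat.card v4 = Nat.card {g // g ∈ v4set} := rfl
    rw [this, Nat.card_eq_fintype_card, Fintype.card_coe, v4set_card]

theorem ex8 : Ex (Fin 8) 16 := by
  have := Ex.congr (finSumFinEquiv (m := 4) (n := 4)) (Ex.sum ex4 ex4)
  exact this

theorem ex_step {n k : ℕ} (h : Ex (Fin n) k) : Ex (Fin (n + 3)) (k * 3) :=
  Ex.congr (finSumFinEquiv (m := n) (n := 3)) (Ex.sum h ex3)

theorem ex_low : ∀ n : ℕ, 3 ≤ n → n ≠ 5 →
    ∃ k, Ex (Fin n) k ∧ 64 ^ (n % 3) * 3 ^ n ≤ 81 ^ (n % 3) * k ^ 3 := by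
  intro n
  induction n using Nat.strong_induction_on with
  | _ n ih =>
    intro h3 h5
    by_cases hn3 : n = 3
    · subst hn3; exact ⟨3, ex3, by norm_num⟩
    by_cases hn4 : n = 4
    · subst hn4; exact ⟨4, ex4, by norm_num⟩
    by_cases hn8 : n = 8
    · subst hn8; exact ⟨16, ex8, by norm_num⟩
    obtain ⟨m, rfl⟩ : ∃ m, n = m + 3 := ⟨n - 3, by omega⟩
    obtain ⟨k, hk, hineq⟩ := ih m (by omega) (by omega) (by omega)
    refine ⟨k * 3, ex_step hk, ?_⟩
    rw [Nat.add_mod_right]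
    calc 64 ^ (m % 3) * 3 ^ (m + 3) = 27 * (64 ^ (m % 3) * 3 ^ m) := by ring
      _ ≤ 27 * (81 ^ (m % 3) * k ^ 3) := Nat.mul_le_mul_left _ hineq
      _ = 81 ^ (m % 3) * (k * 3) ^ 3 := by ring

end Cfsg.Agent.Helper95AbelAlt
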