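import Mathlib
import Cfsg.Agent.Lib.Helper95_AbelAlt
import Cfsg.Agent.Lib.Helper95_AbelAltArith

/-!
# Orbit shape of an abelian subgroup of maximal order in an alternating group (helper95)
-/

set_option autoImplicit false
set_option linter.unusedSectionVars false

namespace Cfsg.Agent.Helper95AbelAlt

open Equiv

theorem perm_fin2_even : ∀ g : Perm (Fin 2), Perm.sign g = 1 → g = 1 := by
  decide

theorem perm_fin3_det : ∀ g h : Perm (Fin 3), Perm.sign g = 1 → Perm.sign h = 1 →
    (∀ z, g z ≠ z) → (∀ z, h z ≠ z) → (∃ z, g z = h z) → g = h := by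
  decide

set_option maxRecDepth 100000 in
theorem perm_fin4_det : ∀ g h : Perm (Fin 4), Perm.sign g = 1 → Perm.sign h = 1 →
    (∀ z, g z ≠ z) → (∀ z, h z ≠ z) → (∃ z, g z = h z) → g = h := by
  decide

theorem eq_one_of_card_two {β : Type*} [Fintype β] [DecidableEq β] (h : Fintype.card β = 2)
    (g : Perm β) (hg : Perm.sign g = 1) : g = 1 := by
  let e : β ≃ Fin 2 := Fintype.equivFinOfCardEq h
  have h1 : Perm.sign (e.permCongr g) = 1 := by rw [Perm.sign_permCongr]; exact hg
  have h2 := perm_fin2_even _ h1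
  ext z
  have h3 := congrArg (fun f : Perm (Fin 2) => e.symm (f (e z))) h2
  simpa [Equiv.permCongr_apply] using h3

theorem det_of_card {β : Type*} [Fintype β] [DecidableEq β]
    (h : Fintype.card β = 3 ∨ Fintype.card β = 4) (g k : Perm β)
    (hg : Perm.sign g = 1) (hk : Perm.sign k = 1) (hgf : ∀ z, g z ≠ z) (hkf : ∀ z, k z ≠ z)
    (z : β) (hz : g z = k z) : g = k := by
  have key : ∀ (m : ℕ) (e : β ≃ Fin m), e.permCongr g = e.permCongr k → g = k := by
    intro m e h2
    ext w
    have h3 := congrArg (fun f : Perm (Fin m) => e.symm (f (e w))) h2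
    simpa [Equiv.permCongr_apply] using h3
  have hyp : ∀ (m : ℕ) (e : β ≃ Fin m),
      Perm.sign (e.permCongr g) = 1 ∧ Perm.sign (e.permCongr k) = 1 ∧
      (∀ w, e.permCongr g w ≠ w) ∧ (∀ w, e.permCongr k w ≠ w) ∧
      (∃ w, e.permCongr g w = e.permCongr k w) := by
    intro m e
    refine ⟨by rw [Perm.sign_permCongr]; exact hg, by rw [Perm.sign_permCongr]; exact hk,
      ?_, ?_, ⟨e z, ?_⟩⟩
    · intro w hw
      rw [Equiv.permCongr_apply] at hw
      exact hgf (e.symm w) (by simpa using congrArg e.symm hw)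
    · intro w hw
      rw [Equiv.permCongr_apply] at hw
      exact hkf (e.symm w) (by simpa using congrArg e.symm hw)
    · simp [Equiv.permCongr_apply, hz]
  rcases h with h | h
  · obtain ⟨h1, h2, h3, h4, h5⟩ := hyp 3 (Fintype.equivFinOfCardEq h)
    exact key 3 _ (perm_fin3_det _ _ h1 h2 h3 h4 h5)
  · obtain ⟨h1, h2, h3, h4, h5⟩ := hyp 4 (Fintype.equivFinOfCardEq h)
    exact key 4 _ (perm_fin4_det _ _ h1 h2 h3 h4 h5)

variable {α : Type*} [Fintype α] [DecidableEq α] {ι : Type*} [Fintype ι] [DecidableEq ι]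

/-- The colour class sizes. -/
noncomputable def fib (c : α → ι) (i : ι) : ℕ := Nat.card {x // c x = i}

theorem fib_pos {c : α → ι} (hsurj : Function.Surjective c) (i : ι) : 0 < fib c i := by
  obtain ⟨x, hx⟩ := hsurj i
  have : Nonempty {x // c x = i} := ⟨⟨x, hx⟩⟩
  exact Nat.card_pos

theorem sum_fib' (c : α → ι) : ∑ i, fib c i = Fintype.card α := sum_fib c

theorem prod_cube_le (c : α → ι) : (∏ i, fib c i) ^ 3 ≤ 3 ^ Fintype.card α := by
  have := cube_ineq (fib c) ∅
  simpa [sum_fib'] using this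

section main

variable {A : Subgroup (Perm α)} {c : α → ι} (hsurj : Function.Surjective c)
  (hA : Adapted A c) (hcomm : Comm A) (hAlt : A ≤ alternatingGroup α)
  (hlow : 64 ^ (Fintype.card α % 3) * 3 ^ Fintype.card α ≤
    81 ^ (Fintype.card α % 3) * (Nat.card A) ^ 3)

include hsurj hA hcomm hAlt hlow

theorem sat_eq : sat A c hA = A := by
  by_contra hne
  have hle : A ≤ sat A c hA := le_sat hA
  have hApos : 0 < Nat.card A := Nat.card_pos
  have hSpos : 0 < Nat.card (sat A c hA) := Nat.card_pos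
  obtain ⟨k, hk⟩ := Subgroup.card_dvd_of_le hle
  have hk2 : 2 ≤ k := by
    rcases k with _ | _ | k
    · rw [hk] at hSpos; simp at hSpos
    · exfalso
      apply hne
      exact (Subgroup.eq_of_le_of_card_ge hle (by rw [hk]; simp)).symm
    · omega
  have h1 : Nat.card (sat A c hA) ≤ ∏ i, fib c i :=
    card_le_prod hsurj (sat_adapted hA) (sat_comm hA hcomm)
  have h2 : 2 * Nat.card A ≤ ∏ i, fib c i := by
    calc 2 * Nat.card A ≤ k * Nat.card A := Nat.mul_le_mul_right _ hk2
      _ = Nat.card (sat A c hA) := by rw [hk, mul_comm]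
      _ ≤ _ := h1
  have h3 : (2 * Nat.card A) ^ 3 ≤ 3 ^ Fintype.card α :=
    (Nat.pow_le_pow_left h2 3).trans (prod_cube_le c)
  set j := Fintype.card α % 3 with hj
  have hj2 : j ≤ 2 := by omega
  have h4 : 64 ^ j * (8 * Nat.card A ^ 3) ≤ 81 ^ j * Nat.card A ^ 3 := by
    calc 64 ^ j * (8 * Nat.card A ^ 3) = 64 ^ j * (2 * Nat.card A) ^ 3 := by ring
      _ ≤ 64 ^ j * 3 ^ Fintype.card α := Nat.mul_le_mul_left _ h3
      _ ≤ _ := hlow
  have h5 : 8 * 64 ^ j * Nat.card A ^ 3 ≤ 81 ^ j * Nat.card A ^ 3 := by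
    calc 8 * 64 ^ j * Nat.card A ^ 3 = 64 ^ j * (8 * Nat.card A ^ 3) := by ring
      _ ≤ _ := h4
  have h6 : 0 < Nat.card A ^ 3 := by positivity
  exact nonsplit_false j hj2 (Nat.le_of_mul_le_mul_right h5 h6)

theorem ineq_of_finset (S : Finset ι) :
    64 ^ (Fintype.card α % 3) * ∏ i ∈ S, 3 ^ (fib c i) ≤
      81 ^ (Fintype.card α % 3) * (∏ i ∈ S, fib c i) ^ 3 := by
  have hApos : 0 < Nat.card A := Nat.card_pos
  have h1 : Nat.card A ≤ ∏ i, fib c i := card_le_prod hsurj hA hcomm
  have hPpos : 0 < (∏ i, fib c i) ^ 3 := by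
    have : 0 < ∏ i, fib c i := lt_of_lt_of_le hApos h1
    positivity
  have h2 := cube_ineq (fib c) S
  rw [sum_fib'] at h2
  set j := Fintype.card α % 3 with hj
  set P := ∏ i, fib c i with hP
  have h3 : (64 ^ j * ∏ i ∈ S, 3 ^ (fib c i)) * P ^ 3 ≤
      (81 ^ j * (∏ i ∈ S, fib c i) ^ 3) * P ^ 3 := by
    calc (64 ^ j * ∏ i ∈ S, 3 ^ (fib c i)) * P ^ 3
        = 64 ^ j * (P ^ 3 * ∏ i ∈ S, 3 ^ (fib c i)) := by ring
      _ ≤ 64 ^ j * ((∏ i ∈ S, fib c i) ^ 3 * 3 ^ Fintype.card α) := Nat.mul_le_mul_left _ h2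
      _ = (∏ i ∈ S, fib c i) ^ 3 * (64 ^ j * 3 ^ Fintype.card α) := by ring
      _ ≤ (∏ i ∈ S, fib c i) ^ 3 * (81 ^ j * Nat.card A ^ 3) := Nat.mul_le_mul_left _ hlow
      _ ≤ (∏ i ∈ S, fib c i) ^ 3 * (81 ^ j * P ^ 3) := by
          gcongr
      _ = _ := by ring
  exact Nat.le_of_mul_le_mul_right h3 hPpos

theorem fib_three_or_four (i : ι) : fib c i = 3 ∨ fib c i = 4 := by
  have h1 := ineq_of_finset hsurj hA hcomm hAlt hlow {i}
  simp only [Finset.prod_singleton] at h1
  have h2 := size_range (Fintype.card α % 3) (fib c i) (by omega) (fib_pos hsurj i) h1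
  rcases h2 with h2 | h2 | h2
  · exfalso
    have hcard : Fintype.card {x // c x = i} = 2 := by
      rw [← Nat.card_eq_fintype_card]; exact h2
    obtain ⟨x, y, hxy⟩ := Fintype.one_lt_card_iff.mp (by omega : 1 < Fintype.card {x // c x = i})
    obtain ⟨a, ha, hax⟩ := hA.trans x.1 y.1 (x.2.trans y.2.symm)
    have hres : res a c (hA.pres a ha) i ∈ A := by
      have := res_mem_sat hA ha i
      rwa [sat_eq hsurj hA hcomm hAlt hlow] at this
    have hsign : Perm.sign (a.subtypePerm (p := fun x => c x = i)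
        (fun x => by rw [hA.pres a ha x])) = 1 := by
      rw [← sign_res a c (hA.pres a ha) i]
      exact Perm.mem_alternatingGroup.mp (hAlt hres)
    have h3 := eq_one_of_card_two hcard _ hsign
    have h4 := congrArg (fun f : Perm {x // c x = i} => (f x).1) h3
    simp only [Perm.subtypePerm_apply, Perm.one_apply] at h4
    exact hxy (Subtype.ext (h4.symm.trans hax))
  · exact Or.inl h2
  · exact Or.inr h2

theorem count_four : Nat.card {i // fib c i = 4} = Fintype.card α % 3 := by
  classical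
  have hsize := fib_three_or_four hsurj hA hcomm hAlt hlow
  set S : Finset ι := Finset.univ.filter (fun i => fib c i = 4) with hS
  have hcardS : Nat.card {i // fib c i = 4} = S.card := by
    rw [Nat.card_eq_fintype_card, Fintype.card_subtype]
  have h1 := ineq_of_finset hsurj hA hcomm hAlt hlow S
  have h2 : ∏ i ∈ S, 3 ^ (fib c i) = 81 ^ S.card := by
    rw [Finset.prod_congr rfl (fun i hi => by
      rw [(Finset.mem_filter.mp hi).2] : ∀ i ∈ S, 3 ^ (fib c i) = 3 ^ 4)]
    rw [Finset.prod_const]; norm_num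
  have h3 : (∏ i ∈ S, fib c i) ^ 3 = 64 ^ S.card := by
    rw [Finset.prod_congr rfl (fun i hi => (Finset.mem_filter.mp hi).2 : ∀ i ∈ S, fib c i = 4)]
    rw [Finset.prod_const, ← pow_mul, mul_comm, pow_mul]; norm_num
  rw [h2, h3] at h1
  have h4 : S.card ≤ Fintype.card α % 3 :=
    count_le _ _ (by rw [mul_comm]; calc _ ≤ _ := h1
                                      _ = _ := by ring)
  have h5 : ∑ i, fib c i = 3 * Fintype.card ι + S.card := by
    have : ∀ i, fib c i = 3 + if fib c i = 4 then 1 else 0 := by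
      intro i
      rcases hsize i with h | h <;> simp [h]
    rw [Finset.sum_congr rfl (fun i _ => this i), Finset.sum_add_distrib, Finset.sum_const,
      Finset.sum_boole]
    simp [hS, mul_comm]
  rw [sum_fib'] at h5
  rw [hcardS]
  omega

theorem count_three :
    3 * Nat.card {i // fib c i = 3} + 4 * (Fintype.card α % 3) = Fintype.card α := by
  classical
  have hsize := fib_three_or_four hsurj hA hcomm hAlt hlow
  have h4 := count_four hsurj hA hcomm hAlt hlow
  have hc3 : Nat.card {i // fib c i = 3} = (Finset.univ.filter (fun i => fib c i = 3)).card := by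
    rw [Nat.card_eq_fintype_card, Fintype.card_subtype]
  have hc4 : Nat.card {i // fib c i = 4} = (Finset.univ.filter (fun i => fib c i = 4)).card := by
    rw [Nat.card_eq_fintype_card, Fintype.card_subtype]
  have h5 : ∑ i, fib c i = 3 * (Finset.univ.filter (fun i => fib c i = 3)).card +
      4 * (Finset.univ.filter (fun i => fib c i = 4)).card := by
    have : ∀ i, fib c i = (if fib c i = 3 then 3 else 0) + if fib c i = 4 then 4 else 0 := by
      intro i
      rcases hsize i with h | h <;> simp [h]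
    rw [Finset.sum_congr rfl (fun i _ => this i), Finset.sum_add_distrib]
    simp [Finset.sum_ite, mul_comm]
  rw [sum_fib'] at h5
  rw [hc3]
  rw [hc4] at h4
  omega

theorem count_other (m : ℕ) (h3 : m ≠ 3) (h4 : m ≠ 4) : Nat.card {i // fib c i = m} = 0 := by
  have hsize := fib_three_or_four hsurj hA hcomm hAlt hlow
  have : IsEmpty {i // fib c i = m} := ⟨fun ⟨i, hi⟩ => by
    rcases hsize i with h | h
    · exact h3 (hi.symm.trans h)
    · exact h4 (hi.symm.trans h)⟩
  exact Nat.card_of_isEmpty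

end main

/-- The standard form of an abelian subgroup of maximal order of the alternating group, relative
to the colouring `c`. -/
structure Std (A : Subgroup (Perm α)) (c : α → ι) : Prop where
  alt : A ≤ alternatingGroup α
  comm : Comm A
  adapted : Adapted A c
  sat_le : sat A c adapted ≤ A
  size : ∀ i, fib c i = 3 ∨ fib c i = 4

theorem std_of_max {A : Subgroup (Perm α)} {c : α → ι} (hsurj : Function.Surjective c)
    (hA : Adapted A c) (hcomm : Comm A) (hAlt : A ≤ alternatingGroup α)
    (hlow : 64 ^ (Fintype.card α % 3) * 3 ^ Fintype.card α ≤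
      81 ^ (Fintype.card α % 3) * (Nat.card A) ^ 3) : Std A c :=
  ⟨hAlt, hcomm, hA, (sat_eq hsurj hA hcomm hAlt hlow).le,
    fib_three_or_four hsurj hA hcomm hAlt hlow⟩

theorem Std.le {A B : Subgroup (Perm α)} {c : α → ι} (hA : Std A c) (hB : Std B c) : A ≤ B := by
  intro a ha
  apply hB.sat_le
  intro i
  have hcard : Fintype.card {x // c x = i} = 3 ∨ Fintype.card {x // c x = i} = 4 := by
    rw [← Nat.card_eq_fintype_card]; exact hA.size i
  have hne : Nonempty {x // c x = i} := by
    rw [← Fintype.card_pos_iff]; omega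
  obtain ⟨⟨x, hx⟩⟩ := hne
  by_cases hax : a x = x
  · refine ⟨1, B.one_mem, fun y hy => ?_⟩
    rw [Perm.one_apply]
    exact fix_on_class hA.adapted hA.comm ha (hy.trans hx.symm) hax
  · have hcax : c (a x) = c x := hA.adapted.pres a ha x
    obtain ⟨b, hb, hbx⟩ := hB.adapted.trans x (a x) hcax.symm
    refine ⟨b, hb, ?_⟩
    have hresA : res a c (hA.adapted.pres a ha) i ∈ A := hA.sat_le (res_mem_sat hA.adapted ha i)
    have hresB : res b c (hB.adapted.pres b hb) i ∈ B := hB.sat_le (res_mem_sat hB.adapted hb i)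
    have hsA : Perm.sign (a.subtypePerm (p := fun x => c x = i)
        (fun x => by rw [hA.adapted.pres a ha x])) = 1 := by
      rw [← sign_res a c (hA.adapted.pres a ha) i]
      exact Perm.mem_alternatingGroup.mp (hA.alt hresA)
    have hsB : Perm.sign (b.subtypePerm (p := fun x => c x = i)
        (fun x => by rw [hB.adapted.pres b hb x])) = 1 := by
      rw [← sign_res b c (hB.adapted.pres b hb) i]
      exact Perm.mem_alternatingGroup.mp (hB.alt hresB)
    have hfA : ∀ z : {x // c x = i}, (a.subtypePerm (p := fun x => c x = i)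
        (fun x => by rw [hA.adapted.pres a ha x])) z ≠ z := by
      intro z hz
      have hz' : a z.1 = z.1 := congrArg Subtype.val hz
      exact hax (fix_on_class hA.adapted hA.comm ha (hx.trans z.2.symm) hz')
    have hfB : ∀ z : {x // c x = i}, (b.subtypePerm (p := fun x => c x = i)
        (fun x => by rw [hB.adapted.pres b hb x])) z ≠ z := by
      intro z hz
      have hz' : b z.1 = z.1 := congrArg Subtype.val hz
      have := fix_on_class hB.adapted hB.comm hb (hx.trans z.2.symm) hz'
      exact hax (hbx ▸ this)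
    have hdet := det_of_card hcard _ _ hsA hsB hfA hfB ⟨x, hx⟩
      (Subtype.ext (by simp [hbx]))
    intro y hy
    have := congrArg (fun f : Perm {x // c x = i} => (f ⟨y, hy⟩).1) hdet
    simpa using this

theorem Std.eq {A B : Subgroup (Perm α)} {c : α → ι} (hA : Std A c) (hB : Std B c) : A = B :=
  le_antisymm (hA.le hB) (hB.le hA)

end Cfsg.Agent.Helper95AbelAlt
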