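import Mathlib
import Cfsg.Agent.Lib.Helper95_AbelAltStruct
import Cfsg.Agent.Lib.Helper95_AbelAltEx

/-!
# Conjugacy of the abelian subgroups of maximal order of an alternating group (helper95)
-/

set_option autoImplicit false
set_option linter.unusedSectionVars false

namespace Cfsg.Agent.Helper95AbelAlt

open Equiv
open scoped Pointwise

theorem equiv_of_natCard_eq {X Y : Type*} [Finite X] [Finite Y] (h : Nat.card X = Nat.card Y) :
    Nonempty (X ≃ Y) :=
  ⟨(Finite.equivFin X).trans ((finCongr h).trans (Finite.equivFin Y).symm)⟩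

/-- Two functions into `ℕ` on finite types with equinumerous fibres differ by a bijection. -/
theorem exists_equiv_of_fiber_card {X Y : Type*} [Finite X] [Finite Y] (f : X → ℕ) (g : Y → ℕ)
    (h : ∀ m, Nat.card {x // f x = m} = Nat.card {y // g y = m}) :
    ∃ φ : X ≃ Y, ∀ x, g (φ x) = f x := by
  have e : ∀ m, {x // f x = m} ≃ {y // g y = m} :=
    fun m => Classical.choice (equiv_of_natCard_eq (h m))
  refine ⟨(Equiv.sigmaFiberEquiv f).symm.trans
    ((Equiv.sigmaCongrRight e).trans (Equiv.sigmaFiberEquiv g)), fun x => ?_⟩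
  exact ((e (f x)) ⟨x, rfl⟩).2

/-- Two colourings whose classes correspond under a bijection of the colours with equal class
sizes differ by a permutation of the points. -/
theorem exists_perm_of_colouring {α ι κ : Type*} [Finite α] (cA : α → ι) (cB : α → κ)
    (φ : ι ≃ κ) (h : ∀ i, Nat.card {x // cB x = φ i} = Nat.card {x // cA x = i}) :
    ∃ σ : Perm α, ∀ x, cB (σ x) = φ (cA x) := by
  have e : ∀ i, {x // cA x = i} ≃ {x // cB x = φ i} :=
    fun i => Classical.choice (equiv_of_natCard_eq (h i).symm)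
  refine ⟨(Equiv.sigmaFiberEquiv cA).symm.trans
    ((Equiv.sigmaCongr φ e).trans (Equiv.sigmaFiberEquiv cB)), fun x => ?_⟩
  exact ((e (cA x)) ⟨x, rfl⟩).2

variable {α : Type*} [Fintype α] [DecidableEq α]

/-- The orbit equivalence relation of a subgroup of `Perm α`. -/
def orbSetoid (A : Subgroup (Perm α)) : Setoid α where
  r x y := ∃ a ∈ A, a x = y
  iseqv := ⟨fun _ => ⟨1, A.one_mem, rfl⟩,
    fun ⟨a, ha, h⟩ => ⟨a⁻¹, A.inv_mem ha, by rw [← h]; simp⟩,
    fun ⟨a, ha, h⟩ ⟨b, hb, h'⟩ => ⟨b * a, A.mul_mem hb ha, by rw [Perm.mul_apply, h, h']⟩⟩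

/-- The orbit colouring. -/
def orbCol (A : Subgroup (Perm α)) : α → Quotient (orbSetoid A) := Quotient.mk _

theorem orbCol_surj (A : Subgroup (Perm α)) : Function.Surjective (orbCol A) :=
  Quotient.mk_surjective

theorem orbCol_adapted (A : Subgroup (Perm α)) : Adapted A (orbCol A) where
  pres := fun a ha x => Quotient.sound ⟨a⁻¹, A.inv_mem ha, by simp⟩
  trans := fun _ _ h => Quotient.exact h

theorem mem_conj_iff {σ g : Perm α} {A : Subgroup (Perm α)} :
    g ∈ MulAut.conj σ • A ↔ σ⁻¹ * g * σ ∈ A := by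
  rw [Subgroup.mem_pointwise_smul_iff_inv_smul_mem, MulAut.smul_def, ← map_inv,
    MulAut.conj_apply, inv_inv]

theorem conj_alt {σ : Perm α} {A : Subgroup (Perm α)} (hA : A ≤ alternatingGroup α) :
    MulAut.conj σ • A ≤ alternatingGroup α := by
  intro g hg
  have := Perm.mem_alternatingGroup.mp (hA (mem_conj_iff.mp hg))
  rw [Perm.mem_alternatingGroup]
  rw [map_mul, map_mul, map_inv] at this
  rwa [mul_comm, ← mul_assoc, mul_inv_cancel, one_mul] at this

theorem conj_comm {σ : Perm α} {A : Subgroup (Perm α)} (hA : Comm A) :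
    Comm (MulAut.conj σ • A) := by
  intro g hg h hh
  have := hA _ (mem_conj_iff.mp hg) _ (mem_conj_iff.mp hh)
  have h1 : σ⁻¹ * g * σ * (σ⁻¹ * h * σ) = σ⁻¹ * (g * h) * σ := by group
  have h2 : σ⁻¹ * h * σ * (σ⁻¹ * g * σ) = σ⁻¹ * (h * g) * σ := by group
  rw [h1, h2] at this
  exact mul_left_cancel (mul_right_cancel this)

theorem conj_card {σ : Perm α} {A : Subgroup (Perm α)} :
    Nat.card (MulAut.conj σ • A : Subgroup (Perm α)) = Nat.card A :=
  (Nat.card_congr (Subgroup.equivSMul (MulAut.conj σ) A).toEquiv).symm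

theorem conj_adapted {ι κ : Type*} {σ : Perm α} {A : Subgroup (Perm α)} {c : α → ι} {c' : α → κ}
    (φ : ι → κ) (hφ : Function.Injective φ) (hcc : ∀ x, c' (σ x) = φ (c x))
    (hA : Adapted A c) : Adapted (MulAut.conj σ • A) c' where
  pres := by
    intro g hg y
    have ha := mem_conj_iff.mp hg
    have h1 : g y = σ ((σ⁻¹ * g * σ) (σ⁻¹ y)) := by simp [Perm.mul_apply]
    rw [h1, hcc, hA.pres _ ha, ← hcc]
    simp
  trans := by
    intro x y hxy
    have h1 : c (σ⁻¹ x) = c (σ⁻¹ y) := by
      apply hφ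
      rw [← hcc, ← hcc]
      simpa using hxy
    obtain ⟨a, ha, hax⟩ := hA.trans _ _ h1
    refine ⟨σ * a * σ⁻¹, mem_conj_iff.mpr (by simpa [mul_assoc] using ha), ?_⟩
    show σ (a (σ⁻¹ x)) = y
    rw [hax]
    simp

/-- Two subgroups of the alternating group on `α` with pairwise commuting elements, of the same
order, large enough in the sense of `hlow`, are conjugate under the alternating group. -/
theorem conj_of_large (A B : Subgroup (Perm α)) (hA : A ≤ alternatingGroup α)
    (hB : B ≤ alternatingGroup α) (hAc : Comm A) (hBc : Comm B)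
    (hcard : Nat.card A = Nat.card B)
    (hlow : 64 ^ (Fintype.card α % 3) * 3 ^ Fintype.card α ≤
      81 ^ (Fintype.card α % 3) * (Nat.card A) ^ 3) :
    ∃ σ ∈ alternatingGroup α, B = MulAut.conj σ • A := by
  classical
  letI : Fintype (Quotient (orbSetoid A)) := Fintype.ofFinite _
  letI : Fintype (Quotient (orbSetoid B)) := Fintype.ofFinite _
  have hlowB : 64 ^ (Fintype.card α % 3) * 3 ^ Fintype.card α ≤
      81 ^ (Fintype.card α % 3) * (Nat.card B) ^ 3 := hcard ▸ hlow
  have hStdA : Std A (orbCol A) :=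
    std_of_max (orbCol_surj A) (orbCol_adapted A) hAc hA hlow
  have hStdB : Std B (orbCol B) :=
    std_of_max (orbCol_surj B) (orbCol_adapted B) hBc hB hlowB
  -- the class-size counts agree
  have hcount : ∀ m, Nat.card {i // fib (orbCol A) i = m} = Nat.card {k // fib (orbCol B) k = m} := by
    intro m
    by_cases h4 : m = 4
    · subst h4
      rw [count_four (orbCol_surj A) (orbCol_adapted A) hAc hA hlow,
        count_four (orbCol_surj B) (orbCol_adapted B) hBc hB hlowB]
    by_cases h3 : m = 3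
    · subst h3
      have e1 := count_three (orbCol_surj A) (orbCol_adapted A) hAc hA hlow
      have e2 := count_three (orbCol_surj B) (orbCol_adapted B) hBc hB hlowB
      omega
    · rw [count_other (orbCol_surj A) (orbCol_adapted A) hAc hA hlow m h3 h4,
        count_other (orbCol_surj B) (orbCol_adapted B) hBc hB hlowB m h3 h4]
  obtain ⟨φ, hφ⟩ := exists_equiv_of_fiber_card (fib (orbCol A)) (fib (orbCol B)) hcount
  obtain ⟨σ0, hσ0⟩ := exists_perm_of_colouring (orbCol A) (orbCol B) φ hφ
  -- the conjugate of `A` under `σ0` is `B`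
  have hA' : Std (MulAut.conj σ0 • A) (orbCol B) :=
    std_of_max (orbCol_surj B) (conj_adapted φ φ.injective hσ0 (orbCol_adapted A))
      (conj_comm hAc) (conj_alt hA) (by rw [conj_card]; exact hlow)
  have hAB : MulAut.conj σ0 • A = B := hA'.eq hStdB
  by_cases hsign : Perm.sign σ0 = 1
  · exact ⟨σ0, Perm.mem_alternatingGroup.mpr hsign, hAB.symm⟩
  · have hsign' : Perm.sign σ0 = -1 := (Int.units_eq_one_or _).resolve_left hsign
    -- find two points of the same colour
    have hne : σ0 ≠ 1 := by
      rintro rfl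
      exact hsign (map_one _)
    obtain ⟨x0, -⟩ : ∃ x0, σ0 x0 ≠ x0 := by
      by_contra hcon
      push Not at hcon
      exact hne (Equiv.ext hcon)
    have hfib : 1 < Fintype.card {x // orbCol A x = orbCol A x0} := by
      have := hStdA.size (orbCol A x0)
      unfold fib at this
      rw [Nat.card_eq_fintype_card] at this
      omega
    obtain ⟨x, y, hxy⟩ := Fintype.one_lt_card_iff.mp hfib
    have hxy' : x.1 ≠ y.1 := fun h => hxy (Subtype.ext h)
    have hcol : orbCol A x.1 = orbCol A y.1 := x.2.trans y.2.symm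
    have hτ : ∀ z, orbCol A (swap x.1 y.1 z) = id (orbCol A z) := by
      intro z
      by_cases hzx : z = x.1
      · rw [hzx, swap_apply_left]; exact hcol.symm
      by_cases hzy : z = y.1
      · rw [hzy, swap_apply_right]; exact hcol
      · rw [swap_apply_of_ne_of_ne hzx hzy]; rfl
    have hA'' : Std (MulAut.conj (swap x.1 y.1) • A) (orbCol A) :=
      std_of_max (orbCol_surj A) (conj_adapted id Function.injective_id hτ (orbCol_adapted A))
        (conj_comm hAc) (conj_alt hA) (by rw [conj_card]; exact hlow)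
    have hAA : MulAut.conj (swap x.1 y.1) • A = A := hA''.eq hStdA
    refine ⟨σ0 * swap x.1 y.1, ?_, ?_⟩
    · rw [Perm.mem_alternatingGroup, map_mul, hsign', Perm.sign_swap hxy']
      rfl
    · rw [map_mul, mul_smul, hAA, hAB]

end Cfsg.Agent.Helper95AbelAlt
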