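import Mathlib
import Cfsg.Agent.Lib.Helper95_AbelAltConj

/-!
# Abelian subgroups of maximal order of `alternatingGroup (Fin n)` (helper95)

Transfer between subgroups of `↥(alternatingGroup α)` and subgroups of `Perm α`, the small cases
`n ≤ 2` and `n = 5`.
-/

set_option autoImplicit false
set_option linter.unusedSectionVars false

namespace Cfsg.Agent.Helper95AbelAlt

open Equiv
open scoped Pointwise

variable {α : Type*} [Fintype α] [DecidableEq α]

/-- The image in `Perm α` of a subgroup of the alternating group. -/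
def down (A : Subgroup (alternatingGroup α)) : Subgroup (Perm α) :=
  A.map (alternatingGroup α).subtype

theorem mem_down {A : Subgroup (alternatingGroup α)} {g : Perm α} :
    g ∈ down A ↔ ∃ h : g ∈ alternatingGroup α, (⟨g, h⟩ : alternatingGroup α) ∈ A := by
  constructor
  · rintro ⟨a, ha, rfl⟩
    exact ⟨a.2, ha⟩
  · rintro ⟨h, ha⟩
    exact ⟨⟨g, h⟩, ha, rfl⟩

theorem down_le (A : Subgroup (alternatingGroup α)) : down A ≤ alternatingGroup α := by
  intro g hg
  obtain ⟨h, -⟩ := mem_down.mp hg
  exact h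

theorem down_comm (A : Subgroup (alternatingGroup α)) (hA : IsMulCommutative A) :
    Comm (down A) := by
  rintro g ⟨a, ha, rfl⟩ h ⟨b, hb, rfl⟩
  have := (isMulCommutative_iff.mp hA) ⟨a, ha⟩ ⟨b, hb⟩
  have h2 : a * b = b * a := congrArg Subtype.val this
  rw [← map_mul, ← map_mul, h2]

theorem card_down (A : Subgroup (alternatingGroup α)) : Nat.card (down A) = Nat.card A :=
  Subgroup.card_map_of_injective (Subgroup.subtype_injective _)

/-- Lifting a subgroup of `Perm α` inside the alternating group. -/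
theorem exists_up (C : Subgroup (Perm α)) (hC : C ≤ alternatingGroup α) (hCc : Comm C) :
    ∃ C' : Subgroup (alternatingGroup α), IsMulCommutative C' ∧ Nat.card C' = Nat.card C := by
  refine ⟨C.subgroupOf (alternatingGroup α), ?_, ?_⟩
  · rw [isMulCommutative_iff]
    rintro ⟨a, ha⟩ ⟨b, hb⟩
    apply Subtype.ext
    apply Subtype.ext
    exact hCc a.1 (Subgroup.mem_subgroupOf.mp ha) b.1 (Subgroup.mem_subgroupOf.mp hb)
  · exact Nat.card_congr (Subgroup.subgroupOfEquivOfLe hC).toEquiv

theorem conj_up (A B : Subgroup (alternatingGroup α)) (σ : Perm α)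
    (hσ : σ ∈ alternatingGroup α) (h : down B = MulAut.conj σ • down A) :
    B = MulAut.conj (⟨σ, hσ⟩ : alternatingGroup α) • A := by
  ext ⟨g, hg⟩
  rw [Subgroup.mem_pointwise_smul_iff_inv_smul_mem, MulAut.smul_def, ← map_inv,
    MulAut.conj_apply, inv_inv]
  have h1 : (⟨g, hg⟩ : alternatingGroup α) ∈ B ↔ g ∈ down B :=
    ⟨fun hb => mem_down.mpr ⟨hg, hb⟩, fun hb => (mem_down.mp hb).2⟩
  rw [h1, h, mem_conj_iff]
  constructor
  · intro hx
    obtain ⟨h2, h3⟩ := mem_down.mp hx
    exact h3
  · intro hx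
    exact mem_down.mpr ⟨_, hx⟩

/-- The lower bound on the order of an abelian subgroup of maximal order. -/
theorem low_of_max (n : ℕ) (h3 : 3 ≤ n) (h5 : n ≠ 5) (A : Subgroup (alternatingGroup (Fin n)))
    (hAmax : ∀ C : Subgroup (alternatingGroup (Fin n)), IsMulCommutative C →
      Nat.card C ≤ Nat.card A) :
    64 ^ (n % 3) * 3 ^ n ≤ 81 ^ (n % 3) * (Nat.card (down A)) ^ 3 := by
  obtain ⟨k, ⟨C, hC, hCc, hCk⟩, hineq⟩ := ex_low n h3 h5
  obtain ⟨C', hC', hcard⟩ := exists_up C hC hCc
  have h1 : k ≤ Nat.card A := by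
    rw [← hCk, ← hcard]; exact hAmax C' hC'
  rw [card_down]
  calc 64 ^ (n % 3) * 3 ^ n ≤ 81 ^ (n % 3) * k ^ 3 := hineq
    _ ≤ 81 ^ (n % 3) * (Nat.card A) ^ 3 := by gcongr

/-- The generic case. -/
theorem conj_generic (n : ℕ) (h3 : 3 ≤ n) (h5 : n ≠ 5)
    (A B : Subgroup (alternatingGroup (Fin n))) (hA : IsMulCommutative A)
    (hB : IsMulCommutative B)
    (hAmax : ∀ C : Subgroup (alternatingGroup (Fin n)), IsMulCommutative C →
      Nat.card C ≤ Nat.card A)
    (hBmax : ∀ C : Subgroup (alternatingGroup (Fin n)), IsMulCommutative C →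
      Nat.card C ≤ Nat.card B) :
    ∃ g : alternatingGroup (Fin n), B = MulAut.conj g • A := by
  have hcard : Nat.card A = Nat.card B := le_antisymm (hBmax A hA) (hAmax B hB)
  have hlow := low_of_max n h3 h5 A hAmax
  obtain ⟨σ, hσ, h⟩ := conj_of_large (down A) (down B) (down_le A) (down_le B)
    (down_comm A hA) (down_comm B hB) (by rw [card_down, card_down, hcard])
    (by simpa using hlow)
  exact ⟨⟨σ, hσ⟩, conj_up A B σ hσ h⟩

/-- The trivial cases. -/
theorem conj_small (n : ℕ) (h : n ≤ 2) (A B : Subgroup (alternatingGroup (Fin n))) :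
    ∃ g : alternatingGroup (Fin n), B = MulAut.conj g • A := by
  have hone : ∀ x : alternatingGroup (Fin n), x = 1 := by
    rintro ⟨x, hx⟩
    apply Subtype.ext
    show x = 1
    have hs := Perm.mem_alternatingGroup.mp hx
    interval_cases n
    · exact Subsingleton.elim _ _
    · exact Subsingleton.elim _ _
    · exact perm_fin2_even x hs
  refine ⟨1, ?_⟩
  rw [map_one, one_smul]
  ext x
  rw [hone x]
  exact ⟨fun _ => A.one_mem, fun _ => B.one_mem⟩

end Cfsg.Agent.Helper95AbelAlt

namespace Cfsg.Agent.Helper95AbelAlt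

open Equiv
open scoped Pointwise

set_option maxRecDepth 100000 in
theorem perm_fin5_no6 : ∀ g : Perm (Fin 5), Perm.sign g = 1 → g ^ 6 = 1 →
    g ^ 2 = 1 ∨ g ^ 3 = 1 := by
  decide

/-- An abelian subgroup of maximal order of `Alt (Fin 5)` has order `5`. -/
theorem card_five (A : Subgroup (alternatingGroup (Fin 5))) (hA : IsMulCommutative A)
    (hAmax : ∀ C : Subgroup (alternatingGroup (Fin 5)), IsMulCommutative C →
      Nat.card C ≤ Nat.card A) : Nat.card A = 5 := by
  classical
  have h5 : 5 ≤ Nat.card A := by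
    obtain ⟨C, hC, hCc, hCk⟩ := ex5
    obtain ⟨C', hC', hcard⟩ := exists_up C hC hCc
    calc 5 = Nat.card C' := by rw [hcard, hCk]
      _ ≤ Nat.card A := hAmax C' hC'
  have h6 : Nat.card A ≤ 6 := by
    letI : Fintype (Quotient (orbSetoid (down A))) := Fintype.ofFinite _
    have h1 := card_le_prod (orbCol_surj (down A)) (orbCol_adapted (down A)) (down_comm A hA)
    have h2 := prod_cube_le (orbCol (down A))
    unfold fib at h2
    rw [card_down] at h1
    rw [Fintype.card_fin] at h2
    by_contra hcon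
    push Not at hcon
    have h3 : 7 ≤ ∏ i, Nat.card {x // orbCol (down A) x = i} := by omega
    have h4 := Nat.pow_le_pow_left h3 3
    omega
  have hne6 : Nat.card A ≠ 6 := by
    intro h6'
    haveI : Fact (Nat.Prime 2) := ⟨by norm_num⟩
    haveI : Fact (Nat.Prime 3) := ⟨by norm_num⟩
    obtain ⟨a, ha⟩ := exists_prime_orderOf_dvd_card' (G := A) 2 (by rw [h6']; norm_num)
    obtain ⟨b, hb⟩ := exists_prime_orderOf_dvd_card' (G := A) 3 (by rw [h6']; norm_num)
    have hcomm : Commute a b := isMulCommutative_iff.mp hA a b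
    have hg6 : (a * b) ^ 6 = 1 := by rw [← h6']; exact pow_card_eq_one'
    have ha2 : a ^ 2 = 1 := by rw [← ha]; exact pow_orderOf_eq_one a
    have hb3 : b ^ 3 = 1 := by rw [← hb]; exact pow_orderOf_eq_one b
    have hsign : Perm.sign ((a * b : A) : alternatingGroup (Fin 5)).1 = 1 :=
      Perm.mem_alternatingGroup.mp ((a * b : A) : alternatingGroup (Fin 5)).2
    have hp6 : (((a * b : A) : alternatingGroup (Fin 5)).1) ^ 6 = 1 := by
      have := congrArg (fun x : A => ((x : alternatingGroup (Fin 5)) : Perm (Fin 5))) hg6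
      simpa using this
    rcases perm_fin5_no6 _ hsign hp6 with h | h
    · have h' : (a * b) ^ 2 = 1 := by
        apply Subtype.ext; apply Subtype.ext
        simpa using h
      rw [hcomm.mul_pow, ha2, one_mul] at h'
      have := orderOf_dvd_of_pow_eq_one h'
      rw [hb] at this
      omega
    · have h' : (a * b) ^ 3 = 1 := by
        apply Subtype.ext; apply Subtype.ext
        simpa using h
      rw [hcomm.mul_pow, hb3, mul_one, pow_succ, ha2, one_mul] at h'
      rw [h', orderOf_one] at ha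
      omega
  omega

/-- The case `n = 5`: Sylow's theorem. -/
theorem conj_five (A B : Subgroup (alternatingGroup (Fin 5))) (hA : IsMulCommutative A)
    (hB : IsMulCommutative B)
    (hAmax : ∀ C : Subgroup (alternatingGroup (Fin 5)), IsMulCommutative C →
      Nat.card C ≤ Nat.card A)
    (hBmax : ∀ C : Subgroup (alternatingGroup (Fin 5)), IsMulCommutative C →
      Nat.card C ≤ Nat.card B) :
    ∃ g : alternatingGroup (Fin 5), B = MulAut.conj g • A := by
  haveI : Fact (Nat.Prime 5) := ⟨by norm_num⟩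
  have hA5 := card_five A hA hAmax
  have hB5 := card_five B hB hBmax
  have hG : Nat.card (alternatingGroup (Fin 5)) = 60 := by
    rw [nat_card_alternatingGroup, Nat.card_eq_fintype_card, Fintype.card_fin]
    rfl
  have key : ∀ C : Subgroup (alternatingGroup (Fin 5)), Nat.card C = 5 →
      ∃ P : Sylow 5 (alternatingGroup (Fin 5)), C = P.1 := by
    intro C hC5
    have hp : IsPGroup 5 C := IsPGroup.of_card (n := 1) (by rw [hC5]; norm_num)
    obtain ⟨P, hCP⟩ := hp.exists_le_sylow
    obtain ⟨k, hk⟩ := (IsPGroup.iff_card (p := 5)).mp P.isPGroup'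
    have hdvd : Nat.card P ∣ 60 := by
      rw [← hG]; exact Subgroup.card_subgroup_dvd_card _
    have hk1 : k ≤ 1 := by
      by_contra hcon
      push Not at hcon
      have : 5 ^ 2 ∣ 5 ^ k := pow_dvd_pow 5 hcon
      rw [← hk] at this
      have := this.trans hdvd
      omega
    have hle : Nat.card P ≤ Nat.card C := by
      rw [hk, hC5]
      calc 5 ^ k ≤ 5 ^ 1 := Nat.pow_le_pow_right (by norm_num) hk1
        _ = 5 := by norm_num
    exact ⟨P, Subgroup.eq_of_le_of_card_ge hCP hle⟩
  obtain ⟨P, hP⟩ := key A hA5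
  obtain ⟨Q, hQ⟩ := key B hB5
  obtain ⟨g, hg⟩ := MulAction.exists_smul_eq (alternatingGroup (Fin 5)) P Q
  refine ⟨g, ?_⟩
  rw [hQ, hP, ← hg]
  rfl

end Cfsg.Agent.Helper95AbelAlt
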