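import Mathlib

/-!
# Groups with a prime exactly dividing the order: a simple chief factor (helper95)

* `centralizes_of_not_dvd`: an element of prime order `p` normalizing an `r`-subgroup `N` of order
  `r ^ a` with `p ∤ r ^ j - 1` for `1 ≤ j ≤ a` centralizes `N`.
* `exists_simple_factor`: if `p` divides `|G|` exactly once, there are normal subgroups `N < H` of
  `G` with `H / N` simple of order divisible by `p`; every other prime `q` exactly dividing `|G|`
  with `q ∤ p - 1`, `p ∤ q - 1` and such that `G` has no element of order `p * q` divides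
  `|H / N|` as well.
-/

set_option autoImplicit false

namespace Cfsg.Agent.Helper95OrderSpec

open Subgroup

variable {G : Type*} [Group G]

theorem card_sup_dvd [Finite G] (A K : Subgroup G) [K.Normal] :
    Nat.card (A ⊔ K : Subgroup G) ∣ Nat.card A * Nat.card K := by
  have h1 : K.relIndex (A ⊔ K) = K.relIndex A := relIndex_sup_right A K
  have h2 : Nat.card (K.subgroupOf (A ⊔ K)) * (K.subgroupOf (A ⊔ K)).index =
      Nat.card (A ⊔ K : Subgroup G) := card_mul_index _
  have h3 : Nat.card (K.subgroupOf (A ⊔ K)) = Nat.card K :=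
    Nat.card_congr (subgroupOfEquivOfLe le_sup_right).toEquiv
  rw [h3] at h2
  change Nat.card K * K.relIndex (A ⊔ K) = _ at h2
  rw [h1] at h2
  rw [← h2, mul_comm]
  exact Nat.mul_dvd_mul_right (relIndex_dvd_card K A) _

/-- The join of a set of normal subgroups of orders prime to `p` has order prime to `p`. -/
theorem not_dvd_card_sSup [Finite G] {p : ℕ} (hp : p.Prime) (S : Set (Subgroup G))
    (hS : ∀ K ∈ S, K.Normal ∧ ¬ p ∣ Nat.card K) :
    (sSup S).Normal ∧ ¬ p ∣ Nat.card (sSup S : Subgroup G) := by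
  classical
  have hfin : S.Finite := Set.toFinite S
  have h1 : sSup S = hfin.toFinset.sup id := by
    rw [Finset.sup_id_eq_sSup]; simp
  rw [h1]
  refine Finset.sup_induction (p := fun K : Subgroup G => K.Normal ∧ ¬ p ∣ Nat.card K) ?_ ?_ ?_
  · refine ⟨inferInstance, ?_⟩
    rw [Subgroup.card_bot]
    exact hp.one_lt.ne' ∘ Nat.dvd_one.mp
  · rintro A ⟨hA, hAp⟩ B ⟨hB, hBp⟩
    refine ⟨inferInstance, fun h => ?_⟩
    have := h.trans (card_sup_dvd A B)
    rcases hp.dvd_mul.mp this with h' | h'
    · exact hAp h'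
    · exact hBp h'
  · intro K hK
    exact hS K (by simpa using hK)

theorem orderOf_mul_of_commute {x y : G} {p q : ℕ} (hp : p.Prime) (hq : q.Prime) (hpq : p ≠ q)
    (hx : orderOf x = p) (hy : orderOf y = q) (hc : x * y = y * x) : orderOf (x * y) = p * q := by
  have hcop : Nat.Coprime (orderOf x) (orderOf y) := by
    rw [hx, hy]; exact (Nat.coprime_primes hp hq).mpr hpq
  rw [Commute.orderOf_mul_eq_mul_orderOf_of_coprime hc hcop, hx, hy]

/-- Conjugation by a normalizing element, as a permutation of the subgroup. -/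
def conjPerm (N : Subgroup G) (x : G) (hx : x ∈ normalizer (N : Set G)) : Equiv.Perm N where
  toFun y := ⟨x * y.1 * x⁻¹, (mem_normalizer_iff.mp hx y.1).mp y.2⟩
  invFun y := ⟨x⁻¹ * y.1 * x, by
    have := (mem_normalizer_iff.mp ((normalizer (N : Set G)).inv_mem hx) y.1).mp y.2
    simpa using this⟩
  left_inv y := by ext; simp [mul_assoc]
  right_inv y := by ext; simp [mul_assoc]

theorem conjPerm_apply (N : Subgroup G) (x : G) (hx : x ∈ normalizer (N : Set G)) (y : N) :
    ((conjPerm N x hx y : N) : G) = x * y.1 * x⁻¹ := rfl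

theorem conjPerm_pow_apply (N : Subgroup G) (x : G) (hx : x ∈ normalizer (N : Set G)) (k : ℕ) (y : N) :
    (((conjPerm N x hx ^ k) y : N) : G) = x ^ k * y.1 * (x ^ k)⁻¹ := by
  induction k with
  | zero => simp
  | succ k ih =>
    rw [pow_succ', Equiv.Perm.mul_apply, conjPerm_apply, ih, pow_succ']
    group

/-- An element `x` with `x ^ p = 1` normalizing a subgroup `N` of order `r ^ a`, where
`p ∤ r ^ j - 1` for `1 ≤ j ≤ a`, centralizes `N`. -/
theorem centralizes_of_not_dvd [Finite G] (N : Subgroup G) (x : G) (hx : x ∈ normalizer (N : Set G))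
    {p r a : ℕ} [hp : Fact p.Prime] (hr : r.Prime) (hpr : p ≠ r) (hxp : x ^ p = 1)
    (hN : Nat.card N = r ^ a) (hdvd : ∀ j, 1 ≤ j → j ≤ a → ¬ p ∣ r ^ j - 1) :
    ∀ y ∈ N, x * y = y * x := by
  classical
  haveI : Fintype N := Fintype.ofFinite N
  set σ := conjPerm N x hx with hσdef
  have hσ : σ ^ p ^ 1 = 1 := by
    ext y
    rw [pow_one, conjPerm_pow_apply, hxp]
    simp
  have hmod := Equiv.Perm.card_compl_support_modEq hσ
  let C : Subgroup N :=
    { carrier := {y | σ y = y}
      one_mem' := by
        apply Subtype.ext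
        rw [conjPerm_apply]; simp
      mul_mem' := by
        intro y z hy hz
        apply Subtype.ext
        have hy' := congrArg Subtype.val hy
        have hz' := congrArg Subtype.val hz
        rw [conjPerm_apply] at hy' hz' ⊢
        rw [Subgroup.coe_mul]
        calc x * (y.1 * z.1) * x⁻¹ = (x * y.1 * x⁻¹) * (x * z.1 * x⁻¹) := by group
          _ = y.1 * z.1 := by rw [hy', hz']
      inv_mem' := by
        intro y hy
        apply Subtype.ext
        have hy' := congrArg Subtype.val hy
        rw [conjPerm_apply] at hy' ⊢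
        rw [Subgroup.coe_inv]
        calc x * (y.1)⁻¹ * x⁻¹ = (x * y.1 * x⁻¹)⁻¹ := by group
          _ = (y.1)⁻¹ := by rw [hy'] }
  have hC : (σ.support)ᶜ.card = Nat.card C := by
    rw [Nat.card_eq_fintype_card, Fintype.card_subtype]
    congr 1
    ext y
    simp only [Finset.mem_compl, Equiv.Perm.mem_support, not_not, Finset.mem_filter,
      Finset.mem_univ, true_and]
    rfl
  have hCdvd : Nat.card C ∣ r ^ a := by
    rw [← hN]; exact Subgroup.card_subgroup_dvd_card C
  obtain ⟨c, hca, hCc⟩ := (Nat.dvd_prime_pow hr).mp hCdvd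
  rw [hC, hCc, ← Nat.card_eq_fintype_card, hN] at hmod
  have hac : c = a := by
    by_contra hne
    have hlt : c < a := lt_of_le_of_ne hca hne
    have h1 : p ∣ r ^ a - r ^ c :=
      (Nat.modEq_iff_dvd' (Nat.pow_le_pow_right hr.pos hca)).mp hmod
    have h2 : r ^ a - r ^ c = r ^ c * (r ^ (a - c) - 1) := by
      rw [Nat.mul_sub, mul_one, ← pow_add, Nat.add_sub_cancel' hca]
    rw [h2] at h1
    rcases hp.out.dvd_mul.mp h1 with h3 | h3
    · have := hp.out.dvd_of_dvd_pow h3
      exact hpr ((Nat.prime_dvd_prime_iff_eq hp.out hr).mp this)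
    · exact hdvd (a - c) (by omega) (by omega) h3
  have hCtop : C = ⊤ := by
    apply Subgroup.eq_top_of_card_eq
    rw [hCc, hac, hN]
  intro y hy
  have hyC : (⟨y, hy⟩ : N) ∈ C := by rw [hCtop]; trivial
  have := congrArg Subtype.val (show σ ⟨y, hy⟩ = ⟨y, hy⟩ from hyC)
  rw [conjPerm_apply] at this
  calc x * y = x * y * x⁻¹ * x := by group
    _ = y * x := by rw [this]

end Cfsg.Agent.Helper95OrderSpec
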