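import Mathlib
import Cfsg.Agent.Lib.Helper95_OrderSpec

/-!
# A simple chief factor for a prime exactly dividing the group order (helper95)

If `p` divides `|G|` exactly once, then for a normal subgroup `H` of `G` minimal subject to
`p ∣ |H|` and `N` the largest normal `p'`-subgroup of `G` inside `H`, the quotient `H / N` is
simple of order divisible by `p`.
-/

set_option autoImplicit false

namespace Cfsg.Agent.Helper95OrderSpec

open Subgroup

variable {G : Type*} [Group G]

/-- `H` is a normal subgroup of order divisible by `p`, minimal with this property. -/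
structure MinP (p : ℕ) (H : Subgroup G) : Prop where
  normal : H.Normal
  dvd : p ∣ Nat.card H
  min : ∀ K : Subgroup G, K.Normal → K ≤ H → p ∣ Nat.card K → K = H

theorem exists_minP [Finite G] {p : ℕ} (hp : p ∣ Nat.card G) : ∃ H : Subgroup G, MinP p H := by
  classical
  let S : Set (Subgroup G) := {K | K.Normal ∧ p ∣ Nat.card K}
  have hne : S.Nonempty := ⟨⊤, inferInstance, by rwa [Subgroup.card_top]⟩
  obtain ⟨H, ⟨hHn, hHp⟩, hmin⟩ :=
    Set.exists_min_image S (fun K => Nat.card K) (Set.toFinite S) hne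
  refine ⟨H, hHn, hHp, fun K hK hKH hKp => ?_⟩
  have h1 : Nat.card H ≤ Nat.card K := hmin K ⟨hK, hKp⟩
  exact Subgroup.eq_of_le_of_card_ge hKH h1

/-- The largest normal subgroup of `G` of order prime to `p` contained in `H`. -/
def lower (p : ℕ) (H : Subgroup G) : Subgroup G :=
  sSup {K : Subgroup G | K.Normal ∧ K ≤ H ∧ ¬ p ∣ Nat.card K}

theorem lower_props [Finite G] {p : ℕ} (hp : p.Prime) (H : Subgroup G) :
    (lower p H).Normal ∧ ¬ p ∣ Nat.card (lower p H) :=
  not_dvd_card_sSup hp _ (fun _ hK => ⟨hK.1, hK.2.2⟩)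

theorem lower_le (p : ℕ) (H : Subgroup G) : lower p H ≤ H := sSup_le (fun _ hK => hK.2.1)

theorem le_lower {p : ℕ} {H K : Subgroup G} (hK : K.Normal) (hKH : K ≤ H)
    (hKp : ¬ p ∣ Nat.card K) : K ≤ lower p H := le_sSup ⟨hK, hKH, hKp⟩

theorem lower_lt [Finite G] {p : ℕ} (hp : p.Prime) {H : Subgroup G} (hH : p ∣ Nat.card H) :
    lower p H < H := by
  refine lt_of_le_of_ne (lower_le p H) (fun h => ?_)
  have := (lower_props hp H).2
  rw [h] at this
  exact this hH

/-- The subgroup generated by the elements of order `p` is characteristic. -/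
theorem closure_orderOf_characteristic (K : Type*) [Group K] (p : ℕ) :
    (closure {h : K | orderOf h = p}).Characteristic := by
  rw [characteristic_iff_map_le]
  intro ϕ
  rw [MonoidHom.map_closure]
  apply Subgroup.closure_mono
  rintro _ ⟨h, hh, rfl⟩
  show orderOf (ϕ h) = p
  rw [MulEquiv.orderOf_eq]
  exact hh

/-- The join of all normal subgroups of order prime to `p` is characteristic. -/
theorem sSup_pPrime_characteristic (K : Type*) [Group K] [Finite K] {p : ℕ} (hp : p.Prime) :
    (sSup {A : Subgroup K | A.Normal ∧ ¬ p ∣ Nat.card A}).Characteristic := by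
  rw [characteristic_iff_map_le]
  intro ϕ
  have hT := not_dvd_card_sSup hp {A : Subgroup K | A.Normal ∧ ¬ p ∣ Nat.card A} (fun _ h => h)
  apply le_sSup
  refine ⟨hT.1.map _ ϕ.surjective, ?_⟩
  rw [Subgroup.card_map_of_injective ϕ.injective]
  exact hT.2

theorem normal_dichotomy [Finite G] {p : ℕ} [hp : Fact p.Prime] (hp2 : ¬ p ^ 2 ∣ Nat.card G)
    {H : Subgroup G} (hH : MinP p H) (M : Subgroup H) (hM : M.Normal) :
    M = ⊤ ∨ M ≤ (lower p H).subgroupOf H := by
  have := hH.normal
  by_cases hpM : p ∣ Nat.card M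
  · left
    set L : Subgroup H := closure {h : H | orderOf h = p} with hL
    have : L.Characteristic := closure_orderOf_characteristic H p
    have hLn : (L.map H.subtype).Normal := inferInstance
    obtain ⟨h0, hh0⟩ := exists_prime_orderOf_dvd_card' p hH.dvd
    have h0L : h0 ∈ L := subset_closure hh0
    have hpL : p ∣ Nat.card (L.map H.subtype) := by
      rw [Subgroup.card_map_of_injective H.subtype_injective, ← hh0]
      exact Subgroup.orderOf_dvd_natCard L h0L
    have hLH : L.map H.subtype = H := hH.min _ hLn (map_subtype_le L) hpL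
    have hLtop : L = ⊤ := by
      rw [eq_top_iff]
      intro x _
      have hx : (x : G) ∈ L.map H.subtype := by rw [hLH]; exact x.2
      obtain ⟨y, hy, hyx⟩ := hx
      have : y = x := Subtype.ext hyx
      rwa [← this]
    have hidx : ¬ p ∣ M.index := by
      intro hi
      apply hp2
      have h1 : Nat.card M * M.index = Nat.card H := Subgroup.card_mul_index M
      have h2 : p ^ 2 ∣ Nat.card H := by
        rw [← h1, sq]; exact Nat.mul_dvd_mul hpM hi
      exact h2.trans (Subgroup.card_subgroup_dvd_card H)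
    rw [eq_top_iff, ← hLtop, hL, closure_le]
    intro h hh
    have hh : orderOf h = p := hh
    have h1 : (QuotientGroup.mk h : H ⧸ M) ^ p = 1 := by
      rw [← QuotientGroup.mk_pow, ← hh, pow_orderOf_eq_one]; rfl
    have h2 : (QuotientGroup.mk h : H ⧸ M) ^ M.index = 1 := by
      rw [Subgroup.index_eq_card]; exact pow_card_eq_one'
    have h3 := pow_gcd_eq_one.mpr ⟨h1, h2⟩
    have h4 : Nat.gcd p M.index = 1 := (Nat.Prime.coprime_iff_not_dvd hp.out).mpr hidx
    rw [h4, pow_one] at h3
    exact (QuotientGroup.eq_one_iff h).mp h3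
  · right
    set T : Subgroup H := sSup {A : Subgroup H | A.Normal ∧ ¬ p ∣ Nat.card A} with hT
    have hTp := not_dvd_card_sSup hp.out {A : Subgroup H | A.Normal ∧ ¬ p ∣ Nat.card A}
      (fun _ h => h)
    have : T.Characteristic := sSup_pPrime_characteristic H hp.out
    have hTn : (T.map H.subtype).Normal := inferInstance
    have hMT : M ≤ T := le_sSup ⟨hM, hpM⟩
    have hTN : T.map H.subtype ≤ lower p H := by
      apply le_lower hTn (map_subtype_le T)
      rw [Subgroup.card_map_of_injective H.subtype_injective]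
      exact hTp.2
    intro x hx
    rw [mem_subgroupOf]
    exact hTN ⟨x, hMT hx, rfl⟩

theorem simple_quot [Finite G] {p : ℕ} [hp : Fact p.Prime] (hp2 : ¬ p ^ 2 ∣ Nat.card G)
    {H : Subgroup G} (hH : MinP p H) (hN : (lower p H).Normal) :
    IsSimpleGroup (H ⧸ (lower p H).subgroupOf H) ∧
      p ∣ Nat.card (H ⧸ (lower p H).subgroupOf H) := by
  have hN' := lower_props hp.out H
  set N' := (lower p H).subgroupOf H with hN'def
  have hcard : Nat.card N' * N'.index = Nat.card H := Subgroup.card_mul_index N'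
  have hcN : Nat.card N' = Nat.card (lower p H) :=
    Nat.card_congr (subgroupOfEquivOfLe (lower_le p H)).toEquiv
  have hpi : p ∣ N'.index := by
    have := hH.dvd
    rw [← hcard, hcN] at this
    exact (hp.out.dvd_mul.mp this).resolve_left hN'.2
  have hpQ : p ∣ Nat.card (H ⧸ N') := by rwa [← Subgroup.index_eq_card]
  refine ⟨?_, hpQ⟩
  have hnt : Nontrivial (H ⧸ N') := by
    rw [← Finite.one_lt_card_iff_nontrivial]
    have h1 : 0 < Nat.card (H ⧸ N') := Nat.card_pos
    have h2 := Nat.le_of_dvd h1 hpQ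
    have h3 := hp.out.two_le
    omega
  refine { toNontrivial := hnt, eq_bot_or_eq_top_of_normal := ?_ }
  intro Mb hMb
  have hsurj : Function.Surjective (QuotientGroup.mk' N') := QuotientGroup.mk'_surjective N'
  rcases normal_dichotomy hp2 hH (Mb.comap (QuotientGroup.mk' N')) (hMb.comap _) with h | h
  · right
    rw [← Subgroup.map_comap_eq_self_of_surjective hsurj Mb, h, ← MonoidHom.range_eq_map,
      MonoidHom.range_eq_top]
    exact hsurj
  · left
    rw [← Subgroup.map_comap_eq_self_of_surjective hsurj Mb, eq_bot_iff]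
    calc _ ≤ N'.map (QuotientGroup.mk' N') := Subgroup.map_mono h
      _ = ⊥ := QuotientGroup.map_mk'_self N'

theorem factorization_eq_one_of_dvd {m r : ℕ} (hr : r.Prime) (hm : m ≠ 0) (h1 : r ∣ m)
    (h2 : ¬ r ^ 2 ∣ m) : m.factorization r = 1 := by
  have a1 : 1 ≤ m.factorization r := by
    rw [← hr.pow_dvd_iff_le_factorization hm, pow_one]; exact h1
  have a2 : ¬ 2 ≤ m.factorization r := by
    rw [← hr.pow_dvd_iff_le_factorization hm]; exact h2
  omega

/-- Frattini argument for a Sylow subgroup of prime order: if `z ∈ K ⊴ G` has prime order `r`,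
`r ^ 2 ∤ |G|`, and the prime `s` divides `|G|` but not `|K|`, then some element of order `s`
normalizes `⟨z⟩`. -/
theorem exists_normalizing_of_frattini [Finite G] {r s : ℕ} [hr : Fact r.Prime] [hs : Fact s.Prime]
    (K : Subgroup G) [K.Normal] (z : G) (hzK : z ∈ K) (hz : orderOf z = r)
    (hr2 : ¬ r ^ 2 ∣ Nat.card G) (hs1 : s ∣ Nat.card G) (hsK : ¬ s ∣ Nat.card K) :
    ∃ w : G, w ∈ normalizer (zpowers z : Set G) ∧ orderOf w = s := by
  have hcardZ : Nat.card (zpowers z) = r := by rw [Nat.card_zpowers, hz]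
  have hr1 : r ∣ Nat.card G := by
    rw [← hz]; exact orderOf_dvd_natCard z
  have hfac : (Nat.card G).factorization r = 1 :=
    factorization_eq_one_of_dvd hr.out Nat.card_pos.ne' hr1 hr2
  have hcard' : Nat.card (zpowers z) = r ^ (Nat.card G).factorization r := by
    rw [hfac, pow_one, hcardZ]
  let P : Sylow r G := Sylow.ofCard (zpowers z) hcard'
  have hPK : (P : Subgroup G) ≤ K := by
    show zpowers z ≤ K
    rwa [zpowers_le]
  have hfr := Sylow.normalizer_sup_eq_top' P hPK
  have hfr' : normalizer (zpowers z : Set G) ⊔ K = ⊤ := hfr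
  have hdvd := card_sup_dvd (normalizer (zpowers z : Set G)) K
  rw [hfr', Subgroup.card_top] at hdvd
  have hsN : s ∣ Nat.card (normalizer (zpowers z : Set G)) :=
    (hs.out.dvd_mul.mp (hs1.trans hdvd)).resolve_right hsK
  obtain ⟨w, hw⟩ := exists_prime_orderOf_dvd_card' s hsN
  exact ⟨w.1, w.2, by rw [Subgroup.orderOf_coe, hw]⟩

theorem dvd_quot_of_no_mixed [Finite G] {p q : ℕ} [hp : Fact p.Prime] [hq : Fact q.Prime]
    (hpq : p ≠ q) (hp1 : p ∣ Nat.card G) (hp2 : ¬ p ^ 2 ∣ Nat.card G)
    (hq1 : q ∣ Nat.card G) (hq2 : ¬ q ^ 2 ∣ Nat.card G)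
    (hqp : ¬ q ∣ p - 1) (hpq' : ¬ p ∣ q - 1) (hno : ∀ g : G, orderOf g ≠ p * q)
    {H : Subgroup G} (hH : MinP p H) (hN : (lower p H).Normal) :
    q ∣ Nat.card (H ⧸ (lower p H).subgroupOf H) := by
  have hHn := hH.normal
  have hN' := lower_props hp.out H
  set N' := (lower p H).subgroupOf H with hN'def
  have hcard : Nat.card N' * N'.index = Nat.card H := Subgroup.card_mul_index N'
  have hcN : Nat.card N' = Nat.card (lower p H) :=
    Nat.card_congr (subgroupOfEquivOfLe (lower_le p H)).toEquiv
  have hG : H.index * Nat.card H = Nat.card G := Subgroup.index_mul_card H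
  rw [← Subgroup.index_eq_card]
  by_contra hcon
  have hq' : q ∣ H.index * (Nat.card (lower p H) * N'.index) := by
    rw [← hcN, hcard, hG]; exact hq1
  rcases hq.out.dvd_mul.mp hq' with h | h
  · have hqH : ¬ q ∣ Nat.card H := by
      intro h'
      apply hq2
      rw [← hG, sq]; exact Nat.mul_dvd_mul h h'
    obtain ⟨x', hx'⟩ := exists_prime_orderOf_dvd_card' p hH.dvd
    have hx : orderOf (x' : G) = p := by rw [Subgroup.orderOf_coe, hx']
    obtain ⟨y, hyn, hy⟩ :=
      exists_normalizing_of_frattini (r := p) (s := q) H (x' : G) x'.2 hx hp2 hq1 hqH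
    have hc := centralizes_of_not_dvd (p := q) (r := p) (a := 1) (zpowers (x' : G)) y hyn hp.out
      hpq.symm (by rw [← hy, pow_orderOf_eq_one]) (by rw [Nat.card_zpowers, hx, pow_one])
      (by intro j h1 h2
          have : j = 1 := by omega
          subst this; rwa [pow_one]) (x' : G) (mem_zpowers _)
    exact hno _ (orderOf_mul_of_commute hp.out hq.out hpq hx hy hc.symm)
  · rcases hq.out.dvd_mul.mp h with h | h
    · obtain ⟨y', hy'⟩ := exists_prime_orderOf_dvd_card' q h
      have hy : orderOf (y' : G) = q := by rw [Subgroup.orderOf_coe, hy']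
      obtain ⟨x, hxn, hx⟩ := exists_normalizing_of_frattini (r := q) (s := p) (lower p H)
        (y' : G) y'.2 hy hq2 hp1 hN'.2
      have hc := centralizes_of_not_dvd (p := p) (r := q) (a := 1) (zpowers (y' : G)) x hxn hq.out
        hpq (by rw [← hx, pow_orderOf_eq_one]) (by rw [Nat.card_zpowers, hy, pow_one])
        (by intro j h1 h2
            have : j = 1 := by omega
            subst this; rwa [pow_one]) (y' : G) (mem_zpowers _)
      exact hno _ (orderOf_mul_of_commute hp.out hq.out hpq hx hy hc)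
    · exact hcon h

theorem not_comm_of_two_primes {Q : Type*} [Group Q] [Finite Q] [IsSimpleGroup Q] {p q : ℕ}
    (hp : p.Prime) (hq : q.Prime) (hpq : p ≠ q) (h1 : p ∣ Nat.card Q) (h2 : q ∣ Nat.card Q) :
    ¬ IsMulCommutative Q := by
  intro hc
  have comm : ∀ a b : Q, a * b = b * a := hc.is_comm.comm
  let : CommGroup Q := { ‹Group Q› with mul_comm := comm }
  have hprime : (Nat.card Q).Prime := IsSimpleGroup.prime_card
  have e1 := (Nat.prime_dvd_prime_iff_eq hp hprime).mp h1
  have e2 := (Nat.prime_dvd_prime_iff_eq hq hprime).mp h2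
  exact hpq (e1.trans e2.symm)

/-- **Simple chief factor.** If the prime `p` divides `|G|` exactly once, then `G` has normal
subgroups `N < H` with `H / N` simple of order divisible by `p`, and also by every other prime `q`
exactly dividing `|G|` with `q ∤ p - 1`, `p ∤ q - 1` such that `G` has no element of order `p q`. -/
theorem exists_simple_factor [Finite G] {p : ℕ} [hp : Fact p.Prime] (hp1 : p ∣ Nat.card G)
    (hp2 : ¬ p ^ 2 ∣ Nat.card G) :
    ∃ (N H : Subgroup G) (_ : N.Normal), H.Normal ∧ N < H ∧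
      IsSimpleGroup (H ⧸ N.subgroupOf H) ∧ p ∣ Nat.card (H ⧸ N.subgroupOf H) ∧
      ∀ q : ℕ, q.Prime → p ≠ q → q ∣ Nat.card G → ¬ q ^ 2 ∣ Nat.card G → ¬ q ∣ p - 1 →
        ¬ p ∣ q - 1 → (∀ g : G, orderOf g ≠ p * q) → q ∣ Nat.card (H ⧸ N.subgroupOf H) := by
  obtain ⟨H, hH⟩ := exists_minP hp1
  have hN := (lower_props hp.out H).1
  refine ⟨lower p H, H, hN, hH.normal, lower_lt hp.out hH.dvd, (simple_quot hp2 hH hN).1,
    (simple_quot hp2 hH hN).2, ?_⟩
  intro q hq hpq hq1 hq2 hqp hpq' hno
  have : Fact q.Prime := ⟨hq⟩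
  exact dvd_quot_of_no_mixed hpq hp1 hp2 hq1 hq2 hqp hpq' hno hH hN

end Cfsg.Agent.Helper95OrderSpec
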