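import Mathlib
import Cfsg.Agent.Lib.Helper95_ChiefFactor

/-!
# Groups with the order and the spectrum of an alternating group (helper95)

* `alt_orderOf_ne_mul`: `A_n` has no element of order `p q` for distinct primes with `n < p + q`.
* `card_alt_prime`: a prime `r ≥ 3` with `n / 2 < r ≤ n` divides `|A_n|` exactly once.
* `alt_section`: a group with the order and the spectrum of `A_n` has a non-abelian simple
  section `H / N` (`N < H` normal in `G`) of order divisible by all primes in `(n / 2, n]`, as soon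
  as there are two such primes.
-/

set_option autoImplicit false

namespace Cfsg.Agent.Helper95OrderSpec

open Equiv Nat

theorem prime_dvd_multiset_lcm {p : ℕ} (hp : p.Prime) (s : Multiset ℕ) (h : p ∣ s.lcm) :
    ∃ a ∈ s, p ∣ a := by
  induction s using Multiset.induction_on with
  | empty =>
    rw [Multiset.lcm_zero] at h
    exact absurd (Nat.dvd_one.mp h) hp.one_lt.ne'
  | cons a s ih =>
    rw [Multiset.lcm_cons] at h
    rcases (Nat.Prime.prime hp).dvd_or_dvd_of_dvd_lcm h with h' | h'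
    · exact ⟨a, Multiset.mem_cons_self a s, h'⟩
    · obtain ⟨b, hb, hpb⟩ := ih h'
      exact ⟨b, Multiset.mem_cons_of_mem hb, hpb⟩

theorem add_le_sum_of_mem_of_ne {s : Multiset ℕ} {a b : ℕ} (ha : a ∈ s) (hb : b ∈ s)
    (hab : a ≠ b) : a + b ≤ s.sum := by
  classical
  have hb' : b ∈ s.erase a := (Multiset.mem_erase_of_ne hab.symm).mpr hb
  rw [← Multiset.cons_erase ha, Multiset.sum_cons, ← Multiset.cons_erase hb', Multiset.sum_cons]
  omega

/-- A permutation of `n` points has no element order `p q` for distinct primes with `n < p + q`. -/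
theorem perm_orderOf_ne_mul {n p q : ℕ} (hp : p.Prime) (hq : q.Prime) (hpq : p ≠ q)
    (hn : n < p + q) (σ : Perm (Fin n)) : orderOf σ ≠ p * q := by
  intro h
  have hsum : σ.cycleType.sum ≤ n := by
    have := σ.sum_cycleType_le
    rwa [Fintype.card_fin] at this
  have hlcm := σ.lcm_cycleType
  rw [h] at hlcm
  obtain ⟨a, ha, hpa⟩ := prime_dvd_multiset_lcm hp σ.cycleType (by rw [hlcm]; exact dvd_mul_right p q)
  obtain ⟨b, hb, hqb⟩ := prime_dvd_multiset_lcm hq σ.cycleType (by rw [hlcm]; exact dvd_mul_left q p)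
  have ha0 : 0 < a := Nat.pos_of_ne_zero (by
    rintro rfl
    have := Equiv.Perm.two_le_of_mem_cycleType ha
    omega)
  have hb0 : 0 < b := Nat.pos_of_ne_zero (by
    rintro rfl
    have := Equiv.Perm.two_le_of_mem_cycleType hb
    omega)
  by_cases hab : a = b
  · subst hab
    have hcop : Nat.Coprime p q := (Nat.coprime_primes hp hq).mpr hpq
    have h1 : p * q ∣ a := hcop.mul_dvd_of_dvd_of_dvd hpa hqb
    have h2 : p * q ≤ a := Nat.le_of_dvd ha0 h1
    have h3 : a ≤ σ.cycleType.sum := Multiset.le_sum_of_mem ha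
    have h4 := hp.two_le
    have h5 := hq.two_le
    nlinarith
  · have h1 := add_le_sum_of_mem_of_ne ha hb hab
    have h2 : p ≤ a := Nat.le_of_dvd ha0 hpa
    have h3 : q ≤ b := Nat.le_of_dvd hb0 hqb
    omega

theorem alt_orderOf_ne_mul {n p q : ℕ} (hp : p.Prime) (hq : q.Prime) (hpq : p ≠ q)
    (hn : n < p + q) (σ : alternatingGroup (Fin n)) : orderOf σ ≠ p * q := by
  rw [← Subgroup.orderOf_coe]
  exact perm_orderOf_ne_mul hp hq hpq hn σ.1


theorem prime_sq_not_dvd_factorial {n r : ℕ} (hr : r.Prime) (h3 : 3 ≤ r) (h1 : r ≤ n)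
    (h2 : n < 2 * r) : ¬ r ^ 2 ∣ n ! := by
  have hlog : Nat.log r n < 2 := by
    apply Nat.log_lt_of_lt_pow (by omega)
    nlinarith
  rw [hr.pow_dvd_factorial_iff hlog]
  have hdiv : n / r = 1 := Nat.div_eq_of_lt_le (by omega) (by omega)
  have : Finset.Ico 1 2 = {1} := by decide
  rw [this, Finset.sum_singleton, pow_one, hdiv]
  omega

theorem two_mul_card_alt {n : ℕ} (hn : 2 ≤ n) :
    2 * Nat.card (alternatingGroup (Fin n)) = n ! := by
  have : Nontrivial (Fin n) := Fin.nontrivial_iff_two_le.mpr hn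
  rw [two_mul_nat_card_alternatingGroup, Nat.card_eq_fintype_card, Fintype.card_perm,
    Fintype.card_fin]

theorem card_alt_prime {n r : ℕ} (hr : r.Prime) (h3 : 3 ≤ r) (h1 : r ≤ n) (h2 : n < 2 * r) :
    r ∣ Nat.card (alternatingGroup (Fin n)) ∧ ¬ r ^ 2 ∣ Nat.card (alternatingGroup (Fin n)) := by
  have hc := two_mul_card_alt (n := n) (by omega)
  constructor
  · have h : r ∣ 2 * Nat.card (alternatingGroup (Fin n)) := by
      rw [hc]; exact hr.dvd_factorial.mpr h1
    rcases hr.dvd_mul.mp h with h' | h'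
    · have := Nat.le_of_dvd (by norm_num) h'
      omega
    · exact h'
  · intro h
    apply prime_sq_not_dvd_factorial hr h3 h1 h2
    rw [← hc]
    exact Dvd.dvd.mul_left h 2


theorem not_dvd_pred_of_le_two_mul {a b : ℕ} (ha : a.Prime) (hb : b.Prime) (ha3 : 3 ≤ a)
    (hb3 : 3 ≤ b) (h : b ≤ 2 * a) : ¬ a ∣ b - 1 := by
  rintro ⟨k, hk⟩
  have hk1 : k = 1 := by
    rcases Nat.lt_or_ge k 1 with h0 | h0
    · have : k = 0 := by omega
      subst this
      omega
    · rcases Nat.lt_or_ge k 2 with h2 | h2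
      · omega
      · have : a * 2 ≤ a * k := Nat.mul_le_mul_left a h2
        omega
  subst hk1
  rw [mul_one] at hk
  have hba : b = a + 1 := by omega
  rcases Nat.even_or_odd a with he | ho
  · have := (Nat.prime_dvd_prime_iff_eq Nat.prime_two ha).mp he.two_dvd
    omega
  · have he : Even b := by rw [hba]; exact ho.add_one
    have := (Nat.prime_dvd_prime_iff_eq Nat.prime_two hb).mp he.two_dvd
    omega

/-- A finite group with the order and the spectrum of `A_n`, where `(n / 2, n]` contains two primes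
`q < p`, has normal subgroups `N < H` with `H / N` non-abelian simple of order divisible by every
prime in `(n / 2, n]`. -/
theorem alt_section {G : Type*} [Group G] [Finite G] (n : ℕ) (hn : 5 ≤ n)
    (hcard : Nat.card G = Nat.card ↥(alternatingGroup (Fin n)))
    (hspec : Set.range (orderOf : G → ℕ) =
      Set.range (orderOf : ↥(alternatingGroup (Fin n)) → ℕ))
    (p q : ℕ) (hp : p.Prime) (hq : q.Prime) (hnq : n < 2 * q) (hqp : q < p) (hpn : p ≤ n) :
    ∃ (N H : Subgroup G) (_ : N.Normal), H.Normal ∧ N < H ∧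
      IsSimpleGroup (↥H ⧸ N.subgroupOf H) ∧ ¬ IsMulCommutative (↥H ⧸ N.subgroupOf H) ∧
      ∀ r : ℕ, r.Prime → n < 2 * r → r ≤ n → r ∣ Nat.card (↥H ⧸ N.subgroupOf H) := by
  have : Fact p.Prime := ⟨hp⟩
  have hq3 : 3 ≤ q := by omega
  have hp3 : 3 ≤ p := by omega
  have hpc := card_alt_prime hp hp3 hpn (by omega)
  rw [← hcard] at hpc
  obtain ⟨N, H, hN, hHn, hlt, hsimple, hpQ, hall⟩ := exists_simple_factor hpc.1 hpc.2
  have key : ∀ r : ℕ, r.Prime → n < 2 * r → r ≤ n → r ∣ Nat.card (↥H ⧸ N.subgroupOf H) := by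
    intro r hr hnr hrn
    by_cases hrp : r = p
    · rw [hrp]; exact hpQ
    have hr3 : 3 ≤ r := by omega
    have hrc := card_alt_prime hr hr3 hrn hnr
    rw [← hcard] at hrc
    refine hall r hr (Ne.symm hrp) hrc.1 hrc.2
      (not_dvd_pred_of_le_two_mul hr hp hr3 hp3 (by omega))
      (not_dvd_pred_of_le_two_mul hp hr hp3 hr3 (by omega)) ?_
    intro g hg
    have hmem : p * r ∈ Set.range (orderOf : G → ℕ) := ⟨g, hg⟩
    rw [hspec] at hmem
    obtain ⟨σ, hσ⟩ := hmem
    exact alt_orderOf_ne_mul hp hr (Ne.symm hrp) (by omega) σ hσ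
  refine ⟨N, H, hN, hHn, hlt, hsimple, ?_, key⟩
  exact not_comm_of_two_primes hp hq (by omega) hpQ (key q hq hnq (by omega))

end Cfsg.Agent.Helper95OrderSpec
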