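import Mathlib
import Cfsg.Agent.Lib.Helper32_Sylow
import Cfsg.Agent.Lib.Helper34_Sylow

/-!
# Camina–Herzog: Sylow 2-subgroups are abelian iff every 2-element is 2-central (helper95)

An elementary proof (no `Z*`-theorem needed).  Let `G` be a minimal counterexample.

* `G` has no proper nontrivial normal subgroup (Burnside-type fusion argument in `G/K`).
* For a 2-element `r`, a 2-element normalizing `⟨r⟩` centralizes `r`; hence two involutions in a
  common 2-subgroup commute, `E = Ω₁(P)` is elementary abelian and `N_G(E)` controls fusion in `E`.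
* For a nontrivial `N_G(E)`-invariant `U' ≤ E`, `C_G(U')` inherits the hypothesis, so `C_P(U')`
  is abelian by induction; in particular `A = C_P(E)` is abelian and `C_P(U') = A`.
* With `2^k = exp(P) = exp(A)` and `U = {a^(2^(k-1)) : a ∈ A}`, any `y ∈ P` with `y² ∈ A`
  centralizes `U` (else `(a y)` has order `2^(k+1)`), hence lies in `A`.  So `P = A`.
-/

set_option autoImplicit false

namespace Cfsg.Agent.Helper95CH

open Subgroup Cfsg.Agent.Lib.Helper34_Sylow

universe u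

variable {G : Type u} [Group G]

/-- `x` has order a power of 2. -/
def TwoElt (x : G) : Prop := ∃ k : ℕ, orderOf x = 2 ^ k

/-- Every 2-element has odd class size. -/
def HC (G : Type u) [Group G] : Prop :=
  ∀ x : G, TwoElt x → ¬ 2 ∣ (centralizer ({x} : Set G)).index

/-- Relative version for a subgroup. -/
def HCsub (L : Subgroup G) : Prop :=
  ∀ v ∈ L, TwoElt v → ¬ 2 ∣ (centralizer ({v} : Set G)).relIndex L

/-- All 2-subgroups are abelian. -/
def AllAb (G : Type u) [Group G] : Prop :=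
  ∀ R : Subgroup G, IsPGroup 2 R → ∀ a ∈ R, ∀ b ∈ R, a * b = b * a

instance fact2 : Fact (Nat.Prime 2) := ⟨Nat.prime_two⟩

theorem twoElt_conj {x : G} (hx : TwoElt x) (g : G) : TwoElt (g * x * g⁻¹) := by
  obtain ⟨k, hk⟩ := hx
  exact ⟨k, by rw [orderOf_conj' g x, hk]⟩

theorem twoElt_of_sq {x : G} (hx : x ^ 2 = 1) : TwoElt x := by
  have h := orderOf_dvd_of_pow_eq_one hx
  rcases (Nat.dvd_prime Nat.prime_two).mp h with h1 | h2
  · exact ⟨0, by rw [h1, pow_zero]⟩
  · exact ⟨1, by rw [h2, pow_one]⟩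

theorem twoElt_of_mem {R : Subgroup G} (hR : IsPGroup 2 R) {x : G} (hx : x ∈ R) : TwoElt x := by
  obtain ⟨k, hk⟩ := hR ⟨x, hx⟩
  have h1 : x ^ 2 ^ k = 1 := by
    have := congrArg Subtype.val hk
    simpa using this
  obtain ⟨j, -, hj⟩ := (Nat.dvd_prime_pow Nat.prime_two).mp (orderOf_dvd_of_pow_eq_one h1)
  exact ⟨j, hj⟩

theorem isPGroup_zpowers {x : G} (hx : TwoElt x) : IsPGroup 2 (zpowers x) := by
  obtain ⟨k, hk⟩ := hx
  apply IsPGroup.of_card (n := k)
  rw [Nat.card_zpowers, hk]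

theorem hc_subtype {L : Subgroup G} (h : HCsub L) : HC ↥L := by
  intro v hv
  have hv' : TwoElt (v : G) := by
    obtain ⟨k, hk⟩ := hv
    exact ⟨k, by rw [Subgroup.orderOf_coe, hk]⟩
  have h1 := h v v.2 hv'
  have h2 : centralizer ({v} : Set ↥L) = (centralizer ({(v : G)} : Set G)).subgroupOf L := by
    ext x
    rw [mem_subgroupOf, mem_centralizer_iff, mem_centralizer_iff]
    constructor
    · intro hx y hy
      rw [Set.mem_singleton_iff] at hy
      subst hy
      have := hx v rfl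
      exact congrArg Subtype.val this
    · intro hx y hy
      rw [Set.mem_singleton_iff] at hy
      subst hy
      exact Subtype.ext (hx (y : G) rfl)
  rw [h2]
  exact h1

theorem allAb_sub {L : Subgroup G} (h : AllAb ↥L) {R : Subgroup G} (hRL : R ≤ L)
    (hR : IsPGroup 2 R) : ∀ a ∈ R, ∀ b ∈ R, a * b = b * a := by
  intro a ha b hb
  have h1 : IsPGroup 2 (R.subgroupOf L) := hR.comap_subtype
  have := h (R.subgroupOf L) h1 ⟨a, hRL ha⟩ (mem_subgroupOf.mpr ha) ⟨b, hRL hb⟩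
    (mem_subgroupOf.mpr hb)
  exact congrArg Subtype.val this

section Basic

variable [Finite G]

/-- A subgroup of odd index contains a Sylow 2-subgroup. -/
theorem exists_sylow_le_of_index (C : Subgroup G) (hC : ¬ 2 ∣ C.index) :
    ∃ Q : Sylow 2 G, (Q : Subgroup G) ≤ C := by
  obtain ⟨Q₀⟩ : Nonempty (Sylow 2 ↥C) := inferInstance
  have h1 : IsPGroup 2 ((Q₀ : Subgroup ↥C).map C.subtype) := Q₀.2.map C.subtype
  have h2 : ¬ 2 ∣ ((Q₀ : Subgroup ↥C).map C.subtype).index := by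
    rw [index_map_subtype]
    intro h
    rcases (Nat.Prime.dvd_mul Nat.prime_two).mp h with h | h
    · exact Q₀.not_dvd_index h
    · exact hC h
  refine ⟨h1.toSylow h2, ?_⟩
  rw [IsPGroup.toSylow_coe]
  exact map_subtype_le _

theorem exists_sylow_centralizer (hc : HC G) {x : G} (hx : TwoElt x) :
    ∃ Q : Sylow 2 G, (Q : Subgroup G) ≤ centralizer ({x} : Set G) :=
  exists_sylow_le_of_index _ (hc x hx)

theorem hc_of_sylow
    (h : ∀ x : G, TwoElt x → ∃ Q : Sylow 2 G, (Q : Subgroup G) ≤ centralizer ({x} : Set G)) :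
    HC G := by
  intro x hx hdvd
  obtain ⟨Q, hQ⟩ := h x hx
  exact Q.not_dvd_index (hdvd.trans (index_dvd_of_le hQ))

/-- A 2-element centralizing a Sylow 2-subgroup lies in it. -/
theorem mem_sylow_of_centralizes (Q : Sylow 2 G) {x : G} (hx : TwoElt x)
    (h : (Q : Subgroup G) ≤ centralizer ({x} : Set G)) : x ∈ Q := by
  have h1 : IsPGroup 2 (zpowers x) := isPGroup_zpowers hx
  have h2 : zpowers x ≤ normalizer ((Q : Subgroup G) : Set G) := by
    rw [zpowers_le]
    apply mem_normalizer_fintype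
    intro n hn
    have := mem_centralizer_iff.mp (h hn) x rfl
    have e : x * n * x⁻¹ = n := by rw [this]; group
    rw [e]; exact hn
  have h3 : IsPGroup 2 (zpowers x ⊔ (Q : Subgroup G) : Subgroup G) :=
    h1.to_sup_of_normal_right' Q.2 h2
  have h4 := Q.3 h3 le_sup_right
  have : x ∈ zpowers x ⊔ (Q : Subgroup G) := le_sup_left (a := zpowers x) (mem_zpowers x)
  rw [h4] at this
  exact this

/-- Under `HC`, a 2-element normalizing the cyclic group of a 2-element `r` centralizes `r`. -/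
theorem commute_of_normalizes (hc : HC G) {r s : G} (hr : TwoElt r) (hs : TwoElt s)
    (h : s * r * s⁻¹ ∈ zpowers r) : s * r = r * s := by
  obtain ⟨Q, hQ⟩ := exists_sylow_centralizer hc hr
  set H : Subgroup G := normalizer ((zpowers r : Subgroup G) : Set G) with hH
  have hCH : centralizer ({r} : Set G) ≤ H := by
    intro c hc'
    apply mem_normalizer_fintype
    intro n hn
    have h1 : c * r = r * c := (mem_centralizer_iff.mp hc' r rfl).symm
    have h2 : Commute c n := by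
      obtain ⟨i, rfl⟩ := mem_zpowers_iff.mp hn
      exact (show Commute c r from h1).zpow_right i
    have e : c * n * c⁻¹ = n := by rw [h2.eq]; group
    rw [e]; exact hn
  have hsH : s ∈ H := by
    apply mem_normalizer_fintype
    intro n hn
    obtain ⟨i, rfl⟩ := mem_zpowers_iff.mp hn
    have e : s * r ^ i * s⁻¹ = (s * r * s⁻¹) ^ i := by
      rw [conj_zpow]
    rw [e]
    exact zpow_mem h i
  have hidx : ¬ 2 ∣ (Q : Subgroup G).relIndex H := fun hd =>
    Q.not_dvd_index (hd.trans (relIndex_dvd_index_of_le (hQ.trans hCH)))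
  obtain ⟨c, hcH, hcle⟩ := exists_cj_le_of_relIndex (p := 2) (H := H) (R := (Q : Subgroup G))
    (U := zpowers s) Q.2 hidx (by rw [zpowers_le]; exact hsH) (isPGroup_zpowers hs)
  have h1 : c * s * c⁻¹ ∈ centralizer ({r} : Set G) := hQ (hcle (conj_mem_cj (mem_zpowers s)))
  have h2 : r * (c * s * c⁻¹) = (c * s * c⁻¹) * r := mem_centralizer_iff.mp h1 r rfl
  -- s commutes with r' = c⁻¹ r c
  set r' : G := c⁻¹ * r * c with hr'
  have h3 : Commute s r' := by
    have : s * (c⁻¹ * r * c) = (c⁻¹ * r * c) * s := by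
      have h4 : c⁻¹ * ((c * s * c⁻¹) * r) * c = c⁻¹ * (r * (c * s * c⁻¹)) * c := by rw [h2]
      have e1 : c⁻¹ * ((c * s * c⁻¹) * r) * c = s * (c⁻¹ * r * c) := by group
      have e2 : c⁻¹ * (r * (c * s * c⁻¹)) * c = (c⁻¹ * r * c) * s := by group
      rw [e1, e2] at h4
      exact h4
    exact this
  -- r is a power of r'
  have h5 : zpowers r' = zpowers r := by
    have hc1 : c⁻¹ ∈ H := H.inv_mem hcH
    have h6 := cj_eq_self_of_mem_normalizer (g := c⁻¹) (U := zpowers r) hc1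
    have h7 : cj c⁻¹ (zpowers r) = zpowers r' := by
      rw [cj, MonoidHom.map_zpowers]
      congr 1
      simp [hr', MulAut.conj_apply]
    rw [← h7, h6]
  have h8 : r ∈ zpowers r' := by rw [h5]; exact mem_zpowers r
  obtain ⟨i, hi⟩ := mem_zpowers_iff.mp h8
  have h9 : Commute s r := by
    rw [← hi]; exact h3.zpow_right i
  exact h9.eq

/-- Under `HC`, two involutions in a common 2-subgroup commute. -/
theorem invol_commute (hc : HC G) {R : Subgroup G} (hR : IsPGroup 2 R) {s t : G} (hs : s ∈ R)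
    (ht : t ∈ R) (hs2 : s ^ 2 = 1) (ht2 : t ^ 2 = 1) : s * t = t * s := by
  have hr : TwoElt (s * t) := twoElt_of_mem hR (R.mul_mem hs ht)
  have hsi : s⁻¹ = s := by
    rw [inv_eq_iff_mul_eq_one, ← pow_two, hs2]
  have hti : t⁻¹ = t := by
    rw [inv_eq_iff_mul_eq_one, ← pow_two, ht2]
  have h1 : s * (s * t) * s⁻¹ = (s * t)⁻¹ := by
    rw [mul_inv_rev, hsi, hti, ← mul_assoc, ← pow_two, hs2, one_mul]
  have h2 : s * (s * t) * s⁻¹ ∈ zpowers (s * t) := by
    rw [h1]; exact inv_mem (mem_zpowers _)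
  have h3 := commute_of_normalizes hc hr (twoElt_of_sq hs2) h2
  -- s * (s * t) = (s * t) * s
  rw [mul_assoc] at h3
  exact mul_left_cancel h3

/-- `Ω₁(R)`: the subgroup generated by the elements of `R` of order at most 2. -/
def Om (R : Subgroup G) : Subgroup G := closure {x | x ∈ R ∧ x ^ 2 = 1}

theorem mem_Om (hc : HC G) {R : Subgroup G} (hR : IsPGroup 2 R) {x : G} :
    x ∈ Om R ↔ x ∈ R ∧ x ^ 2 = 1 := by
  constructor
  · intro hx
    unfold Om at hx
    induction hx using closure_induction with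
    | mem x hx => exact hx
    | one => exact ⟨R.one_mem, one_pow 2⟩
    | mul x y _ _ hx hy =>
      refine ⟨R.mul_mem hx.1 hy.1, ?_⟩
      have hcomm : Commute x y := invol_commute hc hR hx.1 hy.1 hx.2 hy.2
      rw [hcomm.mul_pow, hx.2, hy.2, one_mul]
    | inv x _ hx =>
      exact ⟨R.inv_mem hx.1, by rw [inv_pow, hx.2, inv_one]⟩
  · intro hx
    exact subset_closure hx

theorem Om_le (hc : HC G) {R : Subgroup G} (hR : IsPGroup 2 R) : Om R ≤ R :=
  fun _ hx => ((mem_Om hc hR).mp hx).1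

theorem Om_comm (hc : HC G) {R : Subgroup G} (hR : IsPGroup 2 R) {a b : G} (ha : a ∈ Om R)
    (hb : b ∈ Om R) : a * b = b * a := by
  rw [mem_Om hc hR] at ha hb
  exact invol_commute hc hR ha.1 hb.1 ha.2 hb.2

theorem Om_cj (hc : HC G) {R : Subgroup G} (hR : IsPGroup 2 R) (g : G) :
    Om (cj g R) = cj g (Om R) := by
  ext x
  rw [mem_Om hc (isPGroup_cj hR), mem_cj, mem_cj, mem_Om hc hR]
  have e : (g⁻¹ * x * g) ^ 2 = g⁻¹ * x ^ 2 * g := by
    have := conj_pow (a := g⁻¹) (b := x) (i := 2)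
    rwa [inv_inv] at this
  rw [e]
  constructor
  · rintro ⟨h1, h2⟩
    exact ⟨h1, by rw [h2]; group⟩
  · rintro ⟨h1, h2⟩
    refine ⟨h1, ?_⟩
    have h3 : g * (g⁻¹ * x ^ 2 * g) * g⁻¹ = g * 1 * g⁻¹ := by rw [h2]
    have e1 : g * (g⁻¹ * x ^ 2 * g) * g⁻¹ = x ^ 2 := by group
    rw [e1] at h3
    rw [h3]; group

theorem isPGroup_Om (hc : HC G) {R : Subgroup G} (hR : IsPGroup 2 R) : IsPGroup 2 (Om R) :=
  hR.to_le (Om_le hc hR)

/-- `cj g U = U` gives `g ∈ N(U)`. -/
theorem mem_normalizer_of_cj_le {g : G} {U : Subgroup G} (h : cj g U ≤ U) :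
    g ∈ normalizer (U : Set G) := by
  apply mem_normalizer_fintype
  intro n hn
  exact h (conj_mem_cj hn)

/-- `N_G(Ω₁(P))` controls fusion in `Ω₁(P)`. -/
theorem fusion_control (hc : HC G) (P : Sylow 2 G) {e g : G} (he : e ∈ Om (P : Subgroup G))
    (hg : g * e * g⁻¹ ∈ (P : Subgroup G)) :
    ∃ n ∈ normalizer ((Om (P : Subgroup G) : Subgroup G) : Set G), n * e * n⁻¹ = g * e * g⁻¹ := by
  set E : Subgroup G := Om (P : Subgroup G) with hE
  have hP2 : IsPGroup 2 (P : Subgroup G) := P.2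
  have he' := (mem_Om hc hP2).mp he
  have hge : g * e * g⁻¹ ∈ E := by
    rw [hE, mem_Om hc hP2]
    refine ⟨hg, ?_⟩
    rw [conj_pow, he'.2]; group
  obtain ⟨Q, hQ⟩ := exists_sylow_centralizer hc (twoElt_of_sq he'.2)
  set C : Subgroup G := centralizer ({e} : Set G) with hC
  have hEC : E ≤ C := by
    intro f hf
    rw [hC, mem_centralizer_iff]
    intro y hy
    rw [Set.mem_singleton_iff] at hy
    subst hy
    exact Om_comm hc hP2 he hf
  have hE2C : cj g⁻¹ E ≤ C := by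
    intro f hf
    rw [mem_cj, inv_inv] at hf
    rw [hC, mem_centralizer_iff]
    intro y hy
    rw [Set.mem_singleton_iff] at hy
    subst hy
    -- (g f g⁻¹) commutes with g y g⁻¹
    have h1 : (g * y * g⁻¹) * (g * f * g⁻¹) = (g * f * g⁻¹) * (g * y * g⁻¹) :=
      Om_comm hc hP2 hge hf
    have h2 : g⁻¹ * ((g * y * g⁻¹) * (g * f * g⁻¹)) * g = g⁻¹ * ((g * f * g⁻¹) * (g * y * g⁻¹)) * g := by
      rw [h1]
    have e1 : g⁻¹ * ((g * y * g⁻¹) * (g * f * g⁻¹)) * g = y * f := by group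
    have e2 : g⁻¹ * ((g * f * g⁻¹) * (g * y * g⁻¹)) * g = f * y := by group
    rw [e1, e2] at h2
    exact h2
  have hidx : ¬ 2 ∣ (Q : Subgroup G).relIndex C := fun hd =>
    Q.not_dvd_index (hd.trans (relIndex_dvd_index_of_le hQ))
  have hE2 : IsPGroup 2 E := isPGroup_Om hc hP2
  obtain ⟨c₁, hc₁, hle₁⟩ := exists_cj_le_of_relIndex (p := 2) (H := C) (R := (Q : Subgroup G))
    (U := E) Q.2 hidx hEC hE2
  obtain ⟨c₂, hc₂, hle₂⟩ := exists_cj_le_of_relIndex (p := 2) (H := C) (R := (Q : Subgroup G))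
    (U := cj g⁻¹ E) Q.2 hidx hE2C (isPGroup_cj hE2)
  -- Ω₁(Q) has the same order as E
  obtain ⟨h, hh⟩ := MulAction.exists_smul_eq G P Q
  have hQcj : (Q : Subgroup G) = cj h (P : Subgroup G) := by
    rw [← hh]; rfl
  have hOmQ : Om (Q : Subgroup G) = cj h E := by
    rw [hQcj, Om_cj hc hP2]
  have hcard : Nat.card (Om (Q : Subgroup G)) = Nat.card E := by
    rw [hOmQ, card_cj]
  have hsub : ∀ {V : Subgroup G}, V ≤ (Q : Subgroup G) → (∀ v ∈ V, v ^ 2 = 1) →
      V ≤ Om (Q : Subgroup G) := by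
    intro V hV hV2 v hv
    rw [mem_Om hc Q.2]
    exact ⟨hV hv, hV2 v hv⟩
  have hsq : ∀ (c : G), ∀ v ∈ cj c E, v ^ 2 = 1 := by
    intro c v hv
    rw [mem_cj, hE, mem_Om hc hP2] at hv
    have h2 := hv.2
    have e : (c⁻¹ * v * c) ^ 2 = c⁻¹ * v ^ 2 * c := by
      have := conj_pow (a := c⁻¹) (b := v) (i := 2)
      rwa [inv_inv] at this
    rw [e] at h2
    have h3 : c * (c⁻¹ * v ^ 2 * c) * c⁻¹ = c * 1 * c⁻¹ := by rw [h2]
    have e1 : c * (c⁻¹ * v ^ 2 * c) * c⁻¹ = v ^ 2 := by group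
    rw [e1] at h3
    rw [h3]; group
  have heq₁ : cj c₁ E = Om (Q : Subgroup G) :=
    eq_of_le_of_card_ge (hsub hle₁ (hsq c₁)) (by rw [hcard, card_cj])
  have heq₂ : cj (c₂ * g⁻¹) E = Om (Q : Subgroup G) := by
    rw [cj_mul] at *
    exact eq_of_le_of_card_ge (hsub hle₂ (by
      intro v hv
      rw [← cj_mul] at hv
      exact hsq _ v hv)) (by rw [hcard, card_cj, card_cj])
  -- m = c₁⁻¹ c₂ g⁻¹ normalizes E
  have hm : cj (c₁⁻¹ * (c₂ * g⁻¹)) E = E := by
    rw [cj_mul, heq₂, ← heq₁, cj_inv_cj]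
  have hmN : c₁⁻¹ * (c₂ * g⁻¹) ∈ normalizer (E : Set G) := mem_normalizer_of_cj_le hm.le
  refine ⟨(c₁⁻¹ * (c₂ * g⁻¹))⁻¹, inv_mem hmN, ?_⟩
  have hc₁e : c₁ * e = e * c₁ := (mem_centralizer_iff.mp hc₁ e rfl).symm
  have hc₂e : c₂ * e = e * c₂ := (mem_centralizer_iff.mp hc₂ e rfl).symm
  have e1 : c₁ * e * c₁⁻¹ = e := by rw [hc₁e]; group
  have e2 : c₂⁻¹ * e * c₂ = e := by
    have : e * c₂ = c₂ * e := hc₂e.symm
    rw [mul_assoc, this]; group
  calc (c₁⁻¹ * (c₂ * g⁻¹))⁻¹ * e * (c₁⁻¹ * (c₂ * g⁻¹))⁻¹⁻¹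
      = g * (c₂⁻¹ * (c₁ * e * c₁⁻¹) * c₂) * g⁻¹ := by group
    _ = g * e * g⁻¹ := by rw [e1, e2]

/-- If the Sylow `2`-subgroup `T` normalizes `C` then `|C : T ∩ C|` is odd. -/
theorem not_dvd_relIndex_inf_of_le_normalizer (T : Sylow 2 G)
    (C : Subgroup G) (hTC : (T : Subgroup G) ≤ normalizer (C : Set G)) :
    ¬ 2 ∣ ((T : Subgroup G) ⊓ C).relIndex C := by
  set N : Subgroup G := normalizer (C : Set G) with hN
  have hCN : C ≤ N := le_normalizer
  have : (C.subgroupOf N).Normal := normal_in_normalizer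
  have h := Cfsg.Agent.Lib.Helper32_Sylow.not_dvd_relIndex_inf_normal (T.subtype hTC)
    (C.subgroupOf N)
  rw [Sylow.coe_subtype] at h
  have h2 : (T : Subgroup G).subgroupOf N ⊓ C.subgroupOf N =
      ((T : Subgroup G) ⊓ C).subgroupOf N := by
    ext x; simp [mem_subgroupOf]
  rw [h2, relIndex_subgroupOf hCN] at h
  exact h

theorem normalizer_le_normalizer_centralizer' (U : Subgroup G) :
    normalizer (U : Set G) ≤ normalizer ((centralizer (U : Set G) : Subgroup G) : Set G) := by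
  intro g hg
  apply mem_normalizer_fintype
  intro x hx
  rw [SetLike.mem_coe, mem_centralizer_iff] at hx ⊢
  intro u hu
  have hu' : g⁻¹ * u * g ∈ U := by
    have e : g * (g⁻¹ * u * g) * g⁻¹ = u := by group
    exact (mem_normalizer_iff.mp hg (g⁻¹ * u * g)).mpr (by rw [e]; exact hu)
  have h1 := hx _ hu'
  -- (g⁻¹ u g) x = x (g⁻¹ u g)
  have h2 : g * ((g⁻¹ * u * g) * x) * g⁻¹ = g * (x * (g⁻¹ * u * g)) * g⁻¹ := by rw [h1]
  have e1 : g * ((g⁻¹ * u * g) * x) * g⁻¹ = u * (g * x * g⁻¹) := by group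
  have e2 : g * (x * (g⁻¹ * u * g)) * g⁻¹ = (g * x * g⁻¹) * u := by group
  rw [e1, e2] at h2
  exact h2

theorem sylow_le_normalizer_Om (hc : HC G) (P : Sylow 2 G) :
    (P : Subgroup G) ≤ normalizer ((Om (P : Subgroup G) : Subgroup G) : Set G) := by
  intro p hp
  apply mem_normalizer_of_cj_le
  rw [← Om_cj hc P.2, cj_eq_self_of_mem hp]

/-- For an `N_G(E)`-invariant `U' ≤ E = Ω₁(P)`, the centralizer `C_G(U')` inherits `HC`. -/
theorem hcsub_centralizer (hc : HC G) (P : Sylow 2 G) (U' : Subgroup G)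
    (hU'E : U' ≤ Om (P : Subgroup G))
    (hN : normalizer ((Om (P : Subgroup G) : Subgroup G) : Set G) ≤ normalizer (U' : Set G)) :
    HCsub (centralizer (U' : Set G)) := by
  intro v hv hv2
  set L : Subgroup G := centralizer (U' : Set G) with hL
  obtain ⟨Q₀, hQ₀⟩ := exists_sylow_centralizer hc hv2
  have hU'2 : IsPGroup 2 U' := (isPGroup_Om hc P.2).to_le hU'E
  have hU'C : U' ≤ centralizer ({v} : Set G) := by
    intro u hu
    rw [mem_centralizer_iff]
    intro y hy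
    rw [Set.mem_singleton_iff] at hy
    subst hy
    exact (mem_centralizer_iff.mp hv u hu).symm
  have hidx : ¬ 2 ∣ (Q₀ : Subgroup G).relIndex (centralizer ({v} : Set G)) := fun hd =>
    Q₀.not_dvd_index (hd.trans (relIndex_dvd_index_of_le hQ₀))
  obtain ⟨c, hcC, hcle⟩ := exists_cj_le_of_relIndex (p := 2) (H := centralizer ({v} : Set G))
    (R := (Q₀ : Subgroup G)) (U := U') Q₀.2 hidx hU'C hU'2
  let Q : Sylow 2 G := c⁻¹ • Q₀
  have hQcj : (Q : Subgroup G) = cj c⁻¹ (Q₀ : Subgroup G) := rfl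
  have hU'Q : U' ≤ (Q : Subgroup G) := by
    rw [hQcj]; exact cj_le_iff.mp hcle
  have hQC : (Q : Subgroup G) ≤ centralizer ({v} : Set G) := by
    rw [hQcj]; exact cj_le_of_mem hQ₀ (inv_mem hcC)
  obtain ⟨h, hh⟩ := MulAction.exists_smul_eq G Q P
  have hPcj : (P : Subgroup G) = cj h (Q : Subgroup G) := by rw [← hh]; rfl
  have h1 : cj h U' ≤ (P : Subgroup G) := by rw [hPcj]; exact cj_mono hU'Q
  have h2 : cj h U' ≤ U' := by
    intro x hx
    have hx' := mem_cj.mp hx
    have hxu : x = h * (h⁻¹ * x * h) * h⁻¹ := by group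
    have hxP : h * (h⁻¹ * x * h) * h⁻¹ ∈ (P : Subgroup G) := by rw [← hxu]; exact h1 hx
    obtain ⟨n, hn, hne⟩ := fusion_control hc P (hU'E hx') hxP
    rw [hxu, ← hne]
    exact (mem_normalizer_iff.mp (hN hn) _).mp hx'
  have hhN : h ∈ normalizer (U' : Set G) := mem_normalizer_of_cj_le h2
  have hhL : h ∈ normalizer (L : Set G) := normalizer_le_normalizer_centralizer' U' hhN
  have hPL : (P : Subgroup G) ≤ normalizer (L : Set G) :=
    ((sylow_le_normalizer_Om hc P).trans hN).trans (normalizer_le_normalizer_centralizer' U')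
  have hQL : (Q : Subgroup G) ≤ normalizer (L : Set G) := by
    have : (Q : Subgroup G) = cj h⁻¹ (P : Subgroup G) := by rw [hPcj, cj_inv_cj]
    rw [this]; exact cj_le_of_mem hPL (inv_mem hhL)
  have h3 := not_dvd_relIndex_inf_of_le_normalizer Q L hQL
  intro hd
  apply h3
  have h4 : (Q : Subgroup G) ⊓ L ≤ centralizer ({v} : Set G) := inf_le_left.trans hQC
  exact hd.trans (relIndex_dvd_of_le_left L h4)

/-- `HC` passes to normal subgroups. -/
theorem hcsub_of_normal (hc : HC G) (K : Subgroup G) [K.Normal] : HCsub K := by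
  intro v _ hv2 hd
  apply hc v hv2
  have h1 := Cfsg.Agent.Lib.Helper32_Sylow.relIndex_inf_of_normal
    (centralizer ({v} : Set G)) K
  rw [inf_relIndex_right] at h1
  rw [h1] at hd
  exact hd.trans (relIndex_dvd_index_of_le le_sup_left)

/-- `HC` passes to quotients. -/
theorem hc_quotient (hc : HC G) (K : Subgroup G) [K.Normal] : HC (G ⧸ K) := by
  intro xbar hx hd
  set π : G →* G ⧸ K := QuotientGroup.mk' K with hπ
  have hπs : Function.Surjective π := QuotientGroup.mk'_surjective K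
  obtain ⟨Pbar, hPbar⟩ := (isPGroup_zpowers hx).exists_le_sylow
  obtain ⟨P, hP⟩ := Sylow.mapSurjective_surjective hπs 2 Pbar
  have hmem : xbar ∈ (P : Subgroup G).map π := by
    rw [← Sylow.coe_mapSurjective hπs P, hP]
    exact hPbar (mem_zpowers xbar)
  obtain ⟨x, hxP, rfl⟩ := hmem
  have hx2 : TwoElt x := twoElt_of_mem P.2 hxP
  apply hc x hx2
  have hle : (centralizer ({x} : Set G)).map π ≤ centralizer ({π x} : Set (G ⧸ K)) := by
    rintro _ ⟨c, hc', rfl⟩
    rw [mem_centralizer_iff]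
    intro y hy
    rw [Set.mem_singleton_iff] at hy
    subst hy
    have := mem_centralizer_iff.mp hc' x rfl
    rw [← map_mul, ← map_mul, this]
  exact (hd.trans (index_dvd_of_le hle)).trans (index_map_dvd _ hπs)

/-- Every 2-element is conjugate to an element of `Z(P)`. -/
theorem exists_conj_central (hc : HC G) (P : Sylow 2 G) {x : G} (hx : TwoElt x) :
    ∃ g : G, g * x * g⁻¹ ∈ (P : Subgroup G) ∧
      ∀ p ∈ (P : Subgroup G), p * (g * x * g⁻¹) = (g * x * g⁻¹) * p := by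
  obtain ⟨Q, hQ⟩ := exists_sylow_centralizer hc hx
  have hxQ : x ∈ Q := mem_sylow_of_centralizes Q hx hQ
  obtain ⟨h, hh⟩ := MulAction.exists_smul_eq G Q P
  have hPcj : (P : Subgroup G) = cj h (Q : Subgroup G) := by rw [← hh]; rfl
  refine ⟨h, ?_, ?_⟩
  · rw [hPcj]; exact conj_mem_cj hxQ
  · intro p hp
    rw [hPcj, mem_cj] at hp
    have h1 : x * (h⁻¹ * p * h) = (h⁻¹ * p * h) * x := mem_centralizer_iff.mp (hQ hp) x rfl
    have h2 : h * ((h⁻¹ * p * h) * x) * h⁻¹ = h * (x * (h⁻¹ * p * h)) * h⁻¹ := by rw [h1]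
    have e1 : h * ((h⁻¹ * p * h) * x) * h⁻¹ = p * (h * x * h⁻¹) := by group
    have e2 : h * (x * (h⁻¹ * p * h)) * h⁻¹ = (h * x * h⁻¹) * p := by group
    rw [e1, e2] at h2
    exact h2

/-- Case A: a proper nontrivial normal subgroup `K` with `K` and `G/K` having abelian
2-subgroups. -/
theorem sylow_comm_of_normal (hc : HC G) (K : Subgroup G) [K.Normal] (hK : AllAb ↥K)
    (hQ : AllAb (G ⧸ K)) (P : Sylow 2 G) :
    ∀ a ∈ (P : Subgroup G), ∀ b ∈ (P : Subgroup G), a * b = b * a := by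
  set π : G →* G ⧸ K := QuotientGroup.mk' K with hπ
  have hker : ∀ x : G, π x = 1 ↔ x ∈ K := fun x => QuotientGroup.eq_one_iff x
  have hPbar : ∀ a ∈ (P : Subgroup G), ∀ b ∈ (P : Subgroup G), π a * π b = π b * π a := by
    intro a ha b hb
    exact hQ ((P : Subgroup G).map π) (P.2.map π) _ (mem_map_of_mem π ha) _ (mem_map_of_mem π hb)
  have hPK : ∀ a ∈ (P : Subgroup G) ⊓ K, ∀ b ∈ (P : Subgroup G) ⊓ K, a * b = b * a :=
    allAb_sub hK inf_le_right (P.2.to_le inf_le_left)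
  -- decomposition
  have hdec : ∀ x ∈ (P : Subgroup G), ∃ z κ : G, z ∈ (P : Subgroup G) ∧
      (∀ p ∈ (P : Subgroup G), p * z = z * p) ∧ κ ∈ (P : Subgroup G) ⊓ K ∧ x = z * κ := by
    intro x hxP
    obtain ⟨g, hgP, hgc⟩ := exists_conj_central hc P (twoElt_of_mem P.2 hxP)
    set z₀ : G := g * x * g⁻¹ with hz₀
    set D : Subgroup G := (centralizer ({π z₀} : Set (G ⧸ K))).comap π with hD
    have hPD : (P : Subgroup G) ≤ D := by
      intro p hp
      rw [hD, mem_comap, mem_centralizer_iff]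
      intro y hy
      rw [Set.mem_singleton_iff] at hy
      subst hy
      rw [← map_mul, ← map_mul, hgc p hp]
    have hgPD : cj g (P : Subgroup G) ≤ D := by
      intro y hy
      rw [mem_cj] at hy
      rw [hD, mem_comap, mem_centralizer_iff]
      intro w hw
      rw [Set.mem_singleton_iff] at hw
      subst hw
      have h1 := hPbar x hxP _ hy
      -- π z₀ * π y = π y * π z₀
      have e1 : π z₀ = π g * π x * (π g)⁻¹ := by rw [hz₀]; simp
      have e2 : π y = π g * π (g⁻¹ * y * g) * (π g)⁻¹ := by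
        simp only [map_mul, map_inv]; group
      rw [e1, e2]
      have : π g * π x * (π g)⁻¹ * (π g * π (g⁻¹ * y * g) * (π g)⁻¹) =
          π g * (π x * π (g⁻¹ * y * g)) * (π g)⁻¹ := by group
      rw [this, h1]; group
    have hidx : ¬ 2 ∣ (P : Subgroup G).relIndex D := fun hd =>
      P.not_dvd_index (hd.trans (relIndex_dvd_index_of_le hPD))
    obtain ⟨d, hdD, hdle⟩ := exists_cj_le_of_relIndex (p := 2) (H := D) (R := (P : Subgroup G))
      (U := cj g (P : Subgroup G)) P.2 hidx hgPD (isPGroup_cj P.2)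
    rw [← cj_mul] at hdle
    have hnN : d * g ∈ normalizer ((P : Subgroup G) : Set G) := mem_normalizer_of_cj_le hdle
    set n : G := d * g with hn
    have hnx : n * x * n⁻¹ = d * z₀ * d⁻¹ := by rw [hn, hz₀]; group
    have hnxP : n * x * n⁻¹ ∈ (P : Subgroup G) := (mem_normalizer_iff.mp hnN x).mp hxP
    set κ : G := z₀⁻¹ * (d * z₀ * d⁻¹) with hκ
    have hκK : κ ∈ K := by
      rw [← hker, hκ]
      have h1 : π z₀ * π d = π d * π z₀ := by
        have := hdD
        rw [hD, mem_comap, mem_centralizer_iff] at this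
        exact this _ rfl
      simp only [map_mul, map_inv]
      rw [← h1]; group
    have hκP : κ ∈ (P : Subgroup G) := by
      rw [hκ, ← hnx]
      exact mul_mem (inv_mem hgP) hnxP
    have hninv : n⁻¹ ∈ normalizer ((P : Subgroup G) : Set G) := inv_mem hnN
    refine ⟨n⁻¹ * z₀ * n, n⁻¹ * κ * n, ?_, ?_, ⟨?_, ?_⟩, ?_⟩
    · have := (mem_normalizer_iff.mp hninv z₀).mp hgP
      rw [inv_inv] at this
      exact this
    · intro p hp
      have hp' : n * p * n⁻¹ ∈ (P : Subgroup G) := (mem_normalizer_iff.mp hnN p).mp hp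
      have h1 := hgc _ hp'
      have h2 : n⁻¹ * ((n * p * n⁻¹) * z₀) * n = n⁻¹ * (z₀ * (n * p * n⁻¹)) * n := by rw [h1]
      have e1 : n⁻¹ * ((n * p * n⁻¹) * z₀) * n = p * (n⁻¹ * z₀ * n) := by group
      have e2 : n⁻¹ * (z₀ * (n * p * n⁻¹)) * n = (n⁻¹ * z₀ * n) * p := by group
      rw [e1, e2] at h2
      exact h2
    · have := (mem_normalizer_iff.mp hninv κ).mp hκP
      rw [inv_inv] at this
      exact this
    · have : n⁻¹ * κ * n = n⁻¹ * κ * n⁻¹⁻¹ := by rw [inv_inv]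
      rw [this]
      exact Subgroup.Normal.conj_mem inferInstance κ hκK n⁻¹
    · have h1 : n * x * n⁻¹ = z₀ * κ := by rw [hnx, hκ]; group
      have h2 : x = n⁻¹ * (n * x * n⁻¹) * n := by group
      rw [h2, h1]; group
  intro a ha b hb
  obtain ⟨z₁, κ₁, hz₁P, hz₁c, hκ₁, rfl⟩ := hdec a ha
  obtain ⟨z₂, κ₂, hz₂P, hz₂c, hκ₂, rfl⟩ := hdec b hb
  have h1 : κ₁ * z₂ = z₂ * κ₁ := hz₂c κ₁ hκ₁.1
  have h2 : κ₂ * z₁ = z₁ * κ₂ := hz₁c κ₂ hκ₂.1
  have h3 : z₂ * z₁ = z₁ * z₂ := hz₁c z₂ hz₂P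
  have h4 : κ₁ * κ₂ = κ₂ * κ₁ := hPK κ₁ hκ₁ κ₂ hκ₂
  calc z₁ * κ₁ * (z₂ * κ₂) = z₁ * (κ₁ * z₂) * κ₂ := by group
    _ = z₁ * (z₂ * κ₁) * κ₂ := by rw [h1]
    _ = (z₁ * z₂) * (κ₁ * κ₂) := by group
    _ = (z₂ * z₁) * (κ₂ * κ₁) := by rw [h3, h4]
    _ = z₂ * (z₁ * κ₂) * κ₁ := by group
    _ = z₂ * (κ₂ * z₁) * κ₁ := by rw [h2]
    _ = z₂ * κ₂ * (z₁ * κ₁) := by group

/-- The subgroup of `m`-th powers of an abelian subgroup. -/
def powSub (A : Subgroup G) (hA : ∀ a ∈ A, ∀ b ∈ A, a * b = b * a) (m : ℕ) : Subgroup G where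
  carrier := {u | ∃ a ∈ A, a ^ m = u}
  mul_mem' := by
    rintro _ _ ⟨a, ha, rfl⟩ ⟨b, hb, rfl⟩
    exact ⟨a * b, A.mul_mem ha hb, (show Commute a b from hA a ha b hb).mul_pow m⟩
  one_mem' := ⟨1, A.one_mem, one_pow m⟩
  inv_mem' := by
    rintro _ ⟨a, ha, rfl⟩
    exact ⟨a⁻¹, A.inv_mem ha, inv_pow a m⟩

theorem mem_powSub {A : Subgroup G} {hA : ∀ a ∈ A, ∀ b ∈ A, a * b = b * a} {m : ℕ} {u : G} :
    u ∈ powSub A hA m ↔ ∃ a ∈ A, a ^ m = u := Iff.rfl

/-- Case B: trivial center and the induction hypothesis for proper subgroups. -/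
theorem sylow_comm_of_simple (hc : HC G)
    (ih : ∀ L : Subgroup G, L ≠ ⊤ → HCsub L → AllAb ↥L)
    (hZ : center G = ⊥) (P : Sylow 2 G) :
    ∀ a ∈ (P : Subgroup G), ∀ b ∈ (P : Subgroup G), a * b = b * a := by
  have hP2 : IsPGroup 2 (P : Subgroup G) := P.2
  set E : Subgroup G := Om (P : Subgroup G) with hE
  set N : Subgroup G := normalizer (E : Set G) with hN
  have hEP : E ≤ (P : Subgroup G) := Om_le hc hP2
  have hPN : (P : Subgroup G) ≤ N := sylow_le_normalizer_Om hc P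
  -- the key consequence of the induction hypothesis
  have hcomm : ∀ U' : Subgroup G, U' ≤ E → N ≤ normalizer (U' : Set G) → U' ≠ ⊥ →
      ∀ a ∈ (P : Subgroup G) ⊓ centralizer (U' : Set G),
      ∀ b ∈ (P : Subgroup G) ⊓ centralizer (U' : Set G), a * b = b * a := by
    intro U' hU'E hU'N hU'bot
    have hL : centralizer (U' : Set G) ≠ ⊤ := by
      intro htop
      rw [centralizer_eq_top_iff_subset] at htop
      apply hU'bot
      rw [eq_bot_iff]
      intro u hu
      have : u ∈ center G := htop hu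
      rwa [hZ] at this
    have h1 : AllAb ↥(centralizer (U' : Set G)) :=
      ih _ hL (hcsub_centralizer hc P U' hU'E hU'N)
    exact allAb_sub h1 inf_le_right (hP2.to_le inf_le_left)
  -- exponent
  have hex : ∃ k : ℕ, ∀ x ∈ (P : Subgroup G), x ^ 2 ^ k = 1 := by
    obtain ⟨k, hk⟩ := IsPGroup.iff_card.mp hP2
    refine ⟨k, fun x hx => ?_⟩
    rw [← hk]
    exact orderOf_dvd_iff_pow_eq_one.mp ((P : Subgroup G).orderOf_dvd_natCard hx)
  classical
  set k : ℕ := Nat.find hex with hk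
  have hkP : ∀ x ∈ (P : Subgroup G), x ^ 2 ^ k = 1 := Nat.find_spec hex
  by_cases hk0 : k = 0
  · -- P is trivial
    intro a ha b hb
    have h1 := hkP a ha
    have h2 := hkP b hb
    rw [hk0, pow_zero, pow_one] at h1 h2
    rw [h1, h2]
  obtain ⟨k', hk'⟩ : ∃ k', k = k' + 1 := ⟨k - 1, by omega⟩
  have hmin : ¬ ∀ x ∈ (P : Subgroup G), x ^ 2 ^ k' = 1 := Nat.find_min hex (by omega)
  push Not at hmin
  obtain ⟨x₀, hx₀P, hx₀⟩ := hmin
  set m : ℕ := 2 ^ k' with hm
  have h2m : 2 ^ k = 2 * m := by rw [hk', pow_succ, hm]; ring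
  -- a central conjugate of x₀
  obtain ⟨g, hgP, hgc⟩ := exists_conj_central hc P (twoElt_of_mem hP2 hx₀P)
  set z : G := g * x₀ * g⁻¹ with hz
  have hzm : z ^ m ≠ 1 := by
    rw [hz, conj_pow]
    intro h
    apply hx₀
    have h3 : g⁻¹ * (g * x₀ ^ m * g⁻¹) * g = g⁻¹ * 1 * g := by rw [h]
    have e1 : g⁻¹ * (g * x₀ ^ m * g⁻¹) * g = x₀ ^ m := by group
    rw [e1] at h3
    rw [h3]; group
  have hzm2 : (z ^ m) ^ 2 = 1 := by
    rw [← pow_mul, mul_comm, ← h2m]; exact hkP z hgP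
  have hEbot : E ≠ ⊥ := by
    intro h
    have : z ^ m ∈ E := by
      rw [hE, mem_Om hc hP2]
      exact ⟨pow_mem hgP m, hzm2⟩
    rw [h, mem_bot] at this
    exact hzm this
  -- A = C_P(E) is abelian
  set CE : Subgroup G := centralizer (E : Set G) with hCE
  set A : Subgroup G := (P : Subgroup G) ⊓ CE with hA
  have hAcomm : ∀ a ∈ A, ∀ b ∈ A, a * b = b * a := hcomm E le_rfl le_rfl hEbot
  have hzA : z ∈ A := by
    refine mem_inf.mpr ⟨hgP, ?_⟩
    rw [hCE, mem_centralizer_iff]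
    intro e he
    exact hgc e (hEP he)
  have hEA : E ≤ A := by
    intro e he
    refine mem_inf.mpr ⟨hEP he, ?_⟩
    rw [hCE, mem_centralizer_iff]
    intro f hf
    exact Om_comm hc hP2 hf he
  have hNCE : N ≤ normalizer (CE : Set G) := normalizer_le_normalizer_centralizer' E
  -- U = m-th powers of A
  set U : Subgroup G := powSub A hAcomm m with hU
  have hUE : U ≤ E := by
    rintro u ⟨a, ha, rfl⟩
    rw [hE, mem_Om hc hP2]
    refine ⟨pow_mem ha.1 m, ?_⟩
    rw [← pow_mul, mul_comm, ← h2m]; exact hkP a ha.1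
  have hUbot : U ≠ ⊥ := by
    intro h
    have : z ^ m ∈ U := ⟨z, hzA, rfl⟩
    rw [h, mem_bot] at this
    exact hzm this
  have hA2 : IsPGroup 2 A := hP2.to_le inf_le_left
  have hAidx : ¬ 2 ∣ A.relIndex CE :=
    not_dvd_relIndex_inf_of_le_normalizer P CE (hPN.trans hNCE)
  have hUN : N ≤ normalizer (U : Set G) := by
    intro n hn
    apply mem_normalizer_fintype
    rintro u ⟨a, ha, rfl⟩
    have hnaCE : n * a * n⁻¹ ∈ CE := (mem_normalizer_iff.mp (hNCE hn) a).mp ha.2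
    have hna2 : TwoElt (n * a * n⁻¹) := twoElt_conj (twoElt_of_mem hP2 ha.1) n
    obtain ⟨c, hcCE, hcle⟩ := exists_cj_le_of_relIndex (p := 2) (H := CE) (R := A)
      (U := zpowers (n * a * n⁻¹)) hA2 hAidx (by rw [zpowers_le]; exact hnaCE)
      (isPGroup_zpowers hna2)
    have ha' : c * (n * a * n⁻¹) * c⁻¹ ∈ A := hcle (conj_mem_cj (mem_zpowers _))
    refine ⟨c * (n * a * n⁻¹) * c⁻¹, ha', ?_⟩
    rw [conj_pow, conj_pow]
    -- n a^m n⁻¹ ∈ E is centralized by c
    have huE : a ^ m ∈ E := hUE ⟨a, ha, rfl⟩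
    have hnuE : n * a ^ m * n⁻¹ ∈ E := (mem_normalizer_iff.mp hn (a ^ m)).mp huE
    have h1 : (n * a ^ m * n⁻¹) * c = c * (n * a ^ m * n⁻¹) :=
      mem_centralizer_iff.mp hcCE _ hnuE
    rw [← h1]; group
  have hcommU := hcomm U hUE hUN hUbot
  have hACU : A ≤ centralizer (U : Set G) := by
    intro a ha
    rw [mem_centralizer_iff]
    intro u hu
    exact mem_centralizer_iff.mp ha.2 u (hUE hu)
  -- Step 8: y ∈ P with y² ∈ A lies in A
  have hstep : ∀ y ∈ (P : Subgroup G), y ^ 2 ∈ A → y ∈ A := by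
    intro y hy hy2
    have hyN : y ∈ N := hPN hy
    have hyCU : y ∈ centralizer (U : Set G) := by
      rw [mem_centralizer_iff]
      rintro u ⟨a, ha, rfl⟩
      -- b = y a y⁻¹ ∈ A
      have hb : y * a * y⁻¹ ∈ A := by
        refine mem_inf.mpr ⟨mul_mem (mul_mem hy ha.1) (inv_mem hy), ?_⟩
        exact (mem_normalizer_iff.mp (hNCE hyN) a).mp ha.2
      have e1 : (a * y) ^ 2 = a * (y * a * y⁻¹) * y ^ 2 := by
        rw [pow_two, pow_two]; group
      have h1 : (a * y) ^ (2 ^ k) = 1 := hkP _ (mul_mem ha.1 hy)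
      rw [h2m, pow_mul, e1] at h1
      have c1 : Commute a (y * a * y⁻¹) := hAcomm a ha _ hb
      have c2 : Commute (a * (y * a * y⁻¹)) (y ^ 2) := hAcomm _ (mul_mem ha hb) _ hy2
      rw [c2.mul_pow, c1.mul_pow, ← pow_mul, ← h2m, hkP y hy, mul_one, conj_pow] at h1
      -- a^m * (y a^m y⁻¹) = 1
      have h2 : (a ^ m) ^ 2 = 1 := by
        rw [← pow_mul, mul_comm, ← h2m]; exact hkP a ha.1
      have h3 : y * a ^ m * y⁻¹ = a ^ m := by
        have h4 : y * a ^ m * y⁻¹ = (a ^ m)⁻¹ := by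
          rw [eq_inv_iff_mul_eq_one]
          -- (y a^m y⁻¹) * a^m = 1
          have := c1.pow_pow m m
          rw [conj_pow] at this
          rw [← this.eq]; exact h1
        rw [h4, inv_eq_iff_mul_eq_one, ← pow_two, h2]
      -- a^m * y = y * a^m
      have h5 : y * a ^ m = a ^ m * y := by
        have : y * a ^ m * y⁻¹ * y = a ^ m * y := by rw [h3]
        simpa [mul_assoc] using this
      exact h5.symm
    refine mem_inf.mpr ⟨hy, ?_⟩
    rw [hCE, mem_centralizer_iff]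
    intro e he
    have h1 : e ∈ (P : Subgroup G) ⊓ centralizer (U : Set G) :=
      mem_inf.mpr ⟨hEP he, hACU (hEA he)⟩
    exact hcommU e h1 y (mem_inf.mpr ⟨hy, hyCU⟩)
  -- P ≤ A
  have hall : ∀ j : ℕ, ∀ x ∈ (P : Subgroup G), x ^ 2 ^ j ∈ A → x ∈ A := by
    intro j
    induction j with
    | zero => intro x _ h; simpa using h
    | succ j ihj =>
      intro x hx h
      apply hstep x hx
      apply ihj (x ^ 2) (pow_mem hx 2)
      rw [← pow_mul, ← pow_succ']
      exact h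
  have hPA : (P : Subgroup G) ≤ A := by
    intro x hx
    apply hall k x hx
    rw [hkP x hx]; exact A.one_mem
  intro a ha b hb
  exact hAcomm a (hPA ha) b (hPA hb)

end Basic

/-- Camina–Herzog, hard direction: if every 2-element has odd class size then all 2-subgroups are
abelian. -/
theorem main : ∀ n : ℕ, ∀ (G : Type u) [Group G] [Finite G], Nat.card G ≤ n → HC G → AllAb G := by
  intro n
  induction n with
  | zero =>
    intro G _ _ hcard
    exfalso
    have := Nat.card_pos (α := G)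
    omega
  | succ n ih =>
    intro G _ _ hcard hc R hR a ha b hb
    obtain ⟨P, hRP⟩ := hR.exists_le_sylow
    suffices h : ∀ a ∈ (P : Subgroup G), ∀ b ∈ (P : Subgroup G), a * b = b * a from
      h a (hRP ha) b (hRP hb)
    have ihsub : ∀ L : Subgroup G, L ≠ ⊤ → HCsub L → AllAb ↥L := by
      intro L hL h
      apply ih ↥L _ (hc_subtype h)
      have h1 : Nat.card L ≤ Nat.card G := Subgroup.card_le_card_group L
      have h2 : Nat.card L ≠ Nat.card G := fun he => hL ((Subgroup.card_eq_iff_eq_top L).mp he)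
      omega
    by_cases hex : ∃ K : Subgroup G, K.Normal ∧ K ≠ ⊥ ∧ K ≠ ⊤
    · obtain ⟨K, hKn, hKb, hKt⟩ := hex
      have h1 : AllAb ↥K := ihsub K hKt (hcsub_of_normal hc K)
      have h2 : AllAb (G ⧸ K) := by
        apply ih (G ⧸ K) _ (hc_quotient hc K)
        have h3 := Subgroup.card_eq_card_quotient_mul_card_subgroup K
        have h4 : 1 < Nat.card K := (Subgroup.one_lt_card_iff_ne_bot K).mpr hKb
        have h5 : 0 < Nat.card (G ⧸ K) := Nat.card_pos
        nlinarith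
      exact sylow_comm_of_normal hc K h1 h2 P
    · push Not at hex
      by_cases hZ : center G = ⊤
      · intro a _ b _
        have : a ∈ center G := by rw [hZ]; trivial
        exact (Subgroup.mem_center_iff.mp this b).symm
      · have hZ' : center G = ⊥ := by
          by_contra h
          exact hZ (hex (center G) inferInstance h)
        exact sylow_comm_of_simple hc ihsub hZ' P

/-- The statement of S4194. -/
theorem camina_herzog {G : Type u} [Group G] [Finite G] (P : Sylow 2 G) :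
    IsMulCommutative (P : Subgroup G) ↔
      ∀ x : G, (∃ k : ℕ, orderOf x = 2 ^ k) →
        (∃ Q : Sylow 2 G, (Q : Subgroup G) ≤ centralizer ({x} : Set G)) := by
  constructor
  · intro hP x hx
    obtain ⟨Q, hQ⟩ := (isPGroup_zpowers hx).exists_le_sylow
    refine ⟨Q, ?_⟩
    obtain ⟨h, hh⟩ := MulAction.exists_smul_eq G P Q
    have hQcj : (Q : Subgroup G) = cj h (P : Subgroup G) := by rw [← hh]; rfl
    have hxQ : x ∈ (Q : Subgroup G) := hQ (mem_zpowers x)
    intro q hq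
    rw [mem_centralizer_iff]
    intro y hy
    rw [Set.mem_singleton_iff] at hy
    subst hy
    rw [hQcj, mem_cj] at hq hxQ
    have h1 : (⟨h⁻¹ * y * h, hxQ⟩ : (P : Subgroup G)) * ⟨h⁻¹ * q * h, hq⟩ =
        ⟨h⁻¹ * q * h, hq⟩ * ⟨h⁻¹ * y * h, hxQ⟩ := mul_comm' _ _
    have h2 : (h⁻¹ * y * h) * (h⁻¹ * q * h) = (h⁻¹ * q * h) * (h⁻¹ * y * h) :=
      congrArg Subtype.val h1
    have h3 : h * ((h⁻¹ * y * h) * (h⁻¹ * q * h)) * h⁻¹ =
        h * ((h⁻¹ * q * h) * (h⁻¹ * y * h)) * h⁻¹ := by rw [h2]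
    have e1 : h * ((h⁻¹ * y * h) * (h⁻¹ * q * h)) * h⁻¹ = y * q := by group
    have e2 : h * ((h⁻¹ * q * h) * (h⁻¹ * y * h)) * h⁻¹ = q * y := by group
    rw [e1, e2] at h3
    exact h3
  · intro h
    have hc : HC G := hc_of_sylow h
    have hab := main (Nat.card G) G le_rfl hc (P : Subgroup G) P.2
    exact ⟨⟨fun a b => Subtype.ext (hab a.1 a.2 b.1 b.2)⟩⟩

end Cfsg.Agent.Helper95CH
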