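import Mathlib

set_option autoImplicit false

/-!
# The Schroedinger model of the extraspecial group `2^{1+2n}_+`

`I n = (ZMod 2)^n`, `V n = I n × I n` with the quadratic form `q₀ (a, b) = a ⬝ᵥ b`.  The operators
`op (a, b) : f ↦ (w ↦ (-1)^{a ⬝ᵥ (w + b)} f (w + b))` on real functions on `I n` satisfy
`op u * op v = (-1)^{bet u v} op (u + v)` and form a basis of `End ℝ (I n → ℝ)`.
-/

namespace Cfsg.Agent.Lib.Helper95_ExtraOps

open Matrix

/-- the index set `(ZMod 2)^n` -/
abbrev I (n : ℕ) := Fin n → ZMod 2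

/-- the standard hyperbolic space `(ZMod 2)^n × (ZMod 2)^n` -/
abbrev V (n : ℕ) := I n × I n

/-- the sign `(-1)^t` -/
noncomputable def sg (t : ZMod 2) : ℝ := if t = 0 then 1 else -1

theorem zmod2_cases (t : ZMod 2) : t = 0 ∨ t = 1 := by
  fin_cases t
  · left; rfl
  · right; rfl

@[simp] theorem sg_zero : sg 0 = 1 := by simp [sg]
@[simp] theorem sg_one : sg 1 = -1 := by simp [sg]

theorem sg_add (s t : ZMod 2) : sg (s + t) = sg s * sg t := by
  rcases zmod2_cases s with rfl | rfl <;> rcases zmod2_cases t with rfl | rfl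
  · simp
  · simp
  · simp
  · have : (1 : ZMod 2) + 1 = 0 := by decide
    rw [this]; simp

theorem sg_mul_self (t : ZMod 2) : sg t * sg t = 1 := by
  rcases zmod2_cases t with rfl | rfl <;> simp

theorem sg_ne_zero (t : ZMod 2) : sg t ≠ 0 := by
  rcases zmod2_cases t with rfl | rfl <;> simp

theorem sg_eq_or (t : ZMod 2) : sg t = 1 ∨ sg t = -1 := by
  rcases zmod2_cases t with rfl | rfl <;> simp

theorem sg_injective : Function.Injective sg := by
  intro s t h
  rcases zmod2_cases s with rfl | rfl <;> rcases zmod2_cases t with rfl | rfl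
  · rfl
  · simp at h; norm_num at h
  · simp at h; norm_num at h
  · rfl

theorem sg_eq_one_iff (t : ZMod 2) : sg t = 1 ↔ t = 0 := by
  constructor
  · intro h
    exact sg_injective (by rw [h, sg_zero])
  · rintro rfl; simp

theorem add_self_zmod2 (t : ZMod 2) : t + t = 0 := CharTwo.add_self_eq_zero t

theorem add_self_I {n : ℕ} (w : I n) : w + w = 0 := by
  ext i; exact add_self_zmod2 (w i)

theorem add_self_V {n : ℕ} (u : V n) : u + u = 0 := by
  ext i
  · exact add_self_zmod2 (u.1 i)
  · exact add_self_zmod2 (u.2 i)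

theorem neg_eq_self_zmod2 (t : ZMod 2) : -t = t := by
  rcases zmod2_cases t with rfl | rfl
  · simp
  · decide

section ops
variable {n : ℕ}

/-- the bilinear form whose diagonal is `q₀` -/
def bet (u v : V n) : ZMod 2 := u.1 ⬝ᵥ v.2

theorem bet_add_left (u u' v : V n) : bet (u + u') v = bet u v + bet u' v := by
  simp [bet, add_dotProduct]

theorem bet_add_right (u v v' : V n) : bet u (v + v') = bet u v + bet u v' := by
  simp [bet, dotProduct_add]

@[simp] theorem bet_zero_left (v : V n) : bet 0 v = 0 := by simp [bet]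
@[simp] theorem bet_zero_right (v : V n) : bet v 0 = 0 := by simp [bet]

/-- the operator `T_b S_a` attached to `u = (a, b)` -/
noncomputable def op (u : V n) : Module.End ℝ (I n → ℝ) where
  toFun f := fun w => sg (u.1 ⬝ᵥ (w + u.2)) * f (w + u.2)
  map_add' f g := by
    funext w
    simp [mul_add]
  map_smul' c f := by
    funext w
    simp only [Pi.smul_apply, smul_eq_mul, RingHom.id_apply]
    ring

theorem op_apply (u : V n) (f : I n → ℝ) (w : I n) :
    op u f w = sg (u.1 ⬝ᵥ (w + u.2)) * f (w + u.2) := rfl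

theorem op_mul (u v : V n) : op u * op v = sg (bet u v) • op (u + v) := by
  apply LinearMap.ext
  intro f
  funext w
  simp only [Module.End.mul_apply, op_apply, LinearMap.smul_apply, Pi.smul_apply, smul_eq_mul,
    Prod.fst_add, Prod.snd_add, bet]
  have h1 : w + u.2 + v.2 = w + (u.2 + v.2) := by abel
  rw [h1]
  have h2 : (u.1 + v.1) ⬝ᵥ (w + (u.2 + v.2)) =
      u.1 ⬝ᵥ v.2 + u.1 ⬝ᵥ (w + u.2) + v.1 ⬝ᵥ (w + (u.2 + v.2)) := by
    simp only [add_dotProduct, dotProduct_add]
    abel
  rw [h2, sg_add, sg_add]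
  have h3 := sg_mul_self (u.1 ⬝ᵥ v.2)
  linear_combination (-(sg (u.1 ⬝ᵥ (w + u.2)) * sg (v.1 ⬝ᵥ (w + (u.2 + v.2))) *
    f (w + (u.2 + v.2)))) * h3

theorem op_zero : op (0 : V n) = 1 := by
  apply LinearMap.ext
  intro f
  funext w
  simp [op_apply]

theorem op_mul_self (u : V n) : op u * op u = sg (bet u u) • (1 : Module.End ℝ (I n → ℝ)) := by
  rw [op_mul, add_self_V, op_zero]

theorem op_comm (u v : V n) : op u * op v = sg (bet u v + bet v u) • (op v * op u) := by
  rw [op_mul, op_mul, smul_smul, sg_add, add_comm v u, mul_assoc, sg_mul_self, mul_one]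

/-- the inverse of `op u` is `± op u` -/
theorem op_mul_op_smul (u : V n) : op u * (sg (bet u u) • op u) = 1 := by
  rw [mul_smul_comm, op_mul_self, smul_smul, sg_mul_self, one_smul]

theorem op_smul_mul_op (u : V n) : (sg (bet u u) • op u) * op u = 1 := by
  rw [smul_mul_assoc, op_mul_self, smul_smul, sg_mul_self, one_smul]

/-- `op u` as a unit -/
noncomputable def opU (u : V n) : (Module.End ℝ (I n → ℝ))ˣ :=
  ⟨op u, sg (bet u u) • op u, op_mul_op_smul u, op_smul_mul_op u⟩

@[simp] theorem opU_val (u : V n) : ((opU u : (Module.End ℝ (I n → ℝ))ˣ) : Module.End ℝ (I n → ℝ)) = op u := rfl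

/-- character sum over `(ZMod 2)^n` -/
theorem sum_sg_dot {a : I n} (ha : a ≠ 0) : ∑ z : I n, sg (a ⬝ᵥ z) = 0 := by
  obtain ⟨i, hi⟩ : ∃ i, a i ≠ 0 := by
    by_contra hcon
    push Not at hcon
    exact ha (funext hcon)
  have hi1 : a i = 1 := (zmod2_cases (a i)).resolve_left hi
  have h1 : ∑ z : I n, sg (a ⬝ᵥ z) = ∑ z : I n, sg (a ⬝ᵥ (z + Pi.single i 1)) :=
    (Equiv.sum_comp (Equiv.addRight (Pi.single i (1 : ZMod 2) : I n)) fun z => sg (a ⬝ᵥ z)).symm
  have h2 : ∑ z : I n, sg (a ⬝ᵥ (z + Pi.single i 1)) = -∑ z : I n, sg (a ⬝ᵥ z) := by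
    rw [← Finset.sum_neg_distrib]
    apply Finset.sum_congr rfl
    intro z _
    rw [dotProduct_add, dotProduct_single, hi1, sg_add]
    simp
  linarith

theorem sum_sg_dot_mul (a a' : I n) :
    ∑ z : I n, sg (a ⬝ᵥ z) * sg (a' ⬝ᵥ z) = if a = a' then (2 : ℝ) ^ n else 0 := by
  have h1 : ∀ z : I n, sg (a ⬝ᵥ z) * sg (a' ⬝ᵥ z) = sg ((a + a') ⬝ᵥ z) := by
    intro z
    rw [add_dotProduct, sg_add]
  simp_rw [h1]
  split_ifs with h
  · subst h
    rw [add_self_I]
    simp
  · apply sum_sg_dot
    intro h0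
    apply h
    have : a + a' + a' = 0 + a' := by rw [h0]
    rwa [add_assoc, add_self_I, add_zero, zero_add] at this

theorem op_linearIndependent : LinearIndependent ℝ (op : V n → Module.End ℝ (I n → ℝ)) := by
  rw [Fintype.linearIndependent_iff]
  intro c h
  have key : ∀ (z b : I n), ∑ a : I n, c (a, b) * sg (a ⬝ᵥ z) = 0 := by
    intro z b
    have h1 := congrFun (LinearMap.congr_fun h (Pi.single z 1)) (z + b)
    simp only [LinearMap.sum_apply, LinearMap.smul_apply, Finset.sum_apply, Pi.smul_apply,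
      smul_eq_mul, op_apply, LinearMap.zero_apply, Pi.zero_apply] at h1
    rw [Fintype.sum_prod_type] at h1
    rw [← h1]
    apply Finset.sum_congr rfl
    intro a _
    rw [Finset.sum_eq_single b]
    · have : z + b + b = z := by rw [add_assoc, add_self_I, add_zero]
      simp [this]
    · intro b' _ hb'
      have : z + b + b' ≠ z := by
        intro h2
        apply hb'
        have h3 : z + (b + b') = z + 0 := by rw [← add_assoc, h2, add_zero]
        have h4 : b + b' = 0 := add_left_cancel h3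
        have : b + b' + b' = 0 + b' := by rw [h4]
        rw [add_assoc, add_self_I, add_zero, zero_add] at this
        exact this.symm
      simp [this]
    · intro hb; exact absurd (Finset.mem_univ b) hb
  rintro ⟨a₀, b₀⟩
  have h2 : ∑ z : I n, sg (a₀ ⬝ᵥ z) * ∑ a : I n, c (a, b₀) * sg (a ⬝ᵥ z) = 0 := by
    apply Finset.sum_eq_zero
    intro z _
    rw [key z b₀, mul_zero]
  simp_rw [Finset.mul_sum] at h2
  rw [Finset.sum_comm] at h2
  have h3 : ∀ a : I n, ∑ z : I n, sg (a₀ ⬝ᵥ z) * (c (a, b₀) * sg (a ⬝ᵥ z)) =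
      c (a, b₀) * (if a₀ = a then (2 : ℝ) ^ n else 0) := by
    intro a
    rw [← sum_sg_dot_mul, Finset.mul_sum]
    apply Finset.sum_congr rfl
    intro z _
    ring
  simp_rw [h3] at h2
  simp only [mul_ite, mul_zero, Finset.sum_ite_eq, Finset.mem_univ, if_true] at h2
  have h4 : (2 : ℝ) ^ n ≠ 0 := by positivity
  exact (mul_eq_zero.mp h2).resolve_right h4

theorem op_injective : Function.Injective (op : V n → Module.End ℝ (I n → ℝ)) :=
  op_linearIndependent.injective

theorem card_V : Fintype.card (V n) = 2 ^ n * 2 ^ n := by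
  simp [Fintype.card_prod, ZMod.card]

theorem finrank_fun : Module.finrank ℝ (I n → ℝ) = 2 ^ n := by
  simp [ZMod.card]

theorem finrank_End : Module.finrank ℝ (Module.End ℝ (I n → ℝ)) = 2 ^ n * 2 ^ n := by
  rw [Module.finrank_linearMap, finrank_fun]

/-- the operators `op u` form a basis of the endomorphism algebra -/
noncomputable def opBasis : Module.Basis (V n) ℝ (Module.End ℝ (I n → ℝ)) :=
  basisOfLinearIndependentOfCardEqFinrank op_linearIndependent (by rw [card_V, finrank_End])

@[simp] theorem opBasis_apply (u : V n) : opBasis u = op u := by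
  simp [opBasis]

end ops

end Cfsg.Agent.Lib.Helper95_ExtraOps
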