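import Mathlib
import Cfsg.Agent.Lib.Helper95_ExtraOps

set_option autoImplicit false

/-!
# Lifting isometries of the standard hyperbolic space to the normaliser of `2^{1+2n}_+`

For every linear automorphism `g` of `V n` preserving `q₀ v = bet v v` there is an invertible
operator `T` of determinant `± 1` with `T * op v = ± op (g v) * T` for all `v`
(Skolem–Noether for the matrix algebra, in the form `AlgEquiv.eq_linearEquivConjAlgEquiv`).
-/

namespace Cfsg.Agent.Lib.Helper95_ExtraAut

open Module Cfsg.Agent.Lib.Helper95_ExtraOps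

/-- an alternating bilinear form over `ZMod 2` is the polar form of a quadratic function -/
theorem exists_polar {W : Type*} [AddCommGroup W] [Module (ZMod 2) W] [Module.Finite (ZMod 2) W]
    (γ : LinearMap.BilinForm (ZMod 2) W) (hγ : ∀ v, γ v v = 0) :
    ∃ f : W → ZMod 2, ∀ v w, f (v + w) = f v + f w + γ v w := by
  classical
  set b := Module.finBasis (ZMod 2) W with hb
  have hsymm : ∀ v w, γ w v = γ v w := by
    intro v w
    have h := hγ (v + w)
    simp only [map_add, LinearMap.add_apply, hγ v, hγ w, zero_add, add_zero] at h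
    have h2 : γ w v = -γ v w := eq_neg_of_add_eq_zero_left h
    rw [h2, neg_eq_self_zmod2]
  let A : Matrix (Fin (finrank (ZMod 2) W)) (Fin (finrank (ZMod 2) W)) (ZMod 2) :=
    Matrix.of fun i j => if i < j then γ (b i) (b j) else 0
  set γ' : LinearMap.BilinForm (ZMod 2) W := Matrix.toBilin b A with hγ'
  have hA : ∀ i j, γ' (b i) (b j) = A i j := by
    intro i j
    rw [← LinearMap.BilinForm.toMatrix_apply, hγ', LinearMap.BilinForm.toMatrix_toBilin]
  have hsum : γ = γ' + γ'.flip := by
    apply LinearMap.BilinForm.ext_basis b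
    intro i j
    have e1 : (γ' + γ'.flip) (b i) (b j) = γ' (b i) (b j) + γ' (b j) (b i) := rfl
    rw [e1, hA, hA]
    simp only [A, Matrix.of_apply]
    rcases lt_trichotomy i j with h | h | h
    · simp [h, not_lt_of_gt h]
    · subst h; simp [hγ]
    · simp only [not_lt_of_gt h, h, if_true, if_false, zero_add]
      exact hsymm _ _
  refine ⟨fun v => γ' v v, ?_⟩
  intro v w
  have h1 : γ v w = γ' v w + γ' w v := by
    rw [hsum]; rfl
  rw [h1]
  simp only [map_add, LinearMap.add_apply]
  ring

variable {n : ℕ}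

theorem bet_smul_left (c : ZMod 2) (u v : V n) : bet (c • u) v = c • bet u v := by
  simp [bet, smul_dotProduct]

theorem bet_smul_right (c : ZMod 2) (u v : V n) : bet u (c • v) = c • bet u v := by
  simp [bet, dotProduct_smul]

/-- `bet` as a bilinear form -/
def betL : LinearMap.BilinForm (ZMod 2) (V n) :=
  LinearMap.mk₂ (ZMod 2) bet bet_add_left bet_smul_left bet_add_right bet_smul_right

@[simp] theorem betL_apply (u v : V n) : betL u v = bet u v := rfl

/-- the correction function of an isometry -/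
theorem exists_corr (g : V n ≃ₗ[ZMod 2] V n) (hg : ∀ v, bet (g v) (g v) = bet v v) :
    ∃ f : V n → ZMod 2, f 0 = 0 ∧
      ∀ v w, f (v + w) = f v + f w + (bet (g v) (g w) + bet v w) := by
  obtain ⟨f, hf⟩ := exists_polar
    ((betL (n := n)).compl₁₂ (g : V n →ₗ[ZMod 2] V n) (g : V n →ₗ[ZMod 2] V n) + betL)
    (by
      intro v
      simp only [LinearMap.add_apply, LinearMap.compl₁₂_apply, LinearEquiv.coe_coe, betL_apply,
        hg v]
      exact add_self_zmod2 _)
  refine ⟨f, ?_, ?_⟩
  · have h := hf 0 0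
    simp only [add_zero, map_zero] at h
    have : f 0 + f 0 = f 0 + 0 := by rw [add_zero]; exact h.symm
    exact add_left_cancel this
  · intro v w
    rw [hf v w]
    simp

section lift
variable (g : V n ≃ₗ[ZMod 2] V n) (f : V n → ZMod 2)

/-- the linear map `op v ↦ (-1)^{f v} op (g v)` -/
noncomputable def sigmaLin : Module.End ℝ (I n → ℝ) →ₗ[ℝ] Module.End ℝ (I n → ℝ) :=
  (opBasis (n := n)).constr ℝ (fun v => sg (f v) • op (g v))

theorem sigmaLin_op (v : V n) : sigmaLin g f (op v) = sg (f v) • op (g v) := by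
  have h := (opBasis (n := n)).constr_basis ℝ (fun v => sg (f v) • op (g v)) v
  rw [opBasis_apply] at h
  exact h

theorem sigmaLin_mul (hf : ∀ v w, f (v + w) = f v + f w + (bet (g v) (g w) + bet v w))
    (X Y : Module.End ℝ (I n → ℝ)) :
    sigmaLin g f (X * Y) = sigmaLin g f X * sigmaLin g f Y := by
  have key : (LinearMap.mul ℝ (Module.End ℝ (I n → ℝ))).compr₂ (sigmaLin g f) =
      (LinearMap.mul ℝ (Module.End ℝ (I n → ℝ))).compl₁₂ (sigmaLin g f) (sigmaLin g f) := by
    apply (opBasis (n := n)).ext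
    intro u
    apply (opBasis (n := n)).ext
    intro v
    simp only [LinearMap.compr₂_apply, LinearMap.mul_apply', LinearMap.compl₁₂_apply,
      opBasis_apply]
    rw [op_mul, map_smul, sigmaLin_op, sigmaLin_op, sigmaLin_op, smul_mul_smul_comm, op_mul,
      map_add g, smul_smul, smul_smul, hf, sg_add, sg_add, sg_add]
    congr 1
    have h3 := sg_mul_self (bet u v)
    linear_combination (sg (f u) * sg (f v) * sg (bet (g u) (g v))) * h3
  have := LinearMap.congr_fun (LinearMap.congr_fun key X) Y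
  simpa only [LinearMap.compr₂_apply, LinearMap.mul_apply', LinearMap.compl₁₂_apply] using this

theorem sigmaLin_comp (v : V n) :
    sigmaLin g f (sigmaLin g.symm (fun w => f (g.symm w)) (op v)) = op v := by
  rw [sigmaLin_op, map_smul, sigmaLin_op, smul_smul, sg_mul_self, one_smul,
    LinearEquiv.apply_symm_apply]

theorem sigmaLin_comp' (v : V n) :
    sigmaLin g.symm (fun w => f (g.symm w)) (sigmaLin g f (op v)) = op v := by
  rw [sigmaLin_op, map_smul, sigmaLin_op, smul_smul, LinearEquiv.symm_apply_apply, sg_mul_self,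
    one_smul]

/-- `sigmaLin` as a linear equivalence -/
noncomputable def sigmaEquiv : Module.End ℝ (I n → ℝ) ≃ₗ[ℝ] Module.End ℝ (I n → ℝ) :=
  LinearEquiv.ofLinearMap (sigmaLin g f) (sigmaLin g.symm (fun w => f (g.symm w)))
    (by
      apply (opBasis (n := n)).ext
      intro v
      simp only [LinearMap.coe_comp, Function.comp_apply, opBasis_apply, LinearMap.id_coe, id_eq]
      exact sigmaLin_comp g f v)
    (by
      apply (opBasis (n := n)).ext
      intro v
      simp only [LinearMap.coe_comp, Function.comp_apply, opBasis_apply, LinearMap.id_coe, id_eq]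
      exact sigmaLin_comp' g f v)

theorem sigmaEquiv_apply (X : Module.End ℝ (I n → ℝ)) : sigmaEquiv g f X = sigmaLin g f X := rfl

/-- the algebra automorphism `op v ↦ (-1)^{f v} op (g v)` -/
noncomputable def sigmaAlg (hf0 : f 0 = 0)
    (hf : ∀ v w, f (v + w) = f v + f w + (bet (g v) (g w) + bet v w)) :
    Module.End ℝ (I n → ℝ) ≃ₐ[ℝ] Module.End ℝ (I n → ℝ) :=
  AlgEquiv.ofLinearEquiv (sigmaEquiv g f)
    (by
      rw [sigmaEquiv_apply, ← op_zero, sigmaLin_op, hf0, map_zero, sg_zero, one_smul])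
    (fun X Y => by
      rw [sigmaEquiv_apply, sigmaEquiv_apply, sigmaEquiv_apply]
      exact sigmaLin_mul g f hf X Y)

theorem sigmaAlg_op (hf0 : f 0 = 0)
    (hf : ∀ v w, f (v + w) = f v + f w + (bet (g v) (g w) + bet v w)) (v : V n) :
    sigmaAlg g f hf0 hf (op v) = sg (f v) • op (g v) :=
  sigmaLin_op g f v

end lift

/-- every isometry of the standard hyperbolic space lifts to an operator of determinant `± 1` -/
theorem exists_lift (g : V n ≃ₗ[ZMod 2] V n) (hg : ∀ v, bet (g v) (g v) = bet v v) :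
    ∃ T : (Module.End ℝ (I n → ℝ))ˣ,
      (LinearMap.det (T : Module.End ℝ (I n → ℝ)) = 1 ∨
        LinearMap.det (T : Module.End ℝ (I n → ℝ)) = -1) ∧
      ∀ v, ∃ c : ZMod 2, (T : Module.End ℝ (I n → ℝ)) * op v =
        sg c • (op (g v) * (T : Module.End ℝ (I n → ℝ))) := by
  obtain ⟨f, hf0, hf⟩ := exists_corr g hg
  obtain ⟨T, hT⟩ := (sigmaAlg g f hf0 hf).eq_linearEquivConjAlgEquiv
  have hrel : ∀ v, (T : Module.End ℝ (I n → ℝ)) * op v =
      sg (f v) • (op (g v) * (T : Module.End ℝ (I n → ℝ))) := by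
    intro v
    have h1 : sigmaAlg g f hf0 hf (op v) = T.conjAlgEquiv ℝ (op v) := by rw [hT]
    rw [sigmaAlg_op, LinearEquiv.conjAlgEquiv_apply] at h1
    rw [← smul_mul_assoc, h1]
    apply LinearMap.ext
    intro x
    simp
  set d := LinearMap.det (T : Module.End ℝ (I n → ℝ)) with hd
  have hd0 : d ≠ 0 := (LinearEquiv.isUnit_det' T).ne_zero
  set N := 2 ^ n with hN
  have hN0 : N ≠ 0 := by positivity
  set c : ℝ := (|d|⁻¹) ^ ((N : ℝ)⁻¹) with hc
  have hcN : c ^ N = |d|⁻¹ := Real.rpow_inv_natCast_pow (by positivity) hN0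
  have hc0 : c ≠ 0 := by
    intro h0
    rw [h0, zero_pow hN0] at hcN
    have : |d|⁻¹ ≠ 0 := inv_ne_zero (abs_ne_zero.mpr hd0)
    exact this hcN.symm
  refine ⟨⟨c • (T : Module.End ℝ (I n → ℝ)), c⁻¹ • (T.symm : Module.End ℝ (I n → ℝ)), ?_, ?_⟩,
    ?_, ?_⟩
  · rw [smul_mul_smul_comm, mul_inv_cancel₀ hc0, one_smul]
    apply LinearMap.ext
    intro x
    simp
  · rw [smul_mul_smul_comm, inv_mul_cancel₀ hc0, one_smul]
    apply LinearMap.ext
    intro x
    simp
  · show LinearMap.det (c • (T : Module.End ℝ (I n → ℝ))) = 1 ∨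
      LinearMap.det (c • (T : Module.End ℝ (I n → ℝ))) = -1
    rw [LinearMap.det_smul, finrank_fun, ← hN, hcN, ← hd]
    rcases lt_or_gt_of_ne hd0 with hneg | hpos
    · right
      rw [abs_of_neg hneg]
      field_simp
    · left
      rw [abs_of_pos hpos]
      field_simp
  · intro v
    refine ⟨f v, ?_⟩
    show c • (T : Module.End ℝ (I n → ℝ)) * op v =
      sg (f v) • (op (g v) * (c • (T : Module.End ℝ (I n → ℝ))))
    rw [smul_mul_assoc, hrel v, mul_smul_comm, smul_comm]

end Cfsg.Agent.Lib.Helper95_ExtraAut
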