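import Mathlib
import Cfsg.Agent.Lib.Helper95_ExtraOps

set_option autoImplicit false

/-!
# The operators commuting with all `op v` up to sign are the `± op a`
-/

namespace Cfsg.Agent.Lib.Helper95_ExtraKer

open Module Matrix Cfsg.Agent.Lib.Helper95_ExtraOps

variable {n : ℕ}

/-- the polar form of `q₀` is nondegenerate -/
theorem polar_nondeg {a : V n} (h : ∀ v : V n, bet v a + bet a v = 0) : a = 0 := by
  ext i
  · have h1 := h (0, Pi.single i 1)
    simpa [bet, dotProduct_single] using h1
  · have h1 := h (Pi.single i 1, 0)
    simpa [bet, single_dotProduct] using h1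

theorem eq_of_polar_eq {a a' : V n} (h : ∀ v : V n, bet v a + bet a v = bet v a' + bet a' v) :
    a = a' := by
  have h0 : a + a' = 0 := by
    apply polar_nondeg
    intro v
    rw [bet_add_right, bet_add_left]
    have := h v
    have e : bet v a + bet v a' + (bet a v + bet a' v) =
        (bet v a + bet a v) + (bet v a' + bet a' v) := by ring
    rw [e, this]
    exact add_self_zmod2 _
  have : a + a' + a' = 0 + a' := by rw [h0]
  rwa [add_assoc, add_self_V, add_zero, zero_add] at this

theorem abs_sg (t : ZMod 2) : |sg t| = 1 := by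
  rcases sg_eq_or t with h | h <;> rw [h] <;> simp

theorem abs_det_op (a : V n) : |LinearMap.det (op a)| = 1 := by
  have h1 : LinearMap.det (op a) * LinearMap.det (op a) =
      sg (bet a a) ^ (2 ^ n) := by
    rw [← map_mul, op_mul_self, LinearMap.det_smul, finrank_fun, map_one, mul_one]
  have h2 : |LinearMap.det (op a)| * |LinearMap.det (op a)| = 1 := by
    rw [← abs_mul, h1, abs_pow, abs_sg, one_pow]
  have h3 : 0 ≤ |LinearMap.det (op a)| := abs_nonneg _
  nlinarith

/-- an invertible operator of determinant `± 1` commuting up to sign with all `op v` is `± op a` -/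
theorem eq_smul_op_of_comm (T : Module.End ℝ (I n → ℝ))
    (hdet : LinearMap.det T = 1 ∨ LinearMap.det T = -1)
    (h : ∀ v, ∃ c : ZMod 2, T * op v = sg c • (op v * T)) :
    ∃ (a : V n) (c : ZMod 2), T = sg c • op a := by
  classical
  choose cv hcv using h
  set t : V n → ℝ := fun a => (opBasis (n := n)).repr T a with ht
  have hT : T = ∑ a, t a • op a := by
    have := ((opBasis (n := n)).sum_repr T).symm
    simpa only [opBasis_apply] using this
  -- coefficient comparison
  have hcoef : ∀ v a, t a = sg (cv v) * sg (bet v a + bet a v) * t a := by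
    intro v
    have h1 : ∑ a, (t a - sg (cv v) * sg (bet v a + bet a v) * t a) • op a = 0 := by
      have h2 : ∑ a, (t a - sg (cv v) * sg (bet v a + bet a v) * t a) • (op a * op v) = 0 := by
        have h3 := hcv v
        rw [hT, Finset.sum_mul, Finset.mul_sum, Finset.smul_sum] at h3
        have e1 : ∑ a, (t a - sg (cv v) * sg (bet v a + bet a v) * t a) • (op a * op v) =
            ∑ a, t a • (op a * op v) -
              ∑ a, (sg (cv v) * sg (bet v a + bet a v) * t a) • (op a * op v) := by
          rw [← Finset.sum_sub_distrib]
          apply Finset.sum_congr rfl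
          intro a _
          module
        rw [e1, sub_eq_zero]
        refine Eq.trans (Finset.sum_congr rfl fun a _ => ?_) (h3.trans
          (Finset.sum_congr rfl fun a _ => ?_))
        · rw [smul_mul_assoc]
        · rw [mul_smul_comm, op_comm v a, smul_smul, smul_smul]
          congr 1
          ring
      have h4 : (∑ a, (t a - sg (cv v) * sg (bet v a + bet a v) * t a) • (op a * op v)) *
          (sg (bet v v) • op v) = 0 := by rw [h2, zero_mul]
      rw [Finset.sum_mul] at h4
      rw [← h4]
      apply Finset.sum_congr rfl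
      intro a _
      rw [smul_mul_assoc, mul_assoc (op a), op_mul_op_smul, mul_one]
    have h5 := Fintype.linearIndependent_iff.mp (op_linearIndependent (n := n)) _ h1
    intro a
    have := h5 a
    linarith
  -- some coefficient is nonzero
  have hT0 : T ≠ 0 := by
    intro h0
    rw [h0] at hdet
    have hz : LinearMap.det (0 : Module.End ℝ (I n → ℝ)) = 0 := by
      rw [LinearMap.det_zero, finrank_fun]
      exact zero_pow (by positivity)
    rw [hz] at hdet
    rcases hdet with h | h <;> norm_num at h
  obtain ⟨a, ha⟩ : ∃ a, t a ≠ 0 := by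
    by_contra hcon
    push Not at hcon
    apply hT0
    rw [hT]
    apply Finset.sum_eq_zero
    intro a _
    rw [hcon a, zero_smul]
  have hkey : ∀ a', t a' ≠ 0 → ∀ v, bet v a' + bet a' v = cv v := by
    intro a' ha' v
    have h1 := hcoef v a'
    have h2 : sg (cv v) * sg (bet v a' + bet a' v) = 1 := by
      have h3 : (sg (cv v) * sg (bet v a' + bet a' v) - 1) * t a' = 0 := by linarith
      rcases mul_eq_zero.mp h3 with h4 | h4
      · linarith
      · exact absurd h4 ha'
    rw [← sg_add, sg_eq_one_iff] at h2
    have h3 : cv v + (bet v a' + bet a' v) + (bet v a' + bet a' v) = 0 + (bet v a' + bet a' v) := by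
      rw [h2]
    rw [add_assoc, add_self_zmod2, add_zero, zero_add] at h3
    exact h3.symm
  have huniq : ∀ a', t a' ≠ 0 → a' = a := by
    intro a' ha'
    apply eq_of_polar_eq
    intro v
    rw [hkey a' ha' v, hkey a ha v]
  have hT' : T = t a • op a := by
    rw [hT]
    rw [Finset.sum_eq_single a]
    · intro a' _ hne
      by_cases h0 : t a' = 0
      · rw [h0, zero_smul]
      · exact absurd (huniq a' h0) hne
    · intro hna; exact absurd (Finset.mem_univ a) hna
  -- the coefficient is `± 1`
  have habs : |LinearMap.det T| = 1 := by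
    rcases hdet with h | h <;> rw [h] <;> simp
  rw [hT', LinearMap.det_smul, finrank_fun, abs_mul, abs_det_op, mul_one, abs_pow] at habs
  have h1 : |t a| = 1 :=
    (pow_eq_one_iff_of_nonneg (abs_nonneg _) (by positivity)).mp habs
  rcases (abs_eq (by norm_num : (0 : ℝ) ≤ 1)).mp h1 with h2 | h2
  · exact ⟨a, 0, by rw [hT', h2, sg_zero]⟩
  · exact ⟨a, 1, by rw [hT', h2, sg_one]⟩

end Cfsg.Agent.Lib.Helper95_ExtraKer
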