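import Mathlib
import Cfsg.Agent.S5396
import Cfsg.Agent.Lib.Helper63_Heisenberg
import Cfsg.Agent.Lib.Helper95_ExtraOps
import Cfsg.Agent.Lib.Helper95_ExtraAut
import Cfsg.Agent.Lib.Helper95_ExtraKer

set_option autoImplicit false

/-!
# The extension `2^{1+2n}_+ . K` for a group `K` of isometries of the standard hyperbolic space
-/

namespace Cfsg.Agent.Lib.Helper95_ExtraCore

open Module Matrix Cfsg.Agent.Lib.Helper95_ExtraOps Cfsg.Agent.Lib.Helper95_ExtraAut
  Cfsg.Agent.Lib.Helper95_ExtraKer Cfsg.Agent.S5396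

variable {n : ℕ}

/-- the ambient group -/
abbrev Amb (n : ℕ) := (Module.End ℝ (I n → ℝ))ˣ × (V n ≃ₗ[ZMod 2] V n)

/-- uniqueness of the expression `± op a` -/
theorem smul_op_inj {a a' : V n} {c c' : ZMod 2} (h : sg c • op a = sg c' • op a') :
    a = a' ∧ c = c' := by
  classical
  have h1 := congrArg (fun X => (opBasis (n := n)).repr X a) h
  simp only [map_smul, ← opBasis_apply, Basis.repr_self, Finsupp.smul_apply,
    Finsupp.single_apply, smul_eq_mul] at h1
  by_cases haa : a' = a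
  · subst haa
    simp only [if_true, mul_one] at h1
    exact ⟨rfl, sg_injective h1⟩
  · simp only [if_neg haa, if_true, mul_one, mul_zero] at h1
    exact absurd h1 (sg_ne_zero c)

/-- the conversion between the two coordinate systems -/
def cv : (Fin n → ZMod 2 × ZMod 2) ≃+ V n where
  toFun v := (fun i => (v i).1, fun i => (v i).2)
  invFun u := fun i => (u.1 i, u.2 i)
  left_inv _ := rfl
  right_inv _ := rfl
  map_add' _ _ := rfl

theorem β_eq_bet (v w : Fin n → ZMod 2 × ZMod 2) : β (0 : Fin n → ZMod 2) v w = bet (cv v) (cv w) := by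
  simp [β, bet, cv, dotProduct]

/-- the elements `± op a` as units -/
noncomputable def esU (x : ES n (0 : Fin n → ZMod 2)) : (Module.End ℝ (I n → ℝ))ˣ where
  val := sg x.c • op (cv x.v)
  inv := sg x.c • (sg (bet (cv x.v) (cv x.v)) • op (cv x.v))
  val_inv := by
    rw [smul_mul_smul_comm, sg_mul_self, one_smul, op_mul_op_smul]
  inv_val := by
    rw [smul_mul_smul_comm, sg_mul_self, one_smul, op_smul_mul_op]

@[simp] theorem esU_val (x : ES n (0 : Fin n → ZMod 2)) :
    ((esU x : (Module.End ℝ (I n → ℝ))ˣ) : Module.End ℝ (I n → ℝ)) = sg x.c • op (cv x.v) := rfl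

theorem esU_mul (x y : ES n (0 : Fin n → ZMod 2)) : esU (x * y) = esU x * esU y := by
  apply Units.ext
  rw [Units.val_mul, esU_val, esU_val, esU_val, smul_mul_smul_comm, op_mul, smul_smul,
    ES.mul_c, ES.mul_v, map_add, β_eq_bet, sg_add, sg_add]

theorem esU_one : esU (1 : ES n (0 : Fin n → ZMod 2)) = 1 := by
  apply Units.ext
  rw [esU_val, Units.val_one, ES.one_c, ES.one_v, map_zero, sg_zero, one_smul, op_zero]

theorem esU_injective : Function.Injective (esU (n := n)) := by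
  intro x y h
  have h1 := congrArg Units.val h
  rw [esU_val, esU_val] at h1
  obtain ⟨h2, h3⟩ := smul_op_inj h1
  exact ES.ext (cv.injective h2) h3

section subgroup
variable (G₀ : Subgroup (V n ≃ₗ[ZMod 2] V n))

/-- the normaliser of `{± op v}` lying over `G₀` -/
def normSub : Subgroup (Amb n) where
  carrier := {x | x.2 ∈ G₀ ∧
    (LinearMap.det (x.1 : Module.End ℝ (I n → ℝ)) = 1 ∨
      LinearMap.det (x.1 : Module.End ℝ (I n → ℝ)) = -1) ∧
    ∀ v, ∃ c : ZMod 2, (x.1 : Module.End ℝ (I n → ℝ)) * op v =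
      sg c • (op (x.2 v) * (x.1 : Module.End ℝ (I n → ℝ)))}
  one_mem' := by
    refine ⟨G₀.one_mem, Or.inl ?_, fun v => ⟨0, ?_⟩⟩
    · simp
    · simp
  mul_mem' := by
    rintro x y ⟨hx1, hx2, hx3⟩ ⟨hy1, hy2, hy3⟩
    refine ⟨G₀.mul_mem hx1 hy1, ?_, ?_⟩
    · simp only [Prod.fst_mul, Units.val_mul, map_mul]
      rcases hx2 with h | h <;> rcases hy2 with h' | h' <;> rw [h, h'] <;> norm_num
    · intro v
      obtain ⟨c₁, h₁⟩ := hy3 v
      obtain ⟨c₂, h₂⟩ := hx3 (y.2 v)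
      refine ⟨c₁ + c₂, ?_⟩
      simp only [Prod.fst_mul, Units.val_mul, Prod.snd_mul, LinearEquiv.mul_apply]
      rw [mul_assoc, h₁, mul_smul_comm, ← mul_assoc, h₂, smul_mul_assoc, smul_smul, mul_assoc,
        sg_add]
  inv_mem' := by
    rintro x ⟨hx1, hx2, hx3⟩
    refine ⟨G₀.inv_mem hx1, ?_, ?_⟩
    · have h1 : LinearMap.det ((x.1⁻¹ : (Module.End ℝ (I n → ℝ))ˣ) : Module.End ℝ (I n → ℝ)) *
          LinearMap.det (x.1 : Module.End ℝ (I n → ℝ)) = 1 := by
        rw [← map_mul, ← Units.val_mul, inv_mul_cancel, Units.val_one, map_one]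
      simp only [Prod.fst_inv]
      rcases hx2 with h | h <;> rw [h] at h1
      · left; linarith
      · right; linarith
    · intro v
      obtain ⟨c, hc⟩ := hx3 (x.2⁻¹ v)
      refine ⟨c, ?_⟩
      simp only [Prod.fst_inv, Prod.snd_inv]
      have e1 : x.2 (x.2⁻¹ v) = v := by
        rw [← LinearEquiv.mul_apply, mul_inv_cancel]
        rfl
      rw [e1] at hc
      -- hc : x.1 * op w = sg c • (op v * x.1)
      have h2 : op (x.2⁻¹ v) * ((x.1⁻¹ : (Module.End ℝ (I n → ℝ))ˣ) : Module.End ℝ (I n → ℝ)) =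
          sg c • (((x.1⁻¹ : (Module.End ℝ (I n → ℝ))ˣ) : Module.End ℝ (I n → ℝ)) * op v) := by
        have h3 : ((x.1⁻¹ : (Module.End ℝ (I n → ℝ))ˣ) : Module.End ℝ (I n → ℝ)) *
            ((x.1 : Module.End ℝ (I n → ℝ)) * op (x.2⁻¹ v)) *
            ((x.1⁻¹ : (Module.End ℝ (I n → ℝ))ˣ) : Module.End ℝ (I n → ℝ)) =
            ((x.1⁻¹ : (Module.End ℝ (I n → ℝ))ˣ) : Module.End ℝ (I n → ℝ)) *
            (sg c • (op v * (x.1 : Module.End ℝ (I n → ℝ)))) *
            ((x.1⁻¹ : (Module.End ℝ (I n → ℝ))ˣ) : Module.End ℝ (I n → ℝ)) := by rw [hc]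
        rw [← mul_assoc, Units.inv_mul, one_mul, mul_smul_comm, smul_mul_assoc, mul_assoc,
          mul_assoc, Units.mul_inv, mul_one] at h3
        exact h3
      rw [h2, smul_smul, sg_mul_self, one_smul]

theorem mem_normSub_iff (x : Amb n) : x ∈ normSub G₀ ↔ x.2 ∈ G₀ ∧
    (LinearMap.det (x.1 : Module.End ℝ (I n → ℝ)) = 1 ∨
      LinearMap.det (x.1 : Module.End ℝ (I n → ℝ)) = -1) ∧
    ∀ v, ∃ c : ZMod 2, (x.1 : Module.End ℝ (I n → ℝ)) * op v =
      sg c • (op (x.2 v) * (x.1 : Module.End ℝ (I n → ℝ))) := Iff.rfl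

end subgroup

section core
variable {K : Type*} [Group K] (ι : K →* (V n ≃ₗ[ZMod 2] V n)) (hι : Function.Injective ι)

/-- the group `R` -/
abbrev RGrp : Type := ↥(normSub (n := n) ι.range)

/-- the projection `R → K` -/
noncomputable def piHom : RGrp ι →* K :=
  (MonoidHom.ofInjective hι).symm.toMonoidHom.comp
    (((MonoidHom.snd _ _).comp (normSub (n := n) ι.range).subtype).codRestrict ι.range
      (fun r => r.2.1))

theorem ι_piHom (r : RGrp ι) : ι (piHom ι hι r) = r.1.2 := by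
  have h := (MonoidHom.ofInjective hι).apply_symm_apply ⟨r.1.2, r.2.1⟩
  have h2 := congrArg Subtype.val h
  rw [MonoidHom.ofInjective_apply] at h2
  exact h2

theorem piHom_eq_one_iff (r : RGrp ι) : piHom ι hι r = 1 ↔ r.1.2 = 1 := by
  rw [← ι_piHom ι hι r]
  constructor
  · intro h; rw [h, map_one]
  · intro h; exact hι (by rw [h, map_one])

theorem abs_det_esU (x : ES n (0 : Fin n → ZMod 2)) :
    LinearMap.det ((esU x : (Module.End ℝ (I n → ℝ))ˣ) : Module.End ℝ (I n → ℝ)) = 1 ∨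
      LinearMap.det ((esU x : (Module.End ℝ (I n → ℝ))ˣ) : Module.End ℝ (I n → ℝ)) = -1 := by
  have h : |LinearMap.det ((esU x : (Module.End ℝ (I n → ℝ))ˣ) : Module.End ℝ (I n → ℝ))| = 1 := by
    rw [esU_val, LinearMap.det_smul, abs_mul, abs_pow, abs_sg, one_pow, one_mul, abs_det_op]
  exact (abs_eq (by norm_num : (0 : ℝ) ≤ 1)).mp h

theorem esU_mem (x : ES n (0 : Fin n → ZMod 2)) :
    ((esU x, 1) : Amb n) ∈ normSub (n := n) ι.range := by
  refine ⟨ι.range.one_mem, abs_det_esU x, fun v => ⟨bet (cv x.v) v + bet v (cv x.v), ?_⟩⟩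
  show ((esU x : (Module.End ℝ (I n → ℝ))ˣ) : Module.End ℝ (I n → ℝ)) * op v =
    sg (bet (cv x.v) v + bet v (cv x.v)) •
      (op v * ((esU x : (Module.End ℝ (I n → ℝ))ˣ) : Module.End ℝ (I n → ℝ)))
  rw [esU_val, smul_mul_assoc, op_comm (cv x.v) v, mul_smul_comm, smul_comm]

/-- the embedding of the extraspecial group -/
noncomputable def psi₀ : ES n (0 : Fin n → ZMod 2) →* RGrp ι where
  toFun x := ⟨(esU x, 1), esU_mem ι x⟩
  map_one' := by
    apply Subtype.ext
    show ((esU (1 : ES n (0 : Fin n → ZMod 2)), 1) : Amb n) = 1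
    rw [esU_one]; rfl
  map_mul' x y := by
    apply Subtype.ext
    show ((esU (x * y), 1) : Amb n) = (esU x, 1) * (esU y, 1)
    rw [esU_mul, Prod.mk_mul_mk, mul_one]

theorem psi₀_val (x : ES n (0 : Fin n → ZMod 2)) : ((psi₀ ι x : RGrp ι) : Amb n) = (esU x, 1) := rfl

theorem psi₀_injective : Function.Injective (psi₀ (n := n) ι) := by
  intro x y h
  have h1 := congrArg (fun r : RGrp ι => (r : Amb n).1) h
  exact esU_injective h1

theorem psi₀_mem_ker (x : ES n (0 : Fin n → ZMod 2)) : psi₀ ι x ∈ (piHom ι hι).ker := by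
  rw [MonoidHom.mem_ker, piHom_eq_one_iff]
  rfl

theorem exists_psi₀_eq (r : RGrp ι) (hr : r ∈ (piHom ι hι).ker) : ∃ x, psi₀ ι x = r := by
  rw [MonoidHom.mem_ker, piHom_eq_one_iff] at hr
  obtain ⟨-, hdet, hrel⟩ := r.2
  have hrel' : ∀ v, ∃ c : ZMod 2, (r.1.1 : Module.End ℝ (I n → ℝ)) * op v =
      sg c • (op v * (r.1.1 : Module.End ℝ (I n → ℝ))) := by
    intro v
    obtain ⟨c, hc⟩ := hrel v
    refine ⟨c, ?_⟩
    rw [hc, hr]
    rfl
  obtain ⟨a, c, hac⟩ := eq_smul_op_of_comm _ hdet hrel'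
  refine ⟨⟨cv.symm a, c⟩, ?_⟩
  apply Subtype.ext
  rw [psi₀_val]
  apply Prod.ext
  · apply Units.ext
    rw [esU_val, hac]
    simp
  · exact hr.symm

/-- the isomorphism of the extraspecial group with the kernel -/
noncomputable def psi : ES n (0 : Fin n → ZMod 2) ≃* (piHom ι hι).ker :=
  MulEquiv.ofBijective ((psi₀ ι).codRestrict (piHom ι hι).ker (psi₀_mem_ker ι hι))
    ⟨fun x y h => psi₀_injective ι (congrArg Subtype.val h),
     fun r => by
      obtain ⟨x, hx⟩ := exists_psi₀_eq ι hι r.1 r.2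
      exact ⟨x, Subtype.ext hx⟩⟩

theorem psi_val (x : ES n (0 : Fin n → ZMod 2)) :
    ((psi ι hι x : (piHom ι hι).ker) : RGrp ι) = psi₀ ι x := rfl

theorem piHom_surjective (hq : ∀ k v, bet (ι k v) (ι k v) = bet v v) :
    Function.Surjective (piHom ι hι) := by
  intro k
  obtain ⟨T, hdet, hrel⟩ := exists_lift (ι k) (hq k)
  refine ⟨⟨(T, ι k), ⟨⟨k, rfl⟩, hdet, hrel⟩⟩, ?_⟩
  apply hι
  rw [ι_piHom]

/-- the map from the kernel onto the hyperbolic space -/
noncomputable def chi₀ : (piHom ι hι).ker →* Multiplicative (V n) where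
  toFun a := Multiplicative.ofAdd (cv ((psi ι hι).symm a).v)
  map_one' := by
    rw [map_one, ES.one_v, map_zero]
    rfl
  map_mul' a b := by
    rw [map_mul, ES.mul_v, map_add]
    rfl

theorem chi₀_apply (a : (piHom ι hι).ker) :
    chi₀ ι hι a = Multiplicative.ofAdd (cv ((psi ι hι).symm a).v) := rfl

theorem chi₀_psi (x : ES n (0 : Fin n → ZMod 2)) :
    chi₀ ι hι (psi ι hι x) = Multiplicative.ofAdd (cv x.v) := by
  rw [chi₀_apply, MulEquiv.symm_apply_apply]

theorem isExtraspecial_ker (hn : 1 ≤ n) : Cfsg.IsExtraspecial 2 (piHom ι hι).ker :=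
  Cfsg.Agent.Lib.Helper63_Heisenberg.isExtraspecial_of_mulEquiv (psi ι hι) (ES.isExtraspecial hn)

theorem card_ker : Nat.card (piHom ι hι).ker = 2 ^ (2 * n + 1) := by
  rw [← Nat.card_congr (psi ι hι).toEquiv, ES.card]

theorem chi₀_surjective : Function.Surjective (chi₀ ι hι) := by
  intro v
  refine ⟨psi ι hι ⟨cv.symm (Multiplicative.toAdd v), 0⟩, ?_⟩
  rw [chi₀_psi]
  simp

theorem chi₀_ker : (chi₀ ι hι).ker = Subgroup.center (piHom ι hι).ker := by
  ext a
  obtain ⟨x, rfl⟩ := (psi ι hι).surjective a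
  rw [MonoidHom.mem_ker, chi₀_psi, Subgroup.mem_center_iff]
  have h1 : Multiplicative.ofAdd (cv x.v) = (1 : Multiplicative (V n)) ↔ x.v = 0 := by
    constructor
    · intro h
      have h2 : cv x.v = 0 := h
      exact cv.injective (by rw [h2, map_zero])
    · intro h
      rw [h, map_zero]
      rfl
  rw [h1, ← ES.mem_center_iff, Subgroup.mem_center_iff]
  constructor
  · intro h b
    obtain ⟨y, rfl⟩ := (psi ι hι).surjective b
    rw [← map_mul, ← map_mul, h y]
  · intro h y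
    apply (psi ι hι).injective
    rw [map_mul, map_mul, h]

theorem chi₀_sq (a : (piHom ι hι).ker) :
    a * a = 1 ↔ bet (Multiplicative.toAdd (chi₀ ι hι a)) (Multiplicative.toAdd (chi₀ ι hι a)) = 0 := by
  obtain ⟨x, rfl⟩ := (psi ι hι).surjective a
  rw [chi₀_psi, ← map_mul, toAdd_ofAdd, ← β_eq_bet, ← ES.sq_eq_one_iff, pow_two]
  constructor
  · intro h
    exact (psi ι hι).injective (by rw [h, map_one])
  · intro h
    rw [h, map_one]

theorem chi₀_conj (r : RGrp ι) (a : (piHom ι hι).ker)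
    (h : r * (a : RGrp ι) * r⁻¹ ∈ (piHom ι hι).ker) :
    chi₀ ι hι ⟨r * (a : RGrp ι) * r⁻¹, h⟩ =
      Multiplicative.ofAdd (ι (piHom ι hι r) (Multiplicative.toAdd (chi₀ ι hι a))) := by
  obtain ⟨x, rfl⟩ := (psi ι hι).surjective a
  obtain ⟨y, hy⟩ := (psi ι hι).surjective ⟨r * (psi ι hι x : RGrp ι) * r⁻¹, h⟩
  rw [← hy, chi₀_psi, chi₀_psi, toAdd_ofAdd, ι_piHom]
  congr 1
  -- compare the operator components
  have h1 : ((psi ι hι y : (piHom ι hι).ker) : RGrp ι) = r * (psi ι hι x : RGrp ι) * r⁻¹ :=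
    congrArg Subtype.val hy
  rw [psi_val, psi_val] at h1
  have h2 : esU y = r.1.1 * esU x * (r.1.1)⁻¹ := by
    have := congrArg (fun t : RGrp ι => (t : Amb n).1) h1
    simpa [psi₀_val] using this
  have h3 := congrArg Units.val h2
  rw [Units.val_mul, Units.val_mul, esU_val, esU_val] at h3
  obtain ⟨c, hc⟩ := r.2.2.2 (cv x.v)
  rw [mul_smul_comm, hc, smul_mul_assoc, smul_mul_assoc, mul_assoc, Units.mul_inv, mul_one,
    smul_smul, ← sg_add] at h3
  exact (smul_op_inj h3).1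

include hι in
theorem finite_RGrp (hq : ∀ k v, bet (ι k v) (ι k v) = bet v v) : Finite (RGrp ι) := by
  have hE : Finite (V n ≃ₗ[ZMod 2] V n) :=
    Finite.of_injective (fun e : V n ≃ₗ[ZMod 2] V n => (e : V n → V n)) DFunLike.coe_injective
  have hK : Finite K := Finite.of_injective ι hι
  have h1 := Subgroup.card_eq_card_quotient_mul_card_subgroup (piHom ι hι).ker
  have h2 : Nat.card (RGrp ι ⧸ (piHom ι hι).ker) = Nat.card K :=
    Nat.card_congr (QuotientGroup.quotientKerEquivOfSurjective (piHom ι hι)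
      (piHom_surjective ι hι hq)).toEquiv
  rw [h2, card_ker] at h1
  have h3 : Nat.card (RGrp ι) ≠ 0 := by
    rw [h1]
    have : Nat.card K ≠ 0 := Nat.card_pos.ne'
    positivity
  exact Nat.finite_of_card_ne_zero h3

end core

end Cfsg.Agent.Lib.Helper95_ExtraCore
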