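import Mathlib

/-!
# Crossed homomorphisms into an abelian normal subgroup, complements, and averaging

For an abelian normal subgroup `K` of `G`, complements of `K` correspond to crossed homomorphisms
`σ : G → K` (for the conjugation action) restricting to the identity on `K`.  This is the
language used for Gaschütz's theorems.
-/

set_option autoImplicit false

namespace Cfsg.Agent.Lib.Helper95_Gaschutz

open scoped IsMulCommutative

variable {G : Type*} [Group G]

/-- Crossed homomorphisms `G → K` for the conjugation action of `G` on the normal subgroup `K`. -/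
def IsCrossed (K : Subgroup G) [K.Normal] (σ : G → K) : Prop :=
  ∀ g h : G, σ (g * h) = σ g * MulAut.conjNormal g (σ h)

variable {K : Subgroup G} [K.Normal]

theorem IsCrossed.map_one {σ : G → K} (h : IsCrossed K σ) : σ 1 = 1 := by
  have h1 := h 1 1
  rw [mul_one, _root_.map_one, MulAut.one_apply] at h1
  exact (mul_eq_left.mp h1.symm)

theorem IsCrossed.map_inv {σ : G → K} (h : IsCrossed K σ) (g : G) :
    σ g⁻¹ = MulAut.conjNormal g⁻¹ (σ g)⁻¹ := by
  have h1 := h g⁻¹ g
  rw [inv_mul_cancel, h.map_one] at h1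
  rw [_root_.map_inv]
  exact eq_inv_of_mul_eq_one_left h1.symm

/-- Conjugation by an element of the abelian subgroup `K` is trivial on `K`. -/
theorem conjNormal_of_mem [IsMulCommutative K] (k k' : K) :
    MulAut.conjNormal (k : G) k' = k' := by
  apply Subtype.ext
  rw [MulAut.conjNormal_apply]
  have : (k : G) * k' = k' * k := by
    have := mul_comm' k k'
    exact_mod_cast congrArg Subtype.val this
  rw [this, mul_inv_cancel_right]

/-- The kernel of a crossed homomorphism. -/
def IsCrossed.ker {σ : G → K} (h : IsCrossed K σ) : Subgroup G where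
  carrier := {g | σ g = 1}
  one_mem' := h.map_one
  mul_mem' := by
    intro a b ha hb
    show σ (a * b) = 1
    rw [h a b, ha, hb, _root_.map_one, mul_one]
  inv_mem' := by
    intro a ha
    show σ a⁻¹ = 1
    rw [h.map_inv, ha, inv_one, _root_.map_one]

theorem IsCrossed.mem_ker {σ : G → K} (h : IsCrossed K σ) {g : G} : g ∈ h.ker ↔ σ g = 1 :=
  Iff.rfl

/-- A crossed homomorphism which is the identity on `K` has a kernel complementing `K`. -/
theorem IsCrossed.isComplement'_ker [IsMulCommutative K] {σ : G → K} (h : IsCrossed K σ)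
    (hK : ∀ k : K, σ k = k) : Subgroup.IsComplement' K h.ker := by
  apply Subgroup.isComplement'_of_disjoint_and_mul_eq_univ
  · rw [disjoint_iff, eq_bot_iff]
    rintro g ⟨hgK, hgH⟩
    have h1 : σ g = 1 := hgH
    have h2 := hK ⟨g, hgK⟩
    rw [Subgroup.mem_bot]
    have : (⟨g, hgK⟩ : K) = 1 := by rw [← h2]; exact h1
    exact congrArg Subtype.val this
  · rw [Set.eq_univ_iff_forall]
    intro g
    refine ⟨(σ g : G), (σ g).2, ((σ g : G))⁻¹ * g, ?_, by simp⟩
    show σ (((σ g : G))⁻¹ * g) = 1
    rw [h, ← Subgroup.coe_inv, hK, conjNormal_of_mem, inv_mul_cancel]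

/-- A complement `H` of the abelian normal subgroup `K` gives a crossed homomorphism which is the
identity on `K` and has kernel `H`. -/
theorem exists_crossed_of_isComplement' [IsMulCommutative K] {H : Subgroup G}
    (hH : Subgroup.IsComplement' K H) :
    ∃ σ : G → K, IsCrossed K σ ∧ (∀ k : K, σ k = k) ∧ ∀ g, σ g = 1 ↔ g ∈ H := by
  have hex : ∀ g : G, ∃ x : K × H, (x.1 : G) * x.2 = g := fun g =>
    (Subgroup.isComplement_iff_existsUnique.mp hH g).exists
  have huniq : ∀ (k k' : K) (a a' : H), (k : G) * a = k' * a' → k = k' ∧ a = a' := by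
    intro k k' a a' e
    have := (Subgroup.isComplement_iff_existsUnique.mp hH ((k : G) * a)).unique
      (y₁ := (k, a)) (y₂ := (k', a')) rfl e.symm
    exact ⟨congrArg Prod.fst this, congrArg Prod.snd this⟩
  choose f hf using hex
  have key : ∀ (k : K) (a : H), (f ((k : G) * a)).1 = k := fun k a =>
    (huniq _ _ _ _ (hf ((k : G) * a))).1
  refine ⟨fun g => (f g).1, ?_, ?_, ?_⟩
  · intro g g'
    obtain ⟨k, a, rfl⟩ : ∃ (k : K) (a : H), (k : G) * a = g := ⟨_, _, hf g⟩
    obtain ⟨k', a', rfl⟩ : ∃ (k' : K) (a' : H), (k' : G) * a' = g' := ⟨_, _, hf g'⟩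
    have e : (k : G) * a * ((k' : G) * a')
        = ((k * MulAut.conjNormal (a : G) k' : K) : G) * ((a * a' : H) : G) := by
      rw [Subgroup.coe_mul, MulAut.conjNormal_apply, Subgroup.coe_mul]
      group
    show (f ((k : G) * a * ((k' : G) * a'))).1 = (f ((k : G) * a)).1 *
      MulAut.conjNormal ((k : G) * a) (f ((k' : G) * a')).1
    rw [e, key, key, key, map_mul, MulAut.mul_apply, conjNormal_of_mem]
  · intro k
    have := key k 1
    simpa using this
  · intro g
    constructor
    · intro hg
      have h1 : (f g).1 = 1 := hg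
      have := hf g
      rw [h1] at this
      rw [← this]
      simp
    · intro hg
      have := key 1 ⟨g, hg⟩
      simpa using this

omit [K.Normal] in
/-- `z`-th powers undo `n`-th powers when `n` is coprime to `|K|`. -/
theorem pow_zpow_gcdB [Finite K] {n : ℕ} (hn : (Nat.card K).Coprime n) (k : K) :
    (k ^ n) ^ (Nat.card K).gcdB n = k := by
  have := (powCoprime hn).symm_apply_apply k
  rwa [powCoprime_symm_apply, powCoprime_apply] at this

/-- **Averaging.** A crossed homomorphism `d : G → K` which is trivial on a subgroup `U` of index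
coprime to `|K|` is principal: `d g = e * (g e g⁻¹)⁻¹` for some `e ∈ K`. -/
theorem IsCrossed.exists_principal [Finite G] [IsMulCommutative K] {d : G → K}
    (hd : IsCrossed K d) (U : Subgroup G) (hU : ∀ u ∈ U, d u = 1)
    (hcop : (Nat.card K).Coprime U.index) :
    ∃ e : K, ∀ g : G, d g = e * (MulAut.conjNormal g e)⁻¹ := by
  classical
  have := Fintype.ofFinite (G ⧸ U)
  -- `d` is constant on left cosets of `U`
  have hconst : ∀ (g : G) (u : G), u ∈ U → d (g * u) = d g := by
    intro g u hu
    rw [hd, hU u hu, _root_.map_one, mul_one]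
  have hout : ∀ g : G, d ((g : G ⧸ U).out) = d g := by
    intro g
    have h1 : ((g : G ⧸ U).out : G ⧸ U) = (g : G ⧸ U) := QuotientGroup.out_eq' _
    have h2 : g⁻¹ * (g : G ⧸ U).out ∈ U := QuotientGroup.eq.mp h1.symm
    have := hconst g _ h2
    rwa [mul_inv_cancel_left] at this
  let D : G ⧸ U → K := fun q => d q.out
  have hD : ∀ (g : G) (q : G ⧸ U), MulAut.conjNormal g (D q) = (d g)⁻¹ * D (g • q) := by
    intro g q
    have h1 : D (g • q) = d (g * q.out) := by
      show d (g • q).out = d (g * q.out)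
      have : g • q = ((g * q.out : G) : G ⧸ U) := by
        conv_lhs => rw [← QuotientGroup.out_eq' q]
        rfl
      rw [this, hout]
    rw [h1, hd g q.out, inv_mul_cancel_left]
  let c : K := ∏ q, D q
  have hc : ∀ g : G, MulAut.conjNormal g c = ((d g)⁻¹) ^ U.index * c := by
    intro g
    show MulAut.conjNormal g (∏ q, D q) = _
    rw [map_prod]
    simp_rw [hD g]
    rw [Finset.prod_mul_distrib, Finset.prod_const, Finset.card_univ,
      ← Nat.card_eq_fintype_card, ← Subgroup.index_eq_card]
    congr 1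
    exact Equiv.prod_comp (MulAction.toPerm g) D
  refine ⟨c ^ (Nat.card K).gcdB U.index, fun g => ?_⟩
  have h1 : (d g) ^ U.index = c * (MulAut.conjNormal g c)⁻¹ := by
    rw [hc g, mul_inv_rev, inv_pow, inv_inv, mul_comm (c⁻¹), mul_comm, mul_assoc,
      inv_mul_cancel, mul_one]
  rw [map_zpow, ← inv_zpow, ← mul_zpow, ← h1, pow_zpow_gcdB hcop]

/-- Products and integer powers of crossed homomorphisms into an abelian `K` are crossed. -/
theorem IsCrossed.mul [IsMulCommutative K] {σ τ : G → K} (hσ : IsCrossed K σ)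
    (hτ : IsCrossed K τ) : IsCrossed K (fun g => σ g * τ g) := by
  intro g h
  show σ (g * h) * τ (g * h) = σ g * τ g * MulAut.conjNormal g (σ h * τ h)
  rw [hσ, hτ, map_mul]
  simp only [mul_comm, mul_left_comm, mul_assoc]

theorem IsCrossed.zpow [IsMulCommutative K] {σ : G → K} (hσ : IsCrossed K σ) (z : ℤ) :
    IsCrossed K (fun g => σ g ^ z) := by
  intro g h
  show σ (g * h) ^ z = σ g ^ z * MulAut.conjNormal g (σ h ^ z)
  rw [hσ, mul_zpow, map_zpow]

theorem IsCrossed.one : IsCrossed K (fun _ : G => (1 : K)) := by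
  intro g h
  simp

/-- A complement `A` of `K` inside `U = K ⊔ A` gives a map `φ : G → K` which is a crossed
homomorphism on `U`, is the identity on `K` and is trivial on `A`. -/
theorem exists_crossed_on_of_complement [IsMulCommutative K] (U A : Subgroup G)
    (hAK : A ⊓ K = ⊥) (hKA : K ⊔ A = U) :
    ∃ φ : G → K, (∀ u ∈ U, ∀ u' ∈ U, φ (u * u') = φ u * MulAut.conjNormal u (φ u')) ∧
      (∀ k : K, φ k = k) ∧ ∀ a ∈ A, φ a = 1 := by
  classical
  have hex : ∀ u ∈ U, ∃ k : K, ∃ a ∈ A, u = (k : G) * a := by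
    intro u hu
    rw [← hKA] at hu
    have h1 : u ∈ ((K ⊔ A : Subgroup G) : Set G) := hu
    rw [Subgroup.normal_mul] at h1
    obtain ⟨k, hk, a, ha, e⟩ := h1
    exact ⟨⟨k, hk⟩, a, ha, e.symm⟩
  have huniq : ∀ (k k' : K) (a a' : G), a ∈ A → a' ∈ A → (k : G) * a = k' * a' → k = k' := by
    intro k k' a a' ha ha' e
    have h1 : ((k' : G))⁻¹ * k = a' * a⁻¹ := by
      have : (k : G) = k' * a' * a⁻¹ := by rw [← e]; group
      rw [this]; group
    have h2 : ((k' : G))⁻¹ * k ∈ A ⊓ K :=
      ⟨by rw [h1]; exact A.mul_mem ha' (A.inv_mem ha), K.mul_mem (K.inv_mem k'.2) k.2⟩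
    rw [hAK, Subgroup.mem_bot] at h2
    apply Subtype.ext
    have := congrArg (fun x => (k' : G) * x) h2
    simpa using this
  let φ : G → K := fun g => if h : ∃ k : K, ∃ a ∈ A, g = (k : G) * a then h.choose else 1
  have key : ∀ (k : K) (a : G), a ∈ A → φ ((k : G) * a) = k := by
    intro k a ha
    have h : ∃ k' : K, ∃ a' ∈ A, (k : G) * a = (k' : G) * a' := ⟨k, a, ha, rfl⟩
    show (if h : ∃ k' : K, ∃ a' ∈ A, (k : G) * a = (k' : G) * a' then h.choose else 1) = k
    rw [dif_pos h]
    obtain ⟨a', ha', e⟩ := h.choose_spec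
    exact (huniq _ _ _ _ ha ha' e).symm
  refine ⟨φ, ?_, ?_, ?_⟩
  · intro u hu u' hu'
    obtain ⟨k, a, ha, rfl⟩ := hex u hu
    obtain ⟨k', a', ha', rfl⟩ := hex u' hu'
    have e : (k : G) * a * ((k' : G) * a')
        = ((k * MulAut.conjNormal a k' : K) : G) * (a * a') := by
      rw [Subgroup.coe_mul, MulAut.conjNormal_apply]
      group
    rw [e, key _ _ (A.mul_mem ha ha'), key _ _ ha, key _ _ ha', map_mul, MulAut.mul_apply,
      conjNormal_of_mem]
  · intro k
    have := key k 1 A.one_mem
    simpa using this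
  · intro a ha
    have := key 1 a ha
    simpa using this

/-- **Transfer of crossed homomorphisms.** A map `φ : G → K` which is crossed on a subgroup
`U ≥ K` of finite index and is the identity on `K` gives a crossed homomorphism `τ : G → K`
with `τ k = k ^ |G : U|` on `K`. -/
theorem exists_crossed_transfer [Finite G] [IsMulCommutative K] (U : Subgroup G) (hKU : K ≤ U)
    (φ : G → K) (hφ : ∀ u ∈ U, ∀ u' ∈ U, φ (u * u') = φ u * MulAut.conjNormal u (φ u'))
    (hφK : ∀ k : K, φ k = k) :
    ∃ τ : G → K, IsCrossed K τ ∧ ∀ k : K, τ k = k ^ U.index := by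
  classical
  have := Fintype.ofFinite (G ⧸ U)
  let s : G ⧸ U → G := Quotient.out
  have hs : ∀ q : G ⧸ U, ((s q : G) : G ⧸ U) = q := fun q => QuotientGroup.out_eq' q
  let u : G → G ⧸ U → G := fun g q => (s (g • q))⁻¹ * g * s q
  have hu : ∀ g q, u g q ∈ U := by
    intro g q
    have h1 : ((s (g • q) : G) : G ⧸ U) = ((g * s q : G) : G ⧸ U) := by
      rw [hs]
      conv_lhs => rw [← hs q]
      rfl
    have := QuotientGroup.eq.mp h1
    show (s (g • q))⁻¹ * g * s q ∈ U
    rwa [mul_assoc]
  have hu_mul : ∀ g h q, u (g * h) q = u g (h • q) * u h q := by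
    intro g h q
    show (s ((g * h) • q))⁻¹ * (g * h) * s q
      = ((s (g • h • q))⁻¹ * g * s (h • q)) * ((s (h • q))⁻¹ * h * s q)
    rw [mul_smul]; group
  have hsu : ∀ g q, s (g • q) * u g q = g * s q := by
    intro g q
    show s (g • q) * ((s (g • q))⁻¹ * g * s q) = g * s q
    group
  let τ : G → K := fun g => ∏ q, MulAut.conjNormal (s (g • q)) (φ (u g q))
  refine ⟨τ, ?_, ?_⟩
  · intro g h
    show (∏ q, MulAut.conjNormal (s ((g * h) • q)) (φ (u (g * h) q)))
      = (∏ q, MulAut.conjNormal (s (g • q)) (φ (u g q))) *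
        MulAut.conjNormal g (∏ q, MulAut.conjNormal (s (h • q)) (φ (u h q)))
    have h1 : ∀ q, MulAut.conjNormal (s ((g * h) • q)) (φ (u (g * h) q))
        = MulAut.conjNormal (s (g • (h • q))) (φ (u g (h • q))) *
          MulAut.conjNormal g (MulAut.conjNormal (s (h • q)) (φ (u h q))) := by
      intro q
      rw [hu_mul, hφ _ (hu g (h • q)) _ (hu h q), map_mul, mul_smul]
      congr 1
      rw [← MulAut.mul_apply, ← map_mul, hsu, map_mul, MulAut.mul_apply]
    simp_rw [h1]
    rw [Finset.prod_mul_distrib, map_prod]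
    congr 1
    exact Equiv.prod_comp (MulAction.toPerm h)
      (fun q => MulAut.conjNormal (s (g • q)) (φ (u g q)))
  · intro k
    have hkq : ∀ q : G ⧸ U, (k : G) • q = q := by
      intro q
      conv_lhs => rw [← hs q]
      conv_rhs => rw [← hs q]
      show (((k : G) * s q : G) : G ⧸ U) = ((s q : G) : G ⧸ U)
      rw [QuotientGroup.eq]
      have h2 : ((k : G) * s q)⁻¹ * s q = (s q)⁻¹ * (k : G)⁻¹ * s q := by group
      rw [h2]
      have h3 := (inferInstance : K.Normal).conj_mem _ (K.inv_mem k.2) (s q)⁻¹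
      rw [inv_inv] at h3
      exact hKU h3
    show (∏ q, MulAut.conjNormal (s ((k : G) • q)) (φ (u (k : G) q))) = k ^ U.index
    have h1 : ∀ q, MulAut.conjNormal (s ((k : G) • q)) (φ (u (k : G) q)) = k := by
      intro q
      have h2 : u (k : G) q = ((MulAut.conjNormal (s q)⁻¹ k : K) : G) := by
        show (s ((k : G) • q))⁻¹ * (k : G) * s q = _
        rw [hkq, MulAut.conjNormal_apply, inv_inv]
      rw [h2, hφK, hkq, ← MulAut.mul_apply, ← map_mul, mul_inv_cancel, map_one,
        MulAut.one_apply]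
    simp_rw [h1]
    rw [Finset.prod_const, Finset.card_univ, ← Nat.card_eq_fintype_card, ← Subgroup.index_eq_card]

/-- **Gaschütz, existence.** If the abelian normal subgroup `K` has a complement `A` in a
subgroup `U ≥ K` whose index is prime to `|K|`, then `K` has a complement in `G`. -/
theorem exists_isComplement'_of_complement_in [Finite G] [IsMulCommutative K] (U A : Subgroup G)
    (hcop : (Nat.card K).Coprime U.index) (hAK : A ⊓ K = ⊥) (hKA : K ⊔ A = U) :
    ∃ H : Subgroup G, Subgroup.IsComplement' K H := by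
  have hKU : K ≤ U := by rw [← hKA]; exact le_sup_left
  obtain ⟨φ, hφ, hφK, -⟩ := exists_crossed_on_of_complement U A hAK hKA
  obtain ⟨τ, hτ, hτK⟩ := exists_crossed_transfer U hKU φ hφ hφK
  have hσ := hτ.zpow ((Nat.card K).gcdB U.index)
  refine ⟨hσ.ker, hσ.isComplement'_ker (fun k => ?_)⟩
  show τ k ^ (Nat.card K).gcdB U.index = k
  rw [hτK, pow_zpow_gcdB hcop]

end Cfsg.Agent.Lib.Helper95_Gaschutz
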