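import Mathlib
import Cfsg.Agent.Lib.Helper95_ExtraOps
import Cfsg.Agent.Lib.Helper95_ExtraKer

set_option autoImplicit false

/-!
# A nondegenerate quadratic space over `ZMod 2` of dimension `2n` with a totally singular
`n`-space is the standard hyperbolic space
-/

namespace Cfsg.Agent.Lib.Helper95_HypModel

open Module Matrix Cfsg.Agent.Lib.Helper95_ExtraOps Cfsg.Agent.Lib.Helper95_ExtraKer

variable {U : Type*} [AddCommGroup U] [Module (ZMod 2) U] [Module.Finite (ZMod 2) U]

theorem exists_std (n : ℕ) (hn : Module.finrank (ZMod 2) U = 2 * n)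
    (q : QuadraticForm (ZMod 2) U) (hnd : (QuadraticMap.polarBilin q).Nondegenerate)
    (W : Submodule (ZMod 2) U) (hW : Module.finrank (ZMod 2) ↥W = n) (hq0 : ∀ w ∈ W, q w = 0) :
    ∃ φ : U ≃ₗ[ZMod 2] V n, ∀ u, q u = bet (φ u) (φ u) := by
  classical
  set B := QuadraticMap.polarBilin q with hB
  have hBdef : ∀ x y, B x y = q (x + y) - q x - q y := fun x y => rfl
  have hqadd : ∀ x y, q (x + y) = q x + q y + B x y := by
    intro x y; rw [hBdef]; ring
  have hBsymm : ∀ x y, B x y = B y x := by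
    intro x y; rw [hBdef, hBdef, add_comm x y]; ring
  have hBW : ∀ x ∈ W, ∀ y ∈ W, B x y = 0 := by
    intro x hx y hy
    rw [hBdef, hq0 x hx, hq0 y hy, hq0 _ (W.add_mem hx hy)]
    ring
  -- basis of W and the map E
  let bw : Basis (Fin n) (ZMod 2) ↥W := finBasisOfFinrankEq (ZMod 2) ↥W hW
  let E : I n →ₗ[ZMod 2] U := W.subtype ∘ₗ bw.equivFun.symm.toLinearMap
  have hEW : ∀ a, E a ∈ W := fun a => (bw.equivFun.symm a).2
  have hEinj : Function.Injective E := by
    intro a a' h
    have : (bw.equivFun.symm a : U) = bw.equivFun.symm a' := h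
    exact bw.equivFun.symm.injective (Subtype.ext this)
  -- dual vectors
  have hf' : ∀ i : Fin n, ∃ x : U, ∀ a : I n, B x (E a) = a i := by
    intro i
    obtain ⟨Λ, hΛ⟩ := LinearMap.exists_extend (bw.coord i)
    refine ⟨(LinearMap.BilinForm.toDual B hnd).symm Λ, fun a => ?_⟩
    rw [LinearMap.BilinForm.apply_toDual_symm_apply]
    have h1 := LinearMap.congr_fun hΛ (bw.equivFun.symm a)
    simp only [LinearMap.coe_comp, Function.comp_apply, Submodule.subtype_apply] at h1
    rw [Basis.coord_equivFun_symm] at h1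
    exact h1
  choose f' hf'E using hf'
  let F' : I n →ₗ[ZMod 2] U := Fintype.linearCombination (ZMod 2) f'
  have hF'E : ∀ b a : I n, B (F' b) (E a) = b ⬝ᵥ a := by
    intro b a
    simp only [F', Fintype.linearCombination_apply, map_sum, LinearMap.sum_apply, map_smul,
      LinearMap.smul_apply, hf'E, smul_eq_mul, dotProduct]
  -- the quadratic form on the complement and its bilinear lift
  obtain ⟨Δ, hΔ⟩ := LinearMap.BilinMap.toQuadraticMap_surjective (q.comp F')
  have hΔ' : ∀ b : I n, Δ b b = q (F' b) := by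
    intro b
    rw [← LinearMap.BilinMap.toQuadraticMap_apply, hΔ]
    rfl
  let D : I n →ₗ[ZMod 2] I n := LinearMap.pi fun j => Δ.flip (Pi.single j 1)
  have hD : ∀ b : I n, b ⬝ᵥ D b = Δ b b := by
    intro b
    have h1 : ∀ j, D b j = Δ b (Pi.single j 1) := fun j => rfl
    have h2 : b = ∑ j, b j • (Pi.single j (1 : ZMod 2) : I n) := by
      funext k
      simp [Finset.sum_apply, Pi.single_apply]
    conv_rhs => rw [h2]
    rw [map_sum]
    simp only [dotProduct, h1, map_smul, smul_eq_mul]
    apply Finset.sum_congr rfl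
    intro j _
    rw [← h2]
  let F : I n →ₗ[ZMod 2] U := F' + E ∘ₗ D
  have hFq : ∀ b, q (F b) = 0 := by
    intro b
    show q (F' b + E (D b)) = 0
    rw [hqadd, hq0 _ (hEW _), hF'E, hD, hΔ', add_zero]
    exact add_self_zmod2 _
  have hFE : ∀ b a : I n, B (F b) (E a) = b ⬝ᵥ a := by
    intro b a
    show B (F' b + E (D b)) (E a) = b ⬝ᵥ a
    rw [map_add, LinearMap.add_apply, hF'E, hBW _ (hEW _) _ (hEW _), add_zero]
  let ψ : V n →ₗ[ZMod 2] U := LinearMap.coprod E F
  have hψq : ∀ v : V n, q (ψ v) = bet v v := by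
    rintro ⟨a, b⟩
    show q (E a + F b) = bet (a, b) (a, b)
    rw [hqadd, hq0 _ (hEW _), hFq, hBsymm, hFE, zero_add, zero_add, dotProduct_comm]
    rfl
  have hψinj : Function.Injective ψ := by
    rw [← LinearMap.ker_eq_bot, LinearMap.ker_eq_bot']
    intro v hv
    apply polar_nondeg
    intro v'
    have h1 : B (ψ v') (ψ v) = bet v' v + bet v v' := by
      rw [hBdef, ← map_add, hψq, hψq, hψq, bet_add_left, bet_add_right, bet_add_right]
      ring
    rw [hv, map_zero] at h1
    rw [← h1]
  have hfr : finrank (ZMod 2) (V n) = finrank (ZMod 2) U := by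
    rw [hn, Module.finrank_prod, Module.finrank_pi]
    simp
    ring
  let e := LinearMap.linearEquivOfInjective ψ hψinj hfr
  refine ⟨e.symm, fun u => ?_⟩
  have h1 : ψ (e.symm u) = u := e.apply_symm_apply u
  rw [← hψq, h1]

end Cfsg.Agent.Lib.Helper95_HypModel
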