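import Cfsg.Agent.S0199
import Cfsg.Agent.Lib.Helper24_CoprimeAction

/-!
# A non-normal Sylow 2-subgroup contains an element inverting a nontrivial element of odd order

Consequence of the Baer–Suzuki theorem (`Cfsg.Agent.S0199`) and of relative Schur–Zassenhaus
conjugacy (`Cfsg.Agent.Lib.Helper24_CoprimeAction.sz_rel_conj`).
-/

set_option autoImplicit false

namespace Cfsg.Agent.Lib.Helper95_InvertOdd

open Cfsg.Agent.Lib.Helper71_Fitting
open Cfsg.Agent.Lib.Helper24_CoprimeAction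

variable {G : Type*} [Group G]

/-- In a `2`-group `P`, an element outside a subgroup `Z` has a power outside `Z` whose square
lies in `Z`. -/
theorem exists_sq_mem_of_not_mem {P Z : Subgroup G} (hP : IsPGroup 2 P) {t₀ : G} (ht₀ : t₀ ∈ P)
    (hZ : t₀ ∉ Z) : ∃ t ∈ P, t ∉ Z ∧ t ^ 2 ∈ Z := by
  classical
  obtain ⟨k, hk⟩ := hP ⟨t₀, ht₀⟩
  have hk' : t₀ ^ 2 ^ k = 1 := by
    have := congrArg Subtype.val hk
    simpa using this
  have hex : ∃ j, t₀ ^ 2 ^ j ∈ Z := ⟨k, by rw [hk']; exact Z.one_mem⟩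
  have hj0 : Nat.find hex ≠ 0 := by
    intro h0
    have := Nat.find_spec hex
    rw [h0] at this
    simp at this
    exact hZ this
  obtain ⟨j, hj⟩ := Nat.exists_eq_succ_of_ne_zero hj0
  refine ⟨t₀ ^ 2 ^ j, P.pow_mem ht₀ _, ?_, ?_⟩
  · exact Nat.find_min hex (by omega)
  · have := Nat.find_spec hex
    rw [hj, pow_succ, pow_mul] at this
    exact this

/-- `t` normalizes `H` as soon as conjugation by `t` maps `H` into itself (finite case). -/
theorem mem_normalizer_of_map_le [Finite G] {H : Subgroup G} {t : G}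
    (h : H.map (MulAut.conj t).toMonoidHom ≤ H) : t ∈ Subgroup.normalizer (H : Set G) := by
  rw [Subgroup.mem_normalizer_iff_map_conj_eq]
  apply Subgroup.eq_of_le_of_card_ge h
  rw [Subgroup.card_map_of_injective (MulAut.conj t).injective]

/-- Conjugation fixes a normal subgroup. -/
theorem map_conj_normal (Z : Subgroup G) [hZ : Z.Normal] (g : G) :
    Z.map (MulAut.conj g).toMonoidHom = Z := by
  ext y
  constructor
  · rintro ⟨z, hz, rfl⟩
    exact hZ.conj_mem z hz g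
  · intro hy
    refine ⟨g⁻¹ * y * g, ?_, by simp [mul_assoc]⟩
    have := hZ.conj_mem y hy g⁻¹
    simpa using this

/-- **Key lemma.** If a Sylow `2`-subgroup `P` of a finite group is not normal, then some `u ∈ P`
inverts a nontrivial element `x` of odd order. -/
theorem exists_invert_odd [Finite G] (P : Sylow 2 G) (hP : ¬ (P : Subgroup G).Normal) :
    ∃ u ∈ P, ∃ x : G, Odd (orderOf x) ∧ x ≠ 1 ∧ u * x * u⁻¹ = x⁻¹ := by
  have hp2 : Fact (Nat.Prime 2) := ⟨Nat.prime_two⟩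
  obtain ⟨Z, hZdef⟩ : ∃ Z : Subgroup G, Z = sylowCore 2 G := ⟨_, rfl⟩
  have hZn : Z.Normal := by rw [hZdef]; infer_instance
  have hZP : Z ≤ P := fun z hz => mem_sylowCore.mp (hZdef ▸ hz) P
  have hZ2 : IsPGroup 2 Z := by rw [hZdef]; exact sylowCore_isPGroup 2
  have hne : ¬ (P : Subgroup G) ≤ Z := by
    intro h
    apply hP
    have : (P : Subgroup G) = Z := le_antisymm h hZP
    rw [this]; exact hZn
  obtain ⟨t₀, ht₀P, ht₀Z⟩ := SetLike.not_le_iff_exists.mp hne
  obtain ⟨t, htP, htZ, ht2⟩ := exists_sq_mem_of_not_mem P.isPGroup' ht₀P ht₀Z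
  have hXP : Z ⊔ Subgroup.zpowers t ≤ P := sup_le hZP (by rw [Subgroup.zpowers_le]; exact htP)
  have hX2 : IsPGroup 2 ↥(Z ⊔ Subgroup.zpowers t) := P.isPGroup'.to_le hXP
  -- Baer–Suzuki
  have hBS : ∃ g : G, ¬ IsPGroup 2 ↥((Z ⊔ Subgroup.zpowers t) ⊔
      (Z ⊔ Subgroup.zpowers t).map (MulAut.conj g).toMonoidHom) := by
    by_contra hcon
    push Not at hcon
    obtain ⟨N, hNn, hN2, hXN⟩ := Cfsg.Agent.S0199.result (Z ⊔ Subgroup.zpowers t) hX2 hcon
    have : N ≤ Z := by rw [hZdef]; exact le_sylowCore_of_normal hN2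
    exact htZ (this (hXN (le_sup_right (a := Z) (Subgroup.mem_zpowers t))))
  obtain ⟨g, hg⟩ := hBS
  obtain ⟨s, hs⟩ : ∃ s : G, s = g * t * g⁻¹ := ⟨_, rfl⟩
  obtain ⟨d, hd⟩ : ∃ d : G, d = t * s := ⟨_, rfl⟩
  have hs2 : s ^ 2 ∈ Z := by
    have : s ^ 2 = g * t ^ 2 * g⁻¹ := by rw [hs, conj_pow]
    rw [this]
    exact hZn.conj_mem _ ht2 g
  have htd : t * d * t⁻¹ = t ^ 2 * s ^ 2 * d⁻¹ := by
    rw [hd, mul_inv_rev]; simp [pow_two, mul_assoc]
  have hXg : (Z ⊔ Subgroup.zpowers t).map (MulAut.conj g).toMonoidHom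
      = Z ⊔ Subgroup.zpowers s := by
    rw [Subgroup.map_sup, MonoidHom.map_zpowers, map_conj_normal, hs]
    rfl
  rw [hXg] at hg
  -- the order of `d` is not a power of `2`
  have hdnot : ∀ a : ℕ, orderOf d ≠ 2 ^ a := by
    intro a ha
    apply hg
    have hd2 : IsPGroup 2 (Subgroup.zpowers d) := by
      apply IsPGroup.of_card (n := a)
      rw [Nat.card_zpowers, ha]
    have hD2 : IsPGroup 2 ↥(Z ⊔ Subgroup.zpowers d) := hZ2.to_sup_of_normal_left hd2
    have htD : Subgroup.zpowers t ≤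
        Subgroup.normalizer ((Z ⊔ Subgroup.zpowers d : Subgroup G) : Set G) := by
      rw [Subgroup.zpowers_le]
      apply mem_normalizer_of_map_le
      rw [Subgroup.map_sup, map_conj_normal, MonoidHom.map_zpowers]
      apply sup_le le_sup_left
      rw [Subgroup.zpowers_le]
      show t * d * t⁻¹ ∈ _
      rw [htd]
      exact Subgroup.mul_mem _ (Subgroup.mem_sup_left (Z.mul_mem ht2 hs2))
        (Subgroup.inv_mem _ (Subgroup.mem_sup_right (Subgroup.mem_zpowers d)))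
    have ht2' : IsPGroup 2 (Subgroup.zpowers t) :=
      P.isPGroup'.to_le (by rw [Subgroup.zpowers_le]; exact htP)
    have hK2 := hD2.to_sup_of_normal_left' ht2' htD
    refine hK2.to_le ?_
    have htm : t ∈ (Z ⊔ Subgroup.zpowers d) ⊔ Subgroup.zpowers t :=
      Subgroup.mem_sup_right (Subgroup.mem_zpowers t)
    have hdm : d ∈ (Z ⊔ Subgroup.zpowers d) ⊔ Subgroup.zpowers t :=
      Subgroup.mem_sup_left (Subgroup.mem_sup_right (Subgroup.mem_zpowers d))
    have hZle : Z ≤ (Z ⊔ Subgroup.zpowers d) ⊔ Subgroup.zpowers t :=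
      le_sup_left.trans le_sup_left
    refine sup_le (sup_le hZle ?_) (sup_le hZle ?_)
    · rw [Subgroup.zpowers_le]; exact htm
    · rw [Subgroup.zpowers_le]
      have : s = t⁻¹ * d := by rw [hd]; group
      rw [this]
      exact Subgroup.mul_mem _ (Subgroup.inv_mem _ htm) hdm
  -- the odd part of `d`
  have hd0 : orderOf d ≠ 0 := (orderOf_pos d).ne'
  obtain ⟨a, m, hm, hdm⟩ := Nat.exists_eq_two_pow_mul_odd hd0
  obtain ⟨x, hx⟩ : ∃ x : G, x = d ^ 2 ^ a := ⟨_, rfl⟩
  have hxord : orderOf x = m := by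
    rw [hx, orderOf_pow' _ (by positivity), hdm, Nat.gcd_eq_right (dvd_mul_right _ _)]
    exact Nat.mul_div_cancel_left m (by positivity)
  have hm1 : m ≠ 1 := by
    rintro rfl
    exact hdnot a (by simpa using hdm)
  have hx1 : x ≠ 1 := by
    intro h
    rw [h, orderOf_one] at hxord
    exact hm1 hxord.symm
  -- `t` inverts `x` modulo `Z`
  have htx : t * x * t⁻¹ * x ∈ Z := by
    rw [← QuotientGroup.eq_one_iff]
    have h1 : ((t * d * t⁻¹ : G) : G ⧸ Z) = ((d : G) : G ⧸ Z)⁻¹ := by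
      rw [htd]
      have : ((t ^ 2 * s ^ 2 : G) : G ⧸ Z) = 1 :=
        (QuotientGroup.eq_one_iff _).mpr (Z.mul_mem ht2 hs2)
      rw [QuotientGroup.mk_mul, this, one_mul, QuotientGroup.mk_inv]
    have h2 : t * x * t⁻¹ = (t * d * t⁻¹) ^ 2 ^ a := by rw [hx, conj_pow]
    rw [QuotientGroup.mk_mul, h2, QuotientGroup.mk_pow, h1, hx, QuotientGroup.mk_pow, inv_pow,
      inv_mul_cancel]
  -- relative Schur–Zassenhaus
  have hcop : (Nat.card (Subgroup.zpowers x)).Coprime (Nat.card Z) := by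
    rw [Nat.card_zpowers, hxord]
    obtain ⟨b, hb⟩ := IsPGroup.iff_card.mp hZ2
    rw [hb]
    exact Nat.Coprime.pow_right b (Nat.coprime_two_right.mpr hm)
  have hZsolv : Group.IsSolvable Z := by
    have := hZ2.isNilpotent
    infer_instance
  obtain ⟨k, hkZ, hk⟩ := sz_rel_conj (Subgroup.zpowers x) Z (Subgroup.zpowers (t * x * t⁻¹))
    (by rw [Subgroup.normalizer_eq_top]; exact le_top) hcop (Or.inr hZsolv)
    (by
      rw [Subgroup.zpowers_le]
      have : t * x * t⁻¹ = (t * x * t⁻¹ * x) * x⁻¹ := by group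
      rw [this]
      exact Subgroup.mul_mem _ (Subgroup.mem_sup_left htx)
        (Subgroup.inv_mem _ (Subgroup.mem_sup_right (Subgroup.mem_zpowers x))))
    (by
      rw [Nat.card_zpowers, Nat.card_zpowers]
      exact (MulAut.conj t).orderOf_eq x)
  rw [MonoidHom.map_zpowers] at hk
  have hmem : t * x * t⁻¹ ∈ Subgroup.zpowers (k * x * k⁻¹) := by
    have : t * x * t⁻¹ ∈ Subgroup.zpowers (t * x * t⁻¹) := Subgroup.mem_zpowers _
    rw [← hk] at this
    exact this
  obtain ⟨j, hj⟩ := Subgroup.mem_zpowers_iff.mp hmem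
  have hdisj : Z ⊓ Subgroup.zpowers x = ⊥ := by
    rw [inf_comm]; exact (Subgroup.disjoint_of_coprime_natCard hcop).eq_bot
  refine ⟨k⁻¹ * t, P.mul_mem (P.inv_mem (hZP hkZ)) htP, x, by rw [hxord]; exact hm, hx1, ?_⟩
  have hu1 : k⁻¹ * t * x * (k⁻¹ * t)⁻¹ = x ^ j := by
    have : k⁻¹ * t * x * (k⁻¹ * t)⁻¹ = k⁻¹ * (t * x * t⁻¹) * k := by group
    rw [this, ← hj, conj_zpow]
    group
  have hu2 : k⁻¹ * t * x * (k⁻¹ * t)⁻¹ * x ∈ Z := by
    have : k⁻¹ * t * x * (k⁻¹ * t)⁻¹ * x = k⁻¹ * (t * x * t⁻¹ * x) * (x⁻¹ * k * x⁻¹⁻¹) := by group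
    rw [this]
    exact Z.mul_mem (Z.mul_mem (Z.inv_mem hkZ) htx) (hZn.conj_mem k hkZ x⁻¹)
  have hu3 : k⁻¹ * t * x * (k⁻¹ * t)⁻¹ * x ∈ Z ⊓ Subgroup.zpowers x := by
    refine ⟨hu2, ?_⟩
    rw [hu1]
    exact Subgroup.mul_mem _ (Subgroup.zpow_mem _ (Subgroup.mem_zpowers x) j)
      (Subgroup.mem_zpowers x)
  rw [hdisj, Subgroup.mem_bot] at hu3
  exact eq_inv_of_mul_eq_one_left hu3

/-- An element of odd order equal to its inverse is trivial. -/
theorem eq_one_of_odd_of_eq_inv {x : G} (hodd : Odd (orderOf x)) (h : x = x⁻¹) : x = 1 := by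
  have hx2 : x ^ 2 = 1 := by
    rw [pow_two]
    nth_rewrite 1 [h]
    exact inv_mul_cancel x
  have hdvd : orderOf x ∣ 2 := orderOf_dvd_of_pow_eq_one hx2
  have h1 : orderOf x = 1 := by
    rcases (Nat.dvd_prime Nat.prime_two).mp hdvd with h | h
    · exact h
    · rw [h] at hodd
      exact absurd hodd (by decide)
  exact orderOf_eq_one_iff.mp h1

/-- If `u` inverts `x` then `u` normalizes `⟨x⟩`. -/
theorem mem_normalizer_zpowers_of_invert [Finite G] {u x : G} (hux : u * x * u⁻¹ = x⁻¹) :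
    u ∈ Subgroup.normalizer ((Subgroup.zpowers x : Subgroup G) : Set G) := by
  apply mem_normalizer_of_map_le
  rw [MonoidHom.map_zpowers, Subgroup.zpowers_le]
  show u * x * u⁻¹ ∈ _
  rw [hux]
  exact Subgroup.inv_mem _ (Subgroup.mem_zpowers x)

/-- The centralizer of `H` is normal in the normalizer of `H`. -/
theorem centralizer_subgroupOf_normalizer_normal (H : Subgroup G) :
    ((Subgroup.centralizer (H : Set G)).subgroupOf (Subgroup.normalizer (H : Set G))).Normal := by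
  refine ⟨fun c hc n => ?_⟩
  rw [Subgroup.mem_subgroupOf] at hc ⊢
  rw [Subgroup.mem_centralizer_iff] at hc ⊢
  intro h hh
  have hn : (n : G)⁻¹ * h * ((n : G)⁻¹)⁻¹ ∈ H :=
    (Subgroup.mem_normalizer_iff.mp (Subgroup.inv_mem _ n.2) h).mp hh
  have := hc _ hn
  simp only [inv_inv] at this
  simp only [Subgroup.coe_mul, Subgroup.coe_inv]
  calc h * ((n : G) * (c : G) * (n : G)⁻¹)
      = (n : G) * (((n : G)⁻¹ * h * (n : G)) * (c : G)) * (n : G)⁻¹ := by group
    _ = (n : G) * ((c : G) * ((n : G)⁻¹ * h * (n : G))) * (n : G)⁻¹ := by rw [this]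
    _ = (n : G) * (c : G) * (n : G)⁻¹ * h := by group

/-- A `2`-element normalizing `H` centralizes it when `|N_G(H) : C_G(H)|` is odd. -/
theorem mem_centralizer_of_odd_relIndex {H : Subgroup G} {u : G} {k : ℕ} (hu : u ^ 2 ^ k = 1)
    (hun : u ∈ Subgroup.normalizer (H : Set G))
    (hodd : ¬ 2 ∣ (Subgroup.centralizer (H : Set G)).relIndex (Subgroup.normalizer (H : Set G))) :
    u ∈ Subgroup.centralizer (H : Set G) := by
  have hCn := centralizer_subgroupOf_normalizer_normal H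
  have hpow := Subgroup.pow_index_mem
    ((Subgroup.centralizer (H : Set G)).subgroupOf (Subgroup.normalizer (H : Set G))) ⟨u, hun⟩
  rw [Subgroup.mem_subgroupOf] at hpow
  have hpow' : u ^ (Subgroup.centralizer (H : Set G)).relIndex (Subgroup.normalizer (H : Set G))
      ∈ Subgroup.centralizer (H : Set G) := by
    simpa [Subgroup.relIndex] using hpow
  have hord : orderOf u ∣ 2 ^ k := orderOf_dvd_of_pow_eq_one hu
  obtain ⟨j, -, hj⟩ := (Nat.dvd_prime_pow Nat.prime_two).mp hord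
  have hcop : ((Subgroup.centralizer (H : Set G)).relIndex
      (Subgroup.normalizer (H : Set G))).Coprime (orderOf u) := by
    rw [hj]
    apply Nat.Coprime.pow_right
    exact (Nat.Prime.coprime_iff_not_dvd Nat.prime_two).mpr hodd |>.symm
  obtain ⟨m, hm⟩ := exists_pow_eq_self_of_coprime hcop
  rw [← hm]
  exact Subgroup.pow_mem _ hpow' m

end Cfsg.Agent.Lib.Helper95_InvertOdd
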