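import Mathlib

set_option autoImplicit false

/-!
# Krull–Schmidt (Remak) for finite groups (helper95)

* `Indec X`: `X` is not the internal direct product of two nontrivial normal subgroups.
* `fitting`: a normal endomorphism of a finite indecomposable group is bijective or nilpotent.
* `exchange_two`: the two-factor exchange lemma.
-/

namespace Cfsg.Agent.Lib.Helper95_KrullSchmidt

universe u v w

/-- Directly indecomposable (the trivial group is allowed). -/
def Indec (X : Type*) [Group X] : Prop :=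
  ∀ H K : Subgroup X, H.Normal → K.Normal → H ⊓ K = ⊥ → H ⊔ K = ⊤ → H = ⊥ ∨ K = ⊥

/-- Indecomposability is invariant under isomorphism. -/
theorem Indec.of_equiv {X Y : Type*} [Group X] [Group Y] (e : X ≃* Y) (h : Indec X) : Indec Y := by
  intro H K hH hK hinf hsup
  have hH' : (H.comap e.toMonoidHom).Normal := hH.comap _
  have hK' : (K.comap e.toMonoidHom).Normal := hK.comap _
  have hs : Function.Surjective e.toMonoidHom := e.surjective
  have h1 : H.comap e.toMonoidHom ⊓ K.comap e.toMonoidHom = ⊥ := by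
    rw [← Subgroup.comap_inf, hinf]
    ext x
    simp
  have h2 : H.comap e.toMonoidHom ⊔ K.comap e.toMonoidHom = ⊤ := by
    rw [Subgroup.comap_sup_eq _ _ _ hs, hsup]
    rfl
  rcases h _ _ hH' hK' h1 h2 with h3 | h3
  · left
    rw [eq_bot_iff]
    intro y hy
    obtain ⟨x, rfl⟩ := e.surjective y
    have : x ∈ H.comap e.toMonoidHom := hy
    rw [h3, Subgroup.mem_bot] at this
    rw [this, map_one]
    exact Subgroup.one_mem _
  · right
    rw [eq_bot_iff]
    intro y hy
    obtain ⟨x, rfl⟩ := e.surjective y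
    have : x ∈ K.comap e.toMonoidHom := hy
    rw [h3, Subgroup.mem_bot] at this
    rw [this, map_one]
    exact Subgroup.one_mem _

section Fitting

variable {X : Type*} [Group X]

/-- A normal endomorphism commutes with all inner automorphisms. -/
def IsNormalEndo (φ : X →* X) : Prop := ∀ x a : X, φ (x * a * x⁻¹) = x * φ a * x⁻¹

/-- Iterates of an endomorphism. -/
def iter (φ : X →* X) : ℕ → (X →* X)
  | 0 => MonoidHom.id X
  | k + 1 => φ.comp (iter φ k)

theorem iter_zero (φ : X →* X) : iter φ 0 = MonoidHom.id X := rfl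

theorem iter_succ (φ : X →* X) (k : ℕ) : iter φ (k + 1) = φ.comp (iter φ k) := rfl

theorem iter_succ' (φ : X →* X) (k : ℕ) : iter φ (k + 1) = (iter φ k).comp φ := by
  induction k with
  | zero => rfl
  | succ k ih =>
    calc iter φ (k + 1 + 1) = φ.comp (iter φ (k + 1)) := rfl
      _ = φ.comp ((iter φ k).comp φ) := by rw [ih]
      _ = (φ.comp (iter φ k)).comp φ := by rw [MonoidHom.comp_assoc]
      _ = (iter φ (k + 1)).comp φ := rfl

theorem iter_add (φ : X →* X) (a b : ℕ) : iter φ (a + b) = (iter φ a).comp (iter φ b) := by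
  induction a with
  | zero => rw [Nat.zero_add]; rfl
  | succ a ih =>
    rw [Nat.succ_add, iter_succ, ih, iter_succ, MonoidHom.comp_assoc]

theorem IsNormalEndo.iter {φ : X →* X} (h : IsNormalEndo φ) (k : ℕ) : IsNormalEndo (iter φ k) := by
  induction k with
  | zero => intro x a; rfl
  | succ k ih =>
    intro x a
    rw [iter_succ, MonoidHom.comp_apply, ih, h, MonoidHom.comp_apply]

theorem ker_iter_mono (φ : X →* X) : Monotone (fun k => (iter φ k).ker) := by
  apply monotone_nat_of_le_succ
  intro k x hx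
  rw [MonoidHom.mem_ker] at hx ⊢
  rw [iter_succ, MonoidHom.comp_apply, hx, map_one]

/-- **Fitting's lemma** for finite indecomposable groups. -/
theorem fitting [Finite X] (hX : Indec X) (φ : X →* X) (hφ : IsNormalEndo φ) :
    Function.Bijective φ ∨ ∃ k, ∀ a, iter φ k a = 1 := by
  obtain ⟨n, hn⟩ := WellFoundedGT.monotone_chain_condition
    (⟨fun k => (iter φ k).ker, ker_iter_mono φ⟩ : ℕ →o Subgroup X)
  have hn' : ∀ m, n ≤ m → (iter φ n).ker = (iter φ m).ker := hn
  -- ψ = φ^(n+1)
  set ψ := iter φ (n + 1) with hψ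
  have hker : ψ.ker = (ψ.comp ψ).ker := by
    rw [hψ, ← iter_add, ← hn' (n + 1) (by omega), ← hn' (n + 1 + (n + 1)) (by omega)]
  have hψn : IsNormalEndo ψ := hφ.iter _
  have hinf : ψ.ker ⊓ ψ.range = ⊥ := by
    rw [eq_bot_iff]
    rintro x ⟨hx1, y, rfl⟩
    have : y ∈ (ψ.comp ψ).ker := by
      rw [MonoidHom.mem_ker, MonoidHom.comp_apply]
      exact hx1
    rw [← hker, MonoidHom.mem_ker] at this
    rw [this]
    exact Subgroup.one_mem _
  -- ψ restricted to its range is injective hence surjective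
  have hsurj : ∀ x : X, ∃ r ∈ ψ.range, ψ r = ψ x := by
    intro x
    let f : ψ.range → ψ.range := fun r => ⟨ψ r, ⟨r, rfl⟩⟩
    have hf : Function.Injective f := by
      intro r s hrs
      have h1 : ψ (r : X) = ψ (s : X) := congrArg Subtype.val hrs
      have h2 : (r : X)⁻¹ * s ∈ ψ.ker ⊓ ψ.range := by
        refine Subgroup.mem_inf.mpr ⟨?_, Subgroup.mul_mem _ (Subgroup.inv_mem _ r.2) s.2⟩
        rw [MonoidHom.mem_ker, map_mul, map_inv, h1, inv_mul_cancel]
      rw [hinf, Subgroup.mem_bot] at h2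
      apply Subtype.ext
      exact inv_mul_eq_one.mp h2
    obtain ⟨r, hr⟩ := (Finite.injective_iff_surjective.mp hf) ⟨ψ x, ⟨x, rfl⟩⟩
    exact ⟨r, r.2, congrArg Subtype.val hr⟩
  have hsup : ψ.ker ⊔ ψ.range = ⊤ := by
    rw [eq_top_iff]
    intro x _
    obtain ⟨r, hr, hrx⟩ := hsurj x
    have h1 : x * r⁻¹ ∈ ψ.ker := by
      rw [MonoidHom.mem_ker, map_mul, map_inv, hrx, mul_inv_cancel]
    have : x = (x * r⁻¹) * r := by group
    rw [this]
    exact Subgroup.mul_mem_sup h1 hr
  have hrn : ψ.range.Normal := by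
    constructor
    rintro _ ⟨a, rfl⟩ x
    exact ⟨x * a * x⁻¹, hψn x a⟩
  rcases hX _ _ (MonoidHom.normal_ker ψ) hrn hinf hsup with h | h
  · left
    have hinj : Function.Injective φ := by
      have h1 : Function.Injective ψ := (MonoidHom.ker_eq_bot_iff ψ).mp h
      rw [hψ, iter_succ'] at h1
      intro a b hab
      apply h1
      rw [MonoidHom.comp_apply, MonoidHom.comp_apply, hab]
    exact ⟨hinj, Finite.injective_iff_surjective.mp hinj⟩
  · right
    refine ⟨n + 1, fun a => ?_⟩
    have : ψ a ∈ ψ.range := ⟨a, rfl⟩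
    rw [h, Subgroup.mem_bot] at this
    exact this

end Fitting

section Exchange

variable {A C K K' : Type*} [Group A] [Group C] [Group K] [Group K']

/-- `A → A × C → K × K' → K`. -/
def fAK (e : A × C ≃* K × K') : A →* K :=
  (MonoidHom.fst K K').comp (e.toMonoidHom.comp (MonoidHom.inl A C))

/-- `A → A × C → K × K' → K'`. -/
def fAK' (e : A × C ≃* K × K') : A →* K' :=
  (MonoidHom.snd K K').comp (e.toMonoidHom.comp (MonoidHom.inl A C))

/-- `K → K × K' → A × C → A`. -/
def gKA (e : A × C ≃* K × K') : K →* A :=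
  (MonoidHom.fst A C).comp (e.symm.toMonoidHom.comp (MonoidHom.inl K K'))

/-- `K' → K × K' → A × C → A`. -/
def gK'A (e : A × C ≃* K × K') : K' →* A :=
  (MonoidHom.fst A C).comp (e.symm.toMonoidHom.comp (MonoidHom.inr K K'))

theorem fAK_apply (e : A × C ≃* K × K') (a : A) : fAK e a = (e (a, 1)).1 := rfl
theorem fAK'_apply (e : A × C ≃* K × K') (a : A) : fAK' e a = (e (a, 1)).2 := rfl
theorem gKA_apply (e : A × C ≃* K × K') (k : K) : gKA e k = (e.symm (k, 1)).1 := rfl
theorem gK'A_apply (e : A × C ≃* K × K') (k : K') : gK'A e k = (e.symm (1, k)).1 := rfl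

/-- The two composite endomorphisms of `A` multiply to the identity. -/
theorem comp_mul_comp (e : A × C ≃* K × K') (a : A) :
    gKA e (fAK e a) * gK'A e (fAK' e a) = a := by
  rw [gKA_apply, gK'A_apply, fAK_apply, fAK'_apply, ← Prod.fst_mul, ← map_mul]
  have : ((e (a, 1)).1, (1 : K')) * ((1 : K), (e (a, 1)).2) = e (a, 1) := by
    ext <;> simp
  rw [this, MulEquiv.symm_apply_apply]

/-- Conjugation formula in `K`: the range of `fAK` is normal. -/
theorem conj_fAK (e : A × C ≃* K × K') (k : K) (a : A) :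
    k * fAK e a * k⁻¹ = fAK e ((e.symm (k, 1)).1 * a * ((e.symm (k, 1)).1)⁻¹) := by
  have h1 : e (e.symm (k, 1) * (a, 1) * (e.symm (k, 1))⁻¹) = (k, 1) * e (a, 1) * (k, 1)⁻¹ := by
    rw [map_mul, map_mul, map_inv, MulEquiv.apply_symm_apply]
  have h2 : e.symm (k, 1) * (a, 1) * (e.symm (k, 1))⁻¹ =
      ((e.symm (k, 1)).1 * a * ((e.symm (k, 1)).1)⁻¹, 1) := by
    ext <;> simp
  rw [h2] at h1
  rw [fAK_apply, fAK_apply, h1]
  simp

/-- Conjugation formula in `K'`: the range of `fAK'` is normal. -/
theorem conj_fAK' (e : A × C ≃* K × K') (k : K') (a : A) :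
    k * fAK' e a * k⁻¹ = fAK' e ((e.symm (1, k)).1 * a * ((e.symm (1, k)).1)⁻¹) := by
  have h1 : e (e.symm (1, k) * (a, 1) * (e.symm (1, k))⁻¹) = (1, k) * e (a, 1) * (1, k)⁻¹ := by
    rw [map_mul, map_mul, map_inv, MulEquiv.apply_symm_apply]
  have h2 : e.symm (1, k) * (a, 1) * (e.symm (1, k))⁻¹ =
      ((e.symm (1, k)).1 * a * ((e.symm (1, k)).1)⁻¹, 1) := by
    ext <;> simp
  rw [h2] at h1
  rw [fAK'_apply, fAK'_apply, h1]
  simp

/-- `gKA ∘ fAK` is a normal endomorphism of `A`. -/
theorem isNormalEndo_comp (e : A × C ≃* K × K') : IsNormalEndo ((gKA e).comp (fAK e)) := by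
  intro x a
  rw [MonoidHom.comp_apply, MonoidHom.comp_apply, gKA_apply, gKA_apply, fAK_apply, fAK_apply]
  -- P z := e.symm ((e z).1, 1) satisfies P (w z w⁻¹) = w P z w⁻¹
  have key : e.symm ((e ((x, 1) * (a, 1) * (x, 1)⁻¹)).1, 1) =
      (x, 1) * e.symm ((e (a, 1)).1, 1) * (x, 1)⁻¹ := by
    apply e.injective
    have h3 : e ((x, 1) * e.symm ((e (a, 1)).1, 1) * (x, 1)⁻¹) =
        e (x, 1) * ((e (a, 1)).1, 1) * (e (x, 1))⁻¹ := by
      rw [map_mul, map_mul, map_inv, MulEquiv.apply_symm_apply]
    rw [h3, MulEquiv.apply_symm_apply, map_mul, map_mul, map_inv]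
    ext <;> simp
  have h2 : ((x, 1) * (a, 1) * (x, 1)⁻¹ : A × C) = (x * a * x⁻¹, 1) := by
    ext <;> simp
  rw [h2] at key
  rw [key]
  simp

/-- If `φ` is nilpotent and `φ a * ψ a = a` for all `a`, then `ψ` is injective. -/
theorem injective_of_nilpotent_of_mul {X : Type*} [Group X] (φ ψ : X →* X)
    (hsum : ∀ a, φ a * ψ a = a) {k : ℕ} (hk : ∀ a, iter φ k a = 1) : Function.Injective ψ := by
  rw [injective_iff_map_eq_one]
  intro a ha
  have h1 : φ a = a := by
    have := hsum a
    rwa [ha, mul_one] at this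
  have h2 : ∀ j, iter φ j a = a := by
    intro j
    induction j with
    | zero => rfl
    | succ j ih => rw [iter_succ, MonoidHom.comp_apply, ih, h1]
  rw [← h2 k, hk]

/-- **Two-factor exchange lemma.** -/
theorem exchange_two [Finite A] [Finite C] [Finite K] [Finite K']
    (hA : Indec A) [hA1 : Nontrivial A] (hK : Indec K) (e : A × C ≃* K × K') :
    (Nonempty (A ≃* K) ∧ Nonempty (C ≃* K')) ∨
      ∃ C' : Subgroup K', Nonempty (K' ≃* A × C') ∧ Nonempty (C ≃* K × C') := by
  have hcard : Nat.card A * Nat.card C = Nat.card K * Nat.card K' := by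
    rw [← Nat.card_prod, ← Nat.card_prod]
    exact Nat.card_congr e.toEquiv
  have hApos : 0 < Nat.card A := Nat.card_pos
  rcases fitting hA _ (isNormalEndo_comp e) with hφ | ⟨k, hk⟩
  · -- `gKA ∘ fAK` is bijective
    left
    have hfinj : Function.Injective (fAK e) := by
      intro a b hab
      apply hφ.1
      rw [MonoidHom.comp_apply, MonoidHom.comp_apply, hab]
    have hgsurj : Function.Surjective (gKA e) := by
      intro a
      obtain ⟨b, hb⟩ := hφ.2 a
      exact ⟨fAK e b, hb⟩
    -- `K = range fAK × ker gKA`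
    have hinf : (fAK e).range ⊓ (gKA e).ker = ⊥ := by
      rw [eq_bot_iff]
      rintro _ ⟨⟨a, rfl⟩, h2⟩
      have h3 : (gKA e).comp (fAK e) a = 1 := h2
      have h4 : a = 1 := hφ.1 (by rw [h3, map_one])
      rw [h4, map_one]
      exact Subgroup.one_mem _
    have hsup : (fAK e).range ⊔ (gKA e).ker = ⊤ := by
      rw [eq_top_iff]
      intro k _
      obtain ⟨a, ha⟩ := hφ.2 (gKA e k)
      have h1 : (fAK e a)⁻¹ * k ∈ (gKA e).ker := by
        rw [MonoidHom.mem_ker, map_mul, map_inv]
        have : gKA e (fAK e a) = gKA e k := ha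
        rw [this, inv_mul_cancel]
      have : k = fAK e a * ((fAK e a)⁻¹ * k) := by group
      rw [this]
      exact Subgroup.mul_mem_sup ⟨a, rfl⟩ h1
    have hrn : (fAK e).range.Normal := by
      constructor
      rintro _ ⟨a, rfl⟩ k
      exact ⟨_, (conj_fAK e k a).symm⟩
    have hgker : (gKA e).ker = ⊥ := by
      rcases hK _ _ hrn (MonoidHom.normal_ker _) hinf hsup with h | h
      · exfalso
        obtain ⟨a, ha⟩ := exists_ne (1 : A)
        apply ha
        apply hfinj
        have : fAK e a ∈ (fAK e).range := ⟨a, rfl⟩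
        rw [h, Subgroup.mem_bot] at this
        rw [this, map_one]
      · exact h
    have hgbij : Function.Bijective (gKA e) :=
      ⟨(MonoidHom.ker_eq_bot_iff _).mp hgker, hgsurj⟩
    have eAK : K ≃* A := MulEquiv.ofBijective (gKA e) hgbij
    refine ⟨⟨eAK.symm⟩, ?_⟩
    have hcAK : Nat.card K = Nat.card A := Nat.card_congr eAK.toEquiv
    have hcC : Nat.card C = Nat.card K' := by
      rw [hcAK] at hcard
      exact Nat.eq_of_mul_eq_mul_left hApos hcard
    -- `μ : K' → C`
    let μ : K' →* C := (MonoidHom.snd A C).comp (e.symm.toMonoidHom.comp (MonoidHom.inr K K'))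
    have hμ : Function.Injective μ := by
      rw [injective_iff_map_eq_one]
      intro k' hk'
      have h1 : (e.symm (1, k')).2 = 1 := hk'
      have h2 : e.symm (1, k') = ((e.symm (1, k')).1, 1) := by
        ext
        · rfl
        · exact h1
      have h3 : e ((e.symm (1, k')).1, 1) = (1, k') := by
        rw [← h2, MulEquiv.apply_symm_apply]
      have h4 : fAK e (e.symm (1, k')).1 = 1 := by
        rw [fAK_apply, h3]
      have h5 : (e.symm (1, k')).1 = 1 := hfinj (by rw [h4, map_one])
      rw [h5] at h3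
      have h6 : e ((1 : A), (1 : C)) = 1 := map_one e
      rw [h6] at h3
      exact (congrArg Prod.snd h3).symm
    have hμb : Function.Bijective μ := hμ.bijective_of_nat_card_le (le_of_eq hcC)
    exact ⟨(MulEquiv.ofBijective μ hμb).symm⟩
  · -- `gKA ∘ fAK` is nilpotent, so `gK'A ∘ fAK'` is injective, hence bijective
    right
    have hψinj : Function.Injective ((gK'A e).comp (fAK' e)) :=
      injective_of_nilpotent_of_mul _ _ (fun a => comp_mul_comp e a) hk
    have hψ : Function.Bijective ((gK'A e).comp (fAK' e)) :=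
      ⟨hψinj, Finite.injective_iff_surjective.mp hψinj⟩
    have hfinj : Function.Injective (fAK' e) := by
      intro a b hab
      apply hψ.1
      rw [MonoidHom.comp_apply, MonoidHom.comp_apply, hab]
    have hinf : (fAK' e).range ⊓ (gK'A e).ker = ⊥ := by
      rw [eq_bot_iff]
      rintro _ ⟨⟨a, rfl⟩, h2⟩
      have h3 : (gK'A e).comp (fAK' e) a = 1 := h2
      have h4 : a = 1 := hψ.1 (by rw [h3, map_one])
      rw [h4, map_one]
      exact Subgroup.one_mem _
    have hrn : (fAK' e).range.Normal := by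
      constructor
      rintro _ ⟨a, rfl⟩ k
      exact ⟨_, (conj_fAK' e k a).symm⟩
    have hcomm : ∀ (a : A) (c : (gK'A e).ker), Commute (fAK' e a) ((gK'A e).ker.subtype c) := by
      intro a c
      exact Subgroup.commute_of_normal_of_disjoint _ _ hrn (MonoidHom.normal_ker _)
        (disjoint_iff.mpr hinf) _ _ ⟨a, rfl⟩ c.2
    refine ⟨(gK'A e).ker, ?_, ?_⟩
    · -- `K' ≃* A × ker`
      let τ : A × (gK'A e).ker →* K' := (fAK' e).noncommCoprod (gK'A e).ker.subtype hcomm
      have hτ : ∀ a c, τ (a, c) = fAK' e a * (c : K') := fun a c => rfl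
      have hτinj : Function.Injective τ := by
        rw [injective_iff_map_eq_one]
        rintro ⟨a, c⟩ h
        rw [hτ] at h
        have h1 : fAK' e a ∈ (fAK' e).range ⊓ (gK'A e).ker := by
          refine Subgroup.mem_inf.mpr ⟨⟨a, rfl⟩, ?_⟩
          rw [eq_inv_of_mul_eq_one_left h]
          exact Subgroup.inv_mem _ c.2
        rw [hinf, Subgroup.mem_bot] at h1
        have h2 : a = 1 := hfinj (by rw [h1, map_one])
        rw [h1, one_mul] at h
        ext
        · exact h2
        · exact h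
      have hτsurj : Function.Surjective τ := by
        intro k'
        obtain ⟨a, ha⟩ := hψ.2 (gK'A e k')
        have h1 : (fAK' e a)⁻¹ * k' ∈ (gK'A e).ker := by
          rw [MonoidHom.mem_ker, map_mul, map_inv]
          have : gK'A e (fAK' e a) = gK'A e k' := ha
          rw [this, inv_mul_cancel]
        refine ⟨(a, ⟨_, h1⟩), ?_⟩
        rw [hτ]
        simp
      exact ⟨(MulEquiv.ofBijective τ ⟨hτinj, hτsurj⟩).symm⟩
    · -- `C ≃* K × ker`
      have eK' : A × (gK'A e).ker ≃ K' := by
        let τ : A × (gK'A e).ker →* K' := (fAK' e).noncommCoprod (gK'A e).ker.subtype hcomm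
        have hτ : ∀ a c, τ (a, c) = fAK' e a * (c : K') := fun a c => rfl
        have hτinj : Function.Injective τ := by
          rw [injective_iff_map_eq_one]
          rintro ⟨a, c⟩ h
          rw [hτ] at h
          have h1 : fAK' e a ∈ (fAK' e).range ⊓ (gK'A e).ker := by
            refine Subgroup.mem_inf.mpr ⟨⟨a, rfl⟩, ?_⟩
            rw [eq_inv_of_mul_eq_one_left h]
            exact Subgroup.inv_mem _ c.2
          rw [hinf, Subgroup.mem_bot] at h1
          have h2 : a = 1 := hfinj (by rw [h1, map_one])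
          rw [h1, one_mul] at h
          ext
          · exact h2
          · exact h
        have hτsurj : Function.Surjective τ := by
          intro k'
          obtain ⟨a, ha⟩ := hψ.2 (gK'A e k')
          have h1 : (fAK' e a)⁻¹ * k' ∈ (gK'A e).ker := by
            rw [MonoidHom.mem_ker, map_mul, map_inv]
            have : gK'A e (fAK' e a) = gK'A e k' := ha
            rw [this, inv_mul_cancel]
          refine ⟨(a, ⟨_, h1⟩), ?_⟩
          rw [hτ]
          simp
        exact Equiv.ofBijective τ ⟨hτinj, hτsurj⟩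
      have hcK' : Nat.card K' = Nat.card A * Nat.card (gK'A e).ker := by
        rw [← Nat.card_prod]
        exact (Nat.card_congr eK').symm
      have hcC : Nat.card C = Nat.card K * Nat.card (gK'A e).ker := by
        rw [hcK'] at hcard
        have : Nat.card A * Nat.card C = Nat.card A * (Nat.card K * Nat.card (gK'A e).ker) := by
          rw [hcard]; ring
        exact Nat.eq_of_mul_eq_mul_left hApos this
      let ν : K × (gK'A e).ker →* C :=
        (MonoidHom.snd A C).comp (e.symm.toMonoidHom.comp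
          (MonoidHom.prodMap (MonoidHom.id K) (gK'A e).ker.subtype))
      have hν : ∀ k (c : (gK'A e).ker), ν (k, c) = (e.symm (k, (c : K'))).2 := fun k c => rfl
      have hνinj : Function.Injective ν := by
        rw [injective_iff_map_eq_one]
        rintro ⟨k, c⟩ h
        rw [hν] at h
        have h2 : e.symm (k, (c : K')) = ((e.symm (k, (c : K'))).1, 1) := by
          ext
          · rfl
          · exact h
        have h3 : e ((e.symm (k, (c : K'))).1, 1) = (k, (c : K')) := by
          rw [← h2, MulEquiv.apply_symm_apply]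
        have h4 : fAK' e (e.symm (k, (c : K'))).1 = (c : K') := by
          rw [fAK'_apply, h3]
        have h5 : (gK'A e).comp (fAK' e) (e.symm (k, (c : K'))).1 = 1 := by
          rw [MonoidHom.comp_apply, h4]
          exact c.2
        have h6 : (e.symm (k, (c : K'))).1 = 1 := hψ.1 (by rw [h5, map_one])
        rw [h6] at h3
        have h7 : e ((1 : A), (1 : C)) = 1 := map_one e
        rw [h7] at h3
        ext
        · exact (congrArg Prod.fst h3).symm
        · exact (congrArg Prod.snd h3).symm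
      have hνb : Function.Bijective ν := hνinj.bijective_of_nat_card_le (by
        rw [Nat.card_prod]; exact le_of_eq hcC)
      exact ⟨(MulEquiv.ofBijective ν hνb).symm⟩

end Exchange

section FinProducts

/-- Split off the `p`-th factor of a finite product of groups. -/
def splitAt {n : ℕ} (B : Fin (n + 1) → Type u) [∀ j, Group (B j)] (p : Fin (n + 1)) :
    (∀ j, B j) ≃* B p × (∀ k : Fin n, B (p.succAbove k)) :=
  { (Fin.insertNthEquiv B p).symm with
    map_mul' := fun _ _ => rfl }

theorem splitAt_apply {n : ℕ} (B : Fin (n + 1) → Type u) [∀ j, Group (B j)] (p : Fin (n + 1))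
    (f : ∀ j, B j) : splitAt B p f = (f p, fun k => f (p.succAbove k)) := rfl

/-- Transport along an equality of indices. -/
def castEquiv {ι : Type*} (B : ι → Type u) [∀ j, Group (B j)] {x y : ι} (h : x = y) :
    B x ≃* B y := by
  subst h
  exact MulEquiv.refl _

/-- **Exchange lemma** for a product of `n + 1` indecomposable groups. -/
theorem exchange_fin : ∀ (n : ℕ) (A C : Type u) [Group A] [Group C] [Finite A] [Finite C]
    (B : Fin (n + 1) → Type u) [∀ j, Group (B j)] [∀ j, Finite (B j)],
    Indec A → Nontrivial A → (∀ j, Indec (B j)) → (A × C ≃* (∀ j, B j)) →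
    ∃ j : Fin (n + 1), Nonempty (A ≃* B j) ∧
      Nonempty (C ≃* (∀ k : Fin n, B (j.succAbove k))) := by
  intro n
  induction n with
  | zero =>
    intro A C _ _ _ _ B _ _ hA hA1 hB e
    have e' : A × C ≃* B 0 × (∀ k : Fin 0, B ((0 : Fin 1).succAbove k)) := e.trans (splitAt B 0)
    rcases exchange_two hA (hB 0) e' with ⟨h1, h2⟩ | ⟨C', ⟨h1⟩, -⟩
    · exact ⟨0, h1, h2⟩
    · exfalso
      obtain ⟨a, ha⟩ := exists_ne (1 : A)
      apply ha
      have h2 : h1.symm (a, 1) = h1.symm (1, 1) := Subsingleton.elim _ _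
      have h3 := h1.symm.injective h2
      exact congrArg Prod.fst h3
  | succ n ih =>
    intro A C _ _ _ _ B _ _ hA hA1 hB e
    have e' : A × C ≃* B 0 × (∀ k : Fin (n + 1), B ((0 : Fin (n + 2)).succAbove k)) :=
      e.trans (splitAt B 0)
    rcases exchange_two hA (hB 0) e' with ⟨h1, h2⟩ | ⟨C', ⟨h1⟩, ⟨h2⟩⟩
    · exact ⟨0, h1, h2⟩
    · -- recurse into the tail
      obtain ⟨j', ⟨h3⟩, ⟨h4⟩⟩ := ih A C' (fun k : Fin (n + 1) => B k.succ) hA hA1
        (fun k => hB k.succ) h1.symm
      refine ⟨j'.succ, ⟨h3⟩, ?_⟩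
      -- `C ≃ B 0 × C' ≃ B 0 × ∏ B (succ (j'.succAbove l)) ≃ ∏ B ((succ j').succAbove k)`
      have e1 : C ≃* B 0 × (∀ l : Fin n, B (j'.succAbove l).succ) :=
        h2.trans (MulEquiv.prodCongr (MulEquiv.refl _) h4)
      have e2 : (∀ k : Fin (n + 1), B (j'.succ.succAbove k)) ≃*
          B (j'.succ.succAbove 0) × (∀ l : Fin n, B (j'.succ.succAbove l.succ)) :=
        splitAt (fun k : Fin (n + 1) => B (j'.succ.succAbove k)) 0
      have e3 : B 0 ≃* B (j'.succ.succAbove 0) :=
        castEquiv B (Fin.succ_succAbove_zero j').symm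
      have e4 : (∀ l : Fin n, B (j'.succAbove l).succ) ≃*
          (∀ l : Fin n, B (j'.succ.succAbove l.succ)) :=
        MulEquiv.piCongrRight (fun l => castEquiv B (Fin.succ_succAbove_succ j' l).symm)
      exact ⟨e1.trans ((MulEquiv.prodCongr e3 e4).trans e2.symm)⟩

/-- A product of groups over `Fin (n+1)` with a nontrivial factor is nontrivial. -/
theorem nontrivial_pi {n : ℕ} (B : Fin n → Type u) [∀ j, Group (B j)] (j : Fin n)
    [Nontrivial (B j)] : Nontrivial (∀ j, B j) := by
  classical
  obtain ⟨b, hb⟩ := exists_ne (1 : B j)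
  refine ⟨⟨Pi.mulSingle j b, 1, fun h => hb ?_⟩⟩
  have := congrFun h j
  simpa using this

/-- **Krull–Schmidt** for finite groups, all factors in one universe. -/
theorem krull_schmidt_same : ∀ (m n : ℕ) (A : Fin m → Type u) (B : Fin n → Type u)
    [∀ i, Group (A i)] [∀ j, Group (B j)] [∀ i, Finite (A i)] [∀ j, Finite (B j)],
    (∀ i, Nontrivial (A i) ∧ Indec (A i)) → (∀ j, Nontrivial (B j) ∧ Indec (B j)) →
    ((∀ i, A i) ≃* (∀ j, B j)) → ∃ σ : Fin m ≃ Fin n, ∀ i, Nonempty (A i ≃* B (σ i)) := by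
  intro m
  induction m with
  | zero =>
    intro n A B _ _ _ _ hA hB e
    rcases n with _ | n
    · exact ⟨Equiv.refl _, fun i => i.elim0⟩
    · exfalso
      have := (hB 0).1
      have := nontrivial_pi B 0
      obtain ⟨x, y, hxy⟩ := exists_pair_ne (∀ j, B j)
      apply hxy
      apply e.symm.injective
      exact Subsingleton.elim _ _
  | succ m ih =>
    intro n A B _ _ _ _ hA hB e
    rcases n with _ | n
    · exfalso
      have := (hA 0).1
      have := nontrivial_pi A 0
      obtain ⟨x, y, hxy⟩ := exists_pair_ne (∀ i, A i)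
      apply hxy
      apply e.injective
      exact Subsingleton.elim _ _
    · have := (hA 0).1
      have e1 : A 0 × (∀ i : Fin m, A i.succ) ≃* (∀ j, B j) := (splitAt A 0).symm.trans e
      obtain ⟨j, ⟨h1⟩, ⟨h2⟩⟩ := exchange_fin n (A 0) (∀ i : Fin m, A i.succ) B (hA 0).2 (hA 0).1
        (fun j => (hB j).2) e1
      obtain ⟨σ', hσ'⟩ := ih n (fun i : Fin m => A i.succ) (fun k : Fin n => B (j.succAbove k))
        (fun i => hA i.succ) (fun k => hB _) h2
      refine ⟨(finSuccEquiv' (0 : Fin (m + 1))).trans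
        ((Equiv.optionCongr σ').trans (finSuccEquiv' j).symm), ?_⟩
      intro i
      refine Fin.cases ?_ (fun i' => ?_) i
      · have h0 : ((finSuccEquiv' (0 : Fin (m + 1))).trans
            ((Equiv.optionCongr σ').trans (finSuccEquiv' j).symm)) 0 = j := by
          simp
        rw [h0]
        exact ⟨h1⟩
      · have hs : ((finSuccEquiv' (0 : Fin (m + 1))).trans
            ((Equiv.optionCongr σ').trans (finSuccEquiv' j).symm)) i'.succ =
            j.succAbove (σ' i') := by
          have h5 : (finSuccEquiv' (0 : Fin (m + 1))) i'.succ = some i' :=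
            finSuccEquiv'_succAbove 0 i'
          simp [h5]
        rw [hs]
        exact hσ' i'

/-- **Krull–Schmidt** for finite groups, factors in two universes. -/
theorem krull_schmidt {m n : ℕ} (A : Fin m → Type u) (B : Fin n → Type v)
    [∀ i, Group (A i)] [∀ j, Group (B j)] [∀ i, Finite (A i)] [∀ j, Finite (B j)]
    (hA : ∀ i, Nontrivial (A i) ∧ Indec (A i)) (hB : ∀ j, Nontrivial (B j) ∧ Indec (B j))
    (e : (∀ i, A i) ≃* (∀ j, B j)) : ∃ σ : Fin m ≃ Fin n, ∀ i, Nonempty (A i ≃* B (σ i)) := by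
  have e' : (∀ i, ULift.{v} (A i)) ≃* (∀ j, ULift.{u} (B j)) :=
    (MulEquiv.piCongrRight fun i => (MulEquiv.ulift : ULift.{v} (A i) ≃* A i)).trans
      (e.trans (MulEquiv.piCongrRight fun j => (MulEquiv.ulift : ULift.{u} (B j) ≃* B j).symm))
  have hA' : ∀ i, Nontrivial (ULift.{v} (A i)) ∧ Indec (ULift.{v} (A i)) := by
    intro i
    have := (hA i).1
    exact ⟨inferInstance, (hA i).2.of_equiv MulEquiv.ulift.symm⟩
  have hB' : ∀ j, Nontrivial (ULift.{u} (B j)) ∧ Indec (ULift.{u} (B j)) := by
    intro j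
    have := (hB j).1
    exact ⟨inferInstance, (hB j).2.of_equiv MulEquiv.ulift.symm⟩
  obtain ⟨σ, hσ⟩ := krull_schmidt_same.{max u v} m n (fun i => ULift.{v} (A i))
    (fun j => ULift.{u} (B j)) hA' hB' e'
  refine ⟨σ, fun i => ?_⟩
  obtain ⟨f⟩ := hσ i
  exact ⟨(MulEquiv.ulift.symm.trans f).trans MulEquiv.ulift⟩

end FinProducts

end Cfsg.Agent.Lib.Helper95_KrullSchmidt
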