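import Mathlib
import Cfsg.Agent.Lib.Helper95_OrderSpec
import Cfsg.Agent.Lib.Helper1_Hall

/-!
# Elements of order `p q` in solvable groups (helper95)

If `G` is finite solvable, `p ‖ |G|`, `q ^ b ‖ |G|`, `p ∤ q ^ j - 1` for `1 ≤ j ≤ b` and
`q ∤ p - 1`, then `G` has an element of order `p q` (inside a Hall `{p, q}`-subgroup, a minimal
normal subgroup is centralized by an element of the other prime order).
-/

set_option autoImplicit false

namespace Cfsg.Agent.Helper95OrderSpec

open Subgroup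

theorem exists_orderOf_mul_of_card {K : Type*} [Group K] [Finite K] (hs : Group.IsSolvable K)
    {p q b : ℕ} (hp : p.Prime) (hq : q.Prime) (hpq : p ≠ q) (hb : 1 ≤ b)
    (hcard : Nat.card K = p * q ^ b) (h1 : ∀ j, 1 ≤ j → j ≤ b → ¬ p ∣ q ^ j - 1)
    (h2 : ¬ q ∣ p - 1) : ∃ g : K, orderOf g = p * q := by
  have hpF : Fact p.Prime := ⟨hp⟩
  have hqF : Fact q.Prime := ⟨hq⟩
  have hnt : Nontrivial K := by
    rw [← Finite.one_lt_card_iff_nontrivial, hcard]
    have := hp.two_le
    have : 0 < q ^ b := pow_pos hq.pos b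
    nlinarith
  obtain ⟨M, r, hMn, hMne, -, hr, hMr⟩ :=
    Cfsg.Agent.Lib.Helper1_Hall.exists_normal_abelian_pSubgroup hs
  have hrF : Fact r.Prime := ⟨hr⟩
  obtain ⟨a, ha⟩ := hMr.exists_card_eq
  have ha1 : 1 ≤ a := by
    rcases Nat.eq_zero_or_pos a with h0 | h0
    · rw [h0, pow_zero] at ha
      exact absurd (Subgroup.eq_bot_of_card_eq M ha) hMne
    · exact h0
  have hMK : r ^ a ∣ p * q ^ b := by
    rw [← ha, ← hcard]; exact Subgroup.card_subgroup_dvd_card M
  have hpK : p ∣ Nat.card K := by rw [hcard]; exact dvd_mul_right p _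
  have hqK : q ∣ Nat.card K := by
    rw [hcard]; exact Dvd.dvd.mul_left (dvd_pow_self q (by omega)) p
  obtain ⟨x, hx⟩ := exists_prime_orderOf_dvd_card' p hpK
  obtain ⟨y, hy⟩ := exists_prime_orderOf_dvd_card' q hqK
  have hnorm : ∀ z : K, z ∈ normalizer (M : Set K) := by
    intro z
    rw [normalizer_eq_top]
    exact mem_top z
  have hrK : r ∣ p * q ^ b := (dvd_pow_self r (by omega)).trans hMK
  rcases hr.dvd_mul.mp hrK with hrp | hrq
  · -- `M` is a `p`-group, of order `p`
    have hrp' : r = p := (Nat.prime_dvd_prime_iff_eq hr hp).mp hrp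
    subst hrp'
    have ha' : a = 1 := by
      by_contra hne
      have h2a : 2 ≤ a := by omega
      have h3 : r ^ 2 ∣ r * q ^ b := (pow_dvd_pow r h2a).trans hMK
      rw [sq] at h3
      have h4 : r ∣ q ^ b := Nat.dvd_of_mul_dvd_mul_left hr.pos h3
      exact hpq ((Nat.prime_dvd_prime_iff_eq hr hq).mp (hr.dvd_of_dvd_pow h4))
    subst ha'
    obtain ⟨x', hx'⟩ := exists_prime_orderOf_dvd_card' r (G := M) (by rw [ha, pow_one])
    have hx'' : orderOf (x' : K) = r := by rw [Subgroup.orderOf_coe, hx']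
    have hc := centralizes_of_not_dvd (p := q) (r := r) (a := 1) M y (hnorm y) hr hpq.symm
      (by rw [← hy, pow_orderOf_eq_one]) ha
      (by intro j hj1 hj2
          have : j = 1 := by omega
          subst this; rwa [pow_one]) (x' : K) x'.2
    exact ⟨(x' : K) * y, orderOf_mul_of_commute hr hq hpq hx'' hy hc.symm⟩
  · -- `M` is a `q`-group of order `q ^ a`, `a ≤ b`
    have hrq' : r = q := (Nat.prime_dvd_prime_iff_eq hr hq).mp (hr.dvd_of_dvd_pow hrq)
    subst hrq'
    have hab : a ≤ b := by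
      have hcop : Nat.Coprime (r ^ a) p :=
        Nat.Coprime.pow_left a ((Nat.coprime_primes hr hp).mpr hpq.symm)
      have h3 : r ^ a ∣ r ^ b := hcop.dvd_of_dvd_mul_left hMK
      exact (Nat.pow_dvd_pow_iff_le_right hr.one_lt).mp h3
    obtain ⟨y', hy'⟩ := exists_prime_orderOf_dvd_card' r (G := M)
      (by rw [ha]; exact dvd_pow_self r (by omega))
    have hy'' : orderOf (y' : K) = r := by rw [Subgroup.orderOf_coe, hy']
    have hc := centralizes_of_not_dvd (p := p) (r := r) (a := a) M x (hnorm x) hr hpq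
      (by rw [← hx, pow_orderOf_eq_one]) ha
      (fun j hj1 hj2 => h1 j hj1 (hj2.trans hab)) (y' : K) y'.2
    exact ⟨x * (y' : K), orderOf_mul_of_commute hp hr hpq hx hy'' hc⟩

universe u

/-- A finite solvable group of order `p q ^ b m` with `gcd (p q ^ b, m) = 1`, `p ∤ q ^ j - 1` for
`1 ≤ j ≤ b` and `q ∤ p - 1` has an element of order `p q`. -/
theorem exists_orderOf_mul_of_solvable {G : Type u} [Group G] [Finite G] [Group.IsSolvable G]
    {p q b m : ℕ} (hp : p.Prime) (hq : q.Prime) (hpq : p ≠ q) (hb : 1 ≤ b)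
    (hcard : Nat.card G = (p * q ^ b) * m) (hcop : (p * q ^ b).Coprime m)
    (h1 : ∀ j, 1 ≤ j → j ≤ b → ¬ p ∣ q ^ j - 1) (h2 : ¬ q ∣ p - 1) :
    ∃ g : G, orderOf g = p * q := by
  obtain ⟨K, hK⟩ := Cfsg.Agent.Lib.Helper1_Hall.hall_exists (p * q ^ b) m hcard hcop
  obtain ⟨g, hg⟩ := exists_orderOf_mul_of_card (K := K) inferInstance hp hq hpq hb hK h1 h2
  exact ⟨(g : G), by rw [Subgroup.orderOf_coe, hg]⟩

end Cfsg.Agent.Helper95OrderSpec
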