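import Mathlib
import Cfsg.Agent.Lib.Helper38_OD1
import Cfsg.Agent.Lib.Helper35_OD_PLANE

set_option autoImplicit false

/-!
Package S5677-C3b (architect helper38): two orthogonal three-dimensional blocks, both components
of `a` nonsingular: pairs of reflections give the whole plane of `A` orthogonal to the component
(helper95).
-/

namespace Cfsg.Agent.Lib.Helper95_OD_C3b

open Module Cfsg.Agent.Lib.Helper94_Symp Cfsg.Agent.Lib.Helper94_OrthSmall
  Cfsg.Agent.Lib.Helper94_OrthSiegel Cfsg.Agent.Lib.Helper94_OrthSiegel2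
  Cfsg.Agent.Lib.Helper94_OrthNondeg Cfsg.Agent.Lib.Helper94_OrthRefl
  Cfsg.Agent.Lib.Helper38_OD Cfsg.Agent.Lib.Helper35_OD_PLANE
open scoped commutatorElement

variable {F V : Type*} [Field F] [AddCommGroup V] [Module F V]

section OneBlock

variable [Finite F] [FiniteDimensional F V] {Q : V → F} {B : LinearMap.BilinForm F V}
  (hQs : ∀ (c : F) (v : V), Q (c • v) = c * c * Q v)
  (hQp : ∀ u v : V, Q (u + v) = Q u + Q v + B u v)

omit [Finite F] [FiniteDimensional F V] in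
/-- A plane is spanned by any two of its vectors that are not proportional. -/
lemma mem_pair_of_finrank_two (P : Submodule F V) (hP2 : finrank F P = 2) {c x₀ : V}
    (hc : c ∈ P) (hx₀ : x₀ ∈ P) (hc0 : c ≠ 0) (hne : ∀ k : F, x₀ ≠ k • c) {x : V} (hx : x ∈ P) :
    ∃ α β : F, x = α • c + β • x₀ := by
  have hli : LinearIndependent F ![c, x₀] := by
    rw [LinearIndependent.pair_iff' hc0]
    intro k hk
    exact hne k hk.symm
  have hfr : finrank F (Submodule.span F (Set.range ![c, x₀])) = 2 := by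
    rw [finrank_span_eq_card hli]; simp
  have hle : Submodule.span F (Set.range ![c, x₀]) ≤ P := by
    rw [Submodule.span_le]
    rintro _ ⟨i, rfl⟩
    fin_cases i
    · exact hc
    · exact hx₀
  haveI : Module.Finite F P := Module.finite_of_finrank_pos (by omega)
  have heq : Submodule.span F (Set.range ![c, x₀]) = P :=
    Submodule.eq_of_le_of_finrank_eq hle (by rw [hfr, hP2])
  have hx' : x ∈ Submodule.span F (Set.range ![c, x₀]) := by rw [heq]; exact hx
  have hr : Set.range ![c, x₀] = {c, x₀} := by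
    ext z; simp [eq_comm, or_comm]
  rw [hr, Submodule.mem_span_pair] at hx'
  obtain ⟨α, β, h⟩ := hx'
  exact ⟨α, β, h.symm⟩

include hQs hQp in
/-- **PKG C3b.** Three-dimensional blocks `A`, `A₂` orthogonal to each other, both components of
`a` nonsingular: pairs of reflections give the whole plane of `A` orthogonal to the component. -/
theorem lemC3b (h2 : (2 : F) ≠ 0) (hq : 3 < Nat.card F) (A A₂ : Submodule F V) (hA : NdOn B A)
    (hA₂ : NdOn B A₂) (hAA₂ : ∀ x ∈ A, ∀ y ∈ A₂, B x y = 0)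
    (h3 : finrank F A = 3) (h3' : finrank F A₂ = 3)
    (M : Subgroup (V ≃ₗ[F] V)) (hMO : M ≤ oG Q)
    (hMpair : ∀ x ∈ A, ∀ x' ∈ A₂, Q x ≠ 0 → Q x' = Q x → ∀ g : V ≃ₗ[F] V,
      (∀ v, g v = v - ((Q x)⁻¹ * B v x) • x - ((Q x)⁻¹ * B v x') • x') → g ∈ M)
    {a c : V} (ha : Q a = 0) (hajn : Q (op B A a) ≠ 0) (ha2n : Q (op B A₂ a) ≠ 0)
    (hcA : c ∈ A) (hc0 : c ≠ 0) (hcj : B c (op B A a) = 0) (hac : InZ Q B M a c) :
    ∀ x ∈ A, B x (op B A a) = 0 → InZ Q B M a x := by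
  classical
  have hsymm := B_symm Q B hQp
  obtain ⟨aA, haA_def⟩ : ∃ aA, aA = op B A a := ⟨_, rfl⟩
  obtain ⟨a2, ha2_def⟩ : ∃ a2, a2 = op B A₂ a := ⟨_, rfl⟩
  rw [← haA_def] at hajn hcj ⊢
  rw [← ha2_def] at ha2n
  have haAm : aA ∈ A := by rw [haA_def]; exact op_mem B A a
  have ha2m : a2 ∈ A₂ := by rw [ha2_def]; exact op_mem B A₂ a
  have hBa : ∀ y ∈ A, B a y = B aA y := fun y hy => by
    rw [haA_def]; exact (B_op_left Q B hQp hA a hy).symm
  have hBa2 : ∀ y ∈ A₂, B a y = B a2 y := fun y hy => by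
    rw [ha2_def]; exact (B_op_left Q B hQp hA₂ a hy).symm
  obtain ⟨P, hPA, hPmem, hP2, hPnd, -⟩ := plane_of_nonsing hQs hQp h2 A hA h3 haAm hajn
  obtain ⟨P₂, hP₂A, hP₂mem, hP₂2, hP₂nd, -⟩ := plane_of_nonsing hQs hQp h2 A₂ hA₂ h3' ha2m ha2n
  have hcP : c ∈ P := (hPmem c).mpr ⟨hcA, by rw [hsymm]; exact hcj⟩
  -- the key step
  have key : ∀ x ∈ P, Q x ≠ 0 → B c x ≠ 0 → InZ Q B M a x := by
    intro x hxP hQx hcx
    have hxA : x ∈ A := hPA hxP
    obtain ⟨x', hx'P, hQx'⟩ := plane_univ hQs hQp h2 P₂ hP₂nd hP₂2 (Q x)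
    have hx'A : x' ∈ A₂ := hP₂A hx'P
    have hQx'0 : Q x' ≠ 0 := by rw [hQx']; exact hQx
    have hxx' : B x x' = 0 := hAA₂ x hxA x' hx'A
    have hx'x : B x' x = 0 := by rw [hsymm]; exact hxx'
    obtain ⟨g, hg_def⟩ : ∃ g, g = refl Q B hQs hQp hQx * refl Q B hQs hQp hQx'0 := ⟨_, rfl⟩
    have hgv : ∀ v, g v = v - ((Q x)⁻¹ * B v x) • x - ((Q x)⁻¹ * B v x') • x' := by
      intro v
      rw [hg_def, LinearEquiv.mul_apply, refl_apply, refl_apply, hQx', map_sub, map_smul,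
        LinearMap.sub_apply, LinearMap.smul_apply, hx'x, smul_zero, sub_zero]
      abel
    have hgM : g ∈ M := hMpair x hxA x' hx'A hQx hQx' g hgv
    have hgO : g ∈ oG Q := hMO hgM
    have hax : B a x = 0 := by rw [hBa x hxA]; exact ((hPmem x).mp hxP).2
    have hax' : B a x' = 0 := by rw [hBa2 x' hx'A]; exact ((hP₂mem x').mp hx'P).2
    have hga : g a = a := by
      rw [hgv, hax, hax']; simp
    have hcx' : B c x' = 0 := hAA₂ c hcA x' hx'A
    have hgc : g c = c - ((Q x)⁻¹ * B c x) • x := by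
      rw [hgv, hcx']; simp
    have h1 := InZ_map hQs hQp hgM hgO ha hac
    rw [hga, hgc] at h1
    have h3 := InZ_sub hQs hQp ha hac h1
    rw [sub_sub_cancel] at h3
    have hk : (Q x)⁻¹ * B c x ≠ 0 := mul_ne_zero (inv_ne_zero hQx) hcx
    have h4 := InZ_smul ((Q x)⁻¹ * B c x)⁻¹ h3
    rwa [smul_smul, inv_mul_cancel₀ hk, one_smul] at h4
  -- a second vector of the plane
  have hx₀ : ∃ x₀ ∈ P, Q x₀ ≠ 0 ∧ B c x₀ ≠ 0 ∧ ∀ k : F, x₀ ≠ k • c := by
    by_cases hQc : Q c = 0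
    · obtain ⟨w, hwP, hwc⟩ := hPnd c hcP hc0
      have hcc : B c c = 0 := by rw [B_self Q B hQs hQp, hQc, mul_zero]
      by_cases hQw : Q w = 0
      · refine ⟨w + c, P.add_mem hwP hcP, ?_, ?_, ?_⟩
        · rw [hQp, hQw, hQc, zero_add, zero_add]; exact hwc
        · rw [map_add, hcc, add_zero, hsymm]; exact hwc
        · intro k hk
          have : B (w + c) c = 0 := by
            rw [hk, map_smul, LinearMap.smul_apply, hcc, smul_zero]
          rw [map_add, LinearMap.add_apply, hcc, add_zero] at this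
          exact hwc this
      · refine ⟨w, hwP, hQw, by rw [hsymm]; exact hwc, ?_⟩
        intro k hk
        apply hwc
        rw [hk, map_smul, LinearMap.smul_apply, hcc, smul_zero]
    · obtain ⟨u, huP, hQu, huc, hune⟩ :=
        plane_generic hQs hQp h2 (by omega) P hPnd hP2 hcP hQc
      exact ⟨u, huP, hQu, by rw [hsymm]; exact huc, hune⟩
  obtain ⟨x₀, hx₀P, hQx₀, hcx₀, hne⟩ := hx₀
  have hIn₀ : InZ Q B M a x₀ := key x₀ hx₀P hQx₀ hcx₀
  intro x hxA hxa
  have hxP : x ∈ P := (hPmem x).mpr ⟨hxA, by rw [hsymm]; exact hxa⟩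
  obtain ⟨α, β, rfl⟩ := mem_pair_of_finrank_two P hP2 hcP hx₀P hc0 hne hxP
  exact InZ_add hQs hQp ha (InZ_smul α hac) (InZ_smul β hIn₀)

end OneBlock

end Cfsg.Agent.Lib.Helper95_OD_C3b
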