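import Mathlib
import Cfsg.Agent.Lib.Helper38_OD1

set_option autoImplicit false

/-!
Package S5677-C3c (architect helper38): three-dimensional block, nonsingular component; if the
Siegel part at `a` inside `M` contains the plane of `A` orthogonal to the component of `a`, some
singular vector of `A` has a Siegel part not contained in `A` (helper95).
-/

namespace Cfsg.Agent.Lib.Helper95_OD_C3c

open Module Cfsg.Agent.Lib.Helper94_Symp Cfsg.Agent.Lib.Helper94_OrthSmall
  Cfsg.Agent.Lib.Helper94_OrthSiegel Cfsg.Agent.Lib.Helper94_OrthSiegel2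
  Cfsg.Agent.Lib.Helper94_OrthNondeg Cfsg.Agent.Lib.Helper94_OrthRefl
  Cfsg.Agent.Lib.Helper38_OD
open scoped commutatorElement

variable {F V : Type*} [Field F] [AddCommGroup V] [Module F V]

section OneBlock

variable [Finite F] [FiniteDimensional F V] {Q : V → F} {B : LinearMap.BilinForm F V}
  (hQs : ∀ (c : F) (v : V), Q (c • v) = c * c * Q v)
  (hQp : ∀ u v : V, Q (u + v) = Q u + Q v + B u v)

omit [Finite F] in
/-- A subspace of dimension at least three contains a nonzero vector orthogonal to two given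
vectors. -/
lemma exists_orth2 (A : Submodule F V) (h3 : 3 ≤ finrank F A) (p q : V) :
    ∃ d ∈ A, d ≠ 0 ∧ B d p = 0 ∧ B d q = 0 := by
  have h1 := finrank_le_inf_ker_add_one A (B.flip p)
  have h2 := finrank_le_inf_ker_add_one (A ⊓ LinearMap.ker (B.flip p)) (B.flip q)
  have hpos : 0 < finrank F
      (A ⊓ LinearMap.ker (B.flip p) ⊓ LinearMap.ker (B.flip q) : Submodule F V) := by omega
  obtain ⟨⟨d, hd⟩, hd0⟩ := Module.finrank_pos_iff_exists_ne_zero.mp hpos
  refine ⟨d, hd.1.1, fun h => hd0 (Subtype.ext h), mem_ker_flip.mp hd.1.2, mem_ker_flip.mp hd.2⟩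

include hQs hQp in
/-- **PKG C3c.** Three-dimensional block: if the Siegel part at `a` contains the plane of `A`
orthogonal to the (nonsingular) component of `a`, some singular vector of `A` has a Siegel part
not contained in `A`. -/
theorem lemC3c (h2 : (2 : F) ≠ 0) (A : Submodule F V) (hA : NdOn B A) (h3 : finrank F A = 3)
    (M : Subgroup (V ≃ₗ[F] V)) (hMO : M ≤ oG Q) (hMA : HasSieg Q B M A)
    {a : V} (ha : Q a = 0) (haA : a ∉ A) (hajn : Q (op B A a) ≠ 0)
    (hall : ∀ x ∈ A, B x (op B A a) = 0 → InZ Q B M a x) :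
    ∃ u ∈ A, u ≠ 0 ∧ Q u = 0 ∧ ∃ z, InZ Q B M u z ∧ z ∉ A := by
  classical
  have hsymm := B_symm Q B hQp
  obtain ⟨aA, haA_def⟩ : ∃ aA, aA = op B A a := ⟨_, rfl⟩
  rw [← haA_def] at hajn hall
  have haAm : aA ∈ A := by rw [haA_def]; exact op_mem B A a
  have hBa : ∀ y ∈ A, B y a = B y aA := fun y hy => by
    rw [haA_def]; exact (B_op_right Q B hQp hA a hy).symm
  by_cases hcase : ∃ e ∈ A, e ≠ 0 ∧ Q e = 0 ∧ B e aA = 0
  · obtain ⟨e, heA, he0, hQe, hea⟩ := hcase
    have h1 : InZ Q B M a e := hall e heA hea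
    exact ⟨e, heA, he0, hQe, a, InZ_symm hQs hQp ha hQe h1, haA⟩
  · push Not at hcase
    have haA0 : aA ≠ 0 := by
      intro h; apply hajn; rw [h]; exact Q_zero Q hQs
    obtain ⟨u', hu'A, hQu', hu'a⟩ :=
      exists_sing_not_orth Q B hQs hQp A hA (by omega) (hA aA haAm haA0)
    obtain ⟨γ, hγ⟩ : ∃ γ, γ = Q aA := ⟨_, rfl⟩
    rw [← hγ] at hajn
    have haa : B aA aA = 2 * γ := by rw [B_self Q B hQs hQp, hγ]
    obtain ⟨u, hu_def⟩ : ∃ u, u = (2 * γ / B u' aA) • u' := ⟨_, rfl⟩
    have huA : u ∈ A := by rw [hu_def]; exact A.smul_mem _ hu'A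
    have hQu : Q u = 0 := by rw [hu_def, hQs, hQu', mul_zero]
    have hua : B u aA = 2 * γ := by
      rw [hu_def, map_smul, LinearMap.smul_apply, smul_eq_mul, div_mul_cancel₀ _ hu'a]
    have huu : B u u = 0 := by rw [B_self Q B hQs hQp, hQu, mul_zero]
    have hu0 : u ≠ 0 := by
      intro h
      rw [h, map_zero, LinearMap.zero_apply] at hua
      exact mul_ne_zero h2 hajn hua.symm
    obtain ⟨d, hdA, hd0, hda, hdu⟩ := exists_orth2 (B := B) A (by omega) aA u
    have hQd : Q d ≠ 0 := fun h => hcase d hdA hd0 h hda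
    have hud : B u d = 0 := by rw [hsymm]; exact hdu
    have haad : B aA d = 0 := by rw [hsymm]; exact hda
    have hdd : B d d = 2 * Q d := B_self Q B hQs hQp d
    obtain ⟨v, hv_def⟩ : ∃ v, v = u - aA + d := ⟨_, rfl⟩
    have hvA : v ∈ A := by rw [hv_def]; exact A.add_mem (A.sub_mem huA haAm) hdA
    have hva : B v aA = 0 := by
      rw [hv_def, map_add, map_sub, LinearMap.add_apply, LinearMap.sub_apply, hua, hda, haa]
      ring
    have hdv : B d v = 2 * Q d := by
      rw [hv_def, map_add, map_sub, hdu, hda, hdd]; ring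
    have huv : B u v = -(2 * γ) := by
      rw [hv_def, map_add, map_sub, huu, hua, hud]; ring
    have hv0 : v ≠ 0 := by
      intro hv
      rw [hv, map_zero] at hdv
      exact mul_ne_zero h2 hQd hdv.symm
    have hQv : Q v ≠ 0 := fun h => hcase v hvA hv0 h hva
    obtain ⟨ν, hν⟩ : ∃ ν, ν = (Q v)⁻¹ := ⟨_, rfl⟩
    have hν0 : ν ≠ 0 := by rw [hν]; exact inv_ne_zero hQv
    have hνv : ν * Q v = 1 := by rw [hν]; exact inv_mul_cancel₀ hQv
    obtain ⟨c', hc'_def⟩ : ∃ c', c' = ν • v := ⟨_, rfl⟩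
    have hc'A : c' ∈ A := by rw [hc'_def]; exact A.smul_mem _ hvA
    have hc'a : B c' aA = 0 := by
      rw [hc'_def, map_smul, LinearMap.smul_apply, hva, smul_zero]
    have hQc' : Q c' = ν := by
      rw [hc'_def, hQs, mul_assoc, hνv, mul_one]
    have hInc : InZ Q B M a c' := hall c' hc'A hc'a
    have hac' : B a c' = 0 := hInc.1
    have hxM : sieg Q B a c' ∈ M := InZ_one hInc
    have hxO : sieg Q B a c' ∈ oG Q := hMO hxM
    obtain ⟨y, hy_def⟩ : ∃ y, y = ν • (u + d) := ⟨_, rfl⟩
    have hyA : y ∈ A := by rw [hy_def]; exact A.smul_mem _ (A.add_mem huA hdA)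
    have huy : B u y = 0 := by
      rw [hy_def, map_smul, map_add, huu, hud, add_zero, smul_zero]
    have hIn : InZ Q B M u y := InZ_of_hasSieg hMA huA hyA hQu huy
    have hIn2 := InZ_map hQs hQp hxM hxO hQu hIn
    have hxu : sieg Q B a c' u = u + (2 * γ) • c' := by
      rw [sieg_apply Q B hQs hQp ha hac', hBa u huA, hua, hQc']
      have : B u c' = -(2 * γ * ν) := by
        rw [hc'_def, map_smul, huv, smul_eq_mul]; ring
      rw [this]
      module
    have hya : B y aA = 2 * γ * ν := by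
      rw [hy_def, map_smul, LinearMap.smul_apply, map_add, LinearMap.add_apply, hua, hda,
        smul_eq_mul]
      ring
    have hyc : B y c' = ν * ν * (2 * Q d - 2 * γ) := by
      have e1 : B (u + d) v = 2 * Q d - 2 * γ := by
        rw [map_add, LinearMap.add_apply, huv, hdv]; ring
      rw [hy_def, hc'_def]
      simp only [map_smul, LinearMap.smul_apply, smul_eq_mul]
      rw [e1]
      ring
    have hxy : sieg Q B a c' y = (y + B y a • c') - (2 * ν * ν * Q d) • a := by
      rw [sieg_apply Q B hQs hQp ha hac', hBa y hyA, hya, hQc', hyc]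
      module
    refine ⟨sieg Q B a c' u, ?_, ?_, ?_, sieg Q B a c' y, hIn2, ?_⟩
    · rw [hxu]; exact A.add_mem huA (A.smul_mem _ hc'A)
    · intro h
      apply hu0
      apply (sieg Q B a c').injective
      rw [h, map_zero]
    · rw [hxO u]; exact hQu
    · rw [hxy]
      intro hmem
      have h1 : y + B y a • c' ∈ A := A.add_mem hyA (A.smul_mem _ hc'A)
      have h2' : (2 * ν * ν * Q d) • a ∈ A := by
        have := A.sub_mem h1 hmem
        rwa [sub_sub_cancel] at this
      have hne : 2 * ν * ν * Q d ≠ 0 :=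
        mul_ne_zero (mul_ne_zero (mul_ne_zero h2 hν0) hν0) hQd
      apply haA
      have := A.smul_mem (2 * ν * ν * Q d)⁻¹ h2'
      rwa [smul_smul, inv_mul_cancel₀ hne, one_smul] at this

end OneBlock

end Cfsg.Agent.Lib.Helper95_OD_C3c
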