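import Mathlib
import Cfsg.Agent.Lib.Helper95_OPDefs
import Cfsg.Agent.Lib.Helper95_OPBasic
import Cfsg.Agent.Lib.Helper48_OODefs
import Cfsg.Agent.Lib.Helper87_OO2Defs
import Cfsg.Agent.Lib.Helper87_OO2Defs2
import Cfsg.Agent.Lib.Helper85_OO2_ELT
import Cfsg.Agent.Lib.Helper73_OO2_STAB
import Cfsg.Agent.Lib.Helper16_OO2B3Defs

/-!
OO2-B3-C1 (helper16's base wave of the OO2 market for S2344), core: `Ω_3` acts trivially on `F_2`, given the
stability of `M_2` under `n2` (OO2-B3-M2STAB) and the triviality of `E(w0, s x0)` on `M_2` (OO2-B3-M2X0) as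
hypotheses.
-/

set_option autoImplicit false
set_option linter.unusedSectionVars false
set_option linter.unusedVariables false

namespace Cfsg.Agent.Lib.Helper95_OO2_B3_C1aux

open Module Cfsg.Agent.Lib.Helper94_OrthSmall Cfsg.Agent.Lib.Helper44_QuadClass
  Cfsg.Agent.Lib.Helper14_OmegaSimple Cfsg.Agent.Lib.Helper38_MIODefs
  Cfsg.Agent.Lib.Helper95_OPDefs Cfsg.Agent.Lib.Helper95_OPBasic Cfsg.Agent.Lib.Helper48_OODefs
  Cfsg.Agent.Lib.Helper87_OO2Defs Cfsg.Agent.Lib.Helper16_OO2B3Defs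

variable {F V : Type*} [Field F] [Fintype F] [AddCommGroup V] [Module F V] [FiniteDimensional F V]
  {X : Type*} [AddCommGroup X] [Module ℂ X] [FiniteDimensional ℂ X]

/-- the operators `ρ(g)`, `g ∈ T Q`, are injective -/
theorem repE_inj (Q : QuadraticForm F V) (ρ : Representation ℂ ↥(T Q) X)
    {g : V ≃ₗ[F] V} (hg : g ∈ T Q) : Function.Injective (repE Q ρ g) := by
  have h2 : repE Q ρ g⁻¹ * repE Q ρ g = 1 := by
    rw [← repE_mul Q ρ (Subgroup.inv_mem _ hg) hg, inv_mul_cancel, repE_one]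
  intro x x' hxx
  have := congrArg (repE Q ρ g⁻¹) hxx
  rw [← Module.End.mul_apply, ← Module.End.mul_apply, h2] at this
  exact this

/-- `F_2 ≤ M_2`. -/
theorem F2_le_M2 (Q : QuadraticForm F V) {v v' w0 w0' w1 : V} (hw1 : w1 ∈ W1 Q v v' w0 w0')
    (ρ : Representation ℂ ↥(T Q) X) : F2sp Q ρ v v' w0 w0' ≤ M2sp Q ρ v v' w0 w1 := by
  intro x hx
  refine ⟨hx.1, ?_⟩
  intro w hw
  obtain ⟨s, rfl⟩ := Submodule.mem_span_singleton.mp hw
  exact hx.2 _ (Submodule.smul_mem _ s hw1)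

/-- (C1), second half, from M2STAB and M2X0 as hypotheses. -/
theorem F2_fix_w1_of (Q : QuadraticForm F V) (hQ : (QuadraticMap.polarBilin Q).Nondegenerate)
    (hdim : 5 ≤ finrank F V) {v v' w0 w0' w1 w1' x0 : V}
    (fr : Frame3 Q v v' w0 w0' w1 w1' x0) (ρ : Representation ℂ ↥(T Q) X)
    (hn2 : ∀ x ∈ M2sp Q ρ v v' w0 w1, repE Q ρ (nw Q w0 w0' w1 w1' 1) x ∈ M2sp Q ρ v v' w0 w1)
    (hx0 : ∀ y ∈ M2sp Q ρ v v' w0 w1, ∀ s : F, repE Q ρ (E Q w0 (s • x0)) y = y)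
    (y : X) (hy : y ∈ F2sp Q ρ v v' w0 w0') (s : F) :
    repE Q ρ (E Q w1 (s • x0)) y = y := by
  have hg : nw Q w0 w0' w1 w1' 1 ∈ T Q := nw_mem_T fr.h12 1
  have hyM : y ∈ M2sp Q ρ v v' w0 w1 := F2_le_M2 Q (Frame3.w1_mem Q fr) ρ hy
  have hgy := hn2 y hyM
  have hu : Q w1 = 0 := fr.h12.pb.qa
  have huz : QuadraticMap.polar (⇑Q) w1 (s • x0) = 0 := by
    rw [QuadraticMap.polar_smul_right, QuadraticMap.polar_comm, fr.xw1, smul_zero]
  have hE : E Q w1 (s • x0) ∈ T Q := E_mem_T Q hQ hdim hu huz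
  have h1 := Cfsg.Agent.Lib.Helper73_OO2_STAB.repE_conj ρ hg hu huz hE y
  have hgw1 : nw Q w0 w0' w1 w1' 1 w1 = (-1 : F) • w0 := by
    rw [Cfsg.Agent.Lib.Helper85_OO2_ELT.nw_b fr.h12 one_ne_zero, one_smul, neg_smul, one_smul]
  have hgx0 : nw Q w0 w0' w1 w1' 1 (s • x0) = s • x0 := by
    rw [map_smul, Cfsg.Agent.Lib.Helper85_OO2_ELT.nw_perp fr.h12 1 fr.xw0 fr.xw0' fr.xw1 fr.xw1']
  have hw0 : Q w0 = 0 := fr.h12.pa.qa
  have hw0z : QuadraticMap.polar (⇑Q) w0 (s • x0) = 0 := by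
    rw [QuadraticMap.polar_smul_right, QuadraticMap.polar_comm, fr.xw0, smul_zero]
  rw [hgw1, hgx0, E_smul_left Q hw0 hw0z (-1), smul_smul, hx0 _ hgy] at h1
  exact repE_inj Q ρ hg h1.symm

end Cfsg.Agent.Lib.Helper95_OO2_B3_C1aux
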