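import Mathlib
import Cfsg.Agent.Lib.Helper95_OPDefs
import Cfsg.Agent.Lib.Helper95_OPBasic
import Cfsg.Agent.Lib.Helper48_OODefs
import Cfsg.Agent.Lib.Helper87_OO2Defs
import Cfsg.Agent.Lib.Helper87_OO2Defs2
import Cfsg.Agent.Lib.Helper85_OO2_RankOne
import Cfsg.Agent.Lib.Helper85_OO2_ELT
import Cfsg.Agent.Lib.Helper73_OO2_STAB
import Cfsg.Agent.Lib.Helper29_OO2_M0
import Cfsg.Agent.Lib.Helper12_OO2_HEIS
import Cfsg.Agent.Lib.Helper16_OO2B3Defs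

/-!
OO2-B3-F2STAB (helper16's base wave of the OO2 market for S2344), cores: `J_1`, `J_2` preserve `F_2` in the base
`n = 3`, with OO2-B3-FIXLTOP (`fixL W_1 = ⊤`) resp. OO2-B3-W1SPAN (`W_1 = ⟨w1, w1', x0⟩`) as hypotheses.
-/

set_option autoImplicit false
set_option linter.unusedSectionVars false
set_option linter.unusedVariables false

namespace Cfsg.Agent.Lib.Helper95_OO2_B3_F2STABaux

open Module Cfsg.Agent.Lib.Helper94_OrthSmall Cfsg.Agent.Lib.Helper44_QuadClass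
  Cfsg.Agent.Lib.Helper14_OmegaSimple Cfsg.Agent.Lib.Helper38_MIODefs
  Cfsg.Agent.Lib.Helper95_OPDefs Cfsg.Agent.Lib.Helper95_OPBasic Cfsg.Agent.Lib.Helper48_OODefs
  Cfsg.Agent.Lib.Helper87_OO2Defs Cfsg.Agent.Lib.Helper16_OO2B3Defs

variable {F V : Type*} [Field F] [Fintype F] [AddCommGroup V] [Module F V] [FiniteDimensional F V]
  {X : Type*} [AddCommGroup X] [Module ℂ X] [FiniteDimensional ℂ X]

/-- additivity of the root operators `s ↦ ρ(x_{ab}(s))` -/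
theorem repE_xr_add (Q : QuadraticForm F V) (ρ : Representation ℂ ↥(T Q) X) {a b' : V}
    (ha : Q a = 0) (hb' : Q b' = 0) (hab' : QuadraticMap.polar (⇑Q) a b' = 0) (s t : F) :
    repE Q ρ (xr Q a b' (s + t)) = repE Q ρ (xr Q a b' s) * repE Q ρ (xr Q a b' t) := by
  rw [← repE_mul Q ρ (xr_mem_T ha hb' hab' s) (xr_mem_T ha hb' hab' t)]
  congr 1
  unfold xr
  rw [E_mul Q ha (by rw [QuadraticMap.polar_smul_right, hab', smul_zero])
    (by rw [QuadraticMap.polar_smul_right, hab', smul_zero]), add_smul]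

/-- `J_1` preserves `F_2` when `fixL W_1 = ⊤`. -/
theorem J1_mem_F2_of (Q : QuadraticForm F V) (hQ : (QuadraticMap.polarBilin Q).Nondegenerate)
    (hdim : 5 ≤ finrank F V) {v v' w0 w0' : V} (h : HQuad Q v v' w0 w0')
    (ρ : Representation ℂ ↥(T Q) X) (htop : fixL Q ρ (W1 Q v v' w0 w0') = ⊤) (y : X)
    (hy : y ∈ F2sp Q ρ v v' w0 w0') :
    Cfsg.Agent.Lib.Helper85_OO2_RankOne.Jop (fun s => repE Q ρ (xr Q v w0' s))
      (repE Q ρ (nw Q v v' w0 w0' 1)) y ∈ F2sp Q ρ v v' w0 w0' := by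
  have hyY : y ∈ Y2sp Q ρ v v' w0 w0' := ⟨hy, by rw [htop]; exact Submodule.mem_top⟩
  have hyM := Cfsg.Agent.Lib.Helper29_OO2_M0.Y2_le_M0 Q h ρ hyY
  have hn := Cfsg.Agent.Lib.Helper29_OO2_M0.M0_n1 Q hQ hdim h ρ y hyM
  have hJM : Cfsg.Agent.Lib.Helper85_OO2_RankOne.Jop (fun s => repE Q ρ (xr Q v w0' s))
      (repE Q ρ (nw Q v v' w0 w0' 1)) y ∈ M0sp Q ρ v v' w0 w0' := by
    rw [Cfsg.Agent.Lib.Helper85_OO2_RankOne.Jop_apply]
    exact Submodule.sum_mem _ fun s _ =>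
      Cfsg.Agent.Lib.Helper29_OO2_M0.M0_x1 Q hQ hdim h ρ s _ hn
  have hfix := Cfsg.Agent.Lib.Helper85_OO2_RankOne.Jop_mem_fixX
    (x := fun s => repE Q ρ (xr Q v w0' s))
    (fun s t => repE_xr_add Q ρ h.pa.qa h.pb.qa' h.ab' s t) (repE Q ρ (nw Q v v' w0 w0' 1)) y
  have hY2 := Cfsg.Agent.Lib.Helper29_OO2_M0.M0_fix Q hQ hdim h ρ _ hJM
    (fun s => hfix s)
  exact hY2.1

/-- `J_2` preserves `F_2` when `W_1 = ⟨w1, w1', x0⟩`, for vectors fixed by the root group `E(w1, s x0)`. -/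
theorem J2_mem_F2_of (Q : QuadraticForm F V) (hQ : (QuadraticMap.polarBilin Q).Nondegenerate)
    (hdim : 5 ≤ finrank F V) {v v' w0 w0' w1 w1' x0 : V}
    (fr : Frame3 Q v v' w0 w0' w1 w1' x0) (ρ : Representation ℂ ↥(T Q) X)
    (hspan : ∀ w ∈ W1 Q v v' w0 w0', ∃ α β γ : F, w = α • w1 + β • w1' + γ • x0)
    (y : X) (hy : y ∈ F2sp Q ρ v v' w0 w0')
    (hy1 : ∀ s : F, repE Q ρ (E Q w1 (s • x0)) y = y) :
    Cfsg.Agent.Lib.Helper85_OO2_RankOne.Jop (fun s => repE Q ρ (xr Q w0 w1' s))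
      (repE Q ρ (nw Q w0 w0' w1 w1' 1)) y ∈ F2sp Q ρ v v' w0 w0' := by
  have h12 := fr.h12
  have hw0 : Q w0 = 0 := h12.pa.qa
  have hw1 : Q w1 = 0 := h12.pb.qa
  have hgT : nw Q w0 w0' w1 w1' 1 ∈ T Q := nw_mem_T h12 1
  have hxT : ∀ s : F, xr Q w0 w1' s ∈ T Q := fun s => xr_mem_T hw0 h12.pb.qa' h12.ab' s
  -- eigenvector data for the stability of `X0sp`
  have hgv : nw Q w0 w0' w1 w1' 1 v = v :=
    Cfsg.Agent.Lib.Helper85_OO2_ELT.nw_perp h12 1 fr.h01.ab fr.h01.ab' fr.h02.ab fr.h02.ab'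
  have hgv' : nw Q w0 w0' w1 w1' 1 v' = v' :=
    Cfsg.Agent.Lib.Helper85_OO2_ELT.nw_perp h12 1 fr.h01.a'b fr.h01.a'b' fr.h02.a'b fr.h02.a'b'
  have hxv : ∀ s : F, xr Q w0 w1' s v = v := fun s =>
    Cfsg.Agent.Lib.Helper85_OO2_ELT.xr_perp hw0 h12.pb.qa' h12.ab' s fr.h01.ab fr.h02.ab'
  have hxv' : ∀ s : F, xr Q w0 w1' s v' = v' := fun s =>
    Cfsg.Agent.Lib.Helper85_OO2_ELT.xr_perp hw0 h12.pb.qa' h12.ab' s fr.h01.a'b fr.h02.a'b'
  have hny0 : repE Q ρ (nw Q w0 w0' w1 w1' 1) y ∈ X0sp Q ρ v v' :=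
    Cfsg.Agent.Lib.Helper73_OO2_STAB.X0sp_stable hQ hdim ρ hgT fr.h01.pa.qa
      ⟨1, one_ne_zero, by rw [one_smul, hgv]⟩ ⟨1, one_ne_zero, by rw [one_smul, hgv']⟩ hy.1
  have hterm0 : ∀ s : F, repE Q ρ (xr Q w0 w1' s) (repE Q ρ (nw Q w0 w0' w1 w1' 1) y) ∈
      X0sp Q ρ v v' := fun s =>
    Cfsg.Agent.Lib.Helper73_OO2_STAB.X0sp_stable hQ hdim ρ (hxT s) fr.h01.pa.qa
      ⟨1, one_ne_zero, by rw [one_smul, hxv s]⟩ ⟨1, one_ne_zero, by rw [one_smul, hxv' s]⟩ hny0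
  -- the three kinds of generators of `R_1`
  have hpol : ∀ w ∈ W1 Q v v' w0 w0', QuadraticMap.polar (⇑Q) w0 w = 0 := fun w hw =>
    ((mem_perp Q w0 w0').1 hw.2).1
  have hET : ∀ w ∈ W1 Q v v' w0 w0', E Q w0 w ∈ T Q := fun w hw =>
    E_mem_T Q hQ hdim hw0 (hpol w hw)
  have hw1W := Frame3.w1_mem Q fr
  have hw1'W := Frame3.w1'_mem Q fr
  have hx0W := Frame3.x0_mem Q fr
  -- `E(w0, w)` commutes with `x2(s)`
  have hcomm : ∀ w ∈ W1 Q v v' w0 w0', ∀ (s : F) (z : X),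
      repE Q ρ (E Q w0 w) (repE Q ρ (xr Q w0 w1' s) z) =
        repE Q ρ (xr Q w0 w1' s) (repE Q ρ (E Q w0 w) z) := by
    intro w hw s z
    have hs : s • w1' ∈ W1 Q v v' w0 w0' := Submodule.smul_mem _ s hw1'W
    rw [← Module.End.mul_apply, ← Module.End.mul_apply, ← repE_mul Q ρ (hET w hw) (hxT s),
      ← repE_mul Q ρ (hxT s) (hET w hw)]
    unfold xr
    rw [E_mul Q hw0 (hpol w hw) (hpol _ hs), E_mul Q hw0 (hpol _ hs) (hpol w hw), add_comm]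
  -- `E(w0, α w1)` fixes `n2 y`
  have hA : ∀ α : F, repE Q ρ (E Q w0 (α • w1)) (repE Q ρ (nw Q w0 w0' w1 w1' 1) y) =
      repE Q ρ (nw Q w0 w0' w1 w1' 1) y := by
    intro α
    have hz : QuadraticMap.polar (⇑Q) w0 (α • w1) = 0 := hpol _ (Submodule.smul_mem _ α hw1W)
    apply Cfsg.Agent.Lib.Helper29_OO2_M0.fix_of_conj Q ρ hgT hw0 hz (E_mem_T Q hQ hdim hw0 hz) y
    rw [Cfsg.Agent.Lib.Helper85_OO2_ELT.nwinv_a h12, map_smul,
      Cfsg.Agent.Lib.Helper85_OO2_ELT.nwinv_b h12]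
    -- `E(-w1, α w0) = E(w0, α w1)`
    have hw1w0 : QuadraticMap.polar (⇑Q) w1 (α • w0) = 0 := by
      rw [QuadraticMap.polar_smul_right, QuadraticMap.polar_comm, h12.ab, smul_zero]
    have h1 : E Q (-w1) (α • w0) = E Q w0 (α • w1) := by
      have e1 : (-w1 : V) = (-1 : F) • w1 := by rw [neg_smul, one_smul]
      rw [e1, E_smul_left Q hw1 hw1w0 (-1), smul_smul]
      have hq : Q (((-1 : F) * α) • w0) = 0 := by rw [hQs, hw0, mul_zero]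
      have hp : QuadraticMap.polar (⇑Q) w1 (((-1 : F) * α) • w0) = 0 := by
        rw [QuadraticMap.polar_smul_right, QuadraticMap.polar_comm, h12.ab, smul_zero]
      rw [Cfsg.Agent.Lib.Helper12_OO2_HEIS.E_swap hw1 hq hp]
      have hp2 : QuadraticMap.polar (⇑Q) w0 (-w1) = 0 := by
        rw [QuadraticMap.polar_neg_right, h12.ab, neg_zero]
      rw [E_smul_left Q hw0 hp2 ((-1 : F) * α)]
      congr 1
      rw [smul_neg, ← neg_smul]
      congr 1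
      ring
    rw [h1]
    exact hy.2 _ (Submodule.smul_mem _ α hw1W)
  -- `E(w0, γ x0)` fixes `n2 y`
  have hC : ∀ γ : F, repE Q ρ (E Q w0 (γ • x0)) (repE Q ρ (nw Q w0 w0' w1 w1' 1) y) =
      repE Q ρ (nw Q w0 w0' w1 w1' 1) y := by
    intro γ
    have hz : QuadraticMap.polar (⇑Q) w0 (γ • x0) = 0 := hpol _ (Submodule.smul_mem _ γ hx0W)
    apply Cfsg.Agent.Lib.Helper29_OO2_M0.fix_of_conj Q ρ hgT hw0 hz (E_mem_T Q hQ hdim hw0 hz) y
    rw [Cfsg.Agent.Lib.Helper85_OO2_ELT.nwinv_a h12, map_smul,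
      Cfsg.Agent.Lib.Helper85_OO2_ELT.nwinv_perp h12 fr.xw0 fr.xw0' fr.xw1 fr.xw1']
    have hw1x : QuadraticMap.polar (⇑Q) w1 (γ • x0) = 0 := by
      rw [QuadraticMap.polar_smul_right, QuadraticMap.polar_comm, fr.xw1, smul_zero]
    have e1 : (-w1 : V) = (-1 : F) • w1 := by rw [neg_smul, one_smul]
    rw [e1, E_smul_left Q hw1 hw1x (-1), smul_smul]
    exact hy1 _
  -- the sum is fixed by `x2`
  have hfixX := Cfsg.Agent.Lib.Helper85_OO2_RankOne.Jop_mem_fixX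
    (x := fun s => repE Q ρ (xr Q w0 w1' s))
    (fun s t => repE_xr_add Q ρ hw0 h12.pb.qa' h12.ab' s t) (repE Q ρ (nw Q w0 w0' w1 w1' 1)) y
  refine ⟨?_, ?_⟩
  · rw [Cfsg.Agent.Lib.Helper85_OO2_RankOne.Jop_apply]
    exact Submodule.sum_mem _ fun s _ => hterm0 s
  · intro w hw
    obtain ⟨α, β, γ, rfl⟩ := hspan w hw
    have hα : α • w1 ∈ W1 Q v v' w0 w0' := Submodule.smul_mem _ α hw1W
    have hβ : β • w1' ∈ W1 Q v v' w0 w0' := Submodule.smul_mem _ β hw1'W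
    have hγ : γ • x0 ∈ W1 Q v v' w0 w0' := Submodule.smul_mem _ γ hx0W
    have hαβ : α • w1 + β • w1' ∈ W1 Q v v' w0 w0' := Submodule.add_mem _ hα hβ
    rw [← E_mul Q hw0 (hpol _ hαβ) (hpol _ hγ), ← E_mul Q hw0 (hpol _ hα) (hpol _ hβ),
      repE_mul Q ρ (Subgroup.mul_mem _ (hET _ hα) (hET _ hβ)) (hET _ hγ),
      repE_mul Q ρ (hET _ hα) (hET _ hβ), Module.End.mul_apply, Module.End.mul_apply]
    -- each factor fixes `J_2 y`
    have hfixC : repE Q ρ (E Q w0 (γ • x0))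
        (Cfsg.Agent.Lib.Helper85_OO2_RankOne.Jop (fun s => repE Q ρ (xr Q w0 w1' s))
          (repE Q ρ (nw Q w0 w0' w1 w1' 1)) y) =
        Cfsg.Agent.Lib.Helper85_OO2_RankOne.Jop (fun s => repE Q ρ (xr Q w0 w1' s))
          (repE Q ρ (nw Q w0 w0' w1 w1' 1)) y := by
      rw [Cfsg.Agent.Lib.Helper85_OO2_RankOne.Jop_apply, map_sum]
      refine Finset.sum_congr rfl fun s _ => ?_
      show repE Q ρ (E Q w0 (γ • x0)) (repE Q ρ (xr Q w0 w1' s) _) = _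
      rw [hcomm _ hγ, hC]
    have hfixB : repE Q ρ (E Q w0 (β • w1'))
        (Cfsg.Agent.Lib.Helper85_OO2_RankOne.Jop (fun s => repE Q ρ (xr Q w0 w1' s))
          (repE Q ρ (nw Q w0 w0' w1 w1' 1)) y) =
        Cfsg.Agent.Lib.Helper85_OO2_RankOne.Jop (fun s => repE Q ρ (xr Q w0 w1' s))
          (repE Q ρ (nw Q w0 w0' w1 w1' 1)) y := hfixX β
    have hfixA : repE Q ρ (E Q w0 (α • w1))
        (Cfsg.Agent.Lib.Helper85_OO2_RankOne.Jop (fun s => repE Q ρ (xr Q w0 w1' s))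
          (repE Q ρ (nw Q w0 w0' w1 w1' 1)) y) =
        Cfsg.Agent.Lib.Helper85_OO2_RankOne.Jop (fun s => repE Q ρ (xr Q w0 w1' s))
          (repE Q ρ (nw Q w0 w0' w1 w1' 1)) y := by
      rw [Cfsg.Agent.Lib.Helper85_OO2_RankOne.Jop_apply, map_sum]
      refine Finset.sum_congr rfl fun s _ => ?_
      show repE Q ρ (E Q w0 (α • w1)) (repE Q ρ (xr Q w0 w1' s) _) = _
      rw [hcomm _ hα, hA]
    rw [hfixC, hfixB, hfixA]

end Cfsg.Agent.Lib.Helper95_OO2_B3_F2STABaux
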