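import Mathlib
import Cfsg.Agent.Lib.Helper95_OO2_B3_F2STABaux
import Cfsg.Agent.Lib.Helper95_OO2_INCL
import Cfsg.Agent.Lib.Helper10_OO2_B3_W1SPAN
import Cfsg.Agent.Lib.Helper58_OO2_B3_FIXLTOP

/-!
OO2-B3-F2STAB (helper16's base wave of the OO2 market for S2344): the torus elements `h12`, `h23` and the operators
`J_1`, `J_2` preserve `F_2` in the base `n = 3`.
-/

set_option autoImplicit false
set_option linter.unusedSectionVars false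
set_option linter.unusedVariables false

namespace Cfsg.Agent.Lib.Helper95_OO2_B3_F2STAB

open Module Cfsg.Agent.Lib.Helper94_OrthSmall Cfsg.Agent.Lib.Helper44_QuadClass
  Cfsg.Agent.Lib.Helper14_OmegaSimple Cfsg.Agent.Lib.Helper38_MIODefs
  Cfsg.Agent.Lib.Helper95_OPDefs Cfsg.Agent.Lib.Helper95_OPBasic Cfsg.Agent.Lib.Helper48_OODefs
  Cfsg.Agent.Lib.Helper87_OO2Defs Cfsg.Agent.Lib.Helper16_OO2B3Defs

variable {F V : Type*} [Field F] [Fintype F] [AddCommGroup V] [Module F V] [FiniteDimensional F V]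
  {X : Type*} [AddCommGroup X] [Module ℂ X] [FiniteDimensional ℂ X]

theorem F2_h12 (Q : QuadraticForm F V) (hQ : (QuadraticMap.polarBilin Q).Nondegenerate)
    (hdim : 5 ≤ finrank F V) {v v' w0 w0' : V} (h : HQuad Q v v' w0 w0')
    (ρ : Representation ℂ ↥(T Q) X) (a : F) (ha : a ≠ 0) (y : X)
    (hy : y ∈ F2sp Q ρ v v' w0 w0') :
    repE Q ρ (hh Q v v' w0 w0' a) y ∈ F2sp Q ρ v v' w0 w0' :=
  Cfsg.Agent.Lib.Helper95_OO2_INCL.F2sp_h12 Q hQ hdim h ρ a ha y hy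

theorem F2_h23 (Q : QuadraticForm F V) (hQ : (QuadraticMap.polarBilin Q).Nondegenerate)
    (hdim : 5 ≤ finrank F V) {v v' w0 w0' w1 w1' : V} (h : HQuad Q v v' w0 w0')
    (h1 : HQuad Q v v' w1 w1') (h2 : HQuad Q w0 w0' w1 w1')
    (ρ : Representation ℂ ↥(T Q) X) (a : F) (ha : a ≠ 0) (y : X)
    (hy : y ∈ F2sp Q ρ v v' w0 w0') :
    repE Q ρ (hh Q w0 w0' w1 w1' a) y ∈ F2sp Q ρ v v' w0 w0' :=
  Cfsg.Agent.Lib.Helper95_OO2_INCL.F2sp_h23 Q hQ hdim h h1 h2 ρ a ha y hy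

theorem J1_mem_F2_base (Q : QuadraticForm F V) (hP : IsOddT Q 3) {v v' w0 w0' : V}
    (h : HQuad Q v v' w0 w0') (ρ : Representation ℂ ↥(T Q) X) (y : X)
    (hy : y ∈ F2sp Q ρ v v' w0 w0') :
    Cfsg.Agent.Lib.Helper85_OO2_RankOne.Jop (fun s => repE Q ρ (xr Q v w0' s))
      (repE Q ρ (nw Q v v' w0 w0' 1)) y ∈ F2sp Q ρ v v' w0 w0' :=
  Cfsg.Agent.Lib.Helper95_OO2_B3_F2STABaux.J1_mem_F2_of Q hP.nondeg (by rw [hP.dim]; norm_num) h ρ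
    (Cfsg.Agent.Lib.Helper58_OO2_B3_FIXLTOP.fixL_W1_eq_top Q hP h ρ) y hy

theorem J2_mem_F2_base (Q : QuadraticForm F V) (hP : IsOddT Q 3) (hF : ringChar F ≠ 2)
    {v v' w0 w0' w1 w1' x0 : V} (fr : Frame3 Q v v' w0 w0' w1 w1' x0)
    (ρ : Representation ℂ ↥(T Q) X) (y : X) (hy : y ∈ F2sp Q ρ v v' w0 w0')
    (hy1 : ∀ s : F, repE Q ρ (E Q w1 (s • x0)) y = y) :
    Cfsg.Agent.Lib.Helper85_OO2_RankOne.Jop (fun s => repE Q ρ (xr Q w0 w1' s))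
      (repE Q ρ (nw Q w0 w0' w1 w1' 1)) y ∈ F2sp Q ρ v v' w0 w0' :=
  Cfsg.Agent.Lib.Helper95_OO2_B3_F2STABaux.J2_mem_F2_of Q hP.nondeg (by rw [hP.dim]; norm_num) fr ρ
    (fun w hw => (Cfsg.Agent.Lib.Helper10_OO2_B3_W1SPAN.mem_W1_iff Q hP hF fr w).1 hw) y hy hy1

end Cfsg.Agent.Lib.Helper95_OO2_B3_F2STAB
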