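import Mathlib
import Cfsg.Agent.Lib.Helper95_OPMain
import Cfsg.Agent.Lib.Helper82_OP_BASEISO
import Cfsg.Agent.Lib.Helper82_OP_BASETR
import Cfsg.Agent.Lib.Helper77_OP_KLEIN
import Cfsg.Agent.Lib.Helper16_Orbit
import Cfsg.Agent.Lib.Helper77_SLnDefs
import Cfsg.Agent.Lib.Helper14_OrthFinal

set_option autoImplicit false

/-!
S2345 (helper95, architect): base case (`Ω⁺_6(q)` from `SL_4(q)` through the Klein map) and the induction on
the rank: every irreducible complex representation of degree at least two of `T Q`, `Q` of plus type of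
rank `n ≥ 3` over a field with `q ≥ 4` elements, has degree at least `dplus q n`.
-/

namespace Cfsg.Agent.Lib.Helper95_OPFinal

open Module Cfsg.Agent.Lib.Helper94_OrthSmall Cfsg.Agent.Lib.Helper44_QuadClass
  Cfsg.Agent.Lib.Helper14_OmegaSimple Cfsg.Agent.Lib.Helper38_MIODefs
  Cfsg.Agent.Lib.Helper95_OPDefs Cfsg.Agent.Lib.Helper95_OPBasic
  Cfsg.Agent.Lib.Helper95_OPMain Cfsg.Agent.Lib.Helper77_SLnDefs
  Cfsg.Agent.Lib.Helper40_QuadIso Cfsg.Agent.Lib.Helper44_StdForms

universe u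

variable {F : Type u} [Field F] [Fintype F]

/-- pull back of the minimal degree along a surjective homomorphism -/
theorem minDegT_of_surj {V : Type*} [AddCommGroup V] [Module F V] (Q : QuadraticForm F V)
    {G : Type*} [Group G] (f : G →* ↥(T Q)) (hf : Function.Surjective f) (d : ℕ)
    (h : ∀ (X : Type) [AddCommGroup X] [Module ℂ X] [FiniteDimensional ℂ X]
      (ρ : Representation ℂ G X), ρ.IsIrreducible → 2 ≤ finrank ℂ X → d ≤ finrank ℂ X) :
    MinDegT Q d := by
  intro X _ _ _ ρ hirr h2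
  haveI := hirr
  exact h X (ρ.comp f) (Cfsg.Agent.Lib.Helper16_Orbit.irreducible_comp ρ f hf) h2

/-- **Base case**: rank 3 from `SL_4`. -/
theorem base3 {V : Type u} [AddCommGroup V] [Module F V] [FiniteDimensional F V]
    (Q : QuadraticForm F V) (hP : IsPlus Q 3)
    (hSL : MinDeg F 4 (dplus (Fintype.card F) 3)) : MinDegT Q (dplus (Fintype.card F) 3) := by
  classical
  obtain ⟨e₁⟩ := Cfsg.Agent.Lib.Helper82_OP_BASETR.T_equiv_of_iso Q (qfPlus 3 F) (Cfsg.Agent.Lib.Helper82_OP_BASEISO.iso_qfPlus_of_isPlus Q 3 (by norm_num) hP)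
  obtain ⟨f, hf⟩ := Cfsg.Agent.Lib.Helper77_OP_KLEIN.exists_surj_SL4 (F := F)
  have hQ3 := Cfsg.Agent.Lib.Helper14_POmegaSimple.nondegenerate_qfPlus (F := F) 3
  have hn : 5 ≤ Fintype.card (Fin 3 ⊕ Fin 3) := by simp
  let e₂ := Cfsg.Agent.Lib.Helper14_OrthFinal.eOT (qfPlus 3 F) hQ3 hn
  let f' : Matrix.SpecialLinearGroup (Fin 4) F →* ↥(T Q) :=
    (e₁.symm.toMonoidHom.comp e₂.toMonoidHom).comp f
  have hf' : Function.Surjective f' := by
    intro t
    obtain ⟨s, hs⟩ := hf (e₂.symm (e₁ t))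
    refine ⟨s, ?_⟩
    show e₁.symm (e₂ (f s)) = t
    rw [hs, MulEquiv.apply_symm_apply, MulEquiv.symm_apply_apply]
  apply minDegT_of_surj Q f' hf'
  intro X _ _ _ ρ hirr h2
  exact hSL (Fin 4) (by simp) X ρ hirr h2

/-- **Main theorem** (abstract form): induction on the rank. -/
theorem main (hq : 4 ≤ Fintype.card F) (hSL : MinDeg F 4 (dplus (Fintype.card F) 3)) :
    ∀ (n : ℕ), 3 ≤ n → ∀ (V : Type u) [AddCommGroup V] [Module F V] [FiniteDimensional F V]
      (Q : QuadraticForm F V), IsPlus Q n → MinDegT Q (dplus (Fintype.card F) n) := by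
  intro n
  induction n with
  | zero => intro h; omega
  | succ k ih =>
    intro hk V _ _ _ Q hP
    by_cases hk3 : k + 1 = 3
    · rw [hk3] at hP ⊢
      exact base3 Q hP hSL
    · have hk4 : 4 ≤ k + 1 := by omega
      have hQ := hP.nondeg
      have hdim := hP.dim
      obtain ⟨v, hv0, hv⟩ := exists_singular Q (by omega)
      obtain ⟨v', hv', hvv'⟩ := exists_hyperbolic_partner Q hQ hv0 hv
      have hPW := isPlus_perp Q (k + 1) (by omega) hP hv hv' hvv'
      have hIH := ih (by omega) ↥(perp Q v v') (Qp Q v v') hPW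
      exact step Q (k + 1) hk4 hq hP hv hv' hvv' hIH

end Cfsg.Agent.Lib.Helper95_OPFinal
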