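import Mathlib

/-!
# Products of conjugate involutions of odd order: basic tools (helper95)

`OddPer π ω`: the point `ω` has odd period under `π`. `Sol x y S z`: the involution `z`, supported
on the `x`- and `y`-invariant set `S`, has `x z` and `z y` of odd order on `S`.
Solutions on disjoint invariant sets combine (`Sol.union`), and a solution on `S` forces `x` and `y`
to move equally many points of `S` (`Sol.bal`).
-/

set_option autoImplicit false
set_option linter.unusedSectionVars false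

namespace Cfsg.Agent.Helper95OddProd

open Equiv

variable {Ω : Type*} [DecidableEq Ω] [Fintype Ω]

/-- `ω` has odd period under `π`. -/
def OddPer (π : Perm Ω) (ω : Ω) : Prop := ∃ r : ℕ, Odd r ∧ (π ^ r) ω = ω

theorem pow_mul_apply_of_fixed (π : Perm Ω) (ω : Ω) (r k : ℕ) (h : (π ^ r) ω = ω) :
    (π ^ (r * k)) ω = ω := by
  induction k with
  | zero => simp
  | succ k ih => rw [Nat.mul_succ, pow_add, Perm.mul_apply, h, ih]

theorem odd_orderOf_of_forall (π : Perm Ω) (h : ∀ ω, OddPer π ω) : Odd (orderOf π) := by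
  classical
  choose r hr1 hr2 using h
  have hodd : Odd (∏ ω, r ω) := by
    apply Finset.prod_induction r Odd
    · intro a b ha hb; exact ha.mul hb
    · exact odd_one
    · intro ω _; exact hr1 ω
  have hpow : π ^ (∏ ω, r ω) = 1 := by
    ext ω
    obtain ⟨k, hk⟩ := Finset.dvd_prod_of_mem r (Finset.mem_univ ω)
    rw [hk, Perm.one_apply]
    exact pow_mul_apply_of_fixed π ω (r ω) k (hr2 ω)
  exact Odd.of_dvd_nat hodd (orderOf_dvd_of_pow_eq_one hpow)

theorem OddPer.of_odd_orderOf {π : Perm Ω} (h : Odd (orderOf π)) (ω : Ω) : OddPer π ω :=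
  ⟨orderOf π, h, by rw [pow_orderOf_eq_one]; rfl⟩

/-- The period of `ω` under the permutation `c`. -/
noncomputable def per (c : Perm Ω) (ω : Ω) : ℕ := Function.minimalPeriod (c • ·) ω

theorem pow_apply_eq_self_iff (c : Perm Ω) (ω : Ω) (n : ℕ) : (c ^ n) ω = ω ↔ per c ω ∣ n := by
  have h := MulAction.pow_smul_eq_iff_minimalPeriod_dvd (a := c) (b := ω) (n := n)
  rw [Perm.smul_def] at h
  exact h

theorem per_pos (c : Perm Ω) (ω : Ω) : 0 < per c ω := by
  have h : (c ^ orderOf c) ω = ω := by rw [pow_orderOf_eq_one]; rfl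
  exact Nat.pos_of_dvd_of_pos ((pow_apply_eq_self_iff c ω _).mp h) (orderOf_pos c)

theorem pow_per_apply (c : Perm Ω) (ω : Ω) : (c ^ per c ω) ω = ω :=
  (pow_apply_eq_self_iff c ω _).mpr dvd_rfl

theorem pow_apply_eq_pow_apply_iff (c : Perm Ω) (ω : Ω) {i j : ℕ} (h : i ≤ j) :
    (c ^ i) ω = (c ^ j) ω ↔ per c ω ∣ j - i := by
  rw [← pow_apply_eq_self_iff]
  have : j = i + (j - i) := by omega
  conv_lhs => rw [this, pow_add, Perm.mul_apply]
  constructor
  · intro h'
    exact ((c ^ i).injective h').symm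
  · intro h'
    rw [h']

theorem pow_apply_inj (c : Perm Ω) (ω : Ω) {i j : ℕ} (hi : i < per c ω) (hj : j < per c ω)
    (h : (c ^ i) ω = (c ^ j) ω) : i = j := by
  rcases le_total i j with hij | hij
  · have := (pow_apply_eq_pow_apply_iff c ω hij).mp h
    have h2 := Nat.eq_zero_of_dvd_of_lt this (by omega)
    omega
  · have := (pow_apply_eq_pow_apply_iff c ω hij).mp h.symm
    have h2 := Nat.eq_zero_of_dvd_of_lt this (by omega)
    omega

theorem pow_apply_ne_self (c : Perm Ω) (ω : Ω) {i : ℕ} (h0 : 0 < i) (hi : i < per c ω) :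
    (c ^ i) ω ≠ ω := by
  intro h
  have := pow_apply_inj c ω hi (per_pos c ω) (by simpa using h)
  omega

theorem OddPer.odd_per {c : Perm Ω} {ω : Ω} (h : OddPer c ω) : Odd (per c ω) := by
  obtain ⟨r, hr, h⟩ := h
  exact Odd.of_dvd_nat hr ((pow_apply_eq_self_iff c ω r).mp h)

theorem oddPer_iff_odd_per (c : Perm Ω) (ω : Ω) : OddPer c ω ↔ Odd (per c ω) :=
  ⟨OddPer.odd_per, fun h => ⟨per c ω, h, pow_per_apply c ω⟩⟩

theorem per_pow_apply (c : Perm Ω) (ω : Ω) (i : ℕ) : per c ((c ^ i) ω) = per c ω := by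
  apply Nat.dvd_antisymm
  · rw [← pow_apply_eq_self_iff, ← Perm.mul_apply, ← pow_add, add_comm, pow_add, Perm.mul_apply,
      pow_per_apply]
  · rw [← pow_apply_eq_self_iff]
    have h := pow_per_apply c ((c ^ i) ω)
    rw [← Perm.mul_apply, ← pow_add, add_comm, pow_add, Perm.mul_apply] at h
    exact (c ^ i).injective h


theorem card_support_eq_of_odd_orderOf_mul {a b : Perm Ω} (ha : a * a = 1) (hb : b * b = 1)
    (h : Odd (orderOf (a * b))) : a.support.card = b.support.card := by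
  obtain ⟨k, hk⟩ := h
  set u := a * b with hu
  have hu1 : u ^ (2 * k + 1) = 1 := by rw [← hk]; exact pow_orderOf_eq_one u
  have hainv : a⁻¹ = a := inv_eq_of_mul_eq_one_right ha
  have hbinv : b⁻¹ = b := inv_eq_of_mul_eq_one_right hb
  have hsc : SemiconjBy a u u⁻¹ := by
    unfold SemiconjBy
    rw [hu, mul_inv_rev, hainv, hbinv, ← mul_assoc, ha, one_mul, mul_assoc, ha, mul_one]
  have hsc' := hsc.pow_right (k + 1)
  unfold SemiconjBy at hsc'
  have hfb : u ^ (k + 1) * b = a * u ^ (k + 1) := by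
    rw [hsc', pow_succ, mul_assoc, hu, mul_assoc a b b, hb, mul_one, ← hu]
    have : u ^ k = (u⁻¹) ^ (k + 1) := by
      rw [inv_pow, eq_inv_iff_mul_eq_one, ← pow_add]
      have : k + (k + 1) = 2 * k + 1 := by ring
      rw [this, hu1]
    rw [this]
  have hconj : a = u ^ (k + 1) * b * (u ^ (k + 1))⁻¹ := by
    rw [hfb, mul_assoc, mul_inv_cancel, mul_one]
  rw [hconj, Perm.card_support_conj]


/-- `S` is mapped into itself by `x`. -/
def Stab (x : Perm Ω) (S : Finset Ω) : Prop := ∀ ω ∈ S, x ω ∈ S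

theorem inv_apply_self' {x : Perm Ω} (hx : x * x = 1) (ω : Ω) : x (x ω) = ω := by
  rw [← Perm.mul_apply, hx, Perm.one_apply]

theorem Stab.mem_iff {x : Perm Ω} {S : Finset Ω} (hx : x * x = 1) (h : Stab x S) (ω : Ω) :
    x ω ∈ S ↔ ω ∈ S :=
  ⟨fun h' => by have := h _ h'; rwa [inv_apply_self' hx] at this, h ω⟩

theorem Stab.union {x : Perm Ω} {S T : Finset Ω} (h1 : Stab x S) (h2 : Stab x T) :
    Stab x (S ∪ T) := by
  intro ω hω
  rcases Finset.mem_union.mp hω with h | h
  · exact Finset.mem_union_left _ (h1 ω h)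
  · exact Finset.mem_union_right _ (h2 ω h)

theorem Stab.sdiff {x : Perm Ω} {S T : Finset Ω} (hx : x * x = 1) (h1 : Stab x S)
    (h2 : Stab x T) : Stab x (S \ T) := by
  intro ω hω
  rw [Finset.mem_sdiff] at hω ⊢
  exact ⟨h1 ω hω.1, fun h => hω.2 ((h2.mem_iff hx ω).mp h)⟩

theorem Stab.mul {x y : Perm Ω} {S : Finset Ω} (h1 : Stab x S) (h2 : Stab y S) :
    Stab (x * y) S := fun ω hω => h1 _ (h2 ω hω)

theorem Stab.pow {x : Perm Ω} {S : Finset Ω} (h : Stab x S) (k : ℕ) : Stab (x ^ k) S := by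
  induction k with
  | zero => intro ω hω; simpa using hω
  | succ k ih => rw [pow_succ]; exact ih.mul h

/-- The involution `x` restricted to an invariant set `S` (identity outside `S`). -/
def res (x : Perm Ω) (S : Finset Ω) (hx : x * x = 1) (hS : Stab x S) : Perm Ω where
  toFun ω := if ω ∈ S then x ω else ω
  invFun ω := if ω ∈ S then x ω else ω
  left_inv ω := by
    by_cases h : ω ∈ S
    · simp only [h, if_true, hS ω h, inv_apply_self' hx]
    · simp only [h, if_false]
  right_inv ω := by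
    by_cases h : ω ∈ S
    · simp only [h, if_true, hS ω h, inv_apply_self' hx]
    · simp only [h, if_false]

theorem res_apply_mem {x : Perm Ω} {S : Finset Ω} (hx : x * x = 1) (hS : Stab x S) {ω : Ω}
    (h : ω ∈ S) : res x S hx hS ω = x ω := by
  show (if ω ∈ S then x ω else ω) = x ω
  rw [if_pos h]

theorem res_apply_not_mem {x : Perm Ω} {S : Finset Ω} (hx : x * x = 1) (hS : Stab x S) {ω : Ω}
    (h : ω ∉ S) : res x S hx hS ω = ω := by
  show (if ω ∈ S then x ω else ω) = ω
  rw [if_neg h]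

theorem res_mul_self {x : Perm Ω} {S : Finset Ω} (hx : x * x = 1) (hS : Stab x S) :
    res x S hx hS * res x S hx hS = 1 := by
  ext ω
  rw [Perm.mul_apply, Perm.one_apply]
  by_cases h : ω ∈ S
  · rw [res_apply_mem hx hS h, res_apply_mem hx hS (hS ω h), inv_apply_self' hx]
  · rw [res_apply_not_mem hx hS h, res_apply_not_mem hx hS h]

theorem res_stab {x : Perm Ω} {S : Finset Ω} (hx : x * x = 1) (hS : Stab x S) :
    Stab (res x S hx hS) S := by
  intro ω h
  rw [res_apply_mem hx hS h]; exact hS ω h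

/-- If `π` and `π'` agree on a `π'`-invariant set, so do their powers. -/
theorem pow_apply_eq_of_agree {π π' : Perm Ω} {T : Finset Ω} (h : ∀ ω ∈ T, π ω = π' ω)
    (hT : Stab π' T) (k : ℕ) : ∀ ω ∈ T, (π ^ k) ω = (π' ^ k) ω := by
  induction k with
  | zero => intro ω _; simp
  | succ k ih =>
    intro ω hω
    rw [pow_succ, pow_succ, Perm.mul_apply, Perm.mul_apply, h ω hω]
    exact ih _ (hT ω hω)

theorem OddPer.of_agree {π π' : Perm Ω} {T : Finset Ω} (h : ∀ ω ∈ T, π ω = π' ω)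
    (hT : Stab π' T) {ω : Ω} (hω : ω ∈ T) (hp : OddPer π' ω) : OddPer π ω := by
  obtain ⟨r, hr, h'⟩ := hp
  exact ⟨r, hr, by rw [pow_apply_eq_of_agree h hT r ω hω, h']⟩

/-- `z` solves the problem on the invariant set `S`. -/
structure Sol (x y : Perm Ω) (S : Finset Ω) (z : Perm Ω) : Prop where
  inv : z * z = 1
  supp : ∀ ω, ω ∉ S → z ω = ω
  left : ∀ ω ∈ S, OddPer (x * z) ω
  right : ∀ ω ∈ S, OddPer (z * y) ω

theorem stab_of_supp {z : Perm Ω} {S : Finset Ω} (hz : z * z = 1) (h : ∀ ω, ω ∉ S → z ω = ω) :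
    Stab z S := by
  intro ω hω
  by_contra hn
  have := h _ hn
  rw [inv_apply_self' hz] at this
  rw [← this] at hn
  exact hn hω

theorem Sol.stab {x y : Perm Ω} {S : Finset Ω} {z : Perm Ω} (h : Sol x y S z) : Stab z S :=
  stab_of_supp h.inv h.supp

theorem Sol.union {x y : Perm Ω} {S1 S2 : Finset Ω} (hd : Disjoint S1 S2)
    (hx1 : Stab x S1) (hy1 : Stab y S1) (hx2 : Stab x S2) (hy2 : Stab y S2)
    {z1 z2 : Perm Ω} (h1 : Sol x y S1 z1) (h2 : Sol x y S2 z2) :
    Sol x y (S1 ∪ S2) (z1 * z2) := by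
  have hn1 : ∀ ω ∈ S1, ω ∉ S2 := fun ω h h' => (Finset.disjoint_left.mp hd) h h'
  have hn2 : ∀ ω ∈ S2, ω ∉ S1 := fun ω h h' => (Finset.disjoint_left.mp hd) h' h
  have e1 : ∀ ω ∈ S1, (z1 * z2) ω = z1 ω := by
    intro ω hω; rw [Perm.mul_apply, h2.supp ω (hn1 ω hω)]
  have e2 : ∀ ω ∈ S2, (z1 * z2) ω = z2 ω := by
    intro ω hω; rw [Perm.mul_apply, h1.supp _ (hn2 _ (h2.stab ω hω))]
  have e0 : ∀ ω, ω ∉ S1 → ω ∉ S2 → (z1 * z2) ω = ω := by
    intro ω a b; rw [Perm.mul_apply, h2.supp ω b, h1.supp ω a]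
  refine ⟨?_, ?_, ?_, ?_⟩
  · ext ω
    rw [Perm.mul_apply, Perm.one_apply]
    by_cases a : ω ∈ S1
    · rw [e1 ω a, e1 _ (h1.stab ω a), inv_apply_self' h1.inv]
    · by_cases b : ω ∈ S2
      · rw [e2 ω b, e2 _ (h2.stab ω b), inv_apply_self' h2.inv]
      · rw [e0 ω a b, e0 ω a b]
  · intro ω hω
    rw [Finset.mem_union, not_or] at hω
    exact e0 ω hω.1 hω.2
  · intro ω hω
    rcases Finset.mem_union.mp hω with a | b
    · refine OddPer.of_agree (T := S1) ?_ (hx1.mul h1.stab) a (h1.left ω a)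
      intro ξ hξ
      show x ((z1 * z2) ξ) = x (z1 ξ)
      rw [e1 ξ hξ]
    · refine OddPer.of_agree (T := S2) ?_ (hx2.mul h2.stab) b (h2.left ω b)
      intro ξ hξ
      show x ((z1 * z2) ξ) = x (z2 ξ)
      rw [e2 ξ hξ]
  · intro ω hω
    rcases Finset.mem_union.mp hω with a | b
    · refine OddPer.of_agree (T := S1) ?_ (h1.stab.mul hy1) a (h1.right ω a)
      intro ξ hξ
      show (z1 * z2) (y ξ) = z1 (y ξ)
      rw [e1 _ (hy1 ξ hξ)]
    · refine OddPer.of_agree (T := S2) ?_ (h2.stab.mul hy2) b (h2.right ω b)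
      intro ξ hξ
      show (z1 * z2) (y ξ) = z2 (y ξ)
      rw [e2 _ (hy2 ξ hξ)]

/-- `x` and `y` move the same number of points of `S`. -/
def Bal (x y : Perm Ω) (S : Finset Ω) : Prop :=
  (S.filter (fun ω => x ω ≠ ω)).card = (S.filter (fun ω => y ω ≠ ω)).card

theorem support_res {x : Perm Ω} {S : Finset Ω} (hx : x * x = 1) (hS : Stab x S) :
    (res x S hx hS).support = S.filter (fun ω => x ω ≠ ω) := by
  ext ω
  rw [Perm.mem_support, Finset.mem_filter]
  by_cases h : ω ∈ S
  · rw [res_apply_mem hx hS h]; simp [h]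
  · rw [res_apply_not_mem hx hS h]; simp [h]

theorem Sol.bal {x y : Perm Ω} {S : Finset Ω} {z : Perm Ω} (hx : x * x = 1) (hy : y * y = 1)
    (hxS : Stab x S) (hyS : Stab y S) (h : Sol x y S z) : Bal x y S := by
  unfold Bal
  rw [← support_res hx hxS, ← support_res hy hyS]
  have h1 : Odd (orderOf (res x S hx hxS * z)) := by
    apply odd_orderOf_of_forall
    intro ω
    by_cases hω : ω ∈ S
    · refine OddPer.of_agree (T := S) ?_ (hxS.mul h.stab) hω (h.left ω hω)
      intro ξ hξ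
      show res x S hx hxS (z ξ) = x (z ξ)
      rw [res_apply_mem hx hxS (h.stab ξ hξ)]
    · refine ⟨1, odd_one, ?_⟩
      rw [pow_one, Perm.mul_apply, h.supp ω hω, res_apply_not_mem hx hxS hω]
  have h2 : Odd (orderOf (z * res y S hy hyS)) := by
    apply odd_orderOf_of_forall
    intro ω
    by_cases hω : ω ∈ S
    · refine OddPer.of_agree (T := S) ?_ (h.stab.mul hyS) hω (h.right ω hω)
      intro ξ hξ
      show z (res y S hy hyS ξ) = z (y ξ)
      rw [res_apply_mem hy hyS hξ]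
    · refine ⟨1, odd_one, ?_⟩
      rw [pow_one, Perm.mul_apply, res_apply_not_mem hy hyS hω, h.supp ω hω]
  rw [card_support_eq_of_odd_orderOf_mul (res_mul_self hx hxS) h.inv h1,
    card_support_eq_of_odd_orderOf_mul h.inv (res_mul_self hy hyS) h2]

theorem Bal.sdiff {x y : Perm Ω} {S S1 : Finset Ω} (h : Bal x y S) (h1 : Bal x y S1)
    (hsub : S1 ⊆ S) : Bal x y (S \ S1) := by
  unfold Bal at *
  have key : ∀ f : Perm Ω, (S.filter (fun ω => f ω ≠ ω)).card =
      (S1.filter (fun ω => f ω ≠ ω)).card + ((S \ S1).filter (fun ω => f ω ≠ ω)).card := by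
    intro f
    rw [← Finset.card_union_of_disjoint, ← Finset.filter_union, Finset.union_sdiff_of_subset hsub]
    exact Finset.disjoint_filter_filter Finset.disjoint_sdiff
  have a := key x
  have b := key y
  omega


end Cfsg.Agent.Helper95OddProd
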