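import Mathlib
import Cfsg.Agent.Lib.Helper95_OddProdBasic

/-!
# Products of conjugate involutions of odd order: local surgery (helper95)

The odd-excursion lemma `OddPer.of_excursion`, the six-point surgery `surg`, the one-sided lifting
lemmas `lift_end` and `lift_contract`, and the absorption of an exceptional four-cycle
(`QData`, `absorb`).
-/

set_option autoImplicit false
set_option linter.unusedSectionVars false

namespace Cfsg.Agent.Helper95OddProd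

open Equiv

variable {Ω : Type*} [DecidableEq Ω] [Fintype Ω]

/-! ### Odd periods: inverses, orbits, excursions -/

theorem oddPer_inv {π : Perm Ω} {ω : Ω} : OddPer π⁻¹ ω ↔ OddPer π ω := by
  constructor
  · rintro ⟨r, hr, h⟩
    refine ⟨r, hr, ?_⟩
    rw [inv_pow, Perm.inv_eq_iff_eq] at h
    exact h.symm
  · rintro ⟨r, hr, h⟩
    refine ⟨r, hr, ?_⟩
    rw [inv_pow, Perm.inv_eq_iff_eq]
    exact h.symm

theorem OddPer.apply {ν : Perm Ω} {ξ : Ω} (h : OddPer ν ξ) : OddPer ν (ν ξ) := by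
  obtain ⟨r, hr, h⟩ := h
  refine ⟨r, hr, ?_⟩
  rw [← Perm.mul_apply, ← pow_succ, pow_succ', Perm.mul_apply, h]

theorem OddPer.apply_eq {ν : Perm Ω} {ξ η : Ω} (h : OddPer ν ξ) (he : ν ξ = η) : OddPer ν η :=
  he ▸ h.apply

theorem oddPer_of_fixed {ν : Perm Ω} {ξ : Ω} (h : ν ξ = ξ) : OddPer ν ξ :=
  ⟨1, odd_one, by rw [pow_one, h]⟩

theorem pow_three_apply (ν : Perm Ω) (ξ : Ω) : (ν ^ 3) ξ = ν (ν (ν ξ)) := by
  simp only [pow_succ, pow_zero, one_mul, Perm.mul_apply]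

theorem pow_five_apply (ν : Perm Ω) (ξ : Ω) : (ν ^ 5) ξ = ν (ν (ν (ν (ν ξ)))) := by
  simp only [pow_succ, pow_zero, one_mul, Perm.mul_apply]

theorem oddPer_of_three {ν : Perm Ω} {a b d : Ω} (h1 : ν a = b) (h2 : ν b = d) (h3 : ν d = a) :
    OddPer ν a ∧ OddPer ν b ∧ OddPer ν d := by
  refine ⟨⟨3, by decide, ?_⟩, ⟨3, by decide, ?_⟩, ⟨3, by decide, ?_⟩⟩
  · rw [pow_three_apply, h1, h2, h3]
  · rw [pow_three_apply, h2, h3, h1]
  · rw [pow_three_apply, h3, h1, h2]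

/-- If the first-return map of `ν` to the `μ`-invariant set `T` is `μ` and every excursion has odd
length, then odd `μ`-periods on `T` give odd `ν`-periods. -/
theorem OddPer.of_excursion {μ ν : Perm Ω} {T : Finset Ω} (hT : Stab μ T)
    (h : ∀ ξ ∈ T, ∃ t : ℕ, t % 2 = 1 ∧ (ν ^ t) ξ = μ ξ) :
    ∀ ξ ∈ T, OddPer μ ξ → OddPer ν ξ := by
  have key : ∀ r : ℕ, ∀ ξ ∈ T, ∃ k : ℕ, k % 2 = r % 2 ∧ (ν ^ k) ξ = (μ ^ r) ξ := by
    intro r
    induction r with
    | zero => intro ξ _; exact ⟨0, rfl, by simp⟩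
    | succ r ih =>
      intro ξ hξ
      obtain ⟨k, hk, hk'⟩ := ih ξ hξ
      obtain ⟨t, ht, ht'⟩ := h _ (hT.pow r ξ hξ)
      refine ⟨t + k, by omega, ?_⟩
      rw [pow_add, Perm.mul_apply, hk', ht', pow_succ', Perm.mul_apply]
  rintro ξ hξ ⟨r, hr, hr'⟩
  obtain ⟨k, hk, hk'⟩ := key r ξ hξ
  refine ⟨k, ?_, by rw [hk', hr']⟩
  rw [Nat.odd_iff] at hr ⊢
  omega

theorem exc_one {μ ν : Perm Ω} {ξ : Ω} (h : ν ξ = μ ξ) :
    ∃ t : ℕ, t % 2 = 1 ∧ (ν ^ t) ξ = μ ξ := ⟨1, rfl, by rw [pow_one, h]⟩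

theorem exc_three {μ ν : Perm Ω} {ξ a b : Ω} (h1 : ν ξ = a) (h2 : ν a = b) (h3 : ν b = μ ξ) :
    ∃ t : ℕ, t % 2 = 1 ∧ (ν ^ t) ξ = μ ξ := ⟨3, rfl, by rw [pow_three_apply, h1, h2, h3]⟩

theorem exc_five {μ ν : Perm Ω} {ξ a b d e : Ω} (h1 : ν ξ = a) (h2 : ν a = b) (h3 : ν b = d)
    (h4 : ν d = e) (h5 : ν e = μ ξ) :
    ∃ t : ℕ, t % 2 = 1 ∧ (ν ^ t) ξ = μ ξ :=
  ⟨5, rfl, by rw [pow_five_apply, h1, h2, h3, h4, h5]⟩

/-! ### Left forms of a solution -/

theorem inv_eq_self_of_mul_self {z : Perm Ω} (hz : z * z = 1) : z⁻¹ = z :=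
  inv_eq_of_mul_eq_one_right hz

theorem Sol.right' {x y : Perm Ω} {S : Finset Ω} {z : Perm Ω} (hy : y * y = 1)
    (h : Sol x y S z) : ∀ ω ∈ S, OddPer (y * z) ω := by
  intro ω hω
  have := h.right ω hω
  rw [← oddPer_inv, mul_inv_rev, inv_eq_self_of_mul_self hy, inv_eq_self_of_mul_self h.inv] at this
  exact this

theorem Sol.of_left {x y : Perm Ω} {S : Finset Ω} {z : Perm Ω} (hy : y * y = 1)
    (hz : z * z = 1) (hs : ∀ ω, ω ∉ S → z ω = ω) (hl : ∀ ω ∈ S, OddPer (x * z) ω)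
    (hr : ∀ ω ∈ S, OddPer (y * z) ω) : Sol x y S z := by
  refine ⟨hz, hs, hl, ?_⟩
  intro ω hω
  have := hr ω hω
  rw [← oddPer_inv, mul_inv_rev, inv_eq_self_of_mul_self hy, inv_eq_self_of_mul_self hz] at this
  exact this

/-- Adding or removing an edge `{p, q}` to an involution that maps `{p, q}` to itself. -/
theorem mul_swap_mul_self {a : Perm Ω} (ha : a * a = 1) {p q : Ω}
    (h : (a p = p ∧ a q = q) ∨ (a p = q ∧ a q = p)) :
    (a * swap p q) * (a * swap p q) = 1 := by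
  have hc : a * swap p q = swap p q * a := by
    rw [Equiv.mul_swap_eq_swap_mul]
    rcases h with ⟨h1, h2⟩ | ⟨h1, h2⟩
    · rw [h1, h2]
    · rw [h1, h2, swap_comm]
  calc a * swap p q * (a * swap p q) = a * swap p q * (swap p q * a) := by rw [hc]
    _ = a * (swap p q * swap p q) * a := by group
    _ = 1 := by rw [swap_mul_self, mul_one, ha]


/-! ### Three-cycles and the six-point surgery -/

/-- The 3-cycle `a ↦ b ↦ d ↦ a`. -/
def cyc3 (a b d : Ω) : Perm Ω := swap a b * swap b d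

theorem cyc3_apply_1 {a b d : Ω} (hab : a ≠ b) (had : a ≠ d) : cyc3 a b d a = b := by
  rw [cyc3, Perm.mul_apply, swap_apply_of_ne_of_ne hab had, swap_apply_left]

theorem cyc3_apply_2 {a b d : Ω} (had : a ≠ d) (hbd : b ≠ d) : cyc3 a b d b = d := by
  rw [cyc3, Perm.mul_apply, swap_apply_left, swap_apply_of_ne_of_ne had.symm hbd.symm]

theorem cyc3_apply_3 {a b d : Ω} : cyc3 a b d d = a := by
  rw [cyc3, Perm.mul_apply, swap_apply_right, swap_apply_right]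

theorem cyc3_apply_of_ne {a b d ξ : Ω} (h1 : ξ ≠ a) (h2 : ξ ≠ b) (h3 : ξ ≠ d) :
    cyc3 a b d ξ = ξ := by
  rw [cyc3, Perm.mul_apply, swap_apply_of_ne_of_ne h2 h3, swap_apply_of_ne_of_ne h1 h2]

theorem cyc3_inv (a b d : Ω) : (cyc3 a b d)⁻¹ = cyc3 d b a := by
  rw [cyc3, cyc3, mul_inv_rev, swap_inv, swap_inv, swap_comm b d, swap_comm a b]

theorem conj_mul_self {g t : Perm Ω} (ht : t * t = 1) : (g * t * g⁻¹) * (g * t * g⁻¹) = 1 := by
  have : g * t * g⁻¹ * (g * t * g⁻¹) = g * (t * t) * g⁻¹ := by group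
  rw [this, ht, mul_one, mul_inv_cancel]

/-- The six-point surgery: the edges `u0u1`, `u2u3`, `d0d1` of `a` are replaced by `u0d0`, `u1u2`,
`u3d1`. -/
def surg (a : Perm Ω) (u1 d0 u3 : Ω) : Perm Ω := cyc3 u1 d0 u3 * a * (cyc3 u1 d0 u3)⁻¹

theorem surg_mul_self {a : Perm Ω} (ha : a * a = 1) (u1 d0 u3 : Ω) :
    surg a u1 d0 u3 * surg a u1 d0 u3 = 1 := conj_mul_self ha

section Surg

variable {a : Perm Ω} {u0 u1 u2 u3 d0 d1 : Ω}
  (a01 : a u0 = u1) (a10 : a u1 = u0) (a23 : a u2 = u3) (a32 : a u3 = u2)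
  (ad : a d0 = d1) (ad' : a d1 = d0)
  (h01 : u0 ≠ u1) (h0d : u0 ≠ d0) (h03 : u0 ≠ u3)
  (h21 : u2 ≠ u1) (h2d : u2 ≠ d0) (h23 : u2 ≠ u3)
  (hd1 : d1 ≠ u1) (hdd : d1 ≠ d0) (hd3 : d1 ≠ u3)
  (h1d : u1 ≠ d0) (h13 : u1 ≠ u3) (hd03 : d0 ≠ u3)

include a01 h01 h0d h03 h1d h13 in
theorem surg_u0 : surg a u1 d0 u3 u0 = d0 := by
  show cyc3 u1 d0 u3 (a ((cyc3 u1 d0 u3)⁻¹ u0)) = d0
  rw [cyc3_inv, cyc3_apply_of_ne h03 h0d h01, a01, cyc3_apply_1 h1d h13]

include a10 h01 h0d h03 h1d h13 in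
theorem surg_d0 : surg a u1 d0 u3 d0 = u0 := by
  show cyc3 u1 d0 u3 (a ((cyc3 u1 d0 u3)⁻¹ d0)) = u0
  rw [cyc3_inv, cyc3_apply_2 h13.symm h1d.symm, a10, cyc3_apply_of_ne h01 h0d h03]

include a32 h21 h2d h23 in
theorem surg_u1 : surg a u1 d0 u3 u1 = u2 := by
  show cyc3 u1 d0 u3 (a ((cyc3 u1 d0 u3)⁻¹ u1)) = u2
  rw [cyc3_inv, cyc3_apply_3, a32, cyc3_apply_of_ne h21 h2d h23]

include a23 h21 h2d h23 in
theorem surg_u2 : surg a u1 d0 u3 u2 = u1 := by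
  show cyc3 u1 d0 u3 (a ((cyc3 u1 d0 u3)⁻¹ u2)) = u1
  rw [cyc3_inv, cyc3_apply_of_ne h23 h2d h21, a23, cyc3_apply_3]

include ad hd1 hdd hd3 h13 hd03 in
theorem surg_u3 : surg a u1 d0 u3 u3 = d1 := by
  show cyc3 u1 d0 u3 (a ((cyc3 u1 d0 u3)⁻¹ u3)) = d1
  rw [cyc3_inv, cyc3_apply_1 hd03.symm h13.symm, ad, cyc3_apply_of_ne hd1 hdd hd3]

include ad' hd1 hdd hd3 h13 hd03 in
theorem surg_d1 : surg a u1 d0 u3 d1 = u3 := by
  show cyc3 u1 d0 u3 (a ((cyc3 u1 d0 u3)⁻¹ d1)) = u3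
  rw [cyc3_inv, cyc3_apply_of_ne hd3 hdd hd1, ad', cyc3_apply_2 h13 hd03]

include a01 a23 ad' in
theorem surg_of_ne {ξ : Ω} (e0 : ξ ≠ u0) (e1 : ξ ≠ u1) (e2 : ξ ≠ u2) (e3 : ξ ≠ u3)
    (e4 : ξ ≠ d0) (e5 : ξ ≠ d1) : surg a u1 d0 u3 ξ = a ξ := by
  show cyc3 u1 d0 u3 (a ((cyc3 u1 d0 u3)⁻¹ ξ)) = a ξ
  rw [cyc3_inv, cyc3_apply_of_ne e3 e4 e1]
  apply cyc3_apply_of_ne
  · intro h; rw [← a01] at h; exact e0 (a.injective h)
  · intro h; rw [← ad'] at h; exact e5 (a.injective h)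
  · intro h; rw [← a23] at h; exact e2 (a.injective h)

end Surg

/-! ### Lifting lemmas (one side at a time) -/

/-- End transfer: `a` has the edge `p p2` and fixes `q`; the solution `z'` for `a` without that edge
is extended by the edge `p q`. -/
theorem lift_end {a z' : Perm Ω} {p p2 q : Ω} {T : Finset Ω}
    (hap : a p = p2) (hap2 : a p2 = p) (haq : a q = q)
    (hz' : z' * z' = 1) (hz'p : z' p = p) (hz'q : z' q = q)
    (hpT : p ∉ T) (hqT : q ∉ T) (hp2T : p2 ∈ T) (hz'T : Stab z' T)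
    (hμT : Stab (a * swap p p2 * z') T)
    (h : ∀ ξ ∈ T, OddPer (a * swap p p2 * z') ξ) :
    (∀ ξ ∈ T, OddPer (a * (z' * swap p q)) ξ) ∧ OddPer (a * (z' * swap p q)) p ∧
      OddPer (a * (z' * swap p q)) q := by
  have hν : ∀ ξ ∈ T, (a * (z' * swap p q)) ξ = a (z' ξ) := by
    intro ξ hξ
    have h1 : ξ ≠ p := fun e => hpT (e ▸ hξ)
    have h2 : ξ ≠ q := fun e => hqT (e ▸ hξ)
    show a (z' (swap p q ξ)) = a (z' ξ)
    rw [swap_apply_of_ne_of_ne h1 h2]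
  have hνp : (a * (z' * swap p q)) p = q := by
    show a (z' (swap p q p)) = q
    rw [swap_apply_left, hz'q, haq]
  have hνq : (a * (z' * swap p q)) q = p2 := by
    show a (z' (swap p q q)) = p2
    rw [swap_apply_right, hz'p, hap]
  have hs : z' p2 ∈ T := hz'T _ hp2T
  have hνs : (a * (z' * swap p q)) (z' p2) = p := by
    rw [hν _ hs, inv_apply_self' hz', hap2]
  have key : ∀ ξ ∈ T, OddPer (a * (z' * swap p q)) ξ := by
    intro ξ hξ
    refine OddPer.of_excursion hμT ?_ ξ hξ (h ξ hξ)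
    intro η hη
    by_cases e : z' η = p2
    · refine exc_three (a := p) (b := q) ?_ hνp ?_
      · rw [hν η hη, e, hap2]
      · rw [hνq]
        show p2 = a (swap p p2 (z' η))
        rw [e, swap_apply_right, hap]
    · refine exc_one ?_
      rw [hν η hη]
      show a (z' η) = a (swap p p2 (z' η))
      have h1 : z' η ≠ p := fun e' => hpT (e' ▸ hz'T η hη)
      rw [swap_apply_of_ne_of_ne h1 e]
  refine ⟨key, ?_, ?_⟩
  · exact (key _ hs).apply_eq hνs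
  · exact ((key _ hs).apply_eq hνs).apply_eq hνp

/-- Contraction of four inner points of a stretch `u0 u1 u2 u3 u4 u5`. -/
theorem lift_contract {x x' z' : Perm Ω} {u0 u1 u2 u3 u4 u5 : Ω} {T : Finset Ω}
    (x01 : x u0 = u1) (x10 : x u1 = u0) (x23 : x u2 = u3) (x32 : x u3 = u2)
    (x45 : x u4 = u5) (x54 : x u5 = u4)
    (x'05 : x' u0 = u5) (x'50 : x' u5 = u0)
    (hx' : ∀ ξ ∈ T, ξ ≠ u0 → ξ ≠ u5 → x' ξ = x ξ)
    (hz' : z' * z' = 1) (hz'T : Stab z' T)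
    (z1 : z' u1 = u1) (z2 : z' u2 = u2) (z3 : z' u3 = u3) (z4 : z' u4 = u4)
    (h13 : u1 ≠ u3) (h14 : u1 ≠ u4) (h23 : u2 ≠ u3) (h24 : u2 ≠ u4)
    (hu0 : u0 ∈ T) (hu5 : u5 ∈ T) (hu1 : u1 ∉ T) (hu2 : u2 ∉ T) (hu3 : u3 ∉ T) (hu4 : u4 ∉ T)
    (hμT : Stab (x' * z') T)
    (h : ∀ ξ ∈ T, OddPer (x' * z') ξ) :
    (∀ ξ ∈ T, OddPer (x * (z' * swap u1 u2 * swap u3 u4)) ξ) ∧
      OddPer (x * (z' * swap u1 u2 * swap u3 u4)) u1 ∧
      OddPer (x * (z' * swap u1 u2 * swap u3 u4)) u2 ∧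
      OddPer (x * (z' * swap u1 u2 * swap u3 u4)) u3 ∧
      OddPer (x * (z' * swap u1 u2 * swap u3 u4)) u4 := by
  set z := z' * swap u1 u2 * swap u3 u4 with hz
  have zT : ∀ ξ ∈ T, z ξ = z' ξ := by
    intro ξ hξ
    have e1 : ξ ≠ u1 := fun e => hu1 (e ▸ hξ)
    have e2 : ξ ≠ u2 := fun e => hu2 (e ▸ hξ)
    have e3 : ξ ≠ u3 := fun e => hu3 (e ▸ hξ)
    have e4 : ξ ≠ u4 := fun e => hu4 (e ▸ hξ)
    show z' (swap u1 u2 (swap u3 u4 ξ)) = z' ξ
    rw [swap_apply_of_ne_of_ne e3 e4, swap_apply_of_ne_of_ne e1 e2]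
  have zu1 : z u1 = u2 := by
    show z' (swap u1 u2 (swap u3 u4 u1)) = u2
    rw [swap_apply_of_ne_of_ne h13 h14, swap_apply_left, z2]
  have zu2 : z u2 = u1 := by
    show z' (swap u1 u2 (swap u3 u4 u2)) = u1
    rw [swap_apply_of_ne_of_ne h23 h24, swap_apply_right, z1]
  have zu3 : z u3 = u4 := by
    show z' (swap u1 u2 (swap u3 u4 u3)) = u4
    rw [swap_apply_left, swap_apply_of_ne_of_ne h14.symm h24.symm, z4]
  have zu4 : z u4 = u3 := by
    show z' (swap u1 u2 (swap u3 u4 u4)) = u3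
    rw [swap_apply_right, swap_apply_of_ne_of_ne h13.symm h23.symm, z3]
  have ν1 : (x * z) u1 = u3 := by show x (z u1) = u3; rw [zu1, x23]
  have ν3 : (x * z) u3 = u5 := by show x (z u3) = u5; rw [zu3, x45]
  have ν4 : (x * z) u4 = u2 := by show x (z u4) = u2; rw [zu4, x32]
  have ν2 : (x * z) u2 = u0 := by show x (z u2) = u0; rw [zu2, x10]
  have νT : ∀ ξ ∈ T, (x * z) ξ = x (z' ξ) := by
    intro ξ hξ
    show x (z ξ) = x (z' ξ)
    rw [zT ξ hξ]
  have hs0 : z' u0 ∈ T := hz'T _ hu0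
  have hs5 : z' u5 ∈ T := hz'T _ hu5
  have νs0 : (x * z) (z' u0) = u1 := by rw [νT _ hs0, inv_apply_self' hz', x01]
  have νs5 : (x * z) (z' u5) = u4 := by rw [νT _ hs5, inv_apply_self' hz', x54]
  have key : ∀ ξ ∈ T, OddPer (x * z) ξ := by
    intro ξ hξ
    refine OddPer.of_excursion hμT ?_ ξ hξ (h ξ hξ)
    intro η hη
    by_cases e0 : z' η = u0
    · refine exc_three (a := u1) (b := u3) ?_ ν1 ?_
      · rw [νT η hη, e0, x01]
      · rw [ν3]; show u5 = x' (z' η); rw [e0, x'05]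
    · by_cases e5 : z' η = u5
      · refine exc_three (a := u4) (b := u2) ?_ ν4 ?_
        · rw [νT η hη, e5, x54]
        · rw [ν2]; show u0 = x' (z' η); rw [e5, x'50]
      · refine exc_one ?_
        rw [νT η hη]
        show x (z' η) = x' (z' η)
        rw [hx' _ (hz'T η hη) e0 e5]
  refine ⟨key, ?_, ?_, ?_, ?_⟩
  · exact (key _ hs0).apply_eq νs0
  · exact (((key _ hs5).apply_eq νs5).apply_eq ν4)
  · exact (((key _ hs0).apply_eq νs0).apply_eq ν1)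
  · exact (key _ hs5).apply_eq νs5

/-! ### The exceptional four-cycle and its absorption -/

/-- The points `c0 c1 c2 c3` form an alternating four-cycle `c0 -x- c1 -y- c2 -x- c3 -y- c0`. -/
structure QData (x y : Perm Ω) (c0 c1 c2 c3 : Ω) : Prop where
  x01 : x c0 = c1
  x23 : x c2 = c3
  y12 : y c1 = c2
  y30 : y c3 = c0
  ne01 : c0 ≠ c1
  ne02 : c0 ≠ c2
  ne03 : c0 ≠ c3
  ne12 : c1 ≠ c2
  ne13 : c1 ≠ c3
  ne23 : c2 ≠ c3

namespace QData

variable {x y : Perm Ω} {c0 c1 c2 c3 : Ω}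

theorem x10 (h : QData x y c0 c1 c2 c3) (hx : x * x = 1) : x c1 = c0 := by
  rw [← h.x01, inv_apply_self' hx]

theorem x32 (h : QData x y c0 c1 c2 c3) (hx : x * x = 1) : x c3 = c2 := by
  rw [← h.x23, inv_apply_self' hx]

theorem y21 (h : QData x y c0 c1 c2 c3) (hy : y * y = 1) : y c2 = c1 := by
  rw [← h.y12, inv_apply_self' hy]

theorem y03 (h : QData x y c0 c1 c2 c3) (hy : y * y = 1) : y c0 = c3 := by
  rw [← h.y30, inv_apply_self' hy]

/-- The point set of the four-cycle. -/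
def pts (_ : QData x y c0 c1 c2 c3) : Finset Ω := {c0, c1, c2, c3}

theorem mem_pts (h : QData x y c0 c1 c2 c3) {ξ : Ω} :
    ξ ∈ h.pts ↔ ξ = c0 ∨ ξ = c1 ∨ ξ = c2 ∨ ξ = c3 := by
  simp [pts]

theorem stab_x (h : QData x y c0 c1 c2 c3) (hx : x * x = 1) : Stab x h.pts := by
  intro ξ hξ
  rw [h.mem_pts] at hξ ⊢
  rcases hξ with rfl | rfl | rfl | rfl
  · right; left; exact h.x01
  · left; exact h.x10 hx
  · right; right; right; exact h.x23
  · right; right; left; exact h.x32 hx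

theorem stab_y (h : QData x y c0 c1 c2 c3) (hy : y * y = 1) : Stab y h.pts := by
  intro ξ hξ
  rw [h.mem_pts] at hξ ⊢
  rcases hξ with rfl | rfl | rfl | rfl
  · right; right; right; exact h.y03 hy
  · right; right; left; exact h.y12
  · right; left; exact h.y21 hy
  · left; exact h.y30

theorem card_pts (h : QData x y c0 c1 c2 c3) : h.pts.card = 4 := by
  unfold pts
  rw [Finset.card_insert_of_notMem, Finset.card_insert_of_notMem, Finset.card_insert_of_notMem,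
    Finset.card_singleton]
  · simp [h.ne23]
  · simp [h.ne12, h.ne13]
  · simp [h.ne01, h.ne02, h.ne03]

theorem bal (h : QData x y c0 c1 c2 c3) (hx : x * x = 1) (hy : y * y = 1) : Bal x y h.pts := by
  unfold Bal
  have e1 : h.pts.filter (fun ω => x ω ≠ ω) = h.pts := by
    apply Finset.filter_true_of_mem
    intro ξ hξ
    rw [h.mem_pts] at hξ
    rcases hξ with rfl | rfl | rfl | rfl
    · rw [h.x01]; exact h.ne01.symm
    · rw [h.x10 hx]; exact h.ne01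
    · rw [h.x23]; exact h.ne23.symm
    · rw [h.x32 hx]; exact h.ne23
  have e2 : h.pts.filter (fun ω => y ω ≠ ω) = h.pts := by
    apply Finset.filter_true_of_mem
    intro ξ hξ
    rw [h.mem_pts] at hξ
    rcases hξ with rfl | rfl | rfl | rfl
    · rw [h.y03 hy]; exact h.ne03.symm
    · rw [h.y12]; exact h.ne12.symm
    · rw [h.y21 hy]; exact h.ne12
    · rw [h.y30]; exact h.ne03
  rw [e1, e2]

end QData

section Absorb

variable {x y : Perm Ω} {c0 c1 c2 c3 : Ω} {S1 : Finset Ω} {z1 : Perm Ω}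

theorem absorbA (hx : x * x = 1) (hy : y * y = 1) (hxS : Stab x S1) (hyS : Stab y S1)
    (hq : QData x y c0 c1 c2 c3) (hd : Disjoint S1 hq.pts) (h1 : Sol x y S1 z1)
    {u : Ω} (hu : u ∈ S1) (hzu : z1 u = u) :
    Sol x y (S1 ∪ hq.pts) (z1 * swap u c1 * swap c2 c3) := by
  have n0 : c0 ∉ S1 := fun h => Finset.disjoint_left.mp hd h (hq.mem_pts.mpr (Or.inl rfl))
  have n1 : c1 ∉ S1 := fun h =>
    Finset.disjoint_left.mp hd h (hq.mem_pts.mpr (Or.inr (Or.inl rfl)))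
  have n2 : c2 ∉ S1 := fun h =>
    Finset.disjoint_left.mp hd h (hq.mem_pts.mpr (Or.inr (Or.inr (Or.inl rfl))))
  have n3 : c3 ∉ S1 := fun h =>
    Finset.disjoint_left.mp hd h (hq.mem_pts.mpr (Or.inr (Or.inr (Or.inr rfl))))
  have ne : ∀ {ξ c : Ω}, ξ ∈ S1 → c ∉ S1 → ξ ≠ c := fun hξ hc e => hc (e ▸ hξ)
  have zc0 := h1.supp c0 n0
  have zc1 := h1.supp c1 n1
  have zc2 := h1.supp c2 n2
  have zc3 := h1.supp c3 n3
  set z := z1 * swap u c1 * swap c2 c3 with hz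
  have zu : z u = c1 := by
    show z1 (swap u c1 (swap c2 c3 u)) = c1
    rw [swap_apply_of_ne_of_ne (ne hu n2) (ne hu n3), swap_apply_left, zc1]
  have zc1' : z c1 = u := by
    show z1 (swap u c1 (swap c2 c3 c1)) = u
    rw [swap_apply_of_ne_of_ne hq.ne12 hq.ne13, swap_apply_right, hzu]
  have zc2' : z c2 = c3 := by
    show z1 (swap u c1 (swap c2 c3 c2)) = c3
    rw [swap_apply_left, swap_apply_of_ne_of_ne (ne hu n3).symm hq.ne13.symm, zc3]
  have zc3' : z c3 = c2 := by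
    show z1 (swap u c1 (swap c2 c3 c3)) = c2
    rw [swap_apply_right, swap_apply_of_ne_of_ne (ne hu n2).symm hq.ne12.symm, zc2]
  have zc0' : z c0 = c0 := by
    show z1 (swap u c1 (swap c2 c3 c0)) = c0
    rw [swap_apply_of_ne_of_ne hq.ne02 hq.ne03, swap_apply_of_ne_of_ne (ne hu n0).symm hq.ne01,
      zc0]
  have zgen : ∀ ξ, ξ ≠ u → ξ ≠ c1 → ξ ≠ c2 → ξ ≠ c3 → z ξ = z1 ξ := by
    intro ξ e0 e1 e2 e3
    show z1 (swap u c1 (swap c2 c3 ξ)) = z1 ξ
    rw [swap_apply_of_ne_of_ne e2 e3, swap_apply_of_ne_of_ne e0 e1]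
  have zS : ∀ ξ ∈ S1, ξ ≠ u → z ξ = z1 ξ := fun ξ hξ e =>
    zgen ξ e (ne hξ n1) (ne hξ n2) (ne hξ n3)
  have hw : (z1 * swap u c1) * (z1 * swap u c1) = 1 :=
    mul_swap_mul_self h1.inv (Or.inl ⟨hzu, zc1⟩)
  have hzz : z * z = 1 := by
    refine mul_swap_mul_self hw (Or.inl ⟨?_, ?_⟩)
    · show z1 (swap u c1 c2) = c2
      rw [swap_apply_of_ne_of_ne (ne hu n2).symm hq.ne12.symm, zc2]
    · show z1 (swap u c1 c3) = c3
      rw [swap_apply_of_ne_of_ne (ne hu n3).symm hq.ne13.symm, zc3]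
  -- left side
  have keyL : ∀ ξ ∈ S1, OddPer (x * z) ξ := by
    intro ξ hξ
    refine OddPer.of_excursion (hxS.mul h1.stab) ?_ ξ hξ (h1.left ξ hξ)
    intro η hη
    by_cases e : η = u
    · subst e
      refine exc_three (a := c0) (b := c1) ?_ ?_ ?_
      · show x (z η) = c0; rw [zu, hq.x10 hx]
      · show x (z c0) = c1; rw [zc0', hq.x01]
      · show x (z c1) = x (z1 η); rw [zc1', hzu]
    · refine exc_one ?_
      show x (z η) = x (z1 η)
      rw [zS η hη e]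
  have L0 : OddPer (x * z) c0 := (keyL u hu).apply_eq (by show x (z u) = c0; rw [zu, hq.x10 hx])
  have L1 : OddPer (x * z) c1 := L0.apply_eq (by show x (z c0) = c1; rw [zc0', hq.x01])
  have L2 : OddPer (x * z) c2 := oddPer_of_fixed (by show x (z c2) = c2; rw [zc2', hq.x32 hx])
  have L3 : OddPer (x * z) c3 := oddPer_of_fixed (by show x (z c3) = c3; rw [zc3', hq.x23])
  -- right side
  have keyR : ∀ ξ ∈ S1, OddPer (y * z) ξ := by
    intro ξ hξ
    refine OddPer.of_excursion (hyS.mul h1.stab) ?_ ξ hξ (h1.right' hy ξ hξ)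
    intro η hη
    by_cases e : η = u
    · subst e
      refine exc_five (a := c2) (b := c0) (d := c3) (e := c1) ?_ ?_ ?_ ?_ ?_
      · show y (z η) = c2; rw [zu, hq.y12]
      · show y (z c2) = c0; rw [zc2', hq.y30]
      · show y (z c0) = c3; rw [zc0', hq.y03 hy]
      · show y (z c3) = c1; rw [zc3', hq.y21 hy]
      · show y (z c1) = y (z1 η); rw [zc1', hzu]
    · refine exc_one ?_
      show y (z η) = y (z1 η)
      rw [zS η hη e]
  have R2 : OddPer (y * z) c2 := (keyR u hu).apply_eq (by show y (z u) = c2; rw [zu, hq.y12])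
  have R0 : OddPer (y * z) c0 := R2.apply_eq (by show y (z c2) = c0; rw [zc2', hq.y30])
  have R3 : OddPer (y * z) c3 := R0.apply_eq (by show y (z c0) = c3; rw [zc0', hq.y03 hy])
  have R1 : OddPer (y * z) c1 := R3.apply_eq (by show y (z c3) = c1; rw [zc3', hq.y21 hy])
  refine Sol.of_left hy hzz ?_ ?_ ?_
  · intro ξ hξ
    rw [Finset.mem_union, not_or, hq.mem_pts] at hξ
    obtain ⟨a, b⟩ := hξ
    simp only [not_or] at b
    rw [zgen ξ (fun e => a (e ▸ hu)) b.2.1 b.2.2.1 b.2.2.2]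
    exact h1.supp ξ a
  · intro ξ hξ
    rw [Finset.mem_union, hq.mem_pts] at hξ
    rcases hξ with h | rfl | rfl | rfl | rfl
    · exact keyL ξ h
    · exact L0
    · exact L1
    · exact L2
    · exact L3
  · intro ξ hξ
    rw [Finset.mem_union, hq.mem_pts] at hξ
    rcases hξ with h | rfl | rfl | rfl | rfl
    · exact keyR ξ h
    · exact R0
    · exact R1
    · exact R2
    · exact R3

theorem absorbB (hx : x * x = 1) (hy : y * y = 1) (hxS : Stab x S1) (hyS : Stab y S1)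
    (hq : QData x y c0 c1 c2 c3) (hd : Disjoint S1 hq.pts) (h1 : Sol x y S1 z1)
    {p : Ω} (hp : p ∈ S1) (hzp : z1 p ≠ p) :
    Sol x y (S1 ∪ hq.pts) (surg (z1 * swap c0 c1 * swap c2 c3) c1 c2 p) := by
  have n0 : c0 ∉ S1 := fun h => Finset.disjoint_left.mp hd h (hq.mem_pts.mpr (Or.inl rfl))
  have n1 : c1 ∉ S1 := fun h =>
    Finset.disjoint_left.mp hd h (hq.mem_pts.mpr (Or.inr (Or.inl rfl)))
  have n2 : c2 ∉ S1 := fun h =>
    Finset.disjoint_left.mp hd h (hq.mem_pts.mpr (Or.inr (Or.inr (Or.inl rfl))))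
  have n3 : c3 ∉ S1 := fun h =>
    Finset.disjoint_left.mp hd h (hq.mem_pts.mpr (Or.inr (Or.inr (Or.inr rfl))))
  have ne : ∀ {ξ c : Ω}, ξ ∈ S1 → c ∉ S1 → ξ ≠ c := fun hξ hc e => hc (e ▸ hξ)
  have zc0 := h1.supp c0 n0
  have zc1 := h1.supp c1 n1
  have zc2 := h1.supp c2 n2
  have zc3 := h1.supp c3 n3
  set q := z1 p with hqdef
  have hqS : q ∈ S1 := h1.stab p hp
  have hzq : z1 q = p := inv_apply_self' h1.inv p
  set a := z1 * swap c0 c1 * swap c2 c3 with ha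
  have ac0 : a c0 = c1 := by
    show z1 (swap c0 c1 (swap c2 c3 c0)) = c1
    rw [swap_apply_of_ne_of_ne hq.ne02 hq.ne03, swap_apply_left, zc1]
  have ac1 : a c1 = c0 := by
    show z1 (swap c0 c1 (swap c2 c3 c1)) = c0
    rw [swap_apply_of_ne_of_ne hq.ne12 hq.ne13, swap_apply_right, zc0]
  have ac2 : a c2 = c3 := by
    show z1 (swap c0 c1 (swap c2 c3 c2)) = c3
    rw [swap_apply_left, swap_apply_of_ne_of_ne hq.ne03.symm hq.ne13.symm, zc3]
  have ac3 : a c3 = c2 := by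
    show z1 (swap c0 c1 (swap c2 c3 c3)) = c2
    rw [swap_apply_right, swap_apply_of_ne_of_ne hq.ne02.symm hq.ne12.symm, zc2]
  have agen : ∀ ξ, ξ ≠ c0 → ξ ≠ c1 → ξ ≠ c2 → ξ ≠ c3 → a ξ = z1 ξ := by
    intro ξ e0 e1 e2 e3
    show z1 (swap c0 c1 (swap c2 c3 ξ)) = z1 ξ
    rw [swap_apply_of_ne_of_ne e2 e3, swap_apply_of_ne_of_ne e0 e1]
  have aS : ∀ ξ ∈ S1, a ξ = z1 ξ := fun ξ hξ =>
    agen ξ (ne hξ n0) (ne hξ n1) (ne hξ n2) (ne hξ n3)
  have ap : a p = q := aS p hp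
  have aq : a q = p := by rw [aS q hqS, hzq]
  have hw : (z1 * swap c0 c1) * (z1 * swap c0 c1) = 1 :=
    mul_swap_mul_self h1.inv (Or.inl ⟨zc0, zc1⟩)
  have haa : a * a = 1 := by
    refine mul_swap_mul_self hw (Or.inl ⟨?_, ?_⟩)
    · show z1 (swap c0 c1 c2) = c2
      rw [swap_apply_of_ne_of_ne hq.ne02.symm hq.ne12.symm, zc2]
    · show z1 (swap c0 c1 c3) = c3
      rw [swap_apply_of_ne_of_ne hq.ne03.symm hq.ne13.symm, zc3]
  set z := surg a c1 c2 p with hz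
  have hzz : z * z = 1 := surg_mul_self haa c1 c2 p
  have h0p : c0 ≠ p := (ne hp n0).symm
  have h1p : c1 ≠ p := (ne hp n1).symm
  have h2p : c2 ≠ p := (ne hp n2).symm
  have h3p : c3 ≠ p := (ne hp n3).symm
  have hq1 : q ≠ c1 := ne hqS n1
  have hq2 : q ≠ c2 := ne hqS n2
  -- values of z (u0,u1,u2,u3,d0,d1) = (c0,c1,q,p,c2,c3)
  have zc0' : z c0 = c2 := surg_u0 ac0 hq.ne01 hq.ne02 h0p hq.ne12 h1p
  have zc2' : z c2 = c0 := surg_d0 ac1 hq.ne01 hq.ne02 h0p hq.ne12 h1p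
  have zc1' : z c1 = q := surg_u1 ap hq1 hq2 hzp
  have zq' : z q = c1 := surg_u2 aq hq1 hq2 hzp
  have zp' : z p = c3 := surg_u3 ac2 hq.ne13.symm hq.ne23.symm h3p h1p h2p
  have zc3' : z c3 = p := surg_d1 ac3 hq.ne13.symm hq.ne23.symm h3p h1p h2p
  have zgen : ∀ ξ, ξ ≠ c0 → ξ ≠ c1 → ξ ≠ q → ξ ≠ p → ξ ≠ c2 → ξ ≠ c3 → z ξ = a ξ :=
    fun ξ e0 e1 e2 e3 e4 e5 => surg_of_ne ac0 aq ac3 e0 e1 e2 e3 e4 e5
  have zS : ∀ ξ ∈ S1, ξ ≠ p → ξ ≠ q → z ξ = z1 ξ := by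
    intro ξ hξ e1 e2
    rw [zgen ξ (ne hξ n0) (ne hξ n1) e2 e1 (ne hξ n2) (ne hξ n3), aS ξ hξ]
  -- left side
  have keyL : ∀ ξ ∈ S1, OddPer (x * z) ξ := by
    intro ξ hξ
    refine OddPer.of_excursion (hxS.mul h1.stab) ?_ ξ hξ (h1.left ξ hξ)
    intro η hη
    by_cases e : η = p
    · subst e
      refine exc_three (a := c2) (b := c1) ?_ ?_ ?_
      · show x (z η) = c2; rw [zp', hq.x32 hx]
      · show x (z c2) = c1; rw [zc2', hq.x01]
      · show x (z c1) = x (z1 η); rw [zc1']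
    · by_cases e' : η = q
      · refine exc_three (a := c0) (b := c3) ?_ ?_ ?_
        · show x (z η) = c0; rw [e', zq', hq.x10 hx]
        · show x (z c0) = c3; rw [zc0', hq.x23]
        · show x (z c3) = x (z1 η); rw [zc3', e', hzq]
      · refine exc_one ?_
        show x (z η) = x (z1 η)
        rw [zS η hη e e']
  have L2 : OddPer (x * z) c2 := (keyL p hp).apply_eq (by show x (z p) = c2; rw [zp', hq.x32 hx])
  have L1 : OddPer (x * z) c1 := L2.apply_eq (by show x (z c2) = c1; rw [zc2', hq.x01])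
  have L0 : OddPer (x * z) c0 :=
    (keyL q hqS).apply_eq (by show x (z q) = c0; rw [zq', hq.x10 hx])
  have L3 : OddPer (x * z) c3 := L0.apply_eq (by show x (z c0) = c3; rw [zc0', hq.x23])
  -- right side
  have keyR : ∀ ξ ∈ S1, OddPer (y * z) ξ := by
    intro ξ hξ
    refine OddPer.of_excursion (hyS.mul h1.stab) ?_ ξ hξ (h1.right' hy ξ hξ)
    intro η hη
    by_cases e : η = p
    · subst e
      refine exc_three (a := c0) (b := c1) ?_ ?_ ?_
      · show y (z η) = c0; rw [zp', hq.y30]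
      · show y (z c0) = c1; rw [zc0', hq.y21 hy]
      · show y (z c1) = y (z1 η); rw [zc1']
    · by_cases e' : η = q
      · refine exc_three (a := c2) (b := c3) ?_ ?_ ?_
        · show y (z η) = c2; rw [e', zq', hq.y12]
        · show y (z c2) = c3; rw [zc2', hq.y03 hy]
        · show y (z c3) = y (z1 η); rw [zc3', e', hzq]
      · refine exc_one ?_
        show y (z η) = y (z1 η)
        rw [zS η hη e e']
  have R0 : OddPer (y * z) c0 := (keyR p hp).apply_eq (by show y (z p) = c0; rw [zp', hq.y30])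
  have R1 : OddPer (y * z) c1 := R0.apply_eq (by show y (z c0) = c1; rw [zc0', hq.y21 hy])
  have R2 : OddPer (y * z) c2 :=
    (keyR q hqS).apply_eq (by show y (z q) = c2; rw [zq', hq.y12])
  have R3 : OddPer (y * z) c3 := R2.apply_eq (by show y (z c2) = c3; rw [zc2', hq.y03 hy])
  refine Sol.of_left hy hzz ?_ ?_ ?_
  · intro ξ hξ
    rw [Finset.mem_union, not_or, hq.mem_pts] at hξ
    obtain ⟨h, b⟩ := hξ
    simp only [not_or] at b
    rw [zgen ξ b.1 b.2.1 (fun e => h (e ▸ hqS)) (fun e => h (e ▸ hp)) b.2.2.1 b.2.2.2,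
      agen ξ b.1 b.2.1 b.2.2.1 b.2.2.2]
    exact h1.supp ξ h
  · intro ξ hξ
    rw [Finset.mem_union, hq.mem_pts] at hξ
    rcases hξ with h | rfl | rfl | rfl | rfl
    · exact keyL ξ h
    · exact L0
    · exact L1
    · exact L2
    · exact L3
  · intro ξ hξ
    rw [Finset.mem_union, hq.mem_pts] at hξ
    rcases hξ with h | rfl | rfl | rfl | rfl
    · exact keyR ξ h
    · exact R0
    · exact R1
    · exact R2
    · exact R3

/-- An exceptional four-cycle can be absorbed into any solved nonempty invariant set. -/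
theorem absorb (hx : x * x = 1) (hy : y * y = 1) (hxS : Stab x S1) (hyS : Stab y S1)
    (hq : QData x y c0 c1 c2 c3) (hd : Disjoint S1 hq.pts) (h1 : Sol x y S1 z1)
    (hne : S1.Nonempty) : ∃ z, Sol x y (S1 ∪ hq.pts) z := by
  by_cases h : ∃ u ∈ S1, z1 u = u
  · obtain ⟨u, hu, hzu⟩ := h
    exact ⟨_, absorbA hx hy hxS hyS hq hd h1 hu hzu⟩
  · obtain ⟨p, hp⟩ := hne
    exact ⟨_, absorbB hx hy hxS hyS hq hd h1 hp (fun e => h ⟨p, hp, e⟩)⟩

end Absorb

end Cfsg.Agent.Helper95OddProd
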