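import Mathlib
import Cfsg.Agent.Lib.Helper95_OddProdLocal

/-!
# Products of conjugate involutions of odd order: the common neighbour (helper95)

`exists_involution_odd_mul`: two involutions `x`, `y` of a finite set with at least five points that
move equally many points have a common neighbour `z` (an involution with `x z` and `z y` of odd
order). The proof is a strong induction on invariant subsets (`exists_sol`) with four local
reductions: a point with `x ω = y ω`, transfer of two loose ends, contraction of four inner points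
of a six-point stretch, and absorption of an exceptional four-cycle; the bases are the eight-cycle
and a pair of four-cycles.
-/

set_option autoImplicit false
set_option linter.unusedSectionVars false

namespace Cfsg.Agent.Helper95OddProd

open Equiv

variable {Ω : Type*} [DecidableEq Ω] [Fintype Ω]

/-! ### The exceptional configuration -/

/-- `x` and `y` are fixed-point-free on `S` and share no edge there. -/
def Free (x y : Perm Ω) (S : Finset Ω) : Prop := ∀ ω ∈ S, x ω ≠ ω ∧ y ω ≠ ω ∧ x ω ≠ y ω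

/-- `S` is a single alternating four-cycle of `x` and `y`. -/
def Exc (x y : Perm Ω) (S : Finset Ω) : Prop :=
  S.card = 4 ∧ Free x y S ∧ ∀ ω ∈ S, y (x (y (x ω))) = ω

theorem qdata_of {x y : Perm Ω} {S : Finset Ω} (hx : x * x = 1) (hy : y * y = 1)
    (hxS : Stab x S) (hyS : Stab y S) (hf : Free x y S) {ω : Ω} (hω : ω ∈ S)
    (h4 : y (x (y (x ω))) = ω) : QData x y ω (x ω) (y (x ω)) (x (y (x ω))) := by
  have m1 : x ω ∈ S := hxS ω hω
  have m2 : y (x ω) ∈ S := hyS _ m1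
  have m3 : x (y (x ω)) ∈ S := hxS _ m2
  have ne02 : ω ≠ y (x ω) := by
    intro e
    apply (hf ω hω).2.2
    have : y ω = y (y (x ω)) := congrArg y e
    rw [inv_apply_self' hy] at this
    exact this.symm
  refine ⟨rfl, rfl, rfl, h4, (hf ω hω).1.symm, ne02, ?_, (hf _ m1).2.1.symm, ?_,
    (hf _ m2).1.symm⟩
  · intro e
    apply (hf _ m3).2.1
    rw [← e] at h4 ⊢
    exact h4
  · intro e
    apply ne02
    have : x (x ω) = x (x (y (x ω))) := congrArg x e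
    rw [inv_apply_self' hx, inv_apply_self' hx] at this
    exact this

theorem Exc.qdata {x y : Perm Ω} {S : Finset Ω} (hx : x * x = 1) (hy : y * y = 1)
    (hxS : Stab x S) (hyS : Stab y S) (h : Exc x y S) {ω : Ω} (hω : ω ∈ S) :
    ∃ hq : QData x y ω (x ω) (y (x ω)) (x (y (x ω))), S = hq.pts := by
  have hq := qdata_of hx hy hxS hyS h.2.1 hω (h.2.2 ω hω)
  refine ⟨hq, ?_⟩
  symm
  apply Finset.eq_of_subset_of_card_le
  · intro ξ hξ
    rw [hq.mem_pts] at hξ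
    rcases hξ with rfl | rfl | rfl | rfl
    · exact hω
    · exact hxS _ hω
    · exact hyS _ (hxS _ hω)
    · exact hxS _ (hyS _ (hxS _ hω))
  · rw [hq.card_pts, h.1]

theorem exc_of_qdata {x y : Perm Ω} {c0 c1 c2 c3 : Ω} (hx : x * x = 1) (hy : y * y = 1)
    (hq : QData x y c0 c1 c2 c3) (hne : ∀ ξ ∈ hq.pts, x ξ ≠ y ξ) : Exc x y hq.pts := by
  refine ⟨hq.card_pts, ?_, ?_⟩
  · intro ξ hξ
    refine ⟨?_, ?_, hne ξ hξ⟩
    · rw [hq.mem_pts] at hξ
      rcases hξ with rfl | rfl | rfl | rfl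
      · rw [hq.x01]; exact hq.ne01.symm
      · rw [hq.x10 hx]; exact hq.ne01
      · rw [hq.x23]; exact hq.ne23.symm
      · rw [hq.x32 hx]; exact hq.ne23
    · rw [hq.mem_pts] at hξ
      rcases hξ with rfl | rfl | rfl | rfl
      · rw [hq.y03 hy]; exact hq.ne03.symm
      · rw [hq.y12]; exact hq.ne12.symm
      · rw [hq.y21 hy]; exact hq.ne12
      · rw [hq.y30]; exact hq.ne03
  · intro ξ hξ
    rw [hq.mem_pts] at hξ
    rcases hξ with rfl | rfl | rfl | rfl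
    · rw [hq.x01, hq.y12, hq.x23, hq.y30]
    · rw [hq.x10 hx, hq.y03 hy, hq.x32 hx, hq.y21 hy]
    · rw [hq.x23, hq.y30, hq.x01, hq.y12]
    · rw [hq.x32 hx, hq.y21 hy, hq.x10 hx, hq.y03 hy]

/-! ### A point with `x ω = y ω` -/

theorem stab_pair_x {x : Perm Ω} (hx : x * x = 1) (ω : Ω) : Stab x ({ω, x ω} : Finset Ω) := by
  intro ξ hξ
  rw [Finset.mem_insert, Finset.mem_singleton] at hξ ⊢
  rcases hξ with rfl | rfl
  · right; rfl
  · left; exact inv_apply_self' hx _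

theorem stab_pair_y {x y : Perm Ω} (hy : y * y = 1) {ω : Ω} (h : x ω = y ω) :
    Stab y ({ω, x ω} : Finset Ω) := by
  intro ξ hξ
  rw [Finset.mem_insert, Finset.mem_singleton] at hξ ⊢
  rcases hξ with rfl | rfl
  · right; exact h.symm
  · left; rw [h]; exact inv_apply_self' hy _

theorem sol_pair {x y : Perm Ω} (hx : x * x = 1) (hy : y * y = 1) {ω : Ω} (h : x ω = y ω) :
    Sol x y {ω, x ω} (res x {ω, x ω} hx (stab_pair_x hx ω)) := by
  have hS := stab_pair_x hx ω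
  refine ⟨res_mul_self hx hS, fun ξ hξ => res_apply_not_mem hx hS hξ, ?_, ?_⟩
  · intro ξ hξ
    apply oddPer_of_fixed
    show x (res x {ω, x ω} hx hS ξ) = ξ
    rw [res_apply_mem hx hS hξ, inv_apply_self' hx]
  · intro ξ hξ
    apply oddPer_of_fixed
    show res x {ω, x ω} hx hS (y ξ) = ξ
    rw [res_apply_mem hx hS (stab_pair_y hy h ξ hξ)]
    rw [Finset.mem_insert, Finset.mem_singleton] at hξ
    rcases hξ with rfl | rfl
    · rw [← h, inv_apply_self' hx]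
    · rw [h, inv_apply_self' hy, h]


/-! ### End transfer -/

section RemoveEdge

variable {a : Perm Ω} {S : Finset Ω} {p q : Ω}

theorem remove_edge_apply_left (ha : a * a = 1) : (a * swap p (a p)) p = p := by
  show a (swap p (a p) p) = p
  rw [swap_apply_left, inv_apply_self' ha]

theorem remove_edge_apply_right : (a * swap p (a p)) (a p) = a p := by
  show a (swap p (a p) (a p)) = a p
  rw [swap_apply_right]

theorem remove_edge_apply_of_ne {ξ : Ω} (h1 : ξ ≠ p) (h2 : ξ ≠ a p) :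
    (a * swap p (a p)) ξ = a ξ := by
  show a (swap p (a p) ξ) = a ξ
  rw [swap_apply_of_ne_of_ne h1 h2]

theorem remove_edge_mul_self (ha : a * a = 1) :
    (a * swap p (a p)) * (a * swap p (a p)) = 1 :=
  mul_swap_mul_self ha (Or.inr ⟨rfl, inv_apply_self' ha p⟩)

theorem stab_remove_edge (ha : a * a = 1) (haS : Stab a S) (hq : a q = q) :
    Stab (a * swap p (a p)) (S \ {p, q}) := by
  intro ξ hξ
  rw [Finset.mem_sdiff, Finset.mem_insert, Finset.mem_singleton, not_or] at hξ ⊢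
  obtain ⟨hξS, hξp, hξq⟩ := hξ
  by_cases e : ξ = a p
  · rw [e, remove_edge_apply_right, ← e]
    exact ⟨hξS, hξp, hξq⟩
  · rw [remove_edge_apply_of_ne hξp e]
    refine ⟨haS ξ hξS, ?_, ?_⟩
    · intro e'
      apply e
      rw [← e', inv_apply_self' ha]
    · intro e'
      apply hξq
      have : a (a ξ) = a q := congrArg a e'
      rw [inv_apply_self' ha, hq] at this
      exact this

theorem card_filter_remove_edge (ha : a * a = 1) (haS : Stab a S) (hpS : p ∈ S) (hp : a p ≠ p)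
    (hq : a q = q) :
    ((S \ {p, q}).filter (fun ω => (a * swap p (a p)) ω ≠ ω)).card + 2 =
      (S.filter (fun ω => a ω ≠ ω)).card := by
  have e : (S \ {p, q}).filter (fun ω => (a * swap p (a p)) ω ≠ ω) =
      (S.filter (fun ω => a ω ≠ ω)) \ {p, a p} := by
    ext ξ
    simp only [Finset.mem_filter, Finset.mem_sdiff, Finset.mem_insert, Finset.mem_singleton,
      not_or]
    constructor
    · rintro ⟨⟨h1, h2, h3⟩, h4⟩
      have h5 : ξ ≠ a p := by
        intro e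
        apply h4
        rw [e, remove_edge_apply_right]
      rw [remove_edge_apply_of_ne h2 h5] at h4
      exact ⟨⟨h1, h4⟩, h2, h5⟩
    · rintro ⟨⟨h1, h2⟩, h3, h4⟩
      refine ⟨⟨h1, h3, ?_⟩, ?_⟩
      · intro e
        apply h2
        rw [e, hq]
      · rw [remove_edge_apply_of_ne h3 h4]
        exact h2
  rw [e]
  have hsub : ({p, a p} : Finset Ω) ⊆ S.filter (fun ω => a ω ≠ ω) := by
    intro ξ hξ
    rw [Finset.mem_insert, Finset.mem_singleton] at hξ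
    rw [Finset.mem_filter]
    rcases hξ with rfl | rfl
    · exact ⟨hpS, hp⟩
    · refine ⟨haS _ hpS, ?_⟩
      rw [inv_apply_self' ha]
      exact hp.symm
  rw [← Finset.card_sdiff_add_card_eq_card hsub, Finset.card_pair hp.symm]

end RemoveEdge

section ReduceEnd

variable {x y : Perm Ω} {S : Finset Ω} {v w : Ω}

theorem bal_reduce_end (hx : x * x = 1) (hy : y * y = 1) (hxS : Stab x S) (hyS : Stab y S)
    (hbal : Bal x y S) (hvS : v ∈ S) (hwS : w ∈ S)
    (hyv : y v = v) (hxv : x v ≠ v) (hxw : x w = w) (hyw : y w ≠ w) :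
    Bal (x * swap v (x v)) (y * swap w (y w)) (S \ {v, w}) := by
  unfold Bal at *
  have h1 := card_filter_remove_edge hx hxS hvS hxv hxw
  have h2 := card_filter_remove_edge hy hyS hwS hyw hyv
  rw [Finset.pair_comm w v] at h2
  omega

theorem not_exc_reduce_end (hx : x * x = 1) (hxS : Stab x S) (hvS : v ∈ S)
    (hxv : x v ≠ v) (hxw : x w = w) (y' : Perm Ω) :
    ¬ Exc (x * swap v (x v)) y' (S \ {v, w}) := by
  intro h
  have hm : x v ∈ S \ {v, w} := by
    rw [Finset.mem_sdiff, Finset.mem_insert, Finset.mem_singleton, not_or]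
    refine ⟨hxS v hvS, hxv, ?_⟩
    intro e
    apply hxv
    have : x (x v) = x w := congrArg x e
    rw [inv_apply_self' hx, hxw] at this
    rw [e, ← this]
  exact (h.2.1 _ hm).1 remove_edge_apply_right

theorem sol_reduce_end (hx : x * x = 1) (hy : y * y = 1) (hxS : Stab x S) (hyS : Stab y S)
    (hvS : v ∈ S) (hwS : w ∈ S)
    (hyv : y v = v) (hxv : x v ≠ v) (hxw : x w = w) (hyw : y w ≠ w) {z' : Perm Ω}
    (h : Sol (x * swap v (x v)) (y * swap w (y w)) (S \ {v, w}) z') :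
    Sol x y S (z' * swap v w) := by
  have hvw : v ≠ w := fun e => hxv (e ▸ hxw)
  have hvT : v ∉ S \ {v, w} := by simp
  have hwT : w ∉ S \ {v, w} := by simp
  have hz'v : z' v = v := h.supp v hvT
  have hz'w : z' w = w := h.supp w hwT
  have hx'S : Stab (x * swap v (x v)) (S \ {v, w}) := stab_remove_edge hx hxS hxw
  have hy'S : Stab (y * swap w (y w)) (S \ {v, w}) := by
    rw [Finset.pair_comm v w]; exact stab_remove_edge hy hyS hyv
  have hv2 : x v ∈ S \ {v, w} := by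
    rw [Finset.mem_sdiff, Finset.mem_insert, Finset.mem_singleton, not_or]
    refine ⟨hxS v hvS, hxv, ?_⟩
    intro e
    apply hxv
    have : x (x v) = x w := congrArg x e
    rw [inv_apply_self' hx, hxw] at this
    rw [e, ← this]
  have hw2 : y w ∈ S \ {v, w} := by
    rw [Finset.mem_sdiff, Finset.mem_insert, Finset.mem_singleton, not_or]
    refine ⟨hyS w hwS, ?_, hyw⟩
    intro e
    apply hyw
    have : y (y w) = y v := congrArg y e
    rw [inv_apply_self' hy, hyv] at this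
    rw [e, ← this]
  obtain ⟨L, Lv, Lw⟩ := lift_end (a := x) (z' := z') (p := v) (p2 := x v) (q := w)
    (T := S \ {v, w}) rfl (inv_apply_self' hx v) hxw h.inv hz'v hz'w hvT hwT hv2 h.stab
    (hx'S.mul h.stab) h.left
  obtain ⟨R, Rw, Rv⟩ := lift_end (a := y) (z' := z') (p := w) (p2 := y w) (q := v)
    (T := S \ {v, w}) rfl (inv_apply_self' hy w) hyv h.inv hz'w hz'v hwT hvT hw2 h.stab
    (hy'S.mul h.stab) (h.right' (remove_edge_mul_self hy))
  rw [swap_comm w v] at R Rw Rv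
  have hmem : ∀ ξ ∈ S, ξ ∈ S \ {v, w} ∨ ξ = v ∨ ξ = w := by
    intro ξ hξ
    by_cases e1 : ξ = v
    · right; left; exact e1
    · by_cases e2 : ξ = w
      · right; right; exact e2
      · left
        rw [Finset.mem_sdiff, Finset.mem_insert, Finset.mem_singleton, not_or]
        exact ⟨hξ, e1, e2⟩
  refine Sol.of_left hy (mul_swap_mul_self h.inv (Or.inl ⟨hz'v, hz'w⟩)) ?_ ?_ ?_
  · intro ξ hξ
    have e1 : ξ ≠ v := fun e => hξ (e ▸ hvS)
    have e2 : ξ ≠ w := fun e => hξ (e ▸ hwS)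
    show z' (swap v w ξ) = ξ
    rw [swap_apply_of_ne_of_ne e1 e2]
    apply h.supp
    intro hm
    exact hξ (Finset.mem_sdiff.mp hm).1
  · intro ξ hξ
    rcases hmem ξ hξ with h' | rfl | rfl
    · exact L ξ h'
    · exact Lv
    · exact Lw
  · intro ξ hξ
    rcases hmem ξ hξ with h' | rfl | rfl
    · exact R ξ h'
    · exact Rv
    · exact Rw

end ReduceEnd

/-! ### Contraction of a stretch -/

/-- Six consecutive points of an alternating walk starting with an `x`-edge. -/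
structure Stretch (x y : Perm Ω) (u0 u1 u2 u3 u4 u5 : Ω) : Prop where
  x01 : x u0 = u1
  y12 : y u1 = u2
  x23 : x u2 = u3
  y34 : y u3 = u4
  x45 : x u4 = u5
  d01 : u0 ≠ u1
  d02 : u0 ≠ u2
  d03 : u0 ≠ u3
  d04 : u0 ≠ u4
  d05 : u0 ≠ u5
  d12 : u1 ≠ u2
  d13 : u1 ≠ u3
  d14 : u1 ≠ u4
  d15 : u1 ≠ u5
  d23 : u2 ≠ u3
  d24 : u2 ≠ u4
  d25 : u2 ≠ u5
  d34 : u3 ≠ u4
  d35 : u3 ≠ u5
  d45 : u4 ≠ u5

theorem stretch_of_free {x y : Perm Ω} {S : Finset Ω} (hx : x * x = 1) (hy : y * y = 1)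
    (hxS : Stab x S) (hyS : Stab y S) (hf : Free x y S) {u0 : Ω} (h0 : u0 ∈ S)
    (h40 : y (x (y (x u0))) ≠ u0) :
    Stretch x y u0 (x u0) (y (x u0)) (x (y (x u0))) (y (x (y (x u0))))
      (x (y (x (y (x u0))))) := by
  have m1 : x u0 ∈ S := hxS _ h0
  have m2 : y (x u0) ∈ S := hyS _ m1
  have m3 : x (y (x u0)) ∈ S := hxS _ m2
  have m4 : y (x (y (x u0))) ∈ S := hyS _ m3
  set u1 := x u0 with hu1
  set u2 := y u1 with hu2
  set u3 := x u2 with hu3
  set u4 := y u3 with hu4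
  set u5 := x u4 with hu5
  have x10 : x u1 = u0 := inv_apply_self' hx u0
  have y21 : y u2 = u1 := inv_apply_self' hy u1
  have x32 : x u3 = u2 := inv_apply_self' hx u2
  have y43 : y u4 = u3 := inv_apply_self' hy u3
  have d01 : u0 ≠ u1 := (hf u0 h0).1.symm
  have d12 : u1 ≠ u2 := (hf u1 m1).2.1.symm
  have d23 : u2 ≠ u3 := (hf u2 m2).1.symm
  have d34 : u3 ≠ u4 := (hf u3 m3).2.1.symm
  have d45 : u4 ≠ u5 := (hf u4 m4).1.symm
  have d02 : u0 ≠ u2 := by
    intro e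
    apply (hf u1 m1).2.2
    rw [x10, e]
  have d13 : u1 ≠ u3 := by
    intro e
    apply (hf u2 m2).2.2
    rw [y21, e]
  have d24 : u2 ≠ u4 := by
    intro e
    apply (hf u3 m3).2.2
    rw [x32, e]
  have d35 : u3 ≠ u5 := by
    intro e
    apply (hf u4 m4).2.2
    rw [y43, e]
  have d03 : u0 ≠ u3 := by
    intro e
    apply d12
    have : x u0 = x u3 := congrArg x e
    rw [x32] at this
    exact this
  have d14 : u1 ≠ u4 := by
    intro e
    apply d23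
    have : y u1 = y u4 := congrArg y e
    rw [y43] at this
    exact this
  have d25 : u2 ≠ u5 := by
    intro e
    apply d34
    have : x u2 = x u5 := congrArg x e
    rw [hu5, inv_apply_self' hx] at this
    exact this
  have d04 : u0 ≠ u4 := fun e => h40 e.symm
  have d15 : u1 ≠ u5 := by
    intro e
    apply d04
    have : x u1 = x u5 := congrArg x e
    rw [x10, hu5, inv_apply_self' hx] at this
    exact this
  have d05 : u0 ≠ u5 := by
    intro e
    apply d14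
    have : x u0 = x u5 := congrArg x e
    rw [hu5, inv_apply_self' hx] at this
    exact this
  exact ⟨rfl, rfl, rfl, rfl, rfl, d01, d02, d03, d04, d05, d12, d13, d14, d15, d23, d24, d25,
    d34, d35, d45⟩

section Contract

variable {x y : Perm Ω} {S : Finset Ω} {u0 u1 u2 u3 u4 u5 : Ω}

/-- `x` with the points `u1` and `u5` interchanged: it has the edge `u0 u5`. -/
def cx (x : Perm Ω) (u1 u5 : Ω) : Perm Ω := swap u1 u5 * x * (swap u1 u5)⁻¹

theorem cx_mul_self (hx : x * x = 1) (u1 u5 : Ω) : cx x u1 u5 * cx x u1 u5 = 1 :=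
  conj_mul_self hx

theorem cx_apply (x : Perm Ω) (u1 u5 ξ : Ω) :
    cx x u1 u5 ξ = swap u1 u5 (x (swap u1 u5 ξ)) := by
  show swap u1 u5 (x ((swap u1 u5)⁻¹ ξ)) = _
  rw [swap_inv]

namespace Stretch

variable (hs : Stretch x y u0 u1 u2 u3 u4 u5)
include hs

theorem x10 (hx : x * x = 1) : x u1 = u0 := by rw [← hs.x01, inv_apply_self' hx]
theorem x32 (hx : x * x = 1) : x u3 = u2 := by rw [← hs.x23, inv_apply_self' hx]
theorem x54 (hx : x * x = 1) : x u5 = u4 := by rw [← hs.x45, inv_apply_self' hx]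
theorem y21 (hy : y * y = 1) : y u2 = u1 := by rw [← hs.y12, inv_apply_self' hy]
theorem y43 (hy : y * y = 1) : y u4 = u3 := by rw [← hs.y34, inv_apply_self' hy]

theorem cx_u0 : cx x u1 u5 u0 = u5 := by
  rw [cx_apply, swap_apply_of_ne_of_ne hs.d01 hs.d05, hs.x01, swap_apply_left]

theorem cx_u5 (hx : x * x = 1) : cx x u1 u5 u5 = u0 := by
  rw [cx_apply, swap_apply_right, hs.x10 hx, swap_apply_of_ne_of_ne hs.d01 hs.d05]

theorem cx_of_ne (hx : x * x = 1) {ξ : Ω} (e0 : ξ ≠ u0) (e1 : ξ ≠ u1) (e4 : ξ ≠ u4)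
    (e5 : ξ ≠ u5) : cx x u1 u5 ξ = x ξ := by
  rw [cx_apply, swap_apply_of_ne_of_ne e1 e5]
  apply swap_apply_of_ne_of_ne
  · intro e
    apply e0
    rw [← hs.x10 hx, ← e, inv_apply_self' hx]
  · intro e
    apply e4
    rw [← hs.x54 hx, ← e, inv_apply_self' hx]

/-- The four inner points. -/
def inner (_ : Stretch x y u0 u1 u2 u3 u4 u5) : Finset Ω := {u1, u2, u3, u4}

theorem mem_inner {ξ : Ω} : ξ ∈ hs.inner ↔ ξ = u1 ∨ ξ = u2 ∨ ξ = u3 ∨ ξ = u4 := by
  simp [inner]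

theorem inner_subset (hxS : Stab x S) (hyS : Stab y S) (h0 : u0 ∈ S) : hs.inner ⊆ S := by
  have m1 : u1 ∈ S := hs.x01 ▸ hxS _ h0
  have m2 : u2 ∈ S := hs.y12 ▸ hyS _ m1
  have m3 : u3 ∈ S := hs.x23 ▸ hxS _ m2
  have m4 : u4 ∈ S := hs.y34 ▸ hyS _ m3
  intro ξ hξ
  rw [hs.mem_inner] at hξ
  rcases hξ with rfl | rfl | rfl | rfl <;> assumption

theorem u0_mem (h0 : u0 ∈ S) : u0 ∈ S \ hs.inner := by
  rw [Finset.mem_sdiff, hs.mem_inner]
  refine ⟨h0, ?_⟩
  rintro (e | e | e | e)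
  · exact hs.d01 e
  · exact hs.d02 e
  · exact hs.d03 e
  · exact hs.d04 e

theorem u5_mem (hxS : Stab x S) (hyS : Stab y S) (h0 : u0 ∈ S) : u5 ∈ S \ hs.inner := by
  have m4 : u4 ∈ S := hs.inner_subset hxS hyS h0 (hs.mem_inner.mpr (Or.inr (Or.inr (Or.inr rfl))))
  rw [Finset.mem_sdiff, hs.mem_inner]
  refine ⟨hs.x45 ▸ hxS _ m4, ?_⟩
  rintro (e | e | e | e)
  · exact hs.d15 e.symm
  · exact hs.d25 e.symm
  · exact hs.d35 e.symm
  · exact hs.d45 e.symm

theorem stab_cx (hx : x * x = 1) (hxS : Stab x S) (hyS : Stab y S) (h0 : u0 ∈ S) :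
    Stab (cx x u1 u5) (S \ hs.inner) := by
  intro ξ hξ
  by_cases e0 : ξ = u0
  · rw [e0, hs.cx_u0]; exact hs.u5_mem hxS hyS h0
  by_cases e5 : ξ = u5
  · rw [e5, hs.cx_u5 hx]; exact hs.u0_mem h0
  rw [Finset.mem_sdiff, hs.mem_inner, not_or, not_or, not_or] at hξ
  obtain ⟨hξS, e1, e2, e3, e4⟩ := hξ
  rw [hs.cx_of_ne hx e0 e1 e4 e5, Finset.mem_sdiff, hs.mem_inner]
  refine ⟨hxS ξ hξS, ?_⟩
  rintro (e | e | e | e)
  · apply e0; rw [← hs.x10 hx, ← e, inv_apply_self' hx]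
  · apply e3; rw [← hs.x23, ← e, inv_apply_self' hx]
  · apply e2; rw [← hs.x32 hx, ← e, inv_apply_self' hx]
  · apply e5; rw [← hs.x45, ← e, inv_apply_self' hx]

theorem stab_y_inner (hy : y * y = 1) : Stab y hs.inner := by
  intro ξ hξ
  rw [hs.mem_inner] at hξ ⊢
  rcases hξ with rfl | rfl | rfl | rfl
  · right; left; exact hs.y12
  · left; exact hs.y21 hy
  · right; right; right; exact hs.y34
  · right; right; left; exact hs.y43 hy

theorem bal_cx (hx : x * x = 1) (hxS : Stab x S) (hyS : Stab y S) (hf : Free x y S)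
    (h0 : u0 ∈ S) (hbal : Bal x y S) : Bal (cx x u1 u5) y (S \ hs.inner) := by
  have hsub := hs.inner_subset hxS hyS h0
  have hN : Bal x y hs.inner := by
    unfold Bal
    rw [Finset.filter_true_of_mem (fun ξ hξ => (hf ξ (hsub hξ)).1),
      Finset.filter_true_of_mem (fun ξ hξ => (hf ξ (hsub hξ)).2.1)]
  have h1 := hbal.sdiff hN hsub
  unfold Bal at h1 ⊢
  rw [← h1]
  congr 1
  apply Finset.filter_congr
  intro ξ hξ
  have hξS : ξ ∈ S := (Finset.mem_sdiff.mp hξ).1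
  refine ⟨fun _ => (hf ξ hξS).1, fun _ => ?_⟩
  by_cases e0 : ξ = u0
  · rw [e0, hs.cx_u0]; exact hs.d05.symm
  by_cases e5 : ξ = u5
  · rw [e5, hs.cx_u5 hx]; exact hs.d05
  rw [Finset.mem_sdiff, hs.mem_inner, not_or, not_or, not_or] at hξ
  obtain ⟨_, e1, e2, e3, e4⟩ := hξ
  rw [hs.cx_of_ne hx e0 e1 e4 e5]
  exact (hf ξ hξS).1

end Stretch

end Contract

/-! ### The six-point surgery on `x` restricted to `S` -/

section SurgRes

variable {x : Perm Ω} {S : Finset Ω} {u0 u1 u2 u3 d0 d1 : Ω}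

theorem surg_res (hx : x * x = 1) (hxS : Stab x S) (m0 : u0 ∈ S) (m2 : u2 ∈ S) (md : d0 ∈ S)
    (x01 : x u0 = u1) (x23 : x u2 = u3) (xd : x d0 = d1)
    (h01 : u0 ≠ u1) (h0d : u0 ≠ d0) (h03 : u0 ≠ u3)
    (h21 : u2 ≠ u1) (h2d : u2 ≠ d0) (h23 : u2 ≠ u3)
    (hd1 : d1 ≠ u1) (hdd : d1 ≠ d0) (hd3 : d1 ≠ u3)
    (h1d : u1 ≠ d0) (h13 : u1 ≠ u3) (hd03 : d0 ≠ u3) :
    surg (res x S hx hxS) u1 d0 u3 * surg (res x S hx hxS) u1 d0 u3 = 1 ∧
    (∀ ξ, ξ ∉ S → surg (res x S hx hxS) u1 d0 u3 ξ = ξ) ∧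
    (∀ ξ ∈ S, OddPer (x * surg (res x S hx hxS) u1 d0 u3) ξ) ∧
    surg (res x S hx hxS) u1 d0 u3 u0 = d0 ∧ surg (res x S hx hxS) u1 d0 u3 d0 = u0 ∧
    surg (res x S hx hxS) u1 d0 u3 u1 = u2 ∧ surg (res x S hx hxS) u1 d0 u3 u2 = u1 ∧
    surg (res x S hx hxS) u1 d0 u3 u3 = d1 ∧ surg (res x S hx hxS) u1 d0 u3 d1 = u3 ∧
    (∀ ξ ∈ S, ξ ≠ u0 → ξ ≠ u1 → ξ ≠ u2 → ξ ≠ u3 → ξ ≠ d0 → ξ ≠ d1 →
      surg (res x S hx hxS) u1 d0 u3 ξ = x ξ) := by
  have x10 : x u1 = u0 := by rw [← x01, inv_apply_self' hx]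
  have x32 : x u3 = u2 := by rw [← x23, inv_apply_self' hx]
  have xd' : x d1 = d0 := by rw [← xd, inv_apply_self' hx]
  have m1 : u1 ∈ S := x01 ▸ hxS _ m0
  have m3 : u3 ∈ S := x23 ▸ hxS _ m2
  have md1 : d1 ∈ S := xd ▸ hxS _ md
  set a := res x S hx hxS with ha
  have aS : ∀ ξ ∈ S, a ξ = x ξ := fun ξ hξ => res_apply_mem hx hxS hξ
  have a01 : a u0 = u1 := by rw [aS _ m0, x01]
  have a10 : a u1 = u0 := by rw [aS _ m1, x10]
  have a23 : a u2 = u3 := by rw [aS _ m2, x23]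
  have a32 : a u3 = u2 := by rw [aS _ m3, x32]
  have ad : a d0 = d1 := by rw [aS _ md, xd]
  have ad' : a d1 = d0 := by rw [aS _ md1, xd']
  set z := surg a u1 d0 u3 with hz
  have zu0 : z u0 = d0 := surg_u0 a01 h01 h0d h03 h1d h13
  have zd0 : z d0 = u0 := surg_d0 a10 h01 h0d h03 h1d h13
  have zu1 : z u1 = u2 := surg_u1 a32 h21 h2d h23
  have zu2 : z u2 = u1 := surg_u2 a23 h21 h2d h23
  have zu3 : z u3 = d1 := surg_u3 ad hd1 hdd hd3 h13 hd03
  have zd1 : z d1 = u3 := surg_d1 ad' hd1 hdd hd3 h13 hd03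
  have zgen : ∀ ξ, ξ ≠ u0 → ξ ≠ u1 → ξ ≠ u2 → ξ ≠ u3 → ξ ≠ d0 → ξ ≠ d1 → z ξ = a ξ :=
    fun ξ e0 e1 e2 e3 e4 e5 => surg_of_ne a01 a23 ad' e0 e1 e2 e3 e4 e5
  have c1 := oddPer_of_three (ν := x * z) (a := u0) (b := d1) (d := u2)
    (by show x (z u0) = d1; rw [zu0, xd]) (by show x (z d1) = u2; rw [zd1, x32])
    (by show x (z u2) = u0; rw [zu2, x10])
  have c2 := oddPer_of_three (ν := x * z) (a := u1) (b := u3) (d := d0)
    (by show x (z u1) = u3; rw [zu1, x23]) (by show x (z u3) = d0; rw [zu3, xd'])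
    (by show x (z d0) = u1; rw [zd0, x01])
  refine ⟨surg_mul_self (res_mul_self hx hxS) _ _ _, ?_, ?_, zu0, zd0, zu1, zu2, zu3, zd1, ?_⟩
  · intro ξ hξ
    have ne : ∀ {c : Ω}, c ∈ S → ξ ≠ c := fun hc e => hξ (e ▸ hc)
    rw [zgen ξ (ne m0) (ne m1) (ne m2) (ne m3) (ne md) (ne md1)]
    exact res_apply_not_mem hx hxS hξ
  · intro ξ hξ
    by_cases e0 : ξ = u0
    · rw [e0]; exact c1.1
    by_cases e1 : ξ = u1
    · rw [e1]; exact c2.1
    by_cases e2 : ξ = u2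
    · rw [e2]; exact c1.2.2
    by_cases e3 : ξ = u3
    · rw [e3]; exact c2.2.1
    by_cases e4 : ξ = d0
    · rw [e4]; exact c2.2.2
    by_cases e5 : ξ = d1
    · rw [e5]; exact c1.2.1
    apply oddPer_of_fixed
    show x (z ξ) = ξ
    rw [zgen ξ e0 e1 e2 e3 e4 e5, aS ξ hξ, inv_apply_self' hx]
  · intro ξ hξ e0 e1 e2 e3 e4 e5
    rw [zgen ξ e0 e1 e2 e3 e4 e5, aS ξ hξ]

end SurgRes

section Contract2

variable {x y : Perm Ω} {S : Finset Ω} {u0 u1 u2 u3 u4 u5 : Ω}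

namespace Stretch

variable (hs : Stretch x y u0 u1 u2 u3 u4 u5)
include hs

theorem mem_cases {ξ : Ω} (hξ : ξ ∈ S) :
    ξ ∈ S \ hs.inner ∨ ξ = u1 ∨ ξ = u2 ∨ ξ = u3 ∨ ξ = u4 := by
  by_cases h : ξ ∈ hs.inner
  · right; exact hs.mem_inner.mp h
  · left; exact Finset.mem_sdiff.mpr ⟨hξ, h⟩

theorem sol_lift (hx : x * x = 1) (hy : y * y = 1) (hxS : Stab x S) (hyS : Stab y S)
    (h0 : u0 ∈ S) {z' : Perm Ω} (h : Sol (cx x u1 u5) y (S \ hs.inner) z') :
    Sol x y S (z' * swap u1 u2 * swap u3 u4) := by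
  have hsub := hs.inner_subset hxS hyS h0
  have n1 : u1 ∉ S \ hs.inner := fun hm =>
    (Finset.mem_sdiff.mp hm).2 (hs.mem_inner.mpr (Or.inl rfl))
  have n2 : u2 ∉ S \ hs.inner := fun hm =>
    (Finset.mem_sdiff.mp hm).2 (hs.mem_inner.mpr (Or.inr (Or.inl rfl)))
  have n3 : u3 ∉ S \ hs.inner := fun hm =>
    (Finset.mem_sdiff.mp hm).2 (hs.mem_inner.mpr (Or.inr (Or.inr (Or.inl rfl))))
  have n4 : u4 ∉ S \ hs.inner := fun hm =>
    (Finset.mem_sdiff.mp hm).2 (hs.mem_inner.mpr (Or.inr (Or.inr (Or.inr rfl))))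
  have z1 := h.supp u1 n1
  have z2 := h.supp u2 n2
  have z3 := h.supp u3 n3
  have z4 := h.supp u4 n4
  have hcxS := hs.stab_cx hx hxS hyS h0
  have hyT : Stab y (S \ hs.inner) := hyS.sdiff hy (hs.stab_y_inner hy)
  have hx' : ∀ ξ ∈ S \ hs.inner, ξ ≠ u0 → ξ ≠ u5 → cx x u1 u5 ξ = x ξ := by
    intro ξ hξ e0 e5
    exact hs.cx_of_ne hx e0 (fun e => n1 (e ▸ hξ)) (fun e => n4 (e ▸ hξ)) e5
  obtain ⟨L, L1, L2, L3, L4⟩ := lift_contract hs.x01 (hs.x10 hx) hs.x23 (hs.x32 hx) hs.x45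
    (hs.x54 hx) hs.cx_u0 (hs.cx_u5 hx) hx' h.inv h.stab z1 z2 z3 z4 hs.d13 hs.d14 hs.d23 hs.d24
    (hs.u0_mem h0) (hs.u5_mem hxS hyS h0) n1 n2 n3 n4 (hcxS.mul h.stab) h.left
  set z := z' * swap u1 u2 * swap u3 u4 with hz
  have zT : ∀ ξ, ξ ≠ u1 → ξ ≠ u2 → ξ ≠ u3 → ξ ≠ u4 → z ξ = z' ξ := by
    intro ξ e1 e2 e3 e4
    show z' (swap u1 u2 (swap u3 u4 ξ)) = z' ξ
    rw [swap_apply_of_ne_of_ne e3 e4, swap_apply_of_ne_of_ne e1 e2]
  have zu1 : z u1 = u2 := by
    show z' (swap u1 u2 (swap u3 u4 u1)) = u2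
    rw [swap_apply_of_ne_of_ne hs.d13 hs.d14, swap_apply_left, z2]
  have zu2 : z u2 = u1 := by
    show z' (swap u1 u2 (swap u3 u4 u2)) = u1
    rw [swap_apply_of_ne_of_ne hs.d23 hs.d24, swap_apply_right, z1]
  have zu3 : z u3 = u4 := by
    show z' (swap u1 u2 (swap u3 u4 u3)) = u4
    rw [swap_apply_left, swap_apply_of_ne_of_ne hs.d14.symm hs.d24.symm, z4]
  have zu4 : z u4 = u3 := by
    show z' (swap u1 u2 (swap u3 u4 u4)) = u3
    rw [swap_apply_right, swap_apply_of_ne_of_ne hs.d13.symm hs.d23.symm, z3]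
  have hw : (z' * swap u1 u2) * (z' * swap u1 u2) = 1 :=
    mul_swap_mul_self h.inv (Or.inl ⟨z1, z2⟩)
  have hzz : z * z = 1 := by
    refine mul_swap_mul_self hw (Or.inl ⟨?_, ?_⟩)
    · show z' (swap u1 u2 u3) = u3
      rw [swap_apply_of_ne_of_ne hs.d13.symm hs.d23.symm, z3]
    · show z' (swap u1 u2 u4) = u4
      rw [swap_apply_of_ne_of_ne hs.d14.symm hs.d24.symm, z4]
  have R : ∀ ξ ∈ S \ hs.inner, OddPer (y * z) ξ := by
    intro ξ hξ
    refine OddPer.of_agree (T := S \ hs.inner) ?_ (hyT.mul h.stab) hξ (h.right' hy ξ hξ)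
    intro η hη
    show y (z η) = y (z' η)
    rw [zT η (fun e => n1 (e ▸ hη)) (fun e => n2 (e ▸ hη)) (fun e => n3 (e ▸ hη))
      (fun e => n4 (e ▸ hη))]
  refine Sol.of_left hy hzz ?_ ?_ ?_
  · intro ξ hξ
    have ne : ∀ {c : Ω}, c ∈ hs.inner → ξ ≠ c := fun hc e => hξ (e ▸ hsub hc)
    rw [zT ξ (ne (hs.mem_inner.mpr (Or.inl rfl))) (ne (hs.mem_inner.mpr (Or.inr (Or.inl rfl))))
      (ne (hs.mem_inner.mpr (Or.inr (Or.inr (Or.inl rfl)))))
      (ne (hs.mem_inner.mpr (Or.inr (Or.inr (Or.inr rfl)))))]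
    exact h.supp ξ (fun hm => hξ (Finset.mem_sdiff.mp hm).1)
  · intro ξ hξ
    rcases hs.mem_cases hξ with h' | rfl | rfl | rfl | rfl
    · exact L ξ h'
    · exact L1
    · exact L2
    · exact L3
    · exact L4
  · intro ξ hξ
    rcases hs.mem_cases hξ with h' | rfl | rfl | rfl | rfl
    · exact R ξ h'
    · exact oddPer_of_fixed (by show y (z ξ) = ξ; rw [zu1, hs.y21 hy])
    · exact oddPer_of_fixed (by show y (z ξ) = ξ; rw [zu2, hs.y12])
    · exact oddPer_of_fixed (by show y (z ξ) = ξ; rw [zu3, hs.y43 hy])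
    · exact oddPer_of_fixed (by show y (z ξ) = ξ; rw [zu4, hs.y34])

end Stretch

end Contract2

theorem Exc.qdata' {x y : Perm Ω} {S : Finset Ω} (hx : x * x = 1) (hy : y * y = 1)
    (hxS : Stab x S) (hyS : Stab y S) (h : Exc x y S) {ω : Ω} (hω : ω ∈ S) :
    QData x y ω (x ω) (y (x ω)) (x (y (x ω))) ∧
      ∀ ξ, ξ ∈ S ↔ ξ = ω ∨ ξ = x ω ∨ ξ = y (x ω) ∨ ξ = x (y (x ω)) := by
  obtain ⟨hq, hS⟩ := h.qdata hx hy hxS hyS hω
  refine ⟨hq, fun ξ => ?_⟩
  rw [hS, hq.mem_pts]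

section BaseC8

variable {x y : Perm Ω} {S : Finset Ω} {u0 u1 u2 u3 u4 u5 : Ω}

/-- The eight-cycle: contraction leaves an exceptional four-cycle. -/
theorem Stretch.base (hs : Stretch x y u0 u1 u2 u3 u4 u5) (hx : x * x = 1) (hy : y * y = 1)
    (hxS : Stab x S) (hyS : Stab y S) (h0 : u0 ∈ S)
    (he : Exc (cx x u1 u5) y (S \ hs.inner)) : ∃ z, Sol x y S z := by
  have hsub := hs.inner_subset hxS hyS h0
  have hcxS := hs.stab_cx hx hxS hyS h0
  have hyT : Stab y (S \ hs.inner) := hyS.sdiff hy (hs.stab_y_inner hy)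
  obtain ⟨hq, hT⟩ := he.qdata' (cx_mul_self hx u1 u5) hy hcxS hyT (hs.u0_mem h0)
  rw [hs.cx_u0] at hq hT
  set u6 := y u5 with hu6
  have m6 : u6 ∈ S \ hs.inner := (hT u6).mpr (Or.inr (Or.inr (Or.inl rfl)))
  have m7' : cx x u1 u5 u6 ∈ S \ hs.inner := (hT _).mpr (Or.inr (Or.inr (Or.inr rfl)))
  have nin : ∀ {ξ : Ω}, ξ ∈ S \ hs.inner → ξ ≠ u1 ∧ ξ ≠ u2 ∧ ξ ≠ u3 ∧ ξ ≠ u4 := by
    intro ξ hξ
    have := (Finset.mem_sdiff.mp hξ).2
    rw [hs.mem_inner, not_or, not_or, not_or] at this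
    exact this
  have e7 : cx x u1 u5 u6 = x u6 :=
    hs.cx_of_ne hx hq.ne02.symm (nin m6).1 (nin m6).2.2.2 hq.ne12.symm
  rw [e7] at hq hT m7'
  set u7 := x u6 with hu7
  -- the eight points
  have m1 : u1 ∈ S := hsub (hs.mem_inner.mpr (Or.inl rfl))
  have m2 : u2 ∈ S := hsub (hs.mem_inner.mpr (Or.inr (Or.inl rfl)))
  have m3 : u3 ∈ S := hsub (hs.mem_inner.mpr (Or.inr (Or.inr (Or.inl rfl))))
  have m4 : u4 ∈ S := hsub (hs.mem_inner.mpr (Or.inr (Or.inr (Or.inr rfl))))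
  have m6S : u6 ∈ S := (Finset.mem_sdiff.mp m6).1
  have m7S : u7 ∈ S := (Finset.mem_sdiff.mp m7').1
  have x67 : x u6 = u7 := rfl
  have x76 : x u7 = u6 := inv_apply_self' hx u6
  have y56 : y u5 = u6 := rfl
  have y65 : y u6 = u5 := inv_apply_self' hy u5
  have y70 : y u7 = u0 := hq.y30
  have y07 : y u0 = u7 := hq.y03 hy
  obtain ⟨hzz, hsupp, hL, zu0, zu4, zu1, zu2, zu3, zu5, zgen⟩ :=
    surg_res (u0 := u0) (u1 := u1) (u2 := u2) (u3 := u3) (d0 := u4) (d1 := u5) hx hxS h0 m2 m4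
      hs.x01 hs.x23 hs.x45 hs.d01 hs.d04 hs.d03 hs.d12.symm hs.d24 hs.d23 hs.d15.symm hs.d45.symm
      hs.d35.symm hs.d14 hs.d13 hs.d34.symm
  set z := surg (res x S hx hxS) u1 u4 u3 with hz
  have zu6 : z u6 = u7 :=
    zgen u6 m6S hq.ne02.symm (nin m6).1 (nin m6).2.1 (nin m6).2.2.1 (nin m6).2.2.2 hq.ne12.symm
  have zu7 : z u7 = u6 := by
    rw [zgen u7 m7S hq.ne03.symm (nin m7').1 (nin m7').2.1 (nin m7').2.2.1 (nin m7').2.2.2
      hq.ne13.symm, x76]
  have c1 := oddPer_of_three (ν := y * z) (a := u0) (b := u3) (d := u6)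
    (by show y (z u0) = u3; rw [zu0, hs.y43 hy]) (by show y (z u3) = u6; rw [zu3])
    (by show y (z u6) = u0; rw [zu6, y70])
  have c2 := oddPer_of_three (ν := y * z) (a := u4) (b := u7) (d := u5)
    (by show y (z u4) = u7; rw [zu4, y07]) (by show y (z u7) = u5; rw [zu7, y65])
    (by show y (z u5) = u4; rw [zu5, hs.y34])
  refine ⟨z, Sol.of_left hy hzz hsupp hL ?_⟩
  intro ξ hξ
  rcases hs.mem_cases hξ with h' | rfl | rfl | rfl | rfl
  · rcases (hT ξ).mp h' with rfl | rfl | rfl | rfl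
    · exact c1.1
    · exact c2.2.2
    · exact c1.2.2
    · exact c2.2.1
  · exact oddPer_of_fixed (by show y (z ξ) = ξ; rw [zu1, hs.y21 hy])
  · exact oddPer_of_fixed (by show y (z ξ) = ξ; rw [zu2, hs.y12])
  · exact c1.2.1
  · exact c2.1

end BaseC8

section BaseTwoQ

variable {x y : Perm Ω} {S : Finset Ω} {u0 u1 u2 u3 : Ω}

/-- Two exceptional four-cycles. -/
theorem base_two_q (hx : x * x = 1) (hy : y * y = 1) (hxS : Stab x S) (hyS : Stab y S)
    (hq : QData x y u0 u1 u2 u3) (hsub : hq.pts ⊆ S) (he : Exc x y (S \ hq.pts)) :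
    ∃ z, Sol x y S z := by
  have hxT : Stab x (S \ hq.pts) := hxS.sdiff hx (hq.stab_x hx)
  have hyT : Stab y (S \ hq.pts) := hyS.sdiff hy (hq.stab_y hy)
  have hne : (S \ hq.pts).Nonempty := by
    rw [← Finset.card_pos, he.1]; decide
  obtain ⟨v0, hv0⟩ := hne
  obtain ⟨hq', hT⟩ := he.qdata' hx hy hxT hyT hv0
  set v1 := x v0 with hv1
  set v2 := y v1 with hv2
  set v3 := x v2 with hv3
  have m0 : u0 ∈ S := hsub (hq.mem_pts.mpr (Or.inl rfl))
  have m1 : u1 ∈ S := hsub (hq.mem_pts.mpr (Or.inr (Or.inl rfl)))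
  have m2 : u2 ∈ S := hsub (hq.mem_pts.mpr (Or.inr (Or.inr (Or.inl rfl))))
  have m3 : u3 ∈ S := hsub (hq.mem_pts.mpr (Or.inr (Or.inr (Or.inr rfl))))
  have mv0 : v0 ∈ S \ hq.pts := hv0
  have mv1 : v1 ∈ S \ hq.pts := (hT v1).mpr (Or.inr (Or.inl rfl))
  have mv2 : v2 ∈ S \ hq.pts := (hT v2).mpr (Or.inr (Or.inr (Or.inl rfl)))
  have mv3 : v3 ∈ S \ hq.pts := (hT v3).mpr (Or.inr (Or.inr (Or.inr rfl)))
  have nin : ∀ {ξ : Ω}, ξ ∈ S \ hq.pts → ξ ≠ u0 ∧ ξ ≠ u1 ∧ ξ ≠ u2 ∧ ξ ≠ u3 := by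
    intro ξ hξ
    have := (Finset.mem_sdiff.mp hξ).2
    rw [hq.mem_pts, not_or, not_or, not_or] at this
    exact this
  have mS : ∀ {ξ : Ω}, ξ ∈ S \ hq.pts → ξ ∈ S := fun hξ => (Finset.mem_sdiff.mp hξ).1
  obtain ⟨hzz, hsupp, hL, zu0, zv0, zu1, zu2, zu3, zv1, zgen⟩ :=
    surg_res (u0 := u0) (u1 := u1) (u2 := u2) (u3 := u3) (d0 := v0) (d1 := v1) hx hxS m0 m2
      (mS mv0) hq.x01 hq.x23 rfl hq.ne01 (nin mv0).1.symm hq.ne03 hq.ne12.symm
      (nin mv0).2.2.1.symm hq.ne23 (nin mv1).2.1 hq'.ne01.symm (nin mv1).2.2.2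
      (nin mv0).2.1.symm hq.ne13 (nin mv0).2.2.2
  set z := surg (res x S hx hxS) u1 v0 u3 with hz
  have zv2 : z v2 = v3 :=
    zgen v2 (mS mv2) (nin mv2).1 (nin mv2).2.1 (nin mv2).2.2.1 (nin mv2).2.2.2 hq'.ne02.symm
      hq'.ne12.symm
  have zv3 : z v3 = v2 := by
    rw [zgen v3 (mS mv3) (nin mv3).1 (nin mv3).2.1 (nin mv3).2.2.1 (nin mv3).2.2.2 hq'.ne03.symm
      hq'.ne13.symm, hq'.x32 hx]
  have c1 := oddPer_of_three (ν := y * z) (a := u0) (b := v3) (d := v1)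
    (by show y (z u0) = v3; rw [zu0, hq'.y03 hy]) (by show y (z v3) = v1; rw [zv3, hq'.y21 hy])
    (by show y (z v1) = u0; rw [zv1, hq.y30])
  have c2 := oddPer_of_three (ν := y * z) (a := u3) (b := v2) (d := v0)
    (by show y (z u3) = v2; rw [zu3]) (by show y (z v2) = v0; rw [zv2, hq'.y30])
    (by show y (z v0) = u3; rw [zv0, hq.y03 hy])
  refine ⟨z, Sol.of_left hy hzz hsupp hL ?_⟩
  intro ξ hξ
  by_cases hm : ξ ∈ hq.pts
  · rw [hq.mem_pts] at hm
    rcases hm with rfl | rfl | rfl | rfl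
    · exact c1.1
    · exact oddPer_of_fixed (by show y (z ξ) = ξ; rw [zu1, hq.y21 hy])
    · exact oddPer_of_fixed (by show y (z ξ) = ξ; rw [zu2, hq.y12])
    · exact c2.1
  · rcases (hT ξ).mp (Finset.mem_sdiff.mpr ⟨hξ, hm⟩) with rfl | rfl | rfl | rfl
    · exact c2.2.2
    · exact c1.2.2
    · exact c2.2.1
    · exact c1.2.1

end BaseTwoQ

/-! ### The main induction -/

theorem fpf_of_bal {a b : Perm Ω} {S : Finset Ω}
    (hc : (S.filter (fun ω => a ω ≠ ω)).card = (S.filter (fun ω => b ω ≠ ω)).card)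
    (h1 : ∀ ω ∈ S, a ω ≠ b ω) (h : ∀ v ∈ S, b v = v → a v = v) :
    (∀ ω ∈ S, a ω ≠ ω) ∧ (∀ ω ∈ S, b ω ≠ ω) := by
  have hb : ∀ ω ∈ S, b ω ≠ ω := by
    intro ω hω e
    exact h1 ω hω ((h ω hω e).trans e.symm)
  refine ⟨?_, hb⟩
  rw [Finset.filter_true_of_mem hb] at hc
  have : S.filter (fun ω => a ω ≠ ω) = S :=
    Finset.eq_of_subset_of_card_le (Finset.filter_subset _ _) (le_of_eq hc.symm)
  intro ω hω
  rw [← this] at hω
  exact (Finset.mem_filter.mp hω).2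

theorem free_of {x y : Perm Ω} {S : Finset Ω} (hbal : Bal x y S) (h1 : ∀ ω ∈ S, x ω ≠ y ω)
    (h2 : ¬ ((∃ v ∈ S, y v = v ∧ x v ≠ v) ∧ (∃ w ∈ S, x w = w ∧ y w ≠ w))) : Free x y S := by
  rw [not_and_or] at h2
  rcases h2 with h | h
  · have h' : ∀ v ∈ S, y v = v → x v = v := by
      intro v hv e
      by_contra e'
      exact h ⟨v, hv, e, e'⟩
    obtain ⟨a, b⟩ := fpf_of_bal hbal h1 h'
    exact fun ω hω => ⟨a ω hω, b ω hω, h1 ω hω⟩
  · have h' : ∀ w ∈ S, x w = w → y w = w := by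
      intro w hw e
      by_contra e'
      exact h ⟨w, hw, e, e'⟩
    obtain ⟨a, b⟩ := fpf_of_bal hbal.symm (fun ω hω => (h1 ω hω).symm) h'
    exact fun ω hω => ⟨b ω hω, a ω hω, h1 ω hω⟩

theorem exists_sol : ∀ (n : ℕ) (S : Finset Ω) (x y : Perm Ω), S.card = n → x * x = 1 →
    y * y = 1 → Stab x S → Stab y S → Bal x y S → ¬ Exc x y S → ∃ z, Sol x y S z := by
  intro n
  induction n using Nat.strong_induction_on with
  | _ n ih =>
  intro S x y hn hx hy hxS hyS hbal hexc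
  -- Case 1: a point with `x ω = y ω`
  by_cases h1 : ∃ ω ∈ S, x ω = y ω
  · obtain ⟨ω, hω, h⟩ := h1
    have hNS : ({ω, x ω} : Finset Ω) ⊆ S := by
      intro ξ hξ
      rw [Finset.mem_insert, Finset.mem_singleton] at hξ
      rcases hξ with rfl | rfl
      · exact hω
      · exact hxS _ hω
    have hxN := stab_pair_x hx ω
    have hyN := stab_pair_y hy h
    have hsolN := sol_pair hx hy h
    have hNne : ({ω, x ω} : Finset Ω).Nonempty := ⟨ω, by simp⟩
    have hxS' := hxS.sdiff hx hxN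
    have hyS' := hyS.sdiff hy hyN
    have hbal' := hbal.sdiff (hsolN.bal hx hy hxN hyN) hNS
    have hcard : (S \ {ω, x ω}).card < n :=
      hn ▸ Finset.card_lt_card (Finset.sdiff_ssubset hNS hNne)
    have hunion : {ω, x ω} ∪ (S \ {ω, x ω}) = S := Finset.union_sdiff_of_subset hNS
    by_cases he : Exc x y (S \ {ω, x ω})
    · have hne' : (S \ {ω, x ω}).Nonempty := by
        rw [← Finset.card_pos, he.1]; decide
      obtain ⟨c0, hc0⟩ := hne'
      obtain ⟨hq, hT⟩ := he.qdata hx hy hxS' hyS' hc0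
      obtain ⟨z, hz⟩ := absorb hx hy hxN hyN hq (by rw [← hT]; exact Finset.disjoint_sdiff)
        hsolN hNne
      rw [← hT, hunion] at hz
      exact ⟨z, hz⟩
    · obtain ⟨z2, hz2⟩ := ih _ hcard (S \ {ω, x ω}) x y rfl hx hy hxS' hyS' hbal' he
      have := Sol.union Finset.disjoint_sdiff hxN hyN hxS' hyS' hsolN hz2
      rw [hunion] at this
      exact ⟨_, this⟩
  -- Case 2: end transfer
  by_cases h2 : (∃ v ∈ S, y v = v ∧ x v ≠ v) ∧ (∃ w ∈ S, x w = w ∧ y w ≠ w)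
  · obtain ⟨⟨v, hvS, hyv, hxv⟩, ⟨w, hwS, hxw, hyw⟩⟩ := h2
    have hsub : ({v, w} : Finset Ω) ⊆ S := by
      intro ξ hξ
      rw [Finset.mem_insert, Finset.mem_singleton] at hξ
      rcases hξ with rfl | rfl
      · exact hvS
      · exact hwS
    have hcard : (S \ {v, w}).card < n :=
      hn ▸ Finset.card_lt_card (Finset.sdiff_ssubset hsub ⟨v, by simp⟩)
    obtain ⟨z', hz'⟩ := ih _ hcard (S \ {v, w}) (x * swap v (x v)) (y * swap w (y w)) rfl
      (remove_edge_mul_self hx) (remove_edge_mul_self hy) (stab_remove_edge hx hxS hxw)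
      (by rw [Finset.pair_comm]; exact stab_remove_edge hy hyS hyv)
      (bal_reduce_end hx hy hxS hyS hbal hvS hwS hyv hxv hxw hyw)
      (not_exc_reduce_end hx hxS hvS hxv hxw _)
    exact ⟨_, sol_reduce_end hx hy hxS hyS hvS hwS hyv hxv hxw hyw hz'⟩
  -- Case 3: no fixed points, no common edges
  rcases S.eq_empty_or_nonempty with rfl | ⟨u0, h0⟩
  · refine ⟨1, by simp, fun _ _ => rfl, ?_, ?_⟩ <;> intro ω hω <;> simp at hω
  have hfree : Free x y S := free_of hbal (fun ω hω e => h1 ⟨ω, hω, e⟩) h2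
  by_cases h40 : y (x (y (x u0))) = u0
  · have hq := qdata_of hx hy hxS hyS hfree h0 h40
    have hsub : hq.pts ⊆ S := by
      intro ξ hξ
      rw [hq.mem_pts] at hξ
      rcases hξ with rfl | rfl | rfl | rfl
      · exact h0
      · exact hxS _ h0
      · exact hyS _ (hxS _ h0)
      · exact hxS _ (hyS _ (hxS _ h0))
    by_cases he : Exc x y (S \ hq.pts)
    · exact base_two_q hx hy hxS hyS hq hsub he
    · have hS'ne : (S \ hq.pts).Nonempty := by
        by_contra hempty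
        rw [Finset.not_nonempty_iff_eq_empty, Finset.sdiff_eq_empty_iff_subset] at hempty
        apply hexc
        have : S = hq.pts := Finset.Subset.antisymm hempty hsub
        rw [this]
        exact exc_of_qdata hx hy hq (fun ξ hξ => (hfree ξ (hsub hξ)).2.2)
      have hxS' := hxS.sdiff hx (hq.stab_x hx)
      have hyS' := hyS.sdiff hy (hq.stab_y hy)
      have hbal' := hbal.sdiff (hq.bal hx hy) hsub
      have hcard : (S \ hq.pts).card < n :=
        hn ▸ Finset.card_lt_card (Finset.sdiff_ssubset hsub ⟨u0, hq.mem_pts.mpr (Or.inl rfl)⟩)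
      obtain ⟨z', hz'⟩ := ih _ hcard (S \ hq.pts) x y rfl hx hy hxS' hyS' hbal' he
      obtain ⟨z, hz⟩ := absorb hx hy hxS' hyS' hq Finset.sdiff_disjoint hz' hS'ne
      rw [Finset.sdiff_union_of_subset hsub] at hz
      exact ⟨z, hz⟩
  · have hs := stretch_of_free hx hy hxS hyS hfree h0 h40
    by_cases he : Exc (cx x (x u0) (x (y (x (y (x u0)))))) y (S \ hs.inner)
    · exact hs.base hx hy hxS hyS h0 he
    · have hcard : (S \ hs.inner).card < n :=
        hn ▸ Finset.card_lt_card (Finset.sdiff_ssubset (hs.inner_subset hxS hyS h0)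
          ⟨_, hs.mem_inner.mpr (Or.inl rfl)⟩)
      obtain ⟨z', hz'⟩ := ih _ hcard (S \ hs.inner) (cx x (x u0) (x (y (x (y (x u0)))))) y rfl
        (cx_mul_self hx _ _) hy (hs.stab_cx hx hxS hyS h0) (hyS.sdiff hy (hs.stab_y_inner hy))
        (hs.bal_cx hx hxS hyS hfree h0 hbal) he
      exact ⟨_, hs.sol_lift hx hy hxS hyS h0 hz'⟩

/-- Two involutions moving equally many points of a set with at least five points have a common
neighbour in the odd-product graph. -/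
theorem exists_involution_odd_mul {x y : Perm Ω} (hx : x * x = 1) (hy : y * y = 1)
    (hc : x.support.card = y.support.card) (hn : 5 ≤ Fintype.card Ω) :
    ∃ z : Perm Ω, z * z = 1 ∧ Odd (orderOf (x * z)) ∧ Odd (orderOf (z * y)) := by
  have hxS : Stab x Finset.univ := fun _ _ => Finset.mem_univ _
  have hyS : Stab y Finset.univ := fun _ _ => Finset.mem_univ _
  have hbal : Bal x y Finset.univ := by
    unfold Bal
    have e : ∀ f : Perm Ω, Finset.univ.filter (fun ω => f ω ≠ ω) = f.support := by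
      intro f; ext ω; simp
    rw [e x, e y, hc]
  have hexc : ¬ Exc x y Finset.univ := by
    intro h
    have := h.1
    rw [Finset.card_univ] at this
    omega
  obtain ⟨z, hz⟩ := exists_sol _ Finset.univ x y rfl hx hy hxS hyS hbal hexc
  exact ⟨z, hz.inv, odd_orderOf_of_forall _ (fun ω => hz.left ω (Finset.mem_univ _)),
    odd_orderOf_of_forall _ (fun ω => hz.right ω (Finset.mem_univ _))⟩

end Cfsg.Agent.Helper95OddProd
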