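import Mathlib
import Cfsg.Agent.Lib.Helper95_OddProdMain

/-!
# The odd-product graph on a class of involutions of `Sym(n)` (helper95)

`odd_product_graph`: for `n ≥ 5` the graph on the conjugates of an involution `t` of `Sym(n)` joining
two involutions with a product of odd order is connected of diameter `2`.
-/

set_option autoImplicit false

namespace Cfsg.Agent.Helper95OddProd

open Equiv

/-- Two involutions of a group with a product of odd order are conjugate. -/
theorem isConj_of_odd_orderOf_mul {G : Type*} [Group G] {a b : G} (ha : a * a = 1)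
    (hb : b * b = 1) (h : Odd (orderOf (a * b))) : IsConj a b := by
  obtain ⟨k, hk⟩ := h
  set u := a * b with hu
  have hu1 : u ^ (2 * k + 1) = 1 := by rw [← hk]; exact pow_orderOf_eq_one u
  have hainv : a⁻¹ = a := inv_eq_of_mul_eq_one_right ha
  have hbinv : b⁻¹ = b := inv_eq_of_mul_eq_one_right hb
  have hsc : SemiconjBy a u u⁻¹ := by
    unfold SemiconjBy
    rw [hu, mul_inv_rev, hainv, hbinv, ← mul_assoc, ha, one_mul, mul_assoc, ha, mul_one]
  have hsc' := hsc.pow_right (k + 1)
  unfold SemiconjBy at hsc'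
  have hfb : u ^ (k + 1) * b = a * u ^ (k + 1) := by
    rw [hsc', pow_succ, mul_assoc, hu, mul_assoc a b b, hb, mul_one, ← hu]
    have : u ^ k = (u⁻¹) ^ (k + 1) := by
      rw [inv_pow, eq_inv_iff_mul_eq_one, ← pow_add]
      have : k + (k + 1) = 2 * k + 1 := by ring
      rw [this, hu1]
    rw [this]
  -- b = (u^(k+1))⁻¹ * a * u^(k+1)
  rw [isConj_iff]
  refine ⟨(u ^ (k + 1))⁻¹, ?_⟩
  rw [inv_inv, mul_assoc, ← hfb, ← mul_assoc, inv_mul_cancel, one_mul]

theorem orderOf_swap_mul_swap {α : Type*} [DecidableEq α] {a b c d : α} (hab : a ≠ b)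
    (hac : a ≠ c) (had : a ≠ d) (hbc : b ≠ c) (hbd : b ≠ d) :
    orderOf (swap a b * swap c d) = 2 := by
  have hcomm : swap a b * swap c d = swap c d * swap a b := by
    rw [Equiv.mul_swap_eq_swap_mul, swap_apply_of_ne_of_ne hac.symm hbc.symm,
      swap_apply_of_ne_of_ne had.symm hbd.symm]
  apply orderOf_eq_prime
  · rw [pow_two]
    calc swap a b * swap c d * (swap a b * swap c d)
        = swap a b * swap c d * (swap c d * swap a b) := by rw [← hcomm]
      _ = swap a b * (swap c d * swap c d) * swap a b := by group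
      _ = 1 := by rw [swap_mul_self, mul_one, swap_mul_self]
  · intro h
    have : (swap a b * swap c d) a = a := by rw [h]; rfl
    rw [Perm.mul_apply, swap_apply_of_ne_of_ne hac had, swap_apply_left] at this
    exact hab this.symm


theorem exists_conj_orderOf_mul_eq_two {α : Type*} [DecidableEq α] [Fintype α]
    (hn : 5 ≤ Fintype.card α) {t : Perm α} (ht : orderOf t = 2) :
    ∃ b : Perm α, IsConj t b ∧ orderOf (t * b) = 2 := by
  have htt : t * t = 1 := by rw [← pow_two, ← ht]; exact pow_orderOf_eq_one t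
  have ht1 : t ≠ 1 := by
    intro h
    rw [h, orderOf_one] at ht
    omega
  have hex : ∃ i, t i ≠ i := by
    by_contra h
    push Not at h
    exact ht1 (Perm.ext h)
  obtain ⟨i, hi⟩ := hex
  set j := t i with hj
  have htj : t j = i := inv_apply_self' htt i
  by_cases h : ∃ k, k ≠ i ∧ k ≠ j ∧ t k ≠ k
  · obtain ⟨k, hki, hkj, hk⟩ := h
    refine ⟨swap i k * t * (swap i k)⁻¹, isConj_iff.mpr ⟨swap i k, rfl⟩, ?_⟩
    have e : t * (swap i k * t * (swap i k)⁻¹) = swap j (t k) * swap i k := by
      have e1 : t * swap i k = swap j (t k) * t := Equiv.mul_swap_eq_swap_mul t i k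
      calc t * (swap i k * t * (swap i k)⁻¹) = (t * swap i k) * t * swap i k := by
            rw [swap_inv]; group
        _ = swap j (t k) * (t * t) * swap i k := by rw [e1]; group
        _ = swap j (t k) * swap i k := by rw [htt, mul_one]
    rw [e]
    apply orderOf_swap_mul_swap
    · intro e'
      exact hki (t.injective e'.symm)
    · exact hi
    · exact hkj.symm
    · intro e'
      apply hkj
      rw [hj, ← e', inv_apply_self' htt]
    · exact hk
  · push Not at h
    have hts : t = swap i j := by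
      ext ξ
      by_cases e1 : ξ = i
      · rw [e1, swap_apply_left]
      · by_cases e2 : ξ = j
        · rw [e2, swap_apply_right, htj]
        · rw [swap_apply_of_ne_of_ne e1 e2, h ξ e1 e2]
    have hcard : 1 < (Finset.univ \ ({i, j} : Finset α)).card := by
      have h1 : ({i, j} : Finset α).card ≤ 2 := Finset.card_le_two
      have h2 := Finset.card_sdiff_add_card_eq_card (Finset.subset_univ ({i, j} : Finset α))
      rw [Finset.card_univ] at h2
      omega
    obtain ⟨k, hk, l, hl, hkl⟩ := Finset.one_lt_card.mp hcard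
    rw [Finset.mem_sdiff, Finset.mem_insert, Finset.mem_singleton, not_or] at hk hl
    refine ⟨swap k l, ?_, ?_⟩
    · rw [hts]
      exact Equiv.Perm.isConj_swap hi.symm hkl
    · rw [hts]
      exact orderOf_swap_mul_swap hi.symm (Ne.symm hk.2.1) (Ne.symm hl.2.1) (Ne.symm hk.2.2)
        (Ne.symm hl.2.2)

/-- The odd-product graph on a class of involutions of `Sym(n)`, `n ≥ 5`, is connected of
diameter `2`. -/
theorem odd_product_graph {n : ℕ} (hn : 5 ≤ n) (t : Perm (Fin n)) (ht : orderOf t = 2) :
    (SimpleGraph.fromRel fun x y : {x : Perm (Fin n) // IsConj t x} =>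
        Odd (orderOf (x.1 * y.1))).Connected ∧
      (SimpleGraph.fromRel fun x y : {x : Perm (Fin n) // IsConj t x} =>
        Odd (orderOf (x.1 * y.1))).diam = 2 := by
  set G := SimpleGraph.fromRel fun x y : {x : Perm (Fin n) // IsConj t x} =>
    Odd (orderOf (x.1 * y.1)) with hG
  have hcard : 5 ≤ Fintype.card (Fin n) := by rw [Fintype.card_fin]; exact hn
  have htt : t * t = 1 := by rw [← pow_two, ← ht]; exact pow_orderOf_eq_one t
  have inv : ∀ a : {x : Perm (Fin n) // IsConj t x}, a.1 * a.1 = 1 := by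
    intro a
    obtain ⟨g, hg⟩ := isConj_iff.mp a.2
    rw [← hg]
    exact conj_mul_self htt
  have supp : ∀ a : {x : Perm (Fin n) // IsConj t x}, a.1.support.card = t.support.card := by
    intro a
    obtain ⟨g, hg⟩ := isConj_iff.mp a.2
    rw [← hg, Perm.card_support_conj]
  have walk : ∀ a b : {x : Perm (Fin n) // IsConj t x}, ∃ p : G.Walk a b, p.length ≤ 2 := by
    intro a b
    obtain ⟨z, hz, h1, h2⟩ := exists_involution_odd_mul (inv a) (inv b)
      (by rw [supp a, supp b]) hcard
    have hza : IsConj a.1 z := isConj_of_odd_orderOf_mul (inv a) hz h1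
    by_cases hab : a = b
    · subst hab
      exact ⟨SimpleGraph.Walk.nil, by simp⟩
    by_cases haz : a.1 = z
    · have hadj : G.Adj a b := by
        rw [hG, SimpleGraph.fromRel_adj]
        refine ⟨hab, Or.inl ?_⟩
        show Odd (orderOf (a.1 * b.1))
        rw [haz]; exact h2
      exact ⟨SimpleGraph.Walk.cons hadj SimpleGraph.Walk.nil, by simp⟩
    by_cases hzb : z = b.1
    · have hadj : G.Adj a b := by
        rw [hG, SimpleGraph.fromRel_adj]
        refine ⟨hab, Or.inl ?_⟩
        show Odd (orderOf (a.1 * b.1))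
        rw [← hzb]; exact h1
      exact ⟨SimpleGraph.Walk.cons hadj SimpleGraph.Walk.nil, by simp⟩
    have hadj1 : G.Adj a ⟨z, a.2.trans hza⟩ := by
      rw [hG, SimpleGraph.fromRel_adj]
      refine ⟨fun e => haz (congrArg Subtype.val e), Or.inl h1⟩
    have hadj2 : G.Adj ⟨z, a.2.trans hza⟩ b := by
      rw [hG, SimpleGraph.fromRel_adj]
      refine ⟨fun e => hzb (congrArg Subtype.val e), Or.inl h2⟩
    exact ⟨SimpleGraph.Walk.cons hadj1 (SimpleGraph.Walk.cons hadj2 SimpleGraph.Walk.nil),
      by simp⟩
  have : Nonempty {x : Perm (Fin n) // IsConj t x} := ⟨⟨t, IsConj.refl t⟩⟩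
  have hconn : G.Connected := ⟨fun a b => ⟨(walk a b).choose⟩⟩
  refine ⟨hconn, ?_⟩
  have hediam : G.ediam ≤ 2 := by
    apply SimpleGraph.ediam_le_of_edist_le
    intro a b
    obtain ⟨p, hp⟩ := walk a b
    exact (p.edist_le).trans (by exact_mod_cast hp)
  have hle : G.diam ≤ 2 := ENat.toNat_le_of_le_natCast hediam
  -- two distinct vertices that are not adjacent
  obtain ⟨b, hb, hord⟩ := exists_conj_orderOf_mul_eq_two hcard ht
  have hne : (⟨t, IsConj.refl t⟩ : {x : Perm (Fin n) // IsConj t x}) ≠ ⟨b, hb⟩ := by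
    intro e
    have e' : t = b := congrArg Subtype.val e
    rw [← e', htt, orderOf_one] at hord
    omega
  have hbb : b * b = 1 := inv ⟨b, hb⟩
  have hnadj : ¬ G.Adj ⟨t, IsConj.refl t⟩ ⟨b, hb⟩ := by
    rw [hG, SimpleGraph.fromRel_adj]
    rintro ⟨_, h | h⟩
    · have h' : Odd (orderOf (t * b)) := h
      rw [hord] at h'
      exact absurd h' (by decide)
    · have h' : Odd (orderOf (b * t)) := h
      have e : b * t = (t * b)⁻¹ := by
        rw [mul_inv_rev, inv_eq_self_of_mul_self htt, inv_eq_self_of_mul_self hbb]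
      rw [e, orderOf_inv, hord] at h'
      exact absurd h' (by decide)
  have : Nontrivial {x : Perm (Fin n) // IsConj t x} := ⟨⟨_, _, hne⟩⟩
  have h0 : G.diam ≠ 0 := SimpleGraph.connected_iff_diam_ne_zero.mp hconn
  have h1 : G.diam ≠ 1 := by
    intro h
    have htop := SimpleGraph.diam_eq_one.mp h
    apply hnadj
    rw [htop]
    exact hne
  omega

end Cfsg.Agent.Helper95OddProd
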