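import Mathlib
import Cfsg.Agent.Lib.Helper95_Burnside

set_option autoImplicit false

namespace Cfsg.Agent.Lib.Helper95_PGroupOrbits

open MulAction

/-- If all orbits have the same size `c`, then `#orbits * c = |X|`. -/
theorem natCard_orbits_mul_of_const {Q X : Type*} [Group Q] [MulAction Q X] [Finite X] (c : ℕ)
    (horb : ∀ x : X, (orbit Q x).ncard = c) :
    Nat.card (Quotient (orbitRel Q X)) * c = Nat.card X := by
  classical
  have : Fintype (orbitRel.Quotient Q X) := Fintype.ofFinite _
  rw [Nat.card_congr (selfEquivSigmaOrbits Q X), Nat.card_sigma]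
  have : ∀ ω : orbitRel.Quotient Q X, Nat.card (orbit Q (Quotient.out ω)) = c := by
    intro ω
    rw [Nat.card_coe_set_eq]
    exact horb _
  simp only [this, Finset.sum_const, smul_eq_mul, Finset.card_univ]
  rw [Nat.card_eq_fintype_card]

/-- A `p`-group acting on a set of size `m * p`, `1 ≤ m < p`, with all orbits of size `p`, contains an element
without fixed points, and the `p`-th power of every element acts trivially. -/
theorem exists_derangement_of_orbits_card_prime {Q X : Type*} [Group Q] [Finite Q] [MulAction Q X] [Finite X]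
    (p m : ℕ) (hp : p.Prime) (hQ : IsPGroup p Q) (horb : ∀ x : X, (orbit Q x).ncard = p)
    (hcard : Nat.card X = m * p) (hm1 : 1 ≤ m) (hm : m < p) :
    (∀ (g : Q) (x : X), g ^ p • x = x) ∧ ∃ g : Q, ∀ x : X, g • x ≠ x := by
  classical
  have : Fintype Q := Fintype.ofFinite Q
  have : Fact p.Prime := ⟨hp⟩
  have hX : Nonempty X := by
    have : 0 < Nat.card X := by rw [hcard]; exact Nat.mul_pos (by omega) hp.pos
    exact (Nat.card_pos_iff.mp this).1
  obtain ⟨x₀⟩ := hX
  have hidx : ∀ x : X, (stabilizer Q x).index = p := fun x => by rw [index_stabilizer, horb]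
  -- |Q| = p^a with a ≥ 1
  obtain ⟨a, ha⟩ := hQ.exists_card_eq
  have hpQ : p ∣ Nat.card Q := by
    rw [← hidx x₀]; exact Subgroup.index_dvd_card _
  have ha0 : a ≠ 0 := by
    rintro rfl
    rw [ha, pow_zero] at hpQ
    exact hp.one_lt.ne' (Nat.dvd_one.mp hpQ)
  have hnormal : ∀ x : X, (stabilizer Q x).Normal := by
    intro x
    apply Subgroup.normal_of_index_eq_minFac_card
    rw [hidx, ha, hp.pow_minFac ha0]
  have hpow : ∀ (g : Q) (x : X), g ^ p • x = x := by
    intro g x
    have := hnormal x
    have h := Subgroup.pow_index_mem (stabilizer Q x) g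
    rw [hidx] at h
    exact h
  refine ⟨hpow, ?_⟩
  by_contra hcon
  push Not at hcon
  -- every element has a fixed point, hence at least p fixed points
  have hfixorb : ∀ (g : Q) (x : X), g • x = x → ∀ y : Q, g • (y • x) = y • x := by
    intro g x hgx y
    have := hnormal x
    have hmem : g ∈ stabilizer Q x := hgx
    have h2 : y⁻¹ * g * y⁻¹⁻¹ ∈ stabilizer Q x := (hnormal x).conj_mem g hmem y⁻¹
    rw [inv_inv, mem_stabilizer_iff, mul_smul, mul_smul] at h2
    have := congrArg (fun z => y • z) h2
    simpa using this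
  have hge : ∀ g : Q, p ≤ Nat.card (fixedBy X g) := by
    intro g
    obtain ⟨x, hx⟩ := hcon g
    have hsub : orbit Q x ⊆ fixedBy X g := by
      rintro _ ⟨y, rfl⟩
      exact hfixorb g x hx y
    rw [Nat.card_coe_set_eq, ← horb x]
    exact Set.ncard_le_ncard hsub
  have hone : Nat.card (fixedBy X (1 : Q)) = m * p := by
    rw [fixedBy_one_eq_univ, Nat.card_coe_set_eq, Set.ncard_univ, hcard]
  have hsum := Cfsg.Agent.Lib.Helper95_Burnside.sum_natCard_fixedBy (G := Q) (X := X)
  have hnum : Nat.card (Quotient (orbitRel Q X)) = m := by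
    have h := natCard_orbits_mul_of_const (Q := Q) (X := X) p horb
    rw [hcard] at h
    exact Nat.eq_of_mul_eq_mul_right hp.pos h
  rw [hnum] at hsum
  -- lower bound on the sum
  have hlow : m * p + (Nat.card Q - 1) * p ≤ ∑ g : Q, Nat.card (fixedBy X g) := by
    rw [← Finset.sum_erase_add _ _ (Finset.mem_univ (1 : Q)), hone, add_comm]
    apply Nat.add_le_add_right
    have hc : (Finset.univ.erase (1 : Q)).card = Nat.card Q - 1 := by
      rw [Finset.card_erase_of_mem (Finset.mem_univ _), Finset.card_univ, Nat.card_eq_fintype_card]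
    rw [← hc, ← smul_eq_mul, ← Finset.sum_const]
    exact Finset.sum_le_sum (fun g _ => hge g)
  rw [hsum] at hlow
  have hq : p ≤ Nat.card Q := Nat.le_of_dvd Nat.card_pos hpQ
  -- arithmetic contradiction
  have h1 : m * Nat.card Q ≤ (p - 1) * Nat.card Q := Nat.mul_le_mul_right _ (by omega)
  have h2 : (p - 1) * Nat.card Q + Nat.card Q = p * Nat.card Q := by
    have : p - 1 + 1 = p := by have := hp.pos; omega
    calc (p - 1) * Nat.card Q + Nat.card Q = (p - 1 + 1) * Nat.card Q := by ring
      _ = p * Nat.card Q := by rw [this]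
  have h3 : (Nat.card Q - 1) * p + p = p * Nat.card Q := by
    have : Nat.card Q - 1 + 1 = Nat.card Q := by omega
    calc (Nat.card Q - 1) * p + p = (Nat.card Q - 1 + 1) * p := by ring
      _ = p * Nat.card Q := by rw [this, mul_comm]
  have h4 : p ≤ m * p := Nat.le_mul_of_pos_left p (by omega)
  omega

end Cfsg.Agent.Lib.Helper95_PGroupOrbits
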