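import Mathlib

set_option autoImplicit false

namespace Cfsg.Agent.Lib.Helper95_Perm

open MulAction

/-- For a transitive action of a finite group `G` on a finite set `Ω`, every orbit of a Sylow
`p`-subgroup has size divisible by the `p`-part of `|Ω|`. -/
theorem pow_factorization_dvd_ncard_orbit_sylow {G Ω : Type*} [Group G] [Finite G] [MulAction G Ω]
    [Finite Ω] [IsPretransitive G Ω] {p : ℕ} [hp : Fact p.Prime] (P : Sylow p G) (ω : Ω) :
    p ^ ((Nat.card Ω).factorization p) ∣ (orbit (↥(P : Subgroup G)) ω).ncard := by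
  classical
  have hΩpos : Nat.card Ω ≠ 0 := by
    have : Nonempty Ω := ⟨ω⟩
    exact Nat.card_pos.ne'
  -- |G_ω| * |Ω| = |G|
  have h1 : Nat.card (stabilizer G ω) * Nat.card Ω = Nat.card G := by
    rw [← index_stabilizer_of_transitive (G := G) (x := ω)]
    exact Subgroup.card_mul_index _
  -- |P_ω| * |orbit| = |P|
  have h2 : Nat.card (stabilizer (↥(P : Subgroup G)) ω) * (orbit (↥(P : Subgroup G)) ω).ncard
      = Nat.card (↥(P : Subgroup G)) := by
    rw [← index_stabilizer (G := ↥(P : Subgroup G)) (x := ω)]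
    exact Subgroup.card_mul_index _
  -- |P_ω| divides |G_ω|
  have h3 : Nat.card (stabilizer (↥(P : Subgroup G)) ω) ∣ Nat.card (stabilizer G ω) := by
    let f : stabilizer (↥(P : Subgroup G)) ω →* stabilizer G ω :=
      { toFun := fun x => ⟨((x : ↥(P : Subgroup G)) : G), by
          have := x.2
          rw [mem_stabilizer_iff] at this ⊢
          exact this⟩
        map_one' := rfl
        map_mul' := fun _ _ => rfl }
    apply Subgroup.card_dvd_of_injective f
    intro x y hxy
    have : ((x : ↥(P : Subgroup G)) : G) = ((y : ↥(P : Subgroup G)) : G) :=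
      congrArg (fun z : stabilizer G ω => (z : G)) hxy
    exact Subtype.ext (Subtype.ext this)
  have hPω : IsPGroup p (stabilizer (↥(P : Subgroup G)) ω) := P.isPGroup'.to_subgroup _
  obtain ⟨a, ha⟩ := hPω.exists_card_eq
  have hPcard := P.card_eq_multiplicity
  have hGω_pos : Nat.card (stabilizer G ω) ≠ 0 := Nat.card_pos.ne'
  have hfac : (Nat.card G).factorization p
      = (Nat.card (stabilizer G ω)).factorization p + (Nat.card Ω).factorization p := by
    rw [← h1, Nat.factorization_mul hGω_pos hΩpos]
    rfl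
  have ha' : a ≤ (Nat.card (stabilizer G ω)).factorization p := by
    rw [ha] at h3
    exact (hp.out.pow_dvd_iff_le_factorization hGω_pos).mp h3
  rw [ha, hPcard, hfac] at h2
  have hp0 : 0 < p := hp.out.pos
  -- p^a * orbit = p^(b + c), a ≤ b
  obtain ⟨d, hd⟩ := Nat.exists_eq_add_of_le ha'
  rw [hd, add_assoc, pow_add] at h2
  have h4 : (orbit (↥(P : Subgroup G)) ω).ncard = p ^ (d + (Nat.card Ω).factorization p) :=
    Nat.eq_of_mul_eq_mul_left (pow_pos hp0 a) h2
  rw [h4, pow_add]
  exact Dvd.intro_left _ rfl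

end Cfsg.Agent.Lib.Helper95_Perm
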