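import Mathlib
import Cfsg.Agent.Lib.Helper95_RH_GRP7Baux
import Cfsg.Agent.Lib.Helper50_RH_GRP7A

/-!
REEHALL market (helper26), package GRP7B: in a finite group embedded in `GL₇(q)`, `|N(⟨x⟩)|` divides `6 |C(x)|`
for an element `x` of prime order `p ∣ q² - q + 1`.
-/

set_option autoImplicit false

open Polynomial

namespace Cfsg.Agent.Lib.Helper95_RH_GRP7B

/-- Group form: `|N(⟨x⟩) : C(x)|` divides 6. -/
theorem card_normalizer_dvd {K : Type*} [Field K] [Fintype K] {ι : Type*} [Fintype ι]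
    [DecidableEq ι]
    (hι : Fintype.card ι = 7) {m p : ℕ} (hK : Fintype.card K = 3 ^ (2 * m + 1)) (hp : p.Prime)
    (hpN : p ∣ (3 ^ (2 * m + 1)) ^ 2 - 3 ^ (2 * m + 1) + 1)
    {G : Type*} [Group G] [Finite G] (f : G →* GL ι K) (hf : Function.Injective f)
    (x : G) (hx : orderOf x = p) :
    Nat.card ↥(Subgroup.normalizer (Subgroup.zpowers x : Set G)) ∣
      6 * Nat.card ↥(Subgroup.centralizer ({x} : Set G)) :=
  Cfsg.Agent.Lib.Helper95_RH_GRP7Baux.card_normalizer_dvd_aux hp x hx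
    (Cfsg.Agent.Lib.Helper50_RH_GRP7A.pow_six_mem_centralizer hι hK hp hpN f hf x hx)

end Cfsg.Agent.Lib.Helper95_RH_GRP7B
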