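import Mathlib
import Cfsg.Prelude.Def_AxialAlgebras
import Cfsg.Agent.Lib.Helper16_SakDefs
import Cfsg.Agent.Lib.Helper24_SAK_AXDEC
import Cfsg.Agent.Lib.Helper95_SAK_PAIRaux

/-!
# S5544 market (architect helper16), package PAIR (helper95)

The parts of an arbitrary vector `b` with respect to a unit Majorana axis `a`: verbatim statements, from
`Helper95_SAK_PAIRaux` and `decomp` (AX-DEC, helper24).
-/

set_option autoImplicit false

namespace Cfsg.Agent.Lib.Helper95_SAK_PAIR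

open Cfsg.Axial Cfsg.Agent.Lib.Helper16_SakDefs

variable {V : Type*} [AddCommGroup V] [Module ℝ V]
  {mul : V →ₗ[ℝ] V →ₗ[ℝ] V} {B : LinearMap.BilinForm ℝ V}

theorem sig_mu {μ : V ≃ₗ[ℝ] V} {a : V} (h : UAxis mul B μ a) (b : V) :
    sig mul a (μ b) = sig mul a b :=
  Cfsg.Agent.Lib.Helper95_SAK_PAIRaux.sig_mu_of h (fun x => Cfsg.Agent.Lib.Helper24_SAK_AXDEC.decomp h x) b

theorem eig32 {μ : V ≃ₗ[ℝ] V} {a : V} (h : UAxis mul B μ a) (b : V) :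
    mul a (b - μ b) = (1 / 32 : ℝ) • (b - μ b) :=
  Cfsg.Agent.Lib.Helper95_SAK_PAIRaux.eig32_of h (fun x => Cfsg.Agent.Lib.Helper24_SAK_AXDEC.decomp h x) b

theorem eig4 {μ : V ≃ₗ[ℝ] V} {a : V} (h : UAxis mul B μ a) (b : V) :
    mul a (v4 mul B a b (μ b)) = (1 / 4 : ℝ) • v4 mul B a b (μ b) :=
  Cfsg.Agent.Lib.Helper95_SAK_PAIRaux.eig4_of h (fun x => Cfsg.Agent.Lib.Helper24_SAK_AXDEC.decomp h x) b

theorem eig0 {μ : V ≃ₗ[ℝ] V} {a : V} (h : UAxis mul B μ a) (b : V) :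
    mul a (u0 mul B a b (μ b)) = 0 :=
  Cfsg.Agent.Lib.Helper95_SAK_PAIRaux.eig0_of h (fun x => Cfsg.Agent.Lib.Helper24_SAK_AXDEC.decomp h x) b

end Cfsg.Agent.Lib.Helper95_SAK_PAIR
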