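import Mathlib
import Cfsg.Agent.Lib.Helper41_SLRDefs

/-!
# SLR market (sub-architect helper41, S4613 package PSL), package XB (helper95)

`xs j t` is upper triangular; `ys j t` with `t ≠ 0` is not.
-/

set_option autoImplicit false
set_option linter.unusedSectionVars false
set_option linter.unusedVariables false

namespace Cfsg.Agent.Lib.Helper95_SLR_XB

open Matrix Cfsg.Agent.Lib.Helper68_MatGrp Cfsg.Agent.Lib.Helper41_SLRDefs

variable {n : ℕ} {F : Type*} [Field F]

/-- **SLR-XB** [S] (two statements, one file) -/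
theorem xs_mem_Bsl (j : Fin (n - 1)) (t : F) :
    (xs j t : Matrix.SpecialLinearGroup (Fin n) F) ∈ Bsl n F := by
  rw [mem_Bsl]
  intro a b hab
  rw [xs_val, Matrix.add_apply, Matrix.one_apply, Matrix.single_apply]
  have hne : a ≠ b := fun e => by rw [e] at hab; exact lt_irrefl _ hab
  rw [if_neg hne, zero_add]
  by_cases h : lo j = a ∧ hi j = b
  · exfalso
    obtain ⟨h1, h2⟩ := h
    have e1 : a.val = j.val := by rw [← h1]; rfl
    have e2 : b.val = j.val + 1 := by rw [← h2]; rfl
    have : b.val < a.val := hab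
    omega
  · rw [if_neg h]

theorem ys_not_mem_Bsl (j : Fin (n - 1)) (t : F) (ht : t ≠ 0) :
    (ys j t : Matrix.SpecialLinearGroup (Fin n) F) ∉ Bsl n F := by
  intro hmem
  rw [mem_Bsl] at hmem
  have h := hmem (hi j) (lo j) (by show (lo j).val < (hi j).val; simp)
  rw [ys_val, Matrix.add_apply, Matrix.one_apply, Matrix.single_apply, if_neg (hi_ne_lo j),
    if_pos ⟨rfl, rfl⟩, zero_add] at h
  exact ht h

end Cfsg.Agent.Lib.Helper95_SLR_XB
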