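import Mathlib
import Cfsg.Agent.Lib.Helper95_Sharp3Lin

/-!
# A sharply triply transitive group of even degree is not perfect (helper95)

`commutator_ne_top`: if `Γ` acts triply transitively on `α`, only the identity fixes three points,
and `card α` is even and at least four, then `commutator Γ ≠ ⊤`; in particular `Γ` is not a
non-abelian simple group.

* `card α ≡ 0 mod 4`: an involution interchanging two points and fixing a third one is an odd
  permutation.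
* `card α ≡ 2 mod 4`: transfer into the setwise stabiliser `M` of a pair `{a, b}` (of odd index),
  through the focal subgroup of `M`, which is contained in the subgroup `M₀ = N ∪ sN` of index two
  (`N` the `s`-invariant subgroup of index two of the two-point stabiliser).
-/

set_option autoImplicit false

namespace Cfsg.Agent.Lib.Helper95_Sharp3NS

open MulAction Cfsg.Agent.Lib.Helper21_Sharp3 Cfsg.Agent.Lib.Helper95_Sharp3Idx

universe u v

variable {Γ : Type u} {α : Type v} [Group Γ] [MulAction Γ α]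

/-- degree divisible by four: an involution with two fixed points is an odd permutation -/
theorem commutator_ne_top_of_four_dvd [Fintype α] [DecidableEq α]
    (h3 : IsMultiplyPretransitive Γ α 3) (hs : Sharp3 Γ α) (h4 : 4 ∣ Fintype.card α)
    (hpos : 4 ≤ Fintype.card α) : commutator Γ ≠ ⊤ := by
  classical
  obtain ⟨a, b, c, hab, hac, hbc⟩ := Fintype.two_lt_card_iff.mp (by omega : 2 < Fintype.card α)
  obtain ⟨t, hta, htb, htc⟩ := exists_smul_triple h3 a b c b a c hab hac hbc hab.symm hbc hac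
  have htt : t * t = 1 :=
    hs (t * t) a b c hab hac hbc (by rw [mul_smul, hta, htb]) (by rw [mul_smul, htb, hta])
      (by rw [mul_smul, htc, htc])
  have ht1 : t ≠ 1 := by
    intro h
    rw [h, one_smul] at hta
    exact hab hta
  obtain ⟨σ, hσdef⟩ : ∃ σ : Equiv.Perm α, σ = MulAction.toPerm t := ⟨_, rfl⟩
  have hσapp : ∀ x, σ x = t • x := fun x => by rw [hσdef]; rfl
  have hσ2 : σ ^ 2 = 1 := by
    ext x
    rw [pow_two, Equiv.Perm.mul_apply, hσapp, hσapp, ← mul_smul, htt, one_smul]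
    rfl
  have hσ1 : σ ≠ 1 := by
    intro h
    have := hσapp a
    rw [h, hta] at this
    exact hab this
  have horder : orderOf σ = 2 := orderOf_eq_prime hσ2 hσ1
  obtain ⟨m, hm⟩ := Equiv.Perm.cycleType_prime_order (σ := σ)
    (by rw [horder]; exact Nat.prime_two)
  rw [horder] at hm
  have hsupp : σ.support.card = 2 * (m + 1) := by
    rw [← Equiv.Perm.sum_cycleType, hm, Multiset.sum_replicate, smul_eq_mul, mul_comm]
  have hcompl : σ.supportᶜ.card = Fintype.card α - σ.support.card := Finset.card_compl _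
  have hsle : σ.support.card ≤ Fintype.card α := Finset.card_le_univ _
  have hfix : ∀ w ∈ σ.supportᶜ, t • w = w := by
    intro w hw
    rw [Finset.mem_compl, Equiv.Perm.notMem_support, hσapp] at hw
    exact hw
  have hle : σ.supportᶜ.card ≤ 2 := by
    by_contra hgt
    push Not at hgt
    obtain ⟨x, y, z, hx, hy, hz, hxy, hxz, hyz⟩ := Finset.two_lt_card_iff.mp hgt
    exact ht1 (hs t x y z hxy hxz hyz (hfix x hx) (hfix y hy) (hfix z hz))
  have hc : c ∈ σ.supportᶜ := by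
    rw [Finset.mem_compl, Equiv.Perm.notMem_support, hσapp]
    exact htc
  have hpos' : 1 ≤ σ.supportᶜ.card := Finset.card_pos.mpr ⟨c, hc⟩
  obtain ⟨q, hq⟩ := h4
  have hodd : Odd (m + 1) := by
    rw [Nat.odd_iff]
    omega
  have hsign : Equiv.Perm.sign σ = -1 := by
    rw [Equiv.Perm.sign_of_cycleType, hm, Multiset.sum_replicate, Multiset.card_replicate,
      smul_eq_mul, pow_add, pow_mul, hodd.neg_one_pow]
    simp
  let ψ : Γ →* ℤˣ := Equiv.Perm.sign.comp (MulAction.toPermHom Γ α)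
  have hψ : ψ t = -1 := by
    change Equiv.Perm.sign (MulAction.toPerm t) = -1
    rw [← hσdef]
    exact hsign
  intro htop
  have hker : commutator Γ ≤ ψ.ker := Abelianization.commutator_subset_ker ψ
  rw [htop] at hker
  have hmem : t ∈ ψ.ker := hker (Subgroup.mem_top t)
  rw [MonoidHom.mem_ker, hψ] at hmem
  exact absurd hmem (by decide)

/-- the two-point stabiliser has `card α - 2` elements and at most one involution -/
theorem two_point_facts [Fintype α] [DecidableEq α] [Finite Γ]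
    (h3 : IsMultiplyPretransitive Γ α 3) (hs : Sharp3 Γ α) (h4 : 4 ≤ Fintype.card α)
    {a b : α} (hab : a ≠ b) :
    Nat.card ↥(stabilizer Γ a ⊓ stabilizer Γ b) + 2 = Fintype.card α ∧
    ∀ x y : ↥(stabilizer Γ a ⊓ stabilizer Γ b), x * x = 1 → y * y = 1 → x ≠ 1 → y ≠ 1 →
      x = y := by
  apply Cfsg.Agent.Lib.Helper95_Sharp3Lin.linearize3 h3 hs h4 hab
  intro p _ V _ _ _ H' hV ⟨e⟩ hreg
  have hnt : Nontrivial V := by
    rw [← Finite.one_lt_card_iff_nontrivial]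
    omega
  have hc := Cfsg.Agent.Lib.Helper12_ExcNF.card_add_one H' hreg
  constructor
  · rw [Nat.card_congr e.toEquiv]
    omega
  · intro x y hx hy hx1 hy1
    apply e.injective
    apply Cfsg.Agent.Lib.Helper95_RegLin.invol_unique H' hreg
    · rw [pow_two, ← map_mul, hx, map_one]
    · rw [pow_two, ← map_mul, hy, map_one]
    · intro h
      exact hx1 (e.injective (h.trans (map_one e).symm))
    · intro h
      exact hy1 (e.injective (h.trans (map_one e).symm))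

/-- the `s`-invariant subgroup of index two of the two-point stabiliser -/
theorem exists_N [Fintype α] [DecidableEq α] [Finite Γ]
    (h3 : IsMultiplyPretransitive Γ α 3) (hs : Sharp3 Γ α) (heven : Even (Fintype.card α))
    (h6 : 6 ≤ Fintype.card α) {a b c : α} (hab : a ≠ b) (hac : a ≠ c) (hbc : b ≠ c) {s : Γ}
    (hsa : s • a = b) (hsb : s • b = a) (hsc : s • c = c) :
    ∃ N : Subgroup Γ, N ≤ stabilizer Γ a ⊓ stabilizer Γ b ∧
      (∀ h ∈ stabilizer Γ a ⊓ stabilizer Γ b, ∀ h' ∈ stabilizer Γ a ⊓ stabilizer Γ b,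
        (h * h' ∈ N ↔ (h ∈ N ↔ h' ∈ N))) ∧
      (∀ h ∈ stabilizer Γ a ⊓ stabilizer Γ b, (s * h * s⁻¹ ∈ N ↔ h ∈ N)) ∧
      (∃ h ∈ stabilizer Γ a ⊓ stabilizer Γ b, h ∉ N) ∧
      2 * Nat.card N = Nat.card ↥(stabilizer Γ a ⊓ stabilizer Γ b) := by
  obtain ⟨M, hM⟩ := exists_index_two h3 hs heven h6 hab hac hbc
  have hss : s * s = 1 :=
    hs (s * s) a b c hab hac hbc (by rw [mul_smul, hsa, hsb]) (by rw [mul_smul, hsb, hsa])
      (by rw [mul_smul, hsc, hsc])
  have hsinv : s⁻¹ = s := inv_eq_of_mul_eq_one_left hss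
  have hHmem : ∀ g, g ∈ stabilizer Γ a ⊓ stabilizer Γ b ↔ g • a = a ∧ g • b = b := by
    intro g
    rw [Subgroup.mem_inf, mem_stabilizer_iff, mem_stabilizer_iff]
  have hnorm : ∀ h ∈ stabilizer Γ a ⊓ stabilizer Γ b,
      s * h * s⁻¹ ∈ stabilizer Γ a ⊓ stabilizer Γ b := by
    intro h hh
    obtain ⟨h1, h2⟩ := (hHmem h).1 hh
    rw [hHmem, hsinv]
    constructor
    · rw [mul_smul, mul_smul, hsa, h2, hsb]
    · rw [mul_smul, mul_smul, hsb, h1, hsa]
  let σ : ↥(stabilizer Γ a ⊓ stabilizer Γ b) ≃* ↥(stabilizer Γ a ⊓ stabilizer Γ b) :=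
    { toFun := fun h => ⟨s * h * s⁻¹, hnorm h h.2⟩
      invFun := fun h => ⟨s * h * s⁻¹, hnorm h h.2⟩
      left_inv := fun h => by
        apply Subtype.ext
        change s * (s * (h : Γ) * s⁻¹) * s⁻¹ = h
        rw [hsinv]
        calc s * (s * (h : Γ) * s) * s = (s * s) * h * (s * s) := by group
          _ = h := by rw [hss, one_mul, mul_one]
      right_inv := fun h => by
        apply Subtype.ext
        change s * (s * (h : Γ) * s⁻¹) * s⁻¹ = h
        rw [hsinv]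
        calc s * (s * (h : Γ) * s) * s = (s * s) * h * (s * s) := by group
          _ = h := by rw [hss, one_mul, mul_one]
      map_mul' := fun x y => by
        apply Subtype.ext
        change s * ((x : Γ) * y) * s⁻¹ = (s * x * s⁻¹) * (s * y * s⁻¹)
        group }
  have hσ : ∀ x, σ (σ x) = x := fun x => σ.left_inv x
  have hσval : ∀ x : ↥(stabilizer Γ a ⊓ stabilizer Γ b), ((σ x : ↥(stabilizer Γ a ⊓ stabilizer Γ b)) : Γ) =
      s * x * s⁻¹ := fun x => rfl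
  obtain ⟨N', hN2, hNσ⟩ :=
    Cfsg.Agent.Lib.Helper95_IdxTwo.exists_invariant_index_two σ hσ ⟨M, hM⟩
  have hmemN : ∀ (h : Γ) (hh : h ∈ stabilizer Γ a ⊓ stabilizer Γ b),
      h ∈ N'.map (stabilizer Γ a ⊓ stabilizer Γ b).subtype ↔
        (⟨h, hh⟩ : ↥(stabilizer Γ a ⊓ stabilizer Γ b)) ∈ N' := by
    intro h hh
    rw [Subgroup.mem_map]
    constructor
    · rintro ⟨x, hx, hxh⟩
      have : x = ⟨h, hh⟩ := Subtype.ext hxh
      rwa [← this]
    · intro hx
      exact ⟨⟨h, hh⟩, hx, rfl⟩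
  refine ⟨N'.map (stabilizer Γ a ⊓ stabilizer Γ b).subtype, Subgroup.map_subtype_le N', ?_, ?_,
    ?_, ?_⟩
  · intro h hh h' hh'
    rw [hmemN _ (Subgroup.mul_mem _ hh hh'), hmemN h hh, hmemN h' hh']
    exact Subgroup.mul_mem_iff_of_index_two hN2 (a := ⟨h, hh⟩) (b := ⟨h', hh'⟩)
  · intro h hh
    rw [hmemN _ (hnorm h hh), hmemN h hh]
    constructor
    · intro h1
      have h2 := hNσ _ h1
      have h3 : σ ⟨s * h * s⁻¹, hnorm h hh⟩ = ⟨h, hh⟩ := hσ ⟨h, hh⟩
      rwa [h3] at h2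
    · intro h1
      exact hNσ _ h1
  · by_contra hcon
    push Not at hcon
    have htop : N' = ⊤ := by
      rw [eq_top_iff]
      intro x _
      exact (hmemN x x.2).1 (hcon x x.2)
    rw [htop, Subgroup.index_top] at hN2
    omega
  · rw [Subgroup.card_map_of_injective (Subgroup.subtype_injective _), ← Subgroup.card_mul_index N',
      hN2, mul_comm]

/-- the data for the transfer argument -/
structure Data (Γ : Type u) (α : Type v) [Group Γ] [MulAction Γ α] where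
  /-- first point -/
  a : α
  /-- second point -/
  b : α
  /-- third point -/
  c : α
  /-- the involution interchanging `a` and `b` and fixing `c` -/
  s : Γ
  /-- the invariant subgroup of index two of the two-point stabiliser -/
  N : Subgroup Γ
  /-- an involution of `N` -/
  z : Γ
  hab : a ≠ b
  hac : a ≠ c
  hbc : b ≠ c
  hsa : s • a = b
  hsb : s • b = a
  hsc : s • c = c
  sharp : Sharp3 Γ α
  hE : ∀ u v w u' v' w' : α, u ≠ v → u ≠ w → v ≠ w → u' ≠ v' → u' ≠ w' → v' ≠ w' →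
    ∃ g : Γ, g • u = u' ∧ g • v = v' ∧ g • w = w'
  N_le : N ≤ stabilizer Γ a ⊓ stabilizer Γ b
  N_mul : ∀ h ∈ stabilizer Γ a ⊓ stabilizer Γ b, ∀ h' ∈ stabilizer Γ a ⊓ stabilizer Γ b,
    (h * h' ∈ N ↔ (h ∈ N ↔ h' ∈ N))
  N_conj : ∀ h ∈ stabilizer Γ a ⊓ stabilizer Γ b, (s * h * s⁻¹ ∈ N ↔ h ∈ N)
  N_ne : ∃ h ∈ stabilizer Γ a ⊓ stabilizer Γ b, h ∉ N
  N_card : 2 * Nat.card N = Nat.card ↥(stabilizer Γ a ⊓ stabilizer Γ b)
  invol : ∀ x ∈ stabilizer Γ a ⊓ stabilizer Γ b, ∀ y ∈ stabilizer Γ a ⊓ stabilizer Γ b,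
    x * x = 1 → y * y = 1 → x ≠ 1 → y ≠ 1 → x = y
  hzN : z ∈ N
  hz1 : z ≠ 1
  hzz : z * z = 1

namespace Data

variable (D : Data Γ α)

theorem mem_H (g : Γ) :
    g ∈ stabilizer Γ D.a ⊓ stabilizer Γ D.b ↔ g • D.a = D.a ∧ g • D.b = D.b := by
  rw [Subgroup.mem_inf, mem_stabilizer_iff, mem_stabilizer_iff]

theorem s_mul_s : D.s * D.s = 1 :=
  D.sharp (D.s * D.s) D.a D.b D.c D.hab D.hac D.hbc (by rw [mul_smul, D.hsa, D.hsb])
    (by rw [mul_smul, D.hsb, D.hsa]) (by rw [mul_smul, D.hsc, D.hsc])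

theorem s_inv : D.s⁻¹ = D.s := inv_eq_of_mul_eq_one_left D.s_mul_s

theorem s_ne_one : D.s ≠ 1 := by
  intro h
  have := D.hsa
  rw [h, one_smul] at this
  exact D.hab this

theorem s_mul_s_mul (g : Γ) : D.s * (D.s * g) = g := by
  rw [← mul_assoc, D.s_mul_s, one_mul]

theorem conj_mem_H {h : Γ} (hh : h ∈ stabilizer Γ D.a ⊓ stabilizer Γ D.b) :
    D.s * h * D.s⁻¹ ∈ stabilizer Γ D.a ⊓ stabilizer Γ D.b := by
  obtain ⟨h1, h2⟩ := (D.mem_H h).1 hh
  rw [D.mem_H, D.s_inv]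
  constructor
  · rw [mul_smul, mul_smul, D.hsa, h2, D.hsb]
  · rw [mul_smul, mul_smul, D.hsb, h1, D.hsa]

theorem eq_one_of_fix {h : Γ} (hh : h ∈ stabilizer Γ D.a ⊓ stabilizer Γ D.b) {x : α}
    (hxa : x ≠ D.a) (hxb : x ≠ D.b) (hx : h • x = x) : h = 1 := by
  obtain ⟨h1, h2⟩ := (D.mem_H h).1 hh
  exact D.sharp h D.a D.b x D.hab hxa.symm hxb.symm h1 h2 hx

theorem exists_H_map {y : α} (hya : y ≠ D.a) (hyb : y ≠ D.b) :
    ∃ w ∈ stabilizer Γ D.a ⊓ stabilizer Γ D.b, w • D.c = y := by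
  obtain ⟨w, h1, h2, h3⟩ := D.hE D.a D.b D.c D.a D.b y D.hab D.hac D.hbc D.hab hya.symm hyb.symm
  exact ⟨w, (D.mem_H w).2 ⟨h1, h2⟩, h3⟩

theorem swap_eq {g : Γ} (hga : g • D.a = D.b) (hgb : g • D.b = D.a) (hgc : g • D.c = D.c) :
    g = D.s := by
  have h1 : D.s * g = 1 :=
    D.sharp (D.s * g) D.a D.b D.c D.hab D.hac D.hbc (by rw [mul_smul, hga, D.hsb])
      (by rw [mul_smul, hgb, D.hsa]) (by rw [mul_smul, hgc, D.hsc])
  have h2 : g = D.s⁻¹ := eq_inv_of_mul_eq_one_right h1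
  rw [h2, D.s_inv]

theorem swap_mem_H {g : Γ} (hga : g • D.a = D.b) (hgb : g • D.b = D.a) :
    D.s * g ∈ stabilizer Γ D.a ⊓ stabilizer Γ D.b := by
  rw [D.mem_H]
  exact ⟨by rw [mul_smul, hga, D.hsb], by rw [mul_smul, hgb, D.hsa]⟩

theorem N_inv_conj {h : Γ} (hh : h ∈ stabilizer Γ D.a ⊓ stabilizer Γ D.b) :
    D.s * h * D.s ∈ D.N ↔ h ∈ D.N := by
  have := D.N_conj h hh
  rwa [D.s_inv] at this

/-- an element `s * h` with a fixed point has `h ∈ N` -/
theorem N_of_fixed {h : Γ} (hh : h ∈ stabilizer Γ D.a ⊓ stabilizer Γ D.b) {y : α}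
    (hy : (D.s * h) • y = y) : h ∈ D.N := by
  obtain ⟨h1, h2⟩ := (D.mem_H h).1 hh
  have hya : y ≠ D.a := by
    intro h0
    rw [h0, mul_smul, h1, D.hsa] at hy
    exact D.hab hy.symm
  have hyb : y ≠ D.b := by
    intro h0
    rw [h0, mul_smul, h2, D.hsb] at hy
    exact D.hab hy
  obtain ⟨w, hw, hwc⟩ := D.exists_H_map hya hyb
  obtain ⟨w1, w2⟩ := (D.mem_H w).1 hw
  have hwi : w⁻¹ ∈ stabilizer Γ D.a ⊓ stabilizer Γ D.b := Subgroup.inv_mem _ hw
  obtain ⟨wi1, wi2⟩ := (D.mem_H w⁻¹).1 hwi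
  -- `w⁻¹ * (s * h) * w = s`
  have h3 : w⁻¹ * (D.s * h) * w = D.s := by
    apply D.swap_eq
    · rw [mul_smul, mul_smul, mul_smul, w1, h1, D.hsa, wi2]
    · rw [mul_smul, mul_smul, mul_smul, w2, h2, D.hsb, wi1]
    · rw [mul_smul, mul_smul, hwc, hy, ← hwc, inv_smul_smul]
  have h4 : h = (D.s * w * D.s) * w⁻¹ := by
    have : D.s * h = w * D.s * w⁻¹ := by
      calc D.s * h = w * (w⁻¹ * (D.s * h) * w) * w⁻¹ := by group
        _ = w * D.s * w⁻¹ := by rw [h3]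
    calc h = D.s * (D.s * h) := (D.s_mul_s_mul h).symm
      _ = D.s * (w * D.s * w⁻¹) := by rw [this]
      _ = (D.s * w * D.s) * w⁻¹ := by group
  have h5 : D.s * w * D.s ∈ stabilizer Γ D.a ⊓ stabilizer Γ D.b := by
    have := D.conj_mem_H hw
    rwa [D.s_inv] at this
  rw [h4, D.N_mul _ h5 _ hwi, D.N_inv_conj hw, inv_mem_iff]

/-- conversely, for `h ∈ N` the element `s * h` has a fixed point (counting) -/
theorem fixed_of_N [Finite Γ] {h : Γ} (hh : h ∈ D.N) : ∃ y : α, (D.s * h) • y = y := by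
  classical
  have hfinΓ : Fintype Γ := Fintype.ofFinite _
  have hfinH : Fintype ↥(stabilizer Γ D.a ⊓ stabilizer Γ D.b) := Fintype.ofFinite _
  let f : ↥(stabilizer Γ D.a ⊓ stabilizer Γ D.b) → Γ := fun w => D.s * w * D.s * (w : Γ)⁻¹
  have hfdef : ∀ w, f w = D.s * w * D.s * (w : Γ)⁻¹ := fun w => rfl
  have hfN : ∀ w, f w ∈ D.N := by
    intro w
    have h5 : D.s * w * D.s ∈ stabilizer Γ D.a ⊓ stabilizer Γ D.b := by
      have := D.conj_mem_H w.2
      rwa [D.s_inv] at this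
    rw [hfdef, D.N_mul _ h5 _ (Subgroup.inv_mem _ w.2), D.N_inv_conj w.2, inv_mem_iff]
  have hsf : ∀ w, D.s * f w = (w : Γ) * D.s * (w : Γ)⁻¹ := by
    intro w
    rw [hfdef]
    calc D.s * (D.s * w * D.s * (w : Γ)⁻¹) = (D.s * D.s) * w * D.s * (w : Γ)⁻¹ := by group
      _ = (w : Γ) * D.s * (w : Γ)⁻¹ := by rw [D.s_mul_s, one_mul]
  have hffix : ∀ w : ↥(stabilizer Γ D.a ⊓ stabilizer Γ D.b),
      (D.s * f w) • ((w : Γ) • D.c) = (w : Γ) • D.c := by
    intro w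
    rw [hsf, mul_smul, mul_smul, inv_smul_smul, D.hsc]
  have hC : ∀ w w' : ↥(stabilizer Γ D.a ⊓ stabilizer Γ D.b), f w = f w' →
      D.s * ((w : Γ)⁻¹ * w') * D.s = (w : Γ)⁻¹ * w' := by
    intro w w' hww
    have e1 : (w : Γ) * D.s * (w : Γ)⁻¹ = w' * D.s * (w' : Γ)⁻¹ := by
      rw [← hsf, ← hsf, hww]
    have e2 : D.s * ((w : Γ)⁻¹ * w') = ((w : Γ)⁻¹ * w') * D.s := by
      calc D.s * ((w : Γ)⁻¹ * w') = (w : Γ)⁻¹ * ((w : Γ) * D.s * (w : Γ)⁻¹) * w' := by group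
        _ = (w : Γ)⁻¹ * (w' * D.s * (w' : Γ)⁻¹) * w' := by rw [e1]
        _ = ((w : Γ)⁻¹ * w') * D.s := by group
    rw [e2, mul_assoc, D.s_mul_s, mul_one]
  have hfixpt : ∀ v : Γ, D.s * v * D.s = v → D.s • (v • D.c) = v • D.c := by
    intro v hsv
    have h1 : D.s * v = v * D.s := by
      calc D.s * v = (D.s * v * D.s) * D.s := by rw [mul_assoc (D.s * v), D.s_mul_s, mul_one]
        _ = v * D.s := by rw [hsv]
    rw [← mul_smul, h1, mul_smul, D.hsc]
  have hfiber : ∀ g ∈ (Finset.univ : Finset ↥(stabilizer Γ D.a ⊓ stabilizer Γ D.b)).image f,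
      ((Finset.univ : Finset ↥(stabilizer Γ D.a ⊓ stabilizer Γ D.b)).filter
        fun w => f w = g).card ≤ 2 := by
    intro g _
    by_contra hgt
    push Not at hgt
    obtain ⟨w₁, w₂, w₃, h₁, h₂, h₃, h12, h13, h23⟩ := Finset.two_lt_card_iff.mp hgt
    simp only [Finset.mem_filter, Finset.mem_univ, true_and] at h₁ h₂ h₃
    have hv₂ : (w₁ : Γ)⁻¹ * w₂ ∈ stabilizer Γ D.a ⊓ stabilizer Γ D.b :=
      Subgroup.mul_mem _ (Subgroup.inv_mem _ w₁.2) w₂.2
    have hv₃ : (w₁ : Γ)⁻¹ * w₃ ∈ stabilizer Γ D.a ⊓ stabilizer Γ D.b :=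
      Subgroup.mul_mem _ (Subgroup.inv_mem _ w₁.2) w₃.2
    have f2 := hfixpt _ (hC w₁ w₂ (h₁.trans h₂.symm))
    have f3 := hfixpt _ (hC w₁ w₃ (h₁.trans h₃.symm))
    have d1 : D.c ≠ ((w₁ : Γ)⁻¹ * w₂) • D.c := by
      intro h0
      have := D.eq_one_of_fix hv₂ D.hac.symm D.hbc.symm h0.symm
      apply h12
      apply Subtype.ext
      exact (inv_mul_eq_one.mp this)
    have d2 : D.c ≠ ((w₁ : Γ)⁻¹ * w₃) • D.c := by
      intro h0
      have := D.eq_one_of_fix hv₃ D.hac.symm D.hbc.symm h0.symm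
      apply h13
      apply Subtype.ext
      exact (inv_mul_eq_one.mp this)
    have d3 : ((w₁ : Γ)⁻¹ * w₂) • D.c ≠ ((w₁ : Γ)⁻¹ * w₃) • D.c := by
      intro h0
      have h4 : ((w₃ : Γ)⁻¹ * w₂) • D.c = D.c := by
        have : (w₃ : Γ)⁻¹ * w₂ = ((w₁ : Γ)⁻¹ * w₃)⁻¹ * ((w₁ : Γ)⁻¹ * w₂) := by group
        rw [this, mul_smul, h0, inv_smul_smul]
      have := D.eq_one_of_fix (Subgroup.mul_mem _ (Subgroup.inv_mem _ w₃.2) w₂.2) D.hac.symm
        D.hbc.symm h4
      apply h23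
      apply Subtype.ext
      exact (inv_mul_eq_one.mp this).symm
    exact D.s_ne_one (D.sharp D.s _ _ _ d1 d2 d3 D.hsc f2 f3)
  have hcard := Finset.card_le_mul_card_image
    (Finset.univ : Finset ↥(stabilizer Γ D.a ⊓ stabilizer Γ D.b)) 2 hfiber
  have hSN : (Finset.univ : Finset ↥(stabilizer Γ D.a ⊓ stabilizer Γ D.b)).image f ⊆
      (Finset.univ : Finset Γ).filter (· ∈ D.N) := by
    intro g hg
    obtain ⟨w, -, rfl⟩ := Finset.mem_image.mp hg
    rw [Finset.mem_filter]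
    exact ⟨Finset.mem_univ _, hfN w⟩
  have hNcard : ((Finset.univ : Finset Γ).filter (· ∈ D.N)).card = Nat.card D.N := by
    rw [Nat.card_eq_fintype_card, Fintype.card_subtype]
  have hHcard : (Finset.univ : Finset ↥(stabilizer Γ D.a ⊓ stabilizer Γ D.b)).card =
      Nat.card ↥(stabilizer Γ D.a ⊓ stabilizer Γ D.b) := by
    rw [Finset.card_univ, Nat.card_eq_fintype_card]
  have hle : ((Finset.univ : Finset Γ).filter (· ∈ D.N)).card ≤
      ((Finset.univ : Finset ↥(stabilizer Γ D.a ⊓ stabilizer Γ D.b)).image f).card := by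
    have := D.N_card
    omega
  have hSeq := Finset.eq_of_subset_of_card_le hSN hle
  have hmem : h ∈ (Finset.univ : Finset ↥(stabilizer Γ D.a ⊓ stabilizer Γ D.b)).image f := by
    rw [hSeq, Finset.mem_filter]
    exact ⟨Finset.mem_univ _, hh⟩
  obtain ⟨w, -, hw⟩ := Finset.mem_image.mp hmem
  exact ⟨(w : Γ) • D.c, by rw [← hw]; exact hffix w⟩

/-- the setwise stabiliser of `{a, b}` -/
def M : Subgroup Γ where
  carrier := {g | (g • D.a = D.a ∧ g • D.b = D.b) ∨ (g • D.a = D.b ∧ g • D.b = D.a)}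
  one_mem' := Or.inl ⟨one_smul _ _, one_smul _ _⟩
  mul_mem' := by
    rintro g g' (⟨h1, h2⟩ | ⟨h1, h2⟩) (⟨h1', h2'⟩ | ⟨h1', h2'⟩)
    · left; exact ⟨by rw [mul_smul, h1', h1], by rw [mul_smul, h2', h2]⟩
    · right; exact ⟨by rw [mul_smul, h1', h2], by rw [mul_smul, h2', h1]⟩
    · right; exact ⟨by rw [mul_smul, h1', h1], by rw [mul_smul, h2', h2]⟩
    · left; exact ⟨by rw [mul_smul, h1', h2], by rw [mul_smul, h2', h1]⟩
  inv_mem' := by
    rintro g (⟨h1, h2⟩ | ⟨h1, h2⟩)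
    · left; exact ⟨by rw [inv_smul_eq_iff, h1], by rw [inv_smul_eq_iff, h2]⟩
    · right; exact ⟨by rw [inv_smul_eq_iff, h2], by rw [inv_smul_eq_iff, h1]⟩

theorem mem_M (g : Γ) : g ∈ D.M ↔
    (g • D.a = D.a ∧ g • D.b = D.b) ∨ (g • D.a = D.b ∧ g • D.b = D.a) := Iff.rfl

/-- the subgroup `N ∪ sN` of index two of `M` -/
def M₀ : Subgroup Γ where
  carrier := {g | g ∈ D.N ∨ D.s * g ∈ D.N}
  one_mem' := Or.inl D.N.one_mem
  mul_mem' := by
    rintro g g' (h | h) (h' | h')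
    · left; exact D.N.mul_mem h h'
    · right
      have e : D.s * (g * g') = (D.s * g * D.s) * (D.s * g') := by
        calc D.s * (g * g') = D.s * g * (D.s * D.s) * g' := by rw [D.s_mul_s]; group
          _ = (D.s * g * D.s) * (D.s * g') := by group
      change D.s * (g * g') ∈ D.N
      rw [e]
      exact D.N.mul_mem ((D.N_inv_conj (D.N_le h)).2 h) h'
    · right
      have e : D.s * (g * g') = (D.s * g) * g' := by group
      change D.s * (g * g') ∈ D.N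
      rw [e]
      exact D.N.mul_mem h h'
    · left
      have e : g * g' = (D.s * (D.s * g) * D.s) * (D.s * g') := by
        calc g * g' = (D.s * D.s) * g * (D.s * D.s) * g' := by rw [D.s_mul_s]; group
          _ = (D.s * (D.s * g) * D.s) * (D.s * g') := by group
      change g * g' ∈ D.N
      rw [e]
      exact D.N.mul_mem ((D.N_inv_conj (D.N_le h)).2 h) h'
  inv_mem' := by
    rintro g (h | h)
    · left; exact D.N.inv_mem h
    · right
      have e : D.s * g⁻¹ = D.s * (D.s * g)⁻¹ * D.s := by group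
      change D.s * g⁻¹ ∈ D.N
      rw [e]
      exact (D.N_inv_conj (D.N_le (D.N.inv_mem h))).2 (D.N.inv_mem h)

theorem mem_M₀ (g : Γ) : g ∈ D.M₀ ↔ g ∈ D.N ∨ D.s * g ∈ D.N := Iff.rfl

theorem mem_M₀_of_H {h : Γ} (hh : h ∈ stabilizer Γ D.a ⊓ stabilizer Γ D.b) :
    h ∈ D.M₀ ↔ h ∈ D.N := by
  constructor
  · rintro (h1 | h1)
    · exact h1
    · exfalso
      have h2 := ((D.mem_H _).1 (D.N_le h1)).1
      rw [mul_smul, ((D.mem_H h).1 hh).1, D.hsa] at h2
      exact D.hab h2.symm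
  · exact Or.inl

theorem mem_M₀_of_swap {g : Γ} (hga : g • D.a = D.b) :
    g ∈ D.M₀ ↔ D.s * g ∈ D.N := by
  constructor
  · rintro (h1 | h1)
    · exfalso
      have h2 := ((D.mem_H _).1 (D.N_le h1)).1
      rw [hga] at h2
      exact D.hab h2.symm
    · exact h1
  · exact Or.inr

theorem H_le_M {h : Γ} (hh : h ∈ stabilizer Γ D.a ⊓ stabilizer Γ D.b) : h ∈ D.M :=
  Or.inl ((D.mem_H h).1 hh)

theorem mul_mem_M₀_iff {x y : Γ} (hx : x ∈ D.M) (hy : y ∈ D.M) :
    x * y ∈ D.M₀ ↔ (x ∈ D.M₀ ↔ y ∈ D.M₀) := by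
  rcases hx with ⟨x1, x2⟩ | ⟨x1, x2⟩ <;> rcases hy with ⟨y1, y2⟩ | ⟨y1, y2⟩
  · have hxH := (D.mem_H x).2 ⟨x1, x2⟩
    have hyH := (D.mem_H y).2 ⟨y1, y2⟩
    rw [D.mem_M₀_of_H (Subgroup.mul_mem _ hxH hyH), D.mem_M₀_of_H hxH, D.mem_M₀_of_H hyH]
    exact D.N_mul x hxH y hyH
  · have hxH := (D.mem_H x).2 ⟨x1, x2⟩
    have hsy := D.swap_mem_H y1 y2
    have hxya : (x * y) • D.a = D.b := by rw [mul_smul, y1, x2]
    have hsxs : D.s * x * D.s ∈ stabilizer Γ D.a ⊓ stabilizer Γ D.b := by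
      have := D.conj_mem_H hxH
      rwa [D.s_inv] at this
    have e : D.s * (x * y) = (D.s * x * D.s) * (D.s * y) := by
      calc D.s * (x * y) = D.s * x * (D.s * D.s) * y := by rw [D.s_mul_s]; group
        _ = (D.s * x * D.s) * (D.s * y) := by group
    rw [D.mem_M₀_of_swap hxya, D.mem_M₀_of_H hxH, D.mem_M₀_of_swap y1, e, D.N_mul _ hsxs _ hsy,
      D.N_inv_conj hxH]
  · have hyH := (D.mem_H y).2 ⟨y1, y2⟩
    have hsx := D.swap_mem_H x1 x2
    have hxya : (x * y) • D.a = D.b := by rw [mul_smul, y1, x1]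
    have e : D.s * (x * y) = (D.s * x) * y := by group
    rw [D.mem_M₀_of_swap hxya, D.mem_M₀_of_swap x1, D.mem_M₀_of_H hyH, e, D.N_mul _ hsx _ hyH]
  · have hsx := D.swap_mem_H x1 x2
    have hsy := D.swap_mem_H y1 y2
    have hxyH : x * y ∈ stabilizer Γ D.a ⊓ stabilizer Γ D.b := by
      rw [D.mem_H]
      exact ⟨by rw [mul_smul, y1, x2], by rw [mul_smul, y2, x1]⟩
    have hssxs : D.s * (D.s * x) * D.s ∈ stabilizer Γ D.a ⊓ stabilizer Γ D.b := by
      have := D.conj_mem_H hsx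
      rwa [D.s_inv] at this
    have e : x * y = (D.s * (D.s * x) * D.s) * (D.s * y) := by
      calc x * y = (D.s * D.s) * x * (D.s * D.s) * y := by rw [D.s_mul_s]; group
        _ = (D.s * (D.s * x) * D.s) * (D.s * y) := by group
    rw [D.mem_M₀_of_H hxyH, D.mem_M₀_of_swap x1, D.mem_M₀_of_swap y1]
    conv_lhs => rw [e]
    rw [D.N_mul _ hssxs _ hsy, D.N_inv_conj hsx]

theorem sq_mem_M₀ {x : Γ} (hx : x ∈ D.M) : x * x ∈ D.M₀ :=
  (D.mul_mem_M₀_iff hx hx).2 Iff.rfl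

theorem pow_mem_M₀_iff {x : Γ} (hx : x ∈ D.M) {k : ℕ} (hk : Odd k) :
    x ^ k ∈ D.M₀ ↔ x ∈ D.M₀ := by
  obtain ⟨j, rfl⟩ := hk
  induction j with
  | zero => simp
  | succ j ih =>
    have e : x ^ (2 * (j + 1) + 1) = x ^ (2 * j + 1) * (x * x) := by
      rw [← pow_two, ← pow_add]
      congr 1
    have h2 := D.sq_mem_M₀ hx
    rw [e, D.mul_mem_M₀_iff (D.M.pow_mem hx _) (D.M.mul_mem hx hx), ih]
    exact ⟨fun h => h.2 h2, fun h => ⟨fun _ => h2, fun _ => h⟩⟩

theorem conj_mem_M₀_iff {u x : Γ} (hu : u ∈ D.M) (hx : x ∈ D.M) :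
    u * x * u⁻¹ ∈ D.M₀ ↔ x ∈ D.M₀ := by
  rw [D.mul_mem_M₀_iff (D.M.mul_mem hu hx) (D.M.inv_mem hu), D.mul_mem_M₀_iff hu hx, inv_mem_iff]
  by_cases hp : u ∈ D.M₀ <;> by_cases hq : x ∈ D.M₀ <;> simp [hp, hq]

/-- conjugating a non-identity element of `H` into `H` needs an element of `M` -/
theorem mem_M_of_conj {x u : Γ} (hxH : x ∈ stabilizer Γ D.a ⊓ stabilizer Γ D.b) (hx1 : x ≠ 1)
    (hx'H : u * x * u⁻¹ ∈ stabilizer Γ D.a ⊓ stabilizer Γ D.b) : u ∈ D.M := by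
  obtain ⟨x1, x2⟩ := (D.mem_H x).1 hxH
  obtain ⟨x1', x2'⟩ := (D.mem_H _).1 hx'H
  have hx'1 : u * x * u⁻¹ ≠ 1 := by
    intro h
    apply hx1
    have : x = u⁻¹ * (u * x * u⁻¹) * u := by group
    rw [this, h]
    group
  have hfa : (u * x * u⁻¹) • (u • D.a) = u • D.a := by
    rw [mul_smul, mul_smul, inv_smul_smul, x1]
  have hfb : (u * x * u⁻¹) • (u • D.b) = u • D.b := by
    rw [mul_smul, mul_smul, inv_smul_smul, x2]
  have hne : u • D.a ≠ u • D.b := fun h => D.hab (smul_left_cancel u h)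
  have hua : u • D.a = D.a ∨ u • D.a = D.b := by
    by_contra hcon
    push Not at hcon
    exact hx'1 (D.sharp _ D.a D.b (u • D.a) D.hab hcon.1.symm hcon.2.symm x1' x2' hfa)
  have hub : u • D.b = D.a ∨ u • D.b = D.b := by
    by_contra hcon
    push Not at hcon
    exact hx'1 (D.sharp _ D.a D.b (u • D.b) D.hab hcon.1.symm hcon.2.symm x1' x2' hfb)
  rw [D.mem_M]
  rcases hua with ha | ha <;> rcases hub with hb | hb
  · exact absurd (ha.trans hb.symm) hne
  · exact Or.inl ⟨ha, hb⟩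
  · exact Or.inr ⟨ha, hb⟩
  · exact absurd (ha.trans hb.symm) hne

/-- a non-identity element of `H` conjugate to an element interchanging `a` and `b` -/
theorem both_mem {x u : Γ} (hxH : x ∈ stabilizer Γ D.a ⊓ stabilizer Γ D.b) (hx1 : x ≠ 1)
    (ha' : (u * x * u⁻¹) • D.a = D.b) (hb' : (u * x * u⁻¹) • D.b = D.a) :
    x ∈ D.N ∧ D.s * (u * x * u⁻¹) ∈ D.N := by
  obtain ⟨x1, x2⟩ := (D.mem_H x).1 hxH
  have hfy : (u * x * u⁻¹) • (u • D.a) = u • D.a := by
    rw [mul_smul, mul_smul, inv_smul_smul, x1]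
  have hya : u • D.a ≠ D.a := by
    intro h
    rw [h, ha'] at hfy
    exact D.hab hfy.symm
  have hyb : u • D.a ≠ D.b := by
    intro h
    rw [h, hb'] at hfy
    exact D.hab hfy
  have hsx' := D.swap_mem_H ha' hb'
  have h2 : D.s * (u * x * u⁻¹) ∈ D.N :=
    D.N_of_fixed hsx' (y := u • D.a) (by rw [D.s_mul_s_mul]; exact hfy)
  refine ⟨?_, h2⟩
  have hsq : (u * x * u⁻¹) * (u * x * u⁻¹) = 1 :=
    D.sharp _ D.a D.b (u • D.a) D.hab hya.symm hyb.symm (by rw [mul_smul, ha', hb'])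
      (by rw [mul_smul, hb', ha']) (by rw [mul_smul, hfy, hfy])
  have hxx : x * x = 1 := by
    have : x * x = u⁻¹ * ((u * x * u⁻¹) * (u * x * u⁻¹)) * u := by group
    rw [this, hsq]
    group
  have := D.invol x hxH D.z (D.N_le D.hzN) hxx D.hzz hx1 D.hz1
  rw [this]
  exact D.hzN

theorem fusion_swap_imp [Finite Γ] {x u : Γ} (ha : x • D.a = D.b)
    (ha' : (u * x * u⁻¹) • D.a = D.b) (hb' : (u * x * u⁻¹) • D.b = D.a) (hx : x ∈ D.M₀) :
    u * x * u⁻¹ ∈ D.M₀ := by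
  rw [D.mem_M₀_of_swap ha] at hx
  rw [D.mem_M₀_of_swap ha']
  obtain ⟨y, hy⟩ := D.fixed_of_N hx
  rw [D.s_mul_s_mul] at hy
  apply D.N_of_fixed (D.swap_mem_H ha' hb') (y := u • y)
  rw [D.s_mul_s_mul, mul_smul, mul_smul, inv_smul_smul, hy]

/-- `M₀` is closed under fusion in `M` -/
theorem fusion [Finite Γ] {x u : Γ} (hx : x ∈ D.M) (hx' : u * x * u⁻¹ ∈ D.M) :
    x ∈ D.M₀ ↔ u * x * u⁻¹ ∈ D.M₀ := by
  by_cases hx1 : x = 1
  · rw [hx1]
    have : u * 1 * u⁻¹ = 1 := by group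
    rw [this]
  have hx'1 : u * x * u⁻¹ ≠ 1 := by
    intro h
    apply hx1
    have : x = u⁻¹ * (u * x * u⁻¹) * u := by group
    rw [this, h]
    group
  have hback : u⁻¹ * (u * x * u⁻¹) * u⁻¹⁻¹ = x := by group
  rcases hx with ⟨x1, x2⟩ | ⟨x1, x2⟩ <;> rcases hx' with ⟨y1, y2⟩ | ⟨y1, y2⟩
  · have hxH := (D.mem_H x).2 ⟨x1, x2⟩
    have hu := D.mem_M_of_conj hxH hx1 ((D.mem_H _).2 ⟨y1, y2⟩)
    exact (D.conj_mem_M₀_iff hu (D.H_le_M hxH)).symm
  · have hxH := (D.mem_H x).2 ⟨x1, x2⟩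
    obtain ⟨h1, h2⟩ := D.both_mem hxH hx1 y1 y2
    exact ⟨fun _ => Or.inr h2, fun _ => Or.inl h1⟩
  · have hx'H := (D.mem_H _).2 ⟨y1, y2⟩
    obtain ⟨h1, h2⟩ := D.both_mem (u := u⁻¹) hx'H hx'1 (by rw [hback]; exact x1)
      (by rw [hback]; exact x2)
    rw [hback] at h2
    exact ⟨fun _ => Or.inl h1, fun _ => Or.inr h2⟩
  · constructor
    · exact D.fusion_swap_imp x1 y1 y2
    · intro h
      have := D.fusion_swap_imp (u := u⁻¹) y1 (by rw [hback]; exact x1)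
        (by rw [hback]; exact x2) h
      rwa [hback] at this

open scoped commutatorElement in
theorem focal_le [Finite Γ] : Subgroup.focalSubgroup D.M ≤ D.M₀ := by
  rw [Subgroup.focalSubgroup_def, Subgroup.closure_le]
  rintro g ⟨hgM, x, hxM, u, rfl⟩
  have hx' : u * x * u⁻¹ ∈ D.M := by
    have e : u * x * u⁻¹ = (x⁻¹ * ⁅x, u⁆)⁻¹ := by
      rw [commutatorElement_def]
      group
    rw [e]
    exact D.M.inv_mem (D.M.mul_mem (D.M.inv_mem hxM) hgM)
  have e : ⁅x, u⁆ = x * (u * x * u⁻¹)⁻¹ := by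
    rw [commutatorElement_def]
    group
  change ⁅x, u⁆ ∈ D.M₀
  rw [e, D.mul_mem_M₀_iff hxM (D.M.inv_mem hx'), inv_mem_iff]
  exact D.fusion hxM hx'

open scoped IsMulCommutative in
/-- the transfer into `M` is non-trivial when the index of `M` is odd -/
theorem not_perfect [Finite Γ] (hodd : Odd D.M.index) : commutator Γ ≠ ⊤ := by
  intro htop
  obtain ⟨h₀, hh₀H, hh₀N⟩ := D.N_ne
  have hh₀M : h₀ ∈ D.M := D.H_le_M hh₀H
  have hh₀ : h₀ ∉ D.M₀ := fun h => hh₀N ((D.mem_M₀_of_H hh₀H).1 h)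
  have hker : commutator Γ ≤ (D.M.transferFocal).ker :=
    Abelianization.commutator_subset_ker _
  rw [htop] at hker
  have h1 : D.M.transferFocal h₀ = 1 := hker (Subgroup.mem_top h₀)
  have h2 := D.M.transferFocal_eq_pow ⟨h₀, hh₀M⟩
  rw [h1] at h2
  have h3 : (⟨h₀, hh₀M⟩ : D.M) ^ D.M.index ∈ D.M.focalSubgroupOf := by
    rw [← QuotientGroup.eq_one_iff, QuotientGroup.mk_pow]
    exact h2.symm
  have h4 : h₀ ^ D.M.index ∈ D.M₀ := by
    apply D.focal_le
    rw [Subgroup.focalSubgroupOf_def, Subgroup.mem_subgroupOf] at h3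
    simpa using h3
  exact hh₀ ((D.pow_mem_M₀_iff hh₀M hodd).1 h4)

/-- the index of `M` -/
theorem index_M [Fintype α] [Finite Γ]
    (hcardΓ : Nat.card Γ = Fintype.card α * (Fintype.card α - 1) * (Fintype.card α - 2))
    (hcardH : Nat.card ↥(stabilizer Γ D.a ⊓ stabilizer Γ D.b) + 2 = Fintype.card α) :
    2 * D.M.index = Fintype.card α * (Fintype.card α - 1) := by
  have hle : stabilizer Γ D.a ⊓ stabilizer Γ D.b ≤ D.M := fun h hh => D.H_le_M hh
  have hsM : D.s ∈ D.M := Or.inr ⟨D.hsa, D.hsb⟩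
  have hrel : (stabilizer Γ D.a ⊓ stabilizer Γ D.b).relIndex D.M = 2 := by
    rw [Subgroup.relIndex, Subgroup.index_eq_two_iff]
    refine ⟨⟨D.s, hsM⟩, fun g => ?_⟩
    rw [Subgroup.mem_subgroupOf, Subgroup.mem_subgroupOf]
    rcases g.2 with ⟨g1, g2⟩ | ⟨g1, g2⟩
    · right
      refine ⟨(D.mem_H _).2 ⟨g1, g2⟩, fun h => ?_⟩
      have h5 := ((D.mem_H _).1 h).1
      change ((g : Γ) * D.s) • D.a = D.a at h5
      rw [mul_smul, D.hsa, g2] at h5
      exact D.hab h5.symm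
    · left
      refine ⟨?_, fun h => ?_⟩
      · change (g : Γ) * D.s ∈ _
        rw [D.mem_H]
        exact ⟨by rw [mul_smul, D.hsa, g2], by rw [mul_smul, D.hsb, g1]⟩
      · have h5 := ((D.mem_H _).1 h).1
        rw [g1] at h5
        exact D.hab h5.symm
  have h1 := Subgroup.relIndex_mul_index hle
  rw [hrel] at h1
  have h2 := Subgroup.card_mul_index (stabilizer Γ D.a ⊓ stabilizer Γ D.b)
  rw [hcardΓ, ← h1] at h2
  have hk : Fintype.card α - 2 = Nat.card ↥(stabilizer Γ D.a ⊓ stabilizer Γ D.b) := by omega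
  rw [hk] at h2
  have hpos : 0 < Nat.card ↥(stabilizer Γ D.a ⊓ stabilizer Γ D.b) := Nat.card_pos
  apply Nat.eq_of_mul_eq_mul_left hpos
  rw [h2]
  ring

end Data

/-- a sharply triply transitive group of even degree at least four is not perfect -/
theorem commutator_ne_top [Fintype α] [DecidableEq α] [Finite Γ]
    (h3 : IsMultiplyPretransitive Γ α 3) (hs : Sharp3 Γ α) (heven : Even (Fintype.card α))
    (h4 : 4 ≤ Fintype.card α) : commutator Γ ≠ ⊤ := by
  classical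
  by_cases h4d : 4 ∣ Fintype.card α
  · exact commutator_ne_top_of_four_dvd h3 hs h4d h4
  obtain ⟨k, hk⟩ := heven
  have h6 : 6 ≤ Fintype.card α := by
    by_contra hlt
    apply h4d
    exact ⟨1, by omega⟩
  obtain ⟨a, b, c, hab, hac, hbc⟩ := Fintype.two_lt_card_iff.mp (by omega : 2 < Fintype.card α)
  have hE := exists_smul_triple h3
  obtain ⟨s, hsa, hsb, hsc⟩ := hE a b c b a c hab hac hbc hab.symm hbc hac
  obtain ⟨N, hNle, hNmul, hNconj, hNne, hNcard⟩ :=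
    exists_N h3 hs ⟨k, hk⟩ h6 hab hac hbc hsa hsb hsc
  obtain ⟨hcardH, hinvol⟩ := two_point_facts h3 hs h4 hab
  -- an involution of `N`
  have h2N : 2 ∣ Nat.card N := by
    have hkodd : ¬ 2 ∣ k := by
      intro h
      apply h4d
      obtain ⟨j, hj⟩ := h
      exact ⟨j, by omega⟩
    omega
  have : Fact (Nat.Prime 2) := ⟨Nat.prime_two⟩
  obtain ⟨z', hz'⟩ := exists_prime_orderOf_dvd_card' 2 h2N
  have hz'1 : z' ≠ 1 := by
    intro h
    rw [h, orderOf_one] at hz'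
    omega
  have hz'z' : z' * z' = 1 := by
    rw [← pow_two, ← hz', pow_orderOf_eq_one]
  let D : Data Γ α :=
    { a := a
      b := b
      c := c
      s := s
      N := N
      z := (z' : Γ)
      hab := hab
      hac := hac
      hbc := hbc
      hsa := hsa
      hsb := hsb
      hsc := hsc
      sharp := hs
      hE := hE
      N_le := hNle
      N_mul := hNmul
      N_conj := hNconj
      N_ne := hNne
      N_card := hNcard
      invol := fun x hx y hy hxx hyy hx1 hy1 => by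
        have := hinvol ⟨x, hx⟩ ⟨y, hy⟩ (Subtype.ext hxx) (Subtype.ext hyy)
          (fun h => hx1 (congrArg Subtype.val h)) (fun h => hy1 (congrArg Subtype.val h))
        exact congrArg Subtype.val this
      hzN := z'.2
      hz1 := fun h => hz'1 (Subtype.ext h)
      hzz := congrArg Subtype.val hz'z' }
  have hidx := D.index_M (card_group h3 hs (by omega)) hcardH
  apply D.not_perfect
  -- `card α = 4 j + 2`
  have hkodd : Odd k := by
    rw [← Nat.not_even_iff_odd]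
    rintro ⟨j, hj⟩
    apply h4d
    exact ⟨j, by omega⟩
  obtain ⟨j, hj⟩ := hkodd
  have hcard : Fintype.card α = 4 * j + 2 := by omega
  rw [hcard] at hidx
  have h5 : D.M.index = (2 * j + 1) * (4 * j + 1) := by
    have h6 : 2 * D.M.index = 2 * ((2 * j + 1) * (4 * j + 1)) := by
      rw [hidx]
      have : 4 * j + 2 - 1 = 4 * j + 1 := by omega
      rw [this]
      ring
    omega
  rw [h5]
  exact Nat.odd_mul.mpr ⟨⟨j, rfl⟩, ⟨2 * j, by ring⟩⟩

end Cfsg.Agent.Lib.Helper95_Sharp3NS
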