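import Mathlib

set_option autoImplicit false

namespace Cfsg.Agent.Lib.Helper95_Singer

variable {F K : Type*} [Field F] [Field K] [Algebra F K]

/-- The Singer group: multiplications by non-zero elements of `K`, inside `GL_F(K)`. -/
def singer (F K : Type*) [Field F] [Field K] [Algebra F K] : Subgroup (Module.End F K)ˣ :=
  (Units.map ((Algebra.lmul F K : K →ₐ[F] Module.End F K) : K →* Module.End F K)).range

theorem lmul_apply (x y : K) : Algebra.lmul F K x y = x * y := rfl

theorem lmul_injective : Function.Injective (Algebra.lmul F K : K → Module.End F K) := by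
  intro x y h
  have := congrArg (fun f : Module.End F K => f 1) h
  simpa [lmul_apply] using this

theorem coe_unitsMap_lmul (u : Kˣ) :
    ((Units.map ((Algebra.lmul F K : K →ₐ[F] Module.End F K) : K →* Module.End F K) u : (Module.End F K)ˣ) :
      Module.End F K) = Algebra.lmul F K (u : K) := rfl

theorem mem_singer_iff (s : (Module.End F K)ˣ) :
    s ∈ singer F K ↔ ∃ u : Kˣ, (s : Module.End F K) = Algebra.lmul F K (u : K) := by
  constructor
  · rintro ⟨u, rfl⟩
    exact ⟨u, rfl⟩
  · rintro ⟨u, hu⟩
    exact ⟨u, Units.ext hu.symm⟩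

theorem unitsMap_lmul_injective :
    Function.Injective (Units.map ((Algebra.lmul F K : K →ₐ[F] Module.End F K) : K →* Module.End F K)) := by
  intro u v h
  apply Units.ext
  apply lmul_injective (F := F)
  have := congrArg (fun s : (Module.End F K)ˣ => (s : Module.End F K)) h
  exact this

/-- The elements `x` of `K` such that multiplication by `x` is `g`-conjugate to a multiplication. -/
def conjField (g : (Module.End F K)ˣ) : IntermediateField F K where
  carrier := {x | ∃ y : K, Algebra.lmul F K x * (g : Module.End F K) = (g : Module.End F K) * Algebra.lmul F K y}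
  mul_mem' := by
    rintro a b ⟨y, hy⟩ ⟨z, hz⟩
    refine ⟨y * z, ?_⟩
    rw [map_mul, map_mul, mul_assoc, hz, ← mul_assoc, hy, mul_assoc]
  one_mem' := ⟨1, by rw [map_one, one_mul, mul_one]⟩
  add_mem' := by
    rintro a b ⟨y, hy⟩ ⟨z, hz⟩
    refine ⟨y + z, ?_⟩
    rw [map_add, map_add, add_mul, mul_add, hy, hz]
  zero_mem' := ⟨0, by rw [map_zero, zero_mul, mul_zero]⟩
  algebraMap_mem' := by
    intro r
    refine ⟨algebraMap F K r, ?_⟩
    rw [AlgHom.commutes]
    exact Algebra.commutes r _
  inv_mem' := by
    rintro x ⟨y, hy⟩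
    by_cases hx : x = 0
    · subst hx
      exact ⟨0, by rw [inv_zero, map_zero, zero_mul, mul_zero]⟩
    · have hy0 : y ≠ 0 := by
        rintro rfl
        rw [map_zero, mul_zero] at hy
        have h2 : Algebra.lmul F K x = 0 := by
          have := congrArg (fun f : Module.End F K => f * ((g⁻¹ : (Module.End F K)ˣ) : Module.End F K)) hy
          simpa [mul_assoc] using this
        apply hx
        apply lmul_injective (F := F)
        rw [h2, map_zero]
      refine ⟨y⁻¹, ?_⟩
      have e1 : Algebra.lmul F K x⁻¹ * Algebra.lmul F K x = 1 := by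
        rw [← map_mul, inv_mul_cancel₀ hx, map_one]
      have e2 : Algebra.lmul F K y * Algebra.lmul F K y⁻¹ = 1 := by
        rw [← map_mul, mul_inv_cancel₀ hy0, map_one]
      calc Algebra.lmul F K x⁻¹ * (g : Module.End F K)
          = Algebra.lmul F K x⁻¹ * ((g : Module.End F K) * (Algebra.lmul F K y * Algebra.lmul F K y⁻¹)) := by
            rw [e2, mul_one]
        _ = Algebra.lmul F K x⁻¹ * ((Algebra.lmul F K x * (g : Module.End F K)) * Algebra.lmul F K y⁻¹) := by
            rw [hy, mul_assoc]
        _ = (Algebra.lmul F K x⁻¹ * Algebra.lmul F K x) * (g : Module.End F K) * Algebra.lmul F K y⁻¹ := by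
            simp only [mul_assoc]
        _ = (g : Module.End F K) * Algebra.lmul F K y⁻¹ := by rw [e1, one_mul]

theorem mem_conjField_iff (g : (Module.End F K)ˣ) (x : K) :
    x ∈ conjField g ↔ ∃ y : K, Algebra.lmul F K x * (g : Module.End F K) = (g : Module.End F K) * Algebra.lmul F K y :=
  Iff.rfl

/-- If `lmul x * g = g * lmul y` with `x ≠ 0` then `y ≠ 0`. -/
theorem ne_zero_of_conj (g : (Module.End F K)ˣ) {x y : K} (hx : x ≠ 0)
    (hy : Algebra.lmul F K x * (g : Module.End F K) = (g : Module.End F K) * Algebra.lmul F K y) : y ≠ 0 := by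
  rintro rfl
  rw [map_zero, mul_zero] at hy
  have h2 : Algebra.lmul F K x = 0 := by
    have := congrArg (fun f : Module.End F K => f * ((g⁻¹ : (Module.End F K)ˣ) : Module.End F K)) hy
    simpa [mul_assoc] using this
  apply hx
  apply lmul_injective (F := F)
  rw [h2, map_zero]

/-- The intersection of the Singer group with its `g`-conjugate consists of multiplications by elements of
`conjField g`. -/
theorem inf_le_range (g : (Module.End F K)ˣ) :
    (singer F K).map (MulAut.conj g).toMonoidHom ⊓ singer F K ≤
      ((Units.map ((Algebra.lmul F K : K →ₐ[F] Module.End F K) : K →* Module.End F K)).comp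
        (Units.map ((conjField g).val : (conjField g) →* K))).range := by
  rintro s ⟨hs1, hs2⟩
  obtain ⟨t, ht, hts⟩ := hs1
  obtain ⟨v, rfl⟩ := ht
  obtain ⟨u, rfl⟩ := hs2
  -- lmul u = g * lmul v * g⁻¹
  have h1 : Algebra.lmul F K (u : K) * (g : Module.End F K) = (g : Module.End F K) * Algebra.lmul F K (v : K) := by
    have := congrArg (fun s : (Module.End F K)ˣ => (s : Module.End F K) * (g : Module.End F K)) hts
    simp only [MulEquiv.coe_toMonoidHom, MulAut.conj_apply, Units.val_mul, coe_unitsMap_lmul] at this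
    rw [← this, mul_assoc, ← Units.val_mul, inv_mul_cancel, Units.val_one, mul_one]
  have hu : (u : K) ∈ conjField g := ⟨(v : K), h1⟩
  have hu' : (u⁻¹ : Kˣ).val ∈ conjField g := by
    rw [Units.val_inv_eq_inv_val]
    exact (conjField g).inv_mem hu
  refine ⟨⟨⟨(u : K), hu⟩, ⟨(u⁻¹ : Kˣ).val, hu'⟩, ?_, ?_⟩, ?_⟩
  · apply Subtype.ext; simp
  · apply Subtype.ext; simp
  · apply Units.ext
    rfl

end Cfsg.Agent.Lib.Helper95_Singer
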