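import Mathlib

/-!
# Soft subgroups of finite p-groups (Héthelyi)

`E ≤ P` is *soft* if it is abelian, self-centralizing and of index `p` in its normalizer.
We prove that the overgroups of a soft subgroup form a chain, each proper one has index `p`
in its normalizer, and the `t`-th one has class `t + 1`.
-/

set_option autoImplicit false

namespace Cfsg.Agent.Helper95Soft

open Subgroup
open scoped commutatorElement

variable {P : Type*} [Group P]

/-! ### Basic index lemmas -/

/-- Lemma A: nothing lies strictly between `E` and `N` when `|N : E|` is prime. -/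
theorem eq_or_eq_of_relIndex_prime {p : ℕ} (hp : p.Prime) {E K N : Subgroup P}
    (hEK : E ≤ K) (hKN : K ≤ N) (h : E.relIndex N = p) : K = E ∨ K = N := by
  have h1 := relIndex_mul_relIndex E K N hEK hKN
  rw [h] at h1
  rcases (Nat.dvd_prime hp).mp (Dvd.intro _ h1) with h2 | h2
  · left; exact le_antisymm (relIndex_eq_one.mp h2) hEK
  · right
    rw [h2] at h1
    have h3 : K.relIndex N = 1 := by
      have hp0 := hp.pos
      nlinarith
    exact le_antisymm hKN (relIndex_eq_one.mp h3)

/-- conjugation by `g` as a monoid hom -/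
abbrev cj (g : P) : P →* P := (MulAut.conj g).toMonoidHom

theorem cj_apply (g x : P) : cj g x = g * x * g⁻¹ := rfl

theorem map_cj_eq_of_mem_normalizer {L : Subgroup P} {g : P}
    (hg : g ∈ normalizer (L : Set P)) : L.map (cj g) = L := by
  apply le_antisymm
  · rintro _ ⟨x, hx, rfl⟩
    exact (mem_normalizer_iff.mp hg x).mp hx
  · intro x hx
    refine ⟨g⁻¹ * x * g, ?_, ?_⟩
    · have := (mem_normalizer_iff.mp (inv_mem hg) x).mp hx
      simpa using this
    · simp [mul_assoc]

theorem mem_normalizer_of_map_cj_eq {L : Subgroup P} {g : P}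
    (h : L.map (cj g) = L) : g ∈ normalizer (L : Set P) := by
  rw [mem_normalizer_iff]
  intro x
  constructor
  · intro hx
    have : cj g x ∈ L.map (cj g) := mem_map_of_mem _ hx
    rw [h] at this
    exact this
  · intro hx
    rw [← h] at hx
    obtain ⟨y, hy, hyx⟩ := hx
    have : y = x := (MulAut.conj g).injective hyx
    exact this ▸ hy

/-! ### The lower central series of a subgroup, inside the ambient group -/

theorem normalizer_le_normalizer_lcs (K : Subgroup P) (t : ℕ) :
    normalizer (K : Set P) ≤ normalizer (K.lowerCentralSeries t : Set P) := by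
  intro g hg
  apply mem_normalizer_of_map_cj_eq
  rw [map_lowerCentralSeries, map_cj_eq_of_mem_normalizer hg]

theorem lcs_le (K : Subgroup P) (t : ℕ) : K.lowerCentralSeries t ≤ K := by
  have := K.lowerCentralSeries_antitone (Nat.zero_le t)
  simpa using this

theorem normalizer_le_normalizer_centralizer (H : Subgroup P) :
    normalizer (H : Set P) ≤ normalizer (centralizer (H : Set P) : Set P) :=
  (normal_subgroupOf_iff_le_normalizer (centralizer_le_normalizer (H : Set P))).mp
    (normal_subgroupOf_centralizer_normalizer (H : Set P))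

/-! ### Normalizers in p-groups -/

section PGroup

variable [Finite P] {p : ℕ} [hp : Fact p.Prime]

/-- Lemma B′: if `|N(L) : L| = p` then every subgroup properly containing `L` contains `N(L)`. -/
theorem normalizer_le_of_relIndex_prime (hP : IsPGroup p P) {L K : Subgroup P}
    (hidx : L.relIndex (normalizer (L : Set P)) = p) (hLK : L ≤ K) (hne : K ≠ L) :
    normalizer (L : Set P) ≤ K := by
  rcases eq_or_eq_of_relIndex_prime hp.out (le_inf hLK le_normalizer) inf_le_right hidx with h | h
  · exfalso
    have hnil : Group.IsNilpotent ↥K := (hP.to_subgroup K).isNilpotent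
    have hnc := Group.normalizerCondition_of_isNilpotent (G := ↥K)
    have hlt : L.subgroupOf K < ⊤ := lt_top_iff_ne_top.mpr (by
      rw [Ne, subgroupOf_eq_top]
      intro h'
      exact hne (le_antisymm h' hLK))
    have h2 := hnc _ hlt
    rw [← subgroupOf_normalizer_eq hLK, ← inf_subgroupOf_left (normalizer (L : Set P)) K, h] at h2
    exact lt_irrefl _ h2
  · rw [← h]; exact inf_le_left

/-- In a finite p-group a proper subgroup is properly contained in its normalizer. -/
theorem normalizer_ne_self (hP : IsPGroup p P) {K : Subgroup P} (hK : K ≠ ⊤) :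
    normalizer (K : Set P) ≠ K := by
  have hnil : Group.IsNilpotent P := hP.isNilpotent
  have := Group.normalizerCondition_of_isNilpotent (G := P) K (lt_top_iff_ne_top.mpr hK)
  exact (ne_of_lt this).symm

/-- Lemma C: (T2) for all proper overgroups implies the chain property. -/
theorem chain_of_T2 (hP : IsPGroup p P) {E : Subgroup P}
    (T2 : ∀ K : Subgroup P, E ≤ K → K ≠ ⊤ → K.relIndex (normalizer (K : Set P)) = p) :
    ∀ K L : Subgroup P, E ≤ K → E ≤ L → K ≤ L ∨ L ≤ K := by
  intro K L hK hL
  by_contra hcon
  rw [not_or] at hcon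
  obtain ⟨h1, h2⟩ := hcon
  have hMK : K ≠ K ⊓ L := fun h => h1 (inf_eq_left.mp h.symm)
  have hML : L ≠ K ⊓ L := fun h => h2 (inf_eq_right.mp h.symm)
  have hMtop : K ⊓ L ≠ ⊤ := by
    intro h
    apply h1
    have : K = ⊤ := top_le_iff.mp (h ▸ inf_le_left)
    rw [this] at h
    rw [top_inf_eq] at h
    rw [h]; exact le_top
  have hM := T2 (K ⊓ L) (le_inf hK hL) hMtop
  have a := normalizer_le_of_relIndex_prime hP hM inf_le_left hMK
  have b := normalizer_le_of_relIndex_prime hP hM inf_le_right hML
  exact normalizer_ne_self hP hMtop (le_antisymm (le_inf a b) le_normalizer)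

end PGroup

/-! ### Soft subgroups -/

/-- `E` is soft: abelian, self-centralizing, of index `p` in its normalizer. -/
structure Soft (p : ℕ) (E : Subgroup P) : Prop where
  comm : ∀ a ∈ E, ∀ b ∈ E, a * b = b * a
  cent : centralizer (E : Set P) ≤ E
  idx : E.relIndex (normalizer (E : Set P)) = p

section LemmaD

variable [Finite P] {p : ℕ} [hp : Fact p.Prime]

/-- for `k ∈ N₂ ∖ N₁`, `E ⊓ E^k` centralizes `N₁ = E E^k`. -/
theorem Soft.inf_map_cj_le {E : Subgroup P} (hE : Soft p E) {k : P}
    (hk : k ∈ normalizer (normalizer (E : Set P) : Set P)) (hk' : k ∉ normalizer (E : Set P)) :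
    E ⊓ E.map (cj k) ≤ centralizer (normalizer (E : Set P) : Set P) := by
  have hE' : E.map (cj k) ≤ normalizer (E : Set P) := by
    calc E.map (cj k) ≤ (normalizer (E : Set P)).map (cj k) := map_mono le_normalizer
      _ = normalizer (E : Set P) := map_cj_eq_of_mem_normalizer hk
  have hsup : E ⊔ E.map (cj k) = normalizer (E : Set P) := by
    rcases eq_or_eq_of_relIndex_prime hp.out (le_sup_left : E ≤ E ⊔ E.map (cj k))
      (sup_le le_normalizer hE') hE.idx with h | h
    · exfalso
      apply hk'
      apply mem_normalizer_fintype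
      intro n hn
      have h1 : cj k n ∈ E.map (cj k) := mem_map_of_mem _ hn
      have h2 : cj k n ∈ E ⊔ E.map (cj k) := (le_sup_right : E.map (cj k) ≤ _) h1
      rw [h] at h2
      exact h2
    · exact h
  intro x hx
  rw [mem_centralizer_iff]
  intro n hn
  have h1 : E ≤ centralizer ({x} : Set P) := by
    intro e he
    rw [mem_centralizer_iff]
    intro y hy
    rw [Set.mem_singleton_iff.mp hy]
    exact hE.comm x hx.1 e he
  have h2 : E.map (cj k) ≤ centralizer ({x} : Set P) := by
    rintro _ ⟨e, he, rfl⟩
    rw [mem_centralizer_iff]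
    intro y hy
    rw [Set.mem_singleton_iff.mp hy]
    obtain ⟨x', hx', hxx⟩ := hx.2
    rw [← hxx, ← map_mul, ← map_mul, hE.comm x' hx' e he]
  have h3 : n ∈ centralizer ({x} : Set P) := sup_le h1 h2 (hsup ▸ hn)
  exact (mem_centralizer_iff.mp h3 x rfl).symm

/-- Lemma D: the normalizer of a soft subgroup again has index `p` in its normalizer. -/
theorem Soft.relIndex_normalizer_normalizer (hP : IsPGroup p P) {E : Subgroup P} (hE : Soft p E)
    (hN : normalizer (E : Set P) ≠ ⊤) :
    (normalizer (E : Set P)).relIndex (normalizer (normalizer (E : Set P) : Set P)) = p := by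
  set N₁ := normalizer (E : Set P) with hN₁
  set N₂ := normalizer (N₁ : Set P) with hN₂
  set Z := centralizer (N₁ : Set P) with hZ
  have hEN : E ≤ N₁ := le_normalizer
  have hZE : Z ≤ E := (centralizer_le (show (E : Set P) ⊆ N₁ from hEN)).trans hE.cent
  have hZne : Z ≠ E := by
    intro h
    have h0 : E ≤ centralizer (N₁ : Set P) := h ▸ le_refl _
    have h1 : N₁ ≤ centralizer (E : Set P) := le_centralizer_iff.mp h0
    have h2 : N₁ ≤ E := h1.trans hE.cent
    have h3 := relIndex_eq_one.mpr h2
    rw [hE.idx] at h3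
    exact hp.out.one_lt.ne' h3
  have hN₂Z : N₂ ≤ normalizer (Z : Set P) := normalizer_le_normalizer_centralizer N₁
  have hmem : ∀ g : P, g ∈ N₂ → ∀ e ∈ (E : Set P) \ Z, g * e * g⁻¹ ∈ (N₁ : Set P) \ Z := by
    intro g hg e he
    refine ⟨(mem_normalizer_iff.mp hg e).mp (hEN he.1), fun h => he.2 ?_⟩
    exact (mem_normalizer_iff.mp (hN₂Z hg) e).mpr h
  have key : N₁.relIndex N₂ * ((E : Set P) \ Z).ncard ≤ ((N₁ : Set P) \ Z).ncard := by
    have hQ : Nat.card (↥N₂ ⧸ N₁.subgroupOf N₂) = N₁.relIndex N₂ := rfl
    rw [← hQ, ← Nat.card_coe_set_eq, ← Nat.card_coe_set_eq, ← Nat.card_prod]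
    let f : (↥N₂ ⧸ N₁.subgroupOf N₂) × ↥((E : Set P) \ Z) → ↥((N₁ : Set P) \ Z) := fun x =>
      ⟨(x.1.out : P) * x.2 * (x.1.out : P)⁻¹, hmem _ x.1.out.2 _ x.2.2⟩
    apply Nat.card_le_card_of_injective f
    rintro ⟨q, e⟩ ⟨q', e'⟩ hff
    have heq : (q.out : P) * e * (q.out : P)⁻¹ = (q'.out : P) * e' * (q'.out : P)⁻¹ :=
      Subtype.ext_iff.mp hff
    by_cases hq : q = q'
    · subst hq
      have : (e : P) = e' := mul_left_cancel (mul_right_cancel heq)
      exact Prod.ext rfl (Subtype.ext this)
    · exfalso
      have hk' : ((q.out : P)⁻¹ * (q'.out : P)) ∉ N₁ := by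
        intro hk
        apply hq
        rw [← q.out_eq', ← q'.out_eq', QuotientGroup.eq]
        exact hk
      have hk : ((q.out : P)⁻¹ * (q'.out : P)) ∈ N₂ := mul_mem (inv_mem q.out.2) q'.out.2
      have he : (e : P) ∈ E ⊓ E.map (cj ((q.out : P)⁻¹ * (q'.out : P))) := by
        refine ⟨e.2.1, (e' : P), e'.2.1, ?_⟩
        rw [cj_apply]
        have : (e : P) = (q.out : P)⁻¹ * ((q'.out : P) * e' * (q'.out : P)⁻¹) * (q.out : P) := by
          rw [← heq]; group
        rw [this]; group
      exact e.2.2 (hE.inf_map_cj_le hk hk' he)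
  -- arithmetic
  have hEfin : (Z : Set P).Finite := Set.toFinite _
  have hd1 : ((E : Set P) \ Z).ncard + Nat.card Z = Nat.card E := by
    have := Set.ncard_sdiff_add_ncard_of_subset (show (Z : Set P) ⊆ E from hZE) (Set.toFinite _)
    rw [← Nat.card_coe_set_eq (Z : Set P), ← Nat.card_coe_set_eq (E : Set P)] at this
    exact this
  have hd2 : ((N₁ : Set P) \ Z).ncard + Nat.card Z = Nat.card N₁ := by
    have := Set.ncard_sdiff_add_ncard_of_subset (show (Z : Set P) ⊆ N₁ from hZE.trans hEN)
      (Set.toFinite _)
    rw [← Nat.card_coe_set_eq (Z : Set P), ← Nat.card_coe_set_eq (N₁ : Set P)] at this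
    exact this
  have hN₁card : Nat.card N₁ = Nat.card E * p := by
    have := relIndex_mul_relIndex ⊥ E N₁ bot_le hEN
    rw [relIndex_bot_left, relIndex_bot_left, hE.idx] at this
    exact this.symm
  have hz2 : 2 * Nat.card Z ≤ Nat.card E := by
    obtain ⟨c, hc⟩ := Subgroup.card_dvd_of_le hZE
    have hc0 : c ≠ 0 := by
      rintro rfl
      have : Nat.card E ≠ 0 := Nat.card_pos.ne'
      omega
    have hc1 : c ≠ 1 := by
      rintro rfl
      apply hZne
      exact Subgroup.eq_of_le_of_card_ge hZE (by rw [hc, mul_one])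
    have : 2 ≤ c := by omega
    calc 2 * Nat.card Z = Nat.card Z * 2 := mul_comm _ _
      _ ≤ Nat.card Z * c := Nat.mul_le_mul_left _ this
      _ = Nat.card E := hc.symm
  have hzpos : 0 < Nat.card Z := Nat.card_pos
  -- m is a p-power, not 1
  have hne1 : N₁.relIndex N₂ ≠ 1 := by
    intro h
    have h1 : N₂ ≤ N₁ := relIndex_eq_one.mp h
    exact normalizer_ne_self hP hN (le_antisymm h1 le_normalizer)
  obtain ⟨k, hk⟩ := (hP.to_subgroup N₂).index (N₁.subgroupOf N₂)
  change N₁.relIndex N₂ = p ^ k at hk
  have hp2 := hp.out.two_le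
  rcases k with _ | _ | k
  · exact absurd (by simpa using hk) hne1
  · simpa using hk
  · exfalso
    have hm : p * p ≤ N₁.relIndex N₂ := by
      rw [hk, pow_succ, pow_succ, mul_assoc, mul_comm]
      exact Nat.le_mul_of_pos_left _ (pow_pos hp.out.pos _)
    set d := ((E : Set P) \ Z).ncard
    set D := ((N₁ : Set P) \ Z).ncard
    set z := Nat.card Z
    have h1 : p * p * d ≤ D := le_trans (Nat.mul_le_mul_right _ hm) key
    have h2 : D + z = (d + z) * p := by rw [hd2, hN₁card, ← hd1]
    have h3 : z ≤ d := by omega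
    nlinarith [Nat.mul_le_mul hp2 h3, Nat.mul_le_mul_left p (Nat.mul_le_mul hp2 h3)]

end LemmaD

/-! ### Class bounds from the chain property -/

section LemmaF

variable [Finite P] {p : ℕ} [hp : Fact p.Prime]

theorem mem_normalizer_sup {E B : Subgroup P} {x : P} (hB : x ∈ normalizer (B : Set P))
    (hE : ∀ e ∈ E, x * e * x⁻¹ ∈ E ⊔ B) : x ∈ normalizer ((E ⊔ B : Subgroup P) : Set P) := by
  apply mem_normalizer_fintype
  intro n hn
  have h : E ⊔ B ≤ (E ⊔ B).comap (cj x) :=
    sup_le (fun e he => hE e he)
      (fun b hb => (le_sup_right : B ≤ E ⊔ B) ((mem_normalizer_iff.mp hB b).mp hb))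
  exact h hn

omit [Finite P] in
theorem Soft.not_normalizer_le {E : Subgroup P} (hE : Soft p E) :
    ¬ normalizer (E : Set P) ≤ E := by
  intro h
  have h3 := relIndex_eq_one.mpr h
  rw [hE.idx] at h3
  exact hp.out.one_lt.ne' h3

omit [Finite P] in
theorem Soft.ne_bot {E : Subgroup P} (hE : Soft p E) : E ≠ ⊥ := by
  intro h
  apply hE.not_normalizer_le
  intro x _
  apply hE.cent
  rw [mem_centralizer_iff]
  intro y hy
  rw [h] at hy
  have : y = 1 := by simpa using hy
  rw [this, one_mul, mul_one]

/-- (L-c): if `γ_{t+1}(K) ≤ E` then `γ_{t+2}(K) = 1`, given the chain property. -/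
theorem lcs_succ_eq_bot_of_chain (hP : IsPGroup p P) {E : Subgroup P}
    (hcomm : ∀ a ∈ E, ∀ b ∈ E, a * b = b * a)
    (T1 : ∀ K L : Subgroup P, E ≤ K → E ≤ L → K ≤ L ∨ L ≤ K)
    (T2 : ∀ K : Subgroup P, E ≤ K → K ≠ ⊤ → K.relIndex (normalizer (K : Set P)) = p)
    {K : Subgroup P} (hEK : E ≤ K) (hK : K ≠ ⊤) {t : ℕ} (hA : K.lowerCentralSeries t ≤ E) :
    K.lowerCentralSeries (t + 1) = ⊥ := by
  have hEL : E ≤ centralizer (K.lowerCentralSeries t : Set P) := by
    intro e he
    rw [mem_centralizer_iff]
    intro a ha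
    exact hcomm a (hA ha) e he
  rw [Subgroup.lowerCentralSeries_succ, commutator_eq_bot_iff_le_centralizer, le_centralizer_iff]
  rcases T1 K _ hEK hEL with h | h
  · exact h
  · by_contra hKL
    have hLK : K ≠ centralizer (K.lowerCentralSeries t : Set P) := fun h' => hKL (h' ▸ le_refl _)
    have hLtop : centralizer (K.lowerCentralSeries t : Set P) ≠ ⊤ := fun h' => hKL (h' ▸ le_top)
    have hM : normalizer (K : Set P) ≤
        normalizer (centralizer (K.lowerCentralSeries t : Set P) : Set P) :=
      (normalizer_le_normalizer_lcs K t).trans (normalizer_le_normalizer_centralizer _)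
    have hLidx := T2 _ hEL hLtop
    have h1 := normalizer_le_of_relIndex_prime hP hLidx h hLK
    exact normalizer_ne_self hP hK (le_antisymm (hM.trans h1) le_normalizer)

/-- (L-d): the `t`-th overgroup has class at least `t + 1`. -/
theorem lcs_ne_bot_of_chain {E : Subgroup P} (hE : Soft p E)
    (T2 : ∀ K : Subgroup P, E ≤ K → K ≠ ⊤ → K.relIndex (normalizer (K : Set P)) = p)
    {K : Subgroup P} (hEK : E ≤ K) (hK : K ≠ ⊤) {t : ℕ} (hidx : E.relIndex K = p ^ t) :
    K.lowerCentralSeries t ≠ ⊥ := by
  intro hbot
  rcases t with _ | s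
  · rw [Subgroup.lowerCentralSeries_zero] at hbot
    exact hE.ne_bot (le_bot_iff.mp (hbot ▸ hEK))
  · have hnorm : ∀ k, E ⊔ K.lowerCentralSeries k ≤
        normalizer ((E ⊔ K.lowerCentralSeries (k + 1) : Subgroup P) : Set P) := by
      intro k
      apply sup_le
      · intro x hx
        apply mem_normalizer_sup (K.self_le_normalizer_lowerCentralSeries (k + 1) (hEK hx))
        intro e he
        exact (le_sup_left : E ≤ _) (mul_mem (mul_mem hx he) (inv_mem hx))
      · intro x hx
        apply mem_normalizer_sup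
          (K.self_le_normalizer_lowerCentralSeries (k + 1) (lcs_le K k hx))
        intro e he
        have h1 : ⁅x, e⁆ ∈ K.lowerCentralSeries (k + 1) :=
          commutator_mem_commutator hx (hEK he)
        have h2 : x * e * x⁻¹ = ⁅x, e⁆ * e := by
          simp [commutatorElement_def]
        rw [h2]
        exact mul_mem ((le_sup_right : K.lowerCentralSeries (k + 1) ≤ _) h1)
          ((le_sup_left : E ≤ _) he)
    have hdvd : ∀ k, E.relIndex K ∣ E.relIndex (E ⊔ K.lowerCentralSeries k) * p ^ k := by
      intro k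
      induction k with
      | zero =>
        rw [Subgroup.lowerCentralSeries_zero, sup_eq_right.mpr hEK, pow_zero, mul_one]
      | succ k ih =>
        have hle : E ⊔ K.lowerCentralSeries (k + 1) ≤ E ⊔ K.lowerCentralSeries k :=
          sup_le_sup_left (K.lowerCentralSeries_antitone (Nat.le_succ k)) E
        have hne : E ⊔ K.lowerCentralSeries (k + 1) ≠ ⊤ := by
          intro h
          apply hK
          exact top_le_iff.mp (h ▸ sup_le hEK (lcs_le K (k + 1)))
        have h1 := T2 _ (le_sup_left : E ≤ E ⊔ K.lowerCentralSeries (k + 1)) hne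
        have h2 := relIndex_mul_relIndex _ _ _ hle (hnorm k)
        rw [h1] at h2
        have h3 := relIndex_mul_relIndex E _ _
          (le_sup_left : E ≤ E ⊔ K.lowerCentralSeries (k + 1)) hle
        refine ih.trans ?_
        rw [← h3, pow_succ, mul_assoc]
        apply Nat.mul_dvd_mul_left
        rw [mul_comm]
        exact Nat.mul_dvd_mul_left _ (Dvd.intro _ h2)
    have hs : K.lowerCentralSeries s ≤ E := by
      rw [Subgroup.lowerCentralSeries_succ, commutator_eq_bot_iff_le_centralizer] at hbot
      exact (hbot.trans (centralizer_le hEK)).trans hE.cent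
    have h4 := hdvd s
    rw [sup_eq_left.mpr hs, relIndex_self, one_mul, hidx] at h4
    have := (Nat.pow_dvd_pow_iff_le_right hp.out.one_lt).mp h4
    omega

end LemmaF

/-! ### Passing to quotients -/

section Quot

variable {Q : Type*} [Group Q] (f : P →* Q)

theorem relIndex_map_of_ker_le {K : Subgroup P} (L : Subgroup P) (hK : f.ker ≤ K) :
    (K.map f).relIndex (L.map f) = K.relIndex L := by
  rw [← relIndex_comap, comap_map_eq_self hK]

theorem normalizer_map_of_ker_le (hf : Function.Surjective f) {K : Subgroup P} (hK : f.ker ≤ K) :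
    normalizer ((K.map f : Subgroup Q) : Set Q) = (normalizer (K : Set P)).map f := by
  have h := comap_normalizer_eq_of_surjective (K.map f) hf
  rw [comap_map_eq_self hK] at h
  rw [← h, map_comap_eq_self_of_surjective hf]

theorem relIndex_normalizer_map (hf : Function.Surjective f) {K : Subgroup P} (hK : f.ker ≤ K) :
    (K.map f).relIndex (normalizer ((K.map f : Subgroup Q) : Set Q)) =
      K.relIndex (normalizer (K : Set P)) := by
  rw [normalizer_map_of_ker_le f hf hK, relIndex_map_of_ker_le f _ hK]

theorem map_ne_top_of_ker_le {K : Subgroup P} (hK : f.ker ≤ K) (hne : K ≠ ⊤) : K.map f ≠ ⊤ := by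
  intro h
  apply hne
  rw [← comap_map_eq_self hK, h, comap_top]

end Quot

/-! ### The main induction -/

/-- The two inductive conclusions: (T2) every proper overgroup has index `p` in its normalizer,
and (H′) the `t`-th overgroup `K` has `γ_{t+1}(K) ≤ E`. -/
def Concl (p : ℕ) (E : Subgroup P) : Prop :=
  (∀ K : Subgroup P, E ≤ K → K ≠ ⊤ → K.relIndex (normalizer (K : Set P)) = p) ∧
  (∀ (t : ℕ) (K : Subgroup P), E ≤ K → K ≠ ⊤ → E.relIndex K = p ^ t →
    K.lowerCentralSeries t ≤ E)

theorem soft_main_aux (p : ℕ) [hp : Fact p.Prime] :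
    ∀ (n : ℕ) (P : Type*) [Group P] [Finite P], Nat.card P = n → IsPGroup p P →
      ∀ E : Subgroup P, Soft p E → Concl p E := by
  intro n
  induction n using Nat.strong_induction_on with
  | _ n IH =>
  intro P _ _ hn hP E hE
  have hEN : E ≤ normalizer (E : Set P) := le_normalizer
  have hdich : ∀ K : Subgroup P, E ≤ K → K = E ∨ normalizer (E : Set P) ≤ K := by
    intro K hEK
    by_cases h : K = E
    · exact Or.inl h
    · exact Or.inr (normalizer_le_of_relIndex_prime hP hE.idx hEK h)
  by_cases hN₁ : normalizer (E : Set P) = ⊤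
  · -- only `E` itself is a proper overgroup
    have hKE : ∀ K : Subgroup P, E ≤ K → K ≠ ⊤ → K = E := by
      intro K hEK hK
      rcases hdich K hEK with h | h
      · exact h
      · exact absurd (top_le_iff.mp (hN₁ ▸ h)) hK
    refine ⟨fun K hEK hK => ?_, fun t K hEK hK _ => ?_⟩
    · rw [hKE K hEK hK]; exact hE.idx
    · have := hKE K hEK hK
      subst this
      exact lcs_le _ t
  -- pass to the quotient by the centre
  have hnt : Nontrivial P := by
    by_contra h
    rw [not_nontrivial_iff_subsingleton] at h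
    exact hN₁ (Subsingleton.elim _ _)
  have hZE : center P ≤ E := (center_le_centralizer _).trans hE.cent
  have hsurj : Function.Surjective (QuotientGroup.mk' (center P)) :=
    QuotientGroup.mk'_surjective _
  have hker : (QuotientGroup.mk' (center P)).ker = center P := QuotientGroup.ker_mk' _
  have hkerE : (QuotientGroup.mk' (center P)).ker ≤ E := hker.le.trans hZE
  have hPQ : IsPGroup p (P ⧸ center P) := hP.to_quotient _
  have hlt : Nat.card (P ⧸ center P) < n := by
    have h1 := Subgroup.card_eq_card_quotient_mul_card_subgroup (center P)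
    have h2 : 1 < Nat.card (center P) := by
      have := hP.center_nontrivial
      exact Finite.one_lt_card
    have h3 : 0 < Nat.card (P ⧸ center P) := Nat.card_pos
    rw [← hn, h1]
    nlinarith
  have hĒcomm : ∀ a ∈ E.map (QuotientGroup.mk' (center P)),
      ∀ b ∈ E.map (QuotientGroup.mk' (center P)), a * b = b * a := by
    rintro _ ⟨a, ha, rfl⟩ _ ⟨b, hb, rfl⟩
    rw [← map_mul, ← map_mul, hE.comm a ha b hb]
  have hĒidx : (E.map (QuotientGroup.mk' (center P))).relIndex
      (normalizer ((E.map (QuotientGroup.mk' (center P)) : Subgroup (P ⧸ center P)) : Set (P ⧸ center P))) = p := by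
    rw [relIndex_normalizer_map _ hsurj hkerE]; exact hE.idx
  by_cases hcase : centralizer ((E.map (QuotientGroup.mk' (center P)) : Subgroup (P ⧸ center P)) : Set (P ⧸ center P)) ≤
      E.map (QuotientGroup.mk' (center P))
  · -- Case I: the image of `E` is soft
    have hĒ : Soft p (E.map (QuotientGroup.mk' (center P))) := ⟨hĒcomm, hcase, hĒidx⟩
    obtain ⟨T2', H'⟩ := IH _ hlt (P ⧸ center P) rfl hPQ _ hĒ
    refine ⟨fun K hEK hK => ?_, fun t K hEK hK hidx => ?_⟩
    · rw [← relIndex_normalizer_map _ hsurj (hkerE.trans hEK)]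
      exact T2' _ (map_mono hEK) (map_ne_top_of_ker_le _ (hkerE.trans hEK) hK)
    · have h1 := H' t _ (map_mono hEK) (map_ne_top_of_ker_le _ (hkerE.trans hEK) hK)
        (by rw [relIndex_map_of_ker_le _ _ hkerE]; exact hidx)
      rw [← map_lowerCentralSeries, map_le_iff_le_comap, comap_map_eq_self hkerE] at h1
      exact h1
  · -- Case II: the image of `N(E)` is abelian, and soft
    obtain ⟨y, hyc, hyE⟩ := SetLike.not_le_iff_exists.mp hcase
    have hNbeq : normalizer ((E.map (QuotientGroup.mk' (center P)) : Subgroup (P ⧸ center P)) : Set (P ⧸ center P)) =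
        (normalizer (E : Set P)).map (QuotientGroup.mk' (center P)) :=
      normalizer_map_of_ker_le _ hsurj hkerE
    have hyN : y ∈ normalizer ((E.map (QuotientGroup.mk' (center P)) : Subgroup (P ⧸ center P)) : Set (P ⧸ center P)) :=
      centralizer_le_normalizer _ hyc
    have hsup : E.map (QuotientGroup.mk' (center P)) ⊔ zpowers y =
        normalizer ((E.map (QuotientGroup.mk' (center P)) : Subgroup (P ⧸ center P)) : Set (P ⧸ center P)) := by
      rcases eq_or_eq_of_relIndex_prime hp.out
        (le_sup_left : E.map (QuotientGroup.mk' (center P)) ≤ _ ⊔ zpowers y)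
        (sup_le le_normalizer ((zpowers_le).mpr hyN)) hĒidx with h | h
      · exfalso
        apply hyE
        rw [← h]
        exact (le_sup_right : zpowers y ≤ _) (mem_zpowers y)
      · exact h
    have hNbcomm : ∀ a ∈ normalizer ((E.map (QuotientGroup.mk' (center P)) : Subgroup (P ⧸ center P)) : Set (P ⧸ center P)),
        ∀ b ∈ normalizer ((E.map (QuotientGroup.mk' (center P)) : Subgroup (P ⧸ center P)) : Set (P ⧸ center P)),
        a * b = b * a := by
      have h1 : normalizer ((E.map (QuotientGroup.mk' (center P)) : Subgroup (P ⧸ center P)) : Set (P ⧸ center P)) ≤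
          centralizer ((E.map (QuotientGroup.mk' (center P)) : Subgroup (P ⧸ center P)) : Set (P ⧸ center P)) := by
        rw [← hsup]
        apply sup_le
        · intro a ha
          rw [mem_centralizer_iff]
          intro b hb
          exact hĒcomm b hb a ha
        · exact (zpowers_le).mpr hyc
      have h2 : normalizer ((E.map (QuotientGroup.mk' (center P)) : Subgroup (P ⧸ center P)) : Set (P ⧸ center P)) ≤
          centralizer ({y} : Set (P ⧸ center P)) := by
        rw [← hsup]
        apply sup_le
        · intro a ha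
          rw [mem_centralizer_iff]
          intro b hb
          rw [Set.mem_singleton_iff.mp hb]
          exact mem_centralizer_iff.mp hyc a ha |>.symm
        · rw [zpowers_le, mem_centralizer_iff]
          intro b hb
          rw [Set.mem_singleton_iff.mp hb]
      intro a ha b hb
      have h3 : normalizer ((E.map (QuotientGroup.mk' (center P)) : Subgroup (P ⧸ center P)) : Set (P ⧸ center P)) ≤
          centralizer ({a} : Set (P ⧸ center P)) := by
        rw [← hsup]
        apply sup_le
        · intro c hc
          rw [mem_centralizer_iff]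
          intro d hd
          rw [Set.mem_singleton_iff.mp hd]
          exact (mem_centralizer_iff.mp (h1 ha) c hc).symm
        · rw [zpowers_le, mem_centralizer_iff]
          intro d hd
          rw [Set.mem_singleton_iff.mp hd]
          exact (mem_centralizer_iff.mp (h2 ha) y rfl).symm
      exact mem_centralizer_iff.mp (h3 hb) a rfl
    have hNb : Soft p (normalizer ((E.map (QuotientGroup.mk' (center P)) : Subgroup (P ⧸ center P)) : Set (P ⧸ center P))) := by
      refine ⟨hNbcomm, ?_, ?_⟩
      · exact (centralizer_le (show ((E.map (QuotientGroup.mk' (center P)) : Subgroup (P ⧸ center P)) : Set (P ⧸ center P)) ⊆ _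
          from le_normalizer)).trans (centralizer_le_normalizer _)
      · rw [hNbeq, relIndex_normalizer_map _ hsurj (hkerE.trans hEN)]
        exact hE.relIndex_normalizer_normalizer hP hN₁
    obtain ⟨T2', H'⟩ := IH _ hlt (P ⧸ center P) rfl hPQ _ hNb
    have T1' := chain_of_T2 hPQ T2'
    refine ⟨fun K hEK hK => ?_, fun t K hEK hK hidx => ?_⟩
    · rcases hdich K hEK with h | h
      · rw [h]; exact hE.idx
      · rw [← relIndex_normalizer_map _ hsurj (hkerE.trans hEK)]
        exact T2' _ (hNbeq ▸ map_mono h) (map_ne_top_of_ker_le _ (hkerE.trans hEK) hK)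
    · rcases hdich K hEK with h | h
      · subst h; exact lcs_le _ t
      · have h1 := relIndex_mul_relIndex E _ K hEN h
        rw [hE.idx, hidx] at h1
        rcases t with _ | s
        · exfalso
          rw [pow_zero] at h1
          have := Nat.eq_one_of_mul_eq_one_right h1
          exact hp.out.one_lt.ne' this
        · have h2 : (normalizer (E : Set P)).relIndex K = p ^ s := by
            rw [pow_succ, mul_comm] at h1
            exact Nat.eq_of_mul_eq_mul_right hp.out.pos h1
          have h3 : (normalizer ((E.map (QuotientGroup.mk' (center P)) : Subgroup (P ⧸ center P)) : Set (P ⧸ center P))).relIndex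
              (K.map (QuotientGroup.mk' (center P))) = p ^ s := by
            rw [hNbeq, relIndex_map_of_ker_le _ _ (hkerE.trans hEN)]; exact h2
          have hK' := map_ne_top_of_ker_le (QuotientGroup.mk' (center P)) (hkerE.trans hEK) hK
          have hNK : normalizer ((E.map (QuotientGroup.mk' (center P)) : Subgroup (P ⧸ center P)) : Set (P ⧸ center P)) ≤
              K.map (QuotientGroup.mk' (center P)) := hNbeq ▸ map_mono h
          have h4 := H' s _ hNK hK' h3
          have h5 := lcs_succ_eq_bot_of_chain hPQ hNbcomm T1' T2' hNK hK' h4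
          rw [← map_lowerCentralSeries, Subgroup.map_eq_bot_iff] at h5
          exact h5.trans hkerE

theorem soft_main {P : Type*} [Group P] [Finite P] (p : ℕ) [Fact p.Prime] (hP : IsPGroup p P)
    {E : Subgroup P} (hE : Soft p E) : Concl p E :=
  soft_main_aux p _ P rfl hP E hE

/-- Héthelyi's theorem on soft subgroups. -/
theorem soft_overgroups {P : Type*} [Group P] [Finite P] (p : ℕ) [hp : Fact p.Prime]
    (hP : IsPGroup p P) {E : Subgroup P} (hE : Soft p E) :
    (∀ K L : Subgroup P, E ≤ K → E ≤ L → K ≤ L ∨ L ≤ K) ∧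
      (∀ K : Subgroup P, E ≤ K → K ≠ ⊤ → K.relIndex (normalizer (K : Set P)) = p) ∧
      ∀ (i : ℕ) (K : Subgroup P) [Group.IsNilpotent ↥K], E ≤ K → K ≠ ⊤ →
        K.index * p ^ i = E.index → Group.nilpotencyClass ↥K = i + 1 := by
  obtain ⟨T2, H'⟩ := soft_main p hP hE
  have T1 := chain_of_T2 hP T2
  refine ⟨T1, T2, ?_⟩
  intro i K _ hEK hK hidx
  have h1 := relIndex_mul_index hEK
  have hK0 : K.index ≠ 0 := index_ne_zero_of_finite
  have h2 : E.relIndex K = p ^ i := by
    rw [← hidx, mul_comm] at h1
    exact Nat.eq_of_mul_eq_mul_left (Nat.pos_of_ne_zero hK0) h1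
  have h3 := H' i K hEK hK h2
  have h4 := lcs_succ_eq_bot_of_chain hP hE.comm T1 T2 hEK hK h3
  have h5 := lcs_ne_bot_of_chain hE T2 hEK hK h2
  apply le_antisymm
  · rw [← Subgroup.lowerCentralSeries_eq_bot_iff_nilpotencyClass_le]
    rw [← top_subtype_lowerCentralSeries] at h4
    exact (Subgroup.map_eq_bot_iff_of_injective _ K.subtype_injective).mp h4
  · by_contra hcon
    have h6 : Group.nilpotencyClass ↥K ≤ i := by omega
    rw [← Subgroup.lowerCentralSeries_eq_bot_iff_nilpotencyClass_le] at h6
    apply h5
    rw [← top_subtype_lowerCentralSeries, h6, Subgroup.map_bot]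

end Cfsg.Agent.Helper95Soft
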