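import Mathlib
import Cfsg.Prelude.Def_TwoFusion
import Cfsg.Prelude.Def_CaseTheorems
import Cfsg.Agent.S0215
import Cfsg.Agent.Lib.Helper29_NPCSections

/-!
# A strongly closed 2-subgroup centralizes an invariant subgroup with trivial odd core
that it meets trivially (helper95)

Consumer of Glauberman's `Z*`-theorem (`Cfsg.Agent.S0215.result`).
-/

set_option autoImplicit false

namespace Cfsg.Agent.Helper95SCC

open Cfsg

universe u

/-- An isolated involution (Sylow form) is central when `H ⊴ X` has 2-power index and trivial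
odd core. -/
theorem central_of_isolated {X : Type u} [Group X] [Finite X] (H : Subgroup X) [H.Normal]
    (hO : oddCore ↥H = ⊥) (hidx : IsPGroup 2 (X ⧸ H)) (P : Sylow 2 X) (t : X)
    (ht : orderOf t = 2) (htP : t ∈ P)
    (hiso : ∀ g : X, g * t * g⁻¹ ∈ P → g * t * g⁻¹ = t) : t ∈ Subgroup.center X := by
  obtain ⟨N, hN, hodd, hcomm⟩ := Cfsg.Agent.S0215.result P t ht htP hiso
  have hNH : N ≤ H := by
    intro n hn
    obtain ⟨k, hk⟩ := hidx (QuotientGroup.mk' H n)
    have h1 : orderOf (QuotientGroup.mk' H n) ∣ 2 ^ k := orderOf_dvd_of_pow_eq_one hk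
    have h2 : orderOf (QuotientGroup.mk' H n) ∣ Nat.card N := by
      have h3 : orderOf (QuotientGroup.mk' H n) ∣ orderOf n := orderOf_map_dvd _ n
      have h4 : orderOf n ∣ Nat.card N := by
        have := orderOf_dvd_natCard (⟨n, hn⟩ : N)
        rwa [Subgroup.orderOf_mk] at this
      exact h3.trans h4
    have h5 : Nat.Coprime (2 ^ k) (Nat.card N) :=
      Nat.Coprime.pow_left k (Nat.coprime_two_left.mpr hodd)
    have h6 : orderOf (QuotientGroup.mk' H n) = 1 :=
      Nat.eq_one_of_dvd_coprimes h5 h1 h2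
    rw [orderOf_eq_one_iff] at h6
    exact (QuotientGroup.eq_one_iff n).mp h6
  have hNbot : N = ⊥ := by
    have h1 : (N.subgroupOf H).Normal := hN.subgroupOf H
    have h2 : Nat.card (N.subgroupOf H) = Nat.card N :=
      Nat.card_congr (Subgroup.subgroupOfEquivOfLe hNH).toEquiv
    have h3 : N.subgroupOf H ≤ pPrimeCore 2 H :=
      Cfsg.Agent.Lib.Helper1_Cores.le_pPrimeCore h1 (by
        rw [h2]; exact (Nat.coprime_two_left.mpr hodd).symm)
    have h4 : N.subgroupOf H = ⊥ := by
      have : oddCore ↥H = pPrimeCore 2 H := rfl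
      rw [this] at hO
      rw [hO, le_bot_iff] at h3
      exact h3
    rw [Subgroup.subgroupOf_eq_bot] at h4
    exact (disjoint_iff.mp h4) ▸ (inf_eq_left.mpr hNH).symm
  rw [Subgroup.mem_center_iff]
  intro g
  have h := hcomm g
  rw [hNbot, Subgroup.mem_bot] at h
  have : t * g = g * t := by
    have h' : t * g * t⁻¹ * g⁻¹ * g * t = 1 * g * t := by rw [h]
    simpa [mul_assoc] using h'
  exact this.symm

/-- Induction: in `X = HA` with `H ⊴ X`, `O(H) = 1`, `A ∩ H = 1`, `A ≤ P` strongly closed in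
the Sylow 2-subgroup `P` with respect to `X`, the subgroup `A` centralizes `H`. -/
theorem centralizes_aux : ∀ n : ℕ, ∀ (X : Type u) [Group X] [Finite X] (H A : Subgroup X)
    [H.Normal] (P : Sylow 2 X), Nat.card A ≤ n → A ≤ P →
    (∀ a ∈ A, ∀ x : X, x * a * x⁻¹ ∈ P → x * a * x⁻¹ ∈ A) → A ⊓ H = ⊥ → H ⊔ A = ⊤ →
    oddCore ↥H = ⊥ → A ≤ Subgroup.centralizer (H : Set X) := by
  intro n
  induction n with
  | zero =>
    intro X _ _ H A _ P hcard
    exfalso
    have := Nat.card_pos (α := A)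
    omega
  | succ n ih =>
    intro X _ _ H A _ P hcard hAP hsc hdisj hsup hO
    have : Fact (Nat.Prime 2) := ⟨Nat.prime_two⟩
    by_cases hAbot : A = ⊥
    · rw [hAbot]; exact bot_le
    -- A is a nontrivial 2-group
    have hA2 : IsPGroup 2 A := P.2.to_le hAP
    have hAnt : Nontrivial A := (Subgroup.nontrivial_iff_ne_bot A).mpr hAbot
    have hZnt : Nontrivial (Subgroup.center A) := hA2.center_nontrivial
    have hZ2 : IsPGroup 2 (Subgroup.center A) := hA2.to_subgroup _
    have h2dvd : 2 ∣ Nat.card (Subgroup.center A) := by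
      obtain ⟨k, hk⟩ := IsPGroup.iff_card.mp hZ2
      have hk0 : k ≠ 0 := by
        rintro rfl
        rw [pow_zero] at hk
        have := Finite.one_lt_card (α := Subgroup.center A)
        omega
      rw [hk]
      exact dvd_pow_self 2 hk0
    obtain ⟨z, hz⟩ := exists_prime_orderOf_dvd_card' (G := Subgroup.center A) 2 h2dvd
    -- the involution u
    set u : X := ((z : A) : X) with hu
    have huA : u ∈ A := (z : A).2
    have huo : orderOf u = 2 := by
      rw [hu, Subgroup.orderOf_coe, Subgroup.orderOf_coe]; exact hz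
    have hucomm : ∀ a ∈ A, a * u = u * a := by
      intro a ha
      have := Subgroup.mem_center_iff.mp z.2 ⟨a, ha⟩
      exact congrArg Subtype.val this
    -- every x is h * a
    have hdecomp : ∀ x : X, ∃ h ∈ H, ∃ a ∈ A, x = h * a := by
      intro x
      have hx : x ∈ H ⊔ A := by rw [hsup]; trivial
      obtain ⟨h, hh, a, ha, rfl⟩ := Subgroup.mem_sup_of_normal_left.mp hx
      exact ⟨h, hh, a, ha, rfl⟩
    have hinfmem : ∀ c : X, c ∈ A → c ∈ H → c = 1 := by
      intro c hcA hcH
      have : c ∈ A ⊓ H := ⟨hcA, hcH⟩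
      rwa [hdisj, Subgroup.mem_bot] at this
    -- u is isolated
    have hiso : ∀ g : X, g * u * g⁻¹ ∈ P → g * u * g⁻¹ = u := by
      intro g hg
      obtain ⟨h, hh, a, ha, rfl⟩ := hdecomp g
      have e1 : h * a * u * (h * a)⁻¹ = h * u * h⁻¹ := by
        rw [mul_inv_rev, mul_assoc h a u, hucomm a ha]; group
      rw [e1] at hg ⊢
      have h1 : h * u * h⁻¹ ∈ A := hsc u huA h hg
      have h2 : h * u * h⁻¹ * u⁻¹ ∈ H := by
        have : u * h⁻¹ * u⁻¹ ∈ H := Subgroup.Normal.conj_mem inferInstance _ (H.inv_mem hh) u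
        have e : h * u * h⁻¹ * u⁻¹ = h * (u * h⁻¹ * u⁻¹) := by group
        rw [e]; exact H.mul_mem hh this
      have h3 := hinfmem _ (A.mul_mem h1 (A.inv_mem huA)) h2
      exact mul_inv_eq_one.mp h3
    -- X/H is a 2-group
    have hidx : IsPGroup 2 (X ⧸ H) := by
      intro q
      obtain ⟨x, rfl⟩ := QuotientGroup.mk_surjective q
      obtain ⟨h, hh, a, ha, rfl⟩ := hdecomp x
      obtain ⟨k, hk⟩ := hA2 ⟨a, ha⟩
      refine ⟨k, ?_⟩
      have e1 : ((h * a : X) : X ⧸ H) = ((a : X) : X ⧸ H) := by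
        rw [QuotientGroup.mk_mul, (QuotientGroup.eq_one_iff h).mpr hh, one_mul]
      rw [e1, ← QuotientGroup.mk_pow]
      have : a ^ 2 ^ k = 1 := by
        have := congrArg Subtype.val hk
        simpa using this
      rw [this]; rfl
    have hucent : u ∈ Subgroup.center X :=
      central_of_isolated H hO hidx P u huo (hAP huA) hiso
    -- the quotient by ⟨u⟩
    set Z : Subgroup X := Subgroup.zpowers u with hZ
    have hZA : Z ≤ A := by
      rw [hZ, Subgroup.zpowers_le]; exact huA
    have hZc : Z ≤ Subgroup.center X := by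
      rw [hZ, Subgroup.zpowers_le]; exact hucent
    have hZn : Z.Normal := by
      constructor
      intro y hy g
      have := Subgroup.mem_center_iff.mp (hZc hy) g
      have e : g * y * g⁻¹ = y := by rw [this]; group
      rw [e]; exact hy
    set π : X →* X ⧸ Z := QuotientGroup.mk' Z with hπ
    have hπs : Function.Surjective π := QuotientGroup.mk'_surjective Z
    have hker : ∀ x : X, π x = 1 ↔ x ∈ Z := fun x => QuotientGroup.eq_one_iff x
    have hHn : (H.map π).Normal := Subgroup.Normal.map inferInstance π hπs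
    -- card drops
    have hcardlt : Nat.card (A.map π) < Nat.card A := by
      have hs : Function.Surjective (π.subgroupMap A) := π.subgroupMap_surjective A
      have hni : ¬ Function.Injective (π.subgroupMap A) := by
        intro hinj
        have h1 : π.subgroupMap A ⟨u, huA⟩ = π.subgroupMap A 1 := by
          apply Subtype.ext
          simp only [MonoidHom.subgroupMap_apply_coe, map_one, OneMemClass.coe_one]
          exact (hker u).mpr (Subgroup.mem_zpowers u)
        have h2 := hinj h1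
        have h3 : u = 1 := congrArg Subtype.val h2
        rw [h3, orderOf_one] at huo
        omega
      classical
      letI := Fintype.ofFinite ↥A
      letI := Fintype.ofFinite ↥(A.map π)
      rw [Nat.card_eq_fintype_card, Nat.card_eq_fintype_card]
      exact Fintype.card_lt_of_surjective_not_injective _ hs hni
    -- hypotheses for the quotient
    have hq1 : Nat.card (A.map π) ≤ n := by omega
    have hq2 : A.map π ≤ (P.mapSurjective hπs : Subgroup (X ⧸ Z)) := by
      rw [Sylow.coe_mapSurjective]; exact Subgroup.map_mono hAP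
    have hq3 : ∀ a ∈ A.map π, ∀ x : X ⧸ Z, x * a * x⁻¹ ∈ P.mapSurjective hπs →
        x * a * x⁻¹ ∈ A.map π := by
      rintro _ ⟨a, ha, rfl⟩ x hx
      obtain ⟨x, rfl⟩ := hπs x
      have hx' : π (x * a * x⁻¹) ∈ (P : Subgroup X).map π := by
        have : π x * π a * (π x)⁻¹ ∈ (P.mapSurjective hπs : Subgroup (X ⧸ Z)) := hx
        rw [Sylow.coe_mapSurjective] at this
        simpa using this
      obtain ⟨p, hp, hpe⟩ := hx'
      have h1 : p⁻¹ * (x * a * x⁻¹) ∈ Z := by
        rw [← hker, map_mul, map_inv, hpe, inv_mul_cancel]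
      have h2 : x * a * x⁻¹ ∈ P := by
        have : x * a * x⁻¹ = p * (p⁻¹ * (x * a * x⁻¹)) := by group
        rw [this]
        exact (P : Subgroup X).mul_mem hp (hAP (hZA h1))
      have h3 := hsc a ha x h2
      have : π x * π a * (π x)⁻¹ = π (x * a * x⁻¹) := by simp
      rw [this]
      exact Subgroup.mem_map_of_mem π h3
    have hq4 : A.map π ⊓ H.map π = ⊥ := by
      rw [eq_bot_iff]
      rintro q ⟨⟨a, ha, rfl⟩, ⟨h, hh, hhe⟩⟩
      have h1 : a⁻¹ * h ∈ Z := by
        rw [← hker, map_mul, map_inv, hhe, inv_mul_cancel]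
      have h2 : h ∈ A := by
        have : h = a * (a⁻¹ * h) := by group
        rw [this]; exact A.mul_mem ha (hZA h1)
      have h3 := hinfmem h h2 hh
      rw [Subgroup.mem_bot, ← hhe, h3, map_one]
    have hq5 : H.map π ⊔ A.map π = ⊤ := by
      rw [← Subgroup.map_sup, hsup, Subgroup.map_top_of_surjective π hπs]
    have hq6 : oddCore ↥(H.map π) = ⊥ := by
      have hinj : Function.Injective (π.subgroupMap H) := by
        rw [injective_iff_map_eq_one]
        intro h hh1
        have h1 : π (h : X) = 1 := by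
          have := congrArg Subtype.val hh1
          simpa using this
        have h2 : (h : X) ∈ Z := (hker _).mp h1
        have h3 := hinfmem _ (hZA h2) h.2
        exact Subtype.ext h3
      have e : ↥H ≃* ↥(H.map π) :=
        MulEquiv.ofBijective (π.subgroupMap H) ⟨hinj, π.subgroupMap_surjective H⟩
      exact Cfsg.Agent.Lib.Helper29_NPCSections.pPrimeCore_eq_bot_of_equiv e.symm hO
    have hres := ih (X ⧸ Z) (H.map π) (A.map π) (P.mapSurjective hπs) hq1 hq2 hq3 hq4 hq5 hq6
    -- pull back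
    intro a ha
    rw [Subgroup.mem_centralizer_iff]
    intro h hh
    have h1 : π a ∈ Subgroup.centralizer ((H.map π : Subgroup (X ⧸ Z)) : Set (X ⧸ Z)) :=
      hres (Subgroup.mem_map_of_mem π ha)
    rw [Subgroup.mem_centralizer_iff] at h1
    have h2 := h1 (π h) (Subgroup.mem_map_of_mem π hh)
    have h3 : (a * h)⁻¹ * (h * a) ∈ Z := by
      rw [← hker, map_mul, map_inv, map_mul, map_mul, h2, inv_mul_cancel]
    have h4 : (a * h)⁻¹ * (h * a) ∈ H := by
      have : a⁻¹ * h * a ∈ H := by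
        have := Subgroup.Normal.conj_mem (inferInstance : H.Normal) h hh a⁻¹
        simpa using this
      have e : (a * h)⁻¹ * (h * a) = h⁻¹ * (a⁻¹ * h * a) := by group
      rw [e]; exact H.mul_mem (H.inv_mem hh) this
    have h5 := hinfmem _ (hZA h3) h4
    exact (inv_mul_eq_one.mp h5).symm

/-- If `A` is strongly closed in `S` and `g⁻¹ A g ≤ S`, then any conjugate `y a y⁻¹` of an element
of `A` with `g⁻¹ (y a y⁻¹) g ∈ S` lies in `A` (i.e. `A` is strongly closed in `g S g⁻¹`). -/
theorem stronglyClosed_conj {G : Type u} [Group G] [Finite G] (S A : Subgroup G)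
    (hA : IsStronglyClosed A S) (g : G) (hAg : ∀ a ∈ A, g⁻¹ * a * g ∈ S) :
    ∀ a ∈ A, ∀ y : G, g⁻¹ * (y * a * y⁻¹) * g ∈ S → y * a * y⁻¹ ∈ A := by
  have hmemA : ∀ a ∈ A, g⁻¹ * a * g ∈ A := by
    intro a ha
    have := hA.2 a ha g⁻¹ (by simpa using hAg a ha)
    simpa using this
  let φ : A → A := fun a => ⟨g⁻¹ * a * g, hmemA a a.2⟩
  have hφi : Function.Injective φ := by
    intro a b hab
    have h1 : g⁻¹ * (a : G) * g = g⁻¹ * (b : G) * g := congrArg Subtype.val hab
    apply Subtype.ext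
    have h2 : g * (g⁻¹ * (a : G) * g) * g⁻¹ = g * (g⁻¹ * (b : G) * g) * g⁻¹ := by rw [h1]
    simpa [mul_assoc] using h2
  have hφs : Function.Surjective φ := Finite.surjective_of_injective hφi
  intro a ha y hy
  have hb : g⁻¹ * (y * a * y⁻¹) * g ∈ A := by
    have e : g⁻¹ * (y * a * y⁻¹) * g = (g⁻¹ * y) * a * (g⁻¹ * y)⁻¹ := by group
    rw [e] at hy ⊢
    exact hA.2 a ha _ hy
  obtain ⟨a₂, ha₂⟩ := hφs ⟨_, hb⟩
  have h1 : g⁻¹ * (a₂ : G) * g = g⁻¹ * (y * a * y⁻¹) * g := congrArg Subtype.val ha₂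
  have h2 : (a₂ : G) = y * a * y⁻¹ := by
    have h3 : g * (g⁻¹ * (a₂ : G) * g) * g⁻¹ = g * (g⁻¹ * (y * a * y⁻¹) * g) * g⁻¹ := by rw [h1]
    simpa [mul_assoc] using h3
  rw [← h2]; exact a₂.2

/-- The statement of S1251. -/
theorem main {G : Type u} [Group G] [Finite G] (S : Sylow 2 G) (A : Subgroup G)
    (hA : IsStronglyClosed A (S : Subgroup G)) (H : Subgroup G)
    (hAH : A ≤ Subgroup.normalizer (H : Set G)) (hO : oddCore ↥H = ⊥) (hdisj : A ⊓ H = ⊥) :
    A ≤ Subgroup.centralizer (H : Set G) := by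
  have : Fact (Nat.Prime 2) := ⟨Nat.prime_two⟩
  set K : Subgroup G := A ⊔ H with hK
  have hAK : A ≤ K := le_sup_left
  have hHK : H ≤ K := le_sup_right
  have hHn : (H.subgroupOf K).Normal := Subgroup.normal_subgroupOf_sup_of_le_normalizer hAH
  have hA2 : IsPGroup 2 A := S.2.to_le hA.1
  have hAK2 : IsPGroup 2 (A.subgroupOf K) := hA2.comap_subtype
  obtain ⟨P, hP⟩ := hAK2.exists_le_sylow
  have hP2 : IsPGroup 2 ((P : Subgroup K).map K.subtype) := P.2.map K.subtype
  obtain ⟨S', hS'⟩ := hP2.exists_le_sylow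
  obtain ⟨g, hg⟩ := MulAction.exists_smul_eq G S S'
  have hmem : ∀ x : G, x ∈ S' ↔ g⁻¹ * x * g ∈ S := by
    intro x
    rw [← hg]
    change x ∈ ((g • S : Sylow 2 G) : Subgroup G) ↔ _
    rw [Sylow.coe_subgroup_smul, Subgroup.mem_pointwise_smul_iff_inv_smul_mem]
    have e : (MulAut.conj g)⁻¹ • x = g⁻¹ * x * g := by simp [MulAut.smul_def, mul_assoc]
    rw [e]
    exact Iff.rfl
  have hPS' : ∀ x : K, x ∈ P → (x : G) ∈ S' := fun x hx =>
    hS' (Subgroup.mem_map_of_mem K.subtype hx)
  have hAg : ∀ a ∈ A, g⁻¹ * a * g ∈ S := by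
    intro a ha
    rw [← hmem]
    exact hPS' ⟨a, hAK ha⟩ (hP (Subgroup.mem_subgroupOf.mpr ha))
  have hsc := stronglyClosed_conj (S : Subgroup G) A hA g hAg
  have h3 : ∀ a ∈ A.subgroupOf K, ∀ x : K, x * a * x⁻¹ ∈ P → x * a * x⁻¹ ∈ A.subgroupOf K := by
    intro a ha x hx
    rw [Subgroup.mem_subgroupOf] at ha ⊢
    have h1 := hPS' _ hx
    rw [hmem] at h1
    exact hsc a ha x (by
      have h2 : g⁻¹ * ((x : G) * (a : G) * (x : G)⁻¹) * g ∈ S := by
        simpa using h1
      exact h2)
  have h4 : A.subgroupOf K ⊓ H.subgroupOf K = ⊥ := by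
    rw [eq_bot_iff]
    rintro x ⟨hxA, hxH⟩
    have : (x : G) ∈ A ⊓ H := ⟨Subgroup.mem_subgroupOf.mp hxA, Subgroup.mem_subgroupOf.mp hxH⟩
    rw [hdisj, Subgroup.mem_bot] at this
    rw [Subgroup.mem_bot]
    exact Subtype.ext this
  have h5 : H.subgroupOf K ⊔ A.subgroupOf K = ⊤ := by
    rw [← Subgroup.subgroupOf_sup hHK hAK, sup_comm, ← hK, Subgroup.subgroupOf_self]
  have h6 : oddCore ↥(H.subgroupOf K) = ⊥ :=
    Cfsg.Agent.Lib.Helper29_NPCSections.pPrimeCore_eq_bot_of_equiv
      (Subgroup.subgroupOfEquivOfLe hHK) hO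
  have hres := centralizes_aux (Nat.card (A.subgroupOf K)) ↥K (H.subgroupOf K) (A.subgroupOf K) P
    le_rfl hP h3 h4 h5 h6
  intro a ha
  rw [Subgroup.mem_centralizer_iff]
  intro h hh
  have h1 : (⟨a, hAK ha⟩ : K) ∈ Subgroup.centralizer ((H.subgroupOf K : Subgroup K) : Set K) :=
    hres (Subgroup.mem_subgroupOf.mpr ha)
  rw [Subgroup.mem_centralizer_iff] at h1
  have h2 := h1 ⟨h, hHK hh⟩ (Subgroup.mem_subgroupOf.mpr hh)
  exact congrArg Subtype.val h2

end Cfsg.Agent.Helper95SCC
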