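import Mathlib
import Cfsg.Agent.Lib.Helper95_SuzGlue
import Cfsg.Agent.Lib.Helper75_Suz_GL1
import Cfsg.Agent.Lib.Helper9_Suz_Cyc

/-!
# Suzuki's theorem on Zassenhaus groups of odd degree: all the numerical and structural facts (helper95)

`main`: in a Zassenhaus group `G` on `Ω` whose point stabiliser `G_x` has a normal non-abelian 2-subgroup
`U` regular on `Ω \ {x}`: for some odd `n ≥ 3`, `|Ω| = q² + 1`, `|U| = q²`, `|G| = q²(q²+1)(q-1)`
(`q = 2^n`), `U` is a Suzuki 2-group with `|Z(U)| = q`, and every two-point stabiliser `G_x ∩ G_y` is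
cyclic of order `q - 1`.  (Common part of S0347, S1147, S0340.)
-/

set_option autoImplicit false
set_option linter.unusedSectionVars false
set_option linter.unusedVariables false

namespace Cfsg.Agent.Lib.Helper95_SuzFacts

open Cfsg MulAction Cfsg.Agent.Lib.Helper95_FeitDefs Cfsg.Agent.Lib.Helper95_SuzDefs
  Cfsg.Agent.Lib.Helper95_SuzCore Cfsg.Agent.Lib.Helper95_SuzGlue
open Cfsg.Agent.Lib.Helper9_HigBase Cfsg.Agent.Lib.Helper9_Suz_GA2b

universe u v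

section center

variable {G : Type u} [Group G] [Finite G]

/-- Higman: the centre of `H` consists of the elements of square one; it has `|E| + 1` elements. -/
theorem card_center (H E : Subgroup G) (hnorm : ∀ k ∈ E, ∀ x ∈ H, k * x * k⁻¹ ∈ H)
    (hEab : ∀ k ∈ E, ∀ k' ∈ E, k * k' = k' * k) (h2 : IsPGroup 2 H)
    (hreg : ∀ z ∈ H, z ≠ 1 → z * z = 1 → ∀ z' ∈ H, z' ≠ 1 → z' * z' = 1 →
      ∃! k : ↥E, (k : G) * z * (k : G)⁻¹ = z')
    (hex : ∃ z ∈ H, z ≠ 1 ∧ z * z = 1) (hE1 : E ≠ ⊥)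
    (hnab : ∃ x ∈ H, ∃ y ∈ H, x * y ≠ y * x) :
    Nat.card (Subgroup.center ↥H) = Nat.card E + 1 := by
  let _ : CommGroup ↥E :=
    { (inferInstance : Group ↥E) with
      mul_comm := fun a b => Subtype.ext (hEab a a.2 b b.2) }
  let φ : ↥E →* MulAut ↥H := conjAut H E hnorm
  have hφ : ∀ (k : ↥E) (x : ↥H), ((φ k x : ↥H) : G) = (k : G) * x * (k : G)⁻¹ := fun k x => rfl
  have hHig : IsHig φ := by
    refine ⟨inferInstance, h2, ?_, ?_⟩
    · intro x y hx1 hx2 hy1 hy2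
      have hx1' : (x : G) ≠ 1 := fun h => hx1 (Subtype.ext h)
      have hy1' : (y : G) ≠ 1 := fun h => hy1 (Subtype.ext h)
      have hx2' : (x : G) * x = 1 := congrArg Subtype.val hx2
      have hy2' : (y : G) * y = 1 := congrArg Subtype.val hy2
      obtain ⟨k, hk, hku⟩ := hreg x x.2 hx1' hx2' y y.2 hy1' hy2'
      refine ⟨k, Subtype.ext ?_, ?_⟩
      · rw [hφ]; exact hk
      · intro k' hk'
        apply hku
        have := congrArg Subtype.val hk'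
        rw [hφ] at this
        exact this
    · obtain ⟨z, hz, hz1, hz2⟩ := hex
      exact ⟨⟨z, hz⟩, fun h => hz1 (congrArg Subtype.val h), Subtype.ext hz2⟩
  have hK : ∃ k : ↥E, k ≠ 1 := (Subgroup.ne_bot_iff_exists_ne_one).mp hE1
  have hnab' : ∃ a b : ↥H, a * b ≠ b * a := by
    obtain ⟨x, hx, y, hy, hxy⟩ := hnab
    exact ⟨⟨x, hx⟩, ⟨y, hy⟩, fun h => hxy (congrArg Subtype.val h)⟩
  obtain ⟨r1, r2, r3, r4⟩ := higman φ hHig hK hnab'
  rw [← hHig.card_Om]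
  exact Nat.card_congr (Equiv.subtypeEquivRight (fun z => r3 z))

end center

section facts

variable {G : Type u} {Ω : Type v} [Group G] [Fintype G] [MulAction G Ω] [Fintype Ω]

/-- everything about one pair of points -/
theorem facts (hZ : Cfsg.IsZassenhausGroup G Ω) {x y : Ω} (hxy : x ≠ y) (U : Subgroup G)
    (hUle : U ≤ stabilizer G x)
    (hUn : ∀ n ∈ stabilizer G x, ∀ u ∈ U, n * u * n⁻¹ ∈ U)
    (hU2 : IsPGroup 2 U) (hUna : ∃ u ∈ U, ∃ v ∈ U, u * v ≠ v * u)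
    (hreg : ∀ y z : Ω, y ≠ x → z ≠ x → ∃! u : U, (u : G) • y = z) :
    ∃ k : ℕ, 1 ≤ k ∧
      Nat.card ↥(stabilizer G x ⊓ stabilizer G y : Subgroup G) + 1 = 2 * 4 ^ k ∧
      Nat.card U = (Nat.card ↥(stabilizer G x ⊓ stabilizer G y : Subgroup G) + 1) ^ 2 ∧
      Fintype.card Ω = Nat.card U + 1 ∧
      Nat.card G = (Nat.card U + 1) * Nat.card U *
        Nat.card ↥(stabilizer G x ⊓ stabilizer G y : Subgroup G) ∧
      IsCyclic ↥(stabilizer G x ⊓ stabilizer G y : Subgroup G) ∧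
      Cfsg.IsSuzukiTwoGroup U ∧
      Nat.card (Subgroup.center U) =
        Nat.card ↥(stabilizer G x ⊓ stabilizer G y : Subgroup G) + 1 := by
  classical
  have : Fintype (stabilizer G x) := Fintype.ofFinite _
  have hU1 : U ≠ ⊥ := by
    intro hbot
    obtain ⟨u, hu, v, hv, huv⟩ := hUna
    rw [hbot, Subgroup.mem_bot] at hu hv
    rw [hu, hv] at huv
    exact huv rfl
  have hN := Cfsg.Agent.Lib.Helper59_Suz_GA1.GA1 hZ hxy U hUle hUn hreg hU2 hU1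
  have hS := sdata_of_nice hN hU2 hUna
  have hD := hS.zdata
  obtain ⟨hh, k, hk⟩ := core' hS (Cfsg.Agent.Lib.Helper75_Suz_GL1.GL1 hD hS.abel)
  obtain ⟨g1, g2, g3, g4⟩ := Cfsg.Agent.Lib.Helper59_Suz_GA2a.GA2a hN hU2 hU1
  have hE1 : (stabilizer G x ⊓ stabilizer G y : Subgroup G) ≠ ⊥ := by
    rw [← Subgroup.one_lt_card_iff_ne_bot]
    exact hD.one_lt_e
  have hnorm : ∀ k ∈ (stabilizer G x ⊓ stabilizer G y : Subgroup G), ∀ u ∈ U,
      k * u * k⁻¹ ∈ U := fun k hk u hu => hD.H_normal k (Subgroup.mem_inf.mp hk).1 u hu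
  have he1 := hD.one_lt_e
  refine ⟨k, ?_, hk, hh, hN.card_Ω, card_G hD, ?_, ?_, ?_⟩
  · rcases Nat.eq_zero_or_pos k with h0 | hpos
    · rw [h0, pow_zero, mul_one] at hk
      omega
    · exact hpos
  · exact Cfsg.Agent.Lib.Helper9_Suz_Cyc.isCyclic_of_reg U _ hnorm g1 hU2 g2 g3
  · exact Cfsg.Agent.Lib.Helper9_Suz_Cyc.isSuzukiTwoGroup U _ hnorm g1 hU2 g2 g3 hE1 hUna
  · exact card_center U _ hnorm g1 hU2 g2 g3 hE1 hUna

end facts

/-- **The common part of S0347, S1147, S0340.** -/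
theorem main {G : Type u} {Ω : Type v} [Group G] [Finite G] [MulAction G Ω] [Finite Ω]
    (hZ : Cfsg.IsZassenhausGroup G Ω) [IsSimpleGroup G] (x : Ω) (U : Subgroup G)
    (hUle : U ≤ stabilizer G x)
    (hUn : ∀ n ∈ stabilizer G x, ∀ u ∈ U, n * u * n⁻¹ ∈ U)
    (hU2 : IsPGroup 2 U) (hUna : ∃ u ∈ U, ∃ v ∈ U, u * v ≠ v * u)
    (hreg : ∀ y z : Ω, y ≠ x → z ≠ x → ∃! u : U, (u : G) • y = z) :
    ∃ n : ℕ, Odd n ∧ 3 ≤ n ∧ Nat.card Ω = (2 ^ n) ^ 2 + 1 ∧ Nat.card U = (2 ^ n) ^ 2 ∧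
      Nat.card G = (2 ^ n) ^ 2 * ((2 ^ n) ^ 2 + 1) * (2 ^ n - 1) ∧
      Cfsg.IsSuzukiTwoGroup U ∧ Nat.card (Subgroup.center U) = 2 ^ n ∧
      ∀ y : Ω, y ≠ x →
        Nat.card ↥(stabilizer G x ⊓ stabilizer G y : Subgroup G) = 2 ^ n - 1 ∧
        IsCyclic ↥(stabilizer G x ⊓ stabilizer G y : Subgroup G) := by
  classical
  have : Fintype G := Fintype.ofFinite G
  have : Fintype Ω := Fintype.ofFinite Ω
  obtain ⟨b, hb⟩ : ∃ b : Ω, x ≠ b := by
    obtain ⟨-, -, -, ⟨g, -, a, b, hab, -, -⟩, -⟩ := hZ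
    by_cases h : x = a
    · exact ⟨b, by rw [h]; exact hab⟩
    · exact ⟨a, h⟩
  obtain ⟨k, hk1, hk, hh, hΩ, hG, -, hSuz, hcen⟩ := facts hZ hb U hUle hUn hU2 hUna hreg
  set e := Nat.card ↥(stabilizer G x ⊓ stabilizer G b : Subgroup G) with he
  have hq : 2 ^ (2 * k + 1) = e + 1 := by
    rw [hk, pow_succ, pow_mul]
    norm_num
    ring
  have hsub : e + 1 - 1 = e := by omega
  refine ⟨2 * k + 1, ⟨k, rfl⟩, by omega, ?_, ?_, ?_, hSuz, ?_, ?_⟩
  · rw [Nat.card_eq_fintype_card, hΩ, hh, hq]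
  · rw [hh, hq]
  · rw [hG, hh, hq, hsub]
    ring
  · rw [hcen, hq]
  · intro y hy
    obtain ⟨k', -, -, hh', -, -, hcyc, -, -⟩ := facts hZ (Ne.symm hy) U hUle hUn hU2 hUna hreg
    refine ⟨?_, hcyc⟩
    rw [hh] at hh'
    have := Nat.pow_left_injective (show 2 ≠ 0 by norm_num) hh'
    rw [hq, hsub]
    omega

end Cfsg.Agent.Lib.Helper95_SuzFacts
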