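import Mathlib

set_option autoImplicit false

namespace Cfsg.Agent.Helper95Symp

open Polynomial Module

variable {p : ℕ} [Fact p.Prime] {V : Type*} [AddCommGroup V] [Module (ZMod p) V] [Finite V]

/-- The minimal polynomial of an endomorphism with no proper nonzero invariant subspace is
irreducible. -/
theorem minpoly_irreducible_of_irr [Nontrivial V] (g : Module.End (ZMod p) V)
    (hirr : ∀ W : Submodule (ZMod p) V, (∀ w ∈ W, g w ∈ W) → W = ⊥ ∨ W = ⊤) :
    Irreducible (minpoly (ZMod p) g) := by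
  have hint : IsIntegral (ZMod p) g := Algebra.IsIntegral.isIntegral g
  have hμ0 : minpoly (ZMod p) g ≠ 0 := minpoly.ne_zero hint
  refine ⟨minpoly.not_isUnit _ _, ?_⟩
  intro a b hab
  have hcomm : ∀ (f : (ZMod p)[X]) (v : V), aeval g f (g v) = g (aeval g f v) := by
    intro f v
    have h1 : aeval g f * g = g * aeval g f := by
      have h0 : Commute (aeval g f) (aeval g X) := (Commute.all f X).map (aeval g)
      rw [aeval_X] at h0
      exact h0.eq
    have := congrArg (fun e : Module.End (ZMod p) V => e v) h1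
    simpa using this
  have hinv : ∀ w ∈ LinearMap.ker (aeval g a), g w ∈ LinearMap.ker (aeval g a) := by
    intro w hw
    rw [LinearMap.mem_ker] at hw ⊢
    rw [hcomm, hw, map_zero]
  have hprod : ∀ v, aeval g a (aeval g b v) = 0 := by
    intro v
    have : aeval g (a * b) = 0 := by rw [← hab]; exact minpoly.aeval _ _
    rw [map_mul] at this
    have := congrArg (fun e : Module.End (ZMod p) V => e v) this
    simpa using this
  rcases hirr _ hinv with h | h
  · -- `aeval g a` injective, so `aeval g b = 0`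
    left
    have hb : aeval g b = 0 := by
      ext v
      have : aeval g b v ∈ LinearMap.ker (aeval g a) := by
        rw [LinearMap.mem_ker]; exact hprod v
      rw [h] at this
      simpa using this
    obtain ⟨c, hc⟩ := minpoly.dvd (ZMod p) g hb
    have hb0 : b ≠ 0 := by
      rintro rfl
      apply hμ0
      rw [hab, mul_zero]
    have : b * (1 - a * c) = 0 := by
      have h2 : b = a * b * c := by rw [← hab]; exact hc
      calc b * (1 - a * c) = b - a * b * c := by ring
        _ = 0 := by rw [← h2, sub_self]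
    have h3 : 1 - a * c = 0 := by
      rcases mul_eq_zero.1 this with h4 | h4
      · exact absurd h4 hb0
      · exact h4
    exact IsUnit.of_mul_eq_one c (sub_eq_zero.1 h3).symm
  · right
    have ha : aeval g a = 0 := by
      ext v
      have : v ∈ LinearMap.ker (aeval g a) := by rw [h]; trivial
      simpa using this
    obtain ⟨c, hc⟩ := minpoly.dvd (ZMod p) g ha
    have ha0 : a ≠ 0 := by
      rintro rfl
      apply hμ0
      rw [hab, zero_mul]
    have : a * (1 - b * c) = 0 := by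
      have h2 : a = a * b * c := by rw [← hab]; exact hc
      calc a * (1 - b * c) = a - a * b * c := by ring
        _ = 0 := by rw [← h2, sub_self]
    have h3 : 1 - b * c = 0 := by
      rcases mul_eq_zero.1 this with h4 | h4
      · exact absurd h4 ha0
      · exact h4
    exact IsUnit.of_mul_eq_one c (sub_eq_zero.1 h3).symm

/-- adjointness of polynomial expressions -/
theorem adj_aeval (B : LinearMap.BilinForm (ZMod p) V) (g h : Module.End (ZMod p) V)
    (hgh : g * h = 1) (hB : ∀ u v, B (g u) (g v) = B u v) (f : (ZMod p)[X]) :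
    ∀ u v, B (aeval g f u) v = B u (aeval h f v) := by
  induction f using Polynomial.induction_on with
  | C a =>
    intro u v
    simp [Polynomial.aeval_C, Algebra.algebraMap_eq_smul_one]
  | add f₁ f₂ h₁ h₂ =>
    intro u v
    simp only [map_add, LinearMap.add_apply, h₁, h₂]
  | monomial n a ih =>
    intro u v
    have e1 : (C a * X ^ (n + 1) : (ZMod p)[X]) = X * (C a * X ^ n) := by ring
    have e2 : (C a * X ^ (n + 1) : (ZMod p)[X]) = (C a * X ^ n) * X := by ring
    have hghv : ∀ w, g (h w) = w := fun w => by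
      have := congrArg (fun e : Module.End (ZMod p) V => e w) hgh
      simpa using this
    have e3 : aeval g (C a * X ^ (n + 1)) = g * aeval g (C a * X ^ n) := by
      rw [e1, map_mul, aeval_X]
    have e4 : aeval h (C a * X ^ (n + 1)) = aeval h (C a * X ^ n) * h := by
      rw [e2, map_mul, aeval_X]
    calc B (aeval g (C a * X ^ (n + 1)) u) v
        = B (g (aeval g (C a * X ^ n) u)) v := by
          rw [e3]; rfl
      _ = B (g (aeval g (C a * X ^ n) u)) (g (h v)) := by rw [hghv]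
      _ = B (aeval g (C a * X ^ n) u) (h v) := hB _ _
      _ = B u (aeval h (C a * X ^ n) (h v)) := ih _ _
      _ = B u (aeval h (C a * X ^ (n + 1)) v) := by
          rw [e4]; rfl

/-- evaluation at `g` as an algebra map out of `𝔽_p[X]/(minpoly g)` -/
noncomputable def iota (g : Module.End (ZMod p) V) :
    AdjoinRoot (minpoly (ZMod p) g) →ₐ[ZMod p] Module.End (ZMod p) V :=
  Ideal.Quotient.liftₐ (Ideal.span {minpoly (ZMod p) g}) (aeval g) (by
    intro a ha
    rw [Ideal.mem_span_singleton] at ha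
    obtain ⟨c, rfl⟩ := ha
    rw [map_mul, minpoly.aeval, zero_mul])

theorem iota_mk (g : Module.End (ZMod p) V) (f : (ZMod p)[X]) :
    iota g (AdjoinRoot.mk _ f) = aeval g f := rfl

theorem iota_root (g : Module.End (ZMod p) V) : iota g (AdjoinRoot.root _) = g := by
  rw [← AdjoinRoot.mk_X, iota_mk, aeval_X]

/-- **Base case**: an irreducible isometry of finite order of a nondegenerate bilinear form
over `𝔽_p` satisfies `g ^ (p ^ s + 1) = 1` for some `s`. -/
theorem base_case [Nontrivial V] (B : LinearMap.BilinForm (ZMod p) V)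
    (g : Module.End (ZMod p) V) (m : ℕ) (hm : 0 < m) (hgm : g ^ m = 1)
    (hB : ∀ u v, B (g u) (g v) = B u v) (hnd : ∀ v, (∀ u, B u v = 0) → v = 0)
    (hirr : ∀ W : Submodule (ZMod p) V, (∀ w ∈ W, g w ∈ W) → W = ⊥ ∨ W = ⊤) :
    ∃ s : ℕ, g ^ (p ^ s + 1) = 1 := by
  have hint : IsIntegral (ZMod p) g := Algebra.IsIntegral.isIntegral g
  have hμ0 : minpoly (ZMod p) g ≠ 0 := minpoly.ne_zero hint
  haveI : Fact (Irreducible (minpoly (ZMod p) g)) := ⟨minpoly_irreducible_of_irr g hirr⟩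
  haveI : Module.Finite (ZMod p) (AdjoinRoot (minpoly (ZMod p) g)) :=
    (AdjoinRoot.powerBasis hμ0).finite
  haveI : Finite (AdjoinRoot (minpoly (ZMod p) g)) := Module.finite_of_finite (ZMod p)
  let ι : AdjoinRoot (minpoly (ZMod p) g) →ₐ[ZMod p] Module.End (ZMod p) V := iota g
  have hι : Function.Injective ι := RingHom.injective (ι : AdjoinRoot (minpoly (ZMod p) g) →+* Module.End (ZMod p) V)
  have hιζ : ι (AdjoinRoot.root _) = g := iota_root g
  set ζ := AdjoinRoot.root (minpoly (ZMod p) g) with hζ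
  have hζm : ζ ^ m = 1 := hι (by rw [map_pow, hιζ, hgm, map_one])
  have hgh : g * g ^ (m - 1) = 1 := by
    rw [← pow_succ', Nat.sub_add_cancel hm, hgm]
  have hμ' : aeval (g ^ (m - 1)) (minpoly (ZMod p) g) = 0 := by
    ext v
    apply hnd
    intro u
    rw [← adj_aeval B g (g ^ (m - 1)) hgh hB, minpoly.aeval]
    simp
  have hζ' : (minpoly (ZMod p) g).eval₂
      (Algebra.ofId (ZMod p) (AdjoinRoot (minpoly (ZMod p) g))) (ζ ^ (m - 1)) = 0 := by
    have h1 : aeval (ζ ^ (m - 1)) (minpoly (ZMod p) g) = 0 := by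
      apply hι
      rw [← Polynomial.aeval_algHom_apply, map_pow, hιζ, hμ', map_zero]
    rwa [Polynomial.aeval_def] at h1
  let σ : AdjoinRoot (minpoly (ZMod p) g) →ₐ[ZMod p] AdjoinRoot (minpoly (ZMod p) g) :=
    AdjoinRoot.liftAlgHom _ (Algebra.ofId (ZMod p) _) (ζ ^ (m - 1)) hζ'
  have hσ : σ ζ = ζ ^ (m - 1) := AdjoinRoot.liftAlgHom_root _ _ _ hζ'
  obtain ⟨i, hi⟩ := (FiniteField.bijective_frobeniusAlgHom_pow (ZMod p)
    (AdjoinRoot (minpoly (ZMod p) g))).2 σ
  have hi' : σ ζ = ζ ^ (p ^ i.1) := by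
    rw [← hi]
    simp only [AlgHom.coe_pow, FiniteField.coe_frobeniusAlgHom, pow_iterate, ZMod.card]
  refine ⟨i.1, ?_⟩
  have h2 : ζ ^ (p ^ i.1 + 1) = 1 := by
    rw [pow_succ, ← hi', hσ, ← pow_succ, Nat.sub_add_cancel hm, hζm]
  calc g ^ (p ^ i.1 + 1) = (ι ζ) ^ (p ^ i.1 + 1) := by rw [hιζ]
    _ = ι (ζ ^ (p ^ i.1 + 1)) := (map_pow ι ζ _).symm
    _ = 1 := by rw [h2, map_one]

/-! ### Invariant subspaces -/

/-- `W` is invariant under `g`. -/
def Inv (g : Module.End (ZMod p) V) (W : Submodule (ZMod p) V) : Prop := ∀ w ∈ W, g w ∈ W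

omit [Finite V] in
theorem Inv.pow {g : Module.End (ZMod p) V} {W : Submodule (ZMod p) V} (h : Inv g W) (j : ℕ) :
    Inv (g ^ j) W := by
  induction j with
  | zero => intro w hw; simpa using hw
  | succ j ih =>
    intro w hw
    rw [pow_succ]
    exact ih _ (h w hw)

omit [Finite V] in
theorem Inv.inf {g : Module.End (ZMod p) V} {W W' : Submodule (ZMod p) V} (h : Inv g W)
    (h' : Inv g W') : Inv g (W ⊓ W') := fun w hw => ⟨h w hw.1, h' w hw.2⟩

omit [Finite V] in
theorem inv_bot (g : Module.End (ZMod p) V) : Inv g ⊥ := by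
  intro w hw
  rw [Submodule.mem_bot] at hw ⊢
  rw [hw, map_zero]

omit [Finite V] in
/-- the orthogonal complement of an invariant subspace is invariant -/
theorem Inv.orth {B : LinearMap.BilinForm (ZMod p) V} {g h : Module.End (ZMod p) V}
    (hgh : g * h = 1) (hB : ∀ u v, B (g u) (g v) = B u v) {W : Submodule (ZMod p) V}
    (hW : Inv h W) : Inv g (B.orthogonal W) := by
  intro v hv
  rw [LinearMap.BilinForm.mem_orthogonal_iff] at hv ⊢
  intro n hn
  have hghv : g (h n) = n := by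
    have := congrArg (fun e : Module.End (ZMod p) V => e n) hgh
    simpa using this
  rw [← hghv, hB]
  exact hv _ (hW n hn)


omit [Finite V] in
/-- **Maschke** for a single operator of finite order prime to `p`. -/
theorem maschke (g : Module.End (ZMod p) V) (m : ℕ) (hm : 0 < m) (hgm : g ^ m = 1)
    (hcop : (m : ZMod p) ≠ 0) {W₁ W : Submodule (ZMod p) V} (h1 : Inv g W₁) (hW : Inv g W)
    (hle : W₁ ≤ W) :
    ∃ W₂ : Submodule (ZMod p) V, Inv g W₂ ∧ W₂ ≤ W ∧ W₁ ⊓ W₂ = ⊥ ∧ W₁ ⊔ W₂ = W := by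
  obtain ⟨C, hC⟩ := Submodule.exists_isCompl W₁
  set π₀ : Module.End (ZMod p) V := W₁.subtype ∘ₗ (Submodule.projectionOnto W₁ C hC) with hπ₀
  have hπ₀mem : ∀ v, π₀ v ∈ W₁ := fun v => by
    rw [hπ₀]; exact Submodule.coe_mem _
  have hπ₀id : ∀ w ∈ W₁, π₀ w = w := fun w hw => by
    rw [hπ₀]
    have := Submodule.projectionOnto_apply_of_mem_left hC hw
    simp only [LinearMap.coe_comp, Submodule.coe_subtype, Function.comp_apply]
    rw [this]
  set h : Module.End (ZMod p) V := g ^ (m - 1) with hh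
  have hgh : g * h = 1 := by rw [hh, ← pow_succ', Nat.sub_add_cancel hm, hgm]
  have hhg : h * g = 1 := by rw [hh, ← pow_succ, Nat.sub_add_cancel hm, hgm]
  have hcomm : Commute g h := by rw [hh]; exact (Commute.refl g).pow_right _
  have hhm : h ^ m = 1 := by rw [hh, ← pow_mul, mul_comm, pow_mul, hgm, one_pow]
  have hhg' : ∀ j, h ^ j * g ^ j = 1 := by
    intro j
    rw [← hcomm.symm.mul_pow, hhg, one_pow]
  let T : ℕ → Module.End (ZMod p) V := fun j => h ^ j * π₀ * g ^ j
  have hT0 : T m = T 0 := by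
    simp only [T, hhm, hgm, pow_zero]
  have hshift : ∀ j, g * T (j + 1) = T j * g := by
    intro j
    simp only [T]
    rw [pow_succ' h j, pow_succ (g) j]
    calc g * (h * h ^ j * π₀ * (g ^ j * g)) = (g * h) * h ^ j * π₀ * g ^ j * g := by
          simp only [mul_assoc]
      _ = h ^ j * π₀ * g ^ j * g := by rw [hgh, one_mul]
  set S : Module.End (ZMod p) V := ∑ j ∈ Finset.range m, T j with hS
  have hSg : g * S = S * g := by
    obtain ⟨n, rfl⟩ : ∃ n, m = n + 1 := ⟨m - 1, by omega⟩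
    rw [hS, Finset.mul_sum, Finset.sum_mul]
    rw [Finset.sum_range_succ' (fun j => g * T j), Finset.sum_range_succ (fun j => T j * g)]
    congr 1
    · exact Finset.sum_congr rfl (fun j _ => hshift j)
    · rw [← hT0, hshift]
  set c : ZMod p := (m : ZMod p)⁻¹ with hc
  set P : Module.End (ZMod p) V := c • S with hP
  have hPg : ∀ v, P (g v) = g (P v) := by
    intro v
    have h2 : P * g = g * P := by
      rw [hP, smul_mul_assoc, mul_smul_comm, hSg]
    have := congrArg (fun e : Module.End (ZMod p) V => e v) h2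
    simpa using this
  have hTmem : ∀ j v, T j v ∈ W₁ := by
    intro j v
    simp only [T, Module.End.mul_apply]
    have : Inv (h ^ j) W₁ := by
      rw [hh, ← pow_mul]; exact h1.pow _
    exact this _ (hπ₀mem _)
  have hPmem : ∀ v, P v ∈ W₁ := by
    intro v
    rw [hP, LinearMap.smul_apply, hS, LinearMap.sum_apply]
    exact W₁.smul_mem _ (W₁.sum_mem (fun j _ => hTmem j v))
  have hTid : ∀ j, ∀ w ∈ W₁, T j w = w := by
    intro j w hw
    simp only [T, Module.End.mul_apply]
    rw [hπ₀id _ (h1.pow j w hw)]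
    have := congrArg (fun e : Module.End (ZMod p) V => e w) (hhg' j)
    simpa using this
  have hPid : ∀ w ∈ W₁, P w = w := by
    intro w hw
    rw [hP, LinearMap.smul_apply, hS, LinearMap.sum_apply]
    rw [Finset.sum_congr rfl (fun j _ => hTid j w hw)]
    rw [Finset.sum_const, Finset.card_range, ← Nat.cast_smul_eq_nsmul (ZMod p), smul_smul, hc,
      inv_mul_cancel₀ hcop, one_smul]
  refine ⟨W ⊓ LinearMap.ker P, ?_, inf_le_left, ?_, ?_⟩
  · intro w hw
    refine ⟨hW w hw.1, ?_⟩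
    have := hw.2
    show g w ∈ LinearMap.ker P
    have h5 : w ∈ LinearMap.ker P := this
    rw [LinearMap.mem_ker] at h5 ⊢
    rw [hPg, h5, map_zero]
  · rw [eq_bot_iff]
    intro w hw
    have h3 : P w = 0 := LinearMap.mem_ker.1 hw.2.2
    rw [hPid w hw.1] at h3
    rw [h3]; exact Submodule.zero_mem _
  · apply le_antisymm
    · exact sup_le hle inf_le_left
    · intro w hw
      have h4 : w = P w + (w - P w) := by abel
      rw [h4]
      refine Submodule.add_mem_sup (hPmem w) ⟨?_, ?_⟩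
      · exact W.sub_mem hw (hle (hPmem w))
      · show w - P w ∈ LinearMap.ker P
        rw [LinearMap.mem_ker, map_sub, hPid _ (hPmem w), sub_self]


/-- a free action of `ℤ/m` on the nonzero vectors of an invariant subspace: `m ∣ |W| - 1`. -/
theorem count (g : Module.End (ZMod p) V) (m : ℕ) (hm : 0 < m) (hgm : g ^ m = 1)
    (hfpf : ∀ j, 0 < j → j < m → ∀ v, (g ^ j) v = v → v = 0)
    {W : Submodule (ZMod p) V} (hW : Inv g W) :
    m ∣ p ^ (finrank (ZMod p) W) - 1 := by
  classical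
  haveI : NeZero m := ⟨hm.ne'⟩
  let X := {v : V // v ∈ W ∧ v ≠ 0}
  have hinj : ∀ j : ℕ, ∀ v, (g ^ j) v = 0 → v = 0 := by
    intro j v hv
    have h1 : (g ^ (j * m)) v = v := by
      rw [mul_comm, pow_mul, hgm, one_pow]; rfl
    obtain ⟨n, rfl⟩ : ∃ n, m = n + 1 := ⟨m - 1, by omega⟩
    have h2 : g ^ (j * (n + 1)) = g ^ (j * n) * g ^ j := by rw [← pow_add]; ring_nf
    rw [h2, Module.End.mul_apply, hv, map_zero] at h1
    exact h1.symm
  letI : MulAction (Multiplicative (ZMod m)) X :=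
    { smul := fun a x => ⟨(g ^ (Multiplicative.toAdd a).val) x.1,
        hW.pow _ _ x.2.1, fun h0 => x.2.2 (hinj _ _ h0)⟩
      one_smul := by
        intro x
        apply Subtype.ext
        show (g ^ (Multiplicative.toAdd (1 : Multiplicative (ZMod m))).val) x.1 = x.1
        simp
      mul_smul := by
        intro a b x
        apply Subtype.ext
        show (g ^ (Multiplicative.toAdd (a * b)).val) x.1 =
          (g ^ (Multiplicative.toAdd a).val) ((g ^ (Multiplicative.toAdd b).val) x.1)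
        rw [toAdd_mul, ZMod.val_add, ← pow_eq_pow_mod _ hgm, pow_add]
        rfl }
  have hsmul : ∀ (a : Multiplicative (ZMod m)) (x : X),
      ((a • x : X) : V) = (g ^ (Multiplicative.toAdd a).val) x.1 := fun _ _ => rfl
  have hfree : ∀ (a : Multiplicative (ZMod m)) (x : X), a • x = x → a = 1 := by
    intro a x hax
    have h1 : (g ^ (Multiplicative.toAdd a).val) x.1 = x.1 := by
      rw [← hsmul, hax]
    by_contra hne
    have h2 : 0 < (Multiplicative.toAdd a).val := by
      rw [Nat.pos_iff_ne_zero, Ne, ZMod.val_eq_zero]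
      intro h3
      apply hne
      exact Multiplicative.toAdd.injective h3
    exact x.2.2 (hfpf _ h2 (ZMod.val_lt _) _ h1)
  have hst : ∀ x : X, MulAction.stabilizer (Multiplicative (ZMod m)) x = ⊥ := by
    intro x
    rw [eq_bot_iff]
    intro k hk
    rw [MulAction.mem_stabilizer_iff] at hk
    exact Subgroup.mem_bot.mpr (hfree k x hk)
  have e := MulAction.selfEquivOrbitsQuotientProd hst
  have hX : m ∣ Nat.card X := by
    rw [Nat.card_congr e, Nat.card_prod]
    have : Nat.card (Multiplicative (ZMod m)) = m := by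
      rw [Nat.card_congr Multiplicative.toAdd, Nat.card_zmod]
    rw [this]
    exact dvd_mul_left _ _
  -- `|W| = |X| + 1`
  have e2 : Option {w : W // w ≠ 0} ≃ W := Equiv.optionSubtypeNe 0
  have e3 : {w : W // w ≠ 0} ≃ X :=
    { toFun := fun w => ⟨w.1.1, w.1.2, fun h0 => w.2 (Subtype.ext h0)⟩
      invFun := fun x => ⟨⟨x.1, x.2.1⟩, fun h0 => x.2.2 (congrArg Subtype.val h0)⟩
      left_inv := fun w => rfl
      right_inv := fun x => rfl }
  have hcard : Nat.card W = Nat.card X + 1 := by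
    rw [← Nat.card_congr e2, Finite.card_option, Nat.card_congr e3]
  have hcard2 : Nat.card W = p ^ finrank (ZMod p) W := by
    rw [Module.natCard_eq_pow_finrank (K := ZMod p), Nat.card_zmod]
  rw [← hcard2, hcard, Nat.add_sub_cancel]
  exact hX


/-- splitting off a nondegenerate subspace -/
theorem split (B : LinearMap.BilinForm (ZMod p) V) (hrefl : B.IsRefl)
    {W₀ W : Submodule (ZMod p) V} (hle : W₀ ≤ W) (h0 : Disjoint W₀ (B.orthogonal W₀))
    (hW : Disjoint W (B.orthogonal W)) :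
    W₀ ⊔ (W ⊓ B.orthogonal W₀) = W ∧ W₀ ⊓ (W ⊓ B.orthogonal W₀) = ⊥ ∧
    Disjoint (W ⊓ B.orthogonal W₀) (B.orthogonal (W ⊓ B.orthogonal W₀)) ∧
    finrank (ZMod p) W = finrank (ZMod p) W₀ + finrank (ZMod p) ↥(W ⊓ B.orthogonal W₀) := by
  have hcompl : IsCompl W₀ (B.orthogonal W₀) :=
    (LinearMap.BilinForm.isCompl_orthogonal_iff_disjoint hrefl).2 h0
  have h1 : W₀ ⊔ (W ⊓ B.orthogonal W₀) = W := by
    have := sup_inf_assoc_of_le (B.orthogonal W₀) hle
    rw [hcompl.sup_eq_top, top_inf_eq] at this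
    rw [inf_comm]
    exact this.symm
  have h2 : W₀ ⊓ (W ⊓ B.orthogonal W₀) = ⊥ := by
    rw [eq_bot_iff]
    intro x hx
    have : x ∈ W₀ ⊓ B.orthogonal W₀ := ⟨hx.1, hx.2.2⟩
    rwa [h0.eq_bot] at this
  refine ⟨h1, h2, ?_, ?_⟩
  · rw [disjoint_iff, eq_bot_iff]
    intro x hx
    obtain ⟨⟨hxW, hx0⟩, hx'⟩ := hx
    have : x ∈ W ⊓ B.orthogonal W := by
      refine Submodule.mem_inf.2 ⟨hxW, ?_⟩
      rw [LinearMap.BilinForm.mem_orthogonal_iff]
      intro n hn
      rw [← h1] at hn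
      obtain ⟨a, ha, b, hb, rfl⟩ := Submodule.mem_sup.1 hn
      rw [map_add, LinearMap.add_apply]
      have e1 : B a x = 0 := (LinearMap.BilinForm.mem_orthogonal_iff.1 hx0) a ha
      have e2 : B b x = 0 := (LinearMap.BilinForm.mem_orthogonal_iff.1 hx') b hb
      rw [e1, e2, add_zero]
    rwa [hW.eq_bot] at this
  · have := Submodule.finrank_sup_add_finrank_inf_eq W₀ (W ⊓ B.orthogonal W₀)
    rw [h1, h2, finrank_bot, add_zero] at this
    exact this

/-- two complementary totally isotropic subspaces of a nondegenerate space have the same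
dimension -/
theorem iso_pair (B : LinearMap.BilinForm (ZMod p) V) (hnd : B.Nondegenerate)
    {W₁ W₂ W : Submodule (ZMod p) V} (hsup : W₁ ⊔ W₂ = W) (hinf : W₁ ⊓ W₂ = ⊥)
    (h1 : W₁ ≤ B.orthogonal W₁) (h2 : W₂ ≤ B.orthogonal W₂)
    (hW : Disjoint W (B.orthogonal W)) :
    finrank (ZMod p) W₁ = finrank (ZMod p) W₂ := by
  have key : ∀ (U₁ U₂ : Submodule (ZMod p) V), U₁ ⊔ U₂ = W → U₁ ⊓ U₂ = ⊥ →
      U₁ ≤ B.orthogonal U₁ → U₂ ≤ B.orthogonal U₂ →
      finrank (ZMod p) U₂ ≤ finrank (ZMod p) U₁ := by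
    intro U₁ U₂ hs hi hU1 hU2
    -- `W ⊓ U₁^⊥ = U₁`
    have hle1 : U₁ ≤ W := hs ▸ le_sup_left
    have hle2 : U₂ ≤ W := hs ▸ le_sup_right
    have e : W ⊓ B.orthogonal U₁ ≤ U₁ := by
      intro w hw
      obtain ⟨hwW, hw1⟩ := hw
      rw [← hs] at hwW
      obtain ⟨a, ha, b, hb, rfl⟩ := Submodule.mem_sup.1 hwW
      have hb1 : b ∈ B.orthogonal U₁ := by
        have : b = (a + b) - a := by abel
        rw [this]
        exact Submodule.sub_mem _ hw1 (hU1 ha)
      have hbW : b ∈ W ⊓ B.orthogonal W := by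
        refine Submodule.mem_inf.2 ⟨hle2 hb, ?_⟩
        rw [LinearMap.BilinForm.mem_orthogonal_iff]
        intro n hn
        rw [← hs] at hn
        obtain ⟨a', ha', b', hb', rfl⟩ := Submodule.mem_sup.1 hn
        rw [map_add, LinearMap.add_apply]
        have e1 : B a' b = 0 := (LinearMap.BilinForm.mem_orthogonal_iff.1 hb1) a' ha'
        have e2 : B b' b = 0 := (LinearMap.BilinForm.mem_orthogonal_iff.1 (hU2 hb)) b' hb'
        rw [e1, e2, add_zero]
      rw [hW.eq_bot, Submodule.mem_bot] at hbW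
      rw [hbW, add_zero]
      exact ha
    have hd := Submodule.finrank_sup_add_finrank_inf_eq W (B.orthogonal U₁)
    have hle : finrank (ZMod p) ↥(W ⊔ B.orthogonal U₁) ≤ finrank (ZMod p) V :=
      Submodule.finrank_le _
    have horth := LinearMap.BilinForm.finrank_orthogonal hnd U₁
    have hW12 := Submodule.finrank_sup_add_finrank_inf_eq U₁ U₂
    rw [hs, hi, finrank_bot, add_zero] at hW12
    have hU1V : finrank (ZMod p) U₁ ≤ finrank (ZMod p) V := Submodule.finrank_le _
    have he := Submodule.finrank_mono e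
    omega
  exact le_antisymm (key W₂ W₁ (by rw [sup_comm]; exact hsup) (by rw [inf_comm]; exact hinf) h2 h1)
    (key W₁ W₂ hsup hinf h1 h2)


/-- `a ^ k = ±1` -/
def PM {m : ℕ} (a : ZMod m) (k : ℕ) : Prop := a ^ k = 1 ∨ a ^ k = -1

theorem PM.add {m : ℕ} {a : ZMod m} {k l : ℕ} (hk : PM a k) (hl : PM a l) : PM a (k + l) := by
  unfold PM at *
  rw [pow_add]
  rcases hk with hk | hk <;> rcases hl with hl | hl <;> rw [hk, hl] <;> simp

theorem pm_zero {m : ℕ} (a : ZMod m) : PM a 0 := Or.inl (pow_zero a)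

/-- number theory: `a ^ s = -1`, `a ^ D = 1`, `m > 2` imply `D = 2k` with `a ^ k = ±1`. -/
theorem nt {m : ℕ} (hm : 2 < m) (a : ZMod m) (s D : ℕ) (hs : a ^ s = -1) (hD : a ^ D = 1) :
    ∃ k, D = 2 * k ∧ PM a k := by
  haveI : Fact (2 < m) := ⟨hm⟩
  have hne : (-1 : ZMod m) ≠ 1 := ZMod.neg_one_ne_one
  have h2s : a ^ (2 * s) = 1 := by rw [mul_comm, pow_mul, hs]; simp
  have hdD : orderOf a ∣ D := orderOf_dvd_of_pow_eq_one hD
  have hd2s : orderOf a ∣ 2 * s := orderOf_dvd_of_pow_eq_one h2s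
  have hds : ¬ orderOf a ∣ s := by
    intro h
    apply hne
    rw [← hs]
    exact orderOf_dvd_iff_pow_eq_one.1 h
  -- the order is even
  have heven : 2 ∣ orderOf a := by
    by_contra hodd
    have hcop : Nat.Coprime (orderOf a) 2 := by
      rw [Nat.coprime_comm, Nat.Prime.coprime_iff_not_dvd Nat.prime_two]; exact hodd
    exact hds (hcop.dvd_of_dvd_mul_left hd2s)
  obtain ⟨e, he⟩ := heven
  have hes : e ∣ s := by
    rw [he] at hd2s
    exact Nat.dvd_of_mul_dvd_mul_left (by norm_num) hd2s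
  obtain ⟨r, hr⟩ := hes
  have hrodd : ¬ 2 ∣ r := by
    rintro ⟨r', rfl⟩
    apply hds
    rw [hr, he]
    exact ⟨r', by ring⟩
  have hae : a ^ e = -1 := by
    obtain ⟨r', hr'⟩ : ∃ r', r = 2 * r' + 1 := ⟨r / 2, by omega⟩
    have h1 : a ^ s = a ^ e := by
      rw [hr, hr']
      have : e * (2 * r' + 1) = (2 * e) * r' + e := by ring
      rw [this, pow_add, pow_mul, ← he, pow_orderOf_eq_one, one_pow, one_mul]
    rw [← h1, hs]
  obtain ⟨t, ht⟩ := hdD
  refine ⟨e * t, by rw [ht, he]; ring, ?_⟩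
  unfold PM
  rw [pow_mul, hae]
  exact neg_one_pow_eq_or _ t

theorem pm_of_dvd_sub {m p k : ℕ} (hp : 0 < p) (h : m ∣ p ^ k - 1) : ((p : ZMod m)) ^ k = 1 := by
  have h1 : ((p ^ k - 1 : ℕ) : ZMod m) = 0 := (ZMod.natCast_eq_zero_iff _ _).2 h
  have h2 : 1 ≤ p ^ k := Nat.one_le_pow _ _ hp
  rw [Nat.cast_sub h2, Nat.cast_pow, Nat.cast_one, sub_eq_zero] at h1
  exact h1

theorem pm_of_dvd_add {m p k : ℕ} (h : m ∣ p ^ k + 1) : ((p : ZMod m)) ^ k = -1 := by
  have h1 : ((p ^ k + 1 : ℕ) : ZMod m) = 0 := (ZMod.natCast_eq_zero_iff _ _).2 h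
  rw [Nat.cast_add, Nat.cast_pow, Nat.cast_one] at h1
  exact eq_neg_of_add_eq_zero_left h1

theorem dvd_of_pm {m p k : ℕ} (hp : 0 < p) (h : PM (p : ZMod m) k) :
    m ∣ p ^ k + 1 ∨ m ∣ p ^ k - 1 := by
  rcases h with h | h
  · right
    rw [← ZMod.natCast_eq_zero_iff]
    have h2 : 1 ≤ p ^ k := Nat.one_le_pow _ _ hp
    rw [Nat.cast_sub h2, Nat.cast_pow, Nat.cast_one, h, sub_self]
  · left
    rw [← ZMod.natCast_eq_zero_iff]
    rw [Nat.cast_add, Nat.cast_pow, Nat.cast_one, h, neg_add_cancel]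


omit [Finite V] in
theorem restrict_pow_apply (g : Module.End (ZMod p) V) {W : Submodule (ZMod p) V}
    (hW : ∀ x ∈ W, g x ∈ W) (j : ℕ) (w : W) :
    (((g.restrict hW) ^ j) w : V) = (g ^ j) w.1 := by
  induction j generalizing w with
  | zero => simp
  | succ j ih =>
    rw [pow_succ, pow_succ, Module.End.mul_apply, Module.End.mul_apply, ih]
    rfl

/-- the irreducible case -/
theorem irr_case (B : LinearMap.BilinForm (ZMod p) V) (g : Module.End (ZMod p) V)
    (hB : ∀ u v, B (g u) (g v) = B u v) (m : ℕ) (hm2 : 2 < m) (hgm : g ^ m = 1)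
    (hfpf : ∀ j, 0 < j → j < m → ∀ v, (g ^ j) v = v → v = 0)
    {W : Submodule (ZMod p) V} (hW0 : Inv g W) (hne : W ≠ ⊥)
    (hdisj : Disjoint W (B.orthogonal W))
    (hirr : ∀ W₁, Inv g W₁ → W₁ ≤ W → W₁ = ⊥ ∨ W₁ = W) :
    ∃ k, finrank (ZMod p) W = 2 * k ∧ PM (p : ZMod m) k := by
  have hW : ∀ x ∈ W, g x ∈ W := hW0
  have hp : p.Prime := Fact.out
  have hm : 0 < m := by omega
  haveI : Nontrivial W := Submodule.nontrivial_iff_ne_bot.2 hne
  have hgm' : (g.restrict hW) ^ m = 1 := by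
    ext w
    rw [restrict_pow_apply, hgm]; rfl
  have hB' : ∀ u v : W, (B.restrict W) ((g.restrict hW) u) ((g.restrict hW) v) =
      (B.restrict W) u v := by
    intro u v
    simp only [LinearMap.BilinForm.restrict_apply, LinearMap.domRestrict_apply]
    exact hB _ _
  have hnd' : ∀ v : W, (∀ u : W, (B.restrict W) u v = 0) → v = 0 := by
    intro v hv
    have : (v : V) ∈ W ⊓ B.orthogonal W := by
      refine Submodule.mem_inf.2 ⟨v.2, ?_⟩
      rw [LinearMap.BilinForm.mem_orthogonal_iff]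
      intro n hn
      have := hv ⟨n, hn⟩
      simpa [LinearMap.BilinForm.restrict_apply] using this
    rw [hdisj.eq_bot, Submodule.mem_bot] at this
    exact Subtype.ext this
  have hirr' : ∀ W' : Submodule (ZMod p) W, (∀ w ∈ W', (g.restrict hW) w ∈ W') →
      W' = ⊥ ∨ W' = ⊤ := by
    intro W' hW'
    have h1 : Inv g (W'.map W.subtype) := by
      rintro _ ⟨w, hw, rfl⟩
      exact ⟨(g.restrict hW) w, hW' w hw, rfl⟩
    have h2 : W'.map W.subtype ≤ W := by
      rintro _ ⟨w, _, rfl⟩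
      exact w.2
    rcases hirr _ h1 h2 with h | h
    · left
      apply Submodule.map_injective_of_injective (Submodule.injective_subtype W)
      rw [h, Submodule.map_bot]
    · right
      apply Submodule.map_injective_of_injective (Submodule.injective_subtype W)
      rw [h, Submodule.map_subtype_top]
  obtain ⟨s, hs⟩ := base_case (B.restrict W) (g.restrict hW) m hm hgm' hB' hnd' hirr'
  -- `m ∣ p ^ s + 1`
  obtain ⟨w, hwW, hw0⟩ := (Submodule.ne_bot_iff W).1 hne
  have hw1 : (g ^ (p ^ s + 1)) w = w := by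
    have := restrict_pow_apply g hW (p ^ s + 1) ⟨w, hwW⟩
    rw [hs] at this
    exact this.symm
  have hdvd : m ∣ p ^ s + 1 := by
    rw [pow_eq_pow_mod _ hgm] at hw1
    by_contra hnd
    have h3 : 0 < (p ^ s + 1) % m := by
      rw [Nat.pos_iff_ne_zero]
      intro h4
      exact hnd (Nat.dvd_of_mod_eq_zero h4)
    exact hw0 (hfpf _ h3 (Nat.mod_lt _ hm) w hw1)
  have hcount := count g m hm hgm hfpf hW0
  exact nt hm2 _ s _ (pm_of_dvd_add hdvd) (pm_of_dvd_sub hp.pos hcount)


/-- if no proper nonzero invariant subspace of `W` is nondegenerate, all proper invariant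
subspaces are totally isotropic -/
theorem all_isotropic (B : LinearMap.BilinForm (ZMod p) V) (hrefl : B.IsRefl)
    (g : Module.End (ZMod p) V)
    (hB : ∀ u v, B (g u) (g v) = B u v) (m : ℕ) (hm : 0 < m) (hgm : g ^ m = 1)
    (hcop : (m : ZMod p) ≠ 0) {W : Submodule (ZMod p) V}
    (hno : ∀ W₀, Inv g W₀ → W₀ < W → W₀ ≠ ⊥ → ¬ Disjoint W₀ (B.orthogonal W₀)) :
    ∀ W₁, Inv g W₁ → W₁ < W → W₁ ≤ B.orthogonal W₁ := by
  by_contra hcon
  push Not at hcon
  have hne : {W₁ : Submodule (ZMod p) V | Inv g W₁ ∧ W₁ < W ∧ ¬ W₁ ≤ B.orthogonal W₁}.Nonempty := by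
    obtain ⟨W₁, h1, h2, h3⟩ := hcon
    exact ⟨W₁, h1, h2, h3⟩
  obtain ⟨W₁, ⟨h1, h2, h3⟩, hmin⟩ := wellFounded_lt.has_min _ hne
  have hgh : g * g ^ (m - 1) = 1 := by rw [← pow_succ', Nat.sub_add_cancel hm, hgm]
  have hradinv : Inv g (W₁ ⊓ B.orthogonal W₁) := h1.inf (Inv.orth hgh hB (h1.pow _))
  obtain ⟨W₃, h3inv, h3le, h3inf, h3sup⟩ :=
    maschke g m hm hgm hcop hradinv h1 inf_le_left
  have h3iso : ¬ W₃ ≤ B.orthogonal W₃ := by
    intro hiso
    apply h3
    intro u hu
    rw [LinearMap.BilinForm.mem_orthogonal_iff]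
    intro n hn
    rw [← h3sup] at hu hn
    obtain ⟨r, hr, u₃, hu₃, rfl⟩ := Submodule.mem_sup.1 hu
    obtain ⟨r', hr', n₃, hn₃, rfl⟩ := Submodule.mem_sup.1 hn
    have hn1 : r' + n₃ ∈ W₁ := by rw [← h3sup]; exact Submodule.add_mem_sup hr' hn₃
    -- `B (r' + n₃) (r + u₃) = 0`
    have e1 : B (r' + n₃) r = 0 := (LinearMap.BilinForm.mem_orthogonal_iff.1 hr.2) _ hn1
    have e2 : B r' u₃ = 0 := by
      apply hrefl
      exact (LinearMap.BilinForm.mem_orthogonal_iff.1 hr'.2) _ (h3le hu₃)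
    have e3 : B n₃ u₃ = 0 := (LinearMap.BilinForm.mem_orthogonal_iff.1 (hiso hu₃)) _ hn₃
    rw [map_add (B (r' + n₃)), e1, zero_add, map_add, LinearMap.add_apply, e2, e3, add_zero]
  have h3eq : W₃ = W₁ := by
    by_contra hne3
    have hlt : W₃ < W₁ := lt_of_le_of_ne h3le hne3
    exact hmin W₃ ⟨h3inv, hlt.trans h2, h3iso⟩ hlt
  have hdisj : Disjoint W₁ (B.orthogonal W₁) := by
    rw [disjoint_iff]
    have : W₁ ⊓ B.orthogonal W₁ ≤ W₃ := by rw [h3eq]; exact inf_le_left
    rw [eq_bot_iff, ← h3inf]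
    exact le_inf le_rfl this
  have hne1 : W₁ ≠ ⊥ := by
    rintro rfl
    exact h3 bot_le
  exact hno W₁ h1 h2 hne1 hdisj

/-- the main induction -/
theorem ind (B : LinearMap.BilinForm (ZMod p) V) (halt : B.IsAlt) (hnd : B.Nondegenerate)
    (g : Module.End (ZMod p) V)
    (hB : ∀ u v, B (g u) (g v) = B u v) (m : ℕ) (hm2 : 2 < m) (hgm : g ^ m = 1)
    (hcop : (m : ZMod p) ≠ 0)
    (hfpf : ∀ j, 0 < j → j < m → ∀ v, (g ^ j) v = v → v = 0) :
    ∀ (N : ℕ) (W : Submodule (ZMod p) V), finrank (ZMod p) W = N → Inv g W →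
      Disjoint W (B.orthogonal W) → ∃ k, finrank (ZMod p) W = 2 * k ∧ PM (p : ZMod m) k := by
  have hp : p.Prime := Fact.out
  have hm : 0 < m := by omega
  have hrefl : B.IsRefl := halt.isRefl
  have hgh : g * g ^ (m - 1) = 1 := by rw [← pow_succ', Nat.sub_add_cancel hm, hgm]
  intro N
  induction N using Nat.strong_induction_on with
  | _ N ih =>
  intro W hN hW hdisj
  by_cases hbot : W = ⊥
  · refine ⟨0, ?_, pm_zero _⟩
    rw [hbot, finrank_bot]
  by_cases hsplit : ∃ W₀, Inv g W₀ ∧ W₀ < W ∧ W₀ ≠ ⊥ ∧ Disjoint W₀ (B.orthogonal W₀)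
  · obtain ⟨W₀, h0inv, h0lt, h0ne, h0disj⟩ := hsplit
    obtain ⟨hs1, hs2, hs3, hs4⟩ := split B hrefl h0lt.le h0disj hdisj
    have hlt0 : finrank (ZMod p) W₀ < N := hN ▸ Submodule.finrank_lt_finrank_of_lt h0lt
    have hpos0 : 0 < finrank (ZMod p) W₀ := by
      rw [Module.finrank_pos_iff]
      exact Submodule.nontrivial_iff_ne_bot.2 h0ne
    have hlt' : finrank (ZMod p) ↥(W ⊓ B.orthogonal W₀) < N := by omega
    have hinv' : Inv g (W ⊓ B.orthogonal W₀) := hW.inf (Inv.orth hgh hB (h0inv.pow _))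
    obtain ⟨k₀, hk₀, hpm₀⟩ := ih _ hlt0 W₀ rfl h0inv h0disj
    obtain ⟨k', hk', hpm'⟩ := ih _ hlt' _ rfl hinv' hs3
    exact ⟨k₀ + k', by omega, hpm₀.add hpm'⟩
  · push Not at hsplit
    have hiso := all_isotropic B hrefl g hB m hm hgm hcop
      (fun W₀ a b c => hsplit W₀ a b c)
    by_cases hred : ∃ W₁, Inv g W₁ ∧ W₁ ≠ ⊥ ∧ W₁ < W
    · obtain ⟨W₁, h1inv, h1ne, h1lt⟩ := hred
      obtain ⟨W₂, h2inv, h2le, h12inf, h12sup⟩ := maschke g m hm hgm hcop h1inv hW h1lt.le
      have h2lt : W₂ < W := by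
        refine lt_of_le_of_ne h2le ?_
        rintro rfl
        apply h1ne
        rw [eq_bot_iff, ← h12inf]
        exact le_inf le_rfl h1lt.le
      have hfr := iso_pair B hnd h12sup h12inf (hiso W₁ h1inv h1lt) (hiso W₂ h2inv h2lt) hdisj
      have hd := Submodule.finrank_sup_add_finrank_inf_eq W₁ W₂
      rw [h12sup, h12inf, finrank_bot, add_zero] at hd
      refine ⟨finrank (ZMod p) W₁, by omega, Or.inl ?_⟩
      exact pm_of_dvd_sub hp.pos (count g m hm hgm hfpf h1inv)
    · push Not at hred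
      apply irr_case B g hB m hm2 hgm hfpf hW hbot hdisj
      intro W₁ h1 hle
      by_cases h : W₁ = ⊥
      · exact Or.inl h
      · right
        by_contra hne
        exact absurd (lt_of_le_of_ne hle hne) (hred W₁ h1 h)


/-- **Main linear-algebra theorem**: an isometry `g` of a nondegenerate alternating form on a
`2n`-dimensional `𝔽_p`-space, of order `m` prime to `p`, all of whose nontrivial powers are
fixed-point-free, has `m ∣ p ^ n + 1` or `m ∣ p ^ n - 1`. -/
theorem la_main (B : LinearMap.BilinForm (ZMod p) V) (halt : B.IsAlt) (hnd : B.Nondegenerate)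
    (g : Module.End (ZMod p) V)
    (hB : ∀ u v, B (g u) (g v) = B u v) (m : ℕ) (hm : 0 < m) (hgm : g ^ m = 1)
    (hcop : m.Coprime p)
    (hfpf : ∀ j, 0 < j → j < m → ∀ v, (g ^ j) v = v → v = 0)
    (n : ℕ) (hn : finrank (ZMod p) V = 2 * n) : m ∣ p ^ n + 1 ∨ m ∣ p ^ n - 1 := by
  have hp : p.Prime := Fact.out
  by_cases hm2 : 2 < m
  · have hcop' : (m : ZMod p) ≠ 0 := by
      rw [Ne, ZMod.natCast_eq_zero_iff]
      intro hdvd
      have := Nat.Coprime.eq_one_of_dvd hcop.symm hdvd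
      exact hp.one_lt.ne' this
    have htop : Disjoint (⊤ : Submodule (ZMod p) V) (B.orthogonal ⊤) := by
      rw [LinearMap.BilinForm.orthogonal_top_eq_bot hnd]
      exact disjoint_bot_right
    obtain ⟨k, hk, hpm⟩ := ind B halt hnd g hB m hm2 hgm hcop' hfpf _ ⊤ rfl
      (fun w _ => Submodule.mem_top) htop
    rw [finrank_top] at hk
    have : k = n := by omega
    subst this
    exact dvd_of_pm hp.pos hpm
  · have : m = 1 ∨ m = 2 := by omega
    rcases this with rfl | rfl
    · exact Or.inl (one_dvd _)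
    · left
      have hodd : ¬ 2 ∣ p := by
        intro h2
        have := Nat.Coprime.eq_one_of_dvd hcop h2
        omega
      have hodd' : Odd p := Nat.odd_iff.2 (by omega)
      have : Odd (p ^ n) := hodd'.pow
      exact (this.add_odd odd_one).two_dvd

end Cfsg.Agent.Helper95Symp
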