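import Cfsg.Agent.Lib.Helper95_Symp
import Cfsg.Agent.Lib.Helper1_Frattini
import Cfsg.Prelude.Def_Transfer

/-!
# From extraspecial groups to symplectic spaces

`abs_main`: an automorphism `α` of an extraspecial `p`-group `Q` of order `p ^ (2 n + 1)` with
`α ^ m = 1`, `m` prime to `p`, fixing `Z(Q)` pointwise, all of whose nontrivial powers `α ^ j`
(`0 < j < m`) have fixed points only in `Z(Q)`, satisfies `m ∣ p ^ n + 1` or `m ∣ p ^ n - 1`.
The proof passes to the symplectic `𝔽_p`-space `Q / Z(Q)` and uses `Helper95Symp.la_main`.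
-/
set_option autoImplicit false

namespace Cfsg.Agent.Helper95Symp

open Module
open scoped commutatorElement

section bridge

variable {Q : Type*} [Group Q]

theorem comm_mul_left' (hcl : ∀ a b : Q, ⁅a, b⁆ ∈ Subgroup.center Q) (a a' b : Q) :
    ⁅a * a', b⁆ = ⁅a, b⁆ * ⁅a', b⁆ := by
  have hc : ∀ g, g * ⁅a', b⁆ = ⁅a', b⁆ * g := Subgroup.mem_center_iff.1 (hcl a' b)
  have h1 : ⁅a * a', b⁆ = a * ⁅a', b⁆ * a⁻¹ * ⁅a, b⁆ := by
    simp only [commutatorElement_def]; group
  rw [h1, hc a, mul_inv_cancel_right, ← hc]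

theorem comm_mul_right' (hcl : ∀ a b : Q, ⁅a, b⁆ ∈ Subgroup.center Q) (a b b' : Q) :
    ⁅a, b * b'⁆ = ⁅a, b⁆ * ⁅a, b'⁆ := by
  have hc : ∀ g, g * ⁅a, b'⁆ = ⁅a, b'⁆ * g := Subgroup.mem_center_iff.1 (hcl a b')
  have h1 : ⁅a, b * b'⁆ = ⁅a, b⁆ * (b * ⁅a, b'⁆ * b⁻¹) := by
    simp only [commutatorElement_def]; group
  rw [h1, hc b, mul_inv_cancel_right]

variable {p : ℕ}

/-- the commutator pairing, as a homomorphism in the second variable -/
noncomputable def lam (hcl : ∀ a b : Q, ⁅a, b⁆ ∈ Subgroup.center Q)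
    (κ : Subgroup.center Q →* Multiplicative (ZMod p)) (u : Q) : Q →* Multiplicative (ZMod p) :=
  MonoidHom.mk' (fun v => κ ⟨⁅u, v⁆, hcl u v⟩) (by
    intro v v'
    rw [← map_mul]
    exact congrArg κ (Subtype.ext (comm_mul_right' hcl u v v')))

theorem lam_apply (hcl : ∀ a b : Q, ⁅a, b⁆ ∈ Subgroup.center Q)
    (κ : Subgroup.center Q →* Multiplicative (ZMod p)) (u v : Q) :
    lam hcl κ u v = κ ⟨⁅u, v⁆, hcl u v⟩ := rfl

/-- the commutator pairing on `Q × Q^ab` -/
noncomputable def Lam₁ (hcl : ∀ a b : Q, ⁅a, b⁆ ∈ Subgroup.center Q)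
    (κ : Subgroup.center Q →* Multiplicative (ZMod p)) :
    Q →* (Abelianization Q →* Multiplicative (ZMod p)) :=
  MonoidHom.mk' (fun u => Abelianization.lift (lam hcl κ u)) (by
    intro u u'
    apply Abelianization.hom_ext
    ext v
    simp only [MonoidHom.coe_comp, Function.comp_apply, Abelianization.lift_apply_of,
      MonoidHom.mul_apply, lam_apply]
    rw [← map_mul]
    exact congrArg κ (Subtype.ext (comm_mul_left' hcl u u' v)))

/-- the commutator pairing on `Q^ab × Q^ab` -/
noncomputable def Lam (hcl : ∀ a b : Q, ⁅a, b⁆ ∈ Subgroup.center Q)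
    (κ : Subgroup.center Q →* Multiplicative (ZMod p)) :
    Abelianization Q →* (Abelianization Q →* Multiplicative (ZMod p)) :=
  Abelianization.lift (Lam₁ hcl κ)

theorem Lam_of (hcl : ∀ a b : Q, ⁅a, b⁆ ∈ Subgroup.center Q)
    (κ : Subgroup.center Q →* Multiplicative (ZMod p)) (u v : Q) :
    Lam hcl κ (Abelianization.of u) (Abelianization.of v) = κ ⟨⁅u, v⁆, hcl u v⟩ := by
  rw [Lam, Abelianization.lift_apply_of]
  show Abelianization.lift (lam hcl κ u) (Abelianization.of v) = _
  rw [Abelianization.lift_apply_of, lam_apply]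

theorem center_fixed_pow (α : MulAut Q) (hZ : ∀ c ∈ Subgroup.center Q, α c = c) (j : ℕ) :
    ∀ c ∈ Subgroup.center Q, (α ^ j) c = c := by
  induction j with
  | zero => intro c _; simp
  | succ j ih =>
    intro c hc
    rw [pow_succ, MulAut.mul_apply, hZ c hc, ih c hc]

theorem abs_main_aux [Fact p.Prime] [Finite Q] [Module (ZMod p) (Additive (Abelianization Q))]
    (hQ : Cfsg.IsExtraspecial p Q) (n : ℕ)
    (hn : Nat.card Q = p ^ (2 * n + 1)) (α : MulAut Q) (m : ℕ) (hm : 0 < m) (hαm : α ^ m = 1)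
    (hcop : m.Coprime p)
    (hfix : ∀ j, 0 < j → j < m → ∀ u, (α ^ j) u = u → u ∈ Subgroup.center Q)
    (hZ : ∀ c ∈ Subgroup.center Q, α c = c) : m ∣ p ^ n + 1 ∨ m ∣ p ^ n - 1 := by
  classical
  have hp : p.Prime := Fact.out
  have hcomm : commutator Q = Subgroup.center Q := hQ.1.2.2
  have hfrat : frattini Q = Subgroup.center Q := hQ.1.2.1
  have hcl : ∀ a b : Q, ⁅a, b⁆ ∈ Subgroup.center Q := by
    intro a b
    rw [← hcomm, commutator_def]
    exact Subgroup.commutator_mem_commutator (Subgroup.mem_top _) (Subgroup.mem_top _)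
  have hcyc : IsCyclic (Subgroup.center Q) := isCyclic_of_prime_card hQ.2
  obtain ⟨κ⟩ : Nonempty (Subgroup.center Q ≃* Multiplicative (ZMod p)) := by
    have : ∀ k, Nat.card (Subgroup.center Q) = k →
        Nonempty (Subgroup.center Q ≃* Multiplicative (ZMod k)) := by
      rintro k rfl
      exact ⟨(zmodCyclicMulEquiv hcyc).symm⟩
    exact this p hQ.2
  have hof : ∀ u : Q, Abelianization.of u = 1 ↔ u ∈ Subgroup.center Q := by
    intro u
    rw [← hcomm, ← Abelianization.ker_of, MonoidHom.mem_ker]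
  have hsurj : ∀ a : Abelianization Q, ∃ u : Q, Abelianization.of u = a :=
    fun a => QuotientGroup.mk_surjective a
  have hsurjV : ∀ v : Additive (Abelianization Q), ∃ u : Q,
      Additive.ofMul (Abelianization.of u) = v := by
    intro v
    obtain ⟨u, hu⟩ := hsurj v.toMul
    exact ⟨u, by rw [hu]; rfl⟩
  -- the form
  let F : Additive (Abelianization Q) → Additive (Abelianization Q) → ZMod p :=
    fun v w => (Lam hcl κ.toMonoidHom v.toMul w.toMul).toAdd
  have hFaddl : ∀ v v' w, F (v + v') w = F v w + F v' w := by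
    intro v v' w
    simp only [F, toMul_add, map_mul, MonoidHom.mul_apply, toAdd_mul]
  have hFaddr : ∀ v w w', F v (w + w') = F v w + F v w' := by
    intro v w w'
    simp only [F, toMul_add, map_mul, toAdd_mul]
  have hsmul : ∀ (f : Additive (Abelianization Q) →+ ZMod p) (c : ZMod p)
      (v : Additive (Abelianization Q)), f (c • v) = c • f v := by
    intro f c v
    have := (AddMonoidHom.toZModLinearMap p f).map_smul c v
    rw [AddMonoidHom.coe_toZModLinearMap] at this
    exact this
  let B : LinearMap.BilinForm (ZMod p) (Additive (Abelianization Q)) :=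
    LinearMap.mk₂ (ZMod p) F hFaddl
      (fun c v w => hsmul (AddMonoidHom.mk' (fun v => F v w) (fun v v' => hFaddl v v' w)) c v)
      hFaddr
      (fun c v w => hsmul (AddMonoidHom.mk' (fun w => F v w) (fun w w' => hFaddr v w w')) c w)
  have hBof : ∀ u v : Q, B (Additive.ofMul (Abelianization.of u))
      (Additive.ofMul (Abelianization.of v)) = (κ ⟨⁅u, v⁆, hcl u v⟩).toAdd := by
    intro u v
    show F _ _ = _
    simp only [F, toMul_ofMul]
    rw [Lam_of]
    rfl
  -- the operator
  let φ : Abelianization Q →* Abelianization Q := Abelianization.map α.toMonoidHom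
  let g : Module.End (ZMod p) (Additive (Abelianization Q)) :=
    AddMonoidHom.toZModLinearMap p (MonoidHom.toAdditive φ)
  have hg1 : ∀ u : Q, g (Additive.ofMul (Abelianization.of u)) =
      Additive.ofMul (Abelianization.of (α u)) := by
    intro u
    show Additive.ofMul (φ (Abelianization.of u)) = _
    rw [Abelianization.map_of]
    rfl
  have hgof : ∀ (j : ℕ) (u : Q), (g ^ j) (Additive.ofMul (Abelianization.of u)) =
      Additive.ofMul (Abelianization.of ((α ^ j) u)) := by
    intro j
    induction j with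
    | zero => intro u; simp
    | succ j ih =>
      intro u
      rw [pow_succ, Module.End.mul_apply, hg1, ih, pow_succ, MulAut.mul_apply]
  have hgm : g ^ m = 1 := by
    ext v
    obtain ⟨u, rfl⟩ := hsurjV v
    rw [hgof, hαm]
    rfl
  have hB : ∀ v w, B (g v) (g w) = B v w := by
    intro v w
    obtain ⟨u, rfl⟩ := hsurjV v
    obtain ⟨u', rfl⟩ := hsurjV w
    rw [hg1, hg1, hBof, hBof]
    have : (⟨⁅α u, α u'⁆, hcl _ _⟩ : Subgroup.center Q) = ⟨⁅u, u'⁆, hcl _ _⟩ := by
      apply Subtype.ext
      show ⁅α u, α u'⁆ = ⁅u, u'⁆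
      rw [← map_commutatorElement]
      exact hZ _ (hcl u u')
    rw [this]
  have halt : B.IsAlt := by
    intro v
    obtain ⟨u, rfl⟩ := hsurjV v
    rw [hBof]
    have : (⟨⁅u, u⁆, hcl _ _⟩ : Subgroup.center Q) = 1 := by
      apply Subtype.ext
      show ⁅u, u⁆ = 1
      exact commutatorElement_self u
    rw [this, map_one]
    rfl
  have hker : ∀ u : Q, (∀ v : Q, (κ ⟨⁅u, v⁆, hcl u v⟩).toAdd = 0) → u ∈ Subgroup.center Q := by
    intro u hu
    rw [Subgroup.mem_center_iff]
    intro v
    have h1 : κ ⟨⁅u, v⁆, hcl u v⟩ = 1 := by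
      have := hu v
      exact Multiplicative.toAdd.injective this
    have h2 : (⟨⁅u, v⁆, hcl u v⟩ : Subgroup.center Q) = 1 := by
      apply κ.injective
      rw [h1, map_one]
    have h3 : ⁅u, v⁆ = 1 := congrArg Subtype.val h2
    exact ((commutatorElement_eq_one_iff_commute.1 h3).eq).symm
  have hnd : B.Nondegenerate := by
    constructor
    · intro v hv
      obtain ⟨u, rfl⟩ := hsurjV v
      have : u ∈ Subgroup.center Q := by
        apply hker
        intro v'
        rw [← hBof]
        exact hv _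
      rw [← hof] at this
      rw [this]
      rfl
    · intro v hv
      obtain ⟨u, rfl⟩ := hsurjV v
      have : u ∈ Subgroup.center Q := by
        apply hker
        intro v'
        rw [← hBof]
        have h1 := hv (Additive.ofMul (Abelianization.of v'))
        have h2 := halt.neg_eq (Additive.ofMul (Abelianization.of u))
          (Additive.ofMul (Abelianization.of v'))
        rw [h1] at h2
        exact neg_eq_zero.1 h2
      rw [← hof] at this
      rw [this]
      rfl
  have hfpf : ∀ j, 0 < j → j < m → ∀ v, (g ^ j) v = v → v = 0 := by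
    intro j hj0 hjm v hv
    obtain ⟨u, rfl⟩ := hsurjV v
    rw [hgof] at hv
    have hv' : Abelianization.of ((α ^ j) u) = Abelianization.of u := Additive.ofMul.injective hv
    have hc : u⁻¹ * (α ^ j) u ∈ Subgroup.center Q := by
      rw [← hof, map_mul, map_inv, hv', inv_mul_cancel]
    set c := u⁻¹ * (α ^ j) u with hcdef
    have hβu : (α ^ j) u = u * c := by rw [hcdef, mul_inv_cancel_left]
    have hβc : (α ^ j) c = c := center_fixed_pow α hZ j c hc
    have hpow : ∀ r : ℕ, ((α ^ j) ^ r) u = u * c ^ r := by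
      intro r
      induction r with
      | zero => simp
      | succ r ih =>
        rw [pow_succ, MulAut.mul_apply, hβu, map_mul, ih]
        have : ((α ^ j) ^ r) c = c := by
          rw [← pow_mul]; exact center_fixed_pow α hZ _ c hc
        rw [this, mul_assoc, ← pow_succ]
    have hcm : c ^ m = 1 := by
      have h1 := hpow m
      rw [← pow_mul, mul_comm, pow_mul, hαm, one_pow] at h1
      have h2 : u = u * c ^ m := h1
      exact (mul_eq_left.1 h2.symm)
    have hcp : c ^ p = 1 := by
      have h1 : (⟨c, hc⟩ : Subgroup.center Q) ^ p = 1 := by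
        rw [← hQ.2]; exact pow_card_eq_one'
      exact congrArg Subtype.val h1
    have hc1 : c = 1 := by
      have h1 : orderOf c ∣ m := orderOf_dvd_of_pow_eq_one hcm
      have h2 : orderOf c ∣ p := orderOf_dvd_of_pow_eq_one hcp
      have h3 : orderOf c ∣ 1 := by
        rw [← hcop]; exact Nat.dvd_gcd h1 h2
      exact orderOf_eq_one_iff.1 (Nat.dvd_one.1 h3)
    have hfixu : (α ^ j) u = u := by rw [hβu, hc1, mul_one]
    have := hfix j hj0 hjm u hfixu
    rw [← hof] at this
    rw [this]
    rfl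
  have hcardA : Nat.card (Abelianization Q) = p ^ (2 * n) := by
    have h1 := Subgroup.card_eq_card_quotient_mul_card_subgroup (commutator Q)
    have h2 : Nat.card (commutator Q) = p := by rw [hcomm]; exact hQ.2
    rw [h2, hn, pow_succ] at h1
    exact (Nat.eq_of_mul_eq_mul_right hp.pos h1).symm
  have hfin : finrank (ZMod p) (Additive (Abelianization Q)) = 2 * n := by
    have h1 : Nat.card (Additive (Abelianization Q)) =
        p ^ finrank (ZMod p) (Additive (Abelianization Q)) := by
      rw [Module.natCard_eq_pow_finrank (K := ZMod p), Nat.card_zmod]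
    have h2 : Nat.card (Additive (Abelianization Q)) = p ^ (2 * n) := by
      rw [← hcardA]; rfl
    rw [h1] at h2
    exact Nat.pow_right_injective hp.two_le h2
  exact la_main B halt hnd g hB m hm hgm hcop hfpf n hfin

/-- **Cyclic `p'`-automorphism groups of extraspecial groups** (abstract form). -/
theorem abs_main [Fact p.Prime] [Finite Q] (hQ : Cfsg.IsExtraspecial p Q) (n : ℕ)
    (hn : Nat.card Q = p ^ (2 * n + 1)) (α : MulAut Q) (m : ℕ) (hm : 0 < m) (hαm : α ^ m = 1)
    (hcop : m.Coprime p)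
    (hfix : ∀ j, 0 < j → j < m → ∀ u, (α ^ j) u = u → u ∈ Subgroup.center Q)
    (hZ : ∀ c ∈ Subgroup.center Q, α c = c) : m ∣ p ^ n + 1 ∨ m ∣ p ^ n - 1 := by
  have hcomm : commutator Q = Subgroup.center Q := hQ.1.2.2
  have hfrat : frattini Q = Subgroup.center Q := hQ.1.2.1
  have hexp : ∀ a : Abelianization Q, a ^ p = 1 := by
    intro a
    obtain ⟨u, rfl⟩ : ∃ u : Q, Abelianization.of u = a := QuotientGroup.mk_surjective a
    rw [← map_pow, ← MonoidHom.mem_ker, Abelianization.ker_of, hcomm, ← hfrat]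
    exact Cfsg.Agent.Lib.Helper1_Frattini.pow_mem_frattini_of_isPGroup hQ.1.1 u
  exact @abs_main_aux Q _ p _ _
    (AddCommGroup.zmodModule (fun v => congrArg Additive.ofMul (hexp v.toMul)))
    hQ n hn α m hm hαm hcop hfix hZ

end bridge

end Cfsg.Agent.Helper95Symp
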