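import Mathlib
import Cfsg.Agent.Lib.Helper18_TD4Struct
import Cfsg.Agent.Lib.Helper95_TD4Inv_RANK

/-!
# S2183 market (architect helper23), package PARTC (helper95)

A long root element `X 23 1` of `D₄(K)` is not conjugate to the short root element
`yS dc pi eps f (18, 3) 1 = X 18 1 * (X 13 1 * X 12 1)`: already not in `GL₂₈(K)`, since
`rank (X 23 1 - 1) ≤ 10 < 11 ≤ rank (X 18 1 * X 13 1 * X 12 1 - 1)` in the adjoint representation, in every
characteristic (`Helper95_TD4Inv_RANK.not_conj_core`).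
-/

set_option autoImplicit false

namespace Cfsg.Agent.Lib.Helper95_TD4Inv_PARTC

open Cfsg Cfsg.Lie Cfsg.Agent.Lib.Helper18_ChevGL Cfsg.Agent.Lib.Helper18_ChevUni
  Cfsg.Agent.Lib.Helper18_ChevN
  Cfsg.Agent.Lib.Helper36_TwistU Cfsg.Agent.Lib.Helper36_TwistW
  Cfsg.Agent.Lib.Helper36_TwistTabD4 Cfsg.Agent.Lib.Helper36_TwistD4 Cfsg.Agent.Lib.Helper18_TD4Swap
  Cfsg.Agent.Lib.Helper18_TD4Struct

theorem not_conj {K : Type*} [Field K] (f : K →+* K) (g : GL chevD4.Idx K) (hg : g ∈ chevD4.group K) :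
    g * yS dc pi eps f (18, 3) 1 * g⁻¹ ≠ X 23 1 := by
  intro h
  rw [yS_a, map_one, map_one] at h
  have h' := congrArg (fun u : GL chevD4.Idx K => (u : Matrix chevD4.Idx chevD4.Idx K)) h
  simp only [Units.val_mul, xGL_coe] at h'
  exact Cfsg.Agent.Lib.Helper95_TD4Inv_RANK.not_conj_core K g h'

end Cfsg.Agent.Lib.Helper95_TD4Inv_PARTC
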