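import Mathlib
import Cfsg.Prelude.Def_HallClasses
import Cfsg.Agent.Lib.Helper34_Sylow
import Cfsg.Agent.S0071

/-!
# Wielandt: `D_π` from a Hall subgroup `H = H_σ × H_τ` with `H_σ` nilpotent and `G ∈ D_τ`

Core step: if `P` is a Sylow `p`-subgroup of `G` centralized by `T`, and every `τ`-subgroup of `G`
lies in a conjugate of `T` (`p ∉ τ`), then every `(τ ∪ {p})`-subgroup lies in a conjugate of `P ⊔ T`.
-/

set_option autoImplicit false

namespace Cfsg.Agent.Helper95WielandtD

open Subgroup Cfsg Cfsg.Agent.Lib.Helper34_Sylow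

variable {G : Type*} [Group G]

/-- every `τ`-subgroup lies in a conjugate of `T`. -/
def ConjInto (τ : Set ℕ) (T : Subgroup G) : Prop :=
  ∀ N : Subgroup G, IsPiSubgroup τ N → ∃ g : G, N ≤ cj g T

theorem index_cj (g : G) (U : Subgroup G) : (cj g U).index = U.index :=
  Subgroup.index_map_equiv U (MulAut.conj g)

/-- a subgroup containing a Sylow `q`-subgroup for every prime `q` is everything. -/
theorem eq_top_of_forall_sylow_le {L : Type*} [Group L] [Finite L] (M : Subgroup L)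
    (h : ∀ (q : ℕ) [Fact q.Prime] (S : Sylow q L), (S : Subgroup L) ≤ M) : M = ⊤ := by
  rw [← index_eq_one]
  by_contra hne
  obtain ⟨q, hq, hqd⟩ := Nat.exists_prime_and_dvd hne
  have : Fact q.Prime := ⟨hq⟩
  obtain ⟨S⟩ : Nonempty (Sylow q L) := inferInstance
  have h1 : M.index ∣ (S : Subgroup L).index := index_dvd_of_le (h q S)
  exact S.not_dvd_index (hqd.trans h1)

section Core

variable [Finite G] {p : ℕ} [hp : Fact p.Prime] {τ : Set ℕ} {P T : Subgroup G}

/-- a Sylow `q`-subgroup of `G` inside `T`, for `q ∈ τ`. -/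
theorem exists_sylow_le (hC : ConjInto τ T) {q : ℕ} (hq : q.Prime) (hqτ : q ∈ τ) :
    ∃ R : Subgroup G, IsPGroup q R ∧ ¬ q ∣ R.index ∧ R ≤ T := by
  have : Fact q.Prime := ⟨hq⟩
  obtain ⟨S⟩ : Nonempty (Sylow q G) := inferInstance
  have hS : IsPiSubgroup τ (S : Subgroup G) := by
    intro r hr hrd
    obtain ⟨n, hn⟩ := IsPGroup.iff_card.mp S.2
    rw [hn] at hrd
    have := (Nat.prime_dvd_prime_iff_eq hr hq).mp (hr.dvd_of_dvd_pow hrd)
    rw [this]; exact hqτ
  obtain ⟨g, hg⟩ := hC _ hS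
  refine ⟨cj g⁻¹ S, isPGroup_cj S.2, ?_, cj_le_iff.mpr (by rwa [inv_inv])⟩
  rw [index_cj]
  exact S.not_dvd_index

/-- Lemma β′: a `τ`-element normalizing a `p`-subgroup centralizes it. -/
theorem mem_centralizer_of_mem_normalizer (hP : IsPGroup p P) (hPi : ¬ p ∣ P.index)
    (hTP : T ≤ centralizer (P : Set G)) (hC : ConjInto τ T)
    {R : Subgroup G} (hR : IsPGroup p R) {y : G} (hy : y ∈ normalizer (R : Set G))
    (hyτ : ∀ q : ℕ, q.Prime → q ∣ orderOf y → q ∈ τ) : y ∈ centralizer (R : Set G) := by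
  -- `R ≤ P^h`
  obtain ⟨h, -, hh⟩ := exists_cj_le_of_relIndex (H := ⊤) hP (by rwa [relIndex_top_right])
    (le_top : R ≤ ⊤) hR
  have hRP : R ≤ cj h⁻¹ P := cj_le_iff.mp hh
  have hT' : cj h⁻¹ T ≤ centralizer (R : Set G) := by
    calc cj h⁻¹ T ≤ cj h⁻¹ (centralizer (P : Set G)) := cj_mono hTP
      _ = centralizer ((cj h⁻¹ P : Subgroup G) : Set G) := cj_centralizer _ _
      _ ≤ centralizer (R : Set G) := centralizer_le hRP
  have key : ((centralizer (R : Set G)).subgroupOf (zpowers y)) = ⊤ := by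
    apply eq_top_of_forall_sylow_le
    intro q hq S
    by_cases hS : (S : Subgroup (zpowers y)) = ⊥
    · rw [hS]; exact bot_le
    · -- `q ∈ τ`
      have hqd : q ∣ orderOf y := by
        obtain ⟨n, hn⟩ := IsPGroup.iff_card.mp S.2
        have hn0 : n ≠ 0 := by
          rintro rfl
          apply hS
          rw [pow_zero] at hn
          exact (Subgroup.card_eq_one).mp hn
        have h1 : q ∣ Nat.card (S : Subgroup (zpowers y)) := by
          rw [hn]; exact dvd_pow_self q hn0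
        have h2 := Subgroup.card_subgroup_dvd_card (S : Subgroup (zpowers y))
        rw [Nat.card_zpowers] at h2
        exact h1.trans h2
      have hqτ := hyτ q hq.out hqd
      obtain ⟨R₁, hR₁, hR₁i, hR₁T⟩ := exists_sylow_le hC hq.out hqτ
      have hR₁c : cj h⁻¹ R₁ ≤ centralizer (R : Set G) := (cj_mono hR₁T).trans hT'
      have hR₁n : cj h⁻¹ R₁ ≤ normalizer (R : Set G) :=
        hR₁c.trans (centralizer_le_normalizer _)
      have hS'n : (S : Subgroup (zpowers y)).map (zpowers y).subtype ≤ normalizer (R : Set G) := by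
        rintro _ ⟨x, -, rfl⟩
        exact (zpowers_le.mpr hy) x.2
      have hidx : ¬ q ∣ (cj h⁻¹ R₁).relIndex (normalizer (R : Set G)) := by
        intro hd
        apply hR₁i
        rw [← index_cj h⁻¹ R₁]
        exact hd.trans (relIndex_dvd_index_of_le hR₁n)
      obtain ⟨m, hm, hmS⟩ := exists_cj_le_of_relIndex (isPGroup_cj (g := h⁻¹) hR₁) hidx hS'n
        (S.2.map _)
      have h3 : (S : Subgroup (zpowers y)).map (zpowers y).subtype ≤ centralizer (R : Set G) := by
        have h4 := cj_le_iff.mp hmS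
        refine h4.trans ?_
        calc cj m⁻¹ (cj h⁻¹ R₁) ≤ cj m⁻¹ (centralizer (R : Set G)) := cj_mono hR₁c
          _ = centralizer ((cj m⁻¹ R : Subgroup G) : Set G) := cj_centralizer _ _
          _ = centralizer (R : Set G) := by
            rw [cj_eq_self_of_mem_normalizer (inv_mem hm)]
      intro x hx
      rw [mem_subgroupOf]
      exact h3 ⟨x, hx, rfl⟩
  have : (⟨y, mem_zpowers y⟩ : zpowers y) ∈ (centralizer (R : Set G)).subgroupOf (zpowers y) := by
    rw [key]; exact mem_top _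
  exact mem_subgroupOf.mp this

/-- Step α: a `p`-subgroup normalizing a `τ`-subgroup centralizes it. -/
theorem le_centralizer_of_le_normalizer (hP : IsPGroup p P) (hPi : ¬ p ∣ P.index)
    (hTP : T ≤ centralizer (P : Set G)) (hC : ConjInto τ T)
    {N Q : Subgroup G} (hN : IsPiSubgroup τ N) (hQ : IsPGroup p Q)
    (hQN : Q ≤ normalizer (N : Set G)) : Q ≤ centralizer (N : Set G) := by
  obtain ⟨g, hg⟩ := hC N hN
  have hPc : cj g P ≤ centralizer (N : Set G) := by
    calc cj g P ≤ cj g (centralizer (T : Set G)) := cj_mono (le_centralizer_iff.mp hTP)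
      _ = centralizer ((cj g T : Subgroup G) : Set G) := cj_centralizer _ _
      _ ≤ centralizer (N : Set G) := centralizer_le hg
  have hPn : cj g P ≤ normalizer (N : Set G) := hPc.trans (centralizer_le_normalizer _)
  have hidx : ¬ p ∣ (cj g P).relIndex (normalizer (N : Set G)) := by
    intro hd
    apply hPi
    rw [← index_cj g P]
    exact hd.trans (relIndex_dvd_index_of_le hPn)
  obtain ⟨m, hm, hmQ⟩ := exists_cj_le_of_relIndex (isPGroup_cj (g := g) hP) hidx hQN hQ
  refine (cj_le_iff.mp hmQ).trans ?_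
  calc cj m⁻¹ (cj g P) ≤ cj m⁻¹ (centralizer (N : Set G)) := cj_mono hPc
    _ = centralizer ((cj m⁻¹ N : Subgroup G) : Set G) := cj_centralizer _ _
    _ = centralizer (N : Set G) := by rw [cj_eq_self_of_mem_normalizer (inv_mem hm)]

/-- Step A: a `p`-decomposable subgroup lies in a conjugate of `P ⊔ T`. -/
theorem exists_sup_le_cj (hP : IsPGroup p P) (hPi : ¬ p ∣ P.index)
    (hTP : T ≤ centralizer (P : Set G)) (hC : ConjInto τ T)
    {N Q : Subgroup G} (hN : IsPiSubgroup τ N) (hQ : IsPGroup p Q)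
    (hQN : Q ≤ centralizer (N : Set G)) : ∃ g : G, Q ⊔ N ≤ cj g (P ⊔ T) := by
  obtain ⟨g, hg⟩ := hC N hN
  have hPc : cj g P ≤ centralizer (N : Set G) := by
    calc cj g P ≤ cj g (centralizer (T : Set G)) := cj_mono (le_centralizer_iff.mp hTP)
      _ = centralizer ((cj g T : Subgroup G) : Set G) := cj_centralizer _ _
      _ ≤ centralizer (N : Set G) := centralizer_le hg
  have hidx : ¬ p ∣ (cj g P).relIndex (centralizer (N : Set G)) := by
    intro hd
    apply hPi
    rw [← index_cj g P]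
    exact hd.trans (relIndex_dvd_index_of_le hPc)
  obtain ⟨c, hc, hcQ⟩ := exists_cj_le_of_relIndex (isPGroup_cj (g := g) hP) hidx hQN hQ
  refine ⟨c⁻¹ * g, ?_⟩
  rw [cj_mul, ← cj_le_iff]
  have h1 : cj c (Q ⊔ N) = cj c Q ⊔ cj c N := Subgroup.map_sup _ _ _
  have h2 : cj c N = N := cj_eq_self_of_mem_normalizer (centralizer_le_normalizer _ hc)
  have h3 : cj g (P ⊔ T) = cj g P ⊔ cj g T := Subgroup.map_sup _ _ _
  rw [h1, h2, h3]
  exact sup_le_sup hcQ hg

/-- Core lemma: every `(τ ∪ {p})`-subgroup lies in a conjugate of `P ⊔ T`. -/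
theorem conjInto_insert (hpτ : p ∉ τ) (hP : IsPGroup p P) (hPi : ¬ p ∣ P.index)
    (hTP : T ≤ centralizer (P : Set G)) (hC : ConjInto τ T) :
    ConjInto (τ ∪ {p}) (P ⊔ T) := by
  intro K hK
  obtain ⟨Q⟩ : Nonempty (Sylow p K) := inferInstance
  -- Frobenius' criterion holds in `K`
  have hfrob : ∀ R : Subgroup K, R ≤ (Q : Subgroup K) → ∀ g ∈ normalizer (R : Set K),
      Nat.Coprime (orderOf g) p → g ∈ centralizer (R : Set K) := by
    intro R hRQ g hg hgo
    have hR' : IsPGroup p (R.map K.subtype) := (Q.2.to_le hRQ).map _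
    have hg' : (g : G) ∈ normalizer ((R.map K.subtype : Subgroup G) : Set G) := by
      apply mem_normalizer_fintype
      rintro _ ⟨r, hr, rfl⟩
      refine ⟨g * r * g⁻¹, (mem_normalizer_iff.mp hg r).mp hr, ?_⟩
      simp
    have hgτ : ∀ q : ℕ, q.Prime → q ∣ orderOf (g : G) → q ∈ τ := by
      intro q hq hqd
      rw [Subgroup.orderOf_coe] at hqd
      have h1 : q ∣ Nat.card K := hqd.trans (orderOf_dvd_natCard g)
      rcases hK q hq h1 with h2 | h2
      · exact h2
      · exfalso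
        rw [Set.mem_singleton_iff] at h2
        subst h2
        have := Nat.Coprime.eq_one_of_dvd hgo.symm hqd
        exact hq.one_lt.ne' this
    have h3 := mem_centralizer_of_mem_normalizer hP hPi hTP hC hR' hg' hgτ
    rw [mem_centralizer_iff] at h3 ⊢
    intro r hr
    have := h3 (r : G) ⟨r, hr, rfl⟩
    exact Subtype.ext this
  obtain ⟨N, hNn, hNc⟩ := (Cfsg.Agent.S0071.result Q).mpr hfrob
  -- `N` is a `τ`-group
  have hN' : IsPiSubgroup τ (N.map K.subtype) := by
    intro q hq hqd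
    rw [Subgroup.card_map_of_injective K.subtype_injective] at hqd
    have h1 : q ∣ Nat.card K := hqd.trans (Subgroup.card_subgroup_dvd_card N)
    rcases hK q hq h1 with h2 | h2
    · exact h2
    · exfalso
      rw [Set.mem_singleton_iff] at h2
      subst h2
      have h3 : (Q : Subgroup K).index = Nat.card N := hNc.index_eq_card
      rw [← h3] at hqd
      exact Q.not_dvd_index hqd
  have hQ' : IsPGroup p ((Q : Subgroup K).map K.subtype) := Q.2.map _
  have hQN : (Q : Subgroup K).map K.subtype ≤ normalizer ((N.map K.subtype : Subgroup G) : Set G) := by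
    rintro _ ⟨x, -, rfl⟩
    apply mem_normalizer_fintype
    rintro _ ⟨n, hn, rfl⟩
    exact ⟨x * n * x⁻¹, hNn.conj_mem n hn x, by simp⟩
  have hQc := le_centralizer_of_le_normalizer hP hPi hTP hC hN' hQ' hQN
  obtain ⟨g, hg⟩ := exists_sup_le_cj hP hPi hTP hC hN' hQ' hQc
  refine ⟨g, le_trans ?_ hg⟩
  have h4 : N ⊔ (Q : Subgroup K) = ⊤ := hNc.sup_eq_top
  have h5 : (N ⊔ (Q : Subgroup K)).map K.subtype = K := by
    rw [h4, ← MonoidHom.range_eq_map, range_subtype]
  rw [Subgroup.map_sup] at h5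
  rw [sup_comm, h5]

end Core

/-- Peeling off commuting Sylow subgroups one prime at a time. -/
theorem conjInto_family [Finite G] (τ : Set ℕ) (T₀ : Subgroup G) (hC : ConjInto τ T₀)
    (Pf : ℕ → Subgroup G) (s : Finset ℕ)
    (hs : ∀ p ∈ s, p.Prime ∧ p ∉ τ ∧ IsPGroup p (Pf p) ∧ ¬ p ∣ (Pf p).index ∧
      T₀ ≤ centralizer (Pf p : Set G))
    (hcomm : ∀ p ∈ s, ∀ q ∈ s, p ≠ q → Pf q ≤ centralizer (Pf p : Set G)) :
    ConjInto (τ ∪ ↑s) (T₀ ⊔ ⨆ p ∈ s, Pf p) := by
  induction s using Finset.induction_on with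
  | empty => simpa using hC
  | insert p s' hps' ih =>
    have ih' := ih (fun q hq => hs q (Finset.mem_insert_of_mem hq))
      (fun a ha b hb => hcomm a (Finset.mem_insert_of_mem ha) b (Finset.mem_insert_of_mem hb))
    obtain ⟨hpp, hpτ, hPp, hPi, hT₀⟩ := hs p (Finset.mem_insert_self p s')
    have : Fact p.Prime := ⟨hpp⟩
    have hTP : T₀ ⊔ ⨆ q ∈ s', Pf q ≤ centralizer (Pf p : Set G) := by
      apply sup_le hT₀
      apply iSup₂_le
      intro q hq
      exact hcomm p (Finset.mem_insert_self p s') q (Finset.mem_insert_of_mem hq)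
        (by rintro rfl; exact hps' hq)
    have hpτ' : p ∉ τ ∪ ↑s' := by
      intro h
      rcases h with h | h
      · exact hpτ h
      · exact hps' (Finset.mem_coe.mp h)
    have key := conjInto_insert hpτ' hPp hPi hTP ih'
    have e1 : τ ∪ ↑(insert p s') = (τ ∪ ↑s') ∪ {p} := by
      ext x
      simp only [Finset.coe_insert, Set.mem_union, Set.mem_insert_iff, Finset.mem_coe,
        Set.mem_singleton_iff]
      tauto
    have e2 : T₀ ⊔ ⨆ q ∈ insert p s', Pf q = Pf p ⊔ (T₀ ⊔ ⨆ q ∈ s', Pf q) := by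
      rw [Finset.iSup_insert, sup_left_comm]
    rw [e1, e2]
    exact key

theorem card_sup_dvd {A B : Subgroup G} (h : ∀ a ∈ A, ∀ b ∈ B, a * b = b * a) :
    Nat.card ↥(A ⊔ B) ∣ Nat.card A * Nat.card B := by
  have hcm : ∀ (a : A) (b : B), Commute (A.subtype a) (B.subtype b) := fun a b => h a a.2 b b.2
  have hr : (MonoidHom.noncommCoprod A.subtype B.subtype hcm).range = A ⊔ B := by
    rw [MonoidHom.noncommCoprod_range, range_subtype, range_subtype]
  rw [← hr, ← Nat.card_prod]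
  exact Subgroup.card_range_dvd _

/-- Wielandt: `D_π` from a Hall `π`-subgroup `H_σ × H_τ`, `H_σ` nilpotent, and `D_τ`. -/
theorem main [Finite G] (σ τ π : Set ℕ) (hπ : π = σ ∪ τ) (hd : Disjoint σ τ)
    (H Hs Ht : Subgroup G) (hH : IsPiHall π H) (hs : IsPiSubgroup σ Hs)
    (ht : IsPiSubgroup τ Ht) (hsn : Group.IsNilpotent Hs) (hjoin : Hs ⊔ Ht = H)
    (hcomm : ∀ a ∈ Hs, ∀ b ∈ Ht, a * b = b * a) (hD : IsDPiGroup τ G) :
    IsDPiGroup π G := by
  have hHsH : Hs ≤ H := hjoin ▸ le_sup_left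
  have hHtH : Ht ≤ H := hjoin ▸ le_sup_right
  have hcard : Nat.card H ∣ Nat.card Hs * Nat.card Ht := by
    rw [← hjoin]; exact card_sup_dvd hcomm
  have hσπ : ∀ q, q ∈ σ → q ∈ π := fun q hq => hπ ▸ Or.inl hq
  have hτπ : ∀ q, q ∈ τ → q ∈ π := fun q hq => hπ ▸ Or.inr hq
  have hστ : ∀ q, q ∈ σ → q ∉ τ := fun q h1 h2 => Set.disjoint_left.mp hd h1 h2
  -- indices
  have hrelHt : Ht.relIndex H ∣ Nat.card Hs := by
    have h1 := relIndex_mul_relIndex ⊥ Ht H bot_le hHtH
    rw [relIndex_bot_left, relIndex_bot_left] at h1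
    rw [← h1, mul_comm (Nat.card Hs)] at hcard
    exact Nat.dvd_of_mul_dvd_mul_left Nat.card_pos hcard
  have hrelHs : Hs.relIndex H ∣ Nat.card Ht := by
    have h1 := relIndex_mul_relIndex ⊥ Hs H bot_le hHsH
    rw [relIndex_bot_left, relIndex_bot_left] at h1
    rw [← h1] at hcard
    exact Nat.dvd_of_mul_dvd_mul_left Nat.card_pos hcard
  -- `Ht` is a maximal `τ`-subgroup
  have hHtmax : Maximal (IsPiSubgroup τ) Ht := by
    refine ⟨ht, fun M hM hle => ?_⟩
    rw [← relIndex_eq_one]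
    by_contra hne
    obtain ⟨q, hq, hqd⟩ := Nat.exists_prime_and_dvd hne
    have hqτ : q ∈ τ := hM q hq (hqd.trans (relIndex_dvd_card _ _))
    have h1 : q ∣ Ht.index := hqd.trans (relIndex_dvd_index_of_le hle)
    rw [← relIndex_mul_index hHtH] at h1
    rcases (Nat.Prime.dvd_mul hq).mp h1 with h2 | h2
    · exact hστ q (hs q hq (h2.trans hrelHt)) hqτ
    · exact hH.2 q hq (hτπ q hqτ) h2
  have hC : ConjInto τ Ht := by
    intro N hN
    obtain ⟨M, hNM, hM⟩ := (Set.toFinite {K : Subgroup G | IsPiSubgroup τ K}).exists_le_maximal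
      (show N ∈ {K : Subgroup G | IsPiSubgroup τ K} from hN)
    obtain ⟨g, hg⟩ := hD Ht M hHtmax hM
    exact ⟨g, hNM.trans (le_of_eq hg)⟩
  -- the Sylow subgroups of `Hs`
  let Pf : ℕ → Subgroup G := fun p =>
    ((Classical.arbitrary (Sylow p Hs) : Sylow p Hs) : Subgroup Hs).map Hs.subtype
  have hPfle : ∀ p, Pf p ≤ Hs := fun p => Subgroup.map_subtype_le _
  have hfam : ∀ p ∈ (Nat.card Hs).primeFactors, p.Prime ∧ p ∉ τ ∧ IsPGroup p (Pf p) ∧
      ¬ p ∣ (Pf p).index ∧ Ht ≤ centralizer (Pf p : Set G) := by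
    intro p hp
    have hpp : p.Prime := Nat.prime_of_mem_primeFactors hp
    have hpd : p ∣ Nat.card Hs := Nat.dvd_of_mem_primeFactors hp
    have : Fact p.Prime := ⟨hpp⟩
    have hpσ : p ∈ σ := hs p hpp hpd
    refine ⟨hpp, hστ p hpσ, (Classical.arbitrary (Sylow p Hs)).2.map _, ?_, ?_⟩
    · intro hdv
      change p ∣ (((Classical.arbitrary (Sylow p Hs) : Sylow p Hs) : Subgroup Hs).map
        Hs.subtype).index at hdv
      rw [index_map_subtype] at hdv
      rcases (Nat.Prime.dvd_mul hpp).mp hdv with h2 | h2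
      · exact (Classical.arbitrary (Sylow p Hs)).not_dvd_index h2
      · rw [← relIndex_mul_index hHsH] at h2
        rcases (Nat.Prime.dvd_mul hpp).mp h2 with h3 | h3
        · exact hστ p hpσ (ht p hpp (h3.trans hrelHs))
        · exact hH.2 p hpp (hσπ p hpσ) h3
    · intro b hb
      rw [mem_centralizer_iff]
      intro x hx
      exact hcomm x (hPfle p hx) b hb
  have hfc : ∀ p ∈ (Nat.card Hs).primeFactors, ∀ q ∈ (Nat.card Hs).primeFactors, p ≠ q →
      Pf q ≤ centralizer (Pf p : Set G) := by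
    intro p hp q hq hpq
    have : Fact p.Prime := ⟨Nat.prime_of_mem_primeFactors hp⟩
    have : Fact q.Prime := ⟨Nat.prime_of_mem_primeFactors hq⟩
    have hdis : Disjoint ((Classical.arbitrary (Sylow p Hs) : Sylow p Hs) : Subgroup Hs)
        ((Classical.arbitrary (Sylow q Hs) : Sylow q Hs) : Subgroup Hs) :=
      IsPGroup.disjoint_of_ne p q hpq _ _ (Classical.arbitrary (Sylow p Hs)).2
        (Classical.arbitrary (Sylow q Hs)).2
    rintro _ ⟨y, hy, rfl⟩
    rw [mem_centralizer_iff]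
    rintro _ ⟨x, hx, rfl⟩
    have hc := commute_of_normal_of_disjoint _ _ inferInstance inferInstance hdis x y hx hy
    have := congrArg Hs.subtype hc.eq
    simpa using this
  have hCπ := conjInto_family τ Ht hC Pf (Nat.card Hs).primeFactors hfam hfc
  have hle : Ht ⊔ ⨆ p ∈ (Nat.card Hs).primeFactors, Pf p ≤ H :=
    sup_le hHtH (iSup₂_le fun p _ => (hPfle p).trans hHsH)
  -- every `π`-subgroup lies in a conjugate of `H`
  have hKH : ∀ K : Subgroup G, IsPiSubgroup π K → ∃ g : G, K ≤ cj g H := by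
    intro K hK
    have hK' : IsPiSubgroup (τ ∪ ↑(Nat.card Hs).primeFactors) K := by
      intro q hq hqd
      have hqπ := hK q hq hqd
      have h1 : q ∣ Nat.card G := hqd.trans (Subgroup.card_subgroup_dvd_card K)
      rw [← H.card_mul_index] at h1
      rcases (Nat.Prime.dvd_mul hq).mp h1 with h2 | h2
      · rcases (Nat.Prime.dvd_mul hq).mp (h2.trans hcard) with h3 | h3
        · right
          exact Finset.mem_coe.mpr (Nat.mem_primeFactors.mpr ⟨hq, h3, Nat.card_pos.ne'⟩)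
        · left; exact ht q hq h3
      · exact absurd h2 (hH.2 q hq hqπ)
    obtain ⟨g, hg⟩ := hCπ K hK'
    exact ⟨g, hg.trans (cj_mono hle)⟩
  have hcjπ : ∀ g : G, IsPiSubgroup π (cj g H) := by
    intro g q hq hqd
    rw [card_cj] at hqd
    exact hH.1 q hq hqd
  intro M₁ M₂ hM₁ hM₂
  obtain ⟨g₁, hg₁⟩ := hKH M₁ hM₁.1
  obtain ⟨g₂, hg₂⟩ := hKH M₂ hM₂.1
  have e₁ : M₁ = cj g₁ H := le_antisymm hg₁ (hM₁.2 (hcjπ g₁) hg₁)
  have e₂ : M₂ = cj g₂ H := le_antisymm hg₂ (hM₂.2 (hcjπ g₂) hg₂)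
  refine ⟨g₂ * g₁⁻¹, ?_⟩
  change M₂ = cj (g₂ * g₁⁻¹) M₁
  rw [e₁, e₂, cj_mul, cj_inv_cj]

end Cfsg.Agent.Helper95WielandtD
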