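import Mathlib

/-!
# Split metacyclic presentations (helper95)

`nonempty_mulEquiv_presented`: a finite group `N` of order `n * m` generated by `x`, `y` with
`x ^ n = 1`, `y ^ m = 1`, `x⁻¹ * y * x = y ^ r` is isomorphic to the group presented by
`⟨a, b | a ^ n, b ^ m, a⁻¹ b a = b ^ r⟩`.
-/

set_option autoImplicit false

namespace Cfsg.Agent.Lib.Helper95_ZPres

open Subgroup

/-- the three relators of the split metacyclic presentation -/
abbrev rels (n m r : ℕ) : Set (FreeGroup (Fin 2)) :=
  {FreeGroup.of (0 : Fin 2) ^ n, FreeGroup.of (1 : Fin 2) ^ m,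
    (FreeGroup.of (0 : Fin 2))⁻¹ * FreeGroup.of 1 * FreeGroup.of 0 *
      (FreeGroup.of (1 : Fin 2) ^ r)⁻¹}

section pres

variable (n m r : ℕ)

/-- the first generator -/
def ga : PresentedGroup (rels n m r) := PresentedGroup.of 0

/-- the second generator -/
def gb : PresentedGroup (rels n m r) := PresentedGroup.of 1

theorem ga_pow : (ga n m r) ^ n = 1 := by
  have h := PresentedGroup.one_of_mem (rels := rels n m r)
    (x := FreeGroup.of (0 : Fin 2) ^ n) (by simp)
  rw [map_pow] at h
  exact h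

theorem gb_pow : (gb n m r) ^ m = 1 := by
  have h := PresentedGroup.one_of_mem (rels := rels n m r)
    (x := FreeGroup.of (1 : Fin 2) ^ m) (by simp)
  rw [map_pow] at h
  exact h

theorem conj_gb : (ga n m r)⁻¹ * gb n m r * ga n m r = (gb n m r) ^ r := by
  have h := PresentedGroup.one_of_mem (rels := rels n m r)
    (x := (FreeGroup.of (0 : Fin 2))⁻¹ * FreeGroup.of 1 * FreeGroup.of 0 *
      (FreeGroup.of (1 : Fin 2) ^ r)⁻¹) (by simp)
  rw [map_mul, map_mul, map_mul, map_inv, map_inv, map_pow] at h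
  exact mul_inv_eq_one.1 h

theorem conj_gb_pow (j : ℕ) :
    (ga n m r)⁻¹ * (gb n m r) ^ j * ga n m r = (gb n m r) ^ (r * j) := by
  induction j with
  | zero => simp
  | succ j ih =>
    rw [pow_succ, Nat.mul_succ, pow_add, ← ih, ← conj_gb]
    group

theorem mul_ga (i j : ℕ) :
    ga n m r ^ i * gb n m r ^ j * ga n m r = ga n m r ^ (i + 1) * gb n m r ^ (r * j) := by
  calc ga n m r ^ i * gb n m r ^ j * ga n m r
      = ga n m r ^ i * (ga n m r * ((ga n m r)⁻¹ * gb n m r ^ j * ga n m r)) := by group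
    _ = ga n m r ^ i * (ga n m r * gb n m r ^ (r * j)) := by rw [conj_gb_pow]
    _ = ga n m r ^ (i + 1) * gb n m r ^ (r * j) := by rw [pow_succ, mul_assoc]

theorem mul_ga_pow (k : ℕ) : ∀ i j : ℕ, ∃ i' j' : ℕ,
    ga n m r ^ i * gb n m r ^ j * ga n m r ^ k = ga n m r ^ i' * gb n m r ^ j' := by
  induction k with
  | zero => intro i j; exact ⟨i, j, by simp⟩
  | succ k ih =>
    intro i j
    obtain ⟨i', j', h⟩ := ih i j
    refine ⟨i' + 1, r * j', ?_⟩
    rw [pow_succ, ← mul_assoc, h, mul_ga]

theorem exists_eq_pow_mul_pow (hn : 0 < n) (hm : 0 < m) (z : PresentedGroup (rels n m r)) :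
    ∃ i < n, ∃ j < m, z = ga n m r ^ i * gb n m r ^ j := by
  have key : ∃ i j : ℕ, z = ga n m r ^ i * gb n m r ^ j := by
    have hz : z ∈ closure (Set.range (PresentedGroup.of : Fin 2 → PresentedGroup (rels n m r))) := by
      rw [PresentedGroup.closure_range_of]; trivial
    induction hz using closure_induction_right with
    | one => exact ⟨0, 0, by simp⟩
    | mul_right x hx y hy ih =>
      obtain ⟨i, j, rfl⟩ := ih
      obtain ⟨k, rfl⟩ := hy
      fin_cases k
      · exact ⟨i + 1, r * j, mul_ga n m r i j⟩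
      · exact ⟨i, j + 1, by rw [pow_succ, mul_assoc]; rfl⟩
    | mul_inv_cancel x hx y hy ih =>
      obtain ⟨i, j, rfl⟩ := ih
      obtain ⟨k, rfl⟩ := hy
      fin_cases k
      · have h1 : (ga n m r)⁻¹ = ga n m r ^ (n - 1) := by
          apply inv_eq_of_mul_eq_one_right
          rw [← pow_succ', Nat.sub_add_cancel hn, ga_pow]
        obtain ⟨i', j', h⟩ := mul_ga_pow n m r (n - 1) i j
        exact ⟨i', j', by rw [← h, ← h1]; rfl⟩
      · have h1 : (gb n m r)⁻¹ = gb n m r ^ (m - 1) := by
          apply inv_eq_of_mul_eq_one_right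
          rw [← pow_succ', Nat.sub_add_cancel hm, gb_pow]
        refine ⟨i, j + (m - 1), ?_⟩
        rw [pow_add, ← h1, mul_assoc]; rfl
  obtain ⟨i, j, rfl⟩ := key
  refine ⟨i % n, Nat.mod_lt _ hn, j % m, Nat.mod_lt _ hm, ?_⟩
  rw [← pow_eq_pow_mod i (ga_pow n m r), ← pow_eq_pow_mod j (gb_pow n m r)]

theorem surjective_pow_mul_pow (hn : 0 < n) (hm : 0 < m) :
    Function.Surjective
      (fun p : Fin n × Fin m => ga n m r ^ (p.1 : ℕ) * gb n m r ^ (p.2 : ℕ)) := by
  intro z
  obtain ⟨i, hi, j, hj, rfl⟩ := exists_eq_pow_mul_pow n m r hn hm z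
  exact ⟨(⟨i, hi⟩, ⟨j, hj⟩), rfl⟩

theorem finite_presented (hn : 0 < n) (hm : 0 < m) : Finite (PresentedGroup (rels n m r)) :=
  Finite.of_surjective _ (surjective_pow_mul_pow n m r hn hm)

theorem card_presented_le (hn : 0 < n) (hm : 0 < m) :
    Nat.card (PresentedGroup (rels n m r)) ≤ n * m := by
  have h := Nat.card_le_card_of_surjective _ (surjective_pow_mul_pow n m r hn hm)
  simpa using h

end pres

/-- a finite group of order `n * m` generated by `x`, `y` subject to the three relations is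
the presented group -/
theorem nonempty_mulEquiv_presented {N : Type*} [Group N] [Finite N] (x y : N) (n m r : ℕ)
    (hn : 0 < n) (hm : 0 < m) (hx : x ^ n = 1) (hy : y ^ m = 1) (hxy : x⁻¹ * y * x = y ^ r)
    (hgen : closure {x, y} = ⊤) (hcard : Nat.card N = n * m) :
    Nonempty (N ≃* PresentedGroup (rels n m r)) := by
  have hrel : ∀ w ∈ rels n m r, FreeGroup.lift ![x, y] w = 1 := by
    intro w hw
    simp only [Set.mem_insert_iff, Set.mem_singleton_iff] at hw
    rcases hw with rfl | rfl | rfl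
    · simp [hx]
    · simp [hy]
    · simp [hxy]
  let φ : PresentedGroup (rels n m r) →* N := PresentedGroup.toGroup hrel
  have hφ0 : φ (PresentedGroup.of 0) = x := by
    show PresentedGroup.toGroup hrel (PresentedGroup.of 0) = x
    rw [PresentedGroup.toGroup.of]; rfl
  have hφ1 : φ (PresentedGroup.of 1) = y := by
    show PresentedGroup.toGroup hrel (PresentedGroup.of 1) = y
    rw [PresentedGroup.toGroup.of]; rfl
  have hsurj : Function.Surjective φ := by
    rw [← MonoidHom.range_eq_top, eq_top_iff, ← hgen, closure_le]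
    rintro z (rfl | rfl)
    · exact ⟨_, hφ0⟩
    · exact ⟨_, hφ1⟩
  have : Finite (PresentedGroup (rels n m r)) := finite_presented n m r hn hm
  have hbij : Function.Bijective φ := by
    apply hsurj.bijective_of_nat_card_le
    rw [hcard]
    exact card_presented_le n m r hn hm
  exact ⟨(MulEquiv.ofBijective φ hbij).symm⟩

end Cfsg.Agent.Lib.Helper95_ZPres
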