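import Mathlib
import Cfsg.Agent.Lib.Helper12_FpfLin

/-!
# Fixed-point-free linear groups: elements of prime order centralize what they normalize (helper95)

`IsFpf.commute_of_conj_eq_pow`: in a fixed-point-free linear group over an algebraically closed
field, if `b ^ p = 1` (`p` prime) and `b⁻¹ * y * b = y ^ s`, then `b` and `y` commute.
(This is the "subgroups of order `p q` are cyclic" property of Frobenius complements.)
-/

set_option autoImplicit false

namespace Cfsg.Agent.Lib.Helper95_ZPresFpf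

open Module Cfsg.Agent.Lib.Helper12_FpfLin

theorem conj_pow_eq {G : Type*} [Group G] (b y : G) (s : ℕ) (hs : b⁻¹ * y * b = y ^ s)
    (k j : ℕ) : (b ^ k)⁻¹ * y ^ j * b ^ k = y ^ (s ^ k * j) := by
  induction k with
  | zero => simp
  | succ k ih =>
    have h1 : (b ^ (k + 1))⁻¹ * y ^ j * b ^ (k + 1) = b⁻¹ * ((b ^ k)⁻¹ * y ^ j * b ^ k) * b := by
      rw [pow_succ]; group
    have h2 : ∀ e : ℕ, b⁻¹ * y ^ e * b = (b⁻¹ * y * b) ^ e := by
      intro e
      induction e with
      | zero => simp
      | succ e ihe => rw [pow_succ, pow_succ, ← ihe]; group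
    rw [h1, ih, h2, hs, ← pow_mul, pow_succ]
    congr 1
    ring

variable {F : Type*} [Field F] {W : Type*} [AddCommGroup W] [Module F W] {G : Type*} [Group G]
variable {ρ : G →* Module.End F W}

theorem IsFpf.commute_of_conj_eq_pow [IsAlgClosed F] [FiniteDimensional F W] [Nontrivial W]
    (h : IsFpf ρ) {p : ℕ} (hp : p.Prime) {b y : G} (hb : b ^ p = 1) {s : ℕ}
    (hs : b⁻¹ * y * b = y ^ s) : Commute b y := by
  by_contra hne
  have hb1 : b ≠ 1 := fun h1 => hne (h1 ▸ Commute.one_left y)
  have hys : y ^ s ≠ y := by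
    intro hys
    apply hne
    rw [hys] at hs
    show b * y = y * b
    calc b * y = b * (b⁻¹ * y * b) := by rw [hs]
      _ = y * b := by group
  obtain ⟨ζ, hζ⟩ := Module.End.exists_eigenvalue (ρ y)
  obtain ⟨u, hu⟩ := hζ.exists_hasEigenvector
  have hu0 : u ≠ 0 := hu.2
  have hyu : ρ y u = ζ • u := hu.apply_eq_smul
  have hpow : ∀ k, ρ (y ^ k) u = ζ ^ k • u := map_pow_apply_of_eigen hyu
  have hζs : ζ ^ s ≠ ζ := by
    intro heq
    apply hys
    apply h.eq_of_apply_eq hu0
    rw [hpow, heq, hyu]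
  have hvec : ∀ i : ℕ, ρ y (ρ (b ^ i) u) = ζ ^ (s ^ i) • ρ (b ^ i) u := by
    intro i
    have h1 : y * b ^ i = b ^ i * y ^ (s ^ i) := by
      have h2 := conj_pow_eq b y s hs i 1
      rw [pow_one, mul_one] at h2
      rw [← h2]; group
    calc ρ y (ρ (b ^ i) u) = ρ (y * b ^ i) u := by rw [map_mul]; rfl
      _ = ρ (b ^ i * y ^ (s ^ i)) u := by rw [h1]
      _ = ρ (b ^ i) (ρ (y ^ (s ^ i)) u) := by rw [map_mul]; rfl
      _ = ρ (b ^ i) (ζ ^ (s ^ i) • u) := by rw [hpow]
      _ = ζ ^ (s ^ i) • ρ (b ^ i) u := by rw [map_smul]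
  have hne0 : ∀ i : ℕ, ρ (b ^ i) u ≠ 0 := by
    intro i h0
    apply hu0
    have : ρ ((b ^ i)⁻¹) (ρ (b ^ i) u) = u := by
      rw [← Module.End.mul_apply, ← map_mul, inv_mul_cancel, map_one]; rfl
    rw [← this, h0, map_zero]
  -- the iteration
  let φ : F → F := fun ξ => ξ ^ s
  have hiter : ∀ i : ℕ, φ^[i] ζ = ζ ^ (s ^ i) := by
    intro i
    induction i with
    | zero => simp
    | succ i ih => rw [Function.iterate_succ_apply', ih, pow_succ, pow_mul]
  have hperp : φ^[p] ζ = ζ := by
    rw [hiter]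
    have h2 := conj_pow_eq b y s hs p 1
    rw [hb, pow_one, mul_one, inv_one, one_mul, mul_one] at h2
    have h3 : ζ ^ (s ^ p) • u = ζ • u := by rw [← hpow, ← h2, hyu]
    exact smul_left_injective F hu0 h3
  have hinj : Function.Injective (fun i : Fin p => ζ ^ (s ^ (i : ℕ))) := by
    have key : ∀ i j : ℕ, i < j → j < p → ζ ^ (s ^ i) ≠ ζ ^ (s ^ j) := by
      intro i j hij hjp heq
      set x0 := φ^[i] ζ with hx0
      have hp1 : Function.IsPeriodicPt φ (j - i) x0 := by
        show φ^[j - i] x0 = x0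
        rw [hx0, ← Function.iterate_add_apply, Nat.sub_add_cancel hij.le, hiter, hiter, heq]
      have hp2 : Function.IsPeriodicPt φ p x0 := by
        show φ^[p] x0 = x0
        rw [hx0, ← Function.iterate_add_apply, add_comm, Function.iterate_add_apply, hperp]
      have hcop : Nat.Coprime (j - i) p := by
        apply Nat.Coprime.symm
        rw [Nat.Prime.coprime_iff_not_dvd hp]
        intro hdvd
        have := Nat.le_of_dvd (by omega) hdvd
        omega
      have hp3 := hp1.gcd hp2
      rw [hcop] at hp3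
      have hfix : φ x0 = x0 := hp3
      have hall : ∀ k : ℕ, φ^[k] x0 = x0 := by
        intro k
        induction k with
        | zero => rfl
        | succ k ih => rw [Function.iterate_succ_apply', ih, hfix]
      have hx0ζ : x0 = ζ := by
        have h4 : φ^[p - i] x0 = ζ := by
          rw [hx0, ← Function.iterate_add_apply, Nat.sub_add_cancel (by omega), hperp]
        rw [← h4, hall]
      rw [hx0ζ] at hfix
      exact hζs hfix
    intro i j hij
    by_contra hne'
    rcases lt_or_gt_of_ne (fun h0 => hne' (Fin.ext h0) : (i : ℕ) ≠ j) with h1 | h1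
    · exact key i j h1 j.2 hij
    · exact key j i h1 i.2 hij.symm
  have hli := Module.End.eigenvectors_linearIndependent' (ρ y)
    (fun i : Fin p => ζ ^ (s ^ (i : ℕ))) hinj (fun i => ρ (b ^ (i : ℕ)) u)
    (fun i => ⟨Module.End.mem_eigenspace_iff.2 (hvec i), hne0 i⟩)
  have hsum : ∑ i ∈ Finset.range p, (ρ b) ^ i = 0 := h.geom_sum_eq_zero hb1 hb
  have hsum' : ∑ i : Fin p, (1 : F) • ρ (b ^ (i : ℕ)) u = 0 := by
    have h5 := congrArg (fun f : Module.End F W => f u) hsum
    simp only [LinearMap.sum_apply, LinearMap.zero_apply] at h5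
    rw [← Fin.sum_univ_eq_sum_range (fun i => ((ρ b) ^ i) u) p] at h5
    rw [← h5]
    apply Finset.sum_congr rfl
    intro i _
    rw [one_smul, map_pow]
  have := Fintype.linearIndependent_iff.1 hli (fun _ => (1 : F)) hsum' ⟨0, hp.pos⟩
  exact one_ne_zero this

end Cfsg.Agent.Lib.Helper95_ZPresFpf
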