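import Mathlib
import Cfsg.Agent.Lib.Helper95_ZPres
import Cfsg.Agent.Lib.Helper95_ZPresFpf
import Cfsg.Agent.S1459

/-!
# Presentation of fixed-point-free Z-groups (helper95)

A finite group all of whose Sylow subgroups are cyclic and which has a fixed-point-free linear
representation over an algebraically closed field is
`⟨x, y | x ^ n, y ^ m, x⁻¹ y x = y ^ r⟩` with `gcd (r - 1) m = gcd n m = 1` and
`r ^ (n / rad n) ≡ 1 (mod m)`.
-/

set_option autoImplicit false

namespace Cfsg.Agent.Lib.Helper95_ZPres

open Subgroup Cfsg.Agent.Lib.Helper12_FpfLin Cfsg.Agent.Lib.Helper95_ZPresFpf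

/-- if `e ∣ n / p` for every prime divisor `p` of `n`, then `e ∣ n / rad n` -/
theorem dvd_div_prod_primeFactors {n e : ℕ} (hn : n ≠ 0) (he : e ∣ n)
    (h : ∀ p : ℕ, p.Prime → p ∣ n → e ∣ n / p) : e ∣ n / ∏ p ∈ n.primeFactors, p := by
  obtain ⟨t, rfl⟩ := he
  have he0 : 0 < e := Nat.pos_of_ne_zero (fun h0 => hn (by rw [h0, zero_mul]))
  have hR : ∏ p ∈ (e * t).primeFactors, p ∣ t := by
    apply Finset.prod_primes_dvd
    · intro p hp
      exact Nat.prime_iff.1 (Nat.prime_of_mem_primeFactors hp)
    · intro p hp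
      have hpp := Nat.prime_of_mem_primeFactors hp
      have hpd := Nat.dvd_of_mem_primeFactors hp
      have h1 := h p hpp hpd
      rw [Nat.dvd_div_iff_mul_dvd hpd] at h1
      -- p * e ∣ e * t
      rw [mul_comm p e] at h1
      exact Nat.dvd_of_mul_dvd_mul_left he0 h1
  rw [Nat.dvd_div_iff_mul_dvd (hR.trans (Dvd.intro_left e rfl))]
  rw [mul_comm]
  exact Nat.mul_dvd_mul_left e hR

/-- generators of a finite Z-group: `y` generates the commutator subgroup, `x` a complement -/
theorem exists_generators (N : Type*) [Group N] [Finite N] [IsZGroup N] :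
    ∃ (x y : N) (H : Subgroup N), zpowers y = commutator N ∧ zpowers x = H ∧
      IsComplement' (commutator N) H ∧ (Nat.card (commutator N)).Coprime (Nat.card H) := by
  have hC : IsCyclic (commutator N) := IsZGroup.isCyclic_commutator N
  have hcop := IsZGroup.coprime_commutator_index N
  obtain ⟨H, hH⟩ := Subgroup.exists_right_complement'_of_coprime hcop
  have hab : IsCyclic (N ⧸ commutator N) := (inferInstance : IsCyclic (Abelianization N))
  have hHc : IsCyclic H :=
    isCyclic_of_surjective _ (hH.symm.QuotientMulEquiv).surjective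
  obtain ⟨y0, hy0⟩ := hC.exists_generator
  obtain ⟨x0, hx0⟩ := hHc.exists_generator
  refine ⟨x0, y0, H, ?_, ?_, hH, ?_⟩
  · apply le_antisymm
    · rw [zpowers_le]; exact y0.2
    · intro c hc
      obtain ⟨k, hk⟩ := mem_zpowers_iff.1 (hy0 ⟨c, hc⟩)
      rw [mem_zpowers_iff]
      refine ⟨k, ?_⟩
      have := congrArg Subtype.val hk
      simpa using this
  · apply le_antisymm
    · rw [zpowers_le]; exact x0.2
    · intro c hc
      obtain ⟨k, hk⟩ := mem_zpowers_iff.1 (hx0 ⟨c, hc⟩)
      rw [mem_zpowers_iff]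
      refine ⟨k, ?_⟩
      have := congrArg Subtype.val hk
      simpa using this
  · rw [← hH.symm.index_eq_card]; exact hcop

/-- **presentation of fixed-point-free Z-groups** -/
theorem zgroup_presentation {N : Type*} [Group N] [Finite N] [IsZGroup N]
    {F : Type*} [Field F] [IsAlgClosed F] {W : Type*} [AddCommGroup W] [Module F W]
    [FiniteDimensional F W] [Nontrivial W] (ρ : N →* Module.End F W) (h : IsFpf ρ) :
    ∃ n m r : ℕ, 0 < n ∧ 0 < m ∧ Nat.Coprime (r - 1) m ∧ Nat.Coprime n m ∧ 1 ≤ r ∧
      r ^ (n / ∏ p ∈ n.primeFactors, p) % m = 1 % m ∧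
      Nonempty (N ≃* PresentedGroup (rels n m r)) := by
  obtain ⟨x, y, H, hy, hx, hH, hcop⟩ := exists_generators N
  have hm0 : 0 < orderOf y := orderOf_pos y
  have hn0 : 0 < orderOf x := orderOf_pos x
  have hcardC : Nat.card (commutator N) = orderOf y := by rw [← hy, Nat.card_zpowers]
  have hcardH : Nat.card H = orderOf x := by rw [← hx, Nat.card_zpowers]
  have hconj_mem : x⁻¹ * y * x ∈ zpowers y := by
    rw [hy]
    have hn : (commutator N).Normal := inferInstance
    have hyC : y ∈ commutator N := hy ▸ mem_zpowers y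
    have := hn.conj_mem y hyC x⁻¹
    simpa using this
  obtain ⟨r0, hr0⟩ : ∃ r0 : ℕ, y ^ r0 = x⁻¹ * y * x := by
    have := (mem_powers_iff_mem_zpowers (x := y)).2 hconj_mem
    exact (Submonoid.mem_powers_iff _ _).1 this
  set r := r0 + orderOf y with hr
  have hr1 : 1 ≤ r := by omega
  have hrel : x⁻¹ * y * x = y ^ r := by
    rw [hr, pow_add, pow_orderOf_eq_one, mul_one, hr0]
  have hcopnm : Nat.Coprime (orderOf x) (orderOf y) := by
    rw [← hcardC, ← hcardH]; exact hcop.symm
  refine ⟨orderOf x, orderOf y, r, hn0, hm0, ?_, hcopnm, hr1, ?_, ?_⟩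
  · -- gcd (r - 1) m = 1
    apply Nat.coprime_of_dvd
    intro q hq hq1 hq2
    set z := y ^ (orderOf y / q) with hz
    have hz1 : z ≠ 1 := by
      apply pow_ne_one_of_lt_orderOf
      · exact (Nat.div_pos (Nat.le_of_dvd hm0 hq2) hq.pos).ne'
      · exact Nat.div_lt_self hm0 hq.one_lt
    have hzq : z ^ q = 1 := by
      rw [hz, ← pow_mul, Nat.div_mul_cancel hq2, pow_orderOf_eq_one]
    have hzr : z ^ (r - 1) = 1 := by
      obtain ⟨k, hk⟩ := hq1
      rw [hk, pow_mul, hzq, one_pow]
    have hxz : x⁻¹ * z * x = z := by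
      have h1 := conj_pow_eq x y r hrel 1 (orderOf y / q)
      rw [pow_one, pow_one] at h1
      rw [hz, h1, mul_comm, pow_mul, ← hz]
      calc z ^ r = z ^ (r - 1 + 1) := by rw [Nat.sub_add_cancel hr1]
        _ = z := by rw [pow_succ, hzr, one_mul]
    have hzC : z ∈ commutator N := by
      rw [← hy]; exact (zpowers y).pow_mem (mem_zpowers y) _
    have hzH : z ∈ centralizer (H : Set N) := by
      rw [← hx, mem_centralizer_iff]
      intro g hg
      obtain ⟨k, rfl⟩ := mem_zpowers_iff.1 hg
      have hc : Commute x z := by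
        show x * z = z * x
        calc x * z = x * (x⁻¹ * z * x) := by rw [hxz]
          _ = z * x := by group
      exact (hc.zpow_left k).eq
    have h1459 := (Cfsg.Agent.S1459.result (G := N)).1 (commutator N) H inferInstance
      (by rw [hH.symm.index_eq_card]; exact hcop) hH le_rfl
    have hbot : ⁅commutator N, commutator N⁆ = ⊥ := by
      rw [commutator_eq_bot_iff_le_centralizer, ← hy]
      intro a ha
      rw [mem_centralizer_iff]
      intro b hb
      obtain ⟨k, rfl⟩ := mem_zpowers_iff.1 ha
      obtain ⟨l, rfl⟩ := mem_zpowers_iff.1 hb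
      exact ((Commute.refl y).zpow_zpow l k).eq
    have hzbot : z ∈ (⊥ : Subgroup N) := by
      rw [← hbot]; exact h1459.2 ⟨hzC, hzH⟩
    exact hz1 (mem_bot.1 hzbot)
  · -- r ^ (n / rad n) ≡ 1 mod m
    let f : N → N := fun t => x⁻¹ * t * x
    have hiter : ∀ k : ℕ, f^[k] y = y ^ (r ^ k) := by
      intro k
      have h2 : ∀ (k : ℕ) (t : N), f^[k] t = (x ^ k)⁻¹ * t * x ^ k := by
        intro k
        induction k with
        | zero => intro t; simp
        | succ k ih =>
          intro t
          rw [Function.iterate_succ_apply', ih, pow_succ]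
          show x⁻¹ * ((x ^ k)⁻¹ * t * x ^ k) * x = (x ^ k * x)⁻¹ * t * (x ^ k * x)
          group
      rw [h2]
      have h3 := conj_pow_eq x y r hrel k 1
      rw [pow_one, mul_one] at h3
      exact h3
    have hdvd : Function.minimalPeriod f y ∣ orderOf x / ∏ p ∈ (orderOf x).primeFactors, p := by
      apply dvd_div_prod_primeFactors hn0.ne'
      · rw [← Function.isPeriodicPt_iff_minimalPeriod_dvd]
        show f^[orderOf x] y = y
        have h2 := conj_pow_eq x y r hrel (orderOf x) 1
        rw [pow_orderOf_eq_one, pow_one, mul_one, inv_one, one_mul, mul_one] at h2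
        rw [hiter, ← h2]
      · intro p hp hpn
        rw [← Function.isPeriodicPt_iff_minimalPeriod_dvd]
        show f^[orderOf x / p] y = y
        have hb : (x ^ (orderOf x / p)) ^ p = 1 := by
          rw [← pow_mul, Nat.div_mul_cancel hpn, pow_orderOf_eq_one]
        have h2 := conj_pow_eq x y r hrel (orderOf x / p) 1
        rw [pow_one, mul_one] at h2
        have hc : Commute (x ^ (orderOf x / p)) y :=
          IsFpf.commute_of_conj_eq_pow h hp hb h2
        rw [hiter, ← h2]
        have := hc.eq
        calc (x ^ (orderOf x / p))⁻¹ * y * x ^ (orderOf x / p)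
            = (x ^ (orderOf x / p))⁻¹ * (y * x ^ (orderOf x / p)) := by group
          _ = (x ^ (orderOf x / p))⁻¹ * (x ^ (orderOf x / p) * y) := by rw [this]
          _ = y := by group
    have hper : f^[orderOf x / ∏ p ∈ (orderOf x).primeFactors, p] y = y :=
      Function.isPeriodicPt_iff_minimalPeriod_dvd.2 hdvd
    rw [hiter] at hper
    have h4 : y ^ (r ^ (orderOf x / ∏ p ∈ (orderOf x).primeFactors, p)) = y ^ 1 := by
      rw [hper, pow_one]
    exact pow_eq_pow_iff_modEq.1 h4
  · -- the isomorphism
    apply nonempty_mulEquiv_presented x y (orderOf x) (orderOf y) r hn0 hm0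
      (pow_orderOf_eq_one x) (pow_orderOf_eq_one y) hrel
    · rw [eq_top_iff, ← hH.sup_eq_top, sup_le_iff, ← hy, ← hx]
      constructor
      · rw [zpowers_le]; exact subset_closure (by simp)
      · rw [zpowers_le]; exact subset_closure (by simp)
    · rw [← hH.card_mul_card, hcardC, hcardH, mul_comm]

end Cfsg.Agent.Lib.Helper95_ZPres
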