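import Mathlib

/-!
# Three facts about the alternating group of degree 6, by computation (helper96)
-/

set_option autoImplicit false
set_option maxRecDepth 100000

namespace Cfsg.Agent.Lib.Helper96_A6Facts

/-- The elements of `A₆` have order at most `5`. -/
theorem a6_orders : ∀ z : alternatingGroup (Fin 6), z = 1 ∨ z ^ 2 = 1 ∨ z ^ 3 = 1 ∨ z ^ 4 = 1 ∨ z ^ 5 = 1 := by
  decide +kernel

/-- `A₆` has `80` elements of order `3`. -/
theorem a6_card3 : (Finset.univ.filter (fun z : alternatingGroup (Fin 6) => z ^ 3 = 1)).card = 81 := by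
  decide +kernel

/-- `A₆` has `144` elements of order `5`. -/
theorem a6_card5 : (Finset.univ.filter (fun z : alternatingGroup (Fin 6) => z ^ 5 = 1)).card = 145 := by
  decide +kernel

end Cfsg.Agent.Lib.Helper96_A6Facts
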