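import Mathlib

/-!
# Products of commuting involutions indexed by bit masks, and index-two extensions (helper96)

`bprod x n u = ∏_{i<n} x i ^ (bit i of u)`.  For pairwise commuting involutions this is a
homomorphism from `(ℕ, xor)`.  Also: adjoining to a finite subgroup `K` an element `x`
normalising `K` with `x * x ∈ K` at most doubles the order.
-/

set_option autoImplicit false

namespace Cfsg.Agent.Lib.Helper96_BProd

variable {M : Type*} [Group M]

/-- `∏_{i<n} x i ^ (bit i of u)`, in increasing order of `i` -/
def bprod (x : ℕ → M) : ℕ → ℕ → M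
  | 0, _ => 1
  | n + 1, u => bprod x n u * (if u.testBit n then x n else 1)

/-- xor-fold of the `c i` over the bits of `u` -/
def xf (c : ℕ → ℕ) : ℕ → ℕ → ℕ
  | 0, _ => 0
  | m + 1, u => Nat.xor (xf c m u) (if u.testBit m then c m else 0)

theorem bprod_zero (x : ℕ → M) (n : ℕ) : bprod x n 0 = 1 := by
  induction n with
  | zero => rfl
  | succ n ih => simp [bprod, ih]

theorem bprod_mem (x : ℕ → M) (K : Subgroup M) (n u : ℕ)
    (h : ∀ i < n, u.testBit i = true → x i ∈ K) : bprod x n u ∈ K := by
  induction n with
  | zero => exact K.one_mem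
  | succ n ih =>
    simp only [bprod]
    apply K.mul_mem (ih fun i hi hb => h i (Nat.lt_succ_of_lt hi) hb)
    split_ifs with hb
    · exact h n (Nat.lt_succ_self n) hb
    · exact K.one_mem

theorem bprod_congr (x y : ℕ → M) (n u : ℕ) (h : ∀ i < n, x i = y i) :
    bprod x n u = bprod y n u := by
  induction n with
  | zero => rfl
  | succ n ih =>
    simp only [bprod]
    rw [ih fun i hi => h i (Nat.lt_succ_of_lt hi), h n (Nat.lt_succ_self n)]

theorem bprod_commute (x : ℕ → M) (y : M) (n u : ℕ) (h : ∀ i < n, Commute y (x i)) :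
    Commute y (bprod x n u) := by
  induction n with
  | zero => exact Commute.one_right y
  | succ n ih =>
    simp only [bprod]
    apply Commute.mul_right (ih fun i hi => h i (Nat.lt_succ_of_lt hi))
    split_ifs
    · exact h n (Nat.lt_succ_self n)
    · exact Commute.one_right y

theorem bprod_conj (x : ℕ → M) (a : M) (n u : ℕ) :
    a * bprod x n u * a⁻¹ = bprod (fun i => a * x i * a⁻¹) n u := by
  induction n with
  | zero => simp [bprod]
  | succ n ih =>
    simp only [bprod]
    rw [← ih]
    split_ifs <;> group

theorem bprod_map {M' : Type*} [Group M'] (f : M →* M') (x : ℕ → M) (n u : ℕ) :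
    f (bprod x n u) = bprod (fun i => f (x i)) n u := by
  induction n with
  | zero => simp [bprod]
  | succ n ih =>
    simp only [bprod, map_mul, ih]
    split_ifs <;> simp

section comm

variable (x : ℕ → M) (n : ℕ) (hc : ∀ i < n, ∀ j < n, Commute (x i) (x j))
  (hs : ∀ i < n, x i * x i = 1)

include hc hs in
theorem bprod_xor (u v : ℕ) : bprod x n (u ^^^ v) = bprod x n u * bprod x n v := by
  induction n with
  | zero => simp [bprod]
  | succ n ih =>
    have hc' : ∀ i < n, ∀ j < n, Commute (x i) (x j) := fun i hi j hj =>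
      hc i (Nat.lt_succ_of_lt hi) j (Nat.lt_succ_of_lt hj)
    have hs' : ∀ i < n, x i * x i = 1 := fun i hi => hs i (Nat.lt_succ_of_lt hi)
    have hcomm : ∀ w, Commute (x n) (bprod x n w) := fun w =>
      bprod_commute x (x n) n w fun i hi => hc n (Nat.lt_succ_self n) i (Nat.lt_succ_of_lt hi)
    simp only [bprod]
    rw [ih hc' hs', Nat.testBit_xor]
    have hn := hs n (Nat.lt_succ_self n)
    have e := (hcomm v).eq
    cases hu : u.testBit n <;> cases hv : v.testBit n
    · simp
    · simp only [Bool.false_bne, if_true, Bool.false_eq_true, if_false, mul_one]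
      group
    · simp only [Bool.true_bne, Bool.not_false, if_true, Bool.false_eq_true, if_false, mul_one]
      calc bprod x n u * bprod x n v * x n = bprod x n u * (bprod x n v * x n) := by group
        _ = bprod x n u * (x n * bprod x n v) := by rw [e]
        _ = _ := by group
    · simp only [Bool.true_bne, Bool.not_true, Bool.false_eq_true, if_false, if_true, mul_one]
      calc bprod x n u * bprod x n v = bprod x n u * (x n * x n) * bprod x n v := by rw [hn]; group
        _ = bprod x n u * x n * (x n * bprod x n v) := by group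
        _ = bprod x n u * x n * (bprod x n v * x n) := by rw [e]

include hc hs in
theorem bprod_mul_self (u : ℕ) : bprod x n u * bprod x n u = 1 := by
  rw [← bprod_xor x n hc hs, Nat.xor_self, bprod_zero]

theorem bprod_two_pow (i : ℕ) (hi : i < n) : bprod x n (2 ^ i) = x i := by
  induction n with
  | zero => omega
  | succ n ih =>
    simp only [bprod]
    rcases Nat.lt_succ_iff_lt_or_eq.mp hi with h | h
    · rw [ih h]
      have : (2 ^ i).testBit n = false := by
        rw [Nat.testBit_two_pow]; simp; omega
      simp [this]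
    · subst h
      have h1 : bprod x i (2 ^ i) = 1 := by
        clear ih hi
        have : ∀ m ≤ i, bprod x m (2 ^ i) = 1 := by
          intro m hm
          induction m with
          | zero => rfl
          | succ m ihm =>
            simp only [bprod]
            rw [ihm (Nat.le_of_succ_le hm)]
            have : (2 ^ i).testBit m = false := by
              rw [Nat.testBit_two_pow]; simp; omega
            simp [this]
        exact this i le_rfl
      rw [h1]
      simp

theorem xf_congr (c c' : ℕ → ℕ) (m u : ℕ) (h : ∀ i < m, c i = c' i) : xf c m u = xf c' m u := by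
  induction m with
  | zero => rfl
  | succ m ih =>
    simp only [xf]
    rw [ih fun i hi => h i (Nat.lt_succ_of_lt hi), h m (Nat.lt_succ_self m)]

theorem xf_lt (c : ℕ → ℕ) (N : ℕ) (m u : ℕ) (h : ∀ i < m, c i < 2 ^ N) : xf c m u < 2 ^ N := by
  induction m with
  | zero => simp [xf]
  | succ m ih =>
    simp only [xf]
    apply Nat.xor_lt_two_pow (ih fun i hi => h i (Nat.lt_succ_of_lt hi))
    split_ifs
    · exact h m (Nat.lt_succ_self m)
    · exact Nat.two_pow_pos N

include hc hs in
/-- a product of products is the product at the xor-fold -/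
theorem bprod_bprod (c : ℕ → ℕ) (m u : ℕ) :
    bprod (fun b => bprod x n (c b)) m u = bprod x n (xf c m u) := by
  induction m with
  | zero => simp [bprod, xf, bprod_zero]
  | succ m ih =>
    simp only [bprod, xf]
    rw [ih]
    show _ = bprod x n (xf c m u ^^^ _)
    rw [bprod_xor x n hc hs]
    split_ifs
    · rfl
    · rw [bprod_zero]

include hc hs in
theorem closure_subset_bprod (S : Set M) (hS : ∀ s ∈ S, ∃ u < 2 ^ n, s = bprod x n u) :
    ∀ y ∈ Subgroup.closure S, ∃ u < 2 ^ n, y = bprod x n u := by
  intro y hy
  induction hy using Subgroup.closure_induction with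
  | mem s hs' => exact hS s hs'
  | one => exact ⟨0, Nat.two_pow_pos n, (bprod_zero x n).symm⟩
  | mul a b _ _ iha ihb =>
    obtain ⟨u, hu, rfl⟩ := iha
    obtain ⟨v, hv, rfl⟩ := ihb
    exact ⟨u ^^^ v, Nat.xor_lt_two_pow hu hv, (bprod_xor x n hc hs u v).symm⟩
  | inv a _ iha =>
    obtain ⟨u, hu, rfl⟩ := iha
    exact ⟨u, hu, inv_eq_of_mul_eq_one_left (bprod_mul_self x n hc hs u)⟩

end comm

/-! ### index-two extensions -/

/-- Adjoining an element normalising `K` whose square lies in `K`. -/
theorem card_sup_zpowers_le (K : Subgroup M) [Finite K] (x : M) (hx2 : x * x ∈ K)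
    (hnorm : ∀ k ∈ K, x * k * x⁻¹ ∈ K) :
    Nat.card (K ⊔ Subgroup.zpowers x : Subgroup M) ≤ 2 * Nat.card K := by
  classical
  have hinv : x⁻¹ * x⁻¹ ∈ K := by
    have := K.inv_mem hx2
    rwa [mul_inv_rev] at this
  have hnorm' : ∀ k ∈ K, x⁻¹ * k * x ∈ K := by
    intro k hk
    have h1 := hnorm k hk
    have : x⁻¹ * k * x = (x⁻¹ * x⁻¹) * (x * k * x⁻¹) * (x * x) := by group
    rw [this]
    exact K.mul_mem (K.mul_mem hinv h1) hx2
  -- the subgroup `K ∪ xK`
  let L : Subgroup M :=
    { carrier := {g | g ∈ K ∨ x⁻¹ * g ∈ K}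
      one_mem' := Or.inl K.one_mem
      mul_mem' := by
        rintro a b (ha | ha) (hb | hb)
        · exact Or.inl (K.mul_mem ha hb)
        · right
          have : x⁻¹ * (a * b) = (x⁻¹ * a * x) * (x⁻¹ * b) := by group
          rw [this]
          exact K.mul_mem (hnorm' a ha) hb
        · right
          have : x⁻¹ * (a * b) = (x⁻¹ * a) * b := by group
          rw [this]
          exact K.mul_mem ha hb
        · left
          have : a * b = (x * x) * (x⁻¹ * (x⁻¹ * a) * x) * (x⁻¹ * b) := by group
          rw [this]
          exact K.mul_mem (K.mul_mem hx2 (hnorm' _ ha)) hb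
      inv_mem' := by
        rintro a (ha | ha)
        · exact Or.inl (K.inv_mem ha)
        · right
          have : x⁻¹ * a⁻¹ = (x⁻¹ * x⁻¹) * (x * (x⁻¹ * a)⁻¹ * x⁻¹) := by group
          rw [this]
          exact K.mul_mem hinv (hnorm _ (K.inv_mem ha)) }
  have hle : K ⊔ Subgroup.zpowers x ≤ L := by
    apply sup_le
    · intro k hk; exact Or.inl hk
    · rw [Subgroup.zpowers_le]
      right
      simp
  have hfin : (K : Set M).Finite := Set.toFinite _
  have hL : (L : Set M) ⊆ (K : Set M) ∪ (fun k => x * k) '' (K : Set M) := by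
    rintro g (hg | hg)
    · exact Or.inl hg
    · exact Or.inr ⟨x⁻¹ * g, hg, by group⟩
  have hfinU : ((K : Set M) ∪ (fun k => x * k) '' (K : Set M)).Finite :=
    hfin.union (hfin.image _)
  have hLfin : (L : Set M).Finite := hfinU.subset hL
  have : Finite L := hLfin
  calc Nat.card (K ⊔ Subgroup.zpowers x : Subgroup M) ≤ Nat.card L := Subgroup.card_le_of_le hle
    _ = (L : Set M).ncard := (Nat.card_coe_set_eq _)
    _ ≤ ((K : Set M) ∪ (fun k => x * k) '' (K : Set M)).ncard := Set.ncard_le_ncard hL hfinU
    _ ≤ (K : Set M).ncard + ((fun k => x * k) '' (K : Set M)).ncard := Set.ncard_union_le _ _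
    _ ≤ (K : Set M).ncard + (K : Set M).ncard :=
      Nat.add_le_add_left (Set.ncard_image_le hfin) _
    _ = 2 * Nat.card K := by
      have : (K : Set M).ncard = Nat.card K := (Nat.card_coe_set_eq (K : Set M)).symm
      rw [this]; ring

end Cfsg.Agent.Lib.Helper96_BProd
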