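import Cfsg.Agent.Lib.Helper96_CosetTable
import Cfsg.Prelude.Def_SporCoxeter

/-!
# Coset-enumeration certificates for the Coxeter-style presentations (helper96)

Glue between the certificate checker of `Helper96_CosetTable` and the groups `CoxPresented α edges extra` all of
whose generators are nodes of the graph (hence involutions): the letter `x` is the generator `gen x`, every word of
the certificate is the reduced word (signs forgotten) of a relator, of `1`, or of a generator of the subgroup.
-/

set_option autoImplicit false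

namespace Cfsg.Agent.Lib.Helper96_CosetCox

open Cfsg.Agent.Lib.Helper96_CosetTable Cfsg.Spor

section

variable {α : Type} [DecidableEq α] (edges : List (α × ℕ × α)) (extra : List (FreeGroup α))

/-- a node of the graph is an involution of the presented group -/
theorem of_mul_self (y : α) (hy : y ∈ coxNodes edges) :
    (PresentedGroup.of y : PresentedGroup (coxRelators edges ∪ {r | r ∈ extra})) * PresentedGroup.of y = 1 := by
  have hmem : (FreeGroup.of y * FreeGroup.of y) ^ coxLabel edges y y ∈ coxRelators edges ∪ {r | r ∈ extra} :=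
    Or.inl ⟨y, hy, y, hy, rfl⟩
  have h1 : coxLabel edges y y = 1 := by simp [coxLabel]
  rw [h1, pow_one] at hmem
  have h2 := PresentedGroup.one_of_mem hmem
  rw [map_mul] at h2
  exact h2

theorem of_inv (y : α) (hy : y ∈ coxNodes edges) :
    (PresentedGroup.of y : PresentedGroup (coxRelators edges ∪ {r | r ∈ extra}))⁻¹ = PresentedGroup.of y :=
  inv_eq_of_mul_eq_one_left (of_mul_self edges extra y hy)

/-- the image of a word of the free group, signs forgotten -/
theorem mk_eq_prod (gen : Nat → α) (idx : α → Nat) (hgi : ∀ y : α, gen (idx y) = y ∧ y ∈ coxNodes edges) :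
    ∀ L : List (α × Bool), PresentedGroup.mk (coxRelators edges ∪ {r | r ∈ extra}) (FreeGroup.mk L) =
      ((L.map (fun p => idx p.1)).map
        (fun x => (PresentedGroup.of (gen x) : PresentedGroup (coxRelators edges ∪ {r | r ∈ extra})))).prod := by
  intro L
  induction L with
  | nil =>
    rw [← FreeGroup.one_eq_mk, map_one]
    rfl
  | cons p L ih =>
    have h1 : FreeGroup.mk (p :: L) = FreeGroup.mk [p] * FreeGroup.mk L := by
      rw [FreeGroup.mul_mk]; rfl
    rw [h1, map_mul, ih, List.map_cons, List.map_cons, List.prod_cons]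
    congr 1
    obtain ⟨y, b⟩ := p
    show _ = PresentedGroup.of (gen (idx y))
    rw [(hgi y).1]
    cases b
    · have h2 : FreeGroup.mk [(y, false)] = (FreeGroup.of y)⁻¹ := rfl
      rw [h2, map_inv]
      exact of_inv edges extra y (hgi y).2
    · rfl

/-- The hypotheses of the checker, for a presentation on involutions. -/
theorem hyp_cox (S : Set (FreeGroup α)) (subs : List (FreeGroup α)) (hS : ∀ s ∈ subs, s ∈ S)
    (gen : Nat → α) (idx : α → Nat) (D : Data) (ws : List (FreeGroup α × Bool))
    (hgi : ∀ y : α, gen (idx y) = y ∧ idx y < D.ncol ∧ y ∈ coxNodes edges)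
    (hinvL : ∀ x, x < D.ncol → D.invL x = x)
    (hletters : ∀ k, k < D.nw →
      letters (D.wLetters k) (D.wLen k) = ((ws.getD k (1, false)).1.toWord.map (fun p => idx p.1)) ∧
      D.wSub k = (if (ws.getD k (1, false)).2 = true then 1 else 0) ∧ k < ws.length)
    (hws : ∀ p ∈ ws, if p.2 = true then p.1 ∈ subs else
      (p.1 = 1 ∨ p.1 ∈ extra ∨ ∃ x ∈ coxNodes edges, ∃ y ∈ coxNodes edges,
        p.1 = (FreeGroup.of x * FreeGroup.of y) ^ coxLabel edges x y)) :
    Hyp ((Subgroup.closure S).map (PresentedGroup.mk (coxRelators edges ∪ {r | r ∈ extra})))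
      (fun x => (PresentedGroup.of (gen x) : PresentedGroup (coxRelators edges ∪ {r | r ∈ extra}))) D := by
  refine ⟨?_, ?_, ?_⟩
  · intro x hx
    rw [hinvL x hx]; exact hx
  · intro x hx
    rw [hinvL x hx]
    exact (of_inv edges extra (gen x) (hgi (gen x)).2.2).symm
  · intro k hk
    obtain ⟨h1, h2, h3⟩ := hletters k hk
    have hp : ws.getD k (1, false) ∈ ws := by
      rw [List.getD_eq_getElem _ _ h3]
      exact List.getElem_mem h3
    generalize ws.getD k (1, false) = p at h1 h2 hp
    have hprod : ((letters (D.wLetters k) (D.wLen k)).map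
        (fun x => (PresentedGroup.of (gen x) : PresentedGroup (coxRelators edges ∪ {r | r ∈ extra})))).prod =
        PresentedGroup.mk (coxRelators edges ∪ {r | r ∈ extra}) p.1 := by
      rw [h1, ← mk_eq_prod edges extra gen idx (fun y => ⟨(hgi y).1, (hgi y).2.2⟩), FreeGroup.mk_toWord]
    rw [hprod]
    have hw := hws p hp
    by_cases hb : p.2 = true
    · rw [if_pos hb] at hw h2
      rw [if_pos h2]
      exact Subgroup.mem_map_of_mem _ (Subgroup.subset_closure (hS _ hw))
    · rw [if_neg hb] at hw h2
      rw [if_neg (by rw [h2]; exact Nat.zero_ne_one)]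
      rcases hw with hw | hw | ⟨x, hx, y, hy, hw⟩
      · rw [hw, map_one]
      · exact PresentedGroup.one_of_mem (Or.inr hw)
      · exact PresentedGroup.one_of_mem (Or.inl ⟨x, hx, y, hy, hw⟩)

/-- **Upper bound for the index** from a certificate. -/
theorem cox_index_le (S : Set (FreeGroup α)) (subs : List (FreeGroup α)) (hS : ∀ s ∈ subs, s ∈ S)
    (gen : Nat → α) (idx : α → Nat) (D : Data) (ws : List (FreeGroup α × Bool))
    (hgi : ∀ y : α, gen (idx y) = y ∧ idx y < D.ncol ∧ y ∈ coxNodes edges)
    (hinvL : ∀ x, x < D.ncol → D.invL x = x)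
    (hletters : ∀ k, k < D.nw →
      letters (D.wLetters k) (D.wLen k) = ((ws.getD k (1, false)).1.toWord.map (fun p => idx p.1)) ∧
      D.wSub k = (if (ws.getD k (1, false)).2 = true then 1 else 0) ∧ k < ws.length)
    (hws : ∀ p ∈ ws, if p.2 = true then p.1 ∈ subs else
      (p.1 = 1 ∨ p.1 ∈ extra ∨ ∃ x ∈ coxNodes edges, ∃ y ∈ coxNodes edges,
        p.1 = (FreeGroup.of x * FreeGroup.of y) ^ coxLabel edges x y))
    (hok : D.ok = true) (ht : D.tblOk = true) :
    ((Subgroup.closure S).map (PresentedGroup.mk (coxRelators edges ∪ {r | r ∈ extra}))).index ≠ 0 ∧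
    ((Subgroup.closure S).map (PresentedGroup.mk (coxRelators edges ∪ {r | r ∈ extra}))).index ≤ D.n := by
  refine index_le (hyp_cox edges extra S subs hS gen idx D ws hgi hinvL hletters hws) hok ht ?_
  rw [eq_top_iff, ← PresentedGroup.closure_range_of]
  apply Subgroup.closure_mono
  rintro _ ⟨y, rfl⟩
  exact ⟨idx y, (hgi y).2.1, by show PresentedGroup.of (gen (idx y)) = _; rw [(hgi y).1]⟩

end

end Cfsg.Agent.Lib.Helper96_CosetCox
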