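import Mathlib

/-!
# A reflective checker for coset-enumeration certificates (helper96)

Given a group `G`, a subgroup `H`, finitely many letters `sem x : G` (`x < ncol`) closed under inverses,
relator words (whose product is `1`) and subgroup words (whose product lies in `H`), a *certificate* is a
prefix tree of rows (each row `u` carries a word `W u`, with `W 0 = 1` and `W u = W (parent u) * sem (letter u)`),
an array of *facts* `(u, ℓ, v)` meaning `W u * ℓ * (W v)⁻¹ ∈ H` (`ℓ` a letter or the empty label), and for every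
fact that is not the definition of a row a closed walk through earlier facts which spells one of the given
words and uses the new fact exactly once.  A final table on `n` rows which is closed under all letters then shows
that `H` has index at most `n`.

All data are packed into natural numbers and the checker is written with the raw operations `Nat.land`,
`Nat.shiftRight`, `Nat.beq`, … so that it runs quickly in the kernel; the soundness theorems below do not look
inside the packing.
-/

set_option autoImplicit false

namespace Cfsg.Agent.Lib.Helper96_CosetTable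

/-- Letter number `pos` of a packed word (8 bits per letter). -/
def let8 (word pos : Nat) : Nat := Nat.land (Nat.shiftRight word (Nat.mul 8 pos)) 255

/-- A binary tree of natural numbers (storage for packed arrays: small leaves keep the kernel's big-number
operations cheap). -/
inductive NTree where
  | leaf (x : Nat)
  | node (l r : NTree)

/-- The leaf reached from the root by following the lowest `k` bits of `idx`, highest bit first. -/
def NTree.get : NTree → Nat → Nat → Nat
  | .leaf x, _, _ => x
  | .node l r, k, idx =>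
    match Nat.land (Nat.shiftRight idx (Nat.pred k)) 1 with
    | 0 => l.get (Nat.pred k) idx
    | _ => r.get (Nat.pred k) idx

/-- Entry `i` of a packed array stored in a tree of depth `depth` whose leaves hold `2 ^ c` entries of
`bits` bits. -/
def arrGet (t : NTree) (depth c bits i : Nat) : Nat :=
  Nat.land (Nat.shiftRight (t.get depth (Nat.shiftRight i c))
    (Nat.mul bits (Nat.land i (Nat.sub (Nat.pow 2 c) 1)))) (Nat.sub (Nat.pow 2 bits) 1)

/-- The data of a certificate.  The arrays are given as functions; the soundness theorems do not depend on how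
they are stored. -/
structure Data where
  /-- number of bits of a row number or a fact number -/
  w : Nat
  /-- number of letters; the label `ncol` is the empty label -/
  ncol : Nat
  /-- the inverse letter of each letter -/
  invL : Nat → Nat
  /-- number of words -/
  nw : Nat
  /-- word records: bit 0 says whether it is a subgroup word, bits 1 to 15 are the length, the letters
  (8 bits each) follow from bit 16 on -/
  wrec : Nat → Nat
  /-- number of rows -/
  R : Nat
  /-- the facts; a record (of `2 * w + 8` bits) holds `u`, `v` and the label -/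
  getRec : Nat → Nat
  /-- number of facts -/
  NF : Nat
  /-- the walks of the facts `R - 1`, `R`, … -/
  walks : List Nat
  /-- number of rows of the final table -/
  n : Nat
  /-- the rows of the final table -/
  rr : Nat → Nat
  /-- for each row, its position in the final table plus one, or zero -/
  li : Nat → Nat
  /-- for each entry of the final table, a fact and a direction (lowest bit) -/
  tj : Nat → Nat

namespace Data

variable (D : Data)

/-- mask of `w` bits -/
def mw : Nat := Nat.sub (Nat.pow 2 D.w) 1
/-- `w + 1` -/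
def w1 : Nat := Nat.succ D.w
/-- mask of `w + 1` bits -/
def m1 : Nat := Nat.sub (Nat.pow 2 (Nat.succ D.w)) 1
/-- `2 * w` -/
def w2 : Nat := Nat.mul 2 D.w

/-- source row of a record -/
def rU (r : Nat) : Nat := Nat.land r D.mw
/-- target row of a record -/
def rV (r : Nat) : Nat := Nat.land (Nat.shiftRight r D.w) D.mw
/-- label of a record -/
def rL (r : Nat) : Nat := Nat.shiftRight r D.w2
/-- `1` if word `k` is a subgroup word -/
def wSub (k : Nat) : Nat := Nat.land (D.wrec k) 1
/-- length of word `k` -/
def wLen (k : Nat) : Nat := Nat.land (Nat.shiftRight (D.wrec k) 1) 32767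
/-- packed letters of word `k` -/
def wLetters (k : Nat) : Nat := Nat.shiftRight (D.wrec k) 16

/-- parent row of row `u` -/
def parent (u : Nat) : Nat := D.rU (D.getRec (u - 1))
/-- last letter of row `u` -/
def letter (u : Nat) : Nat := D.rL (D.getRec (u - 1))

/-- the last `fuel` of the facts `0, …, R - 2` define rows -/
def defsOk : (fuel : Nat) → Bool
  | 0 => true
  | f + 1 =>
    Nat.beq (D.rV (D.getRec (Nat.sub (Nat.pred D.R) (Nat.succ f)))) (Nat.succ (Nat.sub (Nat.pred D.R) (Nat.succ f))) &&
    (Nat.blt (D.rU (D.getRec (Nat.sub (Nat.pred D.R) (Nat.succ f)))) (Nat.succ (Nat.sub (Nat.pred D.R) (Nat.succ f))) &&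
      (Nat.blt (D.rL (D.getRec (Nat.sub (Nat.pred D.R) (Nat.succ f)))) D.ncol && defsOk f))

/-- One closed walk.  `word`, `wlen` is the word spelled, `s` the row where the walk starts and ends, `φ` the
number of the fact being proved, which is used exactly at the step with `g` steps remaining after it.  The state
is the current row and the position in the word. -/
def walkOk (word wlen s φ g : Nat) : (m : Nat) → (data row pos : Nat) → Bool
  | 0, _, row, pos => Nat.beq row s && Nat.beq pos wlen
  | m + 1, data, row, pos =>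
    (match Nat.beq m g with
      | true => Nat.beq (Nat.shiftRight (Nat.land data D.m1) 1) φ
      | false => Nat.blt (Nat.shiftRight (Nat.land data D.m1) 1) φ) &&
    (match Nat.beq (Nat.land data 1) 0 with
      | true =>
        Nat.beq row (D.rU (D.getRec (Nat.shiftRight (Nat.land data D.m1) 1))) &&
        (match Nat.beq (D.rL (D.getRec (Nat.shiftRight (Nat.land data D.m1) 1))) D.ncol with
          | true => walkOk word wlen s φ g m (Nat.shiftRight data D.w1)
              (D.rV (D.getRec (Nat.shiftRight (Nat.land data D.m1) 1))) pos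
          | false => Nat.blt pos wlen &&
              (Nat.beq (let8 word pos) (D.rL (D.getRec (Nat.shiftRight (Nat.land data D.m1) 1))) &&
              walkOk word wlen s φ g m (Nat.shiftRight data D.w1)
                (D.rV (D.getRec (Nat.shiftRight (Nat.land data D.m1) 1))) (Nat.succ pos)))
      | false =>
        Nat.beq row (D.rV (D.getRec (Nat.shiftRight (Nat.land data D.m1) 1))) &&
        (match Nat.beq (D.rL (D.getRec (Nat.shiftRight (Nat.land data D.m1) 1))) D.ncol with
          | true => walkOk word wlen s φ g m (Nat.shiftRight data D.w1)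
              (D.rU (D.getRec (Nat.shiftRight (Nat.land data D.m1) 1))) pos
          | false => Nat.blt pos wlen &&
              (Nat.beq (let8 word pos) (D.invL (D.rL (D.getRec (Nat.shiftRight (Nat.land data D.m1) 1)))) &&
              walkOk word wlen s φ g m (Nat.shiftRight data D.w1)
                (D.rU (D.getRec (Nat.shiftRight (Nat.land data D.m1) 1))) (Nat.succ pos))))

/-- The walk of fact `φ`: word number (8 bits), start row (`w` bits), number of steps (16 bits), number of steps
after the one which uses the new fact (16 bits), steps (`w + 1` bits each: direction, fact). -/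
def factOk (φ walk : Nat) : Bool :=
  Nat.blt (Nat.land walk 255) D.nw &&
  ((match Nat.beq (D.wSub (Nat.land walk 255)) 1 with
    | true => Nat.beq (Nat.land (Nat.shiftRight walk 8) D.mw) 0
    | false => true) &&
  (Nat.ble (D.rL (D.getRec φ)) D.ncol &&
  (Nat.blt (Nat.land (Nat.shiftRight walk (Nat.add 24 D.w)) 65535) (Nat.land (Nat.shiftRight walk (Nat.add 8 D.w)) 65535) &&
    D.walkOk (D.wLetters (Nat.land walk 255)) (D.wLen (Nat.land walk 255)) (Nat.land (Nat.shiftRight walk 8) D.mw) φ
      (Nat.land (Nat.shiftRight walk (Nat.add 24 D.w)) 65535)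
      (Nat.land (Nat.shiftRight walk (Nat.add 8 D.w)) 65535)
      (Nat.shiftRight walk (Nat.add 40 D.w)) (Nat.land (Nat.shiftRight walk 8) D.mw) 0)))

/-- all walks, the first one proving fact `φ` (the match only forces the evaluation of `φ`) -/
def walksOk : (φ : Nat) → List Nat → Bool
  | φ, [] => Nat.beq φ D.NF
  | φ, walk :: rest =>
    match φ with
    | 0 => D.factOk 0 walk && walksOk 1 rest
    | φ' + 1 => D.factOk (Nat.succ φ') walk && walksOk (Nat.succ (Nat.succ φ')) rest

/-- the facts are proved -/
def ok : Bool := Nat.blt 0 D.R && (D.defsOk (Nat.pred D.R) && D.walksOk (Nat.pred D.R) D.walks)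

/-- row `d` is a row of the final table -/
def liveOk (d : Nat) : Bool :=
  Nat.blt 0 (D.li d) && (Nat.ble (D.li d) D.n && Nat.beq (D.rr (Nat.pred (D.li d))) d)

/-- entry number `k` of the final table: row `k / ncol`, letter `k % ncol` -/
def entryOk (k : Nat) : Bool :=
  Nat.blt (Nat.shiftRight (D.tj k) 1) D.NF &&
  (match Nat.beq (Nat.land (D.tj k) 1) 0 with
    | true =>
      Nat.beq (D.rU (D.getRec (Nat.shiftRight (D.tj k) 1))) (D.rr (Nat.div k D.ncol)) &&
      (Nat.beq (D.rL (D.getRec (Nat.shiftRight (D.tj k) 1))) (Nat.mod k D.ncol) &&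
      D.liveOk (D.rV (D.getRec (Nat.shiftRight (D.tj k) 1))))
    | false =>
      Nat.beq (D.rV (D.getRec (Nat.shiftRight (D.tj k) 1))) (D.rr (Nat.div k D.ncol)) &&
      (Nat.blt (D.rL (D.getRec (Nat.shiftRight (D.tj k) 1))) D.ncol &&
      (Nat.beq (D.invL (D.rL (D.getRec (Nat.shiftRight (D.tj k) 1)))) (Nat.mod k D.ncol) &&
      D.liveOk (D.rU (D.getRec (Nat.shiftRight (D.tj k) 1))))))

/-- the last `fuel` entries of the final table -/
def tblLoop : (fuel : Nat) → Bool
  | 0 => true
  | f + 1 => D.entryOk (Nat.sub (Nat.mul D.n D.ncol) (Nat.succ f)) && tblLoop f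

/-- the final table is closed -/
def tblOk : Bool := Nat.beq (D.rr 0) 0 && (Nat.blt 0 D.n && D.tblLoop (Nat.mul D.n D.ncol))

end Data

/-- One block of walks: `k` walks, each preceded by its length in bits (16 bits), prepended to `tl`. -/
def unpackBlock : Nat → Nat → List Nat → List Nat
  | 0, _, tl => tl
  | k + 1, s, tl =>
    Nat.land (Nat.shiftRight s 16) (Nat.sub (Nat.pow 2 (Nat.land s 65535)) 1) ::
      unpackBlock k (Nat.shiftRight s (Nat.add 16 (Nat.land s 65535))) tl

/-- Unpacks a list of blocks of walks; a block starts with the number of its walks (16 bits). -/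
def unpackAll : List Nat → List Nat
  | [] => []
  | b :: bs => unpackBlock (Nat.land b 65535) (Nat.shiftRight b 16) (unpackAll bs)

/-! ## Semantics -/

section Sem

variable {G : Type*} [Group G] (H : Subgroup G) (sem : Nat → G) (D : Data)

/-- the word of a row -/
noncomputable def W (u : Nat) : G :=
  if h : 0 < u ∧ D.parent u < u then W (D.parent u) * sem (D.letter u) else 1
termination_by u
decreasing_by exact h.2

theorem W_zero : W sem D 0 = 1 := by
  rw [W]; simp

theorem W_succ (u : Nat) (h : 0 < u ∧ D.parent u < u) :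
    W sem D u = W sem D (D.parent u) * sem (D.letter u) := by
  rw [W]; simp [h]

/-- semantics of a label -/
def semE (ℓ : Nat) : G := if ℓ = D.ncol then 1 else sem ℓ

/-- the element attached to a record -/
noncomputable def elt (r : Nat) : G :=
  W sem D (D.rU r) * semE sem D (D.rL r) * (W sem D (D.rV r))⁻¹

/-- fact number `φ` holds -/
def Holds (φ : Nat) : Prop := elt sem D (D.getRec φ) ∈ H

/-- the letters of a packed word -/
def letters (word wlen : Nat) : List Nat := (List.range wlen).map (let8 word)

/-- the hypotheses on the letters and the words -/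
structure Hyp : Prop where
  inv_lt : ∀ x, x < D.ncol → D.invL x < D.ncol
  inv : ∀ x, x < D.ncol → sem (D.invL x) = (sem x)⁻¹
  words : ∀ k, k < D.nw → (if D.wSub k = 1 then (((letters (D.wLetters k) (D.wLen k)).map sem).prod ∈ H)
      else (((letters (D.wLetters k) (D.wLen k)).map sem).prod = 1))

variable {H sem D}

/-- product of the letters of a word from position `pos` on -/
def wprod (sem : Nat → G) (word wlen pos : Nat) : G := (((letters word wlen).drop pos).map sem).prod

theorem wprod_end (word wlen : Nat) : wprod sem word wlen wlen = 1 := by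
  unfold wprod letters
  rw [List.drop_of_length_le (by simp)]
  simp

theorem wprod_step (word wlen pos : Nat) (h : pos < wlen) :
    wprod sem word wlen pos = sem (let8 word pos) * wprod sem word wlen (pos + 1) := by
  unfold wprod
  have hl : pos < (letters word wlen).length := by simp [letters, h]
  rw [List.drop_eq_getElem_cons hl, List.map_cons, List.prod_cons]
  congr 2
  simp [letters]

/-- soundness of one closed walk -/
theorem walkOk_sound (hyp : Hyp H sem D) (word wlen s φ g : Nat) (hφL : D.rL (D.getRec φ) ≤ D.ncol)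
    (ih : ∀ ψ, ψ < φ → D.rL (D.getRec ψ) ≤ D.ncol ∧ Holds H sem D ψ) :
    ∀ (m data row pos : Nat), D.walkOk word wlen s φ g m data row pos = true →
      (m ≤ g → W sem D row * wprod sem word wlen pos * (W sem D s)⁻¹ ∈ H) ∧
      (g < m → ∃ a ∈ H, ∃ b ∈ H, ∃ T : G, (T = elt sem D (D.getRec φ) ∨ T = (elt sem D (D.getRec φ))⁻¹) ∧
        W sem D row * wprod sem word wlen pos * (W sem D s)⁻¹ = a * T * b) := by
  intro m
  induction m with
  | zero =>
    intro data row pos h
    simp only [Data.walkOk, Bool.and_eq_true, Nat.beq_eq] at h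
    obtain ⟨h1, h2⟩ := h
    subst h1; subst h2
    constructor
    · intro _
      rw [wprod_end, mul_one, mul_inv_cancel]
      exact H.one_mem
    · intro h0
      exact absurd h0 (Nat.not_lt_zero _)
  | succ m ihm =>
    intro data row pos h
    rw [Data.walkOk] at h
    rw [Bool.and_eq_true] at h
    obtain ⟨hψ, hrest⟩ := h
    generalize hψdef : Nat.shiftRight (Nat.land data D.m1) 1 = ψ at hψ hrest
    generalize hr : D.getRec ψ = r at hrest
    -- which fact is used
    have hψ' : (m = g ∧ ψ = φ) ∨ (m ≠ g ∧ ψ < φ) := by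
      split at hψ
      · rename_i hmg
        rw [Nat.beq_eq] at hmg hψ
        exact Or.inl ⟨hmg, hψ⟩
      · rename_i hmg
        rw [Nat.blt_eq] at hψ
        refine Or.inr ⟨?_, hψ⟩
        intro hmg'
        rw [← Nat.beq_eq] at hmg'
        rw [hmg'] at hmg
        exact absurd hmg (by simp)
    -- the label of the record is at most `ncol`
    have hL : D.rL r ≤ D.ncol := by
      rcases hψ' with ⟨_, heq⟩ | ⟨_, hlt⟩
      · rw [← hr, heq]; exact hφL
      · rw [← hr]; exact (ih ψ hlt).1
    -- general step: from `row = a`, next row `b`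
    have key : ∀ (a b : Nat) (t : G) (pos' : Nat),
        row = a →
        W sem D a * wprod sem word wlen pos * (W sem D s)⁻¹ =
          t * (W sem D b * wprod sem word wlen pos' * (W sem D s)⁻¹) →
        (t = elt sem D r ∨ t = (elt sem D r)⁻¹) →
        D.walkOk word wlen s φ g m (Nat.shiftRight data D.w1) b pos' = true →
        (m + 1 ≤ g → W sem D row * wprod sem word wlen pos * (W sem D s)⁻¹ ∈ H) ∧
        (g < m + 1 → ∃ a ∈ H, ∃ b ∈ H, ∃ T : G, (T = elt sem D (D.getRec φ) ∨ T = (elt sem D (D.getRec φ))⁻¹) ∧
          W sem D row * wprod sem word wlen pos * (W sem D s)⁻¹ = a * T * b) := by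
      intro a b t pos' hrow heq ht hwalk
      have hnext := ihm _ _ _ hwalk
      rw [hrow, heq]
      rcases hψ' with ⟨hmg, heqφ⟩ | ⟨hmg, hlt⟩
      · -- the new fact
        constructor
        · intro hle
          omega
        · intro _
          refine ⟨1, H.one_mem, _, hnext.1 (le_of_eq hmg), t, ?_, by group⟩
          rw [← heqφ, hr]
          exact ht
      · -- earlier fact
        have htH : t ∈ H := by
          have hh : elt sem D r ∈ H := by rw [← hr]; exact (ih ψ hlt).2
          rcases ht with ht | ht
          · rw [ht]; exact hh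
          · rw [ht]; exact H.inv_mem hh
        constructor
        · intro hle
          exact H.mul_mem htH (hnext.1 (by omega))
        · intro hlt'
          obtain ⟨a', ha', b', hb', T, hT, hQ⟩ := hnext.2 (by omega)
          refine ⟨t * a', H.mul_mem htH ha', b', hb', T, hT, ?_⟩
          rw [hQ]; group
    split at hrest
    · -- forward
      rw [Bool.and_eq_true, Nat.beq_eq] at hrest
      obtain ⟨hrow, hrest⟩ := hrest
      split at hrest
      · rename_i hlab
        rw [Nat.beq_eq] at hlab
        refine key (D.rU r) (D.rV r) (elt sem D r) pos hrow ?_ (Or.inl rfl) hrest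
        unfold elt semE
        rw [if_pos hlab]
        group
      · rename_i hlab
        have hlab' : D.rL r ≠ D.ncol := by
          intro h'
          rw [← Nat.beq_eq] at h'
          rw [h'] at hlab
          exact absurd hlab (by simp)
        simp only [Bool.and_eq_true, Nat.blt_eq, Nat.beq_eq] at hrest
        obtain ⟨hpos, hletter, hrest⟩ := hrest
        refine key (D.rU r) (D.rV r) (elt sem D r) (pos + 1) hrow ?_ (Or.inl rfl) hrest
        rw [wprod_step _ _ _ hpos, hletter]
        unfold elt semE
        rw [if_neg hlab']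
        group
    · -- backward
      rw [Bool.and_eq_true, Nat.beq_eq] at hrest
      obtain ⟨hrow, hrest⟩ := hrest
      split at hrest
      · rename_i hlab
        rw [Nat.beq_eq] at hlab
        refine key (D.rV r) (D.rU r) (elt sem D r)⁻¹ pos hrow ?_ (Or.inr rfl) hrest
        unfold elt semE
        rw [if_pos hlab]
        group
      · rename_i hlab
        have hlab' : D.rL r ≠ D.ncol := by
          intro h'
          rw [← Nat.beq_eq] at h'
          rw [h'] at hlab
          exact absurd hlab (by simp)
        simp only [Bool.and_eq_true, Nat.blt_eq, Nat.beq_eq] at hrest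
        obtain ⟨hpos, hletter, hrest⟩ := hrest
        refine key (D.rV r) (D.rU r) (elt sem D r)⁻¹ (pos + 1) hrow ?_ (Or.inr rfl) hrest
        rw [wprod_step _ _ _ hpos, hletter]
        have hlt : D.rL r < D.ncol := lt_of_le_of_ne hL hlab'
        rw [hyp.inv _ hlt]
        unfold elt semE
        rw [if_neg hlab']
        group

/-- soundness of the walk of one fact -/
theorem factOk_sound (hyp : Hyp H sem D) (φ walk : Nat)
    (ih : ∀ ψ, ψ < φ → D.rL (D.getRec ψ) ≤ D.ncol ∧ Holds H sem D ψ)
    (h : D.factOk φ walk = true) : D.rL (D.getRec φ) ≤ D.ncol ∧ Holds H sem D φ := by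
  unfold Data.factOk at h
  simp only [Bool.and_eq_true, Nat.blt_eq, Nat.ble_eq] at h
  obtain ⟨hk, hsub, hL, hgm, hwalk⟩ := h
  refine ⟨hL, ?_⟩
  generalize Nat.land walk 255 = k at hk hsub hwalk
  generalize Nat.land (Nat.shiftRight walk 8) D.mw = s at hsub hwalk
  generalize Nat.land (Nat.shiftRight walk (Nat.add 24 D.w)) 65535 = g at hgm hwalk
  generalize Nat.land (Nat.shiftRight walk (Nat.add 8 D.w)) 65535 = m at hgm hwalk
  have hword := hyp.words k hk
  obtain ⟨_, h0⟩ := walkOk_sound hyp _ _ s φ g hL ih _ _ _ _ hwalk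
  obtain ⟨a, ha, b, hb, T, hT, hQ⟩ := h0 hgm
  -- the total is in `H`
  have htot : W sem D s * wprod sem (D.wLetters k) (D.wLen k) 0 * (W sem D s)⁻¹ ∈ H := by
    have hw0 : wprod sem (D.wLetters k) (D.wLen k) 0 =
        ((letters (D.wLetters k) (D.wLen k)).map sem).prod := by
      unfold wprod; simp
    by_cases hs : D.wSub k = 1
    · rw [if_pos hs] at hword
      have hs' : Nat.beq (D.wSub k) 1 = true := by rw [Nat.beq_eq]; exact hs
      rw [hs'] at hsub
      simp only [Nat.beq_eq] at hsub
      rw [hsub, W_zero, hw0]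
      simpa using hword
    · rw [if_neg hs] at hword
      rw [hw0, hword, mul_one, mul_inv_cancel]
      exact H.one_mem
  rw [hQ] at htot
  have hTH : T ∈ H := by
    have h1 : T = a⁻¹ * (a * T * b) * b⁻¹ := by group
    rw [h1]
    exact H.mul_mem (H.mul_mem (H.inv_mem ha) htot) (H.inv_mem hb)
  unfold Holds
  rcases hT with hT | hT
  · rw [← hT]; exact hTH
  · have h2 : elt sem D (D.getRec φ) = T⁻¹ := by rw [hT, inv_inv]
    rw [h2]; exact H.inv_mem hTH

theorem walksOk_sound (hyp : Hyp H sem D) :
    ∀ (walks : List Nat) (φ : Nat), (∀ ψ, ψ < φ → D.rL (D.getRec ψ) ≤ D.ncol ∧ Holds H sem D ψ) →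
      D.walksOk φ walks = true →
      ∀ ψ, ψ < D.NF → D.rL (D.getRec ψ) ≤ D.ncol ∧ Holds H sem D ψ := by
  intro walks
  induction walks with
  | nil =>
    intro φ ih h ψ hψ
    simp only [Data.walksOk, Nat.beq_eq] at h
    exact ih ψ (by rw [h]; exact hψ)
  | cons walk rest ihl =>
    intro φ ih h ψ hψ
    have h' : D.factOk φ walk = true ∧ D.walksOk (φ + 1) rest = true := by
      cases φ with
      | zero => simpa only [Data.walksOk, Bool.and_eq_true] using h
      | succ φ' => simpa only [Data.walksOk, Bool.and_eq_true] using h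
    replace h := h'
    have hφ := factOk_sound hyp φ walk ih h.1
    have ih' : ∀ ψ, ψ < φ + 1 → D.rL (D.getRec ψ) ≤ D.ncol ∧ Holds H sem D ψ := by
      intro ψ hψ
      rcases Nat.lt_succ_iff_lt_or_eq.1 hψ with h1 | h1
      · exact ih ψ h1
      · rw [h1]; exact hφ
    exact ihl (φ + 1) ih' h.2 ψ hψ

theorem defsOk_sound : ∀ fuel, D.defsOk fuel = true →
    ∀ i, Nat.pred D.R - fuel ≤ i → i < Nat.pred D.R →
      D.rV (D.getRec i) = i + 1 ∧ D.rU (D.getRec i) < i + 1 ∧ D.rL (D.getRec i) < D.ncol := by
  intro fuel
  induction fuel with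
  | zero => intro _ i h1 h2; omega
  | succ f ih =>
    intro h i h1 h2
    simp only [Data.defsOk, Bool.and_eq_true, Nat.beq_eq, Nat.blt_eq] at h
    obtain ⟨ha, hb, hc, hd⟩ := h
    by_cases h3 : i = Nat.pred D.R - (f + 1)
    · have h4 : Nat.sub (Nat.pred D.R) (Nat.succ f) = i := by rw [h3]; rfl
      rw [h4] at ha hb hc
      exact ⟨ha, hb, hc⟩
    · exact ih hd i (by omega) h2

/-- **Soundness of the certificate**: every fact holds. -/
theorem ok_sound (hyp : Hyp H sem D) (h : D.ok = true) :
    ∀ ψ, ψ < D.NF → D.rL (D.getRec ψ) ≤ D.ncol ∧ Holds H sem D ψ := by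
  unfold Data.ok at h
  simp only [Bool.and_eq_true, Nat.blt_eq] at h
  obtain ⟨hR, hdefs, hwalks⟩ := h
  have hd := defsOk_sound _ hdefs
  refine walksOk_sound hyp D.walks (Nat.pred D.R) ?_ hwalks
  intro ψ hψ
  obtain ⟨h1, h2, h3⟩ := hd ψ (by omega) hψ
  refine ⟨le_of_lt h3, ?_⟩
  unfold Holds elt
  have hpar : D.parent (ψ + 1) = D.rU (D.getRec ψ) := by simp [Data.parent]
  have hlet : D.letter (ψ + 1) = D.rL (D.getRec ψ) := by simp [Data.letter]
  have hW := W_succ sem D (ψ + 1) ⟨Nat.succ_pos _, by rw [hpar]; exact h2⟩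
  rw [h1, hW, hpar, hlet]
  unfold semE
  rw [if_neg (Nat.ne_of_lt h3)]
  simp


/-! ## The final table -/

theorem liveOk_sound (d : Nat) (h : D.liveOk d = true) : ∃ j, j < D.n ∧ D.rr j = d := by
  unfold Data.liveOk at h
  simp only [Bool.and_eq_true, Nat.blt_eq, Nat.ble_eq, Nat.beq_eq] at h
  obtain ⟨h1, h2, h3⟩ := h
  refine ⟨Nat.pred (D.li d), ?_, h3⟩
  rw [Nat.pred_eq_sub_one]
  omega

theorem entryOk_sound (hyp : Hyp H sem D)
    (facts : ∀ ψ, ψ < D.NF → D.rL (D.getRec ψ) ≤ D.ncol ∧ Holds H sem D ψ)
    (k : Nat) (hx : Nat.mod k D.ncol < D.ncol) (h : D.entryOk k = true) :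
    ∃ j, j < D.n ∧
      W sem D (D.rr (Nat.div k D.ncol)) * sem (Nat.mod k D.ncol) * (W sem D (D.rr j))⁻¹ ∈ H := by
  unfold Data.entryOk at h
  rw [Bool.and_eq_true, Nat.blt_eq] at h
  obtain ⟨hψ, h⟩ := h
  generalize Nat.shiftRight (D.tj k) 1 = ψ at hψ h
  have hH : elt sem D (D.getRec ψ) ∈ H := (facts ψ hψ).2
  generalize D.getRec ψ = r at hH h
  split at h
  · simp only [Bool.and_eq_true, Nat.beq_eq] at h
    obtain ⟨hu, hl, hlive⟩ := h
    obtain ⟨j, hj, hrr⟩ := liveOk_sound _ hlive
    refine ⟨j, hj, ?_⟩
    unfold elt semE at hH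
    rw [hu, hl, if_neg (Nat.ne_of_lt hx)] at hH
    rw [hrr]
    exact hH
  · simp only [Bool.and_eq_true, Nat.beq_eq, Nat.blt_eq] at h
    obtain ⟨hv, hlt, hinv, hlive⟩ := h
    obtain ⟨j, hj, hrr⟩ := liveOk_sound _ hlive
    refine ⟨j, hj, ?_⟩
    unfold elt semE at hH
    rw [hv, if_neg (Nat.ne_of_lt hlt)] at hH
    rw [hrr, ← hinv, hyp.inv _ hlt]
    have h2 := H.inv_mem hH
    have h3 : (W sem D (D.rU r) * sem (D.rL r) * (W sem D (D.rr (Nat.div k D.ncol)))⁻¹)⁻¹ =
        W sem D (D.rr (Nat.div k D.ncol)) * (sem (D.rL r))⁻¹ * (W sem D (D.rU r))⁻¹ := by group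
    rw [h3] at h2
    exact h2

theorem tblLoop_sound : ∀ fuel, D.tblLoop fuel = true →
    ∀ k, Nat.mul D.n D.ncol - fuel ≤ k → k < Nat.mul D.n D.ncol → D.entryOk k = true := by
  intro fuel
  induction fuel with
  | zero => intro _ k h1 h2; omega
  | succ f ih =>
    intro h k h1 h2
    simp only [Data.tblLoop, Bool.and_eq_true] at h
    obtain ⟨ha, hb⟩ := h
    by_cases h3 : k = Nat.mul D.n D.ncol - (f + 1)
    · have h4 : Nat.sub (Nat.mul D.n D.ncol) (Nat.succ f) = k := by rw [h3]; rfl
      rw [h4] at ha
      exact ha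
    · exact ih hb k (by omega) h2

/-- The final table is closed under all letters. -/
theorem table_closed (hyp : Hyp H sem D) (hok : D.ok = true) (ht : D.tblOk = true) :
    ∀ i, i < D.n → ∀ x, x < D.ncol →
      ∃ j, j < D.n ∧ W sem D (D.rr i) * sem x * (W sem D (D.rr j))⁻¹ ∈ H := by
  intro i hi x hx
  have facts := ok_sound hyp hok
  unfold Data.tblOk at ht
  simp only [Bool.and_eq_true, Nat.beq_eq, Nat.blt_eq] at ht
  obtain ⟨_, _, hloop⟩ := ht
  have hpos : 0 < D.ncol := lt_of_le_of_lt (Nat.zero_le _) hx
  have hk : i * D.ncol + x < Nat.mul D.n D.ncol := by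
    show i * D.ncol + x < D.n * D.ncol
    calc i * D.ncol + x < i * D.ncol + D.ncol := by omega
      _ = (i + 1) * D.ncol := by ring
      _ ≤ D.n * D.ncol := Nat.mul_le_mul_right _ hi
  have hentry := tblLoop_sound _ hloop (i * D.ncol + x) (by omega) hk
  have hdiv : Nat.div (i * D.ncol + x) D.ncol = i := by
    show (i * D.ncol + x) / D.ncol = i
    rw [Nat.add_comm, Nat.add_mul_div_right _ _ hpos, Nat.div_eq_of_lt hx, Nat.zero_add]
  have hmod : Nat.mod (i * D.ncol + x) D.ncol = x := by
    show (i * D.ncol + x) % D.ncol = x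
    rw [Nat.add_comm, Nat.add_mul_mod_self_right, Nat.mod_eq_of_lt hx]
  have := entryOk_sound hyp facts (i * D.ncol + x) (by rw [hmod]; exact hx) hentry
  rw [hdiv, hmod] at this
  exact this

/-- Every element of the group lies in one of the `n` cosets `H * W (rr i)`. -/
theorem cover (hyp : Hyp H sem D) (hok : D.ok = true) (ht : D.tblOk = true)
    (hgen : Subgroup.closure (sem '' {x | x < D.ncol}) = ⊤) (g : G) :
    ∃ i, i < D.n ∧ g * (W sem D (D.rr i))⁻¹ ∈ H := by
  have hclosed := table_closed hyp hok ht
  have h0 : D.rr 0 = 0 ∧ 0 < D.n := by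
    unfold Data.tblOk at ht
    simp only [Bool.and_eq_true, Nat.beq_eq, Nat.blt_eq] at ht
    exact ⟨ht.1, ht.2.1⟩
  have hg : g ∈ Subgroup.closure (sem '' {x | x < D.ncol}) := by rw [hgen]; trivial
  have step : ∀ (g : G) (x : Nat), x < D.ncol → (∃ i, i < D.n ∧ g * (W sem D (D.rr i))⁻¹ ∈ H) →
      ∃ i, i < D.n ∧ g * sem x * (W sem D (D.rr i))⁻¹ ∈ H := by
    intro g x hx ⟨i, hi, hgi⟩
    obtain ⟨j, hj, hij⟩ := hclosed i hi x hx
    refine ⟨j, hj, ?_⟩
    have : g * sem x * (W sem D (D.rr j))⁻¹ =
        (g * (W sem D (D.rr i))⁻¹) * (W sem D (D.rr i) * sem x * (W sem D (D.rr j))⁻¹) := by group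
    rw [this]
    exact H.mul_mem hgi hij
  refine Subgroup.closure_induction_right (p := fun g _ => ∃ i, i < D.n ∧ g * (W sem D (D.rr i))⁻¹ ∈ H)
    ?_ ?_ ?_ hg
  · refine ⟨0, h0.2, ?_⟩
    rw [h0.1, W_zero]
    simp
  · intro g _ y hy ih
    obtain ⟨x, hx, rfl⟩ := hy
    exact step g x hx ih
  · intro g _ y hy ih
    obtain ⟨x, hx, rfl⟩ := hy
    rw [← hyp.inv x hx]
    exact step g (D.invL x) (hyp.inv_lt x hx) ih

/-- **The index bound.** -/
theorem index_le (hyp : Hyp H sem D) (hok : D.ok = true) (ht : D.tblOk = true)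
    (hgen : Subgroup.closure (sem '' {x | x < D.ncol}) = ⊤) : H.index ≠ 0 ∧ H.index ≤ D.n := by
  let f : Fin D.n → G ⧸ H := fun i => QuotientGroup.mk ((W sem D (D.rr i))⁻¹)
  have hf : Function.Surjective f := by
    intro q
    obtain ⟨g, rfl⟩ := QuotientGroup.mk_surjective q
    obtain ⟨i, hi, hgi⟩ := cover hyp hok ht hgen g⁻¹
    refine ⟨⟨i, hi⟩, ?_⟩
    show (QuotientGroup.mk ((W sem D (D.rr i))⁻¹) : G ⧸ H) = QuotientGroup.mk g
    rw [QuotientGroup.eq]
    have h2 := H.inv_mem hgi
    have h3 : (g⁻¹ * (W sem D (D.rr i))⁻¹)⁻¹ = ((W sem D (D.rr i))⁻¹)⁻¹ * g := by group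
    rw [h3] at h2
    exact h2
  have hfin : Finite (G ⧸ H) := Finite.of_surjective f hf
  have hFI : H.FiniteIndex := Subgroup.finiteIndex_of_finite_quotient
  refine ⟨hFI.index_ne_zero, ?_⟩
  rw [Subgroup.index_eq_card]
  have := Nat.card_le_card_of_surjective f hf
  simpa using this

end Sem

end Cfsg.Agent.Lib.Helper96_CosetTable
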