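/-
Helper96_D72_EXPAND: package EXPAND of the d72 market (architect helper62, S3716): `Pure` + `IsShape T` written out
on the characters of the shape (`Exp T`).  helper96.
-/
import Mathlib
import Cfsg.Agent.Lib.Helper62_D72Defs

set_option autoImplicit false

namespace Cfsg.Agent.Lib.Helper96_D72_EXPAND

open Cfsg Cfsg.Agent.Lib.Helper62_D72Defs

/-- `aOf` is homogeneous -/
theorem aOf_smul (s p q p' q' : ℤ) : aOf (s * p) (s * q) (s * p') (s * q') = s * aOf p q p' q' := by
  unfold aOf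
  ring

/-- `dOf` is homogeneous -/
theorem dOf_smul (s p q p' q' : ℤ) : dOf (s * p) (s * q) (s * p') (s * q') = s * dOf p q p' q' := by
  unfold dOf
  ring

theorem expand {ι : Type*} [Fintype ι] {o : ι} {f : ι → ℕ} {g : ℕ} {P Q P' Q' : ι → ℤ}
    (hp : Pure o f g P Q P' Q') {n : ℕ} {T : Fin n → ℤ × ℤ × ℤ × ℤ}
    (hs : IsShape o P Q P' Q' T) : ∃ (σ : Fin n → ℤ) (φ : Fin n → ℕ), Exp T g σ φ := by
  classical
  obtain ⟨idx, σ, hinj, hne, hsgn, hcol, hzero⟩ := hs
  have hoS : o ∉ Finset.univ.image idx := by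
    rw [Finset.mem_image]
    rintro ⟨j, _, hj⟩
    exact hne j hj
  have hinj' : ∀ a ∈ (Finset.univ : Finset (Fin n)), ∀ b ∈ (Finset.univ : Finset (Fin n)),
      idx a = idx b → a = b := fun a _ b _ hab => hinj hab
  -- the decomposition of a sum over `ι`
  have hS : ∀ {M : Type} [AddCommMonoid M] (F : ι → M),
      (∀ i, i ≠ o → (∀ j, i ≠ idx j) → F i = 0) → ∑ i, F i = F o + ∑ j, F (idx j) := by
    intro M _ F hF
    have hsub : ∑ i ∈ insert o (Finset.univ.image idx), F i = ∑ i, F i := by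
      apply Finset.sum_subset (Finset.subset_univ _)
      intro i _ hi
      rw [Finset.mem_insert, Finset.mem_image] at hi
      have h1 : i ≠ o := fun e => hi (Or.inl e)
      have h2 : ∀ j, i ≠ idx j := fun j e => hi (Or.inr ⟨j, Finset.mem_univ j, e.symm⟩)
      exact hF i h1 h2
    rw [← hsub, Finset.sum_insert hoS, Finset.sum_image hinj']
  -- sums of quotients by the degrees
  have hkey : ∀ (N : ι → ℤ) (N' : Fin n → ℤ),
      (∀ i, i ≠ o → (∀ j, i ≠ idx j) → N i = 0) → N o = 1 → (∀ j, N (idx j) = σ j * N' j) →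
      ∑ i, ((N i : ℤ) : ℚ) / (f i : ℚ) =
        1 + ∑ j, ((N' j : ℤ) : ℚ) / ((σ j * (f (idx j) : ℤ) : ℤ) : ℚ) := by
    intro N N' h0 h1 hj
    have h := hS (fun i => ((N i : ℤ) : ℚ) / (f i : ℚ))
      (fun i hi hi' => by rw [h0 i hi hi', Int.cast_zero, zero_div])
    beta_reduce at h
    rw [h, h1, hp.fo, Int.cast_one, Nat.cast_one, div_one]
    congr 1
    apply Finset.sum_congr rfl
    intro j _
    rw [hj j]
    rcases hsgn j with hσ | hσ
    · rw [hσ, one_mul, one_mul, Int.cast_natCast]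
    · rw [hσ, neg_one_mul, neg_one_mul, Int.cast_neg, Int.cast_neg, Int.cast_natCast, neg_div,
        div_neg]
  -- sums against the degrees
  have hdeg : ∀ (R : ι → ℤ) (t : Fin n → ℤ), (∀ i, i ≠ o → (∀ j, i ≠ idx j) → R i = 0) →
      (∀ j, R (idx j) = σ j * t j) → ∑ i, (f i : ℤ) * R i = 0 →
      R o + ∑ j, t j * (σ j * (f (idx j) : ℤ)) = 0 := by
    intro R t h0 hj hsum
    have h := hS (fun i => (f i : ℤ) * R i) (fun i hi hi' => by rw [h0 i hi hi', mul_zero])
    beta_reduce at h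
    rw [h, hp.fo, Nat.cast_one, one_mul] at hsum
    rw [← hsum]
    congr 1
    apply Finset.sum_congr rfl
    intro j _
    rw [hj j]
    ring
  -- vanishing of the columns
  have hz : ∀ i, i ≠ o → (∀ j, i ≠ idx j) → P i = 0 ∧ Q i = 0 ∧ P' i = 0 ∧ Q' i = 0 := hzero
  have hsq1 : ∀ j, σ j * σ j = 1 := by
    intro j
    rcases hsgn j with hσ | hσ <;> rw [hσ] <;> norm_num
  refine ⟨σ, fun j => f (idx j), ?_⟩
  refine
    { sgn := hsgn
      two := ?_
      loc := ?_
      dP := ?_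
      dQ := ?_
      dP' := ?_
      dQ' := ?_
      sq := ?_
      e1 := ?_
      e2 := ?_
      e3 := ?_
      e4 := ?_ }
  · -- two
    intro j
    have h1 := hp.fpos (idx j)
    have h2 : f (idx j) ≠ 1 := fun e => hne j (hp.lin (idx j) e)
    show 2 ≤ f (idx j)
    omega
  · -- loc
    intro j
    have h := hp.loc (idx j)
    obtain ⟨h1, h2, h3, h4⟩ := hcol j
    rw [h1, h2, h3, h4] at h
    exact h
  · -- dP
    have h := hdeg P (fun j => (T j).1) (fun i hi hi' => (hz i hi hi').1) (fun j => (hcol j).1) hp.fP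
    rw [hp.Po] at h
    exact h
  · -- dQ
    have h := hdeg Q (fun j => (T j).2.1) (fun i hi hi' => (hz i hi hi').2.1)
      (fun j => (hcol j).2.1) hp.fQ
    rw [hp.Qo, zero_add] at h
    exact h
  · -- dP'
    have h := hdeg P' (fun j => (T j).2.2.1) (fun i hi hi' => (hz i hi hi').2.2.1)
      (fun j => (hcol j).2.2.1) hp.fP'
    rw [hp.P'o] at h
    exact h
  · -- dQ'
    have h := hdeg Q' (fun j => (T j).2.2.2) (fun i hi hi' => (hz i hi hi').2.2.2)
      (fun j => (hcol j).2.2.2) hp.fQ'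
    rw [hp.Q'o, zero_add] at h
    exact h
  · -- sq
    have hsum : ∑ i ∈ insert o (Finset.univ.image idx), f i ^ 2 = f o ^ 2 + ∑ j, f (idx j) ^ 2 := by
      rw [Finset.sum_insert hoS, Finset.sum_image hinj']
    have hle : ∑ i ∈ insert o (Finset.univ.image idx), f i ^ 2 ≤ ∑ i, f i ^ 2 :=
      Finset.sum_le_sum_of_subset (Finset.subset_univ _)
    rw [hsum, hp.sq, hp.fo, one_pow] at hle
    show (1 : ℤ) + ∑ j, ((f (idx j) : ℕ) : ℤ) ^ 2 ≤ (g : ℤ)
    exact_mod_cast hle
  · -- e1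
    have h := hkey (fun i => aOf (P i) (Q i) (P' i) (Q' i) ^ 2 * dOf (P i) (Q i) (P' i) (Q' i))
      (fun j => colA T j ^ 2 * colD T j)
      (fun i hi hi' => by
        obtain ⟨h1, h2, h3, h4⟩ := hz i hi hi'
        show aOf (P i) (Q i) (P' i) (Q' i) ^ 2 * dOf (P i) (Q i) (P' i) (Q' i) = 0
        rw [h1, h2, h3, h4]
        unfold aOf dOf
        norm_num)
      (by
        show aOf (P o) (Q o) (P' o) (Q' o) ^ 2 * dOf (P o) (Q o) (P' o) (Q' o) = 1
        rw [hp.Po, hp.Qo, hp.P'o, hp.Q'o]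
        unfold aOf dOf
        norm_num)
      (fun j => by
        obtain ⟨h1, h2, h3, h4⟩ := hcol j
        show aOf (P (idx j)) (Q (idx j)) (P' (idx j)) (Q' (idx j)) ^ 2 *
          dOf (P (idx j)) (Q (idx j)) (P' (idx j)) (Q' (idx j)) = σ j * (colA T j ^ 2 * colD T j)
        rw [h1, h2, h3, h4, aOf_smul, dOf_smul]
        unfold colA colD
        linear_combination (σ j * aOf (T j).1 (T j).2.1 (T j).2.2.1 (T j).2.2.2 ^ 2 *
          dOf (T j).1 (T j).2.1 (T j).2.2.1 (T j).2.2.2) * hsq1 j)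
    beta_reduce at h
    have e := hp.e1
    rw [h] at e
    exact e
  · -- e2
    have h := hkey (fun i => aOf (P i) (Q i) (P' i) (Q' i) * dOf (P i) (Q i) (P' i) (Q' i) ^ 2)
      (fun j => colA T j * colD T j ^ 2)
      (fun i hi hi' => by
        obtain ⟨h1, h2, h3, h4⟩ := hz i hi hi'
        show aOf (P i) (Q i) (P' i) (Q' i) * dOf (P i) (Q i) (P' i) (Q' i) ^ 2 = 0
        rw [h1, h2, h3, h4]
        unfold aOf dOf
        norm_num)
      (by
        show aOf (P o) (Q o) (P' o) (Q' o) * dOf (P o) (Q o) (P' o) (Q' o) ^ 2 = 1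
        rw [hp.Po, hp.Qo, hp.P'o, hp.Q'o]
        unfold aOf dOf
        norm_num)
      (fun j => by
        obtain ⟨h1, h2, h3, h4⟩ := hcol j
        show aOf (P (idx j)) (Q (idx j)) (P' (idx j)) (Q' (idx j)) *
          dOf (P (idx j)) (Q (idx j)) (P' (idx j)) (Q' (idx j)) ^ 2 = σ j * (colA T j * colD T j ^ 2)
        rw [h1, h2, h3, h4, aOf_smul, dOf_smul]
        unfold colA colD
        linear_combination (σ j * aOf (T j).1 (T j).2.1 (T j).2.2.1 (T j).2.2.2 *
          dOf (T j).1 (T j).2.1 (T j).2.2.1 (T j).2.2.2 ^ 2) * hsq1 j)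
    beta_reduce at h
    have e := hp.e2
    rw [h] at e
    exact e
  · -- e3
    have h := hkey (fun i => aOf (P i) (Q i) (P' i) (Q' i) ^ 3)
      (fun j => colA T j ^ 3)
      (fun i hi hi' => by
        obtain ⟨h1, h2, h3, h4⟩ := hz i hi hi'
        show aOf (P i) (Q i) (P' i) (Q' i) ^ 3 = 0
        rw [h1, h2, h3, h4]
        unfold aOf
        norm_num)
      (by
        show aOf (P o) (Q o) (P' o) (Q' o) ^ 3 = 1
        rw [hp.Po, hp.Qo, hp.P'o, hp.Q'o]
        unfold aOf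
        norm_num)
      (fun j => by
        obtain ⟨h1, h2, h3, h4⟩ := hcol j
        show aOf (P (idx j)) (Q (idx j)) (P' (idx j)) (Q' (idx j)) ^ 3 = σ j * colA T j ^ 3
        rw [h1, h2, h3, h4, aOf_smul]
        unfold colA
        linear_combination (σ j * aOf (T j).1 (T j).2.1 (T j).2.2.1 (T j).2.2.2 ^ 3) * hsq1 j)
    beta_reduce at h
    obtain ⟨k, e⟩ := hp.e3
    rw [h] at e
    exact ⟨k, e⟩
  · -- e4
    have h := hkey (fun i => dOf (P i) (Q i) (P' i) (Q' i) ^ 3)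
      (fun j => colD T j ^ 3)
      (fun i hi hi' => by
        obtain ⟨h1, h2, h3, h4⟩ := hz i hi hi'
        show dOf (P i) (Q i) (P' i) (Q' i) ^ 3 = 0
        rw [h1, h2, h3, h4]
        unfold dOf
        norm_num)
      (by
        show dOf (P o) (Q o) (P' o) (Q' o) ^ 3 = 1
        rw [hp.Po, hp.Qo, hp.P'o, hp.Q'o]
        unfold dOf
        norm_num)
      (fun j => by
        obtain ⟨h1, h2, h3, h4⟩ := hcol j
        show dOf (P (idx j)) (Q (idx j)) (P' (idx j)) (Q' (idx j)) ^ 3 = σ j * colD T j ^ 3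
        rw [h1, h2, h3, h4, dOf_smul]
        unfold colD
        linear_combination (σ j * dOf (T j).1 (T j).2.1 (T j).2.2.1 (T j).2.2.2 ^ 3) * hsq1 j)
    beta_reduce at h
    obtain ⟨k, e⟩ := hp.e4
    rw [h] at e
    exact ⟨k, e⟩

end Cfsg.Agent.Lib.Helper96_D72_EXPAND
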