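import Cfsg.Agent.Lib.Helper96_Fi23SylData
import Cfsg.Agent.Lib.Helper96_BProd
import Cfsg.Prelude.Def_Transfer

/-!
# A Sylow 2-subgroup of the presented `Fi23` and its unique elementary abelian `2^11` (helper96)

Everything is parametrised by a conjugating element `g`, so that the final statement applies to
every Sylow 2-subgroup.
-/

set_option autoImplicit false
set_option linter.constructorNameAsVariable false
set_option linter.unusedVariables false

namespace Cfsg.Agent.Lib.Helper96_Fi23Syl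

open Cfsg.Spor Cfsg.Agent.Lib.Helper28_CosetPerm Cfsg.Agent.Lib.Helper28_Fi23Order
open Cfsg.Agent.Lib.Helper96_Fi23SylData Cfsg.Agent.Lib.Helper96_BProd

/-- the presented group -/
abbrev G : Type := PresentedGroup RELS

/-- evaluation of a word -/
def ev (w : Wd) : G := PresentedGroup.mk RELS (FreeGroup.mk w)

theorem ev_nil : ev [] = 1 := by
  show PresentedGroup.mk RELS (FreeGroup.mk []) = 1
  rw [← FreeGroup.one_eq_mk, map_one]

theorem ev_append (u v : Wd) : ev (u ++ v) = ev u * ev v := by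
  show PresentedGroup.mk RELS (FreeGroup.mk (u ++ v)) = _
  rw [← FreeGroup.mul_mk, map_mul]
  rfl

theorem ev_invRev (u : Wd) : ev (FreeGroup.invRev u) = (ev u)⁻¹ := by
  show PresentedGroup.mk RELS (FreeGroup.mk (FreeGroup.invRev u)) = _
  rw [← FreeGroup.inv_mk, map_inv]
  rfl

theorem ev_eq_one_of_triv (w : Wd) (h : triv w = true) : ev w = 1 := by
  apply mk_eq_one_of_walk
  intro x hx
  have := List.all_eq_true.mp h x hx
  exact Nat.eq_of_beq_eq_true this

theorem walk_of_ev_eq_one (w : Wd) (h : ev w = 1) (k : Fin 31671) :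
    walk 1048575 Cfsg.Agent.Lib.Helper28_S1689.col w (k * 20) = k * 20 := by
  have h1 := walk_fin Cfsg.Agent.Lib.Helper28_S1689.verified.hv w k
  have h2 : rhoS1689 (ev w) = 1 := by rw [h, map_one]
  have h3 : FreeGroup.lift (perm Cfsg.Agent.Lib.Helper28_S1689.verified.hv) (FreeGroup.mk w) = 1 := h2
  rw [h3] at h1
  simpa using h1

theorem offs_mul : ∀ x ∈ offsS1689, ∃ k : Fin 31671, x = k * 20 := by
  intro x hx
  simp only [offsS1689, List.mem_cons, List.mem_nil_iff, or_false] at hx
  rcases hx with rfl | rfl | rfl | rfl | rfl | rfl | rfl | rfl | rfl | rfl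
  · exact ⟨⟨0, by norm_num⟩, rfl⟩
  · exact ⟨⟨1, by norm_num⟩, rfl⟩
  · exact ⟨⟨2, by norm_num⟩, rfl⟩
  · exact ⟨⟨3, by norm_num⟩, rfl⟩
  · exact ⟨⟨178, by norm_num⟩, rfl⟩
  · exact ⟨⟨794, by norm_num⟩, rfl⟩
  · exact ⟨⟨11, by norm_num⟩, rfl⟩
  · exact ⟨⟨6, by norm_num⟩, rfl⟩
  · exact ⟨⟨4, by norm_num⟩, rfl⟩
  · exact ⟨⟨7, by norm_num⟩, rfl⟩

theorem ev_ne_one_of_moved (w : Wd) (h : moved w = true) : ev w ≠ 1 := by
  intro h1
  obtain ⟨x, hx, hm⟩ := List.any_eq_true.mp h
  obtain ⟨k, rfl⟩ := offs_mul x hx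
  have := walk_of_ev_eq_one w h1 k
  rw [this] at hm
  simp at hm

section conj

variable (g : G)

/-- conjugated evaluation -/
def cev (w : Wd) : G := g * ev w * g⁻¹

theorem cev_nil : cev g [] = 1 := by simp [cev, ev_nil]

theorem cev_append (u v : Wd) : cev g (u ++ v) = cev g u * cev g v := by
  simp only [cev, ev_append]; group

theorem cev_invRev (u : Wd) : cev g (FreeGroup.invRev u) = (cev g u)⁻¹ := by
  simp only [cev, ev_invRev]; group

theorem cev_eq_one_of_triv (w : Wd) (h : triv w = true) : cev g w = 1 := by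
  simp [cev, ev_eq_one_of_triv w h]

theorem cev_ne_one_of_moved (w : Wd) (h : moved w = true) : cev g w ≠ 1 := by
  intro h1
  apply ev_ne_one_of_moved w h
  have : ev w = g⁻¹ * cev g w * g := by simp only [cev]; group
  rw [this, h1]; group

/-- the transpositions -/
def d (i : ℕ) : G := cev g (dW i)

/-- the top generators -/
def t (k : ℕ) : G := cev g (tW k)

theorem d_sq (i : ℕ) (hi : i < 23) : d g i * d g i = 1 := by
  rw [d, ← cev_append]; exact cev_eq_one_of_triv g _ (W1 i hi)

theorem d_inv (i : ℕ) (hi : i < 23) : (d g i)⁻¹ = d g i :=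
  inv_eq_of_mul_eq_one_left (d_sq g i hi)

theorem d_comm (i j : ℕ) (hi : i < 23) (hj : j < 23) : Commute (d g i) (d g j) := by
  have h : d g i * d g j * d g i * d g j = 1 := by
    simp only [d, ← cev_append]; exact cev_eq_one_of_triv g _ (W2 i hi j hj)
  have hi' := d_sq g i hi
  have hj' := d_sq g j hj
  show d g i * d g j = d g j * d g i
  calc d g i * d g j = d g i * d g j * (d g i * d g j * d g i * d g j)⁻¹ := by rw [h]; group
    _ = d g i * d g j * ((d g j)⁻¹ * (d g i)⁻¹ * (d g j)⁻¹ * (d g i)⁻¹) := by group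
    _ = d g j * d g i := by rw [d_inv g i hi, d_inv g j hj]; 
                             calc d g i * d g j * (d g j * d g i * d g j * d g i)
                                 = d g i * (d g j * d g j) * d g i * d g j * d g i := by group
                               _ = (d g i * d g i) * d g j * d g i := by rw [hj']; group
                               _ = d g j * d g i := by rw [hi']; group

theorem t_sq (k : ℕ) (hk : k < 7) : t g k * t g k = 1 := by
  rw [t, ← cev_append]; exact cev_eq_one_of_triv g _ (W4 k hk)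

theorem t_inv (k : ℕ) (hk : k < 7) : (t g k)⁻¹ = t g k :=
  inv_eq_of_mul_eq_one_left (t_sq g k hk)

theorem sg_lt (k i : ℕ) (hk : k < 7) (hi : i < 23) : sg k i < 23 := (Q0 k hk i hi).1

theorem t_conj (k i : ℕ) (hk : k < 7) (hi : i < 23) :
    t g k * d g i * (t g k)⁻¹ = d g (sg k i) := by
  have h : t g k * d g i * t g k * d g (sg k i) = 1 := by
    simp only [t, d, ← cev_append]; exact cev_eq_one_of_triv g _ (W5 k hk i hi)
  rw [t_inv g k hk]
  have h2 := d_inv g (sg k i) (sg_lt k i hk hi)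
  calc t g k * d g i * t g k = (t g k * d g i * t g k * d g (sg k i)) * (d g (sg k i))⁻¹ := by group
    _ = d g (sg k i) := by rw [h, h2]; group

/-- the normal form products of the top generators -/
def nf (e : ℕ) : G := bprod (t g) 7 e

/-- the products of the basis transpositions -/
def phi (u : ℕ) : G := bprod (fun b => d g (basis b)) 11 u

theorem cev_phiWn (n u : ℕ) : cev g (phiWn n u) = bprod (fun b => d g (basis b)) n u := by
  induction n with
  | zero => simp [phiWn, bprod, cev_nil]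
  | succ n ih =>
    simp only [phiWn, bprod, cev_append, ih]
    split_ifs
    · rfl
    · rw [cev_nil]

theorem cev_phiW (u : ℕ) : cev g (phiW u) = phi g u := cev_phiWn g 11 u

theorem cev_nfWn (n e : ℕ) : cev g (nfWn n e) = bprod (t g) n e := by
  induction n with
  | zero => simp [nfWn, bprod, cev_nil]
  | succ n ih =>
    simp only [nfWn, bprod, cev_append, ih]
    split_ifs
    · rfl
    · rw [cev_nil]

theorem cev_nfW (e : ℕ) : cev g (nfW e) = nf g e := cev_nfWn g 7 e

theorem basis_lt (b : ℕ) (hb : b < 11) : basis b < 23 := (Qexpr.2.1 b hb).1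

theorem hcB : ∀ i < 11, ∀ j < 11, Commute (d g (basis i)) (d g (basis j)) :=
  fun i hi j hj => d_comm g _ _ (basis_lt i hi) (basis_lt j hj)

theorem hsB : ∀ i < 11, d g (basis i) * d g (basis i) = 1 :=
  fun i hi => d_sq g _ (basis_lt i hi)

theorem phi_xor (u v : ℕ) : phi g (u ^^^ v) = phi g u * phi g v :=
  bprod_xor _ 11 (hcB g) (hsB g) u v

theorem phi_zero : phi g 0 = 1 := bprod_zero _ _

theorem phi_sq (u : ℕ) : phi g u * phi g u = 1 := bprod_mul_self _ 11 (hcB g) (hsB g) u

theorem phi_inv (u : ℕ) : (phi g u)⁻¹ = phi g u := inv_eq_of_mul_eq_one_left (phi_sq g u)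

theorem phi_comm (u v : ℕ) : Commute (phi g u) (phi g v) := by
  show phi g u * phi g v = phi g v * phi g u
  rw [← phi_xor, ← phi_xor, Nat.xor_comm]

theorem d_expr (i : ℕ) (hi : i < 23) : d g i = phi g (expr i) := by
  have h : d g i * phi g (expr i) = 1 := by
    rw [d, ← cev_phiW, ← cev_append]; exact cev_eq_one_of_triv g _ (W3 i hi)
  calc d g i = d g i * phi g (expr i) * (phi g (expr i))⁻¹ := by group
    _ = phi g (expr i) := by rw [h, phi_inv]; group

theorem phi_ne_one (u : ℕ) (hu : u < 2048) (h0 : u ≠ 0) : phi g u ≠ 1 := by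
  rw [← cev_phiW]; exact cev_ne_one_of_moved g _ (W7 u hu h0)

theorem phi_inj (u v : ℕ) (hu : u < 2048) (hv : v < 2048) (h : phi g u = phi g v) : u = v := by
  by_contra hne
  have h1 : phi g (u ^^^ v) = 1 := by rw [phi_xor, h, phi_sq]
  have h2 : u ^^^ v < 2048 := Nat.xor_lt_two_pow (n := 11) hu hv
  have h3 : u ^^^ v ≠ 0 := by
    intro h0
    exact hne (Nat.xor_eq_zero_iff.mp h0)
  exact phi_ne_one g _ h2 h3 h1

theorem t_rel (k m : ℕ) (hk : k < 7) (hm : m < 7) (hkm : k < m) :
    t g k * t g m * (t g k)⁻¹ = nf g (cE k m) * (if cT k m = 1 then d g 0 else 1) := by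
  have h : t g k * t g m * t g k * (nf g (cE k m) * (if cT k m = 1 then d g 0 else 1))⁻¹ = 1 := by
    have e : cev g (cW k m) = nf g (cE k m) * (if cT k m = 1 then d g 0 else 1) := by
      simp only [cW, cev_append, cev_nfW]
      split_ifs
      · rfl
      · rw [cev_nil]
    rw [← e, ← cev_invRev]
    simp only [t, ← cev_append]
    exact cev_eq_one_of_triv g _ (W6 k hk m hm hkm)
  rw [t_inv g k hk]
  exact mul_inv_eq_one.mp h

end conj

/-! ### the elementary abelian subgroup `E0` -/

section E0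

variable (g : G)

/-- the subgroup generated by the 23 transpositions -/
def E0 : Subgroup G := Subgroup.closure ((fun i => d g i) '' {i | i < 23})

theorem d_mem_E0 (i : ℕ) (hi : i < 23) : d g i ∈ E0 g :=
  Subgroup.subset_closure ⟨i, hi, rfl⟩

theorem phi_mem_E0 (u : ℕ) : phi g u ∈ E0 g :=
  bprod_mem _ _ _ _ fun b hb _ => d_mem_E0 g _ (basis_lt b hb)

theorem exists_of_mem_E0 (x : G) (hx : x ∈ E0 g) : ∃ u < 2048, x = phi g u := by
  refine closure_subset_bprod _ 11 (hcB g) (hsB g) _ ?_ x hx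
  rintro _ ⟨i, hi, rfl⟩
  exact ⟨expr i, Qexpr.1 i hi, d_expr g i hi⟩

theorem mem_E0_iff (x : G) : x ∈ E0 g ↔ ∃ u < 2048, x = phi g u :=
  ⟨exists_of_mem_E0 g x, by rintro ⟨u, _, rfl⟩; exact phi_mem_E0 g u⟩

theorem E0_comm (x y : G) (hx : x ∈ E0 g) (hy : y ∈ E0 g) : x * y = y * x := by
  obtain ⟨u, _, rfl⟩ := exists_of_mem_E0 g x hx
  obtain ⟨v, _, rfl⟩ := exists_of_mem_E0 g y hy
  exact (phi_comm g u v).eq

theorem E0_sq (x : G) (hx : x ∈ E0 g) : x ^ 2 = 1 := by
  obtain ⟨u, _, rfl⟩ := exists_of_mem_E0 g x hx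
  rw [pow_two]; exact phi_sq g u

/-- the parametrisation of `E0` -/
noncomputable def phiEquiv : Fin 2048 ≃ E0 g :=
  Equiv.ofBijective (fun u => ⟨phi g u, phi_mem_E0 g u⟩) ⟨by
    intro u v h
    have := congrArg Subtype.val h
    exact Fin.ext (phi_inj g u v u.2 v.2 this), by
    rintro ⟨x, hx⟩
    obtain ⟨u, hu, rfl⟩ := exists_of_mem_E0 g x hx
    exact ⟨⟨u, hu⟩, rfl⟩⟩

theorem card_E0 : Nat.card (E0 g) = 2048 := by
  rw [← Nat.card_congr (phiEquiv g), Nat.card_eq_fintype_card, Fintype.card_fin]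

instance finite_E0 : Finite (E0 g) := Nat.finite_of_card_ne_zero (by rw [card_E0]; norm_num)

/-- a subset of `E0` parametrised by a list has at most as many elements -/
theorem card_le_of_subset_phi (K : Subgroup G) (l : List ℕ)
    (h : ∀ x ∈ K, ∃ u ∈ l, x = phi g u) : Nat.card K ≤ l.length := by
  classical
  have hsub : (K : Set G) ⊆ ((l.toFinset.image (phi g) : Finset G) : Set G) := by
    intro x hx
    obtain ⟨u, hu, rfl⟩ := h x hx
    simp only [Finset.coe_image, Set.mem_image, Finset.mem_coe, List.mem_toFinset]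
    exact ⟨u, hu, rfl⟩
  calc Nat.card K = (K : Set G).ncard := (Nat.card_coe_set_eq _)
    _ ≤ ((l.toFinset.image (phi g) : Finset G) : Set G).ncard :=
        Set.ncard_le_ncard hsub (Finset.finite_toSet _)
    _ = (l.toFinset.image (phi g)).card := Set.ncard_coe_finset _
    _ ≤ l.toFinset.card := Finset.card_image_le
    _ ≤ l.length := List.toFinset_card_le l

end E0

/-! ### the normaliser-like subgroup `N` and its action on the 23 indices -/

section N

variable (g : G)

/-- the transpositions indexed by `Fin 23` -/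
def dF (i : Fin 23) : G := d g i

theorem dF_injective : Function.Injective (dF g) := by
  intro i j h
  have h1 : phi g (expr i) = phi g (expr j) := by
    rw [← d_expr g i i.2, ← d_expr g j j.2]; exact h
  have h2 := phi_inj g _ _ (Qexpr.1 i i.2) (Qexpr.1 j j.2) h1
  exact Fin.ext (Qexpr.2.2 i i.2 j j.2 h2)

/-- the elements permuting the 23 transpositions -/
def N : Subgroup G where
  carrier := {a | (∀ i : Fin 23, ∃ j : Fin 23, a * dF g i * a⁻¹ = dF g j) ∧
    (∀ i : Fin 23, ∃ j : Fin 23, a⁻¹ * dF g i * a = dF g j)}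
  one_mem' := ⟨fun i => ⟨i, by simp⟩, fun i => ⟨i, by simp⟩⟩
  mul_mem' := by
    rintro a b ⟨ha1, ha2⟩ ⟨hb1, hb2⟩
    constructor
    · intro i
      obtain ⟨j, hj⟩ := hb1 i
      obtain ⟨k, hk⟩ := ha1 j
      refine ⟨k, ?_⟩
      rw [← hk, ← hj]; group
    · intro i
      obtain ⟨j, hj⟩ := ha2 i
      obtain ⟨k, hk⟩ := hb2 j
      refine ⟨k, ?_⟩
      rw [← hk, ← hj]; group
  inv_mem' := by
    rintro a ⟨ha1, ha2⟩
    refine ⟨fun i => ?_, fun i => ?_⟩
    · obtain ⟨j, hj⟩ := ha2 i
      exact ⟨j, by rw [← hj]; group⟩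
    · obtain ⟨j, hj⟩ := ha1 i
      exact ⟨j, by rw [← hj]; group⟩

/-- the action of `N` on the indices -/
noncomputable def act (a : N g) (i : Fin 23) : Fin 23 := Classical.choose (a.2.1 i)

theorem act_spec (a : N g) (i : Fin 23) : (a : G) * dF g i * (a : G)⁻¹ = dF g (act g a i) :=
  Classical.choose_spec (a.2.1 i)

theorem act_unique (a : N g) (i j : Fin 23) (h : (a : G) * dF g i * (a : G)⁻¹ = dF g j) :
    act g a i = j := by
  apply dF_injective g
  rw [← act_spec, h]

noncomputable instance : MulAction (N g) (Fin 23) where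
  smul a i := act g a i
  one_smul i := act_unique g 1 i i (by simp)
  mul_smul a b i := by
    apply act_unique g (a * b) i
    show ((a * b : N g) : G) * dF g i * ((a * b : N g) : G)⁻¹ = dF g (act g a (act g b i))
    rw [← act_spec, ← act_spec]
    push_cast
    group

/-- the permutation representation of `N` on the indices -/
noncomputable def piN : N g →* Equiv.Perm (Fin 23) := MulAction.toPermHom (N g) (Fin 23)

theorem piN_spec (a : N g) (i : Fin 23) : (a : G) * dF g i * (a : G)⁻¹ = dF g (piN g a i) :=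
  act_spec g a i

theorem piN_eq (a : N g) (i j : Fin 23) (h : (a : G) * dF g i * (a : G)⁻¹ = dF g j) :
    piN g a i = j := act_unique g a i j h

theorem t_mem_N (k : ℕ) (hk : k < 7) : t g k ∈ N g := by
  have h1 : ∀ i : Fin 23, ∃ j : Fin 23, t g k * dF g i * (t g k)⁻¹ = dF g j := fun i =>
    ⟨⟨sg k i, sg_lt k i hk i.2⟩, t_conj g k i hk i.2⟩
  refine ⟨h1, ?_⟩
  intro i
  obtain ⟨j, hj⟩ := h1 i
  refine ⟨j, ?_⟩
  rw [t_inv g k hk] at hj ⊢
  exact hj

theorem d_mem_N (j : ℕ) (hj : j < 23) : d g j ∈ N g := by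
  have h1 : ∀ i : Fin 23, d g j * dF g i * (d g j)⁻¹ = dF g i := by
    intro i
    have := (d_comm g j i hj i.2).eq
    show d g j * d g i * (d g j)⁻¹ = d g i
    rw [this]; group
  refine ⟨fun i => ⟨i, h1 i⟩, fun i => ⟨i, ?_⟩⟩
  have := h1 i
  rw [d_inv g j hj] at this ⊢
  exact this

theorem piN_t (k : ℕ) (hk : k < 7) (i : Fin 23) :
    piN g ⟨t g k, t_mem_N g k hk⟩ i = ⟨sg k i, sg_lt k i hk i.2⟩ :=
  piN_eq g _ i _ (t_conj g k i hk i.2)

theorem piN_d (j : ℕ) (hj : j < 23) : piN g ⟨d g j, d_mem_N g j hj⟩ = 1 := by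
  ext i
  have : piN g ⟨d g j, d_mem_N g j hj⟩ i = i := by
    apply piN_eq
    have := (d_comm g j i hj i.2).eq
    show d g j * d g i * (d g j)⁻¹ = d g i
    rw [this]; group
  rw [this]; rfl

/-- `N` normalises `E0` -/
theorem N_norm (a : G) (ha : a ∈ N g) (x : G) (hx : x ∈ E0 g) : a * x * a⁻¹ ∈ E0 g := by
  have : E0 g ≤ (E0 g).comap (MulAut.conj a).toMonoidHom := by
    rw [E0, Subgroup.closure_le]
    rintro _ ⟨i, hi, rfl⟩
    show a * d g i * a⁻¹ ∈ Subgroup.closure _
    obtain ⟨j, hj⟩ := ha.1 ⟨i, hi⟩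
    have : a * d g i * a⁻¹ = d g j := hj
    rw [this]
    exact d_mem_E0 g j j.2
  exact this hx

/-- the action on coordinates: the index function of `a` -/
noncomputable def idx (a : N g) (i : ℕ) : ℕ := if h : i < 23 then (piN g a ⟨i, h⟩ : ℕ) else 0

theorem idx_lt (a : N g) (i : ℕ) (hi : i < 23) : idx g a i < 23 := by
  simp only [idx, hi, dif_pos]; exact (piN g a ⟨i, hi⟩).2

theorem conj_d (a : N g) (i : ℕ) (hi : i < 23) : (a : G) * d g i * (a : G)⁻¹ = d g (idx g a i) := by
  have := piN_spec g a ⟨i, hi⟩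
  simp only [idx, hi, dif_pos]
  exact this

theorem conj_phi (a : N g) (u : ℕ) :
    (a : G) * phi g u * (a : G)⁻¹ = phi g (xf (fun b => expr (idx g a (basis b))) 11 u) := by
  rw [phi, bprod_conj]
  have h1 : bprod (fun i => (a : G) * d g (basis i) * (a : G)⁻¹) 11 u =
      bprod (fun b => bprod (fun b => d g (basis b)) 11 (expr (idx g a (basis b)))) 11 u := by
    apply bprod_congr
    intro b hb
    show (a : G) * d g (basis b) * (a : G)⁻¹ = phi g (expr (idx g a (basis b)))
    rw [conj_d g a _ (basis_lt b hb), d_expr g _ (idx_lt g a _ (basis_lt b hb))]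
  rw [h1, bprod_bprod _ 11 (hcB g) (hsB g)]
  rfl

end N

/-! ### the Sylow subgroup `T0` and its order -/

section T0

variable (g : G)

/-- top generators with index at least `n`, and all transpositions -/
def gensFrom (n : ℕ) : Set G :=
  ((fun k => t g k) '' {k | n ≤ k ∧ k < 7}) ∪ ((fun i => d g i) '' {i | i < 23})

/-- the chain of subgroups -/
def TT (n : ℕ) : Subgroup G := Subgroup.closure (gensFrom g n)

/-- the Sylow 2-subgroup -/
def T0 : Subgroup G := TT g 0

theorem t_mem_TT (n k : ℕ) (hnk : n ≤ k) (hk : k < 7) : t g k ∈ TT g n :=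
  Subgroup.subset_closure (Or.inl ⟨k, ⟨hnk, hk⟩, rfl⟩)

theorem d_mem_TT (n i : ℕ) (hi : i < 23) : d g i ∈ TT g n :=
  Subgroup.subset_closure (Or.inr ⟨i, hi, rfl⟩)

theorem E0_le_TT (n : ℕ) : E0 g ≤ TT g n := by
  rw [E0, Subgroup.closure_le]
  rintro _ ⟨i, hi, rfl⟩
  exact d_mem_TT g n i hi

theorem TT_seven : TT g 7 = E0 g := by
  apply le_antisymm
  · rw [TT, Subgroup.closure_le]
    rintro x (⟨k, ⟨h1, h2⟩, rfl⟩ | ⟨i, hi, rfl⟩)
    · omega
    · exact d_mem_E0 g i hi
  · exact E0_le_TT g 7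

theorem TT_le_N (n : ℕ) : TT g n ≤ N g := by
  rw [TT, Subgroup.closure_le]
  rintro x (⟨k, ⟨_, h2⟩, rfl⟩ | ⟨i, hi, rfl⟩)
  · exact t_mem_N g k h2
  · exact d_mem_N g i hi

theorem TT_succ (n : ℕ) (hn : n < 7) : TT g n = TT g (n + 1) ⊔ Subgroup.zpowers (t g n) := by
  have : gensFrom g n = gensFrom g (n + 1) ∪ {t g n} := by
    ext x
    simp only [gensFrom, Set.mem_union, Set.mem_image, Set.mem_ofPred_eq, Set.mem_singleton_iff]
    constructor
    · rintro (⟨k, ⟨h1, h2⟩, rfl⟩ | h)
      · rcases Nat.eq_or_lt_of_le h1 with h | h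
        · subst h; exact Or.inr rfl
        · exact Or.inl (Or.inl ⟨k, ⟨h, h2⟩, rfl⟩)
      · exact Or.inl (Or.inr h)
    · rintro ((⟨k, ⟨h1, h2⟩, rfl⟩ | h) | rfl)
      · exact Or.inl ⟨k, ⟨by omega, h2⟩, rfl⟩
      · exact Or.inr h
      · exact Or.inl ⟨n, ⟨le_rfl, hn⟩, rfl⟩
  rw [TT, this, Subgroup.closure_union, Subgroup.zpowers_eq_closure]
  rfl

theorem nf_mem_TT (n e : ℕ) (he : e % 2 ^ n = 0) : nf g e ∈ TT g n := by
  apply bprod_mem
  intro k hk hb
  apply t_mem_TT g n k _ hk
  by_contra hlt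
  push Not at hlt
  have h1 : (e % 2 ^ n).testBit k = true := by
    rw [Nat.testBit_mod_two_pow]; simp [hlt, hb]
  rw [he] at h1
  simp at h1

theorem t_norm_TT (n : ℕ) (hn : n < 7) :
    ∀ y ∈ TT g (n + 1), t g n * y * (t g n)⁻¹ ∈ TT g (n + 1) := by
  have : TT g (n + 1) ≤ (TT g (n + 1)).comap (MulAut.conj (t g n)).toMonoidHom := by
    rw [TT, Subgroup.closure_le]
    rintro x (⟨k, ⟨h1, h2⟩, rfl⟩ | ⟨i, hi, rfl⟩)
    · show t g n * t g k * (t g n)⁻¹ ∈ Subgroup.closure _
      rw [t_rel g n k hn h2 h1]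
      apply Subgroup.mul_mem
      · exact nf_mem_TT g (n + 1) _ (QcE n hn k h2 h1)
      · split_ifs
        · exact d_mem_TT g (n + 1) 0 (by norm_num)
        · exact Subgroup.one_mem _
    · show t g n * d g i * (t g n)⁻¹ ∈ Subgroup.closure _
      rw [t_conj g n i hn hi]
      exact d_mem_TT g (n + 1) _ (sg_lt n i hn hi)
  intro y hy
  exact this hy

theorem card_TT_le (m : ℕ) (hm : m ≤ 7) : Nat.card (TT g (7 - m)) ≤ 2 ^ m * 2048 := by
  induction m with
  | zero => simp [TT_seven, card_E0]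
  | succ m ih =>
    have h1 : 7 - (m + 1) < 7 := by omega
    have h2 : 7 - (m + 1) + 1 = 7 - m := by omega
    rw [TT_succ g _ h1, h2]
    have hsq : t g (7 - (m + 1)) * t g (7 - (m + 1)) ∈ TT g (7 - m) := by
      rw [t_sq g _ h1]; exact Subgroup.one_mem _
    have hnorm := t_norm_TT g (7 - (m + 1)) h1
    rw [h2] at hnorm
    have := card_sup_zpowers_le (TT g (7 - m)) (t g (7 - (m + 1))) hsq hnorm
    calc _ ≤ 2 * Nat.card (TT g (7 - m)) := this
      _ ≤ 2 * (2 ^ m * 2048) := Nat.mul_le_mul_left 2 (ih (by omega))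
      _ = 2 ^ (m + 1) * 2048 := by ring

theorem card_T0_le : Nat.card (T0 g) ≤ 2 ^ 18 := by
  have := card_TT_le g 7 le_rfl
  simpa [T0] using this

theorem T0_le_N : T0 g ≤ N g := TT_le_N g 0

theorem E0_le_T0 : E0 g ≤ T0 g := E0_le_TT g 0

/-- the permutation representation of `T0` on the indices -/
noncomputable def piT : T0 g →* Equiv.Perm (Fin 23) :=
  (piN g).comp (Subgroup.inclusion (T0_le_N g))

/-- the index function of an element of `T0` -/
noncomputable def idxT (a : T0 g) (i : ℕ) : ℕ := idx g (Subgroup.inclusion (T0_le_N g) a) i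

theorem idxT_lt (a : T0 g) (i : ℕ) (hi : i < 23) : idxT g a i < 23 := idx_lt g _ i hi

theorem idxT_eq (a : T0 g) (i : ℕ) (hi : i < 23) : idxT g a i = (piT g a ⟨i, hi⟩ : ℕ) := by
  simp only [idxT, idx, hi, dif_pos]; rfl

theorem idxT_unique (a : T0 g) (i j : ℕ) (hi : i < 23) (hj : j < 23)
    (h : (a : G) * d g i * (a : G)⁻¹ = d g j) : idxT g a i = j := by
  rw [idxT_eq g a i hi]
  have := piN_eq g (Subgroup.inclusion (T0_le_N g) a) ⟨i, hi⟩ ⟨j, hj⟩ h
  show ((piN g (Subgroup.inclusion (T0_le_N g) a) ⟨i, hi⟩ : Fin 23) : ℕ) = j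
  rw [this]

theorem conj_d_T (a : T0 g) (i : ℕ) (hi : i < 23) :
    (a : G) * d g i * (a : G)⁻¹ = d g (idxT g a i) :=
  conj_d g (Subgroup.inclusion (T0_le_N g) a) i hi

theorem idxT_one (i : ℕ) (hi : i < 23) : idxT g 1 i = i :=
  idxT_unique g 1 i i hi hi (by simp)

theorem idxT_mul (a b : T0 g) (i : ℕ) (hi : i < 23) :
    idxT g (a * b) i = idxT g a (idxT g b i) := by
  apply idxT_unique g (a * b) i _ hi (idxT_lt g a _ (idxT_lt g b i hi))
  rw [← conj_d_T g a _ (idxT_lt g b i hi), ← conj_d_T g b i hi]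
  push_cast
  group

theorem idxT_t (k : ℕ) (hk : k < 7) (i : ℕ) (hi : i < 23) :
    idxT g ⟨t g k, t_mem_TT g 0 k (Nat.zero_le k) hk⟩ i = sg k i :=
  idxT_unique g _ i _ hi (sg_lt k i hk hi) (t_conj g k i hk hi)

theorem bprod_t_mem (n e : ℕ) (hn : n ≤ 7) : bprod (t g) n e ∈ T0 g :=
  bprod_mem _ _ _ _ fun k hk _ => t_mem_TT g 0 k (Nat.zero_le k) (by omega)

theorem idxT_bprod (n e : ℕ) (hn : n ≤ 7) (i : ℕ) (hi : i < 23) :
    idxT g ⟨bprod (t g) n e, bprod_t_mem g n e hn⟩ i = pfn n e i := by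
  induction n generalizing i with
  | zero => exact idxT_one g i hi
  | succ n ih =>
    have hn' : n ≤ 7 := by omega
    have hn7 : n < 7 := by omega
    by_cases hb : e.testBit n = true
    · have e1 : (⟨bprod (t g) (n + 1) e, bprod_t_mem g (n + 1) e hn⟩ : T0 g) =
          ⟨bprod (t g) n e, bprod_t_mem g n e hn'⟩ * ⟨t g n, t_mem_TT g 0 n (Nat.zero_le n) hn7⟩ := by
        apply Subtype.ext
        simp [bprod, hb]
      rw [e1, idxT_mul g _ _ i hi, idxT_t g n hn7 i hi, ih hn' _ (sg_lt n i hn7 hi)]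
      simp [pfn, hb]
    · have e1 : (⟨bprod (t g) (n + 1) e, bprod_t_mem g (n + 1) e hn⟩ : T0 g) =
          ⟨bprod (t g) n e, bprod_t_mem g n e hn'⟩ := by
        apply Subtype.ext
        simp [bprod, hb]
      rw [e1, ih hn' i hi]
      simp [pfn, hb]

/-- the normal form elements of `T0` -/
noncomputable def nfT (e : ℕ) : T0 g := ⟨nf g e, bprod_t_mem g 7 e le_rfl⟩

theorem idxT_nfT (e i : ℕ) (hi : i < 23) : idxT g (nfT g e) i = pf e i :=
  idxT_bprod g 7 e le_rfl i hi

theorem pf_inj (e e' : ℕ) (he : e < 128) (he' : e' < 128) (h : ∀ i < 23, pf e i = pf e' i) :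
    e = e' := by
  have := List.inj_on_of_nodup_map Qinj (List.mem_range.mpr he) (List.mem_range.mpr he')
  apply this
  apply List.map_congr_left
  intro i hi
  exact h i (List.mem_range.mp hi)

theorem piT_nfT_injective :
    Function.Injective (fun e : Fin 128 => (⟨piT g (nfT g e), ⟨nfT g e, rfl⟩⟩ : (piT g).range)) := by
  intro e e' h
  have h1 : piT g (nfT g e) = piT g (nfT g e') := congrArg Subtype.val h
  apply Fin.ext
  apply pf_inj _ _ e.2 e'.2
  intro i hi
  rw [← idxT_nfT g e i hi, ← idxT_nfT g e' i hi, idxT_eq g _ i hi, idxT_eq g _ i hi, h1]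

theorem card_range_ge : 128 ≤ Nat.card (piT g).range := by
  have := Nat.card_le_card_of_injective _ (piT_nfT_injective g)
  simpa using this

/-- `E0` inside `T0` -/
def E0sub : Subgroup (T0 g) := (E0 g).subgroupOf (T0 g)

theorem card_E0sub : Nat.card (E0sub g) = 2048 := by
  rw [E0sub, Nat.card_congr (Subgroup.subgroupOfEquivOfLe (E0_le_T0 g)).toEquiv, card_E0]

theorem E0sub_le_ker : E0sub g ≤ (piT g).ker := by
  intro a ha
  rw [MonoidHom.mem_ker]
  have ha' : (a : G) ∈ E0 g := ha
  ext i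
  have : piT g a i = i := by
    apply piN_eq
    show (a : G) * d g i * (a : G)⁻¹ = d g i
    rw [E0_comm g _ _ ha' (d_mem_E0 g i i.2)]; group
  rw [this]; rfl

theorem card_ker_ge : 2048 ≤ Nat.card (piT g).ker := by
  rw [← card_E0sub g]
  exact Subgroup.card_le_of_le (E0sub_le_ker g)

theorem card_mul : Nat.card (piT g).ker * Nat.card (piT g).range = Nat.card (T0 g) := by
  rw [← Subgroup.index_ker, Subgroup.card_mul_index]

theorem card_T0 : Nat.card (T0 g) = 2 ^ 18 := by
  apply le_antisymm (card_T0_le g)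
  rw [← card_mul]
  calc 2 ^ 18 = 2048 * 128 := by norm_num
    _ ≤ _ := Nat.mul_le_mul (card_ker_ge g) (card_range_ge g)

theorem card_ker : Nat.card (piT g).ker = 2048 := by
  apply le_antisymm _ (card_ker_ge g)
  have h1 := card_mul g
  rw [card_T0] at h1
  have h2 := card_range_ge g
  by_contra hlt
  push Not at hlt
  have : 2049 * 128 ≤ Nat.card (piT g).ker * Nat.card (piT g).range := Nat.mul_le_mul hlt h2
  omega

theorem card_range : Nat.card (piT g).range = 128 := by
  have h1 := card_mul g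
  rw [card_T0, card_ker] at h1
  omega

theorem ker_eq : (piT g).ker = E0sub g := by
  symm
  apply Subgroup.eq_of_le_of_card_ge (E0sub_le_ker g)
  rw [card_ker, card_E0sub]

theorem mem_E0_of_piT (a : T0 g) (h : piT g a = 1) : (a : G) ∈ E0 g := by
  have : a ∈ (piT g).ker := h
  rw [ker_eq] at this
  exact this

/-- every element of `T0` acts on the indices as some normal form -/
theorem exists_class (a : T0 g) : ∃ e < 128, ∀ i < 23, idxT g a i = pf e i := by
  have hbij := (piT_nfT_injective g).bijective_of_nat_card_le (by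
    rw [card_range]; simp)
  obtain ⟨e, he⟩ := hbij.2 ⟨piT g a, ⟨a, rfl⟩⟩
  have h1 : piT g (nfT g e) = piT g a := congrArg Subtype.val he
  refine ⟨e, e.2, fun i hi => ?_⟩
  rw [← idxT_nfT g e i hi, idxT_eq g _ i hi, idxT_eq g _ i hi, h1]

end T0

/-! ### no offenders: the main counting argument -/

section main

variable (g : G)

theorem mactn_eq_xf (e m u : ℕ) : mactn m e u = xf (fun b => expr (pf e (basis b))) m u := by
  induction m with
  | zero => rfl
  | succ m ih => simp only [mactn, xf, ih]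

theorem mact_lt (e u : ℕ) (he : e < 128) : mact e u < 2048 := by
  rw [mact, mactn_eq_xf]
  apply xf_lt _ 11
  intro b hb
  exact Qexpr.1 _ (Qpf e he _ (basis_lt b hb))

/-- conjugation by an element of class `e` acts on coordinates as `mact e` -/
theorem conj_phi_T (a : T0 g) (e : ℕ) (hcl : ∀ i < 23, idxT g a i = pf e i) (u : ℕ) :
    (a : G) * phi g u * (a : G)⁻¹ = phi g (mact e u) := by
  have h1 := conj_phi g (Subgroup.inclusion (T0_le_N g) a) u
  have h3 : xf (fun b => expr (idx g (Subgroup.inclusion (T0_le_N g) a) (basis b))) 11 u =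
      mact e u := by
    rw [mact, mactn_eq_xf]
    apply xf_congr
    intro b hb
    show expr (idxT g a (basis b)) = _
    rw [hcl _ (basis_lt b hb)]
  rw [← h3]
  exact h1

theorem comm_iff_fix (a : T0 g) (e : ℕ) (he : e < 128) (hcl : ∀ i < 23, idxT g a i = pf e i)
    (u : ℕ) (hu : u < 2048) :
    (a : G) * phi g u = phi g u * (a : G) ↔ mact e u = u := by
  have h1 := conj_phi_T g a e hcl u
  constructor
  · intro hc
    have h2 : (a : G) * phi g u * (a : G)⁻¹ = phi g u := by rw [hc]; group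
    rw [h1] at h2
    exact phi_inj g _ _ (mact_lt e u he) hu h2
  · intro hm
    rw [hm] at h1
    calc (a : G) * phi g u = ((a : G) * phi g u * (a : G)⁻¹) * (a : G) := by group
      _ = phi g u * (a : G) := by rw [h1]

/-- the part of `E0` centralised by `a` -/
def K1 (a : G) : Subgroup G := E0 g ⊓ Subgroup.centralizer {a}

theorem mem_K1_iff (a x : G) : x ∈ K1 g a ↔ x ∈ E0 g ∧ a * x = x * a := by
  rw [K1, Subgroup.mem_inf, Subgroup.mem_centralizer_iff]
  constructor
  · rintro ⟨h1, h2⟩; exact ⟨h1, h2 a rfl⟩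
  · rintro ⟨h1, h2⟩
    refine ⟨h1, fun y hy => ?_⟩
    rw [Set.mem_singleton_iff] at hy
    subst hy
    exact h2

theorem isInv_of (a : T0 g) (e : ℕ) (hcl : ∀ i < 23, idxT g a i = pf e i) (hsq : a * a = 1)
    (hne : piT g a ≠ 1) : isInv e = true := by
  rw [isInv, Bool.and_eq_true, List.all_eq_true, List.any_eq_true]
  constructor
  · intro i hi
    have hi' := List.mem_range.mp hi
    have h1 := idxT_mul g a a i hi'
    rw [hsq, idxT_one g i hi', hcl i hi', hcl _ (by rw [← hcl i hi']; exact idxT_lt g a i hi')] at h1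
    rw [← h1]
    exact Nat.beq_refl i
  · by_contra hall
    push Not at hall
    apply hne
    ext i
    have h1 : pf e i = i := by
      have := hall i (List.mem_range.mpr i.2)
      simpa using this
    have h2 : idxT g a i = (piT g a ⟨i, i.2⟩ : ℕ) := idxT_eq g a i i.2
    rw [hcl i i.2, h1] at h2
    show ((piT g a i : Fin 23) : ℕ) = i
    exact h2.symm

theorem card_K1_le (a : T0 g) (e : ℕ) (he : e < 128) (hcl : ∀ i < 23, idxT g a i = pf e i)
    (hinv : isInv e = true) : Nat.card (K1 g (a : G)) ≤ 128 := by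
  refine le_trans (card_le_of_subset_phi g _
    ((List.range 2048).filter (fun u => Nat.beq (mact e u) u)) ?_) (Q2 e he hinv)
  intro x hx
  rw [mem_K1_iff] at hx
  obtain ⟨u, hu, rfl⟩ := exists_of_mem_E0 g x hx.1
  refine ⟨u, ?_, rfl⟩
  rw [List.mem_filter]
  refine ⟨List.mem_range.mpr hu, ?_⟩
  have := (comm_iff_fix g a e he hcl u hu).mp hx.2
  simp [this]

theorem two_mul_card_le_of_lt (K2 K1' : Subgroup G) (h : K2 ≤ K1') (x : G) (hx1 : x ∈ K1')
    (hx2 : x ∉ K2) : 2 * Nat.card K2 ≤ Nat.card K1' := by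
  obtain ⟨q, hq⟩ := Subgroup.card_dvd_of_le h
  have hpos : 0 < Nat.card K1' := Nat.card_pos
  have hq1 : q ≠ 1 := by
    rintro rfl
    rw [mul_one] at hq
    have := Subgroup.eq_of_le_of_card_ge h (le_of_eq hq)
    rw [this] at hx2
    exact hx2 hx1
  have hq0 : q ≠ 0 := by
    rintro rfl
    rw [mul_zero] at hq
    omega
  have : 2 ≤ q := by omega
  calc 2 * Nat.card K2 = Nat.card K2 * 2 := by ring
    _ ≤ Nat.card K2 * q := Nat.mul_le_mul_left _ this
    _ = Nat.card K1' := hq.symm

/-- Burnside: an elementary abelian group of permutations of 23 points all of whose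
non-identity elements have 7 fixed points has order dividing 16 -/
theorem card_dvd_sixteen (B : Subgroup (Equiv.Perm (Fin 23)))
    (hB : ∀ b ∈ B, b ≠ 1 → (Finset.univ.filter (fun i : Fin 23 => b i = i)).card = 7) :
    Nat.card B ∣ 16 := by
  classical
  have : Fintype B := Fintype.ofFinite B
  have key := MulAction.sum_card_fixedBy_eq_card_orbits_mul_card_group B (Fin 23)
  have hfix : ∀ b : B, Fintype.card (MulAction.fixedBy (Fin 23) b) = if b = 1 then 23 else 7 := by
    intro b
    have h1 : Fintype.card (MulAction.fixedBy (Fin 23) b) =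
        (Finset.univ.filter (fun i : Fin 23 => (b : Equiv.Perm (Fin 23)) i = i)).card := by
      rw [← Fintype.card_subtype]
      apply Fintype.card_congr
      exact Equiv.subtypeEquivRight (fun i => by simp [MulAction.mem_fixedBy]; rfl)
    rw [h1]
    split_ifs with hb
    · subst hb
      simp
    · apply hB b b.2
      intro h
      apply hb
      exact Subtype.ext h
  have hsum : (∑ b : B, Fintype.card (MulAction.fixedBy (Fin 23) b)) = 16 + 7 * Fintype.card B := by
    rw [Finset.sum_congr rfl (fun b _ => hfix b)]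
    rw [← Finset.add_sum_erase Finset.univ _ (Finset.mem_univ (1 : B))]
    rw [if_pos rfl]
    have : ∑ x ∈ Finset.univ.erase (1 : B), (if x = 1 then 23 else 7) =
        ∑ x ∈ Finset.univ.erase (1 : B), 7 := by
      apply Finset.sum_congr rfl
      intro x hx
      rw [if_neg (Finset.ne_of_mem_erase hx)]
    rw [this, Finset.sum_const, Finset.card_erase_of_mem (Finset.mem_univ _), Finset.card_univ,
      smul_eq_mul]
    have : 1 ≤ Fintype.card B := Fintype.card_pos
    omega
  rw [hsum] at key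
  rw [Nat.card_eq_fintype_card]
  have h2 : Fintype.card B ∣ 16 + 7 * Fintype.card B := ⟨_, by rw [key]; ring⟩
  exact (Nat.dvd_add_left (dvd_mul_left _ _)).mp h2

theorem main_T0 (A : Subgroup G) (hA : A ≤ T0 g) (hel : Cfsg.IsElementaryAbelian 2 A) :
    Nat.card A ≤ 2 ^ 11 ∧ (Nat.card A = 2 ^ 11 → A = E0 g) := by
  obtain ⟨hcomm, hexp⟩ := hel
  set f : A →* Equiv.Perm (Fin 23) := (piT g).comp (Subgroup.inclusion hA) with hf
  have hcard : Nat.card f.ker * Nat.card f.range = Nat.card A := by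
    rw [← Subgroup.index_ker, Subgroup.card_mul_index]
  have hAcomm : ∀ x y : A, (x : G) * (y : G) = (y : G) * (x : G) := by
    intro x y
    have := hcomm.is_comm.comm x y
    exact congrArg Subtype.val this
  by_cases htriv : ∀ a : A, f a = 1
  · have hle : A ≤ E0 g := fun x hx => mem_E0_of_piT g ⟨x, hA hx⟩ (htriv ⟨x, hx⟩)
    constructor
    · calc Nat.card A ≤ Nat.card (E0 g) := Subgroup.card_le_of_le hle
        _ = 2 ^ 11 := by rw [card_E0]; norm_num
    · intro h
      apply Subgroup.eq_of_le_of_card_ge hle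
      rw [h, card_E0]; norm_num
  · push Not at htriv
    obtain ⟨a0, ha0⟩ := htriv
    suffices hsuff : Nat.card A ≤ 1024 by
      exact ⟨by omega, fun h => by omega⟩
    -- the class of an element of `A`
    have hclass : ∀ a : A, f a ≠ 1 → ∃ e < 128, (∀ i < 23, idxT g (Subgroup.inclusion hA a) i = pf e i) ∧
        isInv e = true := by
      intro a ha
      obtain ⟨e, he, hcl⟩ := exists_class g (Subgroup.inclusion hA a)
      refine ⟨e, he, hcl, isInv_of g _ e hcl ?_ ha⟩
      apply Subtype.ext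
      have := hexp a a.2
      rw [pow_two] at this
      exact this
    -- the kernel lies in `K1 a` for every `a ∈ A`
    have hker : ∀ (a : A) (x : f.ker), ((x : A) : G) ∈ K1 g (a : G) := by
      intro a x
      rw [mem_K1_iff]
      refine ⟨mem_E0_of_piT g (Subgroup.inclusion hA (x : A)) x.2, hAcomm a x⟩
    have hker_le : ∀ K : Subgroup G, (∀ x : f.ker, ((x : A) : G) ∈ K) → Nat.card f.ker ≤ Nat.card K := by
      intro K hK
      apply Nat.card_le_card_of_injective (fun x : f.ker => (⟨((x : A) : G), hK x⟩ : K))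
      intro x y h
      have := congrArg Subtype.val h
      exact Subtype.ext (Subtype.ext this)
    obtain ⟨e0, he0, hcl0, hinv0⟩ := hclass a0 ha0
    have hK0 : Nat.card (K1 g (a0 : G)) ≤ 128 := card_K1_le g (Subgroup.inclusion hA a0) e0 he0 hcl0 hinv0
    -- Burnside
    have hdvd : Nat.card f.range ∣ 16 := by
      apply card_dvd_sixteen
      rintro b ⟨a, rfl⟩ hb
      obtain ⟨e, he, hcl, hinv⟩ := hclass a hb
      have := Q1' e he hinv
      rw [← this]
      congr 1
      ext i
      simp only [Finset.mem_filter, Finset.mem_univ, true_and]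
      have h2 : idxT g (Subgroup.inclusion hA a) i = ((f a) i : ℕ) := idxT_eq g _ i i.2
      rw [hcl i i.2] at h2
      constructor
      · intro h; rw [h2, h]
      · intro h; apply Fin.ext; rw [← h2]; exact h
    have hpos : 0 < Nat.card f.range := Nat.card_pos
    have hle16 : Nat.card f.range ≤ 16 := Nat.le_of_dvd (by norm_num) hdvd
    by_cases h8 : Nat.card f.range ≤ 8
    · calc Nat.card A = Nat.card f.ker * Nat.card f.range := hcard.symm
        _ ≤ 128 * 8 := Nat.mul_le_mul (le_trans (hker_le _ (hker a0)) hK0) h8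
        _ = 1024 := by norm_num
    · push Not at h8
      -- a second class
      have hex : ∃ a1 : A, f a1 ≠ 1 ∧ f a1 ≠ f a0 := by
        by_contra hno
        push Not at hno
        have hsub : ∀ b : f.range, b = 1 ∨ b = ⟨f a0, ⟨a0, rfl⟩⟩ := by
          rintro ⟨b, ⟨a, rfl⟩⟩
          by_cases h1 : f a = 1
          · left; exact Subtype.ext h1
          · right; exact Subtype.ext (hno a h1)
        have : Nat.card f.range ≤ 2 := by
          classical
          have hfin : Finite f.range := inferInstance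
          have : (Set.univ : Set f.range) ⊆ {1, ⟨f a0, ⟨a0, rfl⟩⟩} := by
            intro b _
            rcases hsub b with h | h
            · left; exact h
            · right; exact h
          calc Nat.card f.range = (Set.univ : Set f.range).ncard := (Set.ncard_univ _).symm
            _ ≤ ({1, ⟨f a0, ⟨a0, rfl⟩⟩} : Set f.range).ncard :=
                Set.ncard_le_ncard this (Set.toFinite _)
            _ ≤ 2 := (Set.ncard_insert_le _ _).trans (by simp)
        omega
      obtain ⟨a1, ha1, hne⟩ := hex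
      obtain ⟨e1, he1, hcl1, hinv1⟩ := hclass a1 ha1
      have hK1 : Nat.card (K1 g (a1 : G)) ≤ 128 := card_K1_le g (Subgroup.inclusion hA a1) e1 he1 hcl1 hinv1
      have hee : e0 ≠ e1 := by
        rintro rfl
        apply hne
        ext i
        have h0 : idxT g (Subgroup.inclusion hA a0) i = ((f a0) i : ℕ) := idxT_eq g _ i i.2
        have h1 : idxT g (Subgroup.inclusion hA a1) i = ((f a1) i : ℕ) := idxT_eq g _ i i.2
        rw [← h1, ← h0, hcl0 i i.2, hcl1 i i.2]
      obtain ⟨u, hu, hdiff⟩ := List.any_eq_true.mp (Q3 e0 he0 e1 he1 hinv0 hinv1 hee)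
      have hu' := List.mem_range.mp hu
      set K2 : Subgroup G := K1 g (a0 : G) ⊓ K1 g (a1 : G) with hK2
      have hK2card : Nat.card K2 ≤ 64 := by
        have c0 := comm_iff_fix g (Subgroup.inclusion hA a0) e0 he0 hcl0 u hu'
        have c1 := comm_iff_fix g (Subgroup.inclusion hA a1) e1 he1 hcl1 u hu'
        by_cases hm0 : mact e0 u = u
        · have hm1 : mact e1 u ≠ u := by
            intro hm1
            simp [hm0, hm1] at hdiff
          have hx1 : phi g u ∈ K1 g (a0 : G) := (mem_K1_iff g _ _).mpr ⟨phi_mem_E0 g u, c0.mpr hm0⟩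
          have hx2 : phi g u ∉ K2 := by
            intro h
            have := ((mem_K1_iff g _ _).mp h.2).2
            exact hm1 (c1.mp this)
          have := two_mul_card_le_of_lt K2 (K1 g (a0 : G)) inf_le_left _ hx1 hx2
          omega
        · have hm1 : mact e1 u = u := by
            by_contra hm1
            have b0 : (mact e0 u).beq u = false := by
              rw [Bool.eq_false_iff]; intro h; exact hm0 (Nat.eq_of_beq_eq_true h)
            have b1 : (mact e1 u).beq u = false := by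
              rw [Bool.eq_false_iff]; intro h; exact hm1 (Nat.eq_of_beq_eq_true h)
            rw [b0, b1] at hdiff
            simp at hdiff
          have hx1 : phi g u ∈ K1 g (a1 : G) := (mem_K1_iff g _ _).mpr ⟨phi_mem_E0 g u, c1.mpr hm1⟩
          have hx2 : phi g u ∉ K2 := by
            intro h
            have := ((mem_K1_iff g _ _).mp h.1).2
            exact hm0 (c0.mp this)
          have := two_mul_card_le_of_lt K2 (K1 g (a1 : G)) inf_le_right _ hx1 hx2
          omega
      have hk2 : Nat.card f.ker ≤ Nat.card K2 :=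
        hker_le K2 (fun x => ⟨hker a0 x, hker a1 x⟩)
      calc Nat.card A = Nat.card f.ker * Nat.card f.range := hcard.symm
        _ ≤ 64 * 16 := Nat.mul_le_mul (le_trans hk2 hK2card) hle16
        _ = 1024 := by norm_num

end main

/-! ### every Sylow 2-subgroup is some `T0 g` -/

section sylow

theorem E0_normal (g : G) : ((E0 g).subgroupOf (T0 g)).Normal := by
  constructor
  intro x hx a
  show ((a * x * a⁻¹ : T0 g) : G) ∈ E0 g
  push_cast
  exact N_norm g a (T0_le_N g a.2) x hx

theorem E0_elementary (g : G) : Cfsg.IsElementaryAbelian 2 (E0 g) := by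
  refine ⟨⟨⟨fun x y => ?_⟩⟩, fun a ha => E0_sq g a ha⟩
  exact Subtype.ext (E0_comm g x y x.2 y.2)

theorem cev_conj (h : G) (w : Wd) : h * cev 1 w * h⁻¹ = cev h w := by
  simp [cev]

theorem T0_conj (h : G) : (T0 1).map (MulAut.conj h).toMonoidHom = T0 h := by
  rw [T0, TT, MonoidHom.map_closure, T0, TT]
  congr 1
  ext x
  simp only [gensFrom, Set.image_union, Set.mem_union, Set.mem_image, Set.mem_ofPred_eq]
  constructor
  · rintro (⟨_, ⟨k, hk, rfl⟩, rfl⟩ | ⟨_, ⟨i, hi, rfl⟩, rfl⟩)
    · exact Or.inl ⟨k, hk, (cev_conj h _).symm⟩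
    · exact Or.inr ⟨i, hi, (cev_conj h _).symm⟩
  · rintro (⟨k, hk, rfl⟩ | ⟨i, hi, rfl⟩)
    · exact Or.inl ⟨_, ⟨k, hk, rfl⟩, cev_conj h _⟩
    · exact Or.inr ⟨_, ⟨i, hi, rfl⟩, cev_conj h _⟩

theorem card_G : Nat.card G = 2 ^ 18 * 15600091832325 := by
  rw [card_eq]; norm_num

theorem exists_conj (T : Sylow 2 G) : ∃ h : G, (T : Subgroup G) = T0 h := by
  have hp : IsPGroup 2 (T0 (1 : G)) := IsPGroup.of_card (card_T0 1)
  obtain ⟨Q, hQ⟩ := hp.exists_le_sylow
  have hQeq : (Q : Subgroup G) = T0 1 := by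
    symm
    apply Subgroup.eq_of_le_of_card_ge hQ
    rw [card_T0]
    obtain ⟨k, hk⟩ := (IsPGroup.iff_card.mp Q.isPGroup')
    rw [hk]
    apply Nat.pow_le_pow_right (by norm_num)
    by_contra hlt
    push Not at hlt
    have h1 : 2 ^ 19 ∣ Nat.card (Q : Subgroup G) := by
      rw [hk]; exact pow_dvd_pow 2 hlt
    have h2 : Nat.card (Q : Subgroup G) ∣ Nat.card G := Subgroup.card_subgroup_dvd_card _
    have h3 := dvd_trans h1 h2
    rw [card_G] at h3
    norm_num at h3
  obtain ⟨h, hh⟩ := MulAction.exists_smul_eq G Q T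
  refine ⟨h, ?_⟩
  rw [← hh, Sylow.coe_subgroup_smul, Subgroup.pointwise_smul_def, hQeq]
  exact T0_conj h

theorem main (T : Sylow 2 G) :
    (∀ A : Subgroup G, A ≤ T → (A.subgroupOf T).Normal → Cfsg.IsElementaryAbelian 2 A →
        Nat.card A ≤ 2 ^ 11) ∧
    ∃! A : Subgroup G, A ≤ T ∧ (A.subgroupOf T).Normal ∧ Cfsg.IsElementaryAbelian 2 A ∧
        Nat.card A = 2 ^ 11 := by
  obtain ⟨h, hT⟩ := exists_conj T
  rw [hT]
  constructor
  · intro A hA _ hel
    exact (main_T0 h A hA hel).1
  · refine ⟨E0 h, ⟨E0_le_T0 h, E0_normal h, E0_elementary h, by rw [card_E0]; norm_num⟩, ?_⟩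
    rintro A ⟨hA, _, hel, hc⟩
    exact (main_T0 h A hA hel).2 hc

end sylow

end Cfsg.Agent.Lib.Helper96_Fi23Syl
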