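import Cfsg.Agent.Lib.Helper28_Fi23Order
import Mathlib.Tactic.IntervalCases
import Mathlib.Data.Fintype.Card

/-!
# Data for a Sylow 2-subgroup of the presented Fischer group `Fi23` (helper96)

`dW i` (`i < 23`): words for 23 pairwise commuting transpositions `d_i` (the point `L[i]` of the
31671-point table); `tW k` (`k < 7`): words for involutions `t_k` generating, together with the `d_i`,
a Sylow 2-subgroup; `sg k`: the permutation of the 23 indices induced by `t_k`; `expr i`: the
coordinates of `d_i` in the basis `d_{basis b}` (`b < 11`); `cE k m`, `cT k m`: the polycyclic relation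
`t_k t_m t_k = (prod_{j} t_j^{bit j (cE k m)}) * d_0^{cT k m}`.
Generated by tools/helper96/fi23syl/gen_data.py.
-/

set_option autoImplicit false
set_option linter.constructorNameAsVariable false
set_option Elab.async false

namespace Cfsg.Agent.Lib.Helper96_Fi23SylData

open Cfsg.Spor Cfsg.Agent.Lib.Helper28_CosetPerm Cfsg.Agent.Lib.Helper28_Fi23Order

/-- words -/
abbrev Wd := List (Cfsg.Spor.Fi23.Gen × Bool)

/-- the words of the 23 commuting transpositions -/
def dWs : List Wd := [
  [(.j, true), (.g, true), (.f, true), (.e, true), (.d, true), (.h, true), (.c, true), (.d, true), (.e, true), (.b, true), (.c, true), (.d, true), (.h, true), (.f, true), (.g, true), (.j, true), (.e, true), (.f, true), (.g, true), (.d, true), (.e, true), (.f, true), (.c, true), (.d, true), (.e, true), (.b, true), (.c, true), (.d, true), (.h, true), (.d, true), (.c, true), (.b, true), (.e, true), (.d, true), (.c, true), (.f, true), (.e, true), (.d, true), (.g, true), (.f, true), (.e, true), (.j, true), (.g, true), (.f, true), (.h, true), (.d, true),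 (.c, true), (.b, true), (.e, true), (.d, true), (.c, true), (.h, true), (.d, true), (.e, true), (.f, true), (.g, true), (.j, true)],
  [(.a, true)],
  [(.c, true)],
  [(.e, true)],
  [(.g, true)],
  [(.i, true)],
  [(.h, true), (.i, true), (.d, true), (.e, true), (.c, true), (.d, true), (.h, true), (.d, true), (.c, true), (.e, true), (.d, true), (.i, true), (.h, true)],
  [(.h, true), (.i, true), (.b, true), (.c, true), (.d, true), (.e, true), (.a, true), (.b, true), (.c, true), (.d, true), (.h, true), (.d, true), (.c, true), (.b, true), (.a, true), (.e, true), (.d, true), (.c, true), (.b, true), (.i, true), (.h, true)],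
  [(.h, true), (.i, true), (.f, true), (.g, true), (.e, true), (.f, true), (.d, true), (.e, true), (.c, true), (.d, true), (.h, true), (.d, true), (.c, true), (.e, true), (.d, true), (.f, true), (.e, true), (.g, true), (.f, true), (.i, true), (.h, true)],
  [(.h, true), (.i, true), (.f, true), (.g, true), (.e, true), (.f, true), (.b, true), (.c, true), (.d, true), (.e, true), (.a, true), (.b, true), (.c, true), (.d, true), (.h, true), (.d, true), (.c, true), (.b, true), (.a, true), (.e, true), (.d, true), (.c, true), (.b, true), (.f, true), (.e, true), (.g, true), (.f, true), (.i, true), (.h, true)],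
  [(.d, true), (.e, true), (.c, true), (.d, true), (.h, true), (.i, true), (.b, true), (.c, true), (.d, true), (.e, true), (.a, true), (.b, true), (.c, true), (.d, true), (.h, true), (.d, true), (.c, true), (.b, true), (.a, true), (.e, true), (.d, true), (.c, true), (.b, true), (.i, true), (.h, true), (.d, true), (.c, true), (.e, true), (.d, true)],
  [(.d, true), (.e, true), (.c, true), (.d, true), (.h, true), (.i, true), (.f, true), (.g, true), (.e, true), (.f, true), (.d, true), (.e, true), (.c, true), (.d, true), (.h, true), (.d, true), (.c, true), (.e, true), (.d, true), (.f, true), (.e, true), (.g, true), (.f, true), (.i, true), (.h, true), (.d, true), (.c, true), (.e, true), (.d, true)],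
  [(.h, true), (.i, true), (.d, true), (.e, true), (.f, true), (.g, true), (.c, true), (.d, true), (.e, true), (.f, true), (.b, true), (.c, true), (.d, true), (.e, true), (.a, true), (.b, true), (.c, true), (.d, true), (.h, true), (.d, true), (.c, true), (.b, true), (.a, true), (.e, true), (.d, true), (.c, true), (.b, true), (.f, true), (.e, true), (.d, true), (.c, true), (.g, true), (.f, true), (.e, true), (.d, true), (.i, true), (.h, true)],
  [(.h, true), (.i, true), (.d, true), (.h, true), (.f, true), (.g, true), (.c, true), (.d, true), (.e, true), (.f, true), (.b, true), (.c, true), (.d, true), (.e, true), (.a, true), (.b, true), (.c, true), (.d, true), (.h, true), (.d, true), (.c, true), (.b, true), (.a, true), (.e, true), (.d, true), (.c, true), (.b, true), (.f, true), (.e, true), (.d, true), (.c, true), (.g, true), (.f, true), (.h, true), (.d, true), (.i, true), (.h, true)],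
  [(.h, true), (.i, true), (.d, true), (.h, true), (.e, true), (.f, true), (.g, true), (.d, true), (.e, true), (.f, true), (.b, true), (.c, true), (.d, true), (.e, true), (.a, true), (.b, true), (.c, true), (.d, true), (.h, true), (.d, true), (.c, true), (.b, true), (.a, true), (.e, true), (.d, true), (.c, true), (.b, true), (.f, true), (.e, true), (.d, true), (.g, true), (.f, true), (.e, true), (.h, true), (.d, true), (.i, true), (.h, true)],
  [(.d, true), (.e, true), (.c, true), (.d, true), (.h, true), (.i, true), (.f, true), (.g, true), (.e, true), (.f, true), (.b, true), (.c, true), (.d, true), (.e, true), (.a, true), (.b, true), (.c, true), (.d, true), (.h, true), (.d, true), (.c, true), (.b, true), (.a, true), (.e, true), (.d, true), (.c, true), (.b, true), (.f, true), (.e, true), (.g, true), (.f, true), (.i, true), (.h, true), (.d, true), (.c, true), (.e, true), (.d, true)],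
  [(.d, true), (.e, true), (.c, true), (.d, true), (.h, true), (.i, true), (.d, true), (.e, true), (.f, true), (.g, true), (.c, true), (.d, true), (.e, true), (.f, true), (.b, true), (.c, true), (.d, true), (.e, true), (.a, true), (.b, true), (.c, true), (.d, true), (.h, true), (.d, true), (.c, true), (.b, true), (.a, true), (.e, true), (.d, true), (.c, true), (.b, true), (.f, true), (.e, true), (.d, true), (.c, true), (.g, true), (.f, true), (.e, true), (.d, true), (.i, true), (.h, true), (.d, true), (.c, true), (.e, true), (.d, true)],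
  [(.d, true), (.e, true), (.c, true), (.d, true), (.h, true), (.i, true), (.d, true), (.h, true), (.f, true), (.g, true), (.c, true), (.d, true), (.e, true), (.f, true), (.b, true), (.c, true), (.d, true), (.e, true), (.a, true), (.b, true), (.c, true), (.d, true), (.h, true), (.d, true), (.c, true), (.b, true), (.a, true), (.e, true), (.d, true), (.c, true), (.b, true), (.f, true), (.e, true), (.d, true), (.c, true), (.g, true), (.f, true), (.h, true), (.d, true), (.i, true), (.h, true), (.d, true), (.c, true), (.e, true), (.d, true)],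
  [(.d, true), (.e, true), (.c, true), (.d, true), (.h, true), (.i, true), (.d, true), (.h, true), (.e, true), (.f, true), (.g, true), (.d, true), (.e, true), (.f, true), (.b, true), (.c, true), (.d, true), (.e, true), (.a, true), (.b, true), (.c, true), (.d, true), (.h, true), (.d, true), (.c, true), (.b, true), (.a, true), (.e, true), (.d, true), (.c, true), (.b, true), (.f, true), (.e, true), (.d, true), (.g, true), (.f, true), (.e, true), (.h, true), (.d, true), (.i, true), (.h, true), (.d, true), (.c, true), (.e, true), (.d, true)],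
  [(.b, true), (.c, true), (.d, true), (.e, true), (.a, true), (.b, true), (.c, true), (.d, true), (.h, true), (.i, true), (.d, true), (.e, true), (.f, true), (.g, true), (.c, true), (.d, true), (.e, true), (.f, true), (.b, true), (.c, true), (.d, true), (.e, true), (.a, true), (.b, true), (.c, true), (.d, true), (.h, true), (.d, true), (.c, true), (.b, true), (.a, true), (.e, true), (.d, true), (.c, true), (.b, true), (.f, true), (.e, true), (.d, true), (.c, true), (.g, true), (.f, true), (.e, true), (.d, true), (.i, true), (.h, true), (.d, true), (.c, true), (.b, true), (.a, true), (.e, true), (.d, true), (.c, true), (.b, true)],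
  [(.b, true), (.c, true), (.d, true), (.e, true), (.a, true), (.b, true), (.c, true), (.d, true), (.h, true), (.i, true), (.d, true), (.h, true), (.f, true), (.g, true), (.c, true), (.d, true), (.e, true), (.f, true), (.b, true), (.c, true), (.d, true), (.e, true), (.a, true), (.b, true), (.c, true), (.d, true), (.h, true), (.d, true), (.c, true), (.b, true), (.a, true), (.e, true), (.d, true), (.c, true), (.b, true), (.f, true), (.e, true), (.d, true), (.c, true), (.g, true), (.f, true), (.h, true), (.d, true), (.i, true), (.h, true), (.d, true), (.c, true), (.b, true), (.a, true), (.e, true), (.d, true), (.c, true), (.b, true)],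
  [(.d, true), (.h, true), (.i, true), (.c, true), (.d, true), (.h, true), (.b, true), (.c, true), (.d, true), (.e, true), (.a, true), (.b, true), (.c, true), (.d, true), (.h, true), (.i, true), (.d, true), (.e, true), (.f, true), (.g, true), (.c, true), (.d, true), (.e, true), (.f, true), (.b, true), (.c, true), (.d, true), (.e, true), (.a, true), (.b, true), (.c, true), (.d, true), (.h, true), (.d, true), (.c, true), (.b, true), (.a, true), (.e, true), (.d, true), (.c, true), (.b, true), (.f, true), (.e, true), (.d, true), (.c, true), (.g, true), (.f, true), (.e, true), (.d, true), (.i, true), (.h, true), (.d, true), (.c, true), (.b, true), (.a, true), (.e, true), (.d, true), (.c, true), (.b, true), (.h, true), (.d, true), (.c, true), (.i, true), (.h, true), (.d, true)],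
  [(.d, true), (.h, true), (.i, true), (.e, true), (.d, true), (.h, true), (.b, true), (.c, true), (.d, true), (.e, true), (.a, true), (.b, true), (.c, true), (.d, true), (.h, true), (.i, true), (.d, true), (.e, true), (.f, true), (.g, true), (.c, true), (.d, true), (.e, true), (.f, true), (.b, true), (.c, true), (.d, true), (.e, true), (.a, true), (.b, true), (.c, true), (.d, true), (.h, true), (.d, true), (.c, true), (.b, true), (.a, true), (.e, true), (.d, true), (.c, true), (.b, true), (.f, true), (.e, true), (.d, true), (.c, true), (.g, true), (.f, true), (.e, true), (.d, true), (.i, true), (.h, true), (.d, true), (.c, true), (.b, true), (.a, true), (.e, true), (.d, true), (.c, true), (.b, true), (.h, true), (.d, true), (.e, true), (.i, true), (.h, true), (.d, true)]]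

/-- the words of the 7 top generators -/
def tWs : List Wd := [
  [(.d, true), (.e, true), (.c, true), (.d, true), (.h, true), (.d, true), (.e, true), (.c, true), (.d, true), (.h, true)],
  [(.f, true), (.g, true), (.e, true), (.f, true)],
  [(.d, true), (.e, true), (.c, true), (.d, true), (.b, true), (.c, true), (.a, true), (.b, true), (.d, true), (.e, true), (.c, true), (.d, true), (.h, true), (.d, true), (.e, true), (.c, true), (.d, true), (.h, true), (.b, true), (.c, true), (.a, true), (.b, true), (.d, true), (.e, true), (.c, true), (.d, true)],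
  [(.d, true), (.e, true), (.c, true), (.d, true), (.f, true), (.g, true), (.e, true), (.f, true), (.b, true), (.c, true), (.a, true), (.b, true), (.d, true), (.e, true), (.c, true), (.d, true)],
  [(.f, true), (.g, true), (.e, true), (.f, true), (.b, true), (.c, true), (.a, true), (.b, true)],
  [(.f, true), (.g, true), (.e, true), (.f, true), (.b, true), (.c, true), (.a, true), (.b, true), (.d, true), (.e, true), (.c, true), (.d, true), (.h, true), (.d, true), (.e, true), (.c, true), (.d, true), (.h, true), (.b, true), (.c, true), (.a, true), (.b, true), (.f, true), (.g, true), (.e, true), (.f, true), (.d, true), (.e, true), (.c, true), (.d, true), (.h, true), (.d, true), (.e, true), (.c, true), (.d, true), (.h, true)],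
  [(.d, true), (.e, true), (.c, true), (.d, true), (.f, true), (.g, true), (.e, true), (.f, true), (.b, true), (.c, true), (.a, true), (.b, true), (.d, true), (.e, true), (.c, true), (.d, true), (.h, true), (.d, true), (.e, true), (.c, true), (.d, true), (.h, true), (.b, true), (.c, true), (.a, true), (.b, true), (.f, true), (.g, true), (.e, true), (.f, true), (.h, true), (.d, true), (.e, true), (.c, true), (.d, true), (.h, true)]]

/-- the induced permutations of the 23 indices -/
def sgs : List (List ℕ) := [
  [0, 1, 2, 3, 4, 6, 5, 10, 11, 16, 7, 8, 15, 18, 17, 12, 9, 14, 13, 20, 19, 21, 22],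
  [0, 1, 2, 4, 3, 5, 8, 9, 6, 7, 13, 11, 12, 10, 14, 17, 19, 15, 20, 16, 18, 22, 21],
  [0, 1, 2, 3, 4, 10, 7, 6, 20, 17, 5, 19, 13, 12, 16, 18, 14, 9, 15, 11, 8, 21, 22],
  [0, 3, 4, 1, 2, 5, 15, 17, 18, 20, 11, 10, 12, 14, 13, 6, 16, 7, 8, 19, 9, 21, 22],
  [0, 2, 1, 4, 3, 5, 9, 8, 7, 6, 13, 14, 12, 10, 11, 20, 16, 18, 17, 19, 15, 21, 22],
  [0, 1, 2, 3, 4, 16, 9, 17, 18, 6, 14, 13, 19, 11, 10, 20, 5, 7, 8, 12, 15, 21, 22],
  [0, 1, 2, 3, 4, 12, 15, 18, 17, 20, 13, 14, 5, 10, 11, 6, 19, 8, 7, 16, 9, 21, 22]]

/-- coordinates of `d_i` -/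
def exprs : List ℕ := [702, 1, 2, 4, 8, 16, 32, 64, 128, 256, 119, 512, 846, 411, 995, 1024, 1273, 1565, 1746, 1960, 1327, 1477, 1908]

/-- the basis indices -/
def bases : List ℕ := [1, 2, 3, 4, 5, 6, 7, 8, 9, 11, 15]

/-- exponent masks of the conjugation relations -/
def cEs : List (List ℕ) := [[0, 102, 4, 72, 48, 32, 64], [0, 0, 68, 24, 16, 96, 64], [0, 0, 0, 104, 80, 32, 64], [0, 0, 0, 0, 16, 32, 64], [0, 0, 0, 0, 0, 32, 64], [0, 0, 0, 0, 0, 0, 64], [0, 0, 0, 0, 0, 0, 0]]

/-- central parts of the conjugation relations -/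
def cTs : List (List ℕ) := [[0, 1, 0, 0, 0, 0, 0], [0, 0, 1, 0, 0, 1, 0], [0, 0, 0, 1, 1, 0, 0], [0, 0, 0, 0, 0, 0, 0], [0, 0, 0, 0, 0, 0, 0], [0, 0, 0, 0, 0, 0, 0], [0, 0, 0, 0, 0, 0, 0]]

/-- the word of `d_i` -/
def dW (i : ℕ) : Wd := dWs.getD i []
/-- the word of `t_k` -/
def tW (k : ℕ) : Wd := tWs.getD k []
/-- the permutation induced by `t_k` -/
def sg (k i : ℕ) : ℕ := (sgs.getD k []).getD i 0
/-- coordinates of `d_i` -/
def expr (i : ℕ) : ℕ := exprs.getD i 0
/-- the basis indices -/
def basis (b : ℕ) : ℕ := bases.getD b 0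
/-- exponent mask of `t_k t_m t_k` -/
def cE (k m : ℕ) : ℕ := (cEs.getD k []).getD m 0
/-- central part of `t_k t_m t_k` -/
def cT (k m : ℕ) : ℕ := (cTs.getD k []).getD m 0

/-- the word of `prod_{b<n} d_{basis b}^{bit b u}` -/
def phiWn : ℕ → ℕ → Wd
  | 0, _ => []
  | n + 1, u => phiWn n u ++ (if u.testBit n then dW (basis n) else [])

/-- the word of `phi u` -/
def phiW (u : ℕ) : Wd := phiWn 11 u

/-- the word of `prod_{k<n} t_k^{bit k e}` -/
def nfWn : ℕ → ℕ → Wd
  | 0, _ => []
  | n + 1, e => nfWn n e ++ (if e.testBit n then tW n else [])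

/-- the word of `t^e` -/
def nfW (e : ℕ) : Wd := nfWn 7 e

/-- the right hand side of the relation for `t_k t_m t_k` -/
def cW (k m : ℕ) : Wd := nfW (cE k m) ++ (if cT k m = 1 then dW 0 else [])

/-- the word walks back to every base offset -/
def triv (w : Wd) : Bool :=
  offsS1689.all (fun x => Nat.beq (walk 1048575 Cfsg.Agent.Lib.Helper28_S1689.col w x) x)

/-- the word moves some base offset -/
def moved (w : Wd) : Bool :=
  offsS1689.any (fun x => !(Nat.beq (walk 1048575 Cfsg.Agent.Lib.Helper28_S1689.col w x) x))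

theorem W1 : ∀ i < 23, triv (dW i ++ dW i) = true := by decide +kernel

theorem W2_0 : ∀ j < 23, triv (dW 0 ++ dW j ++ dW 0 ++ dW j) = true := by decide +kernel

theorem W2_1 : ∀ j < 23, triv (dW 1 ++ dW j ++ dW 1 ++ dW j) = true := by decide +kernel

theorem W2_2 : ∀ j < 23, triv (dW 2 ++ dW j ++ dW 2 ++ dW j) = true := by decide +kernel

theorem W2_3 : ∀ j < 23, triv (dW 3 ++ dW j ++ dW 3 ++ dW j) = true := by decide +kernel

theorem W2_4 : ∀ j < 23, triv (dW 4 ++ dW j ++ dW 4 ++ dW j) = true := by decide +kernel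

theorem W2_5 : ∀ j < 23, triv (dW 5 ++ dW j ++ dW 5 ++ dW j) = true := by decide +kernel

theorem W2_6 : ∀ j < 23, triv (dW 6 ++ dW j ++ dW 6 ++ dW j) = true := by decide +kernel

theorem W2_7 : ∀ j < 23, triv (dW 7 ++ dW j ++ dW 7 ++ dW j) = true := by decide +kernel

theorem W2_8 : ∀ j < 23, triv (dW 8 ++ dW j ++ dW 8 ++ dW j) = true := by decide +kernel

theorem W2_9 : ∀ j < 23, triv (dW 9 ++ dW j ++ dW 9 ++ dW j) = true := by decide +kernel

theorem W2_10 : ∀ j < 23, triv (dW 10 ++ dW j ++ dW 10 ++ dW j) = true := by decide +kernel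

theorem W2_11 : ∀ j < 23, triv (dW 11 ++ dW j ++ dW 11 ++ dW j) = true := by decide +kernel

theorem W2_12 : ∀ j < 23, triv (dW 12 ++ dW j ++ dW 12 ++ dW j) = true := by decide +kernel

theorem W2_13 : ∀ j < 23, triv (dW 13 ++ dW j ++ dW 13 ++ dW j) = true := by decide +kernel

theorem W2_14 : ∀ j < 23, triv (dW 14 ++ dW j ++ dW 14 ++ dW j) = true := by decide +kernel

theorem W2_15 : ∀ j < 23, triv (dW 15 ++ dW j ++ dW 15 ++ dW j) = true := by decide +kernel

theorem W2_16 : ∀ j < 23, triv (dW 16 ++ dW j ++ dW 16 ++ dW j) = true := by decide +kernel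

theorem W2_17 : ∀ j < 23, triv (dW 17 ++ dW j ++ dW 17 ++ dW j) = true := by decide +kernel

theorem W2_18 : ∀ j < 23, triv (dW 18 ++ dW j ++ dW 18 ++ dW j) = true := by decide +kernel

theorem W2_19 : ∀ j < 23, triv (dW 19 ++ dW j ++ dW 19 ++ dW j) = true := by decide +kernel

theorem W2_20 : ∀ j < 23, triv (dW 20 ++ dW j ++ dW 20 ++ dW j) = true := by decide +kernel

theorem W2_21 : ∀ j < 23, triv (dW 21 ++ dW j ++ dW 21 ++ dW j) = true := by decide +kernel

theorem W2_22 : ∀ j < 23, triv (dW 22 ++ dW j ++ dW 22 ++ dW j) = true := by decide +kernel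

theorem W2 : ∀ i < 23, ∀ j < 23, triv (dW i ++ dW j ++ dW i ++ dW j) = true := by
  intro i hi
  interval_cases i
  · exact W2_0
  · exact W2_1
  · exact W2_2
  · exact W2_3
  · exact W2_4
  · exact W2_5
  · exact W2_6
  · exact W2_7
  · exact W2_8
  · exact W2_9
  · exact W2_10
  · exact W2_11
  · exact W2_12
  · exact W2_13
  · exact W2_14
  · exact W2_15
  · exact W2_16
  · exact W2_17
  · exact W2_18
  · exact W2_19
  · exact W2_20
  · exact W2_21
  · exact W2_22

theorem W3 : ∀ i < 23, triv (dW i ++ phiW (expr i)) = true := by decide +kernel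

theorem W4 : ∀ k < 7, triv (tW k ++ tW k) = true := by decide +kernel

theorem W5_0 : ∀ i < 23, triv (tW 0 ++ dW i ++ tW 0 ++ dW (sg 0 i)) = true := by decide +kernel

theorem W5_1 : ∀ i < 23, triv (tW 1 ++ dW i ++ tW 1 ++ dW (sg 1 i)) = true := by decide +kernel

theorem W5_2 : ∀ i < 23, triv (tW 2 ++ dW i ++ tW 2 ++ dW (sg 2 i)) = true := by decide +kernel

theorem W5_3 : ∀ i < 23, triv (tW 3 ++ dW i ++ tW 3 ++ dW (sg 3 i)) = true := by decide +kernel

theorem W5_4 : ∀ i < 23, triv (tW 4 ++ dW i ++ tW 4 ++ dW (sg 4 i)) = true := by decide +kernel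

theorem W5_5 : ∀ i < 23, triv (tW 5 ++ dW i ++ tW 5 ++ dW (sg 5 i)) = true := by decide +kernel

theorem W5_6 : ∀ i < 23, triv (tW 6 ++ dW i ++ tW 6 ++ dW (sg 6 i)) = true := by decide +kernel

theorem W5 : ∀ k < 7, ∀ i < 23, triv (tW k ++ dW i ++ tW k ++ dW (sg k i)) = true := by
  intro k hk
  interval_cases k
  · exact W5_0
  · exact W5_1
  · exact W5_2
  · exact W5_3
  · exact W5_4
  · exact W5_5
  · exact W5_6

theorem W6_0 : ∀ m < 7, 0 < m →
    triv (tW 0 ++ tW m ++ tW 0 ++ FreeGroup.invRev (cW 0 m)) = true := by decide +kernel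

theorem W6_1 : ∀ m < 7, 1 < m →
    triv (tW 1 ++ tW m ++ tW 1 ++ FreeGroup.invRev (cW 1 m)) = true := by decide +kernel

theorem W6_2 : ∀ m < 7, 2 < m →
    triv (tW 2 ++ tW m ++ tW 2 ++ FreeGroup.invRev (cW 2 m)) = true := by decide +kernel

theorem W6_3 : ∀ m < 7, 3 < m →
    triv (tW 3 ++ tW m ++ tW 3 ++ FreeGroup.invRev (cW 3 m)) = true := by decide +kernel

theorem W6_4 : ∀ m < 7, 4 < m →
    triv (tW 4 ++ tW m ++ tW 4 ++ FreeGroup.invRev (cW 4 m)) = true := by decide +kernel

theorem W6_5 : ∀ m < 7, 5 < m →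
    triv (tW 5 ++ tW m ++ tW 5 ++ FreeGroup.invRev (cW 5 m)) = true := by decide +kernel

theorem W6_6 : ∀ m < 7, 6 < m →
    triv (tW 6 ++ tW m ++ tW 6 ++ FreeGroup.invRev (cW 6 m)) = true := by decide +kernel

theorem W6 : ∀ k < 7, ∀ m < 7, k < m →
    triv (tW k ++ tW m ++ tW k ++ FreeGroup.invRev (cW k m)) = true := by
  intro k hk
  interval_cases k
  · exact W6_0
  · exact W6_1
  · exact W6_2
  · exact W6_3
  · exact W6_4
  · exact W6_5
  · exact W6_6

theorem W7_0 : ∀ v < 32, 0 + v ≠ 0 → moved (phiW (0 + v)) = true := by decide +kernel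

theorem W7_1 : ∀ v < 32, 32 + v ≠ 0 → moved (phiW (32 + v)) = true := by decide +kernel

theorem W7_2 : ∀ v < 32, 64 + v ≠ 0 → moved (phiW (64 + v)) = true := by decide +kernel

theorem W7_3 : ∀ v < 32, 96 + v ≠ 0 → moved (phiW (96 + v)) = true := by decide +kernel

theorem W7_4 : ∀ v < 32, 128 + v ≠ 0 → moved (phiW (128 + v)) = true := by decide +kernel

theorem W7_5 : ∀ v < 32, 160 + v ≠ 0 → moved (phiW (160 + v)) = true := by decide +kernel

theorem W7_6 : ∀ v < 32, 192 + v ≠ 0 → moved (phiW (192 + v)) = true := by decide +kernel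

theorem W7_7 : ∀ v < 32, 224 + v ≠ 0 → moved (phiW (224 + v)) = true := by decide +kernel

theorem W7_8 : ∀ v < 32, 256 + v ≠ 0 → moved (phiW (256 + v)) = true := by decide +kernel

theorem W7_9 : ∀ v < 32, 288 + v ≠ 0 → moved (phiW (288 + v)) = true := by decide +kernel

theorem W7_10 : ∀ v < 32, 320 + v ≠ 0 → moved (phiW (320 + v)) = true := by decide +kernel

theorem W7_11 : ∀ v < 32, 352 + v ≠ 0 → moved (phiW (352 + v)) = true := by decide +kernel

theorem W7_12 : ∀ v < 32, 384 + v ≠ 0 → moved (phiW (384 + v)) = true := by decide +kernel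

theorem W7_13 : ∀ v < 32, 416 + v ≠ 0 → moved (phiW (416 + v)) = true := by decide +kernel

theorem W7_14 : ∀ v < 32, 448 + v ≠ 0 → moved (phiW (448 + v)) = true := by decide +kernel

theorem W7_15 : ∀ v < 32, 480 + v ≠ 0 → moved (phiW (480 + v)) = true := by decide +kernel

theorem W7_16 : ∀ v < 32, 512 + v ≠ 0 → moved (phiW (512 + v)) = true := by decide +kernel

theorem W7_17 : ∀ v < 32, 544 + v ≠ 0 → moved (phiW (544 + v)) = true := by decide +kernel

theorem W7_18 : ∀ v < 32, 576 + v ≠ 0 → moved (phiW (576 + v)) = true := by decide +kernel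

theorem W7_19 : ∀ v < 32, 608 + v ≠ 0 → moved (phiW (608 + v)) = true := by decide +kernel

theorem W7_20 : ∀ v < 32, 640 + v ≠ 0 → moved (phiW (640 + v)) = true := by decide +kernel

theorem W7_21 : ∀ v < 32, 672 + v ≠ 0 → moved (phiW (672 + v)) = true := by decide +kernel

theorem W7_22 : ∀ v < 32, 704 + v ≠ 0 → moved (phiW (704 + v)) = true := by decide +kernel

theorem W7_23 : ∀ v < 32, 736 + v ≠ 0 → moved (phiW (736 + v)) = true := by decide +kernel

theorem W7_24 : ∀ v < 32, 768 + v ≠ 0 → moved (phiW (768 + v)) = true := by decide +kernel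

theorem W7_25 : ∀ v < 32, 800 + v ≠ 0 → moved (phiW (800 + v)) = true := by decide +kernel

theorem W7_26 : ∀ v < 32, 832 + v ≠ 0 → moved (phiW (832 + v)) = true := by decide +kernel

theorem W7_27 : ∀ v < 32, 864 + v ≠ 0 → moved (phiW (864 + v)) = true := by decide +kernel

theorem W7_28 : ∀ v < 32, 896 + v ≠ 0 → moved (phiW (896 + v)) = true := by decide +kernel

theorem W7_29 : ∀ v < 32, 928 + v ≠ 0 → moved (phiW (928 + v)) = true := by decide +kernel

theorem W7_30 : ∀ v < 32, 960 + v ≠ 0 → moved (phiW (960 + v)) = true := by decide +kernel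

theorem W7_31 : ∀ v < 32, 992 + v ≠ 0 → moved (phiW (992 + v)) = true := by decide +kernel

theorem W7_32 : ∀ v < 32, 1024 + v ≠ 0 → moved (phiW (1024 + v)) = true := by decide +kernel

theorem W7_33 : ∀ v < 32, 1056 + v ≠ 0 → moved (phiW (1056 + v)) = true := by decide +kernel

theorem W7_34 : ∀ v < 32, 1088 + v ≠ 0 → moved (phiW (1088 + v)) = true := by decide +kernel

theorem W7_35 : ∀ v < 32, 1120 + v ≠ 0 → moved (phiW (1120 + v)) = true := by decide +kernel

theorem W7_36 : ∀ v < 32, 1152 + v ≠ 0 → moved (phiW (1152 + v)) = true := by decide +kernel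

theorem W7_37 : ∀ v < 32, 1184 + v ≠ 0 → moved (phiW (1184 + v)) = true := by decide +kernel

theorem W7_38 : ∀ v < 32, 1216 + v ≠ 0 → moved (phiW (1216 + v)) = true := by decide +kernel

theorem W7_39 : ∀ v < 32, 1248 + v ≠ 0 → moved (phiW (1248 + v)) = true := by decide +kernel

theorem W7_40 : ∀ v < 32, 1280 + v ≠ 0 → moved (phiW (1280 + v)) = true := by decide +kernel

theorem W7_41 : ∀ v < 32, 1312 + v ≠ 0 → moved (phiW (1312 + v)) = true := by decide +kernel

theorem W7_42 : ∀ v < 32, 1344 + v ≠ 0 → moved (phiW (1344 + v)) = true := by decide +kernel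

theorem W7_43 : ∀ v < 32, 1376 + v ≠ 0 → moved (phiW (1376 + v)) = true := by decide +kernel

theorem W7_44 : ∀ v < 32, 1408 + v ≠ 0 → moved (phiW (1408 + v)) = true := by decide +kernel

theorem W7_45 : ∀ v < 32, 1440 + v ≠ 0 → moved (phiW (1440 + v)) = true := by decide +kernel

theorem W7_46 : ∀ v < 32, 1472 + v ≠ 0 → moved (phiW (1472 + v)) = true := by decide +kernel

theorem W7_47 : ∀ v < 32, 1504 + v ≠ 0 → moved (phiW (1504 + v)) = true := by decide +kernel

theorem W7_48 : ∀ v < 32, 1536 + v ≠ 0 → moved (phiW (1536 + v)) = true := by decide +kernel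

theorem W7_49 : ∀ v < 32, 1568 + v ≠ 0 → moved (phiW (1568 + v)) = true := by decide +kernel

theorem W7_50 : ∀ v < 32, 1600 + v ≠ 0 → moved (phiW (1600 + v)) = true := by decide +kernel

theorem W7_51 : ∀ v < 32, 1632 + v ≠ 0 → moved (phiW (1632 + v)) = true := by decide +kernel

theorem W7_52 : ∀ v < 32, 1664 + v ≠ 0 → moved (phiW (1664 + v)) = true := by decide +kernel

theorem W7_53 : ∀ v < 32, 1696 + v ≠ 0 → moved (phiW (1696 + v)) = true := by decide +kernel

theorem W7_54 : ∀ v < 32, 1728 + v ≠ 0 → moved (phiW (1728 + v)) = true := by decide +kernel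

theorem W7_55 : ∀ v < 32, 1760 + v ≠ 0 → moved (phiW (1760 + v)) = true := by decide +kernel

theorem W7_56 : ∀ v < 32, 1792 + v ≠ 0 → moved (phiW (1792 + v)) = true := by decide +kernel

theorem W7_57 : ∀ v < 32, 1824 + v ≠ 0 → moved (phiW (1824 + v)) = true := by decide +kernel

theorem W7_58 : ∀ v < 32, 1856 + v ≠ 0 → moved (phiW (1856 + v)) = true := by decide +kernel

theorem W7_59 : ∀ v < 32, 1888 + v ≠ 0 → moved (phiW (1888 + v)) = true := by decide +kernel

theorem W7_60 : ∀ v < 32, 1920 + v ≠ 0 → moved (phiW (1920 + v)) = true := by decide +kernel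

theorem W7_61 : ∀ v < 32, 1952 + v ≠ 0 → moved (phiW (1952 + v)) = true := by decide +kernel

theorem W7_62 : ∀ v < 32, 1984 + v ≠ 0 → moved (phiW (1984 + v)) = true := by decide +kernel

theorem W7_63 : ∀ v < 32, 2016 + v ≠ 0 → moved (phiW (2016 + v)) = true := by decide +kernel

theorem W7 : ∀ u < 2048, u ≠ 0 → moved (phiW u) = true := by
  intro u hu h0
  have hc : u / 32 < 64 := by omega
  have hv : u % 32 < 32 := Nat.mod_lt _ (by norm_num)
  have hu' : u = 32 * (u / 32) + u % 32 := (Nat.div_add_mod u 32).symm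
  generalize hq : u / 32 = q at hc hu'
  generalize hr : u % 32 = v at hv hu'
  subst hu'
  interval_cases q
  · exact W7_0 v hv h0
  · exact W7_1 v hv h0
  · exact W7_2 v hv h0
  · exact W7_3 v hv h0
  · exact W7_4 v hv h0
  · exact W7_5 v hv h0
  · exact W7_6 v hv h0
  · exact W7_7 v hv h0
  · exact W7_8 v hv h0
  · exact W7_9 v hv h0
  · exact W7_10 v hv h0
  · exact W7_11 v hv h0
  · exact W7_12 v hv h0
  · exact W7_13 v hv h0
  · exact W7_14 v hv h0
  · exact W7_15 v hv h0
  · exact W7_16 v hv h0
  · exact W7_17 v hv h0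
  · exact W7_18 v hv h0
  · exact W7_19 v hv h0
  · exact W7_20 v hv h0
  · exact W7_21 v hv h0
  · exact W7_22 v hv h0
  · exact W7_23 v hv h0
  · exact W7_24 v hv h0
  · exact W7_25 v hv h0
  · exact W7_26 v hv h0
  · exact W7_27 v hv h0
  · exact W7_28 v hv h0
  · exact W7_29 v hv h0
  · exact W7_30 v hv h0
  · exact W7_31 v hv h0
  · exact W7_32 v hv h0
  · exact W7_33 v hv h0
  · exact W7_34 v hv h0
  · exact W7_35 v hv h0
  · exact W7_36 v hv h0
  · exact W7_37 v hv h0
  · exact W7_38 v hv h0
  · exact W7_39 v hv h0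
  · exact W7_40 v hv h0
  · exact W7_41 v hv h0
  · exact W7_42 v hv h0
  · exact W7_43 v hv h0
  · exact W7_44 v hv h0
  · exact W7_45 v hv h0
  · exact W7_46 v hv h0
  · exact W7_47 v hv h0
  · exact W7_48 v hv h0
  · exact W7_49 v hv h0
  · exact W7_50 v hv h0
  · exact W7_51 v hv h0
  · exact W7_52 v hv h0
  · exact W7_53 v hv h0
  · exact W7_54 v hv h0
  · exact W7_55 v hv h0
  · exact W7_56 v hv h0
  · exact W7_57 v hv h0
  · exact W7_58 v hv h0
  · exact W7_59 v hv h0
  · exact W7_60 v hv h0
  · exact W7_61 v hv h0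
  · exact W7_62 v hv h0
  · exact W7_63 v hv h0

/-! ### the quotient on the 23 indices -/

/-- the function induced by `prod_{k<n} t_k^{bit k e}` -/
def pfn : ℕ → ℕ → ℕ → ℕ
  | 0, _, i => i
  | n + 1, e, i => pfn n e (if e.testBit n then sg n i else i)

/-- the function induced by `t^e` -/
def pf (e i : ℕ) : ℕ := pfn 7 e i

/-- the class `e` is an involution -/
def isInv (e : ℕ) : Bool :=
  (List.range 23).all (fun i => Nat.beq (pf e (pf e i)) i) &&
    (List.range 23).any (fun i => !(Nat.beq (pf e i) i))

/-- the action on coordinates, first `m` basis vectors -/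
def mactn : ℕ → ℕ → ℕ → ℕ
  | 0, _, _ => 0
  | m + 1, e, u => Nat.xor (mactn m e u) (if u.testBit m then expr (pf e (basis m)) else 0)

/-- the action on coordinates -/
def mact (e u : ℕ) : ℕ := mactn 11 e u

theorem Q0 : ∀ k < 7, ∀ i < 23, sg k i < 23 ∧ sg k (sg k i) = i := by decide +kernel

theorem Qexpr : (∀ i < 23, expr i < 2048) ∧ (∀ b < 11, basis b < 23 ∧ expr (basis b) = 2 ^ b) ∧
    (∀ i < 23, ∀ j < 23, expr i = expr j → i = j) := by decide +kernel

theorem QcE : ∀ k < 7, ∀ m < 7, k < m → cE k m % 2 ^ (k + 1) = 0 := by decide +kernel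

theorem Qpf : ∀ e < 128, ∀ i < 23, pf e i < 23 := by decide +kernel

theorem Qinj : ((List.range 128).map (fun e => (List.range 23).map (pf e))).Nodup := by decide +kernel

theorem Q1 : ∀ e < 128, isInv e = true →
    ((List.range 23).filter (fun i => Nat.beq (pf e i) i)).length = 7 := by decide +kernel

theorem Q1' : ∀ e < 128, isInv e = true →
    (Finset.univ.filter (fun i : Fin 23 => pf e i = (i : ℕ))).card = 7 := by decide +kernel

theorem Q2 : ∀ e < 128, isInv e = true →
    ((List.range 2048).filter (fun u => Nat.beq (mact e u) u)).length ≤ 128 := by decide +kernel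

theorem Q3 : ∀ e < 128, ∀ e' < 128, isInv e = true → isInv e' = true → e ≠ e' →
    (List.range 2048).any (fun u => (Nat.beq (mact e u) u) != (Nat.beq (mact e' u) u)) = true := by
  decide +kernel

end Cfsg.Agent.Lib.Helper96_Fi23SylData
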