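import Cfsg.Agent.Lib.Helper96_Fi24H
import Cfsg.Agent.Lib.Helper28_Iwasawa2

/-!
# `Fi24'` is simple of the expected order, from the facts about the action on `306936` points (helper96)

The assembly for S1698: from `IsFi23 Fi23` (S1697), the index `306936` of `H = ⟨a, …, j, l⟩` (S1690), the index `2` of the
commutator subgroup (S1691), the maximality of `H` (helper28), and a homomorphism `ψ` under which `l`, `a` have
non-trivial and different images and which kills the normal subgroups lying inside `H`.
-/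

set_option autoImplicit false

namespace Cfsg.Agent.Lib.Helper96_Fi24Final

open Cfsg.Spor Cfsg.Agent.Lib.Helper96_Fi24Spider Cfsg.Agent.Lib.Helper96_Fi24H

/-- `l` commutes with `H` -/
theorem l_comm_of_mem (g : G) (hg : g ∈ Hs) : g * gen .l = gen .l * g := by
  have h := lH_central ⟨g, hg⟩
  exact congrArg Subtype.val h

/-- a normal subgroup inside `H` which is killed by `ψ` is trivial -/
theorem core_trivial (h23 : Cfsg.IsFi23 Cfsg.Spor.Fi23) {P : Type*} [Group P] (ψ : G →* P)
    (hl : ψ (gen .l) ≠ 1) (ha : ψ (gen .a) ≠ 1) (hal : ψ (gen .a) ≠ ψ (gen .l))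
    (N : Subgroup G) (hN : N.Normal) (hNH : N ≤ Hs) (hψ : ∀ n ∈ N, ψ n = 1) : N = ⊥ := by
  have ha' : gen .a ≠ 1 := fun h => ha (by rw [h, map_one])
  have hal' : gen .a ≠ gen .l := fun h => hal (by rw [h])
  have : (N.subgroupOf Hs).Normal := hN.subgroupOf Hs
  rcases normal_cases h23 ha' hal' (N.subgroupOf Hs) with h | h
  · rw [Subgroup.eq_bot_iff_forall]
    intro n hn
    have hnH := hNH hn
    have h1 : (⟨n, hnH⟩ : Hs) ∈ N.subgroupOf Hs := Subgroup.mem_subgroupOf.mpr hn
    rcases mem_Z _ (h h1) with h2 | h2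
    · exact congrArg Subtype.val h2
    · exfalso
      have h3 : n = gen .l := congrArg Subtype.val h2
      exact hl (h3 ▸ hψ n hn)
  · exfalso
    have h1 : hgen .a (by decide) ∈ ((N.subgroupOf Hs ⊔ Z : Subgroup Hs) : Set Hs) := by
      rw [h]; exact Subgroup.mem_top _
    rw [Subgroup.mul_normal] at h1
    obtain ⟨m, hm, z, hz, hmz⟩ := h1
    have hm' : (m : G) ∈ N := Subgroup.mem_subgroupOf.mp hm
    have h2 : (m : G) * (z : G) = gen .a := congrArg Subtype.val hmz
    have h3 : ψ (gen .a) = ψ (z : G) := by rw [← h2, map_mul, hψ _ hm', one_mul]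
    rcases mem_Z _ hz with h4 | h4
    · apply ha
      rw [h3, h4]
      exact map_one ψ
    · apply hal
      rw [h3, h4]
      rfl

/-- the number is not a square -/
theorem not_square (m : ℕ) : m * m ≠ 1255205709190661721292800 := by
  intro h
  have h1 : 1120359633863 < m := by
    by_contra hc
    have : m ≤ 1120359633863 := Nat.le_of_not_lt hc
    have := Nat.mul_le_mul this this
    omega
  have h2 : m < 1120359633864 := by
    by_contra hc
    have : 1120359633864 ≤ m := Nat.le_of_not_lt hc
    have := Nat.mul_le_mul this this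
    omega
  omega

/-- the assembly -/
theorem main (h23 : Cfsg.IsFi23 Cfsg.Spor.Fi23) (hidx : Hs.index = 306936) (hcomm : (commutator G).index = 2)
    (hmax : ∀ K : Subgroup G, Hs ≤ K → K = Hs ∨ K = ⊤)
    (hgen : Subgroup.normalClosure ((Subgroup.zpowers (gen .l) : Subgroup G) : Set G) = ⊤)
    {P : Type*} [Group P] (ψ : G →* P)
    (hact : ∀ N : Subgroup G, N.Normal → N ≤ Hs → ∀ x ∈ N, ψ x = 1)
    (hl : ψ (gen .l) ≠ 1) (ha : ψ (gen .a) ≠ 1) (hal : ψ (gen .a) ≠ ψ (gen .l)) :
    Cfsg.IsFi24' Cfsg.Spor.Fi24' := by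
  have hl' : gen .l ≠ 1 := fun h => hl (by rw [h, map_one])
  have ha' : gen .a ≠ 1 := fun h => ha (by rw [h, map_one])
  have hal' : gen .a ≠ gen .l := fun h => hal (by rw [h])
  have hcardH := card_Hs h23 hl' ha' hal'
  have hcardG : Nat.card G = 2 * 4089470473293004800 * 306936 := by
    rw [← Subgroup.card_mul_index Hs, hcardH, hidx]
  have : Finite G := Nat.finite_of_card_ne_zero (by rw [hcardG]; norm_num)
  have hcardD : Nat.card (commutator G) = 1255205709190661721292800 := by
    have h := Subgroup.card_mul_index (commutator G)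
    rw [hcomm, hcardG] at h
    omega
  have hsimple : IsSimpleGroup (commutator G) := by
    apply Cfsg.Agent.Lib.Helper28_Iwasawa2.derived_simple Hs (Subgroup.zpowers (gen .l)) hmax inferInstance ?_ hgen ?_ hcomm ?_
    · intro h hh a ha
      obtain ⟨k, rfl⟩ := Subgroup.mem_zpowers_iff.mp ha
      have hc : Commute h (gen .l) := l_comm_of_mem h hh
      rw [(hc.zpow_right k).eq, mul_inv_cancel_right]
      exact Subgroup.zpow_mem_zpowers _ k
    · intro N hN hNH
      exact core_trivial h23 ψ hl ha hal N hN hNH (hact N hN hNH)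
    · intro m
      rw [hcardD]
      exact not_square m
  exact ⟨hsimple, hcardD⟩

end Cfsg.Agent.Lib.Helper96_Fi24Final
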