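import Cfsg.Agent.Lib.Helper96_Fi24Spider
import Cfsg.Prelude.Def_Spor_Fi23
import Cfsg.Prelude.Def_Sporadic

/-!
# The subgroup `⟨a, …, j, l⟩` of the presented group `Fi24` has order `2 * |Fi23|` (helper96)

`l` is central in `H = ⟨a, …, j, l⟩`, and `H / ⟨l⟩` satisfies the relators of the presentation of `Fi23`
(the spider relation by `Helper96_Fi24Spider.spider`, and `(a b c d e f h)^9 = l`).  If the presented group
`Fi23` is simple of the expected order, then `H / ⟨l⟩ ≃ Fi23` as soon as `a ∉ {1, l}`.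
-/

set_option autoImplicit false

namespace Cfsg.Agent.Lib.Helper96_Fi24H

open Cfsg.Spor Cfsg.Agent.Lib.Helper96_Fi24Spider

/-- the presented group -/
abbrev G : Type := PresentedGroup Rels24

/-- generator images -/
abbrev gen (x : Fi24.Gen) : G := PresentedGroup.of x

theorem all_nodes (x : Fi24.Gen) : x ∈ coxNodes Fi24.edges := by
  cases x <;> decide

theorem cox_rel (x y : Fi24.Gen) : (gen x * gen y) ^ coxLabel Fi24.edges x y = 1 := by
  have h : (FreeGroup.of x * FreeGroup.of y) ^ coxLabel Fi24.edges x y ∈ Rels24 :=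
    Or.inl ⟨x, all_nodes x, y, all_nodes y, rfl⟩
  have := PresentedGroup.one_of_mem h
  simpa [PresentedGroup.of] using this

theorem gen_sq (x : Fi24.Gen) : gen x * gen x = 1 := by
  have h := cox_rel x x
  have h1 : coxLabel Fi24.edges x x = 1 := by simp [coxLabel]
  rwa [h1, pow_one] at h

theorem gen_inv (x : Fi24.Gen) : (gen x)⁻¹ = gen x :=
  inv_eq_of_mul_eq_one_left (gen_sq x)

theorem gen_comm (x y : Fi24.Gen) (h2 : coxLabel Fi24.edges x y = 2) : gen x * gen y = gen y * gen x := by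
  have h := cox_rel x y
  rw [h2, pow_two] at h
  have h3 : gen x * gen y = (gen x * gen y)⁻¹ := eq_inv_of_mul_eq_one_left h
  rw [h3, mul_inv_rev, gen_inv, gen_inv]

/-- the letters of the subgroup -/
def lettersH : List Fi24.Gen := [.a, .b, .c, .d, .e, .f, .g, .h, .i, .j, .l]

/-- the subgroup `H`, as in the statement S1690 -/
noncomputable abbrev Hs : Subgroup G :=
  (Subgroup.closure ({Fi24.a, Fi24.b, Fi24.c, Fi24.d, Fi24.e, Fi24.f, Fi24.g, Fi24.h, Fi24.i, Fi24.j, Fi24.l} :
    Set (FreeGroup Fi24.Gen))).map (PresentedGroup.mk Rels24)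

theorem Hs_eq : Hs = Subgroup.closure {g : G | ∃ x ∈ lettersH, g = gen x} := by
  unfold Hs
  rw [MonoidHom.map_closure]
  congr 1
  ext g
  simp only [Set.mem_image, Set.mem_insert_iff, Set.mem_singleton_iff, Set.mem_ofPred_eq, lettersH,
    List.mem_cons, List.not_mem_nil, or_false]
  constructor
  · rintro ⟨w, hw, rfl⟩
    rcases hw with rfl | rfl | rfl | rfl | rfl | rfl | rfl | rfl | rfl | rfl | rfl
    · exact ⟨.a, by simp, rfl⟩
    · exact ⟨.b, by simp, rfl⟩
    · exact ⟨.c, by simp, rfl⟩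
    · exact ⟨.d, by simp, rfl⟩
    · exact ⟨.e, by simp, rfl⟩
    · exact ⟨.f, by simp, rfl⟩
    · exact ⟨.g, by simp, rfl⟩
    · exact ⟨.h, by simp, rfl⟩
    · exact ⟨.i, by simp, rfl⟩
    · exact ⟨.j, by simp, rfl⟩
    · exact ⟨.l, by simp, rfl⟩
  · rintro ⟨x, hx, rfl⟩
    rcases hx with rfl | rfl | rfl | rfl | rfl | rfl | rfl | rfl | rfl | rfl | rfl
    · exact ⟨Fi24.a, by simp, rfl⟩
    · exact ⟨Fi24.b, by simp, rfl⟩
    · exact ⟨Fi24.c, by simp, rfl⟩
    · exact ⟨Fi24.d, by simp, rfl⟩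
    · exact ⟨Fi24.e, by simp, rfl⟩
    · exact ⟨Fi24.f, by simp, rfl⟩
    · exact ⟨Fi24.g, by simp, rfl⟩
    · exact ⟨Fi24.h, by simp, rfl⟩
    · exact ⟨Fi24.i, by simp, rfl⟩
    · exact ⟨Fi24.j, by simp, rfl⟩
    · exact ⟨Fi24.l, by simp, rfl⟩

theorem gen_mem (x : Fi24.Gen) (hx : x ∈ lettersH) : gen x ∈ Hs := by
  rw [Hs_eq]
  exact Subgroup.subset_closure ⟨x, hx, rfl⟩

/-- the generators of `H` as elements of `H` -/
noncomputable def hgen (x : Fi24.Gen) (hx : x ∈ lettersH) : Hs := ⟨gen x, gen_mem x hx⟩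

/-- the element `l` of `H` -/
noncomputable def lH : Hs := hgen .l (by decide)

/-- `l` commutes with the generators of `H` -/
theorem l_comm (x : Fi24.Gen) (hx : x ∈ lettersH) : gen x * gen .l = gen .l * gen x := by
  simp only [lettersH, List.mem_cons, List.not_mem_nil, or_false] at hx
  rcases hx with rfl | rfl | rfl | rfl | rfl | rfl | rfl | rfl | rfl | rfl | rfl
  all_goals first | rfl | exact gen_comm _ _ (by decide)

/-- `l` is central in `H` -/
theorem lH_central (h : Hs) : h * lH = lH * h := by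
  have key : ∀ g ∈ Hs, g * gen .l = gen .l * g := by
    intro g hg
    rw [Hs_eq] at hg
    induction hg using Subgroup.closure_induction with
    | mem y hy =>
      obtain ⟨x, hx, rfl⟩ := hy
      exact l_comm x hx
    | one => simp
    | mul a b _ _ ha hb => rw [mul_assoc, hb, ← mul_assoc, ha, mul_assoc]
    | inv a _ ha =>
      exact (Commute.inv_left (show Commute a (gen .l) from ha)).eq
  apply Subtype.ext
  exact key h.1 h.2

/-- the central subgroup generated by `l` -/
noncomputable def Z : Subgroup Hs := Subgroup.zpowers lH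

instance Z_normal : Z.Normal := by
  constructor
  intro n hn g
  obtain ⟨k, rfl⟩ := Subgroup.mem_zpowers_iff.mp hn
  have h1 : g * lH ^ k * g⁻¹ = lH ^ k := by
    have hc : Commute g lH := lH_central g
    rw [(hc.zpow_right k).eq, mul_inv_cancel_right]
  rw [h1]
  exact Subgroup.zpow_mem_zpowers lH k

theorem lH_sq : lH * lH = 1 := by
  apply Subtype.ext
  exact gen_sq .l

theorem mem_Z (h : Hs) (hh : h ∈ Z) : h = 1 ∨ h = lH := by
  obtain ⟨k, rfl⟩ := Subgroup.mem_zpowers_iff.mp hh
  rcases Int.even_or_odd k with ⟨m, rfl⟩ | ⟨m, rfl⟩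
  · left
    rw [← two_mul, zpow_mul, zpow_two, lH_sq, one_zpow]
  · right
    rw [zpow_add, zpow_one, zpow_mul, zpow_two, lH_sq, one_zpow, one_mul]

/-- the inclusion of the generators of `Fi23` -/
def ι : Fi23.Gen → Fi24.Gen
  | .a => .a | .b => .b | .c => .c | .d => .d | .e => .e | .f => .f | .g => .g | .j => .j | .h => .h | .i => .i

theorem ι_mem (x : Fi23.Gen) : ι x ∈ lettersH := by cases x <;> decide

theorem ι_label (x y : Fi23.Gen) : coxLabel Fi23.edges x y = coxLabel Fi24.edges (ι x) (ι y) := by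
  cases x <;> cases y <;> decide

/-- the images of the generators of `Fi23` in `H / ⟨l⟩` -/
noncomputable def f23 (x : Fi23.Gen) : Hs ⧸ Z := QuotientGroup.mk (hgen (ι x) (ι_mem x))

/-- the relators of `Fi23` -/
abbrev Rels23 : Set (FreeGroup Fi23.Gen) := coxRelators Fi23.edges ∪ {r | r ∈ Fi23.extra}

theorem lift_of (x : Fi23.Gen) : FreeGroup.lift f23 (FreeGroup.of x) = f23 x := FreeGroup.lift_apply_of

theorem mk_eq_one_of_val {h : Hs} (hh : (h : G) = 1) : (QuotientGroup.mk h : Hs ⧸ Z) = 1 := by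
  have : h = 1 := Subtype.ext hh
  rw [this]; rfl

theorem spider_H : (QuotientGroup.mk ((hgen .d (by decide) * hgen .c (by decide) * hgen .b (by decide) *
    hgen .d (by decide) * hgen .e (by decide) * hgen .f (by decide) * hgen .d (by decide) * hgen .h (by decide) *
    hgen .i (by decide)) ^ 10) : Hs ⧸ Z) = 1 := by
  apply mk_eq_one_of_val
  have h := spider
  simp only [map_pow, map_mul] at h
  simp only [hgen, Subgroup.coe_pow, Subgroup.coe_mul]
  exact h

theorem e7_H : (QuotientGroup.mk ((hgen .a (by decide) * hgen .b (by decide) * hgen .c (by decide) *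
    hgen .d (by decide) * hgen .e (by decide) * hgen .f (by decide) * hgen .h (by decide)) ^ 9) : Hs ⧸ Z) = 1 := by
  have hrel : Fi24.l * (((Fi24.a * Fi24.b * Fi24.c * Fi24.d * Fi24.e * Fi24.f * Fi24.h) ^ 9)⁻¹) ∈ Rels24 := by
    right
    show _ ∈ Fi24.extra
    simp [Fi24.extra]
  have h := PresentedGroup.one_of_mem hrel
  simp only [map_pow, map_mul, map_inv] at h
  have h2 : (gen .a * gen .b * gen .c * gen .d * gen .e * gen .f * gen .h) ^ 9 = gen .l := by
    have := mul_inv_eq_one.mp h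
    exact this.symm
  have h3 : (hgen .a (by decide) * hgen .b (by decide) * hgen .c (by decide) *
    hgen .d (by decide) * hgen .e (by decide) * hgen .f (by decide) * hgen .h (by decide)) ^ 9 = lH := by
    apply Subtype.ext
    simpa [hgen, lH] using h2
  rw [h3]
  exact (QuotientGroup.eq_one_iff lH).mpr (Subgroup.mem_zpowers lH)

theorem rels23_ok : ∀ r ∈ Rels23, FreeGroup.lift f23 r = 1 := by
  rintro r (hr | hr)
  · obtain ⟨x, _, y, _, rfl⟩ := hr
    rw [map_pow, map_mul, lift_of, lift_of, ι_label]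
    unfold f23
    rw [← QuotientGroup.mk_mul, ← QuotientGroup.mk_pow]
    apply mk_eq_one_of_val
    simpa [hgen] using cox_rel (ι x) (ι y)
  · have hr' : r ∈ Fi23.extra := hr
    simp only [Fi23.extra, List.mem_cons, List.not_mem_nil, or_false] at hr'
    rcases hr' with rfl | rfl
    · simp only [map_pow, map_mul, Fi23.d, Fi23.c, Fi23.b, Fi23.e, Fi23.f, Fi23.h, Fi23.i, lift_of]
      unfold f23
      simp only [← QuotientGroup.mk_mul, ← QuotientGroup.mk_pow]
      exact spider_H
    · simp only [map_pow, map_mul, Fi23.a, Fi23.d, Fi23.c, Fi23.b, Fi23.e, Fi23.f, Fi23.h, lift_of]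
      unfold f23
      simp only [← QuotientGroup.mk_mul, ← QuotientGroup.mk_pow]
      exact e7_H

/-- the homomorphism from the presented group `Fi23` to `H / ⟨l⟩` -/
noncomputable def φ : PresentedGroup Rels23 →* Hs ⧸ Z := PresentedGroup.toGroup rels23_ok

theorem φ_of (x : Fi23.Gen) : φ (PresentedGroup.of x) = f23 x := PresentedGroup.toGroup.of rels23_ok

theorem φ_surjective : Function.Surjective φ := by
  intro q
  obtain ⟨h, rfl⟩ := QuotientGroup.mk_surjective q
  obtain ⟨g, hg⟩ := h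
  have key : ∀ g (hg : g ∈ Hs), (QuotientGroup.mk (⟨g, hg⟩ : Hs) : Hs ⧸ Z) ∈ φ.range := by
    intro g hg
    have hg' := hg
    rw [Hs_eq] at hg'
    induction hg' using Subgroup.closure_induction with
    | mem y hy =>
      obtain ⟨x, hx, rfl⟩ := hy
      simp only [lettersH, List.mem_cons, List.not_mem_nil, or_false] at hx
      rcases hx with rfl | rfl | rfl | rfl | rfl | rfl | rfl | rfl | rfl | rfl | rfl
      · exact ⟨PresentedGroup.of .a, φ_of .a⟩
      · exact ⟨PresentedGroup.of .b, φ_of .b⟩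
      · exact ⟨PresentedGroup.of .c, φ_of .c⟩
      · exact ⟨PresentedGroup.of .d, φ_of .d⟩
      · exact ⟨PresentedGroup.of .e, φ_of .e⟩
      · exact ⟨PresentedGroup.of .f, φ_of .f⟩
      · exact ⟨PresentedGroup.of .g, φ_of .g⟩
      · exact ⟨PresentedGroup.of .h, φ_of .h⟩
      · exact ⟨PresentedGroup.of .i, φ_of .i⟩
      · exact ⟨PresentedGroup.of .j, φ_of .j⟩
      · have : (QuotientGroup.mk (⟨gen .l, hg⟩ : Hs) : Hs ⧸ Z) = 1 :=
          (QuotientGroup.eq_one_iff _).mpr (Subgroup.mem_zpowers lH)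
        rw [this]
        exact Subgroup.one_mem _
    | one => exact Subgroup.one_mem _
    | mul a b ha hb iha ihb =>
      have ha' : a ∈ Hs := by rw [Hs_eq]; exact ha
      have hb' : b ∈ Hs := by rw [Hs_eq]; exact hb
      have : (QuotientGroup.mk (⟨a * b, hg⟩ : Hs) : Hs ⧸ Z) =
          QuotientGroup.mk (⟨a, ha'⟩ : Hs) * QuotientGroup.mk (⟨b, hb'⟩ : Hs) := rfl
      rw [this]
      exact Subgroup.mul_mem _ (iha ha') (ihb hb')
    | inv a ha iha =>
      have ha' : a ∈ Hs := by rw [Hs_eq]; exact ha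
      have : (QuotientGroup.mk (⟨a⁻¹, hg⟩ : Hs) : Hs ⧸ Z) = (QuotientGroup.mk (⟨a, ha'⟩ : Hs))⁻¹ := rfl
      rw [this]
      exact Subgroup.inv_mem _ (iha ha')
  exact key g hg

/-- `φ` is bijective as soon as `a ∉ {1, l}` -/
theorem φ_bijective (h23 : Cfsg.IsFi23 Cfsg.Spor.Fi23) (ha : gen .a ≠ 1) (hal : gen .a ≠ gen .l) :
    Function.Bijective φ := by
  obtain ⟨hsimple, _⟩ := h23
  have hsimple' : IsSimpleGroup (PresentedGroup Rels23) := hsimple
  have hker : φ.ker = ⊥ := by
    rcases hsimple'.eq_bot_or_eq_top_of_normal φ.ker inferInstance with h | h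
    · exact h
    · exfalso
      have h1 : φ (PresentedGroup.of .a) = 1 := by
        have : PresentedGroup.of Fi23.Gen.a ∈ φ.ker := by rw [h]; exact Subgroup.mem_top _
        exact MonoidHom.mem_ker.mp this
      rw [φ_of] at h1
      unfold f23 at h1
      have h2 := (QuotientGroup.eq_one_iff _).mp h1
      rcases mem_Z _ h2 with h3 | h3
      · exact ha (congrArg Subtype.val h3)
      · exact hal (congrArg Subtype.val h3)
  exact ⟨(MonoidHom.ker_eq_bot_iff φ).mp hker, φ_surjective⟩

/-- the order of `H` -/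
theorem card_Hs (h23 : Cfsg.IsFi23 Cfsg.Spor.Fi23) (hl : gen .l ≠ 1) (ha : gen .a ≠ 1) (hal : gen .a ≠ gen .l) :
    Nat.card Hs = 2 * 4089470473293004800 := by
  have hbij := φ_bijective h23 ha hal
  have hcard' : Nat.card (PresentedGroup Rels23) = 4089470473293004800 := h23.2
  have hq : Nat.card (Hs ⧸ Z) = 4089470473293004800 := by
    rw [← hcard']
    exact (Nat.card_congr (Equiv.ofBijective φ hbij)).symm
  have hZ : Nat.card Z = 2 := by
    unfold Z
    rw [Nat.card_zpowers]
    have hl' : lH ≠ 1 := fun h => hl (congrArg Subtype.val h)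
    have h2 : lH ^ 2 = 1 := by rw [pow_two]; exact lH_sq
    exact orderOf_eq_prime h2 hl'
  rw [Subgroup.card_eq_card_quotient_mul_card_subgroup Z, hq, hZ]

/-- a normal subgroup of `H` lies in `⟨l⟩` or generates `H` together with `l` -/
theorem normal_cases (h23 : Cfsg.IsFi23 Cfsg.Spor.Fi23) (ha : gen .a ≠ 1) (hal : gen .a ≠ gen .l)
    (M : Subgroup Hs) [hM : M.Normal] : M ≤ Z ∨ M ⊔ Z = ⊤ := by
  have hbij := φ_bijective h23 ha hal
  let e : PresentedGroup Rels23 ≃* Hs ⧸ Z := MulEquiv.ofBijective φ hbij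
  have : IsSimpleGroup (PresentedGroup Rels23) := h23.1
  have : IsSimpleGroup (Hs ⧸ Z) := e.symm.isSimpleGroup
  have hMn : (M.map (QuotientGroup.mk' Z)).Normal :=
    Subgroup.Normal.map hM _ (QuotientGroup.mk'_surjective Z)
  rcases IsSimpleGroup.eq_bot_or_eq_top_of_normal _ hMn with h | h
  · left
    rw [Subgroup.map_eq_bot_iff, QuotientGroup.ker_mk'] at h
    exact h
  · right
    have h2 := Subgroup.comap_map_eq (QuotientGroup.mk' Z) M
    rw [h, Subgroup.comap_top, QuotientGroup.ker_mk'] at h2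
    exact h2.symm

end Cfsg.Agent.Lib.Helper96_Fi24H
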