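import Cfsg.Agent.Lib.Helper96_Fi24TOrder
import Cfsg.Prelude.Def_Spor_Fi24

/-!
# The spider relation holds in the presented group `Fi24` (helper96)

The presentation of `Fi24` in the Prelude does not list the spider relation `(d c b d e f d h i)^10 = 1`.
It is a consequence of the relators which only involve the letters `l, k, a, b, c, d, e, f, h, i`: the group `T`
presented by these (`Helper96_Fi24TChain.edges1`, `extra1`; the letters `g`, `j` are killed) has order
`9904359628800 = 28431 * 348364800` and acts faithfully on the `28431` cosets of `⟨l, k, a, b, c, d, e, f, h⟩`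
(`Helper96_Fi24TOrder`), and the spider word acts trivially there.
-/

set_option autoImplicit false

namespace Cfsg.Agent.Lib.Helper96_Fi24Spider

open Cfsg.Spor Cfsg.Agent.Lib.Helper28_OrderChain Cfsg.Agent.Lib.Helper96_Fi24TChain

/-- the letters of `d c b d e f d h i` -/
def spider1 : List (Fi24.Gen × Bool) :=
  [(.d, true), (.c, true), (.b, true), (.d, true), (.e, true), (.f, true), (.d, true), (.h, true), (.i, true)]

/-- the letters of the spider word -/
def spiderL : List (Fi24.Gen × Bool) :=
  spider1 ++ spider1 ++ spider1 ++ spider1 ++ spider1 ++ spider1 ++ spider1 ++ spider1 ++ spider1 ++ spider1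

/-- the spider word is trivial in `T` -/
theorem spider_T : PresentedGroup.mk Cfsg.Agent.Lib.Helper96_Fi24TOrder.RELS (FreeGroup.mk spiderL) = 1 :=
  Cfsg.Agent.Lib.Helper96_Fi24TOrder.mk_eq_one_of_walk spiderL (by decide +kernel)

/-- the relators of `Fi24` -/
abbrev Rels24 : Set (FreeGroup Fi24.Gen) := coxRelators Fi24.edges ∪ {r | r ∈ Fi24.extra}

/-- the comparison homomorphism `T →* Fi24` -/
noncomputable def toFi24 : PresentedGroup Cfsg.Agent.Lib.Helper96_Fi24TOrder.RELS →* PresentedGroup Rels24 :=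
  subHom Fi24.edges edges1 Fi24.extra kept1 dropped1 h1_1 h2_1 h3_1

theorem toFi24_mk (u : List (Fi24.Gen × Bool)) (hu : ∀ l ∈ u, l.1 ∉ dropped1) :
    toFi24 (PresentedGroup.mk _ (FreeGroup.mk u)) = PresentedGroup.mk Rels24 (FreeGroup.mk u) := by
  unfold toFi24 subHom
  exact lift_subMap_mk Rels24 dropped1 u hu

theorem spiderL_eq : (FreeGroup.mk spiderL : FreeGroup Fi24.Gen) =
    (Fi24.d * Fi24.c * Fi24.b * Fi24.d * Fi24.e * Fi24.f * Fi24.d * Fi24.h * Fi24.i) ^ 10 := by
  have h1 : (Fi24.d * Fi24.c * Fi24.b * Fi24.d * Fi24.e * Fi24.f * Fi24.d * Fi24.h * Fi24.i : FreeGroup Fi24.Gen) =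
      FreeGroup.mk spider1 := by
    simp only [Fi24.d, Fi24.c, Fi24.b, Fi24.e, Fi24.f, Fi24.h, Fi24.i, FreeGroup.of, FreeGroup.mul_mk, spider1,
      List.cons_append, List.nil_append]
  rw [h1]
  simp only [pow_succ, pow_zero, one_mul, FreeGroup.mul_mk, spiderL]

/-- the spider relation holds in the presented group `Fi24` -/
theorem spider : PresentedGroup.mk Rels24
    ((Fi24.d * Fi24.c * Fi24.b * Fi24.d * Fi24.e * Fi24.f * Fi24.d * Fi24.h * Fi24.i) ^ 10) = 1 := by
  rw [← spiderL_eq, ← toFi24_mk spiderL (by decide), spider_T, map_one]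

end Cfsg.Agent.Lib.Helper96_Fi24Spider
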