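import Cfsg.Agent.Lib.Helper96_Fi24TADef

set_option autoImplicit false
set_option linter.constructorNameAsVariable false
set_option Elab.async false

namespace Cfsg.Agent.Lib.Helper96_Fi24TA

open Cfsg.Agent.Lib.Helper28_CosetPerm

theorem p1r0 : allRange pointOk 20 7108 27 = true := by decide +kernel
theorem p1u0 : ∀ k, 7108 ≤ k → k < 7135 → pointOk (k * 20) = true := between_extend pointOk 20 7108 7108 27 (between_start pointOk 20 7108) p1r0

theorem p1r1 : allRange pointOk 20 7135 27 = true := by decide +kernel
theorem p1u1 : ∀ k, 7108 ≤ k → k < 7162 → pointOk (k * 20) = true := between_extend pointOk 20 7108 7135 27 (p1u0) p1r1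

theorem p1r2 : allRange pointOk 20 7162 27 = true := by decide +kernel
theorem p1u2 : ∀ k, 7108 ≤ k → k < 7189 → pointOk (k * 20) = true := between_extend pointOk 20 7108 7162 27 (p1u1) p1r2

theorem p1r3 : allRange pointOk 20 7189 27 = true := by decide +kernel
theorem p1u3 : ∀ k, 7108 ≤ k → k < 7216 → pointOk (k * 20) = true := between_extend pointOk 20 7108 7189 27 (p1u2) p1r3

theorem p1r4 : allRange pointOk 20 7216 27 = true := by decide +kernel
theorem p1u4 : ∀ k, 7108 ≤ k → k < 7243 → pointOk (k * 20) = true := between_extend pointOk 20 7108 7216 27 (p1u3) p1r4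

theorem p1r5 : allRange pointOk 20 7243 27 = true := by decide +kernel
theorem p1u5 : ∀ k, 7108 ≤ k → k < 7270 → pointOk (k * 20) = true := between_extend pointOk 20 7108 7243 27 (p1u4) p1r5

theorem p1r6 : allRange pointOk 20 7270 27 = true := by decide +kernel
theorem p1u6 : ∀ k, 7108 ≤ k → k < 7297 → pointOk (k * 20) = true := between_extend pointOk 20 7108 7270 27 (p1u5) p1r6

theorem p1r7 : allRange pointOk 20 7297 27 = true := by decide +kernel
theorem p1u7 : ∀ k, 7108 ≤ k → k < 7324 → pointOk (k * 20) = true := between_extend pointOk 20 7108 7297 27 (p1u6) p1r7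

theorem p1r8 : allRange pointOk 20 7324 27 = true := by decide +kernel
theorem p1u8 : ∀ k, 7108 ≤ k → k < 7351 → pointOk (k * 20) = true := between_extend pointOk 20 7108 7324 27 (p1u7) p1r8

theorem p1r9 : allRange pointOk 20 7351 27 = true := by decide +kernel
theorem p1u9 : ∀ k, 7108 ≤ k → k < 7378 → pointOk (k * 20) = true := between_extend pointOk 20 7108 7351 27 (p1u8) p1r9

theorem p1r10 : allRange pointOk 20 7378 27 = true := by decide +kernel
theorem p1u10 : ∀ k, 7108 ≤ k → k < 7405 → pointOk (k * 20) = true := between_extend pointOk 20 7108 7378 27 (p1u9) p1r10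

theorem p1r11 : allRange pointOk 20 7405 27 = true := by decide +kernel
theorem p1u11 : ∀ k, 7108 ≤ k → k < 7432 → pointOk (k * 20) = true := between_extend pointOk 20 7108 7405 27 (p1u10) p1r11

theorem p1r12 : allRange pointOk 20 7432 27 = true := by decide +kernel
theorem p1u12 : ∀ k, 7108 ≤ k → k < 7459 → pointOk (k * 20) = true := between_extend pointOk 20 7108 7432 27 (p1u11) p1r12

theorem p1r13 : allRange pointOk 20 7459 27 = true := by decide +kernel
theorem p1u13 : ∀ k, 7108 ≤ k → k < 7486 → pointOk (k * 20) = true := between_extend pointOk 20 7108 7459 27 (p1u12) p1r13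

theorem p1r14 : allRange pointOk 20 7486 27 = true := by decide +kernel
theorem p1u14 : ∀ k, 7108 ≤ k → k < 7513 → pointOk (k * 20) = true := between_extend pointOk 20 7108 7486 27 (p1u13) p1r14

theorem p1r15 : allRange pointOk 20 7513 27 = true := by decide +kernel
theorem p1u15 : ∀ k, 7108 ≤ k → k < 7540 → pointOk (k * 20) = true := between_extend pointOk 20 7108 7513 27 (p1u14) p1r15

theorem p1r16 : allRange pointOk 20 7540 27 = true := by decide +kernel
theorem p1u16 : ∀ k, 7108 ≤ k → k < 7567 → pointOk (k * 20) = true := between_extend pointOk 20 7108 7540 27 (p1u15) p1r16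

theorem p1r17 : allRange pointOk 20 7567 27 = true := by decide +kernel
theorem p1u17 : ∀ k, 7108 ≤ k → k < 7594 → pointOk (k * 20) = true := between_extend pointOk 20 7108 7567 27 (p1u16) p1r17

theorem p1r18 : allRange pointOk 20 7594 27 = true := by decide +kernel
theorem p1u18 : ∀ k, 7108 ≤ k → k < 7621 → pointOk (k * 20) = true := between_extend pointOk 20 7108 7594 27 (p1u17) p1r18

theorem p1r19 : allRange pointOk 20 7621 27 = true := by decide +kernel
theorem p1u19 : ∀ k, 7108 ≤ k → k < 7648 → pointOk (k * 20) = true := between_extend pointOk 20 7108 7621 27 (p1u18) p1r19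

theorem p1r20 : allRange pointOk 20 7648 27 = true := by decide +kernel
theorem p1u20 : ∀ k, 7108 ≤ k → k < 7675 → pointOk (k * 20) = true := between_extend pointOk 20 7108 7648 27 (p1u19) p1r20

theorem p1r21 : allRange pointOk 20 7675 27 = true := by decide +kernel
theorem p1u21 : ∀ k, 7108 ≤ k → k < 7702 → pointOk (k * 20) = true := between_extend pointOk 20 7108 7675 27 (p1u20) p1r21

theorem p1r22 : allRange pointOk 20 7702 27 = true := by decide +kernel
theorem p1u22 : ∀ k, 7108 ≤ k → k < 7729 → pointOk (k * 20) = true := between_extend pointOk 20 7108 7702 27 (p1u21) p1r22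

theorem p1r23 : allRange pointOk 20 7729 27 = true := by decide +kernel
theorem p1u23 : ∀ k, 7108 ≤ k → k < 7756 → pointOk (k * 20) = true := between_extend pointOk 20 7108 7729 27 (p1u22) p1r23

theorem p1r24 : allRange pointOk 20 7756 27 = true := by decide +kernel
theorem p1u24 : ∀ k, 7108 ≤ k → k < 7783 → pointOk (k * 20) = true := between_extend pointOk 20 7108 7756 27 (p1u23) p1r24

theorem p1r25 : allRange pointOk 20 7783 27 = true := by decide +kernel
theorem p1u25 : ∀ k, 7108 ≤ k → k < 7810 → pointOk (k * 20) = true := between_extend pointOk 20 7108 7783 27 (p1u24) p1r25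

theorem p1r26 : allRange pointOk 20 7810 27 = true := by decide +kernel
theorem p1u26 : ∀ k, 7108 ≤ k → k < 7837 → pointOk (k * 20) = true := between_extend pointOk 20 7108 7810 27 (p1u25) p1r26

theorem p1r27 : allRange pointOk 20 7837 27 = true := by decide +kernel
theorem p1u27 : ∀ k, 7108 ≤ k → k < 7864 → pointOk (k * 20) = true := between_extend pointOk 20 7108 7837 27 (p1u26) p1r27

theorem p1r28 : allRange pointOk 20 7864 27 = true := by decide +kernel
theorem p1u28 : ∀ k, 7108 ≤ k → k < 7891 → pointOk (k * 20) = true := between_extend pointOk 20 7108 7864 27 (p1u27) p1r28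

theorem p1r29 : allRange pointOk 20 7891 27 = true := by decide +kernel
theorem p1u29 : ∀ k, 7108 ≤ k → k < 7918 → pointOk (k * 20) = true := between_extend pointOk 20 7108 7891 27 (p1u28) p1r29

theorem p1r30 : allRange pointOk 20 7918 27 = true := by decide +kernel
theorem p1u30 : ∀ k, 7108 ≤ k → k < 7945 → pointOk (k * 20) = true := between_extend pointOk 20 7108 7918 27 (p1u29) p1r30

theorem p1r31 : allRange pointOk 20 7945 27 = true := by decide +kernel
theorem p1u31 : ∀ k, 7108 ≤ k → k < 7972 → pointOk (k * 20) = true := between_extend pointOk 20 7108 7945 27 (p1u30) p1r31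

theorem p1r32 : allRange pointOk 20 7972 27 = true := by decide +kernel
theorem p1u32 : ∀ k, 7108 ≤ k → k < 7999 → pointOk (k * 20) = true := between_extend pointOk 20 7108 7972 27 (p1u31) p1r32

theorem p1r33 : allRange pointOk 20 7999 27 = true := by decide +kernel
theorem p1u33 : ∀ k, 7108 ≤ k → k < 8026 → pointOk (k * 20) = true := between_extend pointOk 20 7108 7999 27 (p1u32) p1r33

theorem p1r34 : allRange pointOk 20 8026 27 = true := by decide +kernel
theorem p1u34 : ∀ k, 7108 ≤ k → k < 8053 → pointOk (k * 20) = true := between_extend pointOk 20 7108 8026 27 (p1u33) p1r34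

theorem p1r35 : allRange pointOk 20 8053 27 = true := by decide +kernel
theorem p1u35 : ∀ k, 7108 ≤ k → k < 8080 → pointOk (k * 20) = true := between_extend pointOk 20 7108 8053 27 (p1u34) p1r35

theorem p1r36 : allRange pointOk 20 8080 27 = true := by decide +kernel
theorem p1u36 : ∀ k, 7108 ≤ k → k < 8107 → pointOk (k * 20) = true := between_extend pointOk 20 7108 8080 27 (p1u35) p1r36

theorem p1r37 : allRange pointOk 20 8107 27 = true := by decide +kernel
theorem p1u37 : ∀ k, 7108 ≤ k → k < 8134 → pointOk (k * 20) = true := between_extend pointOk 20 7108 8107 27 (p1u36) p1r37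

theorem p1r38 : allRange pointOk 20 8134 27 = true := by decide +kernel
theorem p1u38 : ∀ k, 7108 ≤ k → k < 8161 → pointOk (k * 20) = true := between_extend pointOk 20 7108 8134 27 (p1u37) p1r38

theorem p1r39 : allRange pointOk 20 8161 27 = true := by decide +kernel
theorem p1u39 : ∀ k, 7108 ≤ k → k < 8188 → pointOk (k * 20) = true := between_extend pointOk 20 7108 8161 27 (p1u38) p1r39

theorem p1r40 : allRange pointOk 20 8188 27 = true := by decide +kernel
theorem p1u40 : ∀ k, 7108 ≤ k → k < 8215 → pointOk (k * 20) = true := between_extend pointOk 20 7108 8188 27 (p1u39) p1r40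

theorem p1r41 : allRange pointOk 20 8215 27 = true := by decide +kernel
theorem p1u41 : ∀ k, 7108 ≤ k → k < 8242 → pointOk (k * 20) = true := between_extend pointOk 20 7108 8215 27 (p1u40) p1r41

theorem p1r42 : allRange pointOk 20 8242 27 = true := by decide +kernel
theorem p1u42 : ∀ k, 7108 ≤ k → k < 8269 → pointOk (k * 20) = true := between_extend pointOk 20 7108 8242 27 (p1u41) p1r42

theorem p1r43 : allRange pointOk 20 8269 27 = true := by decide +kernel
theorem p1u43 : ∀ k, 7108 ≤ k → k < 8296 → pointOk (k * 20) = true := between_extend pointOk 20 7108 8269 27 (p1u42) p1r43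

theorem p1r44 : allRange pointOk 20 8296 27 = true := by decide +kernel
theorem p1u44 : ∀ k, 7108 ≤ k → k < 8323 → pointOk (k * 20) = true := between_extend pointOk 20 7108 8296 27 (p1u43) p1r44

theorem p1r45 : allRange pointOk 20 8323 27 = true := by decide +kernel
theorem p1u45 : ∀ k, 7108 ≤ k → k < 8350 → pointOk (k * 20) = true := between_extend pointOk 20 7108 8323 27 (p1u44) p1r45

theorem p1r46 : allRange pointOk 20 8350 27 = true := by decide +kernel
theorem p1u46 : ∀ k, 7108 ≤ k → k < 8377 → pointOk (k * 20) = true := between_extend pointOk 20 7108 8350 27 (p1u45) p1r46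

theorem p1r47 : allRange pointOk 20 8377 27 = true := by decide +kernel
theorem p1u47 : ∀ k, 7108 ≤ k → k < 8404 → pointOk (k * 20) = true := between_extend pointOk 20 7108 8377 27 (p1u46) p1r47

theorem p1r48 : allRange pointOk 20 8404 27 = true := by decide +kernel
theorem p1u48 : ∀ k, 7108 ≤ k → k < 8431 → pointOk (k * 20) = true := between_extend pointOk 20 7108 8404 27 (p1u47) p1r48

theorem p1r49 : allRange pointOk 20 8431 27 = true := by decide +kernel
theorem p1u49 : ∀ k, 7108 ≤ k → k < 8458 → pointOk (k * 20) = true := between_extend pointOk 20 7108 8431 27 (p1u48) p1r49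

theorem p1r50 : allRange pointOk 20 8458 27 = true := by decide +kernel
theorem p1u50 : ∀ k, 7108 ≤ k → k < 8485 → pointOk (k * 20) = true := between_extend pointOk 20 7108 8458 27 (p1u49) p1r50

theorem p1r51 : allRange pointOk 20 8485 27 = true := by decide +kernel
theorem p1u51 : ∀ k, 7108 ≤ k → k < 8512 → pointOk (k * 20) = true := between_extend pointOk 20 7108 8485 27 (p1u50) p1r51

theorem p1r52 : allRange pointOk 20 8512 27 = true := by decide +kernel
theorem p1u52 : ∀ k, 7108 ≤ k → k < 8539 → pointOk (k * 20) = true := between_extend pointOk 20 7108 8512 27 (p1u51) p1r52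

theorem p1r53 : allRange pointOk 20 8539 27 = true := by decide +kernel
theorem p1u53 : ∀ k, 7108 ≤ k → k < 8566 → pointOk (k * 20) = true := between_extend pointOk 20 7108 8539 27 (p1u52) p1r53

theorem p1r54 : allRange pointOk 20 8566 27 = true := by decide +kernel
theorem p1u54 : ∀ k, 7108 ≤ k → k < 8593 → pointOk (k * 20) = true := between_extend pointOk 20 7108 8566 27 (p1u53) p1r54

theorem p1r55 : allRange pointOk 20 8593 27 = true := by decide +kernel
theorem p1u55 : ∀ k, 7108 ≤ k → k < 8620 → pointOk (k * 20) = true := between_extend pointOk 20 7108 8593 27 (p1u54) p1r55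

theorem p1r56 : allRange pointOk 20 8620 27 = true := by decide +kernel
theorem p1u56 : ∀ k, 7108 ≤ k → k < 8647 → pointOk (k * 20) = true := between_extend pointOk 20 7108 8620 27 (p1u55) p1r56

theorem p1r57 : allRange pointOk 20 8647 27 = true := by decide +kernel
theorem p1u57 : ∀ k, 7108 ≤ k → k < 8674 → pointOk (k * 20) = true := between_extend pointOk 20 7108 8647 27 (p1u56) p1r57

theorem p1r58 : allRange pointOk 20 8674 27 = true := by decide +kernel
theorem p1u58 : ∀ k, 7108 ≤ k → k < 8701 → pointOk (k * 20) = true := between_extend pointOk 20 7108 8674 27 (p1u57) p1r58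

theorem p1r59 : allRange pointOk 20 8701 27 = true := by decide +kernel
theorem p1u59 : ∀ k, 7108 ≤ k → k < 8728 → pointOk (k * 20) = true := between_extend pointOk 20 7108 8701 27 (p1u58) p1r59

theorem p1r60 : allRange pointOk 20 8728 27 = true := by decide +kernel
theorem p1u60 : ∀ k, 7108 ≤ k → k < 8755 → pointOk (k * 20) = true := between_extend pointOk 20 7108 8728 27 (p1u59) p1r60

theorem p1r61 : allRange pointOk 20 8755 27 = true := by decide +kernel
theorem p1u61 : ∀ k, 7108 ≤ k → k < 8782 → pointOk (k * 20) = true := between_extend pointOk 20 7108 8755 27 (p1u60) p1r61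

theorem p1r62 : allRange pointOk 20 8782 27 = true := by decide +kernel
theorem p1u62 : ∀ k, 7108 ≤ k → k < 8809 → pointOk (k * 20) = true := between_extend pointOk 20 7108 8782 27 (p1u61) p1r62

theorem p1r63 : allRange pointOk 20 8809 27 = true := by decide +kernel
theorem p1u63 : ∀ k, 7108 ≤ k → k < 8836 → pointOk (k * 20) = true := between_extend pointOk 20 7108 8809 27 (p1u62) p1r63

theorem p1r64 : allRange pointOk 20 8836 27 = true := by decide +kernel
theorem p1u64 : ∀ k, 7108 ≤ k → k < 8863 → pointOk (k * 20) = true := between_extend pointOk 20 7108 8836 27 (p1u63) p1r64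

theorem p1r65 : allRange pointOk 20 8863 27 = true := by decide +kernel
theorem p1u65 : ∀ k, 7108 ≤ k → k < 8890 → pointOk (k * 20) = true := between_extend pointOk 20 7108 8863 27 (p1u64) p1r65

theorem p1r66 : allRange pointOk 20 8890 27 = true := by decide +kernel
theorem p1u66 : ∀ k, 7108 ≤ k → k < 8917 → pointOk (k * 20) = true := between_extend pointOk 20 7108 8890 27 (p1u65) p1r66

theorem p1r67 : allRange pointOk 20 8917 27 = true := by decide +kernel
theorem p1u67 : ∀ k, 7108 ≤ k → k < 8944 → pointOk (k * 20) = true := between_extend pointOk 20 7108 8917 27 (p1u66) p1r67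

theorem p1r68 : allRange pointOk 20 8944 27 = true := by decide +kernel
theorem p1u68 : ∀ k, 7108 ≤ k → k < 8971 → pointOk (k * 20) = true := between_extend pointOk 20 7108 8944 27 (p1u67) p1r68

theorem p1r69 : allRange pointOk 20 8971 27 = true := by decide +kernel
theorem p1u69 : ∀ k, 7108 ≤ k → k < 8998 → pointOk (k * 20) = true := between_extend pointOk 20 7108 8971 27 (p1u68) p1r69

theorem p1r70 : allRange pointOk 20 8998 27 = true := by decide +kernel
theorem p1u70 : ∀ k, 7108 ≤ k → k < 9025 → pointOk (k * 20) = true := between_extend pointOk 20 7108 8998 27 (p1u69) p1r70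

theorem p1r71 : allRange pointOk 20 9025 27 = true := by decide +kernel
theorem p1u71 : ∀ k, 7108 ≤ k → k < 9052 → pointOk (k * 20) = true := between_extend pointOk 20 7108 9025 27 (p1u70) p1r71

theorem p1r72 : allRange pointOk 20 9052 27 = true := by decide +kernel
theorem p1u72 : ∀ k, 7108 ≤ k → k < 9079 → pointOk (k * 20) = true := between_extend pointOk 20 7108 9052 27 (p1u71) p1r72

theorem p1r73 : allRange pointOk 20 9079 27 = true := by decide +kernel
theorem p1u73 : ∀ k, 7108 ≤ k → k < 9106 → pointOk (k * 20) = true := between_extend pointOk 20 7108 9079 27 (p1u72) p1r73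

theorem p1r74 : allRange pointOk 20 9106 27 = true := by decide +kernel
theorem p1u74 : ∀ k, 7108 ≤ k → k < 9133 → pointOk (k * 20) = true := between_extend pointOk 20 7108 9106 27 (p1u73) p1r74

theorem p1r75 : allRange pointOk 20 9133 27 = true := by decide +kernel
theorem p1u75 : ∀ k, 7108 ≤ k → k < 9160 → pointOk (k * 20) = true := between_extend pointOk 20 7108 9133 27 (p1u74) p1r75

theorem p1r76 : allRange pointOk 20 9160 27 = true := by decide +kernel
theorem p1u76 : ∀ k, 7108 ≤ k → k < 9187 → pointOk (k * 20) = true := between_extend pointOk 20 7108 9160 27 (p1u75) p1r76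

theorem p1r77 : allRange pointOk 20 9187 27 = true := by decide +kernel
theorem p1u77 : ∀ k, 7108 ≤ k → k < 9214 → pointOk (k * 20) = true := between_extend pointOk 20 7108 9187 27 (p1u76) p1r77

theorem p1r78 : allRange pointOk 20 9214 27 = true := by decide +kernel
theorem p1u78 : ∀ k, 7108 ≤ k → k < 9241 → pointOk (k * 20) = true := between_extend pointOk 20 7108 9214 27 (p1u77) p1r78

theorem p1r79 : allRange pointOk 20 9241 27 = true := by decide +kernel
theorem p1u79 : ∀ k, 7108 ≤ k → k < 9268 → pointOk (k * 20) = true := between_extend pointOk 20 7108 9241 27 (p1u78) p1r79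

theorem p1r80 : allRange pointOk 20 9268 27 = true := by decide +kernel
theorem p1u80 : ∀ k, 7108 ≤ k → k < 9295 → pointOk (k * 20) = true := between_extend pointOk 20 7108 9268 27 (p1u79) p1r80

theorem p1r81 : allRange pointOk 20 9295 27 = true := by decide +kernel
theorem p1u81 : ∀ k, 7108 ≤ k → k < 9322 → pointOk (k * 20) = true := between_extend pointOk 20 7108 9295 27 (p1u80) p1r81

theorem p1r82 : allRange pointOk 20 9322 27 = true := by decide +kernel
theorem p1u82 : ∀ k, 7108 ≤ k → k < 9349 → pointOk (k * 20) = true := between_extend pointOk 20 7108 9322 27 (p1u81) p1r82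

theorem p1r83 : allRange pointOk 20 9349 27 = true := by decide +kernel
theorem p1u83 : ∀ k, 7108 ≤ k → k < 9376 → pointOk (k * 20) = true := between_extend pointOk 20 7108 9349 27 (p1u82) p1r83

theorem p1r84 : allRange pointOk 20 9376 27 = true := by decide +kernel
theorem p1u84 : ∀ k, 7108 ≤ k → k < 9403 → pointOk (k * 20) = true := between_extend pointOk 20 7108 9376 27 (p1u83) p1r84

theorem p1r85 : allRange pointOk 20 9403 27 = true := by decide +kernel
theorem p1u85 : ∀ k, 7108 ≤ k → k < 9430 → pointOk (k * 20) = true := between_extend pointOk 20 7108 9403 27 (p1u84) p1r85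

theorem p1r86 : allRange pointOk 20 9430 27 = true := by decide +kernel
theorem p1u86 : ∀ k, 7108 ≤ k → k < 9457 → pointOk (k * 20) = true := between_extend pointOk 20 7108 9430 27 (p1u85) p1r86

theorem p1r87 : allRange pointOk 20 9457 27 = true := by decide +kernel
theorem p1u87 : ∀ k, 7108 ≤ k → k < 9484 → pointOk (k * 20) = true := between_extend pointOk 20 7108 9457 27 (p1u86) p1r87

theorem p1r88 : allRange pointOk 20 9484 27 = true := by decide +kernel
theorem p1u88 : ∀ k, 7108 ≤ k → k < 9511 → pointOk (k * 20) = true := between_extend pointOk 20 7108 9484 27 (p1u87) p1r88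

theorem p1r89 : allRange pointOk 20 9511 27 = true := by decide +kernel
theorem p1u89 : ∀ k, 7108 ≤ k → k < 9538 → pointOk (k * 20) = true := between_extend pointOk 20 7108 9511 27 (p1u88) p1r89

theorem p1r90 : allRange pointOk 20 9538 27 = true := by decide +kernel
theorem p1u90 : ∀ k, 7108 ≤ k → k < 9565 → pointOk (k * 20) = true := between_extend pointOk 20 7108 9538 27 (p1u89) p1r90

theorem p1r91 : allRange pointOk 20 9565 27 = true := by decide +kernel
theorem p1u91 : ∀ k, 7108 ≤ k → k < 9592 → pointOk (k * 20) = true := between_extend pointOk 20 7108 9565 27 (p1u90) p1r91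

theorem p1r92 : allRange pointOk 20 9592 27 = true := by decide +kernel
theorem p1u92 : ∀ k, 7108 ≤ k → k < 9619 → pointOk (k * 20) = true := between_extend pointOk 20 7108 9592 27 (p1u91) p1r92

theorem p1r93 : allRange pointOk 20 9619 27 = true := by decide +kernel
theorem p1u93 : ∀ k, 7108 ≤ k → k < 9646 → pointOk (k * 20) = true := between_extend pointOk 20 7108 9619 27 (p1u92) p1r93

theorem p1r94 : allRange pointOk 20 9646 27 = true := by decide +kernel
theorem p1u94 : ∀ k, 7108 ≤ k → k < 9673 → pointOk (k * 20) = true := between_extend pointOk 20 7108 9646 27 (p1u93) p1r94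

theorem p1r95 : allRange pointOk 20 9673 27 = true := by decide +kernel
theorem p1u95 : ∀ k, 7108 ≤ k → k < 9700 → pointOk (k * 20) = true := between_extend pointOk 20 7108 9673 27 (p1u94) p1r95

theorem p1r96 : allRange pointOk 20 9700 27 = true := by decide +kernel
theorem p1u96 : ∀ k, 7108 ≤ k → k < 9727 → pointOk (k * 20) = true := between_extend pointOk 20 7108 9700 27 (p1u95) p1r96

theorem p1r97 : allRange pointOk 20 9727 27 = true := by decide +kernel
theorem p1u97 : ∀ k, 7108 ≤ k → k < 9754 → pointOk (k * 20) = true := between_extend pointOk 20 7108 9727 27 (p1u96) p1r97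

theorem p1r98 : allRange pointOk 20 9754 27 = true := by decide +kernel
theorem p1u98 : ∀ k, 7108 ≤ k → k < 9781 → pointOk (k * 20) = true := between_extend pointOk 20 7108 9754 27 (p1u97) p1r98

theorem p1r99 : allRange pointOk 20 9781 27 = true := by decide +kernel
theorem p1u99 : ∀ k, 7108 ≤ k → k < 9808 → pointOk (k * 20) = true := between_extend pointOk 20 7108 9781 27 (p1u98) p1r99

theorem p1r100 : allRange pointOk 20 9808 27 = true := by decide +kernel
theorem p1u100 : ∀ k, 7108 ≤ k → k < 9835 → pointOk (k * 20) = true := between_extend pointOk 20 7108 9808 27 (p1u99) p1r100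

theorem p1r101 : allRange pointOk 20 9835 27 = true := by decide +kernel
theorem p1u101 : ∀ k, 7108 ≤ k → k < 9862 → pointOk (k * 20) = true := between_extend pointOk 20 7108 9835 27 (p1u100) p1r101

theorem p1r102 : allRange pointOk 20 9862 27 = true := by decide +kernel
theorem p1u102 : ∀ k, 7108 ≤ k → k < 9889 → pointOk (k * 20) = true := between_extend pointOk 20 7108 9862 27 (p1u101) p1r102

theorem p1r103 : allRange pointOk 20 9889 27 = true := by decide +kernel
theorem p1u103 : ∀ k, 7108 ≤ k → k < 9916 → pointOk (k * 20) = true := between_extend pointOk 20 7108 9889 27 (p1u102) p1r103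

theorem p1r104 : allRange pointOk 20 9916 27 = true := by decide +kernel
theorem p1u104 : ∀ k, 7108 ≤ k → k < 9943 → pointOk (k * 20) = true := between_extend pointOk 20 7108 9916 27 (p1u103) p1r104

theorem p1r105 : allRange pointOk 20 9943 27 = true := by decide +kernel
theorem p1u105 : ∀ k, 7108 ≤ k → k < 9970 → pointOk (k * 20) = true := between_extend pointOk 20 7108 9943 27 (p1u104) p1r105

theorem p1r106 : allRange pointOk 20 9970 27 = true := by decide +kernel
theorem p1u106 : ∀ k, 7108 ≤ k → k < 9997 → pointOk (k * 20) = true := between_extend pointOk 20 7108 9970 27 (p1u105) p1r106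

theorem p1r107 : allRange pointOk 20 9997 27 = true := by decide +kernel
theorem p1u107 : ∀ k, 7108 ≤ k → k < 10024 → pointOk (k * 20) = true := between_extend pointOk 20 7108 9997 27 (p1u106) p1r107

theorem p1r108 : allRange pointOk 20 10024 27 = true := by decide +kernel
theorem p1u108 : ∀ k, 7108 ≤ k → k < 10051 → pointOk (k * 20) = true := between_extend pointOk 20 7108 10024 27 (p1u107) p1r108

theorem p1r109 : allRange pointOk 20 10051 27 = true := by decide +kernel
theorem p1u109 : ∀ k, 7108 ≤ k → k < 10078 → pointOk (k * 20) = true := between_extend pointOk 20 7108 10051 27 (p1u108) p1r109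

theorem p1r110 : allRange pointOk 20 10078 27 = true := by decide +kernel
theorem p1u110 : ∀ k, 7108 ≤ k → k < 10105 → pointOk (k * 20) = true := between_extend pointOk 20 7108 10078 27 (p1u109) p1r110

theorem p1r111 : allRange pointOk 20 10105 27 = true := by decide +kernel
theorem p1u111 : ∀ k, 7108 ≤ k → k < 10132 → pointOk (k * 20) = true := between_extend pointOk 20 7108 10105 27 (p1u110) p1r111

theorem p1r112 : allRange pointOk 20 10132 27 = true := by decide +kernel
theorem p1u112 : ∀ k, 7108 ≤ k → k < 10159 → pointOk (k * 20) = true := between_extend pointOk 20 7108 10132 27 (p1u111) p1r112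

theorem p1r113 : allRange pointOk 20 10159 27 = true := by decide +kernel
theorem p1u113 : ∀ k, 7108 ≤ k → k < 10186 → pointOk (k * 20) = true := between_extend pointOk 20 7108 10159 27 (p1u112) p1r113

theorem p1r114 : allRange pointOk 20 10186 27 = true := by decide +kernel
theorem p1u114 : ∀ k, 7108 ≤ k → k < 10213 → pointOk (k * 20) = true := between_extend pointOk 20 7108 10186 27 (p1u113) p1r114

theorem p1r115 : allRange pointOk 20 10213 27 = true := by decide +kernel
theorem p1u115 : ∀ k, 7108 ≤ k → k < 10240 → pointOk (k * 20) = true := between_extend pointOk 20 7108 10213 27 (p1u114) p1r115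

theorem p1r116 : allRange pointOk 20 10240 27 = true := by decide +kernel
theorem p1u116 : ∀ k, 7108 ≤ k → k < 10267 → pointOk (k * 20) = true := between_extend pointOk 20 7108 10240 27 (p1u115) p1r116

theorem p1r117 : allRange pointOk 20 10267 27 = true := by decide +kernel
theorem p1u117 : ∀ k, 7108 ≤ k → k < 10294 → pointOk (k * 20) = true := between_extend pointOk 20 7108 10267 27 (p1u116) p1r117

theorem p1r118 : allRange pointOk 20 10294 27 = true := by decide +kernel
theorem p1u118 : ∀ k, 7108 ≤ k → k < 10321 → pointOk (k * 20) = true := between_extend pointOk 20 7108 10294 27 (p1u117) p1r118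

theorem p1r119 : allRange pointOk 20 10321 27 = true := by decide +kernel
theorem p1u119 : ∀ k, 7108 ≤ k → k < 10348 → pointOk (k * 20) = true := between_extend pointOk 20 7108 10321 27 (p1u118) p1r119

theorem p1r120 : allRange pointOk 20 10348 27 = true := by decide +kernel
theorem p1u120 : ∀ k, 7108 ≤ k → k < 10375 → pointOk (k * 20) = true := between_extend pointOk 20 7108 10348 27 (p1u119) p1r120

theorem p1r121 : allRange pointOk 20 10375 27 = true := by decide +kernel
theorem p1u121 : ∀ k, 7108 ≤ k → k < 10402 → pointOk (k * 20) = true := between_extend pointOk 20 7108 10375 27 (p1u120) p1r121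

theorem p1r122 : allRange pointOk 20 10402 27 = true := by decide +kernel
theorem p1u122 : ∀ k, 7108 ≤ k → k < 10429 → pointOk (k * 20) = true := between_extend pointOk 20 7108 10402 27 (p1u121) p1r122

theorem p1r123 : allRange pointOk 20 10429 27 = true := by decide +kernel
theorem p1u123 : ∀ k, 7108 ≤ k → k < 10456 → pointOk (k * 20) = true := between_extend pointOk 20 7108 10429 27 (p1u122) p1r123

theorem p1r124 : allRange pointOk 20 10456 27 = true := by decide +kernel
theorem p1u124 : ∀ k, 7108 ≤ k → k < 10483 → pointOk (k * 20) = true := between_extend pointOk 20 7108 10456 27 (p1u123) p1r124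

theorem p1r125 : allRange pointOk 20 10483 27 = true := by decide +kernel
theorem p1u125 : ∀ k, 7108 ≤ k → k < 10510 → pointOk (k * 20) = true := between_extend pointOk 20 7108 10483 27 (p1u124) p1r125

theorem p1r126 : allRange pointOk 20 10510 27 = true := by decide +kernel
theorem p1u126 : ∀ k, 7108 ≤ k → k < 10537 → pointOk (k * 20) = true := between_extend pointOk 20 7108 10510 27 (p1u125) p1r126

theorem p1r127 : allRange pointOk 20 10537 27 = true := by decide +kernel
theorem p1u127 : ∀ k, 7108 ≤ k → k < 10564 → pointOk (k * 20) = true := between_extend pointOk 20 7108 10537 27 (p1u126) p1r127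

theorem p1r128 : allRange pointOk 20 10564 27 = true := by decide +kernel
theorem p1u128 : ∀ k, 7108 ≤ k → k < 10591 → pointOk (k * 20) = true := between_extend pointOk 20 7108 10564 27 (p1u127) p1r128

theorem p1r129 : allRange pointOk 20 10591 27 = true := by decide +kernel
theorem p1u129 : ∀ k, 7108 ≤ k → k < 10618 → pointOk (k * 20) = true := between_extend pointOk 20 7108 10591 27 (p1u128) p1r129

theorem p1r130 : allRange pointOk 20 10618 27 = true := by decide +kernel
theorem p1u130 : ∀ k, 7108 ≤ k → k < 10645 → pointOk (k * 20) = true := between_extend pointOk 20 7108 10618 27 (p1u129) p1r130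

theorem p1r131 : allRange pointOk 20 10645 27 = true := by decide +kernel
theorem p1u131 : ∀ k, 7108 ≤ k → k < 10672 → pointOk (k * 20) = true := between_extend pointOk 20 7108 10645 27 (p1u130) p1r131

theorem p1r132 : allRange pointOk 20 10672 27 = true := by decide +kernel
theorem p1u132 : ∀ k, 7108 ≤ k → k < 10699 → pointOk (k * 20) = true := between_extend pointOk 20 7108 10672 27 (p1u131) p1r132

theorem p1r133 : allRange pointOk 20 10699 27 = true := by decide +kernel
theorem p1u133 : ∀ k, 7108 ≤ k → k < 10726 → pointOk (k * 20) = true := between_extend pointOk 20 7108 10699 27 (p1u132) p1r133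

theorem p1r134 : allRange pointOk 20 10726 27 = true := by decide +kernel
theorem p1u134 : ∀ k, 7108 ≤ k → k < 10753 → pointOk (k * 20) = true := between_extend pointOk 20 7108 10726 27 (p1u133) p1r134

theorem p1r135 : allRange pointOk 20 10753 27 = true := by decide +kernel
theorem p1u135 : ∀ k, 7108 ≤ k → k < 10780 → pointOk (k * 20) = true := between_extend pointOk 20 7108 10753 27 (p1u134) p1r135

theorem p1r136 : allRange pointOk 20 10780 27 = true := by decide +kernel
theorem p1u136 : ∀ k, 7108 ≤ k → k < 10807 → pointOk (k * 20) = true := between_extend pointOk 20 7108 10780 27 (p1u135) p1r136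

theorem p1r137 : allRange pointOk 20 10807 27 = true := by decide +kernel
theorem p1u137 : ∀ k, 7108 ≤ k → k < 10834 → pointOk (k * 20) = true := between_extend pointOk 20 7108 10807 27 (p1u136) p1r137

theorem p1r138 : allRange pointOk 20 10834 27 = true := by decide +kernel
theorem p1u138 : ∀ k, 7108 ≤ k → k < 10861 → pointOk (k * 20) = true := between_extend pointOk 20 7108 10834 27 (p1u137) p1r138

theorem p1r139 : allRange pointOk 20 10861 27 = true := by decide +kernel
theorem p1u139 : ∀ k, 7108 ≤ k → k < 10888 → pointOk (k * 20) = true := between_extend pointOk 20 7108 10861 27 (p1u138) p1r139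

theorem p1r140 : allRange pointOk 20 10888 27 = true := by decide +kernel
theorem p1u140 : ∀ k, 7108 ≤ k → k < 10915 → pointOk (k * 20) = true := between_extend pointOk 20 7108 10888 27 (p1u139) p1r140

theorem p1r141 : allRange pointOk 20 10915 27 = true := by decide +kernel
theorem p1u141 : ∀ k, 7108 ≤ k → k < 10942 → pointOk (k * 20) = true := between_extend pointOk 20 7108 10915 27 (p1u140) p1r141

theorem p1r142 : allRange pointOk 20 10942 27 = true := by decide +kernel
theorem p1u142 : ∀ k, 7108 ≤ k → k < 10969 → pointOk (k * 20) = true := between_extend pointOk 20 7108 10942 27 (p1u141) p1r142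

theorem p1r143 : allRange pointOk 20 10969 27 = true := by decide +kernel
theorem p1u143 : ∀ k, 7108 ≤ k → k < 10996 → pointOk (k * 20) = true := between_extend pointOk 20 7108 10969 27 (p1u142) p1r143

theorem p1r144 : allRange pointOk 20 10996 27 = true := by decide +kernel
theorem p1u144 : ∀ k, 7108 ≤ k → k < 11023 → pointOk (k * 20) = true := between_extend pointOk 20 7108 10996 27 (p1u143) p1r144

theorem p1r145 : allRange pointOk 20 11023 27 = true := by decide +kernel
theorem p1u145 : ∀ k, 7108 ≤ k → k < 11050 → pointOk (k * 20) = true := between_extend pointOk 20 7108 11023 27 (p1u144) p1r145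

theorem p1r146 : allRange pointOk 20 11050 27 = true := by decide +kernel
theorem p1u146 : ∀ k, 7108 ≤ k → k < 11077 → pointOk (k * 20) = true := between_extend pointOk 20 7108 11050 27 (p1u145) p1r146

theorem p1r147 : allRange pointOk 20 11077 27 = true := by decide +kernel
theorem p1u147 : ∀ k, 7108 ≤ k → k < 11104 → pointOk (k * 20) = true := between_extend pointOk 20 7108 11077 27 (p1u146) p1r147

theorem p1r148 : allRange pointOk 20 11104 27 = true := by decide +kernel
theorem p1u148 : ∀ k, 7108 ≤ k → k < 11131 → pointOk (k * 20) = true := between_extend pointOk 20 7108 11104 27 (p1u147) p1r148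

theorem p1r149 : allRange pointOk 20 11131 27 = true := by decide +kernel
theorem p1u149 : ∀ k, 7108 ≤ k → k < 11158 → pointOk (k * 20) = true := between_extend pointOk 20 7108 11131 27 (p1u148) p1r149

theorem p1r150 : allRange pointOk 20 11158 27 = true := by decide +kernel
theorem p1u150 : ∀ k, 7108 ≤ k → k < 11185 → pointOk (k * 20) = true := between_extend pointOk 20 7108 11158 27 (p1u149) p1r150

theorem p1r151 : allRange pointOk 20 11185 27 = true := by decide +kernel
theorem p1u151 : ∀ k, 7108 ≤ k → k < 11212 → pointOk (k * 20) = true := between_extend pointOk 20 7108 11185 27 (p1u150) p1r151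

theorem p1r152 : allRange pointOk 20 11212 27 = true := by decide +kernel
theorem p1u152 : ∀ k, 7108 ≤ k → k < 11239 → pointOk (k * 20) = true := between_extend pointOk 20 7108 11212 27 (p1u151) p1r152

theorem p1r153 : allRange pointOk 20 11239 27 = true := by decide +kernel
theorem p1u153 : ∀ k, 7108 ≤ k → k < 11266 → pointOk (k * 20) = true := between_extend pointOk 20 7108 11239 27 (p1u152) p1r153

theorem p1r154 : allRange pointOk 20 11266 27 = true := by decide +kernel
theorem p1u154 : ∀ k, 7108 ≤ k → k < 11293 → pointOk (k * 20) = true := between_extend pointOk 20 7108 11266 27 (p1u153) p1r154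

theorem p1r155 : allRange pointOk 20 11293 27 = true := by decide +kernel
theorem p1u155 : ∀ k, 7108 ≤ k → k < 11320 → pointOk (k * 20) = true := between_extend pointOk 20 7108 11293 27 (p1u154) p1r155

theorem p1r156 : allRange pointOk 20 11320 27 = true := by decide +kernel
theorem p1u156 : ∀ k, 7108 ≤ k → k < 11347 → pointOk (k * 20) = true := between_extend pointOk 20 7108 11320 27 (p1u155) p1r156

theorem p1r157 : allRange pointOk 20 11347 27 = true := by decide +kernel
theorem p1u157 : ∀ k, 7108 ≤ k → k < 11374 → pointOk (k * 20) = true := between_extend pointOk 20 7108 11347 27 (p1u156) p1r157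

theorem p1r158 : allRange pointOk 20 11374 27 = true := by decide +kernel
theorem p1u158 : ∀ k, 7108 ≤ k → k < 11401 → pointOk (k * 20) = true := between_extend pointOk 20 7108 11374 27 (p1u157) p1r158

theorem p1r159 : allRange pointOk 20 11401 27 = true := by decide +kernel
theorem p1u159 : ∀ k, 7108 ≤ k → k < 11428 → pointOk (k * 20) = true := between_extend pointOk 20 7108 11401 27 (p1u158) p1r159

theorem p1r160 : allRange pointOk 20 11428 27 = true := by decide +kernel
theorem p1u160 : ∀ k, 7108 ≤ k → k < 11455 → pointOk (k * 20) = true := between_extend pointOk 20 7108 11428 27 (p1u159) p1r160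

theorem p1r161 : allRange pointOk 20 11455 27 = true := by decide +kernel
theorem p1u161 : ∀ k, 7108 ≤ k → k < 11482 → pointOk (k * 20) = true := between_extend pointOk 20 7108 11455 27 (p1u160) p1r161

theorem p1r162 : allRange pointOk 20 11482 27 = true := by decide +kernel
theorem p1u162 : ∀ k, 7108 ≤ k → k < 11509 → pointOk (k * 20) = true := between_extend pointOk 20 7108 11482 27 (p1u161) p1r162

theorem p1r163 : allRange pointOk 20 11509 27 = true := by decide +kernel
theorem p1u163 : ∀ k, 7108 ≤ k → k < 11536 → pointOk (k * 20) = true := between_extend pointOk 20 7108 11509 27 (p1u162) p1r163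

theorem p1r164 : allRange pointOk 20 11536 27 = true := by decide +kernel
theorem p1u164 : ∀ k, 7108 ≤ k → k < 11563 → pointOk (k * 20) = true := between_extend pointOk 20 7108 11536 27 (p1u163) p1r164

theorem p1r165 : allRange pointOk 20 11563 27 = true := by decide +kernel
theorem p1u165 : ∀ k, 7108 ≤ k → k < 11590 → pointOk (k * 20) = true := between_extend pointOk 20 7108 11563 27 (p1u164) p1r165

theorem p1r166 : allRange pointOk 20 11590 27 = true := by decide +kernel
theorem p1u166 : ∀ k, 7108 ≤ k → k < 11617 → pointOk (k * 20) = true := between_extend pointOk 20 7108 11590 27 (p1u165) p1r166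

theorem p1r167 : allRange pointOk 20 11617 27 = true := by decide +kernel
theorem p1u167 : ∀ k, 7108 ≤ k → k < 11644 → pointOk (k * 20) = true := between_extend pointOk 20 7108 11617 27 (p1u166) p1r167

theorem p1r168 : allRange pointOk 20 11644 27 = true := by decide +kernel
theorem p1u168 : ∀ k, 7108 ≤ k → k < 11671 → pointOk (k * 20) = true := between_extend pointOk 20 7108 11644 27 (p1u167) p1r168

theorem p1r169 : allRange pointOk 20 11671 27 = true := by decide +kernel
theorem p1u169 : ∀ k, 7108 ≤ k → k < 11698 → pointOk (k * 20) = true := between_extend pointOk 20 7108 11671 27 (p1u168) p1r169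

theorem p1r170 : allRange pointOk 20 11698 27 = true := by decide +kernel
theorem p1u170 : ∀ k, 7108 ≤ k → k < 11725 → pointOk (k * 20) = true := between_extend pointOk 20 7108 11698 27 (p1u169) p1r170

theorem p1r171 : allRange pointOk 20 11725 27 = true := by decide +kernel
theorem p1u171 : ∀ k, 7108 ≤ k → k < 11752 → pointOk (k * 20) = true := between_extend pointOk 20 7108 11725 27 (p1u170) p1r171

theorem p1r172 : allRange pointOk 20 11752 27 = true := by decide +kernel
theorem p1u172 : ∀ k, 7108 ≤ k → k < 11779 → pointOk (k * 20) = true := between_extend pointOk 20 7108 11752 27 (p1u171) p1r172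

theorem p1r173 : allRange pointOk 20 11779 27 = true := by decide +kernel
theorem p1u173 : ∀ k, 7108 ≤ k → k < 11806 → pointOk (k * 20) = true := between_extend pointOk 20 7108 11779 27 (p1u172) p1r173

theorem p1r174 : allRange pointOk 20 11806 27 = true := by decide +kernel
theorem p1u174 : ∀ k, 7108 ≤ k → k < 11833 → pointOk (k * 20) = true := between_extend pointOk 20 7108 11806 27 (p1u173) p1r174

theorem p1r175 : allRange pointOk 20 11833 27 = true := by decide +kernel
theorem p1u175 : ∀ k, 7108 ≤ k → k < 11860 → pointOk (k * 20) = true := between_extend pointOk 20 7108 11833 27 (p1u174) p1r175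

theorem p1r176 : allRange pointOk 20 11860 27 = true := by decide +kernel
theorem p1u176 : ∀ k, 7108 ≤ k → k < 11887 → pointOk (k * 20) = true := between_extend pointOk 20 7108 11860 27 (p1u175) p1r176

theorem p1r177 : allRange pointOk 20 11887 27 = true := by decide +kernel
theorem p1u177 : ∀ k, 7108 ≤ k → k < 11914 → pointOk (k * 20) = true := between_extend pointOk 20 7108 11887 27 (p1u176) p1r177

theorem p1r178 : allRange pointOk 20 11914 27 = true := by decide +kernel
theorem p1u178 : ∀ k, 7108 ≤ k → k < 11941 → pointOk (k * 20) = true := between_extend pointOk 20 7108 11914 27 (p1u177) p1r178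

theorem p1r179 : allRange pointOk 20 11941 27 = true := by decide +kernel
theorem p1u179 : ∀ k, 7108 ≤ k → k < 11968 → pointOk (k * 20) = true := between_extend pointOk 20 7108 11941 27 (p1u178) p1r179

theorem p1r180 : allRange pointOk 20 11968 27 = true := by decide +kernel
theorem p1u180 : ∀ k, 7108 ≤ k → k < 11995 → pointOk (k * 20) = true := between_extend pointOk 20 7108 11968 27 (p1u179) p1r180

theorem p1r181 : allRange pointOk 20 11995 27 = true := by decide +kernel
theorem p1u181 : ∀ k, 7108 ≤ k → k < 12022 → pointOk (k * 20) = true := between_extend pointOk 20 7108 11995 27 (p1u180) p1r181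

theorem p1r182 : allRange pointOk 20 12022 27 = true := by decide +kernel
theorem p1u182 : ∀ k, 7108 ≤ k → k < 12049 → pointOk (k * 20) = true := between_extend pointOk 20 7108 12022 27 (p1u181) p1r182

theorem p1r183 : allRange pointOk 20 12049 27 = true := by decide +kernel
theorem p1u183 : ∀ k, 7108 ≤ k → k < 12076 → pointOk (k * 20) = true := between_extend pointOk 20 7108 12049 27 (p1u182) p1r183

theorem p1r184 : allRange pointOk 20 12076 27 = true := by decide +kernel
theorem p1u184 : ∀ k, 7108 ≤ k → k < 12103 → pointOk (k * 20) = true := between_extend pointOk 20 7108 12076 27 (p1u183) p1r184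

theorem p1r185 : allRange pointOk 20 12103 27 = true := by decide +kernel
theorem p1u185 : ∀ k, 7108 ≤ k → k < 12130 → pointOk (k * 20) = true := between_extend pointOk 20 7108 12103 27 (p1u184) p1r185

theorem p1r186 : allRange pointOk 20 12130 27 = true := by decide +kernel
theorem p1u186 : ∀ k, 7108 ≤ k → k < 12157 → pointOk (k * 20) = true := between_extend pointOk 20 7108 12130 27 (p1u185) p1r186

theorem p1r187 : allRange pointOk 20 12157 27 = true := by decide +kernel
theorem p1u187 : ∀ k, 7108 ≤ k → k < 12184 → pointOk (k * 20) = true := between_extend pointOk 20 7108 12157 27 (p1u186) p1r187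

theorem p1r188 : allRange pointOk 20 12184 27 = true := by decide +kernel
theorem p1u188 : ∀ k, 7108 ≤ k → k < 12211 → pointOk (k * 20) = true := between_extend pointOk 20 7108 12184 27 (p1u187) p1r188

theorem p1r189 : allRange pointOk 20 12211 27 = true := by decide +kernel
theorem p1u189 : ∀ k, 7108 ≤ k → k < 12238 → pointOk (k * 20) = true := between_extend pointOk 20 7108 12211 27 (p1u188) p1r189

theorem p1r190 : allRange pointOk 20 12238 27 = true := by decide +kernel
theorem p1u190 : ∀ k, 7108 ≤ k → k < 12265 → pointOk (k * 20) = true := between_extend pointOk 20 7108 12238 27 (p1u189) p1r190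

theorem p1r191 : allRange pointOk 20 12265 27 = true := by decide +kernel
theorem p1u191 : ∀ k, 7108 ≤ k → k < 12292 → pointOk (k * 20) = true := between_extend pointOk 20 7108 12265 27 (p1u190) p1r191

theorem p1r192 : allRange pointOk 20 12292 27 = true := by decide +kernel
theorem p1u192 : ∀ k, 7108 ≤ k → k < 12319 → pointOk (k * 20) = true := between_extend pointOk 20 7108 12292 27 (p1u191) p1r192

theorem p1r193 : allRange pointOk 20 12319 27 = true := by decide +kernel
theorem p1u193 : ∀ k, 7108 ≤ k → k < 12346 → pointOk (k * 20) = true := between_extend pointOk 20 7108 12319 27 (p1u192) p1r193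

theorem p1r194 : allRange pointOk 20 12346 27 = true := by decide +kernel
theorem p1u194 : ∀ k, 7108 ≤ k → k < 12373 → pointOk (k * 20) = true := between_extend pointOk 20 7108 12346 27 (p1u193) p1r194

theorem p1r195 : allRange pointOk 20 12373 27 = true := by decide +kernel
theorem p1u195 : ∀ k, 7108 ≤ k → k < 12400 → pointOk (k * 20) = true := between_extend pointOk 20 7108 12373 27 (p1u194) p1r195

theorem p1r196 : allRange pointOk 20 12400 27 = true := by decide +kernel
theorem p1u196 : ∀ k, 7108 ≤ k → k < 12427 → pointOk (k * 20) = true := between_extend pointOk 20 7108 12400 27 (p1u195) p1r196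

theorem p1r197 : allRange pointOk 20 12427 27 = true := by decide +kernel
theorem p1u197 : ∀ k, 7108 ≤ k → k < 12454 → pointOk (k * 20) = true := between_extend pointOk 20 7108 12427 27 (p1u196) p1r197

theorem p1r198 : allRange pointOk 20 12454 27 = true := by decide +kernel
theorem p1u198 : ∀ k, 7108 ≤ k → k < 12481 → pointOk (k * 20) = true := between_extend pointOk 20 7108 12454 27 (p1u197) p1r198

theorem p1r199 : allRange pointOk 20 12481 27 = true := by decide +kernel
theorem p1u199 : ∀ k, 7108 ≤ k → k < 12508 → pointOk (k * 20) = true := between_extend pointOk 20 7108 12481 27 (p1u198) p1r199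

theorem p1r200 : allRange pointOk 20 12508 27 = true := by decide +kernel
theorem p1u200 : ∀ k, 7108 ≤ k → k < 12535 → pointOk (k * 20) = true := between_extend pointOk 20 7108 12508 27 (p1u199) p1r200

theorem p1r201 : allRange pointOk 20 12535 27 = true := by decide +kernel
theorem p1u201 : ∀ k, 7108 ≤ k → k < 12562 → pointOk (k * 20) = true := between_extend pointOk 20 7108 12535 27 (p1u200) p1r201

theorem p1r202 : allRange pointOk 20 12562 27 = true := by decide +kernel
theorem p1u202 : ∀ k, 7108 ≤ k → k < 12589 → pointOk (k * 20) = true := between_extend pointOk 20 7108 12562 27 (p1u201) p1r202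

theorem p1r203 : allRange pointOk 20 12589 27 = true := by decide +kernel
theorem p1u203 : ∀ k, 7108 ≤ k → k < 12616 → pointOk (k * 20) = true := between_extend pointOk 20 7108 12589 27 (p1u202) p1r203

theorem p1r204 : allRange pointOk 20 12616 27 = true := by decide +kernel
theorem p1u204 : ∀ k, 7108 ≤ k → k < 12643 → pointOk (k * 20) = true := between_extend pointOk 20 7108 12616 27 (p1u203) p1r204

theorem p1r205 : allRange pointOk 20 12643 27 = true := by decide +kernel
theorem p1u205 : ∀ k, 7108 ≤ k → k < 12670 → pointOk (k * 20) = true := between_extend pointOk 20 7108 12643 27 (p1u204) p1r205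

theorem p1r206 : allRange pointOk 20 12670 27 = true := by decide +kernel
theorem p1u206 : ∀ k, 7108 ≤ k → k < 12697 → pointOk (k * 20) = true := between_extend pointOk 20 7108 12670 27 (p1u205) p1r206

theorem p1r207 : allRange pointOk 20 12697 27 = true := by decide +kernel
theorem p1u207 : ∀ k, 7108 ≤ k → k < 12724 → pointOk (k * 20) = true := between_extend pointOk 20 7108 12697 27 (p1u206) p1r207

theorem p1r208 : allRange pointOk 20 12724 27 = true := by decide +kernel
theorem p1u208 : ∀ k, 7108 ≤ k → k < 12751 → pointOk (k * 20) = true := between_extend pointOk 20 7108 12724 27 (p1u207) p1r208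

theorem p1r209 : allRange pointOk 20 12751 27 = true := by decide +kernel
theorem p1u209 : ∀ k, 7108 ≤ k → k < 12778 → pointOk (k * 20) = true := between_extend pointOk 20 7108 12751 27 (p1u208) p1r209

theorem p1r210 : allRange pointOk 20 12778 27 = true := by decide +kernel
theorem p1u210 : ∀ k, 7108 ≤ k → k < 12805 → pointOk (k * 20) = true := between_extend pointOk 20 7108 12778 27 (p1u209) p1r210

theorem p1r211 : allRange pointOk 20 12805 27 = true := by decide +kernel
theorem p1u211 : ∀ k, 7108 ≤ k → k < 12832 → pointOk (k * 20) = true := between_extend pointOk 20 7108 12805 27 (p1u210) p1r211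

theorem p1r212 : allRange pointOk 20 12832 27 = true := by decide +kernel
theorem p1u212 : ∀ k, 7108 ≤ k → k < 12859 → pointOk (k * 20) = true := between_extend pointOk 20 7108 12832 27 (p1u211) p1r212

theorem p1r213 : allRange pointOk 20 12859 27 = true := by decide +kernel
theorem p1u213 : ∀ k, 7108 ≤ k → k < 12886 → pointOk (k * 20) = true := between_extend pointOk 20 7108 12859 27 (p1u212) p1r213

theorem p1r214 : allRange pointOk 20 12886 27 = true := by decide +kernel
theorem p1u214 : ∀ k, 7108 ≤ k → k < 12913 → pointOk (k * 20) = true := between_extend pointOk 20 7108 12886 27 (p1u213) p1r214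

theorem p1r215 : allRange pointOk 20 12913 27 = true := by decide +kernel
theorem p1u215 : ∀ k, 7108 ≤ k → k < 12940 → pointOk (k * 20) = true := between_extend pointOk 20 7108 12913 27 (p1u214) p1r215

theorem p1r216 : allRange pointOk 20 12940 27 = true := by decide +kernel
theorem p1u216 : ∀ k, 7108 ≤ k → k < 12967 → pointOk (k * 20) = true := between_extend pointOk 20 7108 12940 27 (p1u215) p1r216

theorem p1r217 : allRange pointOk 20 12967 27 = true := by decide +kernel
theorem p1u217 : ∀ k, 7108 ≤ k → k < 12994 → pointOk (k * 20) = true := between_extend pointOk 20 7108 12967 27 (p1u216) p1r217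

theorem p1r218 : allRange pointOk 20 12994 27 = true := by decide +kernel
theorem p1u218 : ∀ k, 7108 ≤ k → k < 13021 → pointOk (k * 20) = true := between_extend pointOk 20 7108 12994 27 (p1u217) p1r218

theorem p1r219 : allRange pointOk 20 13021 27 = true := by decide +kernel
theorem p1u219 : ∀ k, 7108 ≤ k → k < 13048 → pointOk (k * 20) = true := between_extend pointOk 20 7108 13021 27 (p1u218) p1r219

theorem p1r220 : allRange pointOk 20 13048 27 = true := by decide +kernel
theorem p1u220 : ∀ k, 7108 ≤ k → k < 13075 → pointOk (k * 20) = true := between_extend pointOk 20 7108 13048 27 (p1u219) p1r220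

theorem p1r221 : allRange pointOk 20 13075 27 = true := by decide +kernel
theorem p1u221 : ∀ k, 7108 ≤ k → k < 13102 → pointOk (k * 20) = true := between_extend pointOk 20 7108 13075 27 (p1u220) p1r221

theorem p1r222 : allRange pointOk 20 13102 27 = true := by decide +kernel
theorem p1u222 : ∀ k, 7108 ≤ k → k < 13129 → pointOk (k * 20) = true := between_extend pointOk 20 7108 13102 27 (p1u221) p1r222

theorem p1r223 : allRange pointOk 20 13129 27 = true := by decide +kernel
theorem p1u223 : ∀ k, 7108 ≤ k → k < 13156 → pointOk (k * 20) = true := between_extend pointOk 20 7108 13129 27 (p1u222) p1r223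

theorem p1r224 : allRange pointOk 20 13156 27 = true := by decide +kernel
theorem p1u224 : ∀ k, 7108 ≤ k → k < 13183 → pointOk (k * 20) = true := between_extend pointOk 20 7108 13156 27 (p1u223) p1r224

theorem p1r225 : allRange pointOk 20 13183 27 = true := by decide +kernel
theorem p1u225 : ∀ k, 7108 ≤ k → k < 13210 → pointOk (k * 20) = true := between_extend pointOk 20 7108 13183 27 (p1u224) p1r225

theorem p1r226 : allRange pointOk 20 13210 27 = true := by decide +kernel
theorem p1u226 : ∀ k, 7108 ≤ k → k < 13237 → pointOk (k * 20) = true := between_extend pointOk 20 7108 13210 27 (p1u225) p1r226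

theorem p1r227 : allRange pointOk 20 13237 27 = true := by decide +kernel
theorem p1u227 : ∀ k, 7108 ≤ k → k < 13264 → pointOk (k * 20) = true := between_extend pointOk 20 7108 13237 27 (p1u226) p1r227

theorem p1r228 : allRange pointOk 20 13264 27 = true := by decide +kernel
theorem p1u228 : ∀ k, 7108 ≤ k → k < 13291 → pointOk (k * 20) = true := between_extend pointOk 20 7108 13264 27 (p1u227) p1r228

theorem p1r229 : allRange pointOk 20 13291 27 = true := by decide +kernel
theorem p1u229 : ∀ k, 7108 ≤ k → k < 13318 → pointOk (k * 20) = true := between_extend pointOk 20 7108 13291 27 (p1u228) p1r229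

theorem p1r230 : allRange pointOk 20 13318 27 = true := by decide +kernel
theorem p1u230 : ∀ k, 7108 ≤ k → k < 13345 → pointOk (k * 20) = true := between_extend pointOk 20 7108 13318 27 (p1u229) p1r230

theorem p1r231 : allRange pointOk 20 13345 27 = true := by decide +kernel
theorem p1u231 : ∀ k, 7108 ≤ k → k < 13372 → pointOk (k * 20) = true := between_extend pointOk 20 7108 13345 27 (p1u230) p1r231

theorem p1r232 : allRange pointOk 20 13372 27 = true := by decide +kernel
theorem p1u232 : ∀ k, 7108 ≤ k → k < 13399 → pointOk (k * 20) = true := between_extend pointOk 20 7108 13372 27 (p1u231) p1r232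

theorem p1r233 : allRange pointOk 20 13399 27 = true := by decide +kernel
theorem p1u233 : ∀ k, 7108 ≤ k → k < 13426 → pointOk (k * 20) = true := between_extend pointOk 20 7108 13399 27 (p1u232) p1r233

theorem p1r234 : allRange pointOk 20 13426 27 = true := by decide +kernel
theorem p1u234 : ∀ k, 7108 ≤ k → k < 13453 → pointOk (k * 20) = true := between_extend pointOk 20 7108 13426 27 (p1u233) p1r234

theorem p1r235 : allRange pointOk 20 13453 27 = true := by decide +kernel
theorem p1u235 : ∀ k, 7108 ≤ k → k < 13480 → pointOk (k * 20) = true := between_extend pointOk 20 7108 13453 27 (p1u234) p1r235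

theorem p1r236 : allRange pointOk 20 13480 27 = true := by decide +kernel
theorem p1u236 : ∀ k, 7108 ≤ k → k < 13507 → pointOk (k * 20) = true := between_extend pointOk 20 7108 13480 27 (p1u235) p1r236

theorem p1r237 : allRange pointOk 20 13507 27 = true := by decide +kernel
theorem p1u237 : ∀ k, 7108 ≤ k → k < 13534 → pointOk (k * 20) = true := between_extend pointOk 20 7108 13507 27 (p1u236) p1r237

theorem p1r238 : allRange pointOk 20 13534 27 = true := by decide +kernel
theorem p1u238 : ∀ k, 7108 ≤ k → k < 13561 → pointOk (k * 20) = true := between_extend pointOk 20 7108 13534 27 (p1u237) p1r238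

theorem p1r239 : allRange pointOk 20 13561 27 = true := by decide +kernel
theorem p1u239 : ∀ k, 7108 ≤ k → k < 13588 → pointOk (k * 20) = true := between_extend pointOk 20 7108 13561 27 (p1u238) p1r239

theorem p1r240 : allRange pointOk 20 13588 27 = true := by decide +kernel
theorem p1u240 : ∀ k, 7108 ≤ k → k < 13615 → pointOk (k * 20) = true := between_extend pointOk 20 7108 13588 27 (p1u239) p1r240

theorem p1r241 : allRange pointOk 20 13615 27 = true := by decide +kernel
theorem p1u241 : ∀ k, 7108 ≤ k → k < 13642 → pointOk (k * 20) = true := between_extend pointOk 20 7108 13615 27 (p1u240) p1r241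

theorem p1r242 : allRange pointOk 20 13642 27 = true := by decide +kernel
theorem p1u242 : ∀ k, 7108 ≤ k → k < 13669 → pointOk (k * 20) = true := between_extend pointOk 20 7108 13642 27 (p1u241) p1r242

theorem p1r243 : allRange pointOk 20 13669 27 = true := by decide +kernel
theorem p1u243 : ∀ k, 7108 ≤ k → k < 13696 → pointOk (k * 20) = true := between_extend pointOk 20 7108 13669 27 (p1u242) p1r243

theorem p1r244 : allRange pointOk 20 13696 27 = true := by decide +kernel
theorem p1u244 : ∀ k, 7108 ≤ k → k < 13723 → pointOk (k * 20) = true := between_extend pointOk 20 7108 13696 27 (p1u243) p1r244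

theorem p1r245 : allRange pointOk 20 13723 27 = true := by decide +kernel
theorem p1u245 : ∀ k, 7108 ≤ k → k < 13750 → pointOk (k * 20) = true := between_extend pointOk 20 7108 13723 27 (p1u244) p1r245

theorem p1r246 : allRange pointOk 20 13750 27 = true := by decide +kernel
theorem p1u246 : ∀ k, 7108 ≤ k → k < 13777 → pointOk (k * 20) = true := between_extend pointOk 20 7108 13750 27 (p1u245) p1r246

theorem p1r247 : allRange pointOk 20 13777 27 = true := by decide +kernel
theorem p1u247 : ∀ k, 7108 ≤ k → k < 13804 → pointOk (k * 20) = true := between_extend pointOk 20 7108 13777 27 (p1u246) p1r247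

theorem p1r248 : allRange pointOk 20 13804 27 = true := by decide +kernel
theorem p1u248 : ∀ k, 7108 ≤ k → k < 13831 → pointOk (k * 20) = true := between_extend pointOk 20 7108 13804 27 (p1u247) p1r248

theorem p1r249 : allRange pointOk 20 13831 27 = true := by decide +kernel
theorem p1u249 : ∀ k, 7108 ≤ k → k < 13858 → pointOk (k * 20) = true := between_extend pointOk 20 7108 13831 27 (p1u248) p1r249

theorem p1r250 : allRange pointOk 20 13858 27 = true := by decide +kernel
theorem p1u250 : ∀ k, 7108 ≤ k → k < 13885 → pointOk (k * 20) = true := between_extend pointOk 20 7108 13858 27 (p1u249) p1r250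

theorem p1r251 : allRange pointOk 20 13885 27 = true := by decide +kernel
theorem p1u251 : ∀ k, 7108 ≤ k → k < 13912 → pointOk (k * 20) = true := between_extend pointOk 20 7108 13885 27 (p1u250) p1r251

theorem p1r252 : allRange pointOk 20 13912 27 = true := by decide +kernel
theorem p1u252 : ∀ k, 7108 ≤ k → k < 13939 → pointOk (k * 20) = true := between_extend pointOk 20 7108 13912 27 (p1u251) p1r252

theorem p1r253 : allRange pointOk 20 13939 27 = true := by decide +kernel
theorem p1u253 : ∀ k, 7108 ≤ k → k < 13966 → pointOk (k * 20) = true := between_extend pointOk 20 7108 13939 27 (p1u252) p1r253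

theorem p1r254 : allRange pointOk 20 13966 27 = true := by decide +kernel
theorem p1u254 : ∀ k, 7108 ≤ k → k < 13993 → pointOk (k * 20) = true := between_extend pointOk 20 7108 13966 27 (p1u253) p1r254

theorem p1r255 : allRange pointOk 20 13993 27 = true := by decide +kernel
theorem p1u255 : ∀ k, 7108 ≤ k → k < 14020 → pointOk (k * 20) = true := between_extend pointOk 20 7108 13993 27 (p1u254) p1r255

theorem p1r256 : allRange pointOk 20 14020 27 = true := by decide +kernel
theorem p1u256 : ∀ k, 7108 ≤ k → k < 14047 → pointOk (k * 20) = true := between_extend pointOk 20 7108 14020 27 (p1u255) p1r256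

theorem p1r257 : allRange pointOk 20 14047 27 = true := by decide +kernel
theorem p1u257 : ∀ k, 7108 ≤ k → k < 14074 → pointOk (k * 20) = true := between_extend pointOk 20 7108 14047 27 (p1u256) p1r257

theorem p1r258 : allRange pointOk 20 14074 27 = true := by decide +kernel
theorem p1u258 : ∀ k, 7108 ≤ k → k < 14101 → pointOk (k * 20) = true := between_extend pointOk 20 7108 14074 27 (p1u257) p1r258

theorem p1r259 : allRange pointOk 20 14101 27 = true := by decide +kernel
theorem p1u259 : ∀ k, 7108 ≤ k → k < 14128 → pointOk (k * 20) = true := between_extend pointOk 20 7108 14101 27 (p1u258) p1r259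

theorem p1r260 : allRange pointOk 20 14128 27 = true := by decide +kernel
theorem p1u260 : ∀ k, 7108 ≤ k → k < 14155 → pointOk (k * 20) = true := between_extend pointOk 20 7108 14128 27 (p1u259) p1r260

theorem p1r261 : allRange pointOk 20 14155 27 = true := by decide +kernel
theorem p1u261 : ∀ k, 7108 ≤ k → k < 14182 → pointOk (k * 20) = true := between_extend pointOk 20 7108 14155 27 (p1u260) p1r261

theorem p1r262 : allRange pointOk 20 14182 27 = true := by decide +kernel
theorem p1u262 : ∀ k, 7108 ≤ k → k < 14209 → pointOk (k * 20) = true := between_extend pointOk 20 7108 14182 27 (p1u261) p1r262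

theorem p1r263 : allRange pointOk 20 14209 7 = true := by decide +kernel
theorem p1u263 : ∀ k, 7108 ≤ k → k < 14216 → pointOk (k * 20) = true := between_extend pointOk 20 7108 14209 7 (p1u262) p1r263

theorem p1 : ∀ k, 7108 ≤ k → k < 14216 → pointOk (k * 20) = true := p1u263

end Cfsg.Agent.Lib.Helper96_Fi24TA
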