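import Cfsg.Agent.Lib.Helper96_Fi24TADef

set_option autoImplicit false
set_option linter.constructorNameAsVariable false
set_option Elab.async false

namespace Cfsg.Agent.Lib.Helper96_Fi24TA

open Cfsg.Agent.Lib.Helper28_CosetPerm

theorem p2r0 : allRange pointOk 20 14216 27 = true := by decide +kernel
theorem p2u0 : ∀ k, 14216 ≤ k → k < 14243 → pointOk (k * 20) = true := between_extend pointOk 20 14216 14216 27 (between_start pointOk 20 14216) p2r0

theorem p2r1 : allRange pointOk 20 14243 27 = true := by decide +kernel
theorem p2u1 : ∀ k, 14216 ≤ k → k < 14270 → pointOk (k * 20) = true := between_extend pointOk 20 14216 14243 27 (p2u0) p2r1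

theorem p2r2 : allRange pointOk 20 14270 27 = true := by decide +kernel
theorem p2u2 : ∀ k, 14216 ≤ k → k < 14297 → pointOk (k * 20) = true := between_extend pointOk 20 14216 14270 27 (p2u1) p2r2

theorem p2r3 : allRange pointOk 20 14297 27 = true := by decide +kernel
theorem p2u3 : ∀ k, 14216 ≤ k → k < 14324 → pointOk (k * 20) = true := between_extend pointOk 20 14216 14297 27 (p2u2) p2r3

theorem p2r4 : allRange pointOk 20 14324 27 = true := by decide +kernel
theorem p2u4 : ∀ k, 14216 ≤ k → k < 14351 → pointOk (k * 20) = true := between_extend pointOk 20 14216 14324 27 (p2u3) p2r4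

theorem p2r5 : allRange pointOk 20 14351 27 = true := by decide +kernel
theorem p2u5 : ∀ k, 14216 ≤ k → k < 14378 → pointOk (k * 20) = true := between_extend pointOk 20 14216 14351 27 (p2u4) p2r5

theorem p2r6 : allRange pointOk 20 14378 27 = true := by decide +kernel
theorem p2u6 : ∀ k, 14216 ≤ k → k < 14405 → pointOk (k * 20) = true := between_extend pointOk 20 14216 14378 27 (p2u5) p2r6

theorem p2r7 : allRange pointOk 20 14405 27 = true := by decide +kernel
theorem p2u7 : ∀ k, 14216 ≤ k → k < 14432 → pointOk (k * 20) = true := between_extend pointOk 20 14216 14405 27 (p2u6) p2r7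

theorem p2r8 : allRange pointOk 20 14432 27 = true := by decide +kernel
theorem p2u8 : ∀ k, 14216 ≤ k → k < 14459 → pointOk (k * 20) = true := between_extend pointOk 20 14216 14432 27 (p2u7) p2r8

theorem p2r9 : allRange pointOk 20 14459 27 = true := by decide +kernel
theorem p2u9 : ∀ k, 14216 ≤ k → k < 14486 → pointOk (k * 20) = true := between_extend pointOk 20 14216 14459 27 (p2u8) p2r9

theorem p2r10 : allRange pointOk 20 14486 27 = true := by decide +kernel
theorem p2u10 : ∀ k, 14216 ≤ k → k < 14513 → pointOk (k * 20) = true := between_extend pointOk 20 14216 14486 27 (p2u9) p2r10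

theorem p2r11 : allRange pointOk 20 14513 27 = true := by decide +kernel
theorem p2u11 : ∀ k, 14216 ≤ k → k < 14540 → pointOk (k * 20) = true := between_extend pointOk 20 14216 14513 27 (p2u10) p2r11

theorem p2r12 : allRange pointOk 20 14540 27 = true := by decide +kernel
theorem p2u12 : ∀ k, 14216 ≤ k → k < 14567 → pointOk (k * 20) = true := between_extend pointOk 20 14216 14540 27 (p2u11) p2r12

theorem p2r13 : allRange pointOk 20 14567 27 = true := by decide +kernel
theorem p2u13 : ∀ k, 14216 ≤ k → k < 14594 → pointOk (k * 20) = true := between_extend pointOk 20 14216 14567 27 (p2u12) p2r13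

theorem p2r14 : allRange pointOk 20 14594 27 = true := by decide +kernel
theorem p2u14 : ∀ k, 14216 ≤ k → k < 14621 → pointOk (k * 20) = true := between_extend pointOk 20 14216 14594 27 (p2u13) p2r14

theorem p2r15 : allRange pointOk 20 14621 27 = true := by decide +kernel
theorem p2u15 : ∀ k, 14216 ≤ k → k < 14648 → pointOk (k * 20) = true := between_extend pointOk 20 14216 14621 27 (p2u14) p2r15

theorem p2r16 : allRange pointOk 20 14648 27 = true := by decide +kernel
theorem p2u16 : ∀ k, 14216 ≤ k → k < 14675 → pointOk (k * 20) = true := between_extend pointOk 20 14216 14648 27 (p2u15) p2r16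

theorem p2r17 : allRange pointOk 20 14675 27 = true := by decide +kernel
theorem p2u17 : ∀ k, 14216 ≤ k → k < 14702 → pointOk (k * 20) = true := between_extend pointOk 20 14216 14675 27 (p2u16) p2r17

theorem p2r18 : allRange pointOk 20 14702 27 = true := by decide +kernel
theorem p2u18 : ∀ k, 14216 ≤ k → k < 14729 → pointOk (k * 20) = true := between_extend pointOk 20 14216 14702 27 (p2u17) p2r18

theorem p2r19 : allRange pointOk 20 14729 27 = true := by decide +kernel
theorem p2u19 : ∀ k, 14216 ≤ k → k < 14756 → pointOk (k * 20) = true := between_extend pointOk 20 14216 14729 27 (p2u18) p2r19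

theorem p2r20 : allRange pointOk 20 14756 27 = true := by decide +kernel
theorem p2u20 : ∀ k, 14216 ≤ k → k < 14783 → pointOk (k * 20) = true := between_extend pointOk 20 14216 14756 27 (p2u19) p2r20

theorem p2r21 : allRange pointOk 20 14783 27 = true := by decide +kernel
theorem p2u21 : ∀ k, 14216 ≤ k → k < 14810 → pointOk (k * 20) = true := between_extend pointOk 20 14216 14783 27 (p2u20) p2r21

theorem p2r22 : allRange pointOk 20 14810 27 = true := by decide +kernel
theorem p2u22 : ∀ k, 14216 ≤ k → k < 14837 → pointOk (k * 20) = true := between_extend pointOk 20 14216 14810 27 (p2u21) p2r22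

theorem p2r23 : allRange pointOk 20 14837 27 = true := by decide +kernel
theorem p2u23 : ∀ k, 14216 ≤ k → k < 14864 → pointOk (k * 20) = true := between_extend pointOk 20 14216 14837 27 (p2u22) p2r23

theorem p2r24 : allRange pointOk 20 14864 27 = true := by decide +kernel
theorem p2u24 : ∀ k, 14216 ≤ k → k < 14891 → pointOk (k * 20) = true := between_extend pointOk 20 14216 14864 27 (p2u23) p2r24

theorem p2r25 : allRange pointOk 20 14891 27 = true := by decide +kernel
theorem p2u25 : ∀ k, 14216 ≤ k → k < 14918 → pointOk (k * 20) = true := between_extend pointOk 20 14216 14891 27 (p2u24) p2r25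

theorem p2r26 : allRange pointOk 20 14918 27 = true := by decide +kernel
theorem p2u26 : ∀ k, 14216 ≤ k → k < 14945 → pointOk (k * 20) = true := between_extend pointOk 20 14216 14918 27 (p2u25) p2r26

theorem p2r27 : allRange pointOk 20 14945 27 = true := by decide +kernel
theorem p2u27 : ∀ k, 14216 ≤ k → k < 14972 → pointOk (k * 20) = true := between_extend pointOk 20 14216 14945 27 (p2u26) p2r27

theorem p2r28 : allRange pointOk 20 14972 27 = true := by decide +kernel
theorem p2u28 : ∀ k, 14216 ≤ k → k < 14999 → pointOk (k * 20) = true := between_extend pointOk 20 14216 14972 27 (p2u27) p2r28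

theorem p2r29 : allRange pointOk 20 14999 27 = true := by decide +kernel
theorem p2u29 : ∀ k, 14216 ≤ k → k < 15026 → pointOk (k * 20) = true := between_extend pointOk 20 14216 14999 27 (p2u28) p2r29

theorem p2r30 : allRange pointOk 20 15026 27 = true := by decide +kernel
theorem p2u30 : ∀ k, 14216 ≤ k → k < 15053 → pointOk (k * 20) = true := between_extend pointOk 20 14216 15026 27 (p2u29) p2r30

theorem p2r31 : allRange pointOk 20 15053 27 = true := by decide +kernel
theorem p2u31 : ∀ k, 14216 ≤ k → k < 15080 → pointOk (k * 20) = true := between_extend pointOk 20 14216 15053 27 (p2u30) p2r31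

theorem p2r32 : allRange pointOk 20 15080 27 = true := by decide +kernel
theorem p2u32 : ∀ k, 14216 ≤ k → k < 15107 → pointOk (k * 20) = true := between_extend pointOk 20 14216 15080 27 (p2u31) p2r32

theorem p2r33 : allRange pointOk 20 15107 27 = true := by decide +kernel
theorem p2u33 : ∀ k, 14216 ≤ k → k < 15134 → pointOk (k * 20) = true := between_extend pointOk 20 14216 15107 27 (p2u32) p2r33

theorem p2r34 : allRange pointOk 20 15134 27 = true := by decide +kernel
theorem p2u34 : ∀ k, 14216 ≤ k → k < 15161 → pointOk (k * 20) = true := between_extend pointOk 20 14216 15134 27 (p2u33) p2r34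

theorem p2r35 : allRange pointOk 20 15161 27 = true := by decide +kernel
theorem p2u35 : ∀ k, 14216 ≤ k → k < 15188 → pointOk (k * 20) = true := between_extend pointOk 20 14216 15161 27 (p2u34) p2r35

theorem p2r36 : allRange pointOk 20 15188 27 = true := by decide +kernel
theorem p2u36 : ∀ k, 14216 ≤ k → k < 15215 → pointOk (k * 20) = true := between_extend pointOk 20 14216 15188 27 (p2u35) p2r36

theorem p2r37 : allRange pointOk 20 15215 27 = true := by decide +kernel
theorem p2u37 : ∀ k, 14216 ≤ k → k < 15242 → pointOk (k * 20) = true := between_extend pointOk 20 14216 15215 27 (p2u36) p2r37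

theorem p2r38 : allRange pointOk 20 15242 27 = true := by decide +kernel
theorem p2u38 : ∀ k, 14216 ≤ k → k < 15269 → pointOk (k * 20) = true := between_extend pointOk 20 14216 15242 27 (p2u37) p2r38

theorem p2r39 : allRange pointOk 20 15269 27 = true := by decide +kernel
theorem p2u39 : ∀ k, 14216 ≤ k → k < 15296 → pointOk (k * 20) = true := between_extend pointOk 20 14216 15269 27 (p2u38) p2r39

theorem p2r40 : allRange pointOk 20 15296 27 = true := by decide +kernel
theorem p2u40 : ∀ k, 14216 ≤ k → k < 15323 → pointOk (k * 20) = true := between_extend pointOk 20 14216 15296 27 (p2u39) p2r40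

theorem p2r41 : allRange pointOk 20 15323 27 = true := by decide +kernel
theorem p2u41 : ∀ k, 14216 ≤ k → k < 15350 → pointOk (k * 20) = true := between_extend pointOk 20 14216 15323 27 (p2u40) p2r41

theorem p2r42 : allRange pointOk 20 15350 27 = true := by decide +kernel
theorem p2u42 : ∀ k, 14216 ≤ k → k < 15377 → pointOk (k * 20) = true := between_extend pointOk 20 14216 15350 27 (p2u41) p2r42

theorem p2r43 : allRange pointOk 20 15377 27 = true := by decide +kernel
theorem p2u43 : ∀ k, 14216 ≤ k → k < 15404 → pointOk (k * 20) = true := between_extend pointOk 20 14216 15377 27 (p2u42) p2r43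

theorem p2r44 : allRange pointOk 20 15404 27 = true := by decide +kernel
theorem p2u44 : ∀ k, 14216 ≤ k → k < 15431 → pointOk (k * 20) = true := between_extend pointOk 20 14216 15404 27 (p2u43) p2r44

theorem p2r45 : allRange pointOk 20 15431 27 = true := by decide +kernel
theorem p2u45 : ∀ k, 14216 ≤ k → k < 15458 → pointOk (k * 20) = true := between_extend pointOk 20 14216 15431 27 (p2u44) p2r45

theorem p2r46 : allRange pointOk 20 15458 27 = true := by decide +kernel
theorem p2u46 : ∀ k, 14216 ≤ k → k < 15485 → pointOk (k * 20) = true := between_extend pointOk 20 14216 15458 27 (p2u45) p2r46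

theorem p2r47 : allRange pointOk 20 15485 27 = true := by decide +kernel
theorem p2u47 : ∀ k, 14216 ≤ k → k < 15512 → pointOk (k * 20) = true := between_extend pointOk 20 14216 15485 27 (p2u46) p2r47

theorem p2r48 : allRange pointOk 20 15512 27 = true := by decide +kernel
theorem p2u48 : ∀ k, 14216 ≤ k → k < 15539 → pointOk (k * 20) = true := between_extend pointOk 20 14216 15512 27 (p2u47) p2r48

theorem p2r49 : allRange pointOk 20 15539 27 = true := by decide +kernel
theorem p2u49 : ∀ k, 14216 ≤ k → k < 15566 → pointOk (k * 20) = true := between_extend pointOk 20 14216 15539 27 (p2u48) p2r49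

theorem p2r50 : allRange pointOk 20 15566 27 = true := by decide +kernel
theorem p2u50 : ∀ k, 14216 ≤ k → k < 15593 → pointOk (k * 20) = true := between_extend pointOk 20 14216 15566 27 (p2u49) p2r50

theorem p2r51 : allRange pointOk 20 15593 27 = true := by decide +kernel
theorem p2u51 : ∀ k, 14216 ≤ k → k < 15620 → pointOk (k * 20) = true := between_extend pointOk 20 14216 15593 27 (p2u50) p2r51

theorem p2r52 : allRange pointOk 20 15620 27 = true := by decide +kernel
theorem p2u52 : ∀ k, 14216 ≤ k → k < 15647 → pointOk (k * 20) = true := between_extend pointOk 20 14216 15620 27 (p2u51) p2r52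

theorem p2r53 : allRange pointOk 20 15647 27 = true := by decide +kernel
theorem p2u53 : ∀ k, 14216 ≤ k → k < 15674 → pointOk (k * 20) = true := between_extend pointOk 20 14216 15647 27 (p2u52) p2r53

theorem p2r54 : allRange pointOk 20 15674 27 = true := by decide +kernel
theorem p2u54 : ∀ k, 14216 ≤ k → k < 15701 → pointOk (k * 20) = true := between_extend pointOk 20 14216 15674 27 (p2u53) p2r54

theorem p2r55 : allRange pointOk 20 15701 27 = true := by decide +kernel
theorem p2u55 : ∀ k, 14216 ≤ k → k < 15728 → pointOk (k * 20) = true := between_extend pointOk 20 14216 15701 27 (p2u54) p2r55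

theorem p2r56 : allRange pointOk 20 15728 27 = true := by decide +kernel
theorem p2u56 : ∀ k, 14216 ≤ k → k < 15755 → pointOk (k * 20) = true := between_extend pointOk 20 14216 15728 27 (p2u55) p2r56

theorem p2r57 : allRange pointOk 20 15755 27 = true := by decide +kernel
theorem p2u57 : ∀ k, 14216 ≤ k → k < 15782 → pointOk (k * 20) = true := between_extend pointOk 20 14216 15755 27 (p2u56) p2r57

theorem p2r58 : allRange pointOk 20 15782 27 = true := by decide +kernel
theorem p2u58 : ∀ k, 14216 ≤ k → k < 15809 → pointOk (k * 20) = true := between_extend pointOk 20 14216 15782 27 (p2u57) p2r58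

theorem p2r59 : allRange pointOk 20 15809 27 = true := by decide +kernel
theorem p2u59 : ∀ k, 14216 ≤ k → k < 15836 → pointOk (k * 20) = true := between_extend pointOk 20 14216 15809 27 (p2u58) p2r59

theorem p2r60 : allRange pointOk 20 15836 27 = true := by decide +kernel
theorem p2u60 : ∀ k, 14216 ≤ k → k < 15863 → pointOk (k * 20) = true := between_extend pointOk 20 14216 15836 27 (p2u59) p2r60

theorem p2r61 : allRange pointOk 20 15863 27 = true := by decide +kernel
theorem p2u61 : ∀ k, 14216 ≤ k → k < 15890 → pointOk (k * 20) = true := between_extend pointOk 20 14216 15863 27 (p2u60) p2r61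

theorem p2r62 : allRange pointOk 20 15890 27 = true := by decide +kernel
theorem p2u62 : ∀ k, 14216 ≤ k → k < 15917 → pointOk (k * 20) = true := between_extend pointOk 20 14216 15890 27 (p2u61) p2r62

theorem p2r63 : allRange pointOk 20 15917 27 = true := by decide +kernel
theorem p2u63 : ∀ k, 14216 ≤ k → k < 15944 → pointOk (k * 20) = true := between_extend pointOk 20 14216 15917 27 (p2u62) p2r63

theorem p2r64 : allRange pointOk 20 15944 27 = true := by decide +kernel
theorem p2u64 : ∀ k, 14216 ≤ k → k < 15971 → pointOk (k * 20) = true := between_extend pointOk 20 14216 15944 27 (p2u63) p2r64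

theorem p2r65 : allRange pointOk 20 15971 27 = true := by decide +kernel
theorem p2u65 : ∀ k, 14216 ≤ k → k < 15998 → pointOk (k * 20) = true := between_extend pointOk 20 14216 15971 27 (p2u64) p2r65

theorem p2r66 : allRange pointOk 20 15998 27 = true := by decide +kernel
theorem p2u66 : ∀ k, 14216 ≤ k → k < 16025 → pointOk (k * 20) = true := between_extend pointOk 20 14216 15998 27 (p2u65) p2r66

theorem p2r67 : allRange pointOk 20 16025 27 = true := by decide +kernel
theorem p2u67 : ∀ k, 14216 ≤ k → k < 16052 → pointOk (k * 20) = true := between_extend pointOk 20 14216 16025 27 (p2u66) p2r67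

theorem p2r68 : allRange pointOk 20 16052 27 = true := by decide +kernel
theorem p2u68 : ∀ k, 14216 ≤ k → k < 16079 → pointOk (k * 20) = true := between_extend pointOk 20 14216 16052 27 (p2u67) p2r68

theorem p2r69 : allRange pointOk 20 16079 27 = true := by decide +kernel
theorem p2u69 : ∀ k, 14216 ≤ k → k < 16106 → pointOk (k * 20) = true := between_extend pointOk 20 14216 16079 27 (p2u68) p2r69

theorem p2r70 : allRange pointOk 20 16106 27 = true := by decide +kernel
theorem p2u70 : ∀ k, 14216 ≤ k → k < 16133 → pointOk (k * 20) = true := between_extend pointOk 20 14216 16106 27 (p2u69) p2r70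

theorem p2r71 : allRange pointOk 20 16133 27 = true := by decide +kernel
theorem p2u71 : ∀ k, 14216 ≤ k → k < 16160 → pointOk (k * 20) = true := between_extend pointOk 20 14216 16133 27 (p2u70) p2r71

theorem p2r72 : allRange pointOk 20 16160 27 = true := by decide +kernel
theorem p2u72 : ∀ k, 14216 ≤ k → k < 16187 → pointOk (k * 20) = true := between_extend pointOk 20 14216 16160 27 (p2u71) p2r72

theorem p2r73 : allRange pointOk 20 16187 27 = true := by decide +kernel
theorem p2u73 : ∀ k, 14216 ≤ k → k < 16214 → pointOk (k * 20) = true := between_extend pointOk 20 14216 16187 27 (p2u72) p2r73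

theorem p2r74 : allRange pointOk 20 16214 27 = true := by decide +kernel
theorem p2u74 : ∀ k, 14216 ≤ k → k < 16241 → pointOk (k * 20) = true := between_extend pointOk 20 14216 16214 27 (p2u73) p2r74

theorem p2r75 : allRange pointOk 20 16241 27 = true := by decide +kernel
theorem p2u75 : ∀ k, 14216 ≤ k → k < 16268 → pointOk (k * 20) = true := between_extend pointOk 20 14216 16241 27 (p2u74) p2r75

theorem p2r76 : allRange pointOk 20 16268 27 = true := by decide +kernel
theorem p2u76 : ∀ k, 14216 ≤ k → k < 16295 → pointOk (k * 20) = true := between_extend pointOk 20 14216 16268 27 (p2u75) p2r76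

theorem p2r77 : allRange pointOk 20 16295 27 = true := by decide +kernel
theorem p2u77 : ∀ k, 14216 ≤ k → k < 16322 → pointOk (k * 20) = true := between_extend pointOk 20 14216 16295 27 (p2u76) p2r77

theorem p2r78 : allRange pointOk 20 16322 27 = true := by decide +kernel
theorem p2u78 : ∀ k, 14216 ≤ k → k < 16349 → pointOk (k * 20) = true := between_extend pointOk 20 14216 16322 27 (p2u77) p2r78

theorem p2r79 : allRange pointOk 20 16349 27 = true := by decide +kernel
theorem p2u79 : ∀ k, 14216 ≤ k → k < 16376 → pointOk (k * 20) = true := between_extend pointOk 20 14216 16349 27 (p2u78) p2r79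

theorem p2r80 : allRange pointOk 20 16376 27 = true := by decide +kernel
theorem p2u80 : ∀ k, 14216 ≤ k → k < 16403 → pointOk (k * 20) = true := between_extend pointOk 20 14216 16376 27 (p2u79) p2r80

theorem p2r81 : allRange pointOk 20 16403 27 = true := by decide +kernel
theorem p2u81 : ∀ k, 14216 ≤ k → k < 16430 → pointOk (k * 20) = true := between_extend pointOk 20 14216 16403 27 (p2u80) p2r81

theorem p2r82 : allRange pointOk 20 16430 27 = true := by decide +kernel
theorem p2u82 : ∀ k, 14216 ≤ k → k < 16457 → pointOk (k * 20) = true := between_extend pointOk 20 14216 16430 27 (p2u81) p2r82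

theorem p2r83 : allRange pointOk 20 16457 27 = true := by decide +kernel
theorem p2u83 : ∀ k, 14216 ≤ k → k < 16484 → pointOk (k * 20) = true := between_extend pointOk 20 14216 16457 27 (p2u82) p2r83

theorem p2r84 : allRange pointOk 20 16484 27 = true := by decide +kernel
theorem p2u84 : ∀ k, 14216 ≤ k → k < 16511 → pointOk (k * 20) = true := between_extend pointOk 20 14216 16484 27 (p2u83) p2r84

theorem p2r85 : allRange pointOk 20 16511 27 = true := by decide +kernel
theorem p2u85 : ∀ k, 14216 ≤ k → k < 16538 → pointOk (k * 20) = true := between_extend pointOk 20 14216 16511 27 (p2u84) p2r85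

theorem p2r86 : allRange pointOk 20 16538 27 = true := by decide +kernel
theorem p2u86 : ∀ k, 14216 ≤ k → k < 16565 → pointOk (k * 20) = true := between_extend pointOk 20 14216 16538 27 (p2u85) p2r86

theorem p2r87 : allRange pointOk 20 16565 27 = true := by decide +kernel
theorem p2u87 : ∀ k, 14216 ≤ k → k < 16592 → pointOk (k * 20) = true := between_extend pointOk 20 14216 16565 27 (p2u86) p2r87

theorem p2r88 : allRange pointOk 20 16592 27 = true := by decide +kernel
theorem p2u88 : ∀ k, 14216 ≤ k → k < 16619 → pointOk (k * 20) = true := between_extend pointOk 20 14216 16592 27 (p2u87) p2r88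

theorem p2r89 : allRange pointOk 20 16619 27 = true := by decide +kernel
theorem p2u89 : ∀ k, 14216 ≤ k → k < 16646 → pointOk (k * 20) = true := between_extend pointOk 20 14216 16619 27 (p2u88) p2r89

theorem p2r90 : allRange pointOk 20 16646 27 = true := by decide +kernel
theorem p2u90 : ∀ k, 14216 ≤ k → k < 16673 → pointOk (k * 20) = true := between_extend pointOk 20 14216 16646 27 (p2u89) p2r90

theorem p2r91 : allRange pointOk 20 16673 27 = true := by decide +kernel
theorem p2u91 : ∀ k, 14216 ≤ k → k < 16700 → pointOk (k * 20) = true := between_extend pointOk 20 14216 16673 27 (p2u90) p2r91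

theorem p2r92 : allRange pointOk 20 16700 27 = true := by decide +kernel
theorem p2u92 : ∀ k, 14216 ≤ k → k < 16727 → pointOk (k * 20) = true := between_extend pointOk 20 14216 16700 27 (p2u91) p2r92

theorem p2r93 : allRange pointOk 20 16727 27 = true := by decide +kernel
theorem p2u93 : ∀ k, 14216 ≤ k → k < 16754 → pointOk (k * 20) = true := between_extend pointOk 20 14216 16727 27 (p2u92) p2r93

theorem p2r94 : allRange pointOk 20 16754 27 = true := by decide +kernel
theorem p2u94 : ∀ k, 14216 ≤ k → k < 16781 → pointOk (k * 20) = true := between_extend pointOk 20 14216 16754 27 (p2u93) p2r94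

theorem p2r95 : allRange pointOk 20 16781 27 = true := by decide +kernel
theorem p2u95 : ∀ k, 14216 ≤ k → k < 16808 → pointOk (k * 20) = true := between_extend pointOk 20 14216 16781 27 (p2u94) p2r95

theorem p2r96 : allRange pointOk 20 16808 27 = true := by decide +kernel
theorem p2u96 : ∀ k, 14216 ≤ k → k < 16835 → pointOk (k * 20) = true := between_extend pointOk 20 14216 16808 27 (p2u95) p2r96

theorem p2r97 : allRange pointOk 20 16835 27 = true := by decide +kernel
theorem p2u97 : ∀ k, 14216 ≤ k → k < 16862 → pointOk (k * 20) = true := between_extend pointOk 20 14216 16835 27 (p2u96) p2r97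

theorem p2r98 : allRange pointOk 20 16862 27 = true := by decide +kernel
theorem p2u98 : ∀ k, 14216 ≤ k → k < 16889 → pointOk (k * 20) = true := between_extend pointOk 20 14216 16862 27 (p2u97) p2r98

theorem p2r99 : allRange pointOk 20 16889 27 = true := by decide +kernel
theorem p2u99 : ∀ k, 14216 ≤ k → k < 16916 → pointOk (k * 20) = true := between_extend pointOk 20 14216 16889 27 (p2u98) p2r99

theorem p2r100 : allRange pointOk 20 16916 27 = true := by decide +kernel
theorem p2u100 : ∀ k, 14216 ≤ k → k < 16943 → pointOk (k * 20) = true := between_extend pointOk 20 14216 16916 27 (p2u99) p2r100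

theorem p2r101 : allRange pointOk 20 16943 27 = true := by decide +kernel
theorem p2u101 : ∀ k, 14216 ≤ k → k < 16970 → pointOk (k * 20) = true := between_extend pointOk 20 14216 16943 27 (p2u100) p2r101

theorem p2r102 : allRange pointOk 20 16970 27 = true := by decide +kernel
theorem p2u102 : ∀ k, 14216 ≤ k → k < 16997 → pointOk (k * 20) = true := between_extend pointOk 20 14216 16970 27 (p2u101) p2r102

theorem p2r103 : allRange pointOk 20 16997 27 = true := by decide +kernel
theorem p2u103 : ∀ k, 14216 ≤ k → k < 17024 → pointOk (k * 20) = true := between_extend pointOk 20 14216 16997 27 (p2u102) p2r103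

theorem p2r104 : allRange pointOk 20 17024 27 = true := by decide +kernel
theorem p2u104 : ∀ k, 14216 ≤ k → k < 17051 → pointOk (k * 20) = true := between_extend pointOk 20 14216 17024 27 (p2u103) p2r104

theorem p2r105 : allRange pointOk 20 17051 27 = true := by decide +kernel
theorem p2u105 : ∀ k, 14216 ≤ k → k < 17078 → pointOk (k * 20) = true := between_extend pointOk 20 14216 17051 27 (p2u104) p2r105

theorem p2r106 : allRange pointOk 20 17078 27 = true := by decide +kernel
theorem p2u106 : ∀ k, 14216 ≤ k → k < 17105 → pointOk (k * 20) = true := between_extend pointOk 20 14216 17078 27 (p2u105) p2r106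

theorem p2r107 : allRange pointOk 20 17105 27 = true := by decide +kernel
theorem p2u107 : ∀ k, 14216 ≤ k → k < 17132 → pointOk (k * 20) = true := between_extend pointOk 20 14216 17105 27 (p2u106) p2r107

theorem p2r108 : allRange pointOk 20 17132 27 = true := by decide +kernel
theorem p2u108 : ∀ k, 14216 ≤ k → k < 17159 → pointOk (k * 20) = true := between_extend pointOk 20 14216 17132 27 (p2u107) p2r108

theorem p2r109 : allRange pointOk 20 17159 27 = true := by decide +kernel
theorem p2u109 : ∀ k, 14216 ≤ k → k < 17186 → pointOk (k * 20) = true := between_extend pointOk 20 14216 17159 27 (p2u108) p2r109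

theorem p2r110 : allRange pointOk 20 17186 27 = true := by decide +kernel
theorem p2u110 : ∀ k, 14216 ≤ k → k < 17213 → pointOk (k * 20) = true := between_extend pointOk 20 14216 17186 27 (p2u109) p2r110

theorem p2r111 : allRange pointOk 20 17213 27 = true := by decide +kernel
theorem p2u111 : ∀ k, 14216 ≤ k → k < 17240 → pointOk (k * 20) = true := between_extend pointOk 20 14216 17213 27 (p2u110) p2r111

theorem p2r112 : allRange pointOk 20 17240 27 = true := by decide +kernel
theorem p2u112 : ∀ k, 14216 ≤ k → k < 17267 → pointOk (k * 20) = true := between_extend pointOk 20 14216 17240 27 (p2u111) p2r112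

theorem p2r113 : allRange pointOk 20 17267 27 = true := by decide +kernel
theorem p2u113 : ∀ k, 14216 ≤ k → k < 17294 → pointOk (k * 20) = true := between_extend pointOk 20 14216 17267 27 (p2u112) p2r113

theorem p2r114 : allRange pointOk 20 17294 27 = true := by decide +kernel
theorem p2u114 : ∀ k, 14216 ≤ k → k < 17321 → pointOk (k * 20) = true := between_extend pointOk 20 14216 17294 27 (p2u113) p2r114

theorem p2r115 : allRange pointOk 20 17321 27 = true := by decide +kernel
theorem p2u115 : ∀ k, 14216 ≤ k → k < 17348 → pointOk (k * 20) = true := between_extend pointOk 20 14216 17321 27 (p2u114) p2r115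

theorem p2r116 : allRange pointOk 20 17348 27 = true := by decide +kernel
theorem p2u116 : ∀ k, 14216 ≤ k → k < 17375 → pointOk (k * 20) = true := between_extend pointOk 20 14216 17348 27 (p2u115) p2r116

theorem p2r117 : allRange pointOk 20 17375 27 = true := by decide +kernel
theorem p2u117 : ∀ k, 14216 ≤ k → k < 17402 → pointOk (k * 20) = true := between_extend pointOk 20 14216 17375 27 (p2u116) p2r117

theorem p2r118 : allRange pointOk 20 17402 27 = true := by decide +kernel
theorem p2u118 : ∀ k, 14216 ≤ k → k < 17429 → pointOk (k * 20) = true := between_extend pointOk 20 14216 17402 27 (p2u117) p2r118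

theorem p2r119 : allRange pointOk 20 17429 27 = true := by decide +kernel
theorem p2u119 : ∀ k, 14216 ≤ k → k < 17456 → pointOk (k * 20) = true := between_extend pointOk 20 14216 17429 27 (p2u118) p2r119

theorem p2r120 : allRange pointOk 20 17456 27 = true := by decide +kernel
theorem p2u120 : ∀ k, 14216 ≤ k → k < 17483 → pointOk (k * 20) = true := between_extend pointOk 20 14216 17456 27 (p2u119) p2r120

theorem p2r121 : allRange pointOk 20 17483 27 = true := by decide +kernel
theorem p2u121 : ∀ k, 14216 ≤ k → k < 17510 → pointOk (k * 20) = true := between_extend pointOk 20 14216 17483 27 (p2u120) p2r121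

theorem p2r122 : allRange pointOk 20 17510 27 = true := by decide +kernel
theorem p2u122 : ∀ k, 14216 ≤ k → k < 17537 → pointOk (k * 20) = true := between_extend pointOk 20 14216 17510 27 (p2u121) p2r122

theorem p2r123 : allRange pointOk 20 17537 27 = true := by decide +kernel
theorem p2u123 : ∀ k, 14216 ≤ k → k < 17564 → pointOk (k * 20) = true := between_extend pointOk 20 14216 17537 27 (p2u122) p2r123

theorem p2r124 : allRange pointOk 20 17564 27 = true := by decide +kernel
theorem p2u124 : ∀ k, 14216 ≤ k → k < 17591 → pointOk (k * 20) = true := between_extend pointOk 20 14216 17564 27 (p2u123) p2r124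

theorem p2r125 : allRange pointOk 20 17591 27 = true := by decide +kernel
theorem p2u125 : ∀ k, 14216 ≤ k → k < 17618 → pointOk (k * 20) = true := between_extend pointOk 20 14216 17591 27 (p2u124) p2r125

theorem p2r126 : allRange pointOk 20 17618 27 = true := by decide +kernel
theorem p2u126 : ∀ k, 14216 ≤ k → k < 17645 → pointOk (k * 20) = true := between_extend pointOk 20 14216 17618 27 (p2u125) p2r126

theorem p2r127 : allRange pointOk 20 17645 27 = true := by decide +kernel
theorem p2u127 : ∀ k, 14216 ≤ k → k < 17672 → pointOk (k * 20) = true := between_extend pointOk 20 14216 17645 27 (p2u126) p2r127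

theorem p2r128 : allRange pointOk 20 17672 27 = true := by decide +kernel
theorem p2u128 : ∀ k, 14216 ≤ k → k < 17699 → pointOk (k * 20) = true := between_extend pointOk 20 14216 17672 27 (p2u127) p2r128

theorem p2r129 : allRange pointOk 20 17699 27 = true := by decide +kernel
theorem p2u129 : ∀ k, 14216 ≤ k → k < 17726 → pointOk (k * 20) = true := between_extend pointOk 20 14216 17699 27 (p2u128) p2r129

theorem p2r130 : allRange pointOk 20 17726 27 = true := by decide +kernel
theorem p2u130 : ∀ k, 14216 ≤ k → k < 17753 → pointOk (k * 20) = true := between_extend pointOk 20 14216 17726 27 (p2u129) p2r130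

theorem p2r131 : allRange pointOk 20 17753 27 = true := by decide +kernel
theorem p2u131 : ∀ k, 14216 ≤ k → k < 17780 → pointOk (k * 20) = true := between_extend pointOk 20 14216 17753 27 (p2u130) p2r131

theorem p2r132 : allRange pointOk 20 17780 27 = true := by decide +kernel
theorem p2u132 : ∀ k, 14216 ≤ k → k < 17807 → pointOk (k * 20) = true := between_extend pointOk 20 14216 17780 27 (p2u131) p2r132

theorem p2r133 : allRange pointOk 20 17807 27 = true := by decide +kernel
theorem p2u133 : ∀ k, 14216 ≤ k → k < 17834 → pointOk (k * 20) = true := between_extend pointOk 20 14216 17807 27 (p2u132) p2r133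

theorem p2r134 : allRange pointOk 20 17834 27 = true := by decide +kernel
theorem p2u134 : ∀ k, 14216 ≤ k → k < 17861 → pointOk (k * 20) = true := between_extend pointOk 20 14216 17834 27 (p2u133) p2r134

theorem p2r135 : allRange pointOk 20 17861 27 = true := by decide +kernel
theorem p2u135 : ∀ k, 14216 ≤ k → k < 17888 → pointOk (k * 20) = true := between_extend pointOk 20 14216 17861 27 (p2u134) p2r135

theorem p2r136 : allRange pointOk 20 17888 27 = true := by decide +kernel
theorem p2u136 : ∀ k, 14216 ≤ k → k < 17915 → pointOk (k * 20) = true := between_extend pointOk 20 14216 17888 27 (p2u135) p2r136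

theorem p2r137 : allRange pointOk 20 17915 27 = true := by decide +kernel
theorem p2u137 : ∀ k, 14216 ≤ k → k < 17942 → pointOk (k * 20) = true := between_extend pointOk 20 14216 17915 27 (p2u136) p2r137

theorem p2r138 : allRange pointOk 20 17942 27 = true := by decide +kernel
theorem p2u138 : ∀ k, 14216 ≤ k → k < 17969 → pointOk (k * 20) = true := between_extend pointOk 20 14216 17942 27 (p2u137) p2r138

theorem p2r139 : allRange pointOk 20 17969 27 = true := by decide +kernel
theorem p2u139 : ∀ k, 14216 ≤ k → k < 17996 → pointOk (k * 20) = true := between_extend pointOk 20 14216 17969 27 (p2u138) p2r139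

theorem p2r140 : allRange pointOk 20 17996 27 = true := by decide +kernel
theorem p2u140 : ∀ k, 14216 ≤ k → k < 18023 → pointOk (k * 20) = true := between_extend pointOk 20 14216 17996 27 (p2u139) p2r140

theorem p2r141 : allRange pointOk 20 18023 27 = true := by decide +kernel
theorem p2u141 : ∀ k, 14216 ≤ k → k < 18050 → pointOk (k * 20) = true := between_extend pointOk 20 14216 18023 27 (p2u140) p2r141

theorem p2r142 : allRange pointOk 20 18050 27 = true := by decide +kernel
theorem p2u142 : ∀ k, 14216 ≤ k → k < 18077 → pointOk (k * 20) = true := between_extend pointOk 20 14216 18050 27 (p2u141) p2r142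

theorem p2r143 : allRange pointOk 20 18077 27 = true := by decide +kernel
theorem p2u143 : ∀ k, 14216 ≤ k → k < 18104 → pointOk (k * 20) = true := between_extend pointOk 20 14216 18077 27 (p2u142) p2r143

theorem p2r144 : allRange pointOk 20 18104 27 = true := by decide +kernel
theorem p2u144 : ∀ k, 14216 ≤ k → k < 18131 → pointOk (k * 20) = true := between_extend pointOk 20 14216 18104 27 (p2u143) p2r144

theorem p2r145 : allRange pointOk 20 18131 27 = true := by decide +kernel
theorem p2u145 : ∀ k, 14216 ≤ k → k < 18158 → pointOk (k * 20) = true := between_extend pointOk 20 14216 18131 27 (p2u144) p2r145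

theorem p2r146 : allRange pointOk 20 18158 27 = true := by decide +kernel
theorem p2u146 : ∀ k, 14216 ≤ k → k < 18185 → pointOk (k * 20) = true := between_extend pointOk 20 14216 18158 27 (p2u145) p2r146

theorem p2r147 : allRange pointOk 20 18185 27 = true := by decide +kernel
theorem p2u147 : ∀ k, 14216 ≤ k → k < 18212 → pointOk (k * 20) = true := between_extend pointOk 20 14216 18185 27 (p2u146) p2r147

theorem p2r148 : allRange pointOk 20 18212 27 = true := by decide +kernel
theorem p2u148 : ∀ k, 14216 ≤ k → k < 18239 → pointOk (k * 20) = true := between_extend pointOk 20 14216 18212 27 (p2u147) p2r148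

theorem p2r149 : allRange pointOk 20 18239 27 = true := by decide +kernel
theorem p2u149 : ∀ k, 14216 ≤ k → k < 18266 → pointOk (k * 20) = true := between_extend pointOk 20 14216 18239 27 (p2u148) p2r149

theorem p2r150 : allRange pointOk 20 18266 27 = true := by decide +kernel
theorem p2u150 : ∀ k, 14216 ≤ k → k < 18293 → pointOk (k * 20) = true := between_extend pointOk 20 14216 18266 27 (p2u149) p2r150

theorem p2r151 : allRange pointOk 20 18293 27 = true := by decide +kernel
theorem p2u151 : ∀ k, 14216 ≤ k → k < 18320 → pointOk (k * 20) = true := between_extend pointOk 20 14216 18293 27 (p2u150) p2r151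

theorem p2r152 : allRange pointOk 20 18320 27 = true := by decide +kernel
theorem p2u152 : ∀ k, 14216 ≤ k → k < 18347 → pointOk (k * 20) = true := between_extend pointOk 20 14216 18320 27 (p2u151) p2r152

theorem p2r153 : allRange pointOk 20 18347 27 = true := by decide +kernel
theorem p2u153 : ∀ k, 14216 ≤ k → k < 18374 → pointOk (k * 20) = true := between_extend pointOk 20 14216 18347 27 (p2u152) p2r153

theorem p2r154 : allRange pointOk 20 18374 27 = true := by decide +kernel
theorem p2u154 : ∀ k, 14216 ≤ k → k < 18401 → pointOk (k * 20) = true := between_extend pointOk 20 14216 18374 27 (p2u153) p2r154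

theorem p2r155 : allRange pointOk 20 18401 27 = true := by decide +kernel
theorem p2u155 : ∀ k, 14216 ≤ k → k < 18428 → pointOk (k * 20) = true := between_extend pointOk 20 14216 18401 27 (p2u154) p2r155

theorem p2r156 : allRange pointOk 20 18428 27 = true := by decide +kernel
theorem p2u156 : ∀ k, 14216 ≤ k → k < 18455 → pointOk (k * 20) = true := between_extend pointOk 20 14216 18428 27 (p2u155) p2r156

theorem p2r157 : allRange pointOk 20 18455 27 = true := by decide +kernel
theorem p2u157 : ∀ k, 14216 ≤ k → k < 18482 → pointOk (k * 20) = true := between_extend pointOk 20 14216 18455 27 (p2u156) p2r157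

theorem p2r158 : allRange pointOk 20 18482 27 = true := by decide +kernel
theorem p2u158 : ∀ k, 14216 ≤ k → k < 18509 → pointOk (k * 20) = true := between_extend pointOk 20 14216 18482 27 (p2u157) p2r158

theorem p2r159 : allRange pointOk 20 18509 27 = true := by decide +kernel
theorem p2u159 : ∀ k, 14216 ≤ k → k < 18536 → pointOk (k * 20) = true := between_extend pointOk 20 14216 18509 27 (p2u158) p2r159

theorem p2r160 : allRange pointOk 20 18536 27 = true := by decide +kernel
theorem p2u160 : ∀ k, 14216 ≤ k → k < 18563 → pointOk (k * 20) = true := between_extend pointOk 20 14216 18536 27 (p2u159) p2r160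

theorem p2r161 : allRange pointOk 20 18563 27 = true := by decide +kernel
theorem p2u161 : ∀ k, 14216 ≤ k → k < 18590 → pointOk (k * 20) = true := between_extend pointOk 20 14216 18563 27 (p2u160) p2r161

theorem p2r162 : allRange pointOk 20 18590 27 = true := by decide +kernel
theorem p2u162 : ∀ k, 14216 ≤ k → k < 18617 → pointOk (k * 20) = true := between_extend pointOk 20 14216 18590 27 (p2u161) p2r162

theorem p2r163 : allRange pointOk 20 18617 27 = true := by decide +kernel
theorem p2u163 : ∀ k, 14216 ≤ k → k < 18644 → pointOk (k * 20) = true := between_extend pointOk 20 14216 18617 27 (p2u162) p2r163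

theorem p2r164 : allRange pointOk 20 18644 27 = true := by decide +kernel
theorem p2u164 : ∀ k, 14216 ≤ k → k < 18671 → pointOk (k * 20) = true := between_extend pointOk 20 14216 18644 27 (p2u163) p2r164

theorem p2r165 : allRange pointOk 20 18671 27 = true := by decide +kernel
theorem p2u165 : ∀ k, 14216 ≤ k → k < 18698 → pointOk (k * 20) = true := between_extend pointOk 20 14216 18671 27 (p2u164) p2r165

theorem p2r166 : allRange pointOk 20 18698 27 = true := by decide +kernel
theorem p2u166 : ∀ k, 14216 ≤ k → k < 18725 → pointOk (k * 20) = true := between_extend pointOk 20 14216 18698 27 (p2u165) p2r166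

theorem p2r167 : allRange pointOk 20 18725 27 = true := by decide +kernel
theorem p2u167 : ∀ k, 14216 ≤ k → k < 18752 → pointOk (k * 20) = true := between_extend pointOk 20 14216 18725 27 (p2u166) p2r167

theorem p2r168 : allRange pointOk 20 18752 27 = true := by decide +kernel
theorem p2u168 : ∀ k, 14216 ≤ k → k < 18779 → pointOk (k * 20) = true := between_extend pointOk 20 14216 18752 27 (p2u167) p2r168

theorem p2r169 : allRange pointOk 20 18779 27 = true := by decide +kernel
theorem p2u169 : ∀ k, 14216 ≤ k → k < 18806 → pointOk (k * 20) = true := between_extend pointOk 20 14216 18779 27 (p2u168) p2r169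

theorem p2r170 : allRange pointOk 20 18806 27 = true := by decide +kernel
theorem p2u170 : ∀ k, 14216 ≤ k → k < 18833 → pointOk (k * 20) = true := between_extend pointOk 20 14216 18806 27 (p2u169) p2r170

theorem p2r171 : allRange pointOk 20 18833 27 = true := by decide +kernel
theorem p2u171 : ∀ k, 14216 ≤ k → k < 18860 → pointOk (k * 20) = true := between_extend pointOk 20 14216 18833 27 (p2u170) p2r171

theorem p2r172 : allRange pointOk 20 18860 27 = true := by decide +kernel
theorem p2u172 : ∀ k, 14216 ≤ k → k < 18887 → pointOk (k * 20) = true := between_extend pointOk 20 14216 18860 27 (p2u171) p2r172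

theorem p2r173 : allRange pointOk 20 18887 27 = true := by decide +kernel
theorem p2u173 : ∀ k, 14216 ≤ k → k < 18914 → pointOk (k * 20) = true := between_extend pointOk 20 14216 18887 27 (p2u172) p2r173

theorem p2r174 : allRange pointOk 20 18914 27 = true := by decide +kernel
theorem p2u174 : ∀ k, 14216 ≤ k → k < 18941 → pointOk (k * 20) = true := between_extend pointOk 20 14216 18914 27 (p2u173) p2r174

theorem p2r175 : allRange pointOk 20 18941 27 = true := by decide +kernel
theorem p2u175 : ∀ k, 14216 ≤ k → k < 18968 → pointOk (k * 20) = true := between_extend pointOk 20 14216 18941 27 (p2u174) p2r175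

theorem p2r176 : allRange pointOk 20 18968 27 = true := by decide +kernel
theorem p2u176 : ∀ k, 14216 ≤ k → k < 18995 → pointOk (k * 20) = true := between_extend pointOk 20 14216 18968 27 (p2u175) p2r176

theorem p2r177 : allRange pointOk 20 18995 27 = true := by decide +kernel
theorem p2u177 : ∀ k, 14216 ≤ k → k < 19022 → pointOk (k * 20) = true := between_extend pointOk 20 14216 18995 27 (p2u176) p2r177

theorem p2r178 : allRange pointOk 20 19022 27 = true := by decide +kernel
theorem p2u178 : ∀ k, 14216 ≤ k → k < 19049 → pointOk (k * 20) = true := between_extend pointOk 20 14216 19022 27 (p2u177) p2r178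

theorem p2r179 : allRange pointOk 20 19049 27 = true := by decide +kernel
theorem p2u179 : ∀ k, 14216 ≤ k → k < 19076 → pointOk (k * 20) = true := between_extend pointOk 20 14216 19049 27 (p2u178) p2r179

theorem p2r180 : allRange pointOk 20 19076 27 = true := by decide +kernel
theorem p2u180 : ∀ k, 14216 ≤ k → k < 19103 → pointOk (k * 20) = true := between_extend pointOk 20 14216 19076 27 (p2u179) p2r180

theorem p2r181 : allRange pointOk 20 19103 27 = true := by decide +kernel
theorem p2u181 : ∀ k, 14216 ≤ k → k < 19130 → pointOk (k * 20) = true := between_extend pointOk 20 14216 19103 27 (p2u180) p2r181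

theorem p2r182 : allRange pointOk 20 19130 27 = true := by decide +kernel
theorem p2u182 : ∀ k, 14216 ≤ k → k < 19157 → pointOk (k * 20) = true := between_extend pointOk 20 14216 19130 27 (p2u181) p2r182

theorem p2r183 : allRange pointOk 20 19157 27 = true := by decide +kernel
theorem p2u183 : ∀ k, 14216 ≤ k → k < 19184 → pointOk (k * 20) = true := between_extend pointOk 20 14216 19157 27 (p2u182) p2r183

theorem p2r184 : allRange pointOk 20 19184 27 = true := by decide +kernel
theorem p2u184 : ∀ k, 14216 ≤ k → k < 19211 → pointOk (k * 20) = true := between_extend pointOk 20 14216 19184 27 (p2u183) p2r184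

theorem p2r185 : allRange pointOk 20 19211 27 = true := by decide +kernel
theorem p2u185 : ∀ k, 14216 ≤ k → k < 19238 → pointOk (k * 20) = true := between_extend pointOk 20 14216 19211 27 (p2u184) p2r185

theorem p2r186 : allRange pointOk 20 19238 27 = true := by decide +kernel
theorem p2u186 : ∀ k, 14216 ≤ k → k < 19265 → pointOk (k * 20) = true := between_extend pointOk 20 14216 19238 27 (p2u185) p2r186

theorem p2r187 : allRange pointOk 20 19265 27 = true := by decide +kernel
theorem p2u187 : ∀ k, 14216 ≤ k → k < 19292 → pointOk (k * 20) = true := between_extend pointOk 20 14216 19265 27 (p2u186) p2r187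

theorem p2r188 : allRange pointOk 20 19292 27 = true := by decide +kernel
theorem p2u188 : ∀ k, 14216 ≤ k → k < 19319 → pointOk (k * 20) = true := between_extend pointOk 20 14216 19292 27 (p2u187) p2r188

theorem p2r189 : allRange pointOk 20 19319 27 = true := by decide +kernel
theorem p2u189 : ∀ k, 14216 ≤ k → k < 19346 → pointOk (k * 20) = true := between_extend pointOk 20 14216 19319 27 (p2u188) p2r189

theorem p2r190 : allRange pointOk 20 19346 27 = true := by decide +kernel
theorem p2u190 : ∀ k, 14216 ≤ k → k < 19373 → pointOk (k * 20) = true := between_extend pointOk 20 14216 19346 27 (p2u189) p2r190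

theorem p2r191 : allRange pointOk 20 19373 27 = true := by decide +kernel
theorem p2u191 : ∀ k, 14216 ≤ k → k < 19400 → pointOk (k * 20) = true := between_extend pointOk 20 14216 19373 27 (p2u190) p2r191

theorem p2r192 : allRange pointOk 20 19400 27 = true := by decide +kernel
theorem p2u192 : ∀ k, 14216 ≤ k → k < 19427 → pointOk (k * 20) = true := between_extend pointOk 20 14216 19400 27 (p2u191) p2r192

theorem p2r193 : allRange pointOk 20 19427 27 = true := by decide +kernel
theorem p2u193 : ∀ k, 14216 ≤ k → k < 19454 → pointOk (k * 20) = true := between_extend pointOk 20 14216 19427 27 (p2u192) p2r193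

theorem p2r194 : allRange pointOk 20 19454 27 = true := by decide +kernel
theorem p2u194 : ∀ k, 14216 ≤ k → k < 19481 → pointOk (k * 20) = true := between_extend pointOk 20 14216 19454 27 (p2u193) p2r194

theorem p2r195 : allRange pointOk 20 19481 27 = true := by decide +kernel
theorem p2u195 : ∀ k, 14216 ≤ k → k < 19508 → pointOk (k * 20) = true := between_extend pointOk 20 14216 19481 27 (p2u194) p2r195

theorem p2r196 : allRange pointOk 20 19508 27 = true := by decide +kernel
theorem p2u196 : ∀ k, 14216 ≤ k → k < 19535 → pointOk (k * 20) = true := between_extend pointOk 20 14216 19508 27 (p2u195) p2r196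

theorem p2r197 : allRange pointOk 20 19535 27 = true := by decide +kernel
theorem p2u197 : ∀ k, 14216 ≤ k → k < 19562 → pointOk (k * 20) = true := between_extend pointOk 20 14216 19535 27 (p2u196) p2r197

theorem p2r198 : allRange pointOk 20 19562 27 = true := by decide +kernel
theorem p2u198 : ∀ k, 14216 ≤ k → k < 19589 → pointOk (k * 20) = true := between_extend pointOk 20 14216 19562 27 (p2u197) p2r198

theorem p2r199 : allRange pointOk 20 19589 27 = true := by decide +kernel
theorem p2u199 : ∀ k, 14216 ≤ k → k < 19616 → pointOk (k * 20) = true := between_extend pointOk 20 14216 19589 27 (p2u198) p2r199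

theorem p2r200 : allRange pointOk 20 19616 27 = true := by decide +kernel
theorem p2u200 : ∀ k, 14216 ≤ k → k < 19643 → pointOk (k * 20) = true := between_extend pointOk 20 14216 19616 27 (p2u199) p2r200

theorem p2r201 : allRange pointOk 20 19643 27 = true := by decide +kernel
theorem p2u201 : ∀ k, 14216 ≤ k → k < 19670 → pointOk (k * 20) = true := between_extend pointOk 20 14216 19643 27 (p2u200) p2r201

theorem p2r202 : allRange pointOk 20 19670 27 = true := by decide +kernel
theorem p2u202 : ∀ k, 14216 ≤ k → k < 19697 → pointOk (k * 20) = true := between_extend pointOk 20 14216 19670 27 (p2u201) p2r202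

theorem p2r203 : allRange pointOk 20 19697 27 = true := by decide +kernel
theorem p2u203 : ∀ k, 14216 ≤ k → k < 19724 → pointOk (k * 20) = true := between_extend pointOk 20 14216 19697 27 (p2u202) p2r203

theorem p2r204 : allRange pointOk 20 19724 27 = true := by decide +kernel
theorem p2u204 : ∀ k, 14216 ≤ k → k < 19751 → pointOk (k * 20) = true := between_extend pointOk 20 14216 19724 27 (p2u203) p2r204

theorem p2r205 : allRange pointOk 20 19751 27 = true := by decide +kernel
theorem p2u205 : ∀ k, 14216 ≤ k → k < 19778 → pointOk (k * 20) = true := between_extend pointOk 20 14216 19751 27 (p2u204) p2r205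

theorem p2r206 : allRange pointOk 20 19778 27 = true := by decide +kernel
theorem p2u206 : ∀ k, 14216 ≤ k → k < 19805 → pointOk (k * 20) = true := between_extend pointOk 20 14216 19778 27 (p2u205) p2r206

theorem p2r207 : allRange pointOk 20 19805 27 = true := by decide +kernel
theorem p2u207 : ∀ k, 14216 ≤ k → k < 19832 → pointOk (k * 20) = true := between_extend pointOk 20 14216 19805 27 (p2u206) p2r207

theorem p2r208 : allRange pointOk 20 19832 27 = true := by decide +kernel
theorem p2u208 : ∀ k, 14216 ≤ k → k < 19859 → pointOk (k * 20) = true := between_extend pointOk 20 14216 19832 27 (p2u207) p2r208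

theorem p2r209 : allRange pointOk 20 19859 27 = true := by decide +kernel
theorem p2u209 : ∀ k, 14216 ≤ k → k < 19886 → pointOk (k * 20) = true := between_extend pointOk 20 14216 19859 27 (p2u208) p2r209

theorem p2r210 : allRange pointOk 20 19886 27 = true := by decide +kernel
theorem p2u210 : ∀ k, 14216 ≤ k → k < 19913 → pointOk (k * 20) = true := between_extend pointOk 20 14216 19886 27 (p2u209) p2r210

theorem p2r211 : allRange pointOk 20 19913 27 = true := by decide +kernel
theorem p2u211 : ∀ k, 14216 ≤ k → k < 19940 → pointOk (k * 20) = true := between_extend pointOk 20 14216 19913 27 (p2u210) p2r211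

theorem p2r212 : allRange pointOk 20 19940 27 = true := by decide +kernel
theorem p2u212 : ∀ k, 14216 ≤ k → k < 19967 → pointOk (k * 20) = true := between_extend pointOk 20 14216 19940 27 (p2u211) p2r212

theorem p2r213 : allRange pointOk 20 19967 27 = true := by decide +kernel
theorem p2u213 : ∀ k, 14216 ≤ k → k < 19994 → pointOk (k * 20) = true := between_extend pointOk 20 14216 19967 27 (p2u212) p2r213

theorem p2r214 : allRange pointOk 20 19994 27 = true := by decide +kernel
theorem p2u214 : ∀ k, 14216 ≤ k → k < 20021 → pointOk (k * 20) = true := between_extend pointOk 20 14216 19994 27 (p2u213) p2r214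

theorem p2r215 : allRange pointOk 20 20021 27 = true := by decide +kernel
theorem p2u215 : ∀ k, 14216 ≤ k → k < 20048 → pointOk (k * 20) = true := between_extend pointOk 20 14216 20021 27 (p2u214) p2r215

theorem p2r216 : allRange pointOk 20 20048 27 = true := by decide +kernel
theorem p2u216 : ∀ k, 14216 ≤ k → k < 20075 → pointOk (k * 20) = true := between_extend pointOk 20 14216 20048 27 (p2u215) p2r216

theorem p2r217 : allRange pointOk 20 20075 27 = true := by decide +kernel
theorem p2u217 : ∀ k, 14216 ≤ k → k < 20102 → pointOk (k * 20) = true := between_extend pointOk 20 14216 20075 27 (p2u216) p2r217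

theorem p2r218 : allRange pointOk 20 20102 27 = true := by decide +kernel
theorem p2u218 : ∀ k, 14216 ≤ k → k < 20129 → pointOk (k * 20) = true := between_extend pointOk 20 14216 20102 27 (p2u217) p2r218

theorem p2r219 : allRange pointOk 20 20129 27 = true := by decide +kernel
theorem p2u219 : ∀ k, 14216 ≤ k → k < 20156 → pointOk (k * 20) = true := between_extend pointOk 20 14216 20129 27 (p2u218) p2r219

theorem p2r220 : allRange pointOk 20 20156 27 = true := by decide +kernel
theorem p2u220 : ∀ k, 14216 ≤ k → k < 20183 → pointOk (k * 20) = true := between_extend pointOk 20 14216 20156 27 (p2u219) p2r220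

theorem p2r221 : allRange pointOk 20 20183 27 = true := by decide +kernel
theorem p2u221 : ∀ k, 14216 ≤ k → k < 20210 → pointOk (k * 20) = true := between_extend pointOk 20 14216 20183 27 (p2u220) p2r221

theorem p2r222 : allRange pointOk 20 20210 27 = true := by decide +kernel
theorem p2u222 : ∀ k, 14216 ≤ k → k < 20237 → pointOk (k * 20) = true := between_extend pointOk 20 14216 20210 27 (p2u221) p2r222

theorem p2r223 : allRange pointOk 20 20237 27 = true := by decide +kernel
theorem p2u223 : ∀ k, 14216 ≤ k → k < 20264 → pointOk (k * 20) = true := between_extend pointOk 20 14216 20237 27 (p2u222) p2r223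

theorem p2r224 : allRange pointOk 20 20264 27 = true := by decide +kernel
theorem p2u224 : ∀ k, 14216 ≤ k → k < 20291 → pointOk (k * 20) = true := between_extend pointOk 20 14216 20264 27 (p2u223) p2r224

theorem p2r225 : allRange pointOk 20 20291 27 = true := by decide +kernel
theorem p2u225 : ∀ k, 14216 ≤ k → k < 20318 → pointOk (k * 20) = true := between_extend pointOk 20 14216 20291 27 (p2u224) p2r225

theorem p2r226 : allRange pointOk 20 20318 27 = true := by decide +kernel
theorem p2u226 : ∀ k, 14216 ≤ k → k < 20345 → pointOk (k * 20) = true := between_extend pointOk 20 14216 20318 27 (p2u225) p2r226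

theorem p2r227 : allRange pointOk 20 20345 27 = true := by decide +kernel
theorem p2u227 : ∀ k, 14216 ≤ k → k < 20372 → pointOk (k * 20) = true := between_extend pointOk 20 14216 20345 27 (p2u226) p2r227

theorem p2r228 : allRange pointOk 20 20372 27 = true := by decide +kernel
theorem p2u228 : ∀ k, 14216 ≤ k → k < 20399 → pointOk (k * 20) = true := between_extend pointOk 20 14216 20372 27 (p2u227) p2r228

theorem p2r229 : allRange pointOk 20 20399 27 = true := by decide +kernel
theorem p2u229 : ∀ k, 14216 ≤ k → k < 20426 → pointOk (k * 20) = true := between_extend pointOk 20 14216 20399 27 (p2u228) p2r229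

theorem p2r230 : allRange pointOk 20 20426 27 = true := by decide +kernel
theorem p2u230 : ∀ k, 14216 ≤ k → k < 20453 → pointOk (k * 20) = true := between_extend pointOk 20 14216 20426 27 (p2u229) p2r230

theorem p2r231 : allRange pointOk 20 20453 27 = true := by decide +kernel
theorem p2u231 : ∀ k, 14216 ≤ k → k < 20480 → pointOk (k * 20) = true := between_extend pointOk 20 14216 20453 27 (p2u230) p2r231

theorem p2r232 : allRange pointOk 20 20480 27 = true := by decide +kernel
theorem p2u232 : ∀ k, 14216 ≤ k → k < 20507 → pointOk (k * 20) = true := between_extend pointOk 20 14216 20480 27 (p2u231) p2r232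

theorem p2r233 : allRange pointOk 20 20507 27 = true := by decide +kernel
theorem p2u233 : ∀ k, 14216 ≤ k → k < 20534 → pointOk (k * 20) = true := between_extend pointOk 20 14216 20507 27 (p2u232) p2r233

theorem p2r234 : allRange pointOk 20 20534 27 = true := by decide +kernel
theorem p2u234 : ∀ k, 14216 ≤ k → k < 20561 → pointOk (k * 20) = true := between_extend pointOk 20 14216 20534 27 (p2u233) p2r234

theorem p2r235 : allRange pointOk 20 20561 27 = true := by decide +kernel
theorem p2u235 : ∀ k, 14216 ≤ k → k < 20588 → pointOk (k * 20) = true := between_extend pointOk 20 14216 20561 27 (p2u234) p2r235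

theorem p2r236 : allRange pointOk 20 20588 27 = true := by decide +kernel
theorem p2u236 : ∀ k, 14216 ≤ k → k < 20615 → pointOk (k * 20) = true := between_extend pointOk 20 14216 20588 27 (p2u235) p2r236

theorem p2r237 : allRange pointOk 20 20615 27 = true := by decide +kernel
theorem p2u237 : ∀ k, 14216 ≤ k → k < 20642 → pointOk (k * 20) = true := between_extend pointOk 20 14216 20615 27 (p2u236) p2r237

theorem p2r238 : allRange pointOk 20 20642 27 = true := by decide +kernel
theorem p2u238 : ∀ k, 14216 ≤ k → k < 20669 → pointOk (k * 20) = true := between_extend pointOk 20 14216 20642 27 (p2u237) p2r238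

theorem p2r239 : allRange pointOk 20 20669 27 = true := by decide +kernel
theorem p2u239 : ∀ k, 14216 ≤ k → k < 20696 → pointOk (k * 20) = true := between_extend pointOk 20 14216 20669 27 (p2u238) p2r239

theorem p2r240 : allRange pointOk 20 20696 27 = true := by decide +kernel
theorem p2u240 : ∀ k, 14216 ≤ k → k < 20723 → pointOk (k * 20) = true := between_extend pointOk 20 14216 20696 27 (p2u239) p2r240

theorem p2r241 : allRange pointOk 20 20723 27 = true := by decide +kernel
theorem p2u241 : ∀ k, 14216 ≤ k → k < 20750 → pointOk (k * 20) = true := between_extend pointOk 20 14216 20723 27 (p2u240) p2r241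

theorem p2r242 : allRange pointOk 20 20750 27 = true := by decide +kernel
theorem p2u242 : ∀ k, 14216 ≤ k → k < 20777 → pointOk (k * 20) = true := between_extend pointOk 20 14216 20750 27 (p2u241) p2r242

theorem p2r243 : allRange pointOk 20 20777 27 = true := by decide +kernel
theorem p2u243 : ∀ k, 14216 ≤ k → k < 20804 → pointOk (k * 20) = true := between_extend pointOk 20 14216 20777 27 (p2u242) p2r243

theorem p2r244 : allRange pointOk 20 20804 27 = true := by decide +kernel
theorem p2u244 : ∀ k, 14216 ≤ k → k < 20831 → pointOk (k * 20) = true := between_extend pointOk 20 14216 20804 27 (p2u243) p2r244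

theorem p2r245 : allRange pointOk 20 20831 27 = true := by decide +kernel
theorem p2u245 : ∀ k, 14216 ≤ k → k < 20858 → pointOk (k * 20) = true := between_extend pointOk 20 14216 20831 27 (p2u244) p2r245

theorem p2r246 : allRange pointOk 20 20858 27 = true := by decide +kernel
theorem p2u246 : ∀ k, 14216 ≤ k → k < 20885 → pointOk (k * 20) = true := between_extend pointOk 20 14216 20858 27 (p2u245) p2r246

theorem p2r247 : allRange pointOk 20 20885 27 = true := by decide +kernel
theorem p2u247 : ∀ k, 14216 ≤ k → k < 20912 → pointOk (k * 20) = true := between_extend pointOk 20 14216 20885 27 (p2u246) p2r247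

theorem p2r248 : allRange pointOk 20 20912 27 = true := by decide +kernel
theorem p2u248 : ∀ k, 14216 ≤ k → k < 20939 → pointOk (k * 20) = true := between_extend pointOk 20 14216 20912 27 (p2u247) p2r248

theorem p2r249 : allRange pointOk 20 20939 27 = true := by decide +kernel
theorem p2u249 : ∀ k, 14216 ≤ k → k < 20966 → pointOk (k * 20) = true := between_extend pointOk 20 14216 20939 27 (p2u248) p2r249

theorem p2r250 : allRange pointOk 20 20966 27 = true := by decide +kernel
theorem p2u250 : ∀ k, 14216 ≤ k → k < 20993 → pointOk (k * 20) = true := between_extend pointOk 20 14216 20966 27 (p2u249) p2r250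

theorem p2r251 : allRange pointOk 20 20993 27 = true := by decide +kernel
theorem p2u251 : ∀ k, 14216 ≤ k → k < 21020 → pointOk (k * 20) = true := between_extend pointOk 20 14216 20993 27 (p2u250) p2r251

theorem p2r252 : allRange pointOk 20 21020 27 = true := by decide +kernel
theorem p2u252 : ∀ k, 14216 ≤ k → k < 21047 → pointOk (k * 20) = true := between_extend pointOk 20 14216 21020 27 (p2u251) p2r252

theorem p2r253 : allRange pointOk 20 21047 27 = true := by decide +kernel
theorem p2u253 : ∀ k, 14216 ≤ k → k < 21074 → pointOk (k * 20) = true := between_extend pointOk 20 14216 21047 27 (p2u252) p2r253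

theorem p2r254 : allRange pointOk 20 21074 27 = true := by decide +kernel
theorem p2u254 : ∀ k, 14216 ≤ k → k < 21101 → pointOk (k * 20) = true := between_extend pointOk 20 14216 21074 27 (p2u253) p2r254

theorem p2r255 : allRange pointOk 20 21101 27 = true := by decide +kernel
theorem p2u255 : ∀ k, 14216 ≤ k → k < 21128 → pointOk (k * 20) = true := between_extend pointOk 20 14216 21101 27 (p2u254) p2r255

theorem p2r256 : allRange pointOk 20 21128 27 = true := by decide +kernel
theorem p2u256 : ∀ k, 14216 ≤ k → k < 21155 → pointOk (k * 20) = true := between_extend pointOk 20 14216 21128 27 (p2u255) p2r256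

theorem p2r257 : allRange pointOk 20 21155 27 = true := by decide +kernel
theorem p2u257 : ∀ k, 14216 ≤ k → k < 21182 → pointOk (k * 20) = true := between_extend pointOk 20 14216 21155 27 (p2u256) p2r257

theorem p2r258 : allRange pointOk 20 21182 27 = true := by decide +kernel
theorem p2u258 : ∀ k, 14216 ≤ k → k < 21209 → pointOk (k * 20) = true := between_extend pointOk 20 14216 21182 27 (p2u257) p2r258

theorem p2r259 : allRange pointOk 20 21209 27 = true := by decide +kernel
theorem p2u259 : ∀ k, 14216 ≤ k → k < 21236 → pointOk (k * 20) = true := between_extend pointOk 20 14216 21209 27 (p2u258) p2r259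

theorem p2r260 : allRange pointOk 20 21236 27 = true := by decide +kernel
theorem p2u260 : ∀ k, 14216 ≤ k → k < 21263 → pointOk (k * 20) = true := between_extend pointOk 20 14216 21236 27 (p2u259) p2r260

theorem p2r261 : allRange pointOk 20 21263 27 = true := by decide +kernel
theorem p2u261 : ∀ k, 14216 ≤ k → k < 21290 → pointOk (k * 20) = true := between_extend pointOk 20 14216 21263 27 (p2u260) p2r261

theorem p2r262 : allRange pointOk 20 21290 27 = true := by decide +kernel
theorem p2u262 : ∀ k, 14216 ≤ k → k < 21317 → pointOk (k * 20) = true := between_extend pointOk 20 14216 21290 27 (p2u261) p2r262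

theorem p2r263 : allRange pointOk 20 21317 7 = true := by decide +kernel
theorem p2u263 : ∀ k, 14216 ≤ k → k < 21324 → pointOk (k * 20) = true := between_extend pointOk 20 14216 21317 7 (p2u262) p2r263

theorem p2 : ∀ k, 14216 ≤ k → k < 21324 → pointOk (k * 20) = true := p2u263

end Cfsg.Agent.Lib.Helper96_Fi24TA
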