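import Cfsg.Agent.Lib.Helper96_Fi24TADef

set_option autoImplicit false
set_option linter.constructorNameAsVariable false
set_option Elab.async false

namespace Cfsg.Agent.Lib.Helper96_Fi24TA

open Cfsg.Agent.Lib.Helper28_CosetPerm

theorem p3r0 : allRange pointOk 20 21324 27 = true := by decide +kernel
theorem p3u0 : ∀ k, 21324 ≤ k → k < 21351 → pointOk (k * 20) = true := between_extend pointOk 20 21324 21324 27 (between_start pointOk 20 21324) p3r0

theorem p3r1 : allRange pointOk 20 21351 27 = true := by decide +kernel
theorem p3u1 : ∀ k, 21324 ≤ k → k < 21378 → pointOk (k * 20) = true := between_extend pointOk 20 21324 21351 27 (p3u0) p3r1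

theorem p3r2 : allRange pointOk 20 21378 27 = true := by decide +kernel
theorem p3u2 : ∀ k, 21324 ≤ k → k < 21405 → pointOk (k * 20) = true := between_extend pointOk 20 21324 21378 27 (p3u1) p3r2

theorem p3r3 : allRange pointOk 20 21405 27 = true := by decide +kernel
theorem p3u3 : ∀ k, 21324 ≤ k → k < 21432 → pointOk (k * 20) = true := between_extend pointOk 20 21324 21405 27 (p3u2) p3r3

theorem p3r4 : allRange pointOk 20 21432 27 = true := by decide +kernel
theorem p3u4 : ∀ k, 21324 ≤ k → k < 21459 → pointOk (k * 20) = true := between_extend pointOk 20 21324 21432 27 (p3u3) p3r4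

theorem p3r5 : allRange pointOk 20 21459 27 = true := by decide +kernel
theorem p3u5 : ∀ k, 21324 ≤ k → k < 21486 → pointOk (k * 20) = true := between_extend pointOk 20 21324 21459 27 (p3u4) p3r5

theorem p3r6 : allRange pointOk 20 21486 27 = true := by decide +kernel
theorem p3u6 : ∀ k, 21324 ≤ k → k < 21513 → pointOk (k * 20) = true := between_extend pointOk 20 21324 21486 27 (p3u5) p3r6

theorem p3r7 : allRange pointOk 20 21513 27 = true := by decide +kernel
theorem p3u7 : ∀ k, 21324 ≤ k → k < 21540 → pointOk (k * 20) = true := between_extend pointOk 20 21324 21513 27 (p3u6) p3r7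

theorem p3r8 : allRange pointOk 20 21540 27 = true := by decide +kernel
theorem p3u8 : ∀ k, 21324 ≤ k → k < 21567 → pointOk (k * 20) = true := between_extend pointOk 20 21324 21540 27 (p3u7) p3r8

theorem p3r9 : allRange pointOk 20 21567 27 = true := by decide +kernel
theorem p3u9 : ∀ k, 21324 ≤ k → k < 21594 → pointOk (k * 20) = true := between_extend pointOk 20 21324 21567 27 (p3u8) p3r9

theorem p3r10 : allRange pointOk 20 21594 27 = true := by decide +kernel
theorem p3u10 : ∀ k, 21324 ≤ k → k < 21621 → pointOk (k * 20) = true := between_extend pointOk 20 21324 21594 27 (p3u9) p3r10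

theorem p3r11 : allRange pointOk 20 21621 27 = true := by decide +kernel
theorem p3u11 : ∀ k, 21324 ≤ k → k < 21648 → pointOk (k * 20) = true := between_extend pointOk 20 21324 21621 27 (p3u10) p3r11

theorem p3r12 : allRange pointOk 20 21648 27 = true := by decide +kernel
theorem p3u12 : ∀ k, 21324 ≤ k → k < 21675 → pointOk (k * 20) = true := between_extend pointOk 20 21324 21648 27 (p3u11) p3r12

theorem p3r13 : allRange pointOk 20 21675 27 = true := by decide +kernel
theorem p3u13 : ∀ k, 21324 ≤ k → k < 21702 → pointOk (k * 20) = true := between_extend pointOk 20 21324 21675 27 (p3u12) p3r13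

theorem p3r14 : allRange pointOk 20 21702 27 = true := by decide +kernel
theorem p3u14 : ∀ k, 21324 ≤ k → k < 21729 → pointOk (k * 20) = true := between_extend pointOk 20 21324 21702 27 (p3u13) p3r14

theorem p3r15 : allRange pointOk 20 21729 27 = true := by decide +kernel
theorem p3u15 : ∀ k, 21324 ≤ k → k < 21756 → pointOk (k * 20) = true := between_extend pointOk 20 21324 21729 27 (p3u14) p3r15

theorem p3r16 : allRange pointOk 20 21756 27 = true := by decide +kernel
theorem p3u16 : ∀ k, 21324 ≤ k → k < 21783 → pointOk (k * 20) = true := between_extend pointOk 20 21324 21756 27 (p3u15) p3r16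

theorem p3r17 : allRange pointOk 20 21783 27 = true := by decide +kernel
theorem p3u17 : ∀ k, 21324 ≤ k → k < 21810 → pointOk (k * 20) = true := between_extend pointOk 20 21324 21783 27 (p3u16) p3r17

theorem p3r18 : allRange pointOk 20 21810 27 = true := by decide +kernel
theorem p3u18 : ∀ k, 21324 ≤ k → k < 21837 → pointOk (k * 20) = true := between_extend pointOk 20 21324 21810 27 (p3u17) p3r18

theorem p3r19 : allRange pointOk 20 21837 27 = true := by decide +kernel
theorem p3u19 : ∀ k, 21324 ≤ k → k < 21864 → pointOk (k * 20) = true := between_extend pointOk 20 21324 21837 27 (p3u18) p3r19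

theorem p3r20 : allRange pointOk 20 21864 27 = true := by decide +kernel
theorem p3u20 : ∀ k, 21324 ≤ k → k < 21891 → pointOk (k * 20) = true := between_extend pointOk 20 21324 21864 27 (p3u19) p3r20

theorem p3r21 : allRange pointOk 20 21891 27 = true := by decide +kernel
theorem p3u21 : ∀ k, 21324 ≤ k → k < 21918 → pointOk (k * 20) = true := between_extend pointOk 20 21324 21891 27 (p3u20) p3r21

theorem p3r22 : allRange pointOk 20 21918 27 = true := by decide +kernel
theorem p3u22 : ∀ k, 21324 ≤ k → k < 21945 → pointOk (k * 20) = true := between_extend pointOk 20 21324 21918 27 (p3u21) p3r22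

theorem p3r23 : allRange pointOk 20 21945 27 = true := by decide +kernel
theorem p3u23 : ∀ k, 21324 ≤ k → k < 21972 → pointOk (k * 20) = true := between_extend pointOk 20 21324 21945 27 (p3u22) p3r23

theorem p3r24 : allRange pointOk 20 21972 27 = true := by decide +kernel
theorem p3u24 : ∀ k, 21324 ≤ k → k < 21999 → pointOk (k * 20) = true := between_extend pointOk 20 21324 21972 27 (p3u23) p3r24

theorem p3r25 : allRange pointOk 20 21999 27 = true := by decide +kernel
theorem p3u25 : ∀ k, 21324 ≤ k → k < 22026 → pointOk (k * 20) = true := between_extend pointOk 20 21324 21999 27 (p3u24) p3r25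

theorem p3r26 : allRange pointOk 20 22026 27 = true := by decide +kernel
theorem p3u26 : ∀ k, 21324 ≤ k → k < 22053 → pointOk (k * 20) = true := between_extend pointOk 20 21324 22026 27 (p3u25) p3r26

theorem p3r27 : allRange pointOk 20 22053 27 = true := by decide +kernel
theorem p3u27 : ∀ k, 21324 ≤ k → k < 22080 → pointOk (k * 20) = true := between_extend pointOk 20 21324 22053 27 (p3u26) p3r27

theorem p3r28 : allRange pointOk 20 22080 27 = true := by decide +kernel
theorem p3u28 : ∀ k, 21324 ≤ k → k < 22107 → pointOk (k * 20) = true := between_extend pointOk 20 21324 22080 27 (p3u27) p3r28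

theorem p3r29 : allRange pointOk 20 22107 27 = true := by decide +kernel
theorem p3u29 : ∀ k, 21324 ≤ k → k < 22134 → pointOk (k * 20) = true := between_extend pointOk 20 21324 22107 27 (p3u28) p3r29

theorem p3r30 : allRange pointOk 20 22134 27 = true := by decide +kernel
theorem p3u30 : ∀ k, 21324 ≤ k → k < 22161 → pointOk (k * 20) = true := between_extend pointOk 20 21324 22134 27 (p3u29) p3r30

theorem p3r31 : allRange pointOk 20 22161 27 = true := by decide +kernel
theorem p3u31 : ∀ k, 21324 ≤ k → k < 22188 → pointOk (k * 20) = true := between_extend pointOk 20 21324 22161 27 (p3u30) p3r31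

theorem p3r32 : allRange pointOk 20 22188 27 = true := by decide +kernel
theorem p3u32 : ∀ k, 21324 ≤ k → k < 22215 → pointOk (k * 20) = true := between_extend pointOk 20 21324 22188 27 (p3u31) p3r32

theorem p3r33 : allRange pointOk 20 22215 27 = true := by decide +kernel
theorem p3u33 : ∀ k, 21324 ≤ k → k < 22242 → pointOk (k * 20) = true := between_extend pointOk 20 21324 22215 27 (p3u32) p3r33

theorem p3r34 : allRange pointOk 20 22242 27 = true := by decide +kernel
theorem p3u34 : ∀ k, 21324 ≤ k → k < 22269 → pointOk (k * 20) = true := between_extend pointOk 20 21324 22242 27 (p3u33) p3r34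

theorem p3r35 : allRange pointOk 20 22269 27 = true := by decide +kernel
theorem p3u35 : ∀ k, 21324 ≤ k → k < 22296 → pointOk (k * 20) = true := between_extend pointOk 20 21324 22269 27 (p3u34) p3r35

theorem p3r36 : allRange pointOk 20 22296 27 = true := by decide +kernel
theorem p3u36 : ∀ k, 21324 ≤ k → k < 22323 → pointOk (k * 20) = true := between_extend pointOk 20 21324 22296 27 (p3u35) p3r36

theorem p3r37 : allRange pointOk 20 22323 27 = true := by decide +kernel
theorem p3u37 : ∀ k, 21324 ≤ k → k < 22350 → pointOk (k * 20) = true := between_extend pointOk 20 21324 22323 27 (p3u36) p3r37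

theorem p3r38 : allRange pointOk 20 22350 27 = true := by decide +kernel
theorem p3u38 : ∀ k, 21324 ≤ k → k < 22377 → pointOk (k * 20) = true := between_extend pointOk 20 21324 22350 27 (p3u37) p3r38

theorem p3r39 : allRange pointOk 20 22377 27 = true := by decide +kernel
theorem p3u39 : ∀ k, 21324 ≤ k → k < 22404 → pointOk (k * 20) = true := between_extend pointOk 20 21324 22377 27 (p3u38) p3r39

theorem p3r40 : allRange pointOk 20 22404 27 = true := by decide +kernel
theorem p3u40 : ∀ k, 21324 ≤ k → k < 22431 → pointOk (k * 20) = true := between_extend pointOk 20 21324 22404 27 (p3u39) p3r40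

theorem p3r41 : allRange pointOk 20 22431 27 = true := by decide +kernel
theorem p3u41 : ∀ k, 21324 ≤ k → k < 22458 → pointOk (k * 20) = true := between_extend pointOk 20 21324 22431 27 (p3u40) p3r41

theorem p3r42 : allRange pointOk 20 22458 27 = true := by decide +kernel
theorem p3u42 : ∀ k, 21324 ≤ k → k < 22485 → pointOk (k * 20) = true := between_extend pointOk 20 21324 22458 27 (p3u41) p3r42

theorem p3r43 : allRange pointOk 20 22485 27 = true := by decide +kernel
theorem p3u43 : ∀ k, 21324 ≤ k → k < 22512 → pointOk (k * 20) = true := between_extend pointOk 20 21324 22485 27 (p3u42) p3r43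

theorem p3r44 : allRange pointOk 20 22512 27 = true := by decide +kernel
theorem p3u44 : ∀ k, 21324 ≤ k → k < 22539 → pointOk (k * 20) = true := between_extend pointOk 20 21324 22512 27 (p3u43) p3r44

theorem p3r45 : allRange pointOk 20 22539 27 = true := by decide +kernel
theorem p3u45 : ∀ k, 21324 ≤ k → k < 22566 → pointOk (k * 20) = true := between_extend pointOk 20 21324 22539 27 (p3u44) p3r45

theorem p3r46 : allRange pointOk 20 22566 27 = true := by decide +kernel
theorem p3u46 : ∀ k, 21324 ≤ k → k < 22593 → pointOk (k * 20) = true := between_extend pointOk 20 21324 22566 27 (p3u45) p3r46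

theorem p3r47 : allRange pointOk 20 22593 27 = true := by decide +kernel
theorem p3u47 : ∀ k, 21324 ≤ k → k < 22620 → pointOk (k * 20) = true := between_extend pointOk 20 21324 22593 27 (p3u46) p3r47

theorem p3r48 : allRange pointOk 20 22620 27 = true := by decide +kernel
theorem p3u48 : ∀ k, 21324 ≤ k → k < 22647 → pointOk (k * 20) = true := between_extend pointOk 20 21324 22620 27 (p3u47) p3r48

theorem p3r49 : allRange pointOk 20 22647 27 = true := by decide +kernel
theorem p3u49 : ∀ k, 21324 ≤ k → k < 22674 → pointOk (k * 20) = true := between_extend pointOk 20 21324 22647 27 (p3u48) p3r49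

theorem p3r50 : allRange pointOk 20 22674 27 = true := by decide +kernel
theorem p3u50 : ∀ k, 21324 ≤ k → k < 22701 → pointOk (k * 20) = true := between_extend pointOk 20 21324 22674 27 (p3u49) p3r50

theorem p3r51 : allRange pointOk 20 22701 27 = true := by decide +kernel
theorem p3u51 : ∀ k, 21324 ≤ k → k < 22728 → pointOk (k * 20) = true := between_extend pointOk 20 21324 22701 27 (p3u50) p3r51

theorem p3r52 : allRange pointOk 20 22728 27 = true := by decide +kernel
theorem p3u52 : ∀ k, 21324 ≤ k → k < 22755 → pointOk (k * 20) = true := between_extend pointOk 20 21324 22728 27 (p3u51) p3r52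

theorem p3r53 : allRange pointOk 20 22755 27 = true := by decide +kernel
theorem p3u53 : ∀ k, 21324 ≤ k → k < 22782 → pointOk (k * 20) = true := between_extend pointOk 20 21324 22755 27 (p3u52) p3r53

theorem p3r54 : allRange pointOk 20 22782 27 = true := by decide +kernel
theorem p3u54 : ∀ k, 21324 ≤ k → k < 22809 → pointOk (k * 20) = true := between_extend pointOk 20 21324 22782 27 (p3u53) p3r54

theorem p3r55 : allRange pointOk 20 22809 27 = true := by decide +kernel
theorem p3u55 : ∀ k, 21324 ≤ k → k < 22836 → pointOk (k * 20) = true := between_extend pointOk 20 21324 22809 27 (p3u54) p3r55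

theorem p3r56 : allRange pointOk 20 22836 27 = true := by decide +kernel
theorem p3u56 : ∀ k, 21324 ≤ k → k < 22863 → pointOk (k * 20) = true := between_extend pointOk 20 21324 22836 27 (p3u55) p3r56

theorem p3r57 : allRange pointOk 20 22863 27 = true := by decide +kernel
theorem p3u57 : ∀ k, 21324 ≤ k → k < 22890 → pointOk (k * 20) = true := between_extend pointOk 20 21324 22863 27 (p3u56) p3r57

theorem p3r58 : allRange pointOk 20 22890 27 = true := by decide +kernel
theorem p3u58 : ∀ k, 21324 ≤ k → k < 22917 → pointOk (k * 20) = true := between_extend pointOk 20 21324 22890 27 (p3u57) p3r58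

theorem p3r59 : allRange pointOk 20 22917 27 = true := by decide +kernel
theorem p3u59 : ∀ k, 21324 ≤ k → k < 22944 → pointOk (k * 20) = true := between_extend pointOk 20 21324 22917 27 (p3u58) p3r59

theorem p3r60 : allRange pointOk 20 22944 27 = true := by decide +kernel
theorem p3u60 : ∀ k, 21324 ≤ k → k < 22971 → pointOk (k * 20) = true := between_extend pointOk 20 21324 22944 27 (p3u59) p3r60

theorem p3r61 : allRange pointOk 20 22971 27 = true := by decide +kernel
theorem p3u61 : ∀ k, 21324 ≤ k → k < 22998 → pointOk (k * 20) = true := between_extend pointOk 20 21324 22971 27 (p3u60) p3r61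

theorem p3r62 : allRange pointOk 20 22998 27 = true := by decide +kernel
theorem p3u62 : ∀ k, 21324 ≤ k → k < 23025 → pointOk (k * 20) = true := between_extend pointOk 20 21324 22998 27 (p3u61) p3r62

theorem p3r63 : allRange pointOk 20 23025 27 = true := by decide +kernel
theorem p3u63 : ∀ k, 21324 ≤ k → k < 23052 → pointOk (k * 20) = true := between_extend pointOk 20 21324 23025 27 (p3u62) p3r63

theorem p3r64 : allRange pointOk 20 23052 27 = true := by decide +kernel
theorem p3u64 : ∀ k, 21324 ≤ k → k < 23079 → pointOk (k * 20) = true := between_extend pointOk 20 21324 23052 27 (p3u63) p3r64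

theorem p3r65 : allRange pointOk 20 23079 27 = true := by decide +kernel
theorem p3u65 : ∀ k, 21324 ≤ k → k < 23106 → pointOk (k * 20) = true := between_extend pointOk 20 21324 23079 27 (p3u64) p3r65

theorem p3r66 : allRange pointOk 20 23106 27 = true := by decide +kernel
theorem p3u66 : ∀ k, 21324 ≤ k → k < 23133 → pointOk (k * 20) = true := between_extend pointOk 20 21324 23106 27 (p3u65) p3r66

theorem p3r67 : allRange pointOk 20 23133 27 = true := by decide +kernel
theorem p3u67 : ∀ k, 21324 ≤ k → k < 23160 → pointOk (k * 20) = true := between_extend pointOk 20 21324 23133 27 (p3u66) p3r67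

theorem p3r68 : allRange pointOk 20 23160 27 = true := by decide +kernel
theorem p3u68 : ∀ k, 21324 ≤ k → k < 23187 → pointOk (k * 20) = true := between_extend pointOk 20 21324 23160 27 (p3u67) p3r68

theorem p3r69 : allRange pointOk 20 23187 27 = true := by decide +kernel
theorem p3u69 : ∀ k, 21324 ≤ k → k < 23214 → pointOk (k * 20) = true := between_extend pointOk 20 21324 23187 27 (p3u68) p3r69

theorem p3r70 : allRange pointOk 20 23214 27 = true := by decide +kernel
theorem p3u70 : ∀ k, 21324 ≤ k → k < 23241 → pointOk (k * 20) = true := between_extend pointOk 20 21324 23214 27 (p3u69) p3r70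

theorem p3r71 : allRange pointOk 20 23241 27 = true := by decide +kernel
theorem p3u71 : ∀ k, 21324 ≤ k → k < 23268 → pointOk (k * 20) = true := between_extend pointOk 20 21324 23241 27 (p3u70) p3r71

theorem p3r72 : allRange pointOk 20 23268 27 = true := by decide +kernel
theorem p3u72 : ∀ k, 21324 ≤ k → k < 23295 → pointOk (k * 20) = true := between_extend pointOk 20 21324 23268 27 (p3u71) p3r72

theorem p3r73 : allRange pointOk 20 23295 27 = true := by decide +kernel
theorem p3u73 : ∀ k, 21324 ≤ k → k < 23322 → pointOk (k * 20) = true := between_extend pointOk 20 21324 23295 27 (p3u72) p3r73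

theorem p3r74 : allRange pointOk 20 23322 27 = true := by decide +kernel
theorem p3u74 : ∀ k, 21324 ≤ k → k < 23349 → pointOk (k * 20) = true := between_extend pointOk 20 21324 23322 27 (p3u73) p3r74

theorem p3r75 : allRange pointOk 20 23349 27 = true := by decide +kernel
theorem p3u75 : ∀ k, 21324 ≤ k → k < 23376 → pointOk (k * 20) = true := between_extend pointOk 20 21324 23349 27 (p3u74) p3r75

theorem p3r76 : allRange pointOk 20 23376 27 = true := by decide +kernel
theorem p3u76 : ∀ k, 21324 ≤ k → k < 23403 → pointOk (k * 20) = true := between_extend pointOk 20 21324 23376 27 (p3u75) p3r76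

theorem p3r77 : allRange pointOk 20 23403 27 = true := by decide +kernel
theorem p3u77 : ∀ k, 21324 ≤ k → k < 23430 → pointOk (k * 20) = true := between_extend pointOk 20 21324 23403 27 (p3u76) p3r77

theorem p3r78 : allRange pointOk 20 23430 27 = true := by decide +kernel
theorem p3u78 : ∀ k, 21324 ≤ k → k < 23457 → pointOk (k * 20) = true := between_extend pointOk 20 21324 23430 27 (p3u77) p3r78

theorem p3r79 : allRange pointOk 20 23457 27 = true := by decide +kernel
theorem p3u79 : ∀ k, 21324 ≤ k → k < 23484 → pointOk (k * 20) = true := between_extend pointOk 20 21324 23457 27 (p3u78) p3r79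

theorem p3r80 : allRange pointOk 20 23484 27 = true := by decide +kernel
theorem p3u80 : ∀ k, 21324 ≤ k → k < 23511 → pointOk (k * 20) = true := between_extend pointOk 20 21324 23484 27 (p3u79) p3r80

theorem p3r81 : allRange pointOk 20 23511 27 = true := by decide +kernel
theorem p3u81 : ∀ k, 21324 ≤ k → k < 23538 → pointOk (k * 20) = true := between_extend pointOk 20 21324 23511 27 (p3u80) p3r81

theorem p3r82 : allRange pointOk 20 23538 27 = true := by decide +kernel
theorem p3u82 : ∀ k, 21324 ≤ k → k < 23565 → pointOk (k * 20) = true := between_extend pointOk 20 21324 23538 27 (p3u81) p3r82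

theorem p3r83 : allRange pointOk 20 23565 27 = true := by decide +kernel
theorem p3u83 : ∀ k, 21324 ≤ k → k < 23592 → pointOk (k * 20) = true := between_extend pointOk 20 21324 23565 27 (p3u82) p3r83

theorem p3r84 : allRange pointOk 20 23592 27 = true := by decide +kernel
theorem p3u84 : ∀ k, 21324 ≤ k → k < 23619 → pointOk (k * 20) = true := between_extend pointOk 20 21324 23592 27 (p3u83) p3r84

theorem p3r85 : allRange pointOk 20 23619 27 = true := by decide +kernel
theorem p3u85 : ∀ k, 21324 ≤ k → k < 23646 → pointOk (k * 20) = true := between_extend pointOk 20 21324 23619 27 (p3u84) p3r85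

theorem p3r86 : allRange pointOk 20 23646 27 = true := by decide +kernel
theorem p3u86 : ∀ k, 21324 ≤ k → k < 23673 → pointOk (k * 20) = true := between_extend pointOk 20 21324 23646 27 (p3u85) p3r86

theorem p3r87 : allRange pointOk 20 23673 27 = true := by decide +kernel
theorem p3u87 : ∀ k, 21324 ≤ k → k < 23700 → pointOk (k * 20) = true := between_extend pointOk 20 21324 23673 27 (p3u86) p3r87

theorem p3r88 : allRange pointOk 20 23700 27 = true := by decide +kernel
theorem p3u88 : ∀ k, 21324 ≤ k → k < 23727 → pointOk (k * 20) = true := between_extend pointOk 20 21324 23700 27 (p3u87) p3r88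

theorem p3r89 : allRange pointOk 20 23727 27 = true := by decide +kernel
theorem p3u89 : ∀ k, 21324 ≤ k → k < 23754 → pointOk (k * 20) = true := between_extend pointOk 20 21324 23727 27 (p3u88) p3r89

theorem p3r90 : allRange pointOk 20 23754 27 = true := by decide +kernel
theorem p3u90 : ∀ k, 21324 ≤ k → k < 23781 → pointOk (k * 20) = true := between_extend pointOk 20 21324 23754 27 (p3u89) p3r90

theorem p3r91 : allRange pointOk 20 23781 27 = true := by decide +kernel
theorem p3u91 : ∀ k, 21324 ≤ k → k < 23808 → pointOk (k * 20) = true := between_extend pointOk 20 21324 23781 27 (p3u90) p3r91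

theorem p3r92 : allRange pointOk 20 23808 27 = true := by decide +kernel
theorem p3u92 : ∀ k, 21324 ≤ k → k < 23835 → pointOk (k * 20) = true := between_extend pointOk 20 21324 23808 27 (p3u91) p3r92

theorem p3r93 : allRange pointOk 20 23835 27 = true := by decide +kernel
theorem p3u93 : ∀ k, 21324 ≤ k → k < 23862 → pointOk (k * 20) = true := between_extend pointOk 20 21324 23835 27 (p3u92) p3r93

theorem p3r94 : allRange pointOk 20 23862 27 = true := by decide +kernel
theorem p3u94 : ∀ k, 21324 ≤ k → k < 23889 → pointOk (k * 20) = true := between_extend pointOk 20 21324 23862 27 (p3u93) p3r94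

theorem p3r95 : allRange pointOk 20 23889 27 = true := by decide +kernel
theorem p3u95 : ∀ k, 21324 ≤ k → k < 23916 → pointOk (k * 20) = true := between_extend pointOk 20 21324 23889 27 (p3u94) p3r95

theorem p3r96 : allRange pointOk 20 23916 27 = true := by decide +kernel
theorem p3u96 : ∀ k, 21324 ≤ k → k < 23943 → pointOk (k * 20) = true := between_extend pointOk 20 21324 23916 27 (p3u95) p3r96

theorem p3r97 : allRange pointOk 20 23943 27 = true := by decide +kernel
theorem p3u97 : ∀ k, 21324 ≤ k → k < 23970 → pointOk (k * 20) = true := between_extend pointOk 20 21324 23943 27 (p3u96) p3r97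

theorem p3r98 : allRange pointOk 20 23970 27 = true := by decide +kernel
theorem p3u98 : ∀ k, 21324 ≤ k → k < 23997 → pointOk (k * 20) = true := between_extend pointOk 20 21324 23970 27 (p3u97) p3r98

theorem p3r99 : allRange pointOk 20 23997 27 = true := by decide +kernel
theorem p3u99 : ∀ k, 21324 ≤ k → k < 24024 → pointOk (k * 20) = true := between_extend pointOk 20 21324 23997 27 (p3u98) p3r99

theorem p3r100 : allRange pointOk 20 24024 27 = true := by decide +kernel
theorem p3u100 : ∀ k, 21324 ≤ k → k < 24051 → pointOk (k * 20) = true := between_extend pointOk 20 21324 24024 27 (p3u99) p3r100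

theorem p3r101 : allRange pointOk 20 24051 27 = true := by decide +kernel
theorem p3u101 : ∀ k, 21324 ≤ k → k < 24078 → pointOk (k * 20) = true := between_extend pointOk 20 21324 24051 27 (p3u100) p3r101

theorem p3r102 : allRange pointOk 20 24078 27 = true := by decide +kernel
theorem p3u102 : ∀ k, 21324 ≤ k → k < 24105 → pointOk (k * 20) = true := between_extend pointOk 20 21324 24078 27 (p3u101) p3r102

theorem p3r103 : allRange pointOk 20 24105 27 = true := by decide +kernel
theorem p3u103 : ∀ k, 21324 ≤ k → k < 24132 → pointOk (k * 20) = true := between_extend pointOk 20 21324 24105 27 (p3u102) p3r103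

theorem p3r104 : allRange pointOk 20 24132 27 = true := by decide +kernel
theorem p3u104 : ∀ k, 21324 ≤ k → k < 24159 → pointOk (k * 20) = true := between_extend pointOk 20 21324 24132 27 (p3u103) p3r104

theorem p3r105 : allRange pointOk 20 24159 27 = true := by decide +kernel
theorem p3u105 : ∀ k, 21324 ≤ k → k < 24186 → pointOk (k * 20) = true := between_extend pointOk 20 21324 24159 27 (p3u104) p3r105

theorem p3r106 : allRange pointOk 20 24186 27 = true := by decide +kernel
theorem p3u106 : ∀ k, 21324 ≤ k → k < 24213 → pointOk (k * 20) = true := between_extend pointOk 20 21324 24186 27 (p3u105) p3r106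

theorem p3r107 : allRange pointOk 20 24213 27 = true := by decide +kernel
theorem p3u107 : ∀ k, 21324 ≤ k → k < 24240 → pointOk (k * 20) = true := between_extend pointOk 20 21324 24213 27 (p3u106) p3r107

theorem p3r108 : allRange pointOk 20 24240 27 = true := by decide +kernel
theorem p3u108 : ∀ k, 21324 ≤ k → k < 24267 → pointOk (k * 20) = true := between_extend pointOk 20 21324 24240 27 (p3u107) p3r108

theorem p3r109 : allRange pointOk 20 24267 27 = true := by decide +kernel
theorem p3u109 : ∀ k, 21324 ≤ k → k < 24294 → pointOk (k * 20) = true := between_extend pointOk 20 21324 24267 27 (p3u108) p3r109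

theorem p3r110 : allRange pointOk 20 24294 27 = true := by decide +kernel
theorem p3u110 : ∀ k, 21324 ≤ k → k < 24321 → pointOk (k * 20) = true := between_extend pointOk 20 21324 24294 27 (p3u109) p3r110

theorem p3r111 : allRange pointOk 20 24321 27 = true := by decide +kernel
theorem p3u111 : ∀ k, 21324 ≤ k → k < 24348 → pointOk (k * 20) = true := between_extend pointOk 20 21324 24321 27 (p3u110) p3r111

theorem p3r112 : allRange pointOk 20 24348 27 = true := by decide +kernel
theorem p3u112 : ∀ k, 21324 ≤ k → k < 24375 → pointOk (k * 20) = true := between_extend pointOk 20 21324 24348 27 (p3u111) p3r112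

theorem p3r113 : allRange pointOk 20 24375 27 = true := by decide +kernel
theorem p3u113 : ∀ k, 21324 ≤ k → k < 24402 → pointOk (k * 20) = true := between_extend pointOk 20 21324 24375 27 (p3u112) p3r113

theorem p3r114 : allRange pointOk 20 24402 27 = true := by decide +kernel
theorem p3u114 : ∀ k, 21324 ≤ k → k < 24429 → pointOk (k * 20) = true := between_extend pointOk 20 21324 24402 27 (p3u113) p3r114

theorem p3r115 : allRange pointOk 20 24429 27 = true := by decide +kernel
theorem p3u115 : ∀ k, 21324 ≤ k → k < 24456 → pointOk (k * 20) = true := between_extend pointOk 20 21324 24429 27 (p3u114) p3r115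

theorem p3r116 : allRange pointOk 20 24456 27 = true := by decide +kernel
theorem p3u116 : ∀ k, 21324 ≤ k → k < 24483 → pointOk (k * 20) = true := between_extend pointOk 20 21324 24456 27 (p3u115) p3r116

theorem p3r117 : allRange pointOk 20 24483 27 = true := by decide +kernel
theorem p3u117 : ∀ k, 21324 ≤ k → k < 24510 → pointOk (k * 20) = true := between_extend pointOk 20 21324 24483 27 (p3u116) p3r117

theorem p3r118 : allRange pointOk 20 24510 27 = true := by decide +kernel
theorem p3u118 : ∀ k, 21324 ≤ k → k < 24537 → pointOk (k * 20) = true := between_extend pointOk 20 21324 24510 27 (p3u117) p3r118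

theorem p3r119 : allRange pointOk 20 24537 27 = true := by decide +kernel
theorem p3u119 : ∀ k, 21324 ≤ k → k < 24564 → pointOk (k * 20) = true := between_extend pointOk 20 21324 24537 27 (p3u118) p3r119

theorem p3r120 : allRange pointOk 20 24564 27 = true := by decide +kernel
theorem p3u120 : ∀ k, 21324 ≤ k → k < 24591 → pointOk (k * 20) = true := between_extend pointOk 20 21324 24564 27 (p3u119) p3r120

theorem p3r121 : allRange pointOk 20 24591 27 = true := by decide +kernel
theorem p3u121 : ∀ k, 21324 ≤ k → k < 24618 → pointOk (k * 20) = true := between_extend pointOk 20 21324 24591 27 (p3u120) p3r121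

theorem p3r122 : allRange pointOk 20 24618 27 = true := by decide +kernel
theorem p3u122 : ∀ k, 21324 ≤ k → k < 24645 → pointOk (k * 20) = true := between_extend pointOk 20 21324 24618 27 (p3u121) p3r122

theorem p3r123 : allRange pointOk 20 24645 27 = true := by decide +kernel
theorem p3u123 : ∀ k, 21324 ≤ k → k < 24672 → pointOk (k * 20) = true := between_extend pointOk 20 21324 24645 27 (p3u122) p3r123

theorem p3r124 : allRange pointOk 20 24672 27 = true := by decide +kernel
theorem p3u124 : ∀ k, 21324 ≤ k → k < 24699 → pointOk (k * 20) = true := between_extend pointOk 20 21324 24672 27 (p3u123) p3r124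

theorem p3r125 : allRange pointOk 20 24699 27 = true := by decide +kernel
theorem p3u125 : ∀ k, 21324 ≤ k → k < 24726 → pointOk (k * 20) = true := between_extend pointOk 20 21324 24699 27 (p3u124) p3r125

theorem p3r126 : allRange pointOk 20 24726 27 = true := by decide +kernel
theorem p3u126 : ∀ k, 21324 ≤ k → k < 24753 → pointOk (k * 20) = true := between_extend pointOk 20 21324 24726 27 (p3u125) p3r126

theorem p3r127 : allRange pointOk 20 24753 27 = true := by decide +kernel
theorem p3u127 : ∀ k, 21324 ≤ k → k < 24780 → pointOk (k * 20) = true := between_extend pointOk 20 21324 24753 27 (p3u126) p3r127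

theorem p3r128 : allRange pointOk 20 24780 27 = true := by decide +kernel
theorem p3u128 : ∀ k, 21324 ≤ k → k < 24807 → pointOk (k * 20) = true := between_extend pointOk 20 21324 24780 27 (p3u127) p3r128

theorem p3r129 : allRange pointOk 20 24807 27 = true := by decide +kernel
theorem p3u129 : ∀ k, 21324 ≤ k → k < 24834 → pointOk (k * 20) = true := between_extend pointOk 20 21324 24807 27 (p3u128) p3r129

theorem p3r130 : allRange pointOk 20 24834 27 = true := by decide +kernel
theorem p3u130 : ∀ k, 21324 ≤ k → k < 24861 → pointOk (k * 20) = true := between_extend pointOk 20 21324 24834 27 (p3u129) p3r130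

theorem p3r131 : allRange pointOk 20 24861 27 = true := by decide +kernel
theorem p3u131 : ∀ k, 21324 ≤ k → k < 24888 → pointOk (k * 20) = true := between_extend pointOk 20 21324 24861 27 (p3u130) p3r131

theorem p3r132 : allRange pointOk 20 24888 27 = true := by decide +kernel
theorem p3u132 : ∀ k, 21324 ≤ k → k < 24915 → pointOk (k * 20) = true := between_extend pointOk 20 21324 24888 27 (p3u131) p3r132

theorem p3r133 : allRange pointOk 20 24915 27 = true := by decide +kernel
theorem p3u133 : ∀ k, 21324 ≤ k → k < 24942 → pointOk (k * 20) = true := between_extend pointOk 20 21324 24915 27 (p3u132) p3r133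

theorem p3r134 : allRange pointOk 20 24942 27 = true := by decide +kernel
theorem p3u134 : ∀ k, 21324 ≤ k → k < 24969 → pointOk (k * 20) = true := between_extend pointOk 20 21324 24942 27 (p3u133) p3r134

theorem p3r135 : allRange pointOk 20 24969 27 = true := by decide +kernel
theorem p3u135 : ∀ k, 21324 ≤ k → k < 24996 → pointOk (k * 20) = true := between_extend pointOk 20 21324 24969 27 (p3u134) p3r135

theorem p3r136 : allRange pointOk 20 24996 27 = true := by decide +kernel
theorem p3u136 : ∀ k, 21324 ≤ k → k < 25023 → pointOk (k * 20) = true := between_extend pointOk 20 21324 24996 27 (p3u135) p3r136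

theorem p3r137 : allRange pointOk 20 25023 27 = true := by decide +kernel
theorem p3u137 : ∀ k, 21324 ≤ k → k < 25050 → pointOk (k * 20) = true := between_extend pointOk 20 21324 25023 27 (p3u136) p3r137

theorem p3r138 : allRange pointOk 20 25050 27 = true := by decide +kernel
theorem p3u138 : ∀ k, 21324 ≤ k → k < 25077 → pointOk (k * 20) = true := between_extend pointOk 20 21324 25050 27 (p3u137) p3r138

theorem p3r139 : allRange pointOk 20 25077 27 = true := by decide +kernel
theorem p3u139 : ∀ k, 21324 ≤ k → k < 25104 → pointOk (k * 20) = true := between_extend pointOk 20 21324 25077 27 (p3u138) p3r139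

theorem p3r140 : allRange pointOk 20 25104 27 = true := by decide +kernel
theorem p3u140 : ∀ k, 21324 ≤ k → k < 25131 → pointOk (k * 20) = true := between_extend pointOk 20 21324 25104 27 (p3u139) p3r140

theorem p3r141 : allRange pointOk 20 25131 27 = true := by decide +kernel
theorem p3u141 : ∀ k, 21324 ≤ k → k < 25158 → pointOk (k * 20) = true := between_extend pointOk 20 21324 25131 27 (p3u140) p3r141

theorem p3r142 : allRange pointOk 20 25158 27 = true := by decide +kernel
theorem p3u142 : ∀ k, 21324 ≤ k → k < 25185 → pointOk (k * 20) = true := between_extend pointOk 20 21324 25158 27 (p3u141) p3r142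

theorem p3r143 : allRange pointOk 20 25185 27 = true := by decide +kernel
theorem p3u143 : ∀ k, 21324 ≤ k → k < 25212 → pointOk (k * 20) = true := between_extend pointOk 20 21324 25185 27 (p3u142) p3r143

theorem p3r144 : allRange pointOk 20 25212 27 = true := by decide +kernel
theorem p3u144 : ∀ k, 21324 ≤ k → k < 25239 → pointOk (k * 20) = true := between_extend pointOk 20 21324 25212 27 (p3u143) p3r144

theorem p3r145 : allRange pointOk 20 25239 27 = true := by decide +kernel
theorem p3u145 : ∀ k, 21324 ≤ k → k < 25266 → pointOk (k * 20) = true := between_extend pointOk 20 21324 25239 27 (p3u144) p3r145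

theorem p3r146 : allRange pointOk 20 25266 27 = true := by decide +kernel
theorem p3u146 : ∀ k, 21324 ≤ k → k < 25293 → pointOk (k * 20) = true := between_extend pointOk 20 21324 25266 27 (p3u145) p3r146

theorem p3r147 : allRange pointOk 20 25293 27 = true := by decide +kernel
theorem p3u147 : ∀ k, 21324 ≤ k → k < 25320 → pointOk (k * 20) = true := between_extend pointOk 20 21324 25293 27 (p3u146) p3r147

theorem p3r148 : allRange pointOk 20 25320 27 = true := by decide +kernel
theorem p3u148 : ∀ k, 21324 ≤ k → k < 25347 → pointOk (k * 20) = true := between_extend pointOk 20 21324 25320 27 (p3u147) p3r148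

theorem p3r149 : allRange pointOk 20 25347 27 = true := by decide +kernel
theorem p3u149 : ∀ k, 21324 ≤ k → k < 25374 → pointOk (k * 20) = true := between_extend pointOk 20 21324 25347 27 (p3u148) p3r149

theorem p3r150 : allRange pointOk 20 25374 27 = true := by decide +kernel
theorem p3u150 : ∀ k, 21324 ≤ k → k < 25401 → pointOk (k * 20) = true := between_extend pointOk 20 21324 25374 27 (p3u149) p3r150

theorem p3r151 : allRange pointOk 20 25401 27 = true := by decide +kernel
theorem p3u151 : ∀ k, 21324 ≤ k → k < 25428 → pointOk (k * 20) = true := between_extend pointOk 20 21324 25401 27 (p3u150) p3r151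

theorem p3r152 : allRange pointOk 20 25428 27 = true := by decide +kernel
theorem p3u152 : ∀ k, 21324 ≤ k → k < 25455 → pointOk (k * 20) = true := between_extend pointOk 20 21324 25428 27 (p3u151) p3r152

theorem p3r153 : allRange pointOk 20 25455 27 = true := by decide +kernel
theorem p3u153 : ∀ k, 21324 ≤ k → k < 25482 → pointOk (k * 20) = true := between_extend pointOk 20 21324 25455 27 (p3u152) p3r153

theorem p3r154 : allRange pointOk 20 25482 27 = true := by decide +kernel
theorem p3u154 : ∀ k, 21324 ≤ k → k < 25509 → pointOk (k * 20) = true := between_extend pointOk 20 21324 25482 27 (p3u153) p3r154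

theorem p3r155 : allRange pointOk 20 25509 27 = true := by decide +kernel
theorem p3u155 : ∀ k, 21324 ≤ k → k < 25536 → pointOk (k * 20) = true := between_extend pointOk 20 21324 25509 27 (p3u154) p3r155

theorem p3r156 : allRange pointOk 20 25536 27 = true := by decide +kernel
theorem p3u156 : ∀ k, 21324 ≤ k → k < 25563 → pointOk (k * 20) = true := between_extend pointOk 20 21324 25536 27 (p3u155) p3r156

theorem p3r157 : allRange pointOk 20 25563 27 = true := by decide +kernel
theorem p3u157 : ∀ k, 21324 ≤ k → k < 25590 → pointOk (k * 20) = true := between_extend pointOk 20 21324 25563 27 (p3u156) p3r157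

theorem p3r158 : allRange pointOk 20 25590 27 = true := by decide +kernel
theorem p3u158 : ∀ k, 21324 ≤ k → k < 25617 → pointOk (k * 20) = true := between_extend pointOk 20 21324 25590 27 (p3u157) p3r158

theorem p3r159 : allRange pointOk 20 25617 27 = true := by decide +kernel
theorem p3u159 : ∀ k, 21324 ≤ k → k < 25644 → pointOk (k * 20) = true := between_extend pointOk 20 21324 25617 27 (p3u158) p3r159

theorem p3r160 : allRange pointOk 20 25644 27 = true := by decide +kernel
theorem p3u160 : ∀ k, 21324 ≤ k → k < 25671 → pointOk (k * 20) = true := between_extend pointOk 20 21324 25644 27 (p3u159) p3r160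

theorem p3r161 : allRange pointOk 20 25671 27 = true := by decide +kernel
theorem p3u161 : ∀ k, 21324 ≤ k → k < 25698 → pointOk (k * 20) = true := between_extend pointOk 20 21324 25671 27 (p3u160) p3r161

theorem p3r162 : allRange pointOk 20 25698 27 = true := by decide +kernel
theorem p3u162 : ∀ k, 21324 ≤ k → k < 25725 → pointOk (k * 20) = true := between_extend pointOk 20 21324 25698 27 (p3u161) p3r162

theorem p3r163 : allRange pointOk 20 25725 27 = true := by decide +kernel
theorem p3u163 : ∀ k, 21324 ≤ k → k < 25752 → pointOk (k * 20) = true := between_extend pointOk 20 21324 25725 27 (p3u162) p3r163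

theorem p3r164 : allRange pointOk 20 25752 27 = true := by decide +kernel
theorem p3u164 : ∀ k, 21324 ≤ k → k < 25779 → pointOk (k * 20) = true := between_extend pointOk 20 21324 25752 27 (p3u163) p3r164

theorem p3r165 : allRange pointOk 20 25779 27 = true := by decide +kernel
theorem p3u165 : ∀ k, 21324 ≤ k → k < 25806 → pointOk (k * 20) = true := between_extend pointOk 20 21324 25779 27 (p3u164) p3r165

theorem p3r166 : allRange pointOk 20 25806 27 = true := by decide +kernel
theorem p3u166 : ∀ k, 21324 ≤ k → k < 25833 → pointOk (k * 20) = true := between_extend pointOk 20 21324 25806 27 (p3u165) p3r166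

theorem p3r167 : allRange pointOk 20 25833 27 = true := by decide +kernel
theorem p3u167 : ∀ k, 21324 ≤ k → k < 25860 → pointOk (k * 20) = true := between_extend pointOk 20 21324 25833 27 (p3u166) p3r167

theorem p3r168 : allRange pointOk 20 25860 27 = true := by decide +kernel
theorem p3u168 : ∀ k, 21324 ≤ k → k < 25887 → pointOk (k * 20) = true := between_extend pointOk 20 21324 25860 27 (p3u167) p3r168

theorem p3r169 : allRange pointOk 20 25887 27 = true := by decide +kernel
theorem p3u169 : ∀ k, 21324 ≤ k → k < 25914 → pointOk (k * 20) = true := between_extend pointOk 20 21324 25887 27 (p3u168) p3r169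

theorem p3r170 : allRange pointOk 20 25914 27 = true := by decide +kernel
theorem p3u170 : ∀ k, 21324 ≤ k → k < 25941 → pointOk (k * 20) = true := between_extend pointOk 20 21324 25914 27 (p3u169) p3r170

theorem p3r171 : allRange pointOk 20 25941 27 = true := by decide +kernel
theorem p3u171 : ∀ k, 21324 ≤ k → k < 25968 → pointOk (k * 20) = true := between_extend pointOk 20 21324 25941 27 (p3u170) p3r171

theorem p3r172 : allRange pointOk 20 25968 27 = true := by decide +kernel
theorem p3u172 : ∀ k, 21324 ≤ k → k < 25995 → pointOk (k * 20) = true := between_extend pointOk 20 21324 25968 27 (p3u171) p3r172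

theorem p3r173 : allRange pointOk 20 25995 27 = true := by decide +kernel
theorem p3u173 : ∀ k, 21324 ≤ k → k < 26022 → pointOk (k * 20) = true := between_extend pointOk 20 21324 25995 27 (p3u172) p3r173

theorem p3r174 : allRange pointOk 20 26022 27 = true := by decide +kernel
theorem p3u174 : ∀ k, 21324 ≤ k → k < 26049 → pointOk (k * 20) = true := between_extend pointOk 20 21324 26022 27 (p3u173) p3r174

theorem p3r175 : allRange pointOk 20 26049 27 = true := by decide +kernel
theorem p3u175 : ∀ k, 21324 ≤ k → k < 26076 → pointOk (k * 20) = true := between_extend pointOk 20 21324 26049 27 (p3u174) p3r175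

theorem p3r176 : allRange pointOk 20 26076 27 = true := by decide +kernel
theorem p3u176 : ∀ k, 21324 ≤ k → k < 26103 → pointOk (k * 20) = true := between_extend pointOk 20 21324 26076 27 (p3u175) p3r176

theorem p3r177 : allRange pointOk 20 26103 27 = true := by decide +kernel
theorem p3u177 : ∀ k, 21324 ≤ k → k < 26130 → pointOk (k * 20) = true := between_extend pointOk 20 21324 26103 27 (p3u176) p3r177

theorem p3r178 : allRange pointOk 20 26130 27 = true := by decide +kernel
theorem p3u178 : ∀ k, 21324 ≤ k → k < 26157 → pointOk (k * 20) = true := between_extend pointOk 20 21324 26130 27 (p3u177) p3r178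

theorem p3r179 : allRange pointOk 20 26157 27 = true := by decide +kernel
theorem p3u179 : ∀ k, 21324 ≤ k → k < 26184 → pointOk (k * 20) = true := between_extend pointOk 20 21324 26157 27 (p3u178) p3r179

theorem p3r180 : allRange pointOk 20 26184 27 = true := by decide +kernel
theorem p3u180 : ∀ k, 21324 ≤ k → k < 26211 → pointOk (k * 20) = true := between_extend pointOk 20 21324 26184 27 (p3u179) p3r180

theorem p3r181 : allRange pointOk 20 26211 27 = true := by decide +kernel
theorem p3u181 : ∀ k, 21324 ≤ k → k < 26238 → pointOk (k * 20) = true := between_extend pointOk 20 21324 26211 27 (p3u180) p3r181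

theorem p3r182 : allRange pointOk 20 26238 27 = true := by decide +kernel
theorem p3u182 : ∀ k, 21324 ≤ k → k < 26265 → pointOk (k * 20) = true := between_extend pointOk 20 21324 26238 27 (p3u181) p3r182

theorem p3r183 : allRange pointOk 20 26265 27 = true := by decide +kernel
theorem p3u183 : ∀ k, 21324 ≤ k → k < 26292 → pointOk (k * 20) = true := between_extend pointOk 20 21324 26265 27 (p3u182) p3r183

theorem p3r184 : allRange pointOk 20 26292 27 = true := by decide +kernel
theorem p3u184 : ∀ k, 21324 ≤ k → k < 26319 → pointOk (k * 20) = true := between_extend pointOk 20 21324 26292 27 (p3u183) p3r184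

theorem p3r185 : allRange pointOk 20 26319 27 = true := by decide +kernel
theorem p3u185 : ∀ k, 21324 ≤ k → k < 26346 → pointOk (k * 20) = true := between_extend pointOk 20 21324 26319 27 (p3u184) p3r185

theorem p3r186 : allRange pointOk 20 26346 27 = true := by decide +kernel
theorem p3u186 : ∀ k, 21324 ≤ k → k < 26373 → pointOk (k * 20) = true := between_extend pointOk 20 21324 26346 27 (p3u185) p3r186

theorem p3r187 : allRange pointOk 20 26373 27 = true := by decide +kernel
theorem p3u187 : ∀ k, 21324 ≤ k → k < 26400 → pointOk (k * 20) = true := between_extend pointOk 20 21324 26373 27 (p3u186) p3r187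

theorem p3r188 : allRange pointOk 20 26400 27 = true := by decide +kernel
theorem p3u188 : ∀ k, 21324 ≤ k → k < 26427 → pointOk (k * 20) = true := between_extend pointOk 20 21324 26400 27 (p3u187) p3r188

theorem p3r189 : allRange pointOk 20 26427 27 = true := by decide +kernel
theorem p3u189 : ∀ k, 21324 ≤ k → k < 26454 → pointOk (k * 20) = true := between_extend pointOk 20 21324 26427 27 (p3u188) p3r189

theorem p3r190 : allRange pointOk 20 26454 27 = true := by decide +kernel
theorem p3u190 : ∀ k, 21324 ≤ k → k < 26481 → pointOk (k * 20) = true := between_extend pointOk 20 21324 26454 27 (p3u189) p3r190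

theorem p3r191 : allRange pointOk 20 26481 27 = true := by decide +kernel
theorem p3u191 : ∀ k, 21324 ≤ k → k < 26508 → pointOk (k * 20) = true := between_extend pointOk 20 21324 26481 27 (p3u190) p3r191

theorem p3r192 : allRange pointOk 20 26508 27 = true := by decide +kernel
theorem p3u192 : ∀ k, 21324 ≤ k → k < 26535 → pointOk (k * 20) = true := between_extend pointOk 20 21324 26508 27 (p3u191) p3r192

theorem p3r193 : allRange pointOk 20 26535 27 = true := by decide +kernel
theorem p3u193 : ∀ k, 21324 ≤ k → k < 26562 → pointOk (k * 20) = true := between_extend pointOk 20 21324 26535 27 (p3u192) p3r193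

theorem p3r194 : allRange pointOk 20 26562 27 = true := by decide +kernel
theorem p3u194 : ∀ k, 21324 ≤ k → k < 26589 → pointOk (k * 20) = true := between_extend pointOk 20 21324 26562 27 (p3u193) p3r194

theorem p3r195 : allRange pointOk 20 26589 27 = true := by decide +kernel
theorem p3u195 : ∀ k, 21324 ≤ k → k < 26616 → pointOk (k * 20) = true := between_extend pointOk 20 21324 26589 27 (p3u194) p3r195

theorem p3r196 : allRange pointOk 20 26616 27 = true := by decide +kernel
theorem p3u196 : ∀ k, 21324 ≤ k → k < 26643 → pointOk (k * 20) = true := between_extend pointOk 20 21324 26616 27 (p3u195) p3r196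

theorem p3r197 : allRange pointOk 20 26643 27 = true := by decide +kernel
theorem p3u197 : ∀ k, 21324 ≤ k → k < 26670 → pointOk (k * 20) = true := between_extend pointOk 20 21324 26643 27 (p3u196) p3r197

theorem p3r198 : allRange pointOk 20 26670 27 = true := by decide +kernel
theorem p3u198 : ∀ k, 21324 ≤ k → k < 26697 → pointOk (k * 20) = true := between_extend pointOk 20 21324 26670 27 (p3u197) p3r198

theorem p3r199 : allRange pointOk 20 26697 27 = true := by decide +kernel
theorem p3u199 : ∀ k, 21324 ≤ k → k < 26724 → pointOk (k * 20) = true := between_extend pointOk 20 21324 26697 27 (p3u198) p3r199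

theorem p3r200 : allRange pointOk 20 26724 27 = true := by decide +kernel
theorem p3u200 : ∀ k, 21324 ≤ k → k < 26751 → pointOk (k * 20) = true := between_extend pointOk 20 21324 26724 27 (p3u199) p3r200

theorem p3r201 : allRange pointOk 20 26751 27 = true := by decide +kernel
theorem p3u201 : ∀ k, 21324 ≤ k → k < 26778 → pointOk (k * 20) = true := between_extend pointOk 20 21324 26751 27 (p3u200) p3r201

theorem p3r202 : allRange pointOk 20 26778 27 = true := by decide +kernel
theorem p3u202 : ∀ k, 21324 ≤ k → k < 26805 → pointOk (k * 20) = true := between_extend pointOk 20 21324 26778 27 (p3u201) p3r202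

theorem p3r203 : allRange pointOk 20 26805 27 = true := by decide +kernel
theorem p3u203 : ∀ k, 21324 ≤ k → k < 26832 → pointOk (k * 20) = true := between_extend pointOk 20 21324 26805 27 (p3u202) p3r203

theorem p3r204 : allRange pointOk 20 26832 27 = true := by decide +kernel
theorem p3u204 : ∀ k, 21324 ≤ k → k < 26859 → pointOk (k * 20) = true := between_extend pointOk 20 21324 26832 27 (p3u203) p3r204

theorem p3r205 : allRange pointOk 20 26859 27 = true := by decide +kernel
theorem p3u205 : ∀ k, 21324 ≤ k → k < 26886 → pointOk (k * 20) = true := between_extend pointOk 20 21324 26859 27 (p3u204) p3r205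

theorem p3r206 : allRange pointOk 20 26886 27 = true := by decide +kernel
theorem p3u206 : ∀ k, 21324 ≤ k → k < 26913 → pointOk (k * 20) = true := between_extend pointOk 20 21324 26886 27 (p3u205) p3r206

theorem p3r207 : allRange pointOk 20 26913 27 = true := by decide +kernel
theorem p3u207 : ∀ k, 21324 ≤ k → k < 26940 → pointOk (k * 20) = true := between_extend pointOk 20 21324 26913 27 (p3u206) p3r207

theorem p3r208 : allRange pointOk 20 26940 27 = true := by decide +kernel
theorem p3u208 : ∀ k, 21324 ≤ k → k < 26967 → pointOk (k * 20) = true := between_extend pointOk 20 21324 26940 27 (p3u207) p3r208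

theorem p3r209 : allRange pointOk 20 26967 27 = true := by decide +kernel
theorem p3u209 : ∀ k, 21324 ≤ k → k < 26994 → pointOk (k * 20) = true := between_extend pointOk 20 21324 26967 27 (p3u208) p3r209

theorem p3r210 : allRange pointOk 20 26994 27 = true := by decide +kernel
theorem p3u210 : ∀ k, 21324 ≤ k → k < 27021 → pointOk (k * 20) = true := between_extend pointOk 20 21324 26994 27 (p3u209) p3r210

theorem p3r211 : allRange pointOk 20 27021 27 = true := by decide +kernel
theorem p3u211 : ∀ k, 21324 ≤ k → k < 27048 → pointOk (k * 20) = true := between_extend pointOk 20 21324 27021 27 (p3u210) p3r211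

theorem p3r212 : allRange pointOk 20 27048 27 = true := by decide +kernel
theorem p3u212 : ∀ k, 21324 ≤ k → k < 27075 → pointOk (k * 20) = true := between_extend pointOk 20 21324 27048 27 (p3u211) p3r212

theorem p3r213 : allRange pointOk 20 27075 27 = true := by decide +kernel
theorem p3u213 : ∀ k, 21324 ≤ k → k < 27102 → pointOk (k * 20) = true := between_extend pointOk 20 21324 27075 27 (p3u212) p3r213

theorem p3r214 : allRange pointOk 20 27102 27 = true := by decide +kernel
theorem p3u214 : ∀ k, 21324 ≤ k → k < 27129 → pointOk (k * 20) = true := between_extend pointOk 20 21324 27102 27 (p3u213) p3r214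

theorem p3r215 : allRange pointOk 20 27129 27 = true := by decide +kernel
theorem p3u215 : ∀ k, 21324 ≤ k → k < 27156 → pointOk (k * 20) = true := between_extend pointOk 20 21324 27129 27 (p3u214) p3r215

theorem p3r216 : allRange pointOk 20 27156 27 = true := by decide +kernel
theorem p3u216 : ∀ k, 21324 ≤ k → k < 27183 → pointOk (k * 20) = true := between_extend pointOk 20 21324 27156 27 (p3u215) p3r216

theorem p3r217 : allRange pointOk 20 27183 27 = true := by decide +kernel
theorem p3u217 : ∀ k, 21324 ≤ k → k < 27210 → pointOk (k * 20) = true := between_extend pointOk 20 21324 27183 27 (p3u216) p3r217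

theorem p3r218 : allRange pointOk 20 27210 27 = true := by decide +kernel
theorem p3u218 : ∀ k, 21324 ≤ k → k < 27237 → pointOk (k * 20) = true := between_extend pointOk 20 21324 27210 27 (p3u217) p3r218

theorem p3r219 : allRange pointOk 20 27237 27 = true := by decide +kernel
theorem p3u219 : ∀ k, 21324 ≤ k → k < 27264 → pointOk (k * 20) = true := between_extend pointOk 20 21324 27237 27 (p3u218) p3r219

theorem p3r220 : allRange pointOk 20 27264 27 = true := by decide +kernel
theorem p3u220 : ∀ k, 21324 ≤ k → k < 27291 → pointOk (k * 20) = true := between_extend pointOk 20 21324 27264 27 (p3u219) p3r220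

theorem p3r221 : allRange pointOk 20 27291 27 = true := by decide +kernel
theorem p3u221 : ∀ k, 21324 ≤ k → k < 27318 → pointOk (k * 20) = true := between_extend pointOk 20 21324 27291 27 (p3u220) p3r221

theorem p3r222 : allRange pointOk 20 27318 27 = true := by decide +kernel
theorem p3u222 : ∀ k, 21324 ≤ k → k < 27345 → pointOk (k * 20) = true := between_extend pointOk 20 21324 27318 27 (p3u221) p3r222

theorem p3r223 : allRange pointOk 20 27345 27 = true := by decide +kernel
theorem p3u223 : ∀ k, 21324 ≤ k → k < 27372 → pointOk (k * 20) = true := between_extend pointOk 20 21324 27345 27 (p3u222) p3r223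

theorem p3r224 : allRange pointOk 20 27372 27 = true := by decide +kernel
theorem p3u224 : ∀ k, 21324 ≤ k → k < 27399 → pointOk (k * 20) = true := between_extend pointOk 20 21324 27372 27 (p3u223) p3r224

theorem p3r225 : allRange pointOk 20 27399 27 = true := by decide +kernel
theorem p3u225 : ∀ k, 21324 ≤ k → k < 27426 → pointOk (k * 20) = true := between_extend pointOk 20 21324 27399 27 (p3u224) p3r225

theorem p3r226 : allRange pointOk 20 27426 27 = true := by decide +kernel
theorem p3u226 : ∀ k, 21324 ≤ k → k < 27453 → pointOk (k * 20) = true := between_extend pointOk 20 21324 27426 27 (p3u225) p3r226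

theorem p3r227 : allRange pointOk 20 27453 27 = true := by decide +kernel
theorem p3u227 : ∀ k, 21324 ≤ k → k < 27480 → pointOk (k * 20) = true := between_extend pointOk 20 21324 27453 27 (p3u226) p3r227

theorem p3r228 : allRange pointOk 20 27480 27 = true := by decide +kernel
theorem p3u228 : ∀ k, 21324 ≤ k → k < 27507 → pointOk (k * 20) = true := between_extend pointOk 20 21324 27480 27 (p3u227) p3r228

theorem p3r229 : allRange pointOk 20 27507 27 = true := by decide +kernel
theorem p3u229 : ∀ k, 21324 ≤ k → k < 27534 → pointOk (k * 20) = true := between_extend pointOk 20 21324 27507 27 (p3u228) p3r229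

theorem p3r230 : allRange pointOk 20 27534 27 = true := by decide +kernel
theorem p3u230 : ∀ k, 21324 ≤ k → k < 27561 → pointOk (k * 20) = true := between_extend pointOk 20 21324 27534 27 (p3u229) p3r230

theorem p3r231 : allRange pointOk 20 27561 27 = true := by decide +kernel
theorem p3u231 : ∀ k, 21324 ≤ k → k < 27588 → pointOk (k * 20) = true := between_extend pointOk 20 21324 27561 27 (p3u230) p3r231

theorem p3r232 : allRange pointOk 20 27588 27 = true := by decide +kernel
theorem p3u232 : ∀ k, 21324 ≤ k → k < 27615 → pointOk (k * 20) = true := between_extend pointOk 20 21324 27588 27 (p3u231) p3r232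

theorem p3r233 : allRange pointOk 20 27615 27 = true := by decide +kernel
theorem p3u233 : ∀ k, 21324 ≤ k → k < 27642 → pointOk (k * 20) = true := between_extend pointOk 20 21324 27615 27 (p3u232) p3r233

theorem p3r234 : allRange pointOk 20 27642 27 = true := by decide +kernel
theorem p3u234 : ∀ k, 21324 ≤ k → k < 27669 → pointOk (k * 20) = true := between_extend pointOk 20 21324 27642 27 (p3u233) p3r234

theorem p3r235 : allRange pointOk 20 27669 27 = true := by decide +kernel
theorem p3u235 : ∀ k, 21324 ≤ k → k < 27696 → pointOk (k * 20) = true := between_extend pointOk 20 21324 27669 27 (p3u234) p3r235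

theorem p3r236 : allRange pointOk 20 27696 27 = true := by decide +kernel
theorem p3u236 : ∀ k, 21324 ≤ k → k < 27723 → pointOk (k * 20) = true := between_extend pointOk 20 21324 27696 27 (p3u235) p3r236

theorem p3r237 : allRange pointOk 20 27723 27 = true := by decide +kernel
theorem p3u237 : ∀ k, 21324 ≤ k → k < 27750 → pointOk (k * 20) = true := between_extend pointOk 20 21324 27723 27 (p3u236) p3r237

theorem p3r238 : allRange pointOk 20 27750 27 = true := by decide +kernel
theorem p3u238 : ∀ k, 21324 ≤ k → k < 27777 → pointOk (k * 20) = true := between_extend pointOk 20 21324 27750 27 (p3u237) p3r238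

theorem p3r239 : allRange pointOk 20 27777 27 = true := by decide +kernel
theorem p3u239 : ∀ k, 21324 ≤ k → k < 27804 → pointOk (k * 20) = true := between_extend pointOk 20 21324 27777 27 (p3u238) p3r239

theorem p3r240 : allRange pointOk 20 27804 27 = true := by decide +kernel
theorem p3u240 : ∀ k, 21324 ≤ k → k < 27831 → pointOk (k * 20) = true := between_extend pointOk 20 21324 27804 27 (p3u239) p3r240

theorem p3r241 : allRange pointOk 20 27831 27 = true := by decide +kernel
theorem p3u241 : ∀ k, 21324 ≤ k → k < 27858 → pointOk (k * 20) = true := between_extend pointOk 20 21324 27831 27 (p3u240) p3r241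

theorem p3r242 : allRange pointOk 20 27858 27 = true := by decide +kernel
theorem p3u242 : ∀ k, 21324 ≤ k → k < 27885 → pointOk (k * 20) = true := between_extend pointOk 20 21324 27858 27 (p3u241) p3r242

theorem p3r243 : allRange pointOk 20 27885 27 = true := by decide +kernel
theorem p3u243 : ∀ k, 21324 ≤ k → k < 27912 → pointOk (k * 20) = true := between_extend pointOk 20 21324 27885 27 (p3u242) p3r243

theorem p3r244 : allRange pointOk 20 27912 27 = true := by decide +kernel
theorem p3u244 : ∀ k, 21324 ≤ k → k < 27939 → pointOk (k * 20) = true := between_extend pointOk 20 21324 27912 27 (p3u243) p3r244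

theorem p3r245 : allRange pointOk 20 27939 27 = true := by decide +kernel
theorem p3u245 : ∀ k, 21324 ≤ k → k < 27966 → pointOk (k * 20) = true := between_extend pointOk 20 21324 27939 27 (p3u244) p3r245

theorem p3r246 : allRange pointOk 20 27966 27 = true := by decide +kernel
theorem p3u246 : ∀ k, 21324 ≤ k → k < 27993 → pointOk (k * 20) = true := between_extend pointOk 20 21324 27966 27 (p3u245) p3r246

theorem p3r247 : allRange pointOk 20 27993 27 = true := by decide +kernel
theorem p3u247 : ∀ k, 21324 ≤ k → k < 28020 → pointOk (k * 20) = true := between_extend pointOk 20 21324 27993 27 (p3u246) p3r247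

theorem p3r248 : allRange pointOk 20 28020 27 = true := by decide +kernel
theorem p3u248 : ∀ k, 21324 ≤ k → k < 28047 → pointOk (k * 20) = true := between_extend pointOk 20 21324 28020 27 (p3u247) p3r248

theorem p3r249 : allRange pointOk 20 28047 27 = true := by decide +kernel
theorem p3u249 : ∀ k, 21324 ≤ k → k < 28074 → pointOk (k * 20) = true := between_extend pointOk 20 21324 28047 27 (p3u248) p3r249

theorem p3r250 : allRange pointOk 20 28074 27 = true := by decide +kernel
theorem p3u250 : ∀ k, 21324 ≤ k → k < 28101 → pointOk (k * 20) = true := between_extend pointOk 20 21324 28074 27 (p3u249) p3r250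

theorem p3r251 : allRange pointOk 20 28101 27 = true := by decide +kernel
theorem p3u251 : ∀ k, 21324 ≤ k → k < 28128 → pointOk (k * 20) = true := between_extend pointOk 20 21324 28101 27 (p3u250) p3r251

theorem p3r252 : allRange pointOk 20 28128 27 = true := by decide +kernel
theorem p3u252 : ∀ k, 21324 ≤ k → k < 28155 → pointOk (k * 20) = true := between_extend pointOk 20 21324 28128 27 (p3u251) p3r252

theorem p3r253 : allRange pointOk 20 28155 27 = true := by decide +kernel
theorem p3u253 : ∀ k, 21324 ≤ k → k < 28182 → pointOk (k * 20) = true := between_extend pointOk 20 21324 28155 27 (p3u252) p3r253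

theorem p3r254 : allRange pointOk 20 28182 27 = true := by decide +kernel
theorem p3u254 : ∀ k, 21324 ≤ k → k < 28209 → pointOk (k * 20) = true := between_extend pointOk 20 21324 28182 27 (p3u253) p3r254

theorem p3r255 : allRange pointOk 20 28209 27 = true := by decide +kernel
theorem p3u255 : ∀ k, 21324 ≤ k → k < 28236 → pointOk (k * 20) = true := between_extend pointOk 20 21324 28209 27 (p3u254) p3r255

theorem p3r256 : allRange pointOk 20 28236 27 = true := by decide +kernel
theorem p3u256 : ∀ k, 21324 ≤ k → k < 28263 → pointOk (k * 20) = true := between_extend pointOk 20 21324 28236 27 (p3u255) p3r256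

theorem p3r257 : allRange pointOk 20 28263 27 = true := by decide +kernel
theorem p3u257 : ∀ k, 21324 ≤ k → k < 28290 → pointOk (k * 20) = true := between_extend pointOk 20 21324 28263 27 (p3u256) p3r257

theorem p3r258 : allRange pointOk 20 28290 27 = true := by decide +kernel
theorem p3u258 : ∀ k, 21324 ≤ k → k < 28317 → pointOk (k * 20) = true := between_extend pointOk 20 21324 28290 27 (p3u257) p3r258

theorem p3r259 : allRange pointOk 20 28317 27 = true := by decide +kernel
theorem p3u259 : ∀ k, 21324 ≤ k → k < 28344 → pointOk (k * 20) = true := between_extend pointOk 20 21324 28317 27 (p3u258) p3r259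

theorem p3r260 : allRange pointOk 20 28344 27 = true := by decide +kernel
theorem p3u260 : ∀ k, 21324 ≤ k → k < 28371 → pointOk (k * 20) = true := between_extend pointOk 20 21324 28344 27 (p3u259) p3r260

theorem p3r261 : allRange pointOk 20 28371 27 = true := by decide +kernel
theorem p3u261 : ∀ k, 21324 ≤ k → k < 28398 → pointOk (k * 20) = true := between_extend pointOk 20 21324 28371 27 (p3u260) p3r261

theorem p3r262 : allRange pointOk 20 28398 27 = true := by decide +kernel
theorem p3u262 : ∀ k, 21324 ≤ k → k < 28425 → pointOk (k * 20) = true := between_extend pointOk 20 21324 28398 27 (p3u261) p3r262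

theorem p3r263 : allRange pointOk 20 28425 6 = true := by decide +kernel
theorem p3u263 : ∀ k, 21324 ≤ k → k < 28431 → pointOk (k * 20) = true := between_extend pointOk 20 21324 28425 6 (p3u262) p3r263

theorem p3 : ∀ k, 21324 ≤ k → k < 28431 → pointOk (k * 20) = true := p3u263

end Cfsg.Agent.Lib.Helper96_Fi24TA
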