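import Cfsg.Agent.Lib.Helper96_Fi24TAP0
import Cfsg.Agent.Lib.Helper96_Fi24TAP1
import Cfsg.Agent.Lib.Helper96_Fi24TAP2
import Cfsg.Agent.Lib.Helper96_Fi24TAP3

set_option autoImplicit false
set_option linter.constructorNameAsVariable false
set_option Elab.async false

namespace Cfsg.Agent.Lib.Helper96_Fi24TA

open Cfsg.Spor Cfsg.Agent.Lib.Helper28_CosetPerm Cfsg.Agent.Lib.Helper28_CosetCox Cfsg.Agent.Lib.Helper96_Fi24TATab

theorem all_ok : ∀ k < 28431, pchk 568620 20 1048575 col letters words (k * 20) = true := by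
  intro k hk
  rw [← pointOk_eq]
  exact between_all pointOk 20 28431 (between_trans pointOk 20 0 21324 28431 (between_trans pointOk 20 0 14216 21324 (between_trans pointOk 20 0 7108 14216 p0 p1) p2) p3) k hk

theorem all_letters : ∀ (a : Cfsg.Spor.Fi24.Gen) (b : Bool), (a, b) ∈ letters := by
  intro a b; cases a <;> cases b <;> decide

theorem cox_covered : CoxCovered Cfsg.Agent.Lib.Helper96_Fi24TChain.edges1 words := by decide

set_option maxRecDepth 100000 in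
theorem extra_covered : ExtraCovered Cfsg.Agent.Lib.Helper96_Fi24TChain.extra1 words := by
  unfold ExtraCovered; decide

theorem sub_fix : ∀ s ∈ ({Cfsg.Spor.Fi24.l, Cfsg.Spor.Fi24.k, Cfsg.Spor.Fi24.a, Cfsg.Spor.Fi24.b, Cfsg.Spor.Fi24.c, Cfsg.Spor.Fi24.d, Cfsg.Spor.Fi24.e, Cfsg.Spor.Fi24.f, Cfsg.Spor.Fi24.h} : Set (FreeGroup Cfsg.Spor.Fi24.Gen)), ∃ u : List (Cfsg.Spor.Fi24.Gen × Bool), FreeGroup.mk u = s ∧ walk 1048575 col u 0 = 0 := by
  intro s hs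
  simp only [Set.mem_insert_iff, Set.mem_singleton_iff] at hs
  rcases hs with rfl | rfl | rfl | rfl | rfl | rfl | rfl | rfl | rfl
  · exact ⟨[(.l, true)], by decide, by decide +kernel⟩
  · exact ⟨[(.k, true)], by decide, by decide +kernel⟩
  · exact ⟨[(.a, true)], by decide, by decide +kernel⟩
  · exact ⟨[(.b, true)], by decide, by decide +kernel⟩
  · exact ⟨[(.c, true)], by decide, by decide +kernel⟩
  · exact ⟨[(.d, true)], by decide, by decide +kernel⟩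
  · exact ⟨[(.e, true)], by decide, by decide +kernel⟩
  · exact ⟨[(.f, true)], by decide, by decide +kernel⟩
  · exact ⟨[(.h, true)], by decide, by decide +kernel⟩

instance : NeZero (28431 : ℕ) := ⟨by norm_num⟩

theorem verified : Verified 28431 20 1048575 col (Cfsg.Spor.coxRelators Cfsg.Agent.Lib.Helper96_Fi24TChain.edges1 ∪ {r | r ∈ Cfsg.Agent.Lib.Helper96_Fi24TChain.extra1}) ({Cfsg.Spor.Fi24.l, Cfsg.Spor.Fi24.k, Cfsg.Spor.Fi24.a, Cfsg.Spor.Fi24.b, Cfsg.Spor.Fi24.c, Cfsg.Spor.Fi24.d, Cfsg.Spor.Fi24.e, Cfsg.Spor.Fi24.f, Cfsg.Spor.Fi24.h} : Set (FreeGroup Cfsg.Spor.Fi24.Gen)) :=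
  verified_of_table (n := 28431) (w := 20) (mask := 1048575) (col := col) 568620 (by norm_num) (by norm_num) letters all_letters Cfsg.Agent.Lib.Helper96_Fi24TChain.edges1 Cfsg.Agent.Lib.Helper96_Fi24TChain.extra1 words all_ok cox_covered extra_covered _ sub_fix

/-- the lower bound, index part -/
theorem lower_index (hfin : ((Subgroup.closure ({Cfsg.Spor.Fi24.l, Cfsg.Spor.Fi24.k, Cfsg.Spor.Fi24.a, Cfsg.Spor.Fi24.b, Cfsg.Spor.Fi24.c, Cfsg.Spor.Fi24.d, Cfsg.Spor.Fi24.e, Cfsg.Spor.Fi24.f, Cfsg.Spor.Fi24.h} : Set (FreeGroup Cfsg.Spor.Fi24.Gen))).map (PresentedGroup.mk (Cfsg.Spor.coxRelators Cfsg.Agent.Lib.Helper96_Fi24TChain.edges1 ∪ {r | r ∈ Cfsg.Agent.Lib.Helper96_Fi24TChain.extra1}))).index ≠ 0) (hle : ((Subgroup.closure ({Cfsg.Spor.Fi24.l, Cfsg.Spor.Fi24.k, Cfsg.Spor.Fi24.a, Cfsg.Spor.Fi24.b, Cfsg.Spor.Fi24.c, Cfsg.Spor.Fi24.d, Cfsg.Spor.Fi24.e, Cfsg.Spor.Fi24.f, Cfsg.Spor.Fi24.h}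 : Set (FreeGroup Cfsg.Spor.Fi24.Gen))).map (PresentedGroup.mk (Cfsg.Spor.coxRelators Cfsg.Agent.Lib.Helper96_Fi24TChain.edges1 ∪ {r | r ∈ Cfsg.Agent.Lib.Helper96_Fi24TChain.extra1}))).index ≤ 28431) : ((Subgroup.closure ({Cfsg.Spor.Fi24.l, Cfsg.Spor.Fi24.k, Cfsg.Spor.Fi24.a, Cfsg.Spor.Fi24.b, Cfsg.Spor.Fi24.c, Cfsg.Spor.Fi24.d, Cfsg.Spor.Fi24.e, Cfsg.Spor.Fi24.f, Cfsg.Spor.Fi24.h} : Set (FreeGroup Cfsg.Spor.Fi24.Gen))).map (PresentedGroup.mk (Cfsg.Spor.coxRelators Cfsg.Agent.Lib.Helper96_Fi24TChain.edges1 ∪ {r | r ∈ Cfsg.Agent.Lib.Helper96_Fi24TChain.extra1}))).index = 28431 :=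
  verified.index_eq hfin hle

end Cfsg.Agent.Lib.Helper96_Fi24TA
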