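import Cfsg.Agent.Lib.Helper28_CosetCox
import Cfsg.Agent.Lib.Helper96_Fi24TATab
import Cfsg.Agent.Lib.Helper96_Fi24TChain

set_option autoImplicit false
set_option linter.constructorNameAsVariable false
set_option Elab.async false

namespace Cfsg.Agent.Lib.Helper96_Fi24TA

open Cfsg.Spor Cfsg.Agent.Lib.Helper28_CosetPerm Cfsg.Agent.Lib.Helper28_CosetCox Cfsg.Agent.Lib.Helper96_Fi24TATab

/-- the packed column of a letter -/
def col : Cfsg.Spor.Fi24.Gen → Bool → ℕ
  | .l, _ => cL
  | .k, _ => cK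
  | .a, _ => cA
  | .b, _ => cB
  | .c, _ => cC
  | .d, _ => cD
  | .e, _ => cE
  | .f, _ => cF
  | .g, _ => cG
  | .j, _ => cJ
  | .h, _ => cH
  | .i, _ => cI

/-- all letters -/
def letters : List (Cfsg.Spor.Fi24.Gen × Bool) := [(.l, true), (.k, true), (.a, true), (.b, true), (.c, true), (.d, true), (.e, true), (.f, true), (.g, true), (.j, true), (.h, true), (.i, true), (.l, false), (.k, false), (.a, false), (.b, false), (.c, false), (.d, false), (.e, false), (.f, false), (.g, false), (.j, false), (.h, false), (.i, false)]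

/-- the checked words -/
def words : List (List (Cfsg.Spor.Fi24.Gen × Bool)) := [
  [(.l, true), (.l, true)],
  [(.l, true), (.k, true), (.l, true), (.k, true), (.l, true), (.k, true)],
  [(.l, true), (.a, true), (.l, true), (.a, true)],
  [(.l, true), (.b, true), (.l, true), (.b, true)],
  [(.l, true), (.c, true), (.l, true), (.c, true)],
  [(.l, true), (.d, true), (.l, true), (.d, true)],
  [(.l, true), (.e, true), (.l, true), (.e, true)],
  [(.l, true), (.h, true), (.l, true), (.h, true)],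
  [(.l, true), (.f, true), (.l, true), (.f, true)],
  [(.l, true), (.i, true), (.l, true), (.i, true)],
  [(.k, true), (.k, true)],
  [(.k, true), (.a, true), (.k, true), (.a, true), (.k, true), (.a, true)],
  [(.k, true), (.b, true), (.k, true), (.b, true)],
  [(.k, true), (.c, true), (.k, true), (.c, true)],
  [(.k, true), (.d, true), (.k, true), (.d, true)],
  [(.k, true), (.e, true), (.k, true), (.e, true)],
  [(.k, true), (.h, true), (.k, true), (.h, true)],
  [(.k, true), (.f, true), (.k, true), (.f, true)],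
  [(.k, true), (.i, true), (.k, true), (.i, true)],
  [(.a, true), (.a, true)],
  [(.a, true), (.b, true), (.a, true), (.b, true), (.a, true), (.b, true)],
  [(.a, true), (.c, true), (.a, true), (.c, true)],
  [(.a, true), (.d, true), (.a, true), (.d, true)],
  [(.a, true), (.e, true), (.a, true), (.e, true)],
  [(.a, true), (.h, true), (.a, true), (.h, true)],
  [(.a, true), (.f, true), (.a, true), (.f, true)],
  [(.a, true), (.i, true), (.a, true), (.i, true)],
  [(.b, true), (.b, true)],
  [(.b, true), (.c, true), (.b, true), (.c, true), (.b, true), (.c, true)],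
  [(.b, true), (.d, true), (.b, true), (.d, true)],
  [(.b, true), (.e, true), (.b, true), (.e, true)],
  [(.b, true), (.h, true), (.b, true), (.h, true)],
  [(.b, true), (.f, true), (.b, true), (.f, true)],
  [(.b, true), (.i, true), (.b, true), (.i, true)],
  [(.c, true), (.c, true)],
  [(.c, true), (.d, true), (.c, true), (.d, true), (.c, true), (.d, true)],
  [(.c, true), (.e, true), (.c, true), (.e, true)],
  [(.c, true), (.h, true), (.c, true), (.h, true)],
  [(.c, true), (.f, true), (.c, true), (.f, true)],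
  [(.c, true), (.i, true), (.c, true), (.i, true)],
  [(.d, true), (.d, true)],
  [(.d, true), (.e, true), (.d, true), (.e, true), (.d, true), (.e, true)],
  [(.d, true), (.h, true), (.d, true), (.h, true), (.d, true), (.h, true)],
  [(.d, true), (.f, true), (.d, true), (.f, true)],
  [(.d, true), (.i, true), (.d, true), (.i, true)],
  [(.e, true), (.e, true)],
  [(.e, true), (.h, true), (.e, true), (.h, true)],
  [(.e, true), (.f, true), (.e, true), (.f, true), (.e, true), (.f, true)],
  [(.e, true), (.i, true), (.e, true), (.i, true)],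
  [(.h, true), (.h, true)],
  [(.h, true), (.i, true), (.h, true), (.i, true), (.h, true), (.i, true)],
  [(.f, true), (.h, true), (.f, true), (.h, true)],
  [(.f, true), (.f, true)],
  [(.f, true), (.i, true), (.f, true), (.i, true)],
  [(.i, true), (.i, true)],
  [(.l, true), (.h, false), (.f, false), (.e, false), (.d, false), (.c, false), (.b, false), (.a, false), (.h, false), (.f, false), (.e, false), (.d, false), (.c, false), (.b, false), (.a, false), (.h, false), (.f, false), (.e, false), (.d, false), (.c, false), (.b, false), (.a, false), (.h, false), (.f, false), (.e, false), (.d, false), (.c, false), (.b, false), (.a, false), (.h, false), (.f, false), (.e, false), (.d, false), (.c, false), (.b, false), (.a, false), (.h, false), (.f, false), (.e, false), (.d, false), (.c, false), (.b, false), (.a, false), (.h, false), (.f, false), (.e, false), (.d, false), (.c, false), (.b, false), (.a, false), (.h, false), (.f, false), (.e, false), (.d, false), (.c, false), (.b, false), (.a,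 false), (.h, false), (.f, false), (.e, false), (.d, false), (.c, false), (.b, false), (.a, false)],
  [(.g, true)],
  [(.j, true)]]

/-- the unrolled pointwise check -/
def pointOk (x : ℕ) : Bool :=
  and (and (and (Nat.beq (Nat.mod (Nat.land (Nat.shiftRight cL x) 1048575) 20) 0) (and (Nat.blt (Nat.land (Nat.shiftRight cL x) 1048575) 568620) (Nat.beq (Nat.land (Nat.shiftRight cL (Nat.land (Nat.shiftRight cL x) 1048575)) 1048575) x))) (and (and (Nat.beq (Nat.mod (Nat.land (Nat.shiftRight cK x) 1048575) 20) 0) (and (Nat.blt (Nat.land (Nat.shiftRight cK x) 1048575) 568620) (Nat.beq (Nat.land (Nat.shiftRight cK (Nat.land (Nat.shiftRight cK x) 1048575)) 1048575) x))) (and (and (Nat.beq (Nat.mod (Nat.land (Nat.shiftRight cA x) 1048575) 20) 0) (and (Nat.blt (Nat.land (Nat.shiftRight cA x) 1048575) 568620) (Nat.beq (Nat.land (Nat.shiftRight cA (Nat.land (Nat.shiftRight cA x) 1048575)) 1048575) x))) (and (and (Nat.beq (Nat.mod (Nat.land (Nat.shiftRight cB x) 1048575) 20) 0) (and (Nat.blt (Nat.land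 (Nat.shiftRight cB x) 1048575) 568620) (Nat.beq (Nat.land (Nat.shiftRight cB (Nat.land (Nat.shiftRight cB x) 1048575)) 1048575) x))) (and (and (Nat.beq (Nat.mod (Nat.land (Nat.shiftRight cC x) 1048575) 20) 0) (and (Nat.blt (Nat.land (Nat.shiftRight cC x) 1048575) 568620) (Nat.beq (Nat.land (Nat.shiftRight cC (Nat.land (Nat.shiftRight cC x) 1048575)) 1048575) x))) (and (and (Nat.beq (Nat.mod (Nat.land (Nat.shiftRight cD x) 1048575) 20) 0) (and (Nat.blt (Nat.land (Nat.shiftRight cD x) 1048575) 568620) (Nat.beq (Nat.land (Nat.shiftRight cD (Nat.land (Nat.shiftRight cD x) 1048575)) 1048575) x))) (and (and (Nat.beq (Nat.mod (Nat.land (Nat.shiftRight cE x) 1048575) 20) 0) (and (Nat.blt (Nat.land (Nat.shiftRight cE x) 1048575) 568620) (Nat.beq (Nat.land (Nat.shiftRight cE (Nat.land (Nat.shiftRight cE x) 1048575)) 1048575) x))) (and (and (Nat.beq (Nat.mod (Nat.land (Nat.shiftRight cF x) 1048575) 20) 0) (and (Nat.blt (Nat.land (Nat.shiftRight cF x) 1048575) 568620) (Nat.beq (Nat.land (Nat.shiftRight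 cF (Nat.land (Nat.shiftRight cF x) 1048575)) 1048575) x))) (and (and (Nat.beq (Nat.mod (Nat.land (Nat.shiftRight cG x) 1048575) 20) 0) (and (Nat.blt (Nat.land (Nat.shiftRight cG x) 1048575) 568620) (Nat.beq (Nat.land (Nat.shiftRight cG (Nat.land (Nat.shiftRight cG x) 1048575)) 1048575) x))) (and (and (Nat.beq (Nat.mod (Nat.land (Nat.shiftRight cJ x) 1048575) 20) 0) (and (Nat.blt (Nat.land (Nat.shiftRight cJ x) 1048575) 568620) (Nat.beq (Nat.land (Nat.shiftRight cJ (Nat.land (Nat.shiftRight cJ x) 1048575)) 1048575) x))) (and (and (Nat.beq (Nat.mod (Nat.land (Nat.shiftRight cH x) 1048575) 20) 0) (and (Nat.blt (Nat.land (Nat.shiftRight cH x) 1048575) 568620) (Nat.beq (Nat.land (Nat.shiftRight cH (Nat.land (Nat.shiftRight cH x) 1048575)) 1048575) x))) (and (and (Nat.beq (Nat.mod (Nat.land (Nat.shiftRight cI x) 1048575) 20) 0) (and (Nat.blt (Nat.land (Nat.shiftRight cI x) 1048575) 568620) (Nat.beq (Nat.land (Nat.shiftRight cI (Nat.land (Nat.shiftRight cI x) 1048575)) 1048575) x))) (and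 (and (Nat.beq (Nat.mod (Nat.land (Nat.shiftRight cL x) 1048575) 20) 0) (and (Nat.blt (Nat.land (Nat.shiftRight cL x) 1048575) 568620) (Nat.beq (Nat.land (Nat.shiftRight cL (Nat.land (Nat.shiftRight cL x) 1048575)) 1048575) x))) (and (and (Nat.beq (Nat.mod (Nat.land (Nat.shiftRight cK x) 1048575) 20) 0) (and (Nat.blt (Nat.land (Nat.shiftRight cK x) 1048575) 568620) (Nat.beq (Nat.land (Nat.shiftRight cK (Nat.land (Nat.shiftRight cK x) 1048575)) 1048575) x))) (and (and (Nat.beq (Nat.mod (Nat.land (Nat.shiftRight cA x) 1048575) 20) 0) (and (Nat.blt (Nat.land (Nat.shiftRight cA x) 1048575) 568620) (Nat.beq (Nat.land (Nat.shiftRight cA (Nat.land (Nat.shiftRight cA x) 1048575)) 1048575) x))) (and (and (Nat.beq (Nat.mod (Nat.land (Nat.shiftRight cB x) 1048575) 20) 0) (and (Nat.blt (Nat.land (Nat.shiftRight cB x) 1048575) 568620) (Nat.beq (Nat.land (Nat.shiftRight cB (Nat.land (Nat.shiftRight cB x) 1048575)) 1048575) x))) (and (and (Nat.beq (Nat.mod (Nat.land (Nat.shiftRight cC x) 1048575)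 20) 0) (and (Nat.blt (Nat.land (Nat.shiftRight cC x) 1048575) 568620) (Nat.beq (Nat.land (Nat.shiftRight cC (Nat.land (Nat.shiftRight cC x) 1048575)) 1048575) x))) (and (and (Nat.beq (Nat.mod (Nat.land (Nat.shiftRight cD x) 1048575) 20) 0) (and (Nat.blt (Nat.land (Nat.shiftRight cD x) 1048575) 568620) (Nat.beq (Nat.land (Nat.shiftRight cD (Nat.land (Nat.shiftRight cD x) 1048575)) 1048575) x))) (and (and (Nat.beq (Nat.mod (Nat.land (Nat.shiftRight cE x) 1048575) 20) 0) (and (Nat.blt (Nat.land (Nat.shiftRight cE x) 1048575) 568620) (Nat.beq (Nat.land (Nat.shiftRight cE (Nat.land (Nat.shiftRight cE x) 1048575)) 1048575) x))) (and (and (Nat.beq (Nat.mod (Nat.land (Nat.shiftRight cF x) 1048575) 20) 0) (and (Nat.blt (Nat.land (Nat.shiftRight cF x) 1048575) 568620) (Nat.beq (Nat.land (Nat.shiftRight cF (Nat.land (Nat.shiftRight cF x) 1048575)) 1048575) x))) (and (and (Nat.beq (Nat.mod (Nat.land (Nat.shiftRight cG x) 1048575) 20) 0) (and (Nat.blt (Nat.land (Nat.shiftRight cG x) 1048575) 568620)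 (Nat.beq (Nat.land (Nat.shiftRight cG (Nat.land (Nat.shiftRight cG x) 1048575)) 1048575) x))) (and (and (Nat.beq (Nat.mod (Nat.land (Nat.shiftRight cJ x) 1048575) 20) 0) (and (Nat.blt (Nat.land (Nat.shiftRight cJ x) 1048575) 568620) (Nat.beq (Nat.land (Nat.shiftRight cJ (Nat.land (Nat.shiftRight cJ x) 1048575)) 1048575) x))) (and (and (Nat.beq (Nat.mod (Nat.land (Nat.shiftRight cH x) 1048575) 20) 0) (and (Nat.blt (Nat.land (Nat.shiftRight cH x) 1048575) 568620) (Nat.beq (Nat.land (Nat.shiftRight cH (Nat.land (Nat.shiftRight cH x) 1048575)) 1048575) x))) (and (and (Nat.beq (Nat.mod (Nat.land (Nat.shiftRight cI x) 1048575) 20) 0) (and (Nat.blt (Nat.land (Nat.shiftRight cI x) 1048575) 568620) (Nat.beq (Nat.land (Nat.shiftRight cI (Nat.land (Nat.shiftRight cI x) 1048575)) 1048575) x))) true))))))))))))))))))))))))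
    (and (and (Nat.beq (Nat.land (Nat.shiftRight cL (Nat.land (Nat.shiftRight cL x) 1048575)) 1048575) x) (and (Nat.beq (Nat.land (Nat.shiftRight cK (Nat.land (Nat.shiftRight cL (Nat.land (Nat.shiftRight cK (Nat.land (Nat.shiftRight cL (Nat.land (Nat.shiftRight cK (Nat.land (Nat.shiftRight cL x) 1048575)) 1048575)) 1048575)) 1048575)) 1048575)) 1048575) x) (and (Nat.beq (Nat.land (Nat.shiftRight cA (Nat.land (Nat.shiftRight cL (Nat.land (Nat.shiftRight cA (Nat.land (Nat.shiftRight cL x) 1048575)) 1048575)) 1048575)) 1048575) x) (and (Nat.beq (Nat.land (Nat.shiftRight cB (Nat.land (Nat.shiftRight cL (Nat.land (Nat.shiftRight cB (Nat.land (Nat.shiftRight cL x) 1048575)) 1048575)) 1048575)) 1048575) x) (and (Nat.beq (Nat.land (Nat.shiftRight cC (Nat.land (Nat.shiftRight cL (Nat.land (Nat.shiftRight cC (Nat.land (Nat.shiftRight cL x) 1048575)) 1048575)) 1048575)) 1048575) x) (and (Nat.beq (Nat.land (Nat.shiftRight cD (Nat.land (Nat.shiftRight cL (Nat.land (Nat.shiftRight cD (Nat.land (Nat.shiftRight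 cL x) 1048575)) 1048575)) 1048575)) 1048575) x) (and (Nat.beq (Nat.land (Nat.shiftRight cE (Nat.land (Nat.shiftRight cL (Nat.land (Nat.shiftRight cE (Nat.land (Nat.shiftRight cL x) 1048575)) 1048575)) 1048575)) 1048575) x) (and (Nat.beq (Nat.land (Nat.shiftRight cH (Nat.land (Nat.shiftRight cL (Nat.land (Nat.shiftRight cH (Nat.land (Nat.shiftRight cL x) 1048575)) 1048575)) 1048575)) 1048575) x) (and (Nat.beq (Nat.land (Nat.shiftRight cF (Nat.land (Nat.shiftRight cL (Nat.land (Nat.shiftRight cF (Nat.land (Nat.shiftRight cL x) 1048575)) 1048575)) 1048575)) 1048575) x) (and (Nat.beq (Nat.land (Nat.shiftRight cI (Nat.land (Nat.shiftRight cL (Nat.land (Nat.shiftRight cI (Nat.land (Nat.shiftRight cL x) 1048575)) 1048575)) 1048575)) 1048575) x) (and (Nat.beq (Nat.land (Nat.shiftRight cK (Nat.land (Nat.shiftRight cK x) 1048575)) 1048575) x) (and (Nat.beq (Nat.land (Nat.shiftRight cA (Nat.land (Nat.shiftRight cK (Nat.land (Nat.shiftRight cA (Nat.land (Nat.shiftRight cK (Nat.land (Nat.shiftRight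 cA (Nat.land (Nat.shiftRight cK x) 1048575)) 1048575)) 1048575)) 1048575)) 1048575)) 1048575) x) (and (Nat.beq (Nat.land (Nat.shiftRight cB (Nat.land (Nat.shiftRight cK (Nat.land (Nat.shiftRight cB (Nat.land (Nat.shiftRight cK x) 1048575)) 1048575)) 1048575)) 1048575) x) (and (Nat.beq (Nat.land (Nat.shiftRight cC (Nat.land (Nat.shiftRight cK (Nat.land (Nat.shiftRight cC (Nat.land (Nat.shiftRight cK x) 1048575)) 1048575)) 1048575)) 1048575) x) (and (Nat.beq (Nat.land (Nat.shiftRight cD (Nat.land (Nat.shiftRight cK (Nat.land (Nat.shiftRight cD (Nat.land (Nat.shiftRight cK x) 1048575)) 1048575)) 1048575)) 1048575) x) (and (Nat.beq (Nat.land (Nat.shiftRight cE (Nat.land (Nat.shiftRight cK (Nat.land (Nat.shiftRight cE (Nat.land (Nat.shiftRight cK x) 1048575)) 1048575)) 1048575)) 1048575) x) (and (Nat.beq (Nat.land (Nat.shiftRight cH (Nat.land (Nat.shiftRight cK (Nat.land (Nat.shiftRight cH (Nat.land (Nat.shiftRight cK x) 1048575)) 1048575)) 1048575)) 1048575) x) (and (Nat.beq (Nat.land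 (Nat.shiftRight cF (Nat.land (Nat.shiftRight cK (Nat.land (Nat.shiftRight cF (Nat.land (Nat.shiftRight cK x) 1048575)) 1048575)) 1048575)) 1048575) x) (and (Nat.beq (Nat.land (Nat.shiftRight cI (Nat.land (Nat.shiftRight cK (Nat.land (Nat.shiftRight cI (Nat.land (Nat.shiftRight cK x) 1048575)) 1048575)) 1048575)) 1048575) x) (and (Nat.beq (Nat.land (Nat.shiftRight cA (Nat.land (Nat.shiftRight cA x) 1048575)) 1048575) x) (and (Nat.beq (Nat.land (Nat.shiftRight cB (Nat.land (Nat.shiftRight cA (Nat.land (Nat.shiftRight cB (Nat.land (Nat.shiftRight cA (Nat.land (Nat.shiftRight cB (Nat.land (Nat.shiftRight cA x) 1048575)) 1048575)) 1048575)) 1048575)) 1048575)) 1048575) x) (and (Nat.beq (Nat.land (Nat.shiftRight cC (Nat.land (Nat.shiftRight cA (Nat.land (Nat.shiftRight cC (Nat.land (Nat.shiftRight cA x) 1048575)) 1048575)) 1048575)) 1048575) x) (and (Nat.beq (Nat.land (Nat.shiftRight cD (Nat.land (Nat.shiftRight cA (Nat.land (Nat.shiftRight cD (Nat.land (Nat.shiftRight cA x) 1048575)) 1048575))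 1048575)) 1048575) x) (and (Nat.beq (Nat.land (Nat.shiftRight cE (Nat.land (Nat.shiftRight cA (Nat.land (Nat.shiftRight cE (Nat.land (Nat.shiftRight cA x) 1048575)) 1048575)) 1048575)) 1048575) x) (and (Nat.beq (Nat.land (Nat.shiftRight cH (Nat.land (Nat.shiftRight cA (Nat.land (Nat.shiftRight cH (Nat.land (Nat.shiftRight cA x) 1048575)) 1048575)) 1048575)) 1048575) x) (and (Nat.beq (Nat.land (Nat.shiftRight cF (Nat.land (Nat.shiftRight cA (Nat.land (Nat.shiftRight cF (Nat.land (Nat.shiftRight cA x) 1048575)) 1048575)) 1048575)) 1048575) x) (and (Nat.beq (Nat.land (Nat.shiftRight cI (Nat.land (Nat.shiftRight cA (Nat.land (Nat.shiftRight cI (Nat.land (Nat.shiftRight cA x) 1048575)) 1048575)) 1048575)) 1048575) x) (and (Nat.beq (Nat.land (Nat.shiftRight cB (Nat.land (Nat.shiftRight cB x) 1048575)) 1048575) x) (and (Nat.beq (Nat.land (Nat.shiftRight cC (Nat.land (Nat.shiftRight cB (Nat.land (Nat.shiftRight cC (Nat.land (Nat.shiftRight cB (Nat.land (Nat.shiftRight cC (Nat.land (Nat.shiftRight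 cB x) 1048575)) 1048575)) 1048575)) 1048575)) 1048575)) 1048575) x) (and (Nat.beq (Nat.land (Nat.shiftRight cD (Nat.land (Nat.shiftRight cB (Nat.land (Nat.shiftRight cD (Nat.land (Nat.shiftRight cB x) 1048575)) 1048575)) 1048575)) 1048575) x) (and (Nat.beq (Nat.land (Nat.shiftRight cE (Nat.land (Nat.shiftRight cB (Nat.land (Nat.shiftRight cE (Nat.land (Nat.shiftRight cB x) 1048575)) 1048575)) 1048575)) 1048575) x) (and (Nat.beq (Nat.land (Nat.shiftRight cH (Nat.land (Nat.shiftRight cB (Nat.land (Nat.shiftRight cH (Nat.land (Nat.shiftRight cB x) 1048575)) 1048575)) 1048575)) 1048575) x) (and (Nat.beq (Nat.land (Nat.shiftRight cF (Nat.land (Nat.shiftRight cB (Nat.land (Nat.shiftRight cF (Nat.land (Nat.shiftRight cB x) 1048575)) 1048575)) 1048575)) 1048575) x) (and (Nat.beq (Nat.land (Nat.shiftRight cI (Nat.land (Nat.shiftRight cB (Nat.land (Nat.shiftRight cI (Nat.land (Nat.shiftRight cB x) 1048575)) 1048575)) 1048575)) 1048575) x) (and (Nat.beq (Nat.land (Nat.shiftRight cC (Nat.land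 (Nat.shiftRight cC x) 1048575)) 1048575) x) (and (Nat.beq (Nat.land (Nat.shiftRight cD (Nat.land (Nat.shiftRight cC (Nat.land (Nat.shiftRight cD (Nat.land (Nat.shiftRight cC (Nat.land (Nat.shiftRight cD (Nat.land (Nat.shiftRight cC x) 1048575)) 1048575)) 1048575)) 1048575)) 1048575)) 1048575) x) (and (Nat.beq (Nat.land (Nat.shiftRight cE (Nat.land (Nat.shiftRight cC (Nat.land (Nat.shiftRight cE (Nat.land (Nat.shiftRight cC x) 1048575)) 1048575)) 1048575)) 1048575) x) (and (Nat.beq (Nat.land (Nat.shiftRight cH (Nat.land (Nat.shiftRight cC (Nat.land (Nat.shiftRight cH (Nat.land (Nat.shiftRight cC x) 1048575)) 1048575)) 1048575)) 1048575) x) (and (Nat.beq (Nat.land (Nat.shiftRight cF (Nat.land (Nat.shiftRight cC (Nat.land (Nat.shiftRight cF (Nat.land (Nat.shiftRight cC x) 1048575)) 1048575)) 1048575)) 1048575) x) (and (Nat.beq (Nat.land (Nat.shiftRight cI (Nat.land (Nat.shiftRight cC (Nat.land (Nat.shiftRight cI (Nat.land (Nat.shiftRight cC x) 1048575)) 1048575)) 1048575)) 1048575) x)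 (and (Nat.beq (Nat.land (Nat.shiftRight cD (Nat.land (Nat.shiftRight cD x) 1048575)) 1048575) x) (and (Nat.beq (Nat.land (Nat.shiftRight cE (Nat.land (Nat.shiftRight cD (Nat.land (Nat.shiftRight cE (Nat.land (Nat.shiftRight cD (Nat.land (Nat.shiftRight cE (Nat.land (Nat.shiftRight cD x) 1048575)) 1048575)) 1048575)) 1048575)) 1048575)) 1048575) x) (and (Nat.beq (Nat.land (Nat.shiftRight cH (Nat.land (Nat.shiftRight cD (Nat.land (Nat.shiftRight cH (Nat.land (Nat.shiftRight cD (Nat.land (Nat.shiftRight cH (Nat.land (Nat.shiftRight cD x) 1048575)) 1048575)) 1048575)) 1048575)) 1048575)) 1048575) x) (and (Nat.beq (Nat.land (Nat.shiftRight cF (Nat.land (Nat.shiftRight cD (Nat.land (Nat.shiftRight cF (Nat.land (Nat.shiftRight cD x) 1048575)) 1048575)) 1048575)) 1048575) x) (and (Nat.beq (Nat.land (Nat.shiftRight cI (Nat.land (Nat.shiftRight cD (Nat.land (Nat.shiftRight cI (Nat.land (Nat.shiftRight cD x) 1048575)) 1048575)) 1048575)) 1048575) x) (and (Nat.beq (Nat.land (Nat.shiftRight cE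 (Nat.land (Nat.shiftRight cE x) 1048575)) 1048575) x) (and (Nat.beq (Nat.land (Nat.shiftRight cH (Nat.land (Nat.shiftRight cE (Nat.land (Nat.shiftRight cH (Nat.land (Nat.shiftRight cE x) 1048575)) 1048575)) 1048575)) 1048575) x) (and (Nat.beq (Nat.land (Nat.shiftRight cF (Nat.land (Nat.shiftRight cE (Nat.land (Nat.shiftRight cF (Nat.land (Nat.shiftRight cE (Nat.land (Nat.shiftRight cF (Nat.land (Nat.shiftRight cE x) 1048575)) 1048575)) 1048575)) 1048575)) 1048575)) 1048575) x) (and (Nat.beq (Nat.land (Nat.shiftRight cI (Nat.land (Nat.shiftRight cE (Nat.land (Nat.shiftRight cI (Nat.land (Nat.shiftRight cE x) 1048575)) 1048575)) 1048575)) 1048575) x) (and (Nat.beq (Nat.land (Nat.shiftRight cH (Nat.land (Nat.shiftRight cH x) 1048575)) 1048575) x) (and (Nat.beq (Nat.land (Nat.shiftRight cI (Nat.land (Nat.shiftRight cH (Nat.land (Nat.shiftRight cI (Nat.land (Nat.shiftRight cH (Nat.land (Nat.shiftRight cI (Nat.land (Nat.shiftRight cH x) 1048575)) 1048575)) 1048575)) 1048575)) 1048575)) 1048575)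 x) (and (Nat.beq (Nat.land (Nat.shiftRight cH (Nat.land (Nat.shiftRight cF (Nat.land (Nat.shiftRight cH (Nat.land (Nat.shiftRight cF x) 1048575)) 1048575)) 1048575)) 1048575) x) (and (Nat.beq (Nat.land (Nat.shiftRight cF (Nat.land (Nat.shiftRight cF x) 1048575)) 1048575) x) (and (Nat.beq (Nat.land (Nat.shiftRight cI (Nat.land (Nat.shiftRight cF (Nat.land (Nat.shiftRight cI (Nat.land (Nat.shiftRight cF x) 1048575)) 1048575)) 1048575)) 1048575) x) (and (Nat.beq (Nat.land (Nat.shiftRight cI (Nat.land (Nat.shiftRight cI x) 1048575)) 1048575) x) (and (Nat.beq (Nat.land (Nat.shiftRight cA (Nat.land (Nat.shiftRight cB (Nat.land (Nat.shiftRight cC (Nat.land (Nat.shiftRight cD (Nat.land (Nat.shiftRight cE (Nat.land (Nat.shiftRight cF (Nat.land (Nat.shiftRight cH (Nat.land (Nat.shiftRight cA (Nat.land (Nat.shiftRight cB (Nat.land (Nat.shiftRight cC (Nat.land (Nat.shiftRight cD (Nat.land (Nat.shiftRight cE (Nat.land (Nat.shiftRight cF (Nat.land (Nat.shiftRight cH (Nat.land (Nat.shiftRight cA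 (Nat.land (Nat.shiftRight cB (Nat.land (Nat.shiftRight cC (Nat.land (Nat.shiftRight cD (Nat.land (Nat.shiftRight cE (Nat.land (Nat.shiftRight cF (Nat.land (Nat.shiftRight cH (Nat.land (Nat.shiftRight cA (Nat.land (Nat.shiftRight cB (Nat.land (Nat.shiftRight cC (Nat.land (Nat.shiftRight cD (Nat.land (Nat.shiftRight cE (Nat.land (Nat.shiftRight cF (Nat.land (Nat.shiftRight cH (Nat.land (Nat.shiftRight cA (Nat.land (Nat.shiftRight cB (Nat.land (Nat.shiftRight cC (Nat.land (Nat.shiftRight cD (Nat.land (Nat.shiftRight cE (Nat.land (Nat.shiftRight cF (Nat.land (Nat.shiftRight cH (Nat.land (Nat.shiftRight cA (Nat.land (Nat.shiftRight cB (Nat.land (Nat.shiftRight cC (Nat.land (Nat.shiftRight cD (Nat.land (Nat.shiftRight cE (Nat.land (Nat.shiftRight cF (Nat.land (Nat.shiftRight cH (Nat.land (Nat.shiftRight cA (Nat.land (Nat.shiftRight cB (Nat.land (Nat.shiftRight cC (Nat.land (Nat.shiftRight cD (Nat.land (Nat.shiftRight cE (Nat.land (Nat.shiftRight cF (Nat.land (Nat.shiftRight cH (Nat.land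 (Nat.shiftRight cA (Nat.land (Nat.shiftRight cB (Nat.land (Nat.shiftRight cC (Nat.land (Nat.shiftRight cD (Nat.land (Nat.shiftRight cE (Nat.land (Nat.shiftRight cF (Nat.land (Nat.shiftRight cH (Nat.land (Nat.shiftRight cA (Nat.land (Nat.shiftRight cB (Nat.land (Nat.shiftRight cC (Nat.land (Nat.shiftRight cD (Nat.land (Nat.shiftRight cE (Nat.land (Nat.shiftRight cF (Nat.land (Nat.shiftRight cH (Nat.land (Nat.shiftRight cL x) 1048575)) 1048575)) 1048575)) 1048575)) 1048575)) 1048575)) 1048575)) 1048575)) 1048575)) 1048575)) 1048575)) 1048575)) 1048575)) 1048575)) 1048575)) 1048575)) 1048575)) 1048575)) 1048575)) 1048575)) 1048575)) 1048575)) 1048575)) 1048575)) 1048575)) 1048575)) 1048575)) 1048575)) 1048575)) 1048575)) 1048575)) 1048575)) 1048575)) 1048575)) 1048575)) 1048575)) 1048575)) 1048575)) 1048575)) 1048575)) 1048575)) 1048575)) 1048575)) 1048575)) 1048575)) 1048575)) 1048575)) 1048575)) 1048575)) 1048575)) 1048575)) 1048575)) 1048575)) 1048575)) 1048575)) 1048575)) 1048575))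 1048575)) 1048575)) 1048575)) 1048575)) 1048575)) 1048575)) 1048575) x) (and (Nat.beq (Nat.land (Nat.shiftRight cG x) 1048575) x) (and (Nat.beq (Nat.land (Nat.shiftRight cJ x) 1048575) x) true))))))))))))))))))))))))))))))))))))))))))))))))))))))))))
      (or (Nat.beq x 0) (or (Nat.blt (Nat.land (Nat.shiftRight cL x) 1048575) x) (or (Nat.blt (Nat.land (Nat.shiftRight cK x) 1048575) x) (or (Nat.blt (Nat.land (Nat.shiftRight cA x) 1048575) x) (or (Nat.blt (Nat.land (Nat.shiftRight cB x) 1048575) x) (or (Nat.blt (Nat.land (Nat.shiftRight cC x) 1048575) x) (or (Nat.blt (Nat.land (Nat.shiftRight cD x) 1048575) x) (or (Nat.blt (Nat.land (Nat.shiftRight cE x) 1048575) x) (or (Nat.blt (Nat.land (Nat.shiftRight cF x) 1048575) x) (or (Nat.blt (Nat.land (Nat.shiftRight cG x) 1048575) x) (or (Nat.blt (Nat.land (Nat.shiftRight cJ x) 1048575) x) (or (Nat.blt (Nat.land (Nat.shiftRight cH x) 1048575) x) (or (Nat.blt (Nat.land (Nat.shiftRight cI x) 1048575) x) (or (Nat.blt (Nat.land (Nat.shiftRight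 cL x) 1048575) x) (or (Nat.blt (Nat.land (Nat.shiftRight cK x) 1048575) x) (or (Nat.blt (Nat.land (Nat.shiftRight cA x) 1048575) x) (or (Nat.blt (Nat.land (Nat.shiftRight cB x) 1048575) x) (or (Nat.blt (Nat.land (Nat.shiftRight cC x) 1048575) x) (or (Nat.blt (Nat.land (Nat.shiftRight cD x) 1048575) x) (or (Nat.blt (Nat.land (Nat.shiftRight cE x) 1048575) x) (or (Nat.blt (Nat.land (Nat.shiftRight cF x) 1048575) x) (or (Nat.blt (Nat.land (Nat.shiftRight cG x) 1048575) x) (or (Nat.blt (Nat.land (Nat.shiftRight cJ x) 1048575) x) (or (Nat.blt (Nat.land (Nat.shiftRight cH x) 1048575) x) (or (Nat.blt (Nat.land (Nat.shiftRight cI x) 1048575) x) false))))))))))))))))))))))))))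

set_option maxRecDepth 1000000 in
theorem pointOk_eq (x : ℕ) : pointOk x = pchk 568620 20 1048575 col letters words x := rfl

end Cfsg.Agent.Lib.Helper96_Fi24TA
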