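import Cfsg.Agent.Lib.Helper96_Fi24TADef

set_option autoImplicit false
set_option linter.constructorNameAsVariable false
set_option Elab.async false

namespace Cfsg.Agent.Lib.Helper96_Fi24TA

open Cfsg.Agent.Lib.Helper28_CosetPerm

theorem p0r0 : allRange pointOk 20 0 27 = true := by decide +kernel
theorem p0u0 : ∀ k, 0 ≤ k → k < 27 → pointOk (k * 20) = true := between_extend pointOk 20 0 0 27 (between_start pointOk 20 0) p0r0

theorem p0r1 : allRange pointOk 20 27 27 = true := by decide +kernel
theorem p0u1 : ∀ k, 0 ≤ k → k < 54 → pointOk (k * 20) = true := between_extend pointOk 20 0 27 27 (p0u0) p0r1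

theorem p0r2 : allRange pointOk 20 54 27 = true := by decide +kernel
theorem p0u2 : ∀ k, 0 ≤ k → k < 81 → pointOk (k * 20) = true := between_extend pointOk 20 0 54 27 (p0u1) p0r2

theorem p0r3 : allRange pointOk 20 81 27 = true := by decide +kernel
theorem p0u3 : ∀ k, 0 ≤ k → k < 108 → pointOk (k * 20) = true := between_extend pointOk 20 0 81 27 (p0u2) p0r3

theorem p0r4 : allRange pointOk 20 108 27 = true := by decide +kernel
theorem p0u4 : ∀ k, 0 ≤ k → k < 135 → pointOk (k * 20) = true := between_extend pointOk 20 0 108 27 (p0u3) p0r4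

theorem p0r5 : allRange pointOk 20 135 27 = true := by decide +kernel
theorem p0u5 : ∀ k, 0 ≤ k → k < 162 → pointOk (k * 20) = true := between_extend pointOk 20 0 135 27 (p0u4) p0r5

theorem p0r6 : allRange pointOk 20 162 27 = true := by decide +kernel
theorem p0u6 : ∀ k, 0 ≤ k → k < 189 → pointOk (k * 20) = true := between_extend pointOk 20 0 162 27 (p0u5) p0r6

theorem p0r7 : allRange pointOk 20 189 27 = true := by decide +kernel
theorem p0u7 : ∀ k, 0 ≤ k → k < 216 → pointOk (k * 20) = true := between_extend pointOk 20 0 189 27 (p0u6) p0r7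

theorem p0r8 : allRange pointOk 20 216 27 = true := by decide +kernel
theorem p0u8 : ∀ k, 0 ≤ k → k < 243 → pointOk (k * 20) = true := between_extend pointOk 20 0 216 27 (p0u7) p0r8

theorem p0r9 : allRange pointOk 20 243 27 = true := by decide +kernel
theorem p0u9 : ∀ k, 0 ≤ k → k < 270 → pointOk (k * 20) = true := between_extend pointOk 20 0 243 27 (p0u8) p0r9

theorem p0r10 : allRange pointOk 20 270 27 = true := by decide +kernel
theorem p0u10 : ∀ k, 0 ≤ k → k < 297 → pointOk (k * 20) = true := between_extend pointOk 20 0 270 27 (p0u9) p0r10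

theorem p0r11 : allRange pointOk 20 297 27 = true := by decide +kernel
theorem p0u11 : ∀ k, 0 ≤ k → k < 324 → pointOk (k * 20) = true := between_extend pointOk 20 0 297 27 (p0u10) p0r11

theorem p0r12 : allRange pointOk 20 324 27 = true := by decide +kernel
theorem p0u12 : ∀ k, 0 ≤ k → k < 351 → pointOk (k * 20) = true := between_extend pointOk 20 0 324 27 (p0u11) p0r12

theorem p0r13 : allRange pointOk 20 351 27 = true := by decide +kernel
theorem p0u13 : ∀ k, 0 ≤ k → k < 378 → pointOk (k * 20) = true := between_extend pointOk 20 0 351 27 (p0u12) p0r13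

theorem p0r14 : allRange pointOk 20 378 27 = true := by decide +kernel
theorem p0u14 : ∀ k, 0 ≤ k → k < 405 → pointOk (k * 20) = true := between_extend pointOk 20 0 378 27 (p0u13) p0r14

theorem p0r15 : allRange pointOk 20 405 27 = true := by decide +kernel
theorem p0u15 : ∀ k, 0 ≤ k → k < 432 → pointOk (k * 20) = true := between_extend pointOk 20 0 405 27 (p0u14) p0r15

theorem p0r16 : allRange pointOk 20 432 27 = true := by decide +kernel
theorem p0u16 : ∀ k, 0 ≤ k → k < 459 → pointOk (k * 20) = true := between_extend pointOk 20 0 432 27 (p0u15) p0r16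

theorem p0r17 : allRange pointOk 20 459 27 = true := by decide +kernel
theorem p0u17 : ∀ k, 0 ≤ k → k < 486 → pointOk (k * 20) = true := between_extend pointOk 20 0 459 27 (p0u16) p0r17

theorem p0r18 : allRange pointOk 20 486 27 = true := by decide +kernel
theorem p0u18 : ∀ k, 0 ≤ k → k < 513 → pointOk (k * 20) = true := between_extend pointOk 20 0 486 27 (p0u17) p0r18

theorem p0r19 : allRange pointOk 20 513 27 = true := by decide +kernel
theorem p0u19 : ∀ k, 0 ≤ k → k < 540 → pointOk (k * 20) = true := between_extend pointOk 20 0 513 27 (p0u18) p0r19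

theorem p0r20 : allRange pointOk 20 540 27 = true := by decide +kernel
theorem p0u20 : ∀ k, 0 ≤ k → k < 567 → pointOk (k * 20) = true := between_extend pointOk 20 0 540 27 (p0u19) p0r20

theorem p0r21 : allRange pointOk 20 567 27 = true := by decide +kernel
theorem p0u21 : ∀ k, 0 ≤ k → k < 594 → pointOk (k * 20) = true := between_extend pointOk 20 0 567 27 (p0u20) p0r21

theorem p0r22 : allRange pointOk 20 594 27 = true := by decide +kernel
theorem p0u22 : ∀ k, 0 ≤ k → k < 621 → pointOk (k * 20) = true := between_extend pointOk 20 0 594 27 (p0u21) p0r22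

theorem p0r23 : allRange pointOk 20 621 27 = true := by decide +kernel
theorem p0u23 : ∀ k, 0 ≤ k → k < 648 → pointOk (k * 20) = true := between_extend pointOk 20 0 621 27 (p0u22) p0r23

theorem p0r24 : allRange pointOk 20 648 27 = true := by decide +kernel
theorem p0u24 : ∀ k, 0 ≤ k → k < 675 → pointOk (k * 20) = true := between_extend pointOk 20 0 648 27 (p0u23) p0r24

theorem p0r25 : allRange pointOk 20 675 27 = true := by decide +kernel
theorem p0u25 : ∀ k, 0 ≤ k → k < 702 → pointOk (k * 20) = true := between_extend pointOk 20 0 675 27 (p0u24) p0r25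

theorem p0r26 : allRange pointOk 20 702 27 = true := by decide +kernel
theorem p0u26 : ∀ k, 0 ≤ k → k < 729 → pointOk (k * 20) = true := between_extend pointOk 20 0 702 27 (p0u25) p0r26

theorem p0r27 : allRange pointOk 20 729 27 = true := by decide +kernel
theorem p0u27 : ∀ k, 0 ≤ k → k < 756 → pointOk (k * 20) = true := between_extend pointOk 20 0 729 27 (p0u26) p0r27

theorem p0r28 : allRange pointOk 20 756 27 = true := by decide +kernel
theorem p0u28 : ∀ k, 0 ≤ k → k < 783 → pointOk (k * 20) = true := between_extend pointOk 20 0 756 27 (p0u27) p0r28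

theorem p0r29 : allRange pointOk 20 783 27 = true := by decide +kernel
theorem p0u29 : ∀ k, 0 ≤ k → k < 810 → pointOk (k * 20) = true := between_extend pointOk 20 0 783 27 (p0u28) p0r29

theorem p0r30 : allRange pointOk 20 810 27 = true := by decide +kernel
theorem p0u30 : ∀ k, 0 ≤ k → k < 837 → pointOk (k * 20) = true := between_extend pointOk 20 0 810 27 (p0u29) p0r30

theorem p0r31 : allRange pointOk 20 837 27 = true := by decide +kernel
theorem p0u31 : ∀ k, 0 ≤ k → k < 864 → pointOk (k * 20) = true := between_extend pointOk 20 0 837 27 (p0u30) p0r31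

theorem p0r32 : allRange pointOk 20 864 27 = true := by decide +kernel
theorem p0u32 : ∀ k, 0 ≤ k → k < 891 → pointOk (k * 20) = true := between_extend pointOk 20 0 864 27 (p0u31) p0r32

theorem p0r33 : allRange pointOk 20 891 27 = true := by decide +kernel
theorem p0u33 : ∀ k, 0 ≤ k → k < 918 → pointOk (k * 20) = true := between_extend pointOk 20 0 891 27 (p0u32) p0r33

theorem p0r34 : allRange pointOk 20 918 27 = true := by decide +kernel
theorem p0u34 : ∀ k, 0 ≤ k → k < 945 → pointOk (k * 20) = true := between_extend pointOk 20 0 918 27 (p0u33) p0r34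

theorem p0r35 : allRange pointOk 20 945 27 = true := by decide +kernel
theorem p0u35 : ∀ k, 0 ≤ k → k < 972 → pointOk (k * 20) = true := between_extend pointOk 20 0 945 27 (p0u34) p0r35

theorem p0r36 : allRange pointOk 20 972 27 = true := by decide +kernel
theorem p0u36 : ∀ k, 0 ≤ k → k < 999 → pointOk (k * 20) = true := between_extend pointOk 20 0 972 27 (p0u35) p0r36

theorem p0r37 : allRange pointOk 20 999 27 = true := by decide +kernel
theorem p0u37 : ∀ k, 0 ≤ k → k < 1026 → pointOk (k * 20) = true := between_extend pointOk 20 0 999 27 (p0u36) p0r37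

theorem p0r38 : allRange pointOk 20 1026 27 = true := by decide +kernel
theorem p0u38 : ∀ k, 0 ≤ k → k < 1053 → pointOk (k * 20) = true := between_extend pointOk 20 0 1026 27 (p0u37) p0r38

theorem p0r39 : allRange pointOk 20 1053 27 = true := by decide +kernel
theorem p0u39 : ∀ k, 0 ≤ k → k < 1080 → pointOk (k * 20) = true := between_extend pointOk 20 0 1053 27 (p0u38) p0r39

theorem p0r40 : allRange pointOk 20 1080 27 = true := by decide +kernel
theorem p0u40 : ∀ k, 0 ≤ k → k < 1107 → pointOk (k * 20) = true := between_extend pointOk 20 0 1080 27 (p0u39) p0r40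

theorem p0r41 : allRange pointOk 20 1107 27 = true := by decide +kernel
theorem p0u41 : ∀ k, 0 ≤ k → k < 1134 → pointOk (k * 20) = true := between_extend pointOk 20 0 1107 27 (p0u40) p0r41

theorem p0r42 : allRange pointOk 20 1134 27 = true := by decide +kernel
theorem p0u42 : ∀ k, 0 ≤ k → k < 1161 → pointOk (k * 20) = true := between_extend pointOk 20 0 1134 27 (p0u41) p0r42

theorem p0r43 : allRange pointOk 20 1161 27 = true := by decide +kernel
theorem p0u43 : ∀ k, 0 ≤ k → k < 1188 → pointOk (k * 20) = true := between_extend pointOk 20 0 1161 27 (p0u42) p0r43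

theorem p0r44 : allRange pointOk 20 1188 27 = true := by decide +kernel
theorem p0u44 : ∀ k, 0 ≤ k → k < 1215 → pointOk (k * 20) = true := between_extend pointOk 20 0 1188 27 (p0u43) p0r44

theorem p0r45 : allRange pointOk 20 1215 27 = true := by decide +kernel
theorem p0u45 : ∀ k, 0 ≤ k → k < 1242 → pointOk (k * 20) = true := between_extend pointOk 20 0 1215 27 (p0u44) p0r45

theorem p0r46 : allRange pointOk 20 1242 27 = true := by decide +kernel
theorem p0u46 : ∀ k, 0 ≤ k → k < 1269 → pointOk (k * 20) = true := between_extend pointOk 20 0 1242 27 (p0u45) p0r46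

theorem p0r47 : allRange pointOk 20 1269 27 = true := by decide +kernel
theorem p0u47 : ∀ k, 0 ≤ k → k < 1296 → pointOk (k * 20) = true := between_extend pointOk 20 0 1269 27 (p0u46) p0r47

theorem p0r48 : allRange pointOk 20 1296 27 = true := by decide +kernel
theorem p0u48 : ∀ k, 0 ≤ k → k < 1323 → pointOk (k * 20) = true := between_extend pointOk 20 0 1296 27 (p0u47) p0r48

theorem p0r49 : allRange pointOk 20 1323 27 = true := by decide +kernel
theorem p0u49 : ∀ k, 0 ≤ k → k < 1350 → pointOk (k * 20) = true := between_extend pointOk 20 0 1323 27 (p0u48) p0r49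

theorem p0r50 : allRange pointOk 20 1350 27 = true := by decide +kernel
theorem p0u50 : ∀ k, 0 ≤ k → k < 1377 → pointOk (k * 20) = true := between_extend pointOk 20 0 1350 27 (p0u49) p0r50

theorem p0r51 : allRange pointOk 20 1377 27 = true := by decide +kernel
theorem p0u51 : ∀ k, 0 ≤ k → k < 1404 → pointOk (k * 20) = true := between_extend pointOk 20 0 1377 27 (p0u50) p0r51

theorem p0r52 : allRange pointOk 20 1404 27 = true := by decide +kernel
theorem p0u52 : ∀ k, 0 ≤ k → k < 1431 → pointOk (k * 20) = true := between_extend pointOk 20 0 1404 27 (p0u51) p0r52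

theorem p0r53 : allRange pointOk 20 1431 27 = true := by decide +kernel
theorem p0u53 : ∀ k, 0 ≤ k → k < 1458 → pointOk (k * 20) = true := between_extend pointOk 20 0 1431 27 (p0u52) p0r53

theorem p0r54 : allRange pointOk 20 1458 27 = true := by decide +kernel
theorem p0u54 : ∀ k, 0 ≤ k → k < 1485 → pointOk (k * 20) = true := between_extend pointOk 20 0 1458 27 (p0u53) p0r54

theorem p0r55 : allRange pointOk 20 1485 27 = true := by decide +kernel
theorem p0u55 : ∀ k, 0 ≤ k → k < 1512 → pointOk (k * 20) = true := between_extend pointOk 20 0 1485 27 (p0u54) p0r55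

theorem p0r56 : allRange pointOk 20 1512 27 = true := by decide +kernel
theorem p0u56 : ∀ k, 0 ≤ k → k < 1539 → pointOk (k * 20) = true := between_extend pointOk 20 0 1512 27 (p0u55) p0r56

theorem p0r57 : allRange pointOk 20 1539 27 = true := by decide +kernel
theorem p0u57 : ∀ k, 0 ≤ k → k < 1566 → pointOk (k * 20) = true := between_extend pointOk 20 0 1539 27 (p0u56) p0r57

theorem p0r58 : allRange pointOk 20 1566 27 = true := by decide +kernel
theorem p0u58 : ∀ k, 0 ≤ k → k < 1593 → pointOk (k * 20) = true := between_extend pointOk 20 0 1566 27 (p0u57) p0r58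

theorem p0r59 : allRange pointOk 20 1593 27 = true := by decide +kernel
theorem p0u59 : ∀ k, 0 ≤ k → k < 1620 → pointOk (k * 20) = true := between_extend pointOk 20 0 1593 27 (p0u58) p0r59

theorem p0r60 : allRange pointOk 20 1620 27 = true := by decide +kernel
theorem p0u60 : ∀ k, 0 ≤ k → k < 1647 → pointOk (k * 20) = true := between_extend pointOk 20 0 1620 27 (p0u59) p0r60

theorem p0r61 : allRange pointOk 20 1647 27 = true := by decide +kernel
theorem p0u61 : ∀ k, 0 ≤ k → k < 1674 → pointOk (k * 20) = true := between_extend pointOk 20 0 1647 27 (p0u60) p0r61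

theorem p0r62 : allRange pointOk 20 1674 27 = true := by decide +kernel
theorem p0u62 : ∀ k, 0 ≤ k → k < 1701 → pointOk (k * 20) = true := between_extend pointOk 20 0 1674 27 (p0u61) p0r62

theorem p0r63 : allRange pointOk 20 1701 27 = true := by decide +kernel
theorem p0u63 : ∀ k, 0 ≤ k → k < 1728 → pointOk (k * 20) = true := between_extend pointOk 20 0 1701 27 (p0u62) p0r63

theorem p0r64 : allRange pointOk 20 1728 27 = true := by decide +kernel
theorem p0u64 : ∀ k, 0 ≤ k → k < 1755 → pointOk (k * 20) = true := between_extend pointOk 20 0 1728 27 (p0u63) p0r64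

theorem p0r65 : allRange pointOk 20 1755 27 = true := by decide +kernel
theorem p0u65 : ∀ k, 0 ≤ k → k < 1782 → pointOk (k * 20) = true := between_extend pointOk 20 0 1755 27 (p0u64) p0r65

theorem p0r66 : allRange pointOk 20 1782 27 = true := by decide +kernel
theorem p0u66 : ∀ k, 0 ≤ k → k < 1809 → pointOk (k * 20) = true := between_extend pointOk 20 0 1782 27 (p0u65) p0r66

theorem p0r67 : allRange pointOk 20 1809 27 = true := by decide +kernel
theorem p0u67 : ∀ k, 0 ≤ k → k < 1836 → pointOk (k * 20) = true := between_extend pointOk 20 0 1809 27 (p0u66) p0r67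

theorem p0r68 : allRange pointOk 20 1836 27 = true := by decide +kernel
theorem p0u68 : ∀ k, 0 ≤ k → k < 1863 → pointOk (k * 20) = true := between_extend pointOk 20 0 1836 27 (p0u67) p0r68

theorem p0r69 : allRange pointOk 20 1863 27 = true := by decide +kernel
theorem p0u69 : ∀ k, 0 ≤ k → k < 1890 → pointOk (k * 20) = true := between_extend pointOk 20 0 1863 27 (p0u68) p0r69

theorem p0r70 : allRange pointOk 20 1890 27 = true := by decide +kernel
theorem p0u70 : ∀ k, 0 ≤ k → k < 1917 → pointOk (k * 20) = true := between_extend pointOk 20 0 1890 27 (p0u69) p0r70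

theorem p0r71 : allRange pointOk 20 1917 27 = true := by decide +kernel
theorem p0u71 : ∀ k, 0 ≤ k → k < 1944 → pointOk (k * 20) = true := between_extend pointOk 20 0 1917 27 (p0u70) p0r71

theorem p0r72 : allRange pointOk 20 1944 27 = true := by decide +kernel
theorem p0u72 : ∀ k, 0 ≤ k → k < 1971 → pointOk (k * 20) = true := between_extend pointOk 20 0 1944 27 (p0u71) p0r72

theorem p0r73 : allRange pointOk 20 1971 27 = true := by decide +kernel
theorem p0u73 : ∀ k, 0 ≤ k → k < 1998 → pointOk (k * 20) = true := between_extend pointOk 20 0 1971 27 (p0u72) p0r73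

theorem p0r74 : allRange pointOk 20 1998 27 = true := by decide +kernel
theorem p0u74 : ∀ k, 0 ≤ k → k < 2025 → pointOk (k * 20) = true := between_extend pointOk 20 0 1998 27 (p0u73) p0r74

theorem p0r75 : allRange pointOk 20 2025 27 = true := by decide +kernel
theorem p0u75 : ∀ k, 0 ≤ k → k < 2052 → pointOk (k * 20) = true := between_extend pointOk 20 0 2025 27 (p0u74) p0r75

theorem p0r76 : allRange pointOk 20 2052 27 = true := by decide +kernel
theorem p0u76 : ∀ k, 0 ≤ k → k < 2079 → pointOk (k * 20) = true := between_extend pointOk 20 0 2052 27 (p0u75) p0r76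

theorem p0r77 : allRange pointOk 20 2079 27 = true := by decide +kernel
theorem p0u77 : ∀ k, 0 ≤ k → k < 2106 → pointOk (k * 20) = true := between_extend pointOk 20 0 2079 27 (p0u76) p0r77

theorem p0r78 : allRange pointOk 20 2106 27 = true := by decide +kernel
theorem p0u78 : ∀ k, 0 ≤ k → k < 2133 → pointOk (k * 20) = true := between_extend pointOk 20 0 2106 27 (p0u77) p0r78

theorem p0r79 : allRange pointOk 20 2133 27 = true := by decide +kernel
theorem p0u79 : ∀ k, 0 ≤ k → k < 2160 → pointOk (k * 20) = true := between_extend pointOk 20 0 2133 27 (p0u78) p0r79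

theorem p0r80 : allRange pointOk 20 2160 27 = true := by decide +kernel
theorem p0u80 : ∀ k, 0 ≤ k → k < 2187 → pointOk (k * 20) = true := between_extend pointOk 20 0 2160 27 (p0u79) p0r80

theorem p0r81 : allRange pointOk 20 2187 27 = true := by decide +kernel
theorem p0u81 : ∀ k, 0 ≤ k → k < 2214 → pointOk (k * 20) = true := between_extend pointOk 20 0 2187 27 (p0u80) p0r81

theorem p0r82 : allRange pointOk 20 2214 27 = true := by decide +kernel
theorem p0u82 : ∀ k, 0 ≤ k → k < 2241 → pointOk (k * 20) = true := between_extend pointOk 20 0 2214 27 (p0u81) p0r82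

theorem p0r83 : allRange pointOk 20 2241 27 = true := by decide +kernel
theorem p0u83 : ∀ k, 0 ≤ k → k < 2268 → pointOk (k * 20) = true := between_extend pointOk 20 0 2241 27 (p0u82) p0r83

theorem p0r84 : allRange pointOk 20 2268 27 = true := by decide +kernel
theorem p0u84 : ∀ k, 0 ≤ k → k < 2295 → pointOk (k * 20) = true := between_extend pointOk 20 0 2268 27 (p0u83) p0r84

theorem p0r85 : allRange pointOk 20 2295 27 = true := by decide +kernel
theorem p0u85 : ∀ k, 0 ≤ k → k < 2322 → pointOk (k * 20) = true := between_extend pointOk 20 0 2295 27 (p0u84) p0r85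

theorem p0r86 : allRange pointOk 20 2322 27 = true := by decide +kernel
theorem p0u86 : ∀ k, 0 ≤ k → k < 2349 → pointOk (k * 20) = true := between_extend pointOk 20 0 2322 27 (p0u85) p0r86

theorem p0r87 : allRange pointOk 20 2349 27 = true := by decide +kernel
theorem p0u87 : ∀ k, 0 ≤ k → k < 2376 → pointOk (k * 20) = true := between_extend pointOk 20 0 2349 27 (p0u86) p0r87

theorem p0r88 : allRange pointOk 20 2376 27 = true := by decide +kernel
theorem p0u88 : ∀ k, 0 ≤ k → k < 2403 → pointOk (k * 20) = true := between_extend pointOk 20 0 2376 27 (p0u87) p0r88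

theorem p0r89 : allRange pointOk 20 2403 27 = true := by decide +kernel
theorem p0u89 : ∀ k, 0 ≤ k → k < 2430 → pointOk (k * 20) = true := between_extend pointOk 20 0 2403 27 (p0u88) p0r89

theorem p0r90 : allRange pointOk 20 2430 27 = true := by decide +kernel
theorem p0u90 : ∀ k, 0 ≤ k → k < 2457 → pointOk (k * 20) = true := between_extend pointOk 20 0 2430 27 (p0u89) p0r90

theorem p0r91 : allRange pointOk 20 2457 27 = true := by decide +kernel
theorem p0u91 : ∀ k, 0 ≤ k → k < 2484 → pointOk (k * 20) = true := between_extend pointOk 20 0 2457 27 (p0u90) p0r91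

theorem p0r92 : allRange pointOk 20 2484 27 = true := by decide +kernel
theorem p0u92 : ∀ k, 0 ≤ k → k < 2511 → pointOk (k * 20) = true := between_extend pointOk 20 0 2484 27 (p0u91) p0r92

theorem p0r93 : allRange pointOk 20 2511 27 = true := by decide +kernel
theorem p0u93 : ∀ k, 0 ≤ k → k < 2538 → pointOk (k * 20) = true := between_extend pointOk 20 0 2511 27 (p0u92) p0r93

theorem p0r94 : allRange pointOk 20 2538 27 = true := by decide +kernel
theorem p0u94 : ∀ k, 0 ≤ k → k < 2565 → pointOk (k * 20) = true := between_extend pointOk 20 0 2538 27 (p0u93) p0r94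

theorem p0r95 : allRange pointOk 20 2565 27 = true := by decide +kernel
theorem p0u95 : ∀ k, 0 ≤ k → k < 2592 → pointOk (k * 20) = true := between_extend pointOk 20 0 2565 27 (p0u94) p0r95

theorem p0r96 : allRange pointOk 20 2592 27 = true := by decide +kernel
theorem p0u96 : ∀ k, 0 ≤ k → k < 2619 → pointOk (k * 20) = true := between_extend pointOk 20 0 2592 27 (p0u95) p0r96

theorem p0r97 : allRange pointOk 20 2619 27 = true := by decide +kernel
theorem p0u97 : ∀ k, 0 ≤ k → k < 2646 → pointOk (k * 20) = true := between_extend pointOk 20 0 2619 27 (p0u96) p0r97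

theorem p0r98 : allRange pointOk 20 2646 27 = true := by decide +kernel
theorem p0u98 : ∀ k, 0 ≤ k → k < 2673 → pointOk (k * 20) = true := between_extend pointOk 20 0 2646 27 (p0u97) p0r98

theorem p0r99 : allRange pointOk 20 2673 27 = true := by decide +kernel
theorem p0u99 : ∀ k, 0 ≤ k → k < 2700 → pointOk (k * 20) = true := between_extend pointOk 20 0 2673 27 (p0u98) p0r99

theorem p0r100 : allRange pointOk 20 2700 27 = true := by decide +kernel
theorem p0u100 : ∀ k, 0 ≤ k → k < 2727 → pointOk (k * 20) = true := between_extend pointOk 20 0 2700 27 (p0u99) p0r100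

theorem p0r101 : allRange pointOk 20 2727 27 = true := by decide +kernel
theorem p0u101 : ∀ k, 0 ≤ k → k < 2754 → pointOk (k * 20) = true := between_extend pointOk 20 0 2727 27 (p0u100) p0r101

theorem p0r102 : allRange pointOk 20 2754 27 = true := by decide +kernel
theorem p0u102 : ∀ k, 0 ≤ k → k < 2781 → pointOk (k * 20) = true := between_extend pointOk 20 0 2754 27 (p0u101) p0r102

theorem p0r103 : allRange pointOk 20 2781 27 = true := by decide +kernel
theorem p0u103 : ∀ k, 0 ≤ k → k < 2808 → pointOk (k * 20) = true := between_extend pointOk 20 0 2781 27 (p0u102) p0r103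

theorem p0r104 : allRange pointOk 20 2808 27 = true := by decide +kernel
theorem p0u104 : ∀ k, 0 ≤ k → k < 2835 → pointOk (k * 20) = true := between_extend pointOk 20 0 2808 27 (p0u103) p0r104

theorem p0r105 : allRange pointOk 20 2835 27 = true := by decide +kernel
theorem p0u105 : ∀ k, 0 ≤ k → k < 2862 → pointOk (k * 20) = true := between_extend pointOk 20 0 2835 27 (p0u104) p0r105

theorem p0r106 : allRange pointOk 20 2862 27 = true := by decide +kernel
theorem p0u106 : ∀ k, 0 ≤ k → k < 2889 → pointOk (k * 20) = true := between_extend pointOk 20 0 2862 27 (p0u105) p0r106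

theorem p0r107 : allRange pointOk 20 2889 27 = true := by decide +kernel
theorem p0u107 : ∀ k, 0 ≤ k → k < 2916 → pointOk (k * 20) = true := between_extend pointOk 20 0 2889 27 (p0u106) p0r107

theorem p0r108 : allRange pointOk 20 2916 27 = true := by decide +kernel
theorem p0u108 : ∀ k, 0 ≤ k → k < 2943 → pointOk (k * 20) = true := between_extend pointOk 20 0 2916 27 (p0u107) p0r108

theorem p0r109 : allRange pointOk 20 2943 27 = true := by decide +kernel
theorem p0u109 : ∀ k, 0 ≤ k → k < 2970 → pointOk (k * 20) = true := between_extend pointOk 20 0 2943 27 (p0u108) p0r109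

theorem p0r110 : allRange pointOk 20 2970 27 = true := by decide +kernel
theorem p0u110 : ∀ k, 0 ≤ k → k < 2997 → pointOk (k * 20) = true := between_extend pointOk 20 0 2970 27 (p0u109) p0r110

theorem p0r111 : allRange pointOk 20 2997 27 = true := by decide +kernel
theorem p0u111 : ∀ k, 0 ≤ k → k < 3024 → pointOk (k * 20) = true := between_extend pointOk 20 0 2997 27 (p0u110) p0r111

theorem p0r112 : allRange pointOk 20 3024 27 = true := by decide +kernel
theorem p0u112 : ∀ k, 0 ≤ k → k < 3051 → pointOk (k * 20) = true := between_extend pointOk 20 0 3024 27 (p0u111) p0r112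

theorem p0r113 : allRange pointOk 20 3051 27 = true := by decide +kernel
theorem p0u113 : ∀ k, 0 ≤ k → k < 3078 → pointOk (k * 20) = true := between_extend pointOk 20 0 3051 27 (p0u112) p0r113

theorem p0r114 : allRange pointOk 20 3078 27 = true := by decide +kernel
theorem p0u114 : ∀ k, 0 ≤ k → k < 3105 → pointOk (k * 20) = true := between_extend pointOk 20 0 3078 27 (p0u113) p0r114

theorem p0r115 : allRange pointOk 20 3105 27 = true := by decide +kernel
theorem p0u115 : ∀ k, 0 ≤ k → k < 3132 → pointOk (k * 20) = true := between_extend pointOk 20 0 3105 27 (p0u114) p0r115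

theorem p0r116 : allRange pointOk 20 3132 27 = true := by decide +kernel
theorem p0u116 : ∀ k, 0 ≤ k → k < 3159 → pointOk (k * 20) = true := between_extend pointOk 20 0 3132 27 (p0u115) p0r116

theorem p0r117 : allRange pointOk 20 3159 27 = true := by decide +kernel
theorem p0u117 : ∀ k, 0 ≤ k → k < 3186 → pointOk (k * 20) = true := between_extend pointOk 20 0 3159 27 (p0u116) p0r117

theorem p0r118 : allRange pointOk 20 3186 27 = true := by decide +kernel
theorem p0u118 : ∀ k, 0 ≤ k → k < 3213 → pointOk (k * 20) = true := between_extend pointOk 20 0 3186 27 (p0u117) p0r118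

theorem p0r119 : allRange pointOk 20 3213 27 = true := by decide +kernel
theorem p0u119 : ∀ k, 0 ≤ k → k < 3240 → pointOk (k * 20) = true := between_extend pointOk 20 0 3213 27 (p0u118) p0r119

theorem p0r120 : allRange pointOk 20 3240 27 = true := by decide +kernel
theorem p0u120 : ∀ k, 0 ≤ k → k < 3267 → pointOk (k * 20) = true := between_extend pointOk 20 0 3240 27 (p0u119) p0r120

theorem p0r121 : allRange pointOk 20 3267 27 = true := by decide +kernel
theorem p0u121 : ∀ k, 0 ≤ k → k < 3294 → pointOk (k * 20) = true := between_extend pointOk 20 0 3267 27 (p0u120) p0r121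

theorem p0r122 : allRange pointOk 20 3294 27 = true := by decide +kernel
theorem p0u122 : ∀ k, 0 ≤ k → k < 3321 → pointOk (k * 20) = true := between_extend pointOk 20 0 3294 27 (p0u121) p0r122

theorem p0r123 : allRange pointOk 20 3321 27 = true := by decide +kernel
theorem p0u123 : ∀ k, 0 ≤ k → k < 3348 → pointOk (k * 20) = true := between_extend pointOk 20 0 3321 27 (p0u122) p0r123

theorem p0r124 : allRange pointOk 20 3348 27 = true := by decide +kernel
theorem p0u124 : ∀ k, 0 ≤ k → k < 3375 → pointOk (k * 20) = true := between_extend pointOk 20 0 3348 27 (p0u123) p0r124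

theorem p0r125 : allRange pointOk 20 3375 27 = true := by decide +kernel
theorem p0u125 : ∀ k, 0 ≤ k → k < 3402 → pointOk (k * 20) = true := between_extend pointOk 20 0 3375 27 (p0u124) p0r125

theorem p0r126 : allRange pointOk 20 3402 27 = true := by decide +kernel
theorem p0u126 : ∀ k, 0 ≤ k → k < 3429 → pointOk (k * 20) = true := between_extend pointOk 20 0 3402 27 (p0u125) p0r126

theorem p0r127 : allRange pointOk 20 3429 27 = true := by decide +kernel
theorem p0u127 : ∀ k, 0 ≤ k → k < 3456 → pointOk (k * 20) = true := between_extend pointOk 20 0 3429 27 (p0u126) p0r127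

theorem p0r128 : allRange pointOk 20 3456 27 = true := by decide +kernel
theorem p0u128 : ∀ k, 0 ≤ k → k < 3483 → pointOk (k * 20) = true := between_extend pointOk 20 0 3456 27 (p0u127) p0r128

theorem p0r129 : allRange pointOk 20 3483 27 = true := by decide +kernel
theorem p0u129 : ∀ k, 0 ≤ k → k < 3510 → pointOk (k * 20) = true := between_extend pointOk 20 0 3483 27 (p0u128) p0r129

theorem p0r130 : allRange pointOk 20 3510 27 = true := by decide +kernel
theorem p0u130 : ∀ k, 0 ≤ k → k < 3537 → pointOk (k * 20) = true := between_extend pointOk 20 0 3510 27 (p0u129) p0r130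

theorem p0r131 : allRange pointOk 20 3537 27 = true := by decide +kernel
theorem p0u131 : ∀ k, 0 ≤ k → k < 3564 → pointOk (k * 20) = true := between_extend pointOk 20 0 3537 27 (p0u130) p0r131

theorem p0r132 : allRange pointOk 20 3564 27 = true := by decide +kernel
theorem p0u132 : ∀ k, 0 ≤ k → k < 3591 → pointOk (k * 20) = true := between_extend pointOk 20 0 3564 27 (p0u131) p0r132

theorem p0r133 : allRange pointOk 20 3591 27 = true := by decide +kernel
theorem p0u133 : ∀ k, 0 ≤ k → k < 3618 → pointOk (k * 20) = true := between_extend pointOk 20 0 3591 27 (p0u132) p0r133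

theorem p0r134 : allRange pointOk 20 3618 27 = true := by decide +kernel
theorem p0u134 : ∀ k, 0 ≤ k → k < 3645 → pointOk (k * 20) = true := between_extend pointOk 20 0 3618 27 (p0u133) p0r134

theorem p0r135 : allRange pointOk 20 3645 27 = true := by decide +kernel
theorem p0u135 : ∀ k, 0 ≤ k → k < 3672 → pointOk (k * 20) = true := between_extend pointOk 20 0 3645 27 (p0u134) p0r135

theorem p0r136 : allRange pointOk 20 3672 27 = true := by decide +kernel
theorem p0u136 : ∀ k, 0 ≤ k → k < 3699 → pointOk (k * 20) = true := between_extend pointOk 20 0 3672 27 (p0u135) p0r136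

theorem p0r137 : allRange pointOk 20 3699 27 = true := by decide +kernel
theorem p0u137 : ∀ k, 0 ≤ k → k < 3726 → pointOk (k * 20) = true := between_extend pointOk 20 0 3699 27 (p0u136) p0r137

theorem p0r138 : allRange pointOk 20 3726 27 = true := by decide +kernel
theorem p0u138 : ∀ k, 0 ≤ k → k < 3753 → pointOk (k * 20) = true := between_extend pointOk 20 0 3726 27 (p0u137) p0r138

theorem p0r139 : allRange pointOk 20 3753 27 = true := by decide +kernel
theorem p0u139 : ∀ k, 0 ≤ k → k < 3780 → pointOk (k * 20) = true := between_extend pointOk 20 0 3753 27 (p0u138) p0r139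

theorem p0r140 : allRange pointOk 20 3780 27 = true := by decide +kernel
theorem p0u140 : ∀ k, 0 ≤ k → k < 3807 → pointOk (k * 20) = true := between_extend pointOk 20 0 3780 27 (p0u139) p0r140

theorem p0r141 : allRange pointOk 20 3807 27 = true := by decide +kernel
theorem p0u141 : ∀ k, 0 ≤ k → k < 3834 → pointOk (k * 20) = true := between_extend pointOk 20 0 3807 27 (p0u140) p0r141

theorem p0r142 : allRange pointOk 20 3834 27 = true := by decide +kernel
theorem p0u142 : ∀ k, 0 ≤ k → k < 3861 → pointOk (k * 20) = true := between_extend pointOk 20 0 3834 27 (p0u141) p0r142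

theorem p0r143 : allRange pointOk 20 3861 27 = true := by decide +kernel
theorem p0u143 : ∀ k, 0 ≤ k → k < 3888 → pointOk (k * 20) = true := between_extend pointOk 20 0 3861 27 (p0u142) p0r143

theorem p0r144 : allRange pointOk 20 3888 27 = true := by decide +kernel
theorem p0u144 : ∀ k, 0 ≤ k → k < 3915 → pointOk (k * 20) = true := between_extend pointOk 20 0 3888 27 (p0u143) p0r144

theorem p0r145 : allRange pointOk 20 3915 27 = true := by decide +kernel
theorem p0u145 : ∀ k, 0 ≤ k → k < 3942 → pointOk (k * 20) = true := between_extend pointOk 20 0 3915 27 (p0u144) p0r145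

theorem p0r146 : allRange pointOk 20 3942 27 = true := by decide +kernel
theorem p0u146 : ∀ k, 0 ≤ k → k < 3969 → pointOk (k * 20) = true := between_extend pointOk 20 0 3942 27 (p0u145) p0r146

theorem p0r147 : allRange pointOk 20 3969 27 = true := by decide +kernel
theorem p0u147 : ∀ k, 0 ≤ k → k < 3996 → pointOk (k * 20) = true := between_extend pointOk 20 0 3969 27 (p0u146) p0r147

theorem p0r148 : allRange pointOk 20 3996 27 = true := by decide +kernel
theorem p0u148 : ∀ k, 0 ≤ k → k < 4023 → pointOk (k * 20) = true := between_extend pointOk 20 0 3996 27 (p0u147) p0r148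

theorem p0r149 : allRange pointOk 20 4023 27 = true := by decide +kernel
theorem p0u149 : ∀ k, 0 ≤ k → k < 4050 → pointOk (k * 20) = true := between_extend pointOk 20 0 4023 27 (p0u148) p0r149

theorem p0r150 : allRange pointOk 20 4050 27 = true := by decide +kernel
theorem p0u150 : ∀ k, 0 ≤ k → k < 4077 → pointOk (k * 20) = true := between_extend pointOk 20 0 4050 27 (p0u149) p0r150

theorem p0r151 : allRange pointOk 20 4077 27 = true := by decide +kernel
theorem p0u151 : ∀ k, 0 ≤ k → k < 4104 → pointOk (k * 20) = true := between_extend pointOk 20 0 4077 27 (p0u150) p0r151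

theorem p0r152 : allRange pointOk 20 4104 27 = true := by decide +kernel
theorem p0u152 : ∀ k, 0 ≤ k → k < 4131 → pointOk (k * 20) = true := between_extend pointOk 20 0 4104 27 (p0u151) p0r152

theorem p0r153 : allRange pointOk 20 4131 27 = true := by decide +kernel
theorem p0u153 : ∀ k, 0 ≤ k → k < 4158 → pointOk (k * 20) = true := between_extend pointOk 20 0 4131 27 (p0u152) p0r153

theorem p0r154 : allRange pointOk 20 4158 27 = true := by decide +kernel
theorem p0u154 : ∀ k, 0 ≤ k → k < 4185 → pointOk (k * 20) = true := between_extend pointOk 20 0 4158 27 (p0u153) p0r154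

theorem p0r155 : allRange pointOk 20 4185 27 = true := by decide +kernel
theorem p0u155 : ∀ k, 0 ≤ k → k < 4212 → pointOk (k * 20) = true := between_extend pointOk 20 0 4185 27 (p0u154) p0r155

theorem p0r156 : allRange pointOk 20 4212 27 = true := by decide +kernel
theorem p0u156 : ∀ k, 0 ≤ k → k < 4239 → pointOk (k * 20) = true := between_extend pointOk 20 0 4212 27 (p0u155) p0r156

theorem p0r157 : allRange pointOk 20 4239 27 = true := by decide +kernel
theorem p0u157 : ∀ k, 0 ≤ k → k < 4266 → pointOk (k * 20) = true := between_extend pointOk 20 0 4239 27 (p0u156) p0r157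

theorem p0r158 : allRange pointOk 20 4266 27 = true := by decide +kernel
theorem p0u158 : ∀ k, 0 ≤ k → k < 4293 → pointOk (k * 20) = true := between_extend pointOk 20 0 4266 27 (p0u157) p0r158

theorem p0r159 : allRange pointOk 20 4293 27 = true := by decide +kernel
theorem p0u159 : ∀ k, 0 ≤ k → k < 4320 → pointOk (k * 20) = true := between_extend pointOk 20 0 4293 27 (p0u158) p0r159

theorem p0r160 : allRange pointOk 20 4320 27 = true := by decide +kernel
theorem p0u160 : ∀ k, 0 ≤ k → k < 4347 → pointOk (k * 20) = true := between_extend pointOk 20 0 4320 27 (p0u159) p0r160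

theorem p0r161 : allRange pointOk 20 4347 27 = true := by decide +kernel
theorem p0u161 : ∀ k, 0 ≤ k → k < 4374 → pointOk (k * 20) = true := between_extend pointOk 20 0 4347 27 (p0u160) p0r161

theorem p0r162 : allRange pointOk 20 4374 27 = true := by decide +kernel
theorem p0u162 : ∀ k, 0 ≤ k → k < 4401 → pointOk (k * 20) = true := between_extend pointOk 20 0 4374 27 (p0u161) p0r162

theorem p0r163 : allRange pointOk 20 4401 27 = true := by decide +kernel
theorem p0u163 : ∀ k, 0 ≤ k → k < 4428 → pointOk (k * 20) = true := between_extend pointOk 20 0 4401 27 (p0u162) p0r163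

theorem p0r164 : allRange pointOk 20 4428 27 = true := by decide +kernel
theorem p0u164 : ∀ k, 0 ≤ k → k < 4455 → pointOk (k * 20) = true := between_extend pointOk 20 0 4428 27 (p0u163) p0r164

theorem p0r165 : allRange pointOk 20 4455 27 = true := by decide +kernel
theorem p0u165 : ∀ k, 0 ≤ k → k < 4482 → pointOk (k * 20) = true := between_extend pointOk 20 0 4455 27 (p0u164) p0r165

theorem p0r166 : allRange pointOk 20 4482 27 = true := by decide +kernel
theorem p0u166 : ∀ k, 0 ≤ k → k < 4509 → pointOk (k * 20) = true := between_extend pointOk 20 0 4482 27 (p0u165) p0r166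

theorem p0r167 : allRange pointOk 20 4509 27 = true := by decide +kernel
theorem p0u167 : ∀ k, 0 ≤ k → k < 4536 → pointOk (k * 20) = true := between_extend pointOk 20 0 4509 27 (p0u166) p0r167

theorem p0r168 : allRange pointOk 20 4536 27 = true := by decide +kernel
theorem p0u168 : ∀ k, 0 ≤ k → k < 4563 → pointOk (k * 20) = true := between_extend pointOk 20 0 4536 27 (p0u167) p0r168

theorem p0r169 : allRange pointOk 20 4563 27 = true := by decide +kernel
theorem p0u169 : ∀ k, 0 ≤ k → k < 4590 → pointOk (k * 20) = true := between_extend pointOk 20 0 4563 27 (p0u168) p0r169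

theorem p0r170 : allRange pointOk 20 4590 27 = true := by decide +kernel
theorem p0u170 : ∀ k, 0 ≤ k → k < 4617 → pointOk (k * 20) = true := between_extend pointOk 20 0 4590 27 (p0u169) p0r170

theorem p0r171 : allRange pointOk 20 4617 27 = true := by decide +kernel
theorem p0u171 : ∀ k, 0 ≤ k → k < 4644 → pointOk (k * 20) = true := between_extend pointOk 20 0 4617 27 (p0u170) p0r171

theorem p0r172 : allRange pointOk 20 4644 27 = true := by decide +kernel
theorem p0u172 : ∀ k, 0 ≤ k → k < 4671 → pointOk (k * 20) = true := between_extend pointOk 20 0 4644 27 (p0u171) p0r172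

theorem p0r173 : allRange pointOk 20 4671 27 = true := by decide +kernel
theorem p0u173 : ∀ k, 0 ≤ k → k < 4698 → pointOk (k * 20) = true := between_extend pointOk 20 0 4671 27 (p0u172) p0r173

theorem p0r174 : allRange pointOk 20 4698 27 = true := by decide +kernel
theorem p0u174 : ∀ k, 0 ≤ k → k < 4725 → pointOk (k * 20) = true := between_extend pointOk 20 0 4698 27 (p0u173) p0r174

theorem p0r175 : allRange pointOk 20 4725 27 = true := by decide +kernel
theorem p0u175 : ∀ k, 0 ≤ k → k < 4752 → pointOk (k * 20) = true := between_extend pointOk 20 0 4725 27 (p0u174) p0r175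

theorem p0r176 : allRange pointOk 20 4752 27 = true := by decide +kernel
theorem p0u176 : ∀ k, 0 ≤ k → k < 4779 → pointOk (k * 20) = true := between_extend pointOk 20 0 4752 27 (p0u175) p0r176

theorem p0r177 : allRange pointOk 20 4779 27 = true := by decide +kernel
theorem p0u177 : ∀ k, 0 ≤ k → k < 4806 → pointOk (k * 20) = true := between_extend pointOk 20 0 4779 27 (p0u176) p0r177

theorem p0r178 : allRange pointOk 20 4806 27 = true := by decide +kernel
theorem p0u178 : ∀ k, 0 ≤ k → k < 4833 → pointOk (k * 20) = true := between_extend pointOk 20 0 4806 27 (p0u177) p0r178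

theorem p0r179 : allRange pointOk 20 4833 27 = true := by decide +kernel
theorem p0u179 : ∀ k, 0 ≤ k → k < 4860 → pointOk (k * 20) = true := between_extend pointOk 20 0 4833 27 (p0u178) p0r179

theorem p0r180 : allRange pointOk 20 4860 27 = true := by decide +kernel
theorem p0u180 : ∀ k, 0 ≤ k → k < 4887 → pointOk (k * 20) = true := between_extend pointOk 20 0 4860 27 (p0u179) p0r180

theorem p0r181 : allRange pointOk 20 4887 27 = true := by decide +kernel
theorem p0u181 : ∀ k, 0 ≤ k → k < 4914 → pointOk (k * 20) = true := between_extend pointOk 20 0 4887 27 (p0u180) p0r181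

theorem p0r182 : allRange pointOk 20 4914 27 = true := by decide +kernel
theorem p0u182 : ∀ k, 0 ≤ k → k < 4941 → pointOk (k * 20) = true := between_extend pointOk 20 0 4914 27 (p0u181) p0r182

theorem p0r183 : allRange pointOk 20 4941 27 = true := by decide +kernel
theorem p0u183 : ∀ k, 0 ≤ k → k < 4968 → pointOk (k * 20) = true := between_extend pointOk 20 0 4941 27 (p0u182) p0r183

theorem p0r184 : allRange pointOk 20 4968 27 = true := by decide +kernel
theorem p0u184 : ∀ k, 0 ≤ k → k < 4995 → pointOk (k * 20) = true := between_extend pointOk 20 0 4968 27 (p0u183) p0r184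

theorem p0r185 : allRange pointOk 20 4995 27 = true := by decide +kernel
theorem p0u185 : ∀ k, 0 ≤ k → k < 5022 → pointOk (k * 20) = true := between_extend pointOk 20 0 4995 27 (p0u184) p0r185

theorem p0r186 : allRange pointOk 20 5022 27 = true := by decide +kernel
theorem p0u186 : ∀ k, 0 ≤ k → k < 5049 → pointOk (k * 20) = true := between_extend pointOk 20 0 5022 27 (p0u185) p0r186

theorem p0r187 : allRange pointOk 20 5049 27 = true := by decide +kernel
theorem p0u187 : ∀ k, 0 ≤ k → k < 5076 → pointOk (k * 20) = true := between_extend pointOk 20 0 5049 27 (p0u186) p0r187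

theorem p0r188 : allRange pointOk 20 5076 27 = true := by decide +kernel
theorem p0u188 : ∀ k, 0 ≤ k → k < 5103 → pointOk (k * 20) = true := between_extend pointOk 20 0 5076 27 (p0u187) p0r188

theorem p0r189 : allRange pointOk 20 5103 27 = true := by decide +kernel
theorem p0u189 : ∀ k, 0 ≤ k → k < 5130 → pointOk (k * 20) = true := between_extend pointOk 20 0 5103 27 (p0u188) p0r189

theorem p0r190 : allRange pointOk 20 5130 27 = true := by decide +kernel
theorem p0u190 : ∀ k, 0 ≤ k → k < 5157 → pointOk (k * 20) = true := between_extend pointOk 20 0 5130 27 (p0u189) p0r190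

theorem p0r191 : allRange pointOk 20 5157 27 = true := by decide +kernel
theorem p0u191 : ∀ k, 0 ≤ k → k < 5184 → pointOk (k * 20) = true := between_extend pointOk 20 0 5157 27 (p0u190) p0r191

theorem p0r192 : allRange pointOk 20 5184 27 = true := by decide +kernel
theorem p0u192 : ∀ k, 0 ≤ k → k < 5211 → pointOk (k * 20) = true := between_extend pointOk 20 0 5184 27 (p0u191) p0r192

theorem p0r193 : allRange pointOk 20 5211 27 = true := by decide +kernel
theorem p0u193 : ∀ k, 0 ≤ k → k < 5238 → pointOk (k * 20) = true := between_extend pointOk 20 0 5211 27 (p0u192) p0r193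

theorem p0r194 : allRange pointOk 20 5238 27 = true := by decide +kernel
theorem p0u194 : ∀ k, 0 ≤ k → k < 5265 → pointOk (k * 20) = true := between_extend pointOk 20 0 5238 27 (p0u193) p0r194

theorem p0r195 : allRange pointOk 20 5265 27 = true := by decide +kernel
theorem p0u195 : ∀ k, 0 ≤ k → k < 5292 → pointOk (k * 20) = true := between_extend pointOk 20 0 5265 27 (p0u194) p0r195

theorem p0r196 : allRange pointOk 20 5292 27 = true := by decide +kernel
theorem p0u196 : ∀ k, 0 ≤ k → k < 5319 → pointOk (k * 20) = true := between_extend pointOk 20 0 5292 27 (p0u195) p0r196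

theorem p0r197 : allRange pointOk 20 5319 27 = true := by decide +kernel
theorem p0u197 : ∀ k, 0 ≤ k → k < 5346 → pointOk (k * 20) = true := between_extend pointOk 20 0 5319 27 (p0u196) p0r197

theorem p0r198 : allRange pointOk 20 5346 27 = true := by decide +kernel
theorem p0u198 : ∀ k, 0 ≤ k → k < 5373 → pointOk (k * 20) = true := between_extend pointOk 20 0 5346 27 (p0u197) p0r198

theorem p0r199 : allRange pointOk 20 5373 27 = true := by decide +kernel
theorem p0u199 : ∀ k, 0 ≤ k → k < 5400 → pointOk (k * 20) = true := between_extend pointOk 20 0 5373 27 (p0u198) p0r199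

theorem p0r200 : allRange pointOk 20 5400 27 = true := by decide +kernel
theorem p0u200 : ∀ k, 0 ≤ k → k < 5427 → pointOk (k * 20) = true := between_extend pointOk 20 0 5400 27 (p0u199) p0r200

theorem p0r201 : allRange pointOk 20 5427 27 = true := by decide +kernel
theorem p0u201 : ∀ k, 0 ≤ k → k < 5454 → pointOk (k * 20) = true := between_extend pointOk 20 0 5427 27 (p0u200) p0r201

theorem p0r202 : allRange pointOk 20 5454 27 = true := by decide +kernel
theorem p0u202 : ∀ k, 0 ≤ k → k < 5481 → pointOk (k * 20) = true := between_extend pointOk 20 0 5454 27 (p0u201) p0r202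

theorem p0r203 : allRange pointOk 20 5481 27 = true := by decide +kernel
theorem p0u203 : ∀ k, 0 ≤ k → k < 5508 → pointOk (k * 20) = true := between_extend pointOk 20 0 5481 27 (p0u202) p0r203

theorem p0r204 : allRange pointOk 20 5508 27 = true := by decide +kernel
theorem p0u204 : ∀ k, 0 ≤ k → k < 5535 → pointOk (k * 20) = true := between_extend pointOk 20 0 5508 27 (p0u203) p0r204

theorem p0r205 : allRange pointOk 20 5535 27 = true := by decide +kernel
theorem p0u205 : ∀ k, 0 ≤ k → k < 5562 → pointOk (k * 20) = true := between_extend pointOk 20 0 5535 27 (p0u204) p0r205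

theorem p0r206 : allRange pointOk 20 5562 27 = true := by decide +kernel
theorem p0u206 : ∀ k, 0 ≤ k → k < 5589 → pointOk (k * 20) = true := between_extend pointOk 20 0 5562 27 (p0u205) p0r206

theorem p0r207 : allRange pointOk 20 5589 27 = true := by decide +kernel
theorem p0u207 : ∀ k, 0 ≤ k → k < 5616 → pointOk (k * 20) = true := between_extend pointOk 20 0 5589 27 (p0u206) p0r207

theorem p0r208 : allRange pointOk 20 5616 27 = true := by decide +kernel
theorem p0u208 : ∀ k, 0 ≤ k → k < 5643 → pointOk (k * 20) = true := between_extend pointOk 20 0 5616 27 (p0u207) p0r208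

theorem p0r209 : allRange pointOk 20 5643 27 = true := by decide +kernel
theorem p0u209 : ∀ k, 0 ≤ k → k < 5670 → pointOk (k * 20) = true := between_extend pointOk 20 0 5643 27 (p0u208) p0r209

theorem p0r210 : allRange pointOk 20 5670 27 = true := by decide +kernel
theorem p0u210 : ∀ k, 0 ≤ k → k < 5697 → pointOk (k * 20) = true := between_extend pointOk 20 0 5670 27 (p0u209) p0r210

theorem p0r211 : allRange pointOk 20 5697 27 = true := by decide +kernel
theorem p0u211 : ∀ k, 0 ≤ k → k < 5724 → pointOk (k * 20) = true := between_extend pointOk 20 0 5697 27 (p0u210) p0r211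

theorem p0r212 : allRange pointOk 20 5724 27 = true := by decide +kernel
theorem p0u212 : ∀ k, 0 ≤ k → k < 5751 → pointOk (k * 20) = true := between_extend pointOk 20 0 5724 27 (p0u211) p0r212

theorem p0r213 : allRange pointOk 20 5751 27 = true := by decide +kernel
theorem p0u213 : ∀ k, 0 ≤ k → k < 5778 → pointOk (k * 20) = true := between_extend pointOk 20 0 5751 27 (p0u212) p0r213

theorem p0r214 : allRange pointOk 20 5778 27 = true := by decide +kernel
theorem p0u214 : ∀ k, 0 ≤ k → k < 5805 → pointOk (k * 20) = true := between_extend pointOk 20 0 5778 27 (p0u213) p0r214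

theorem p0r215 : allRange pointOk 20 5805 27 = true := by decide +kernel
theorem p0u215 : ∀ k, 0 ≤ k → k < 5832 → pointOk (k * 20) = true := between_extend pointOk 20 0 5805 27 (p0u214) p0r215

theorem p0r216 : allRange pointOk 20 5832 27 = true := by decide +kernel
theorem p0u216 : ∀ k, 0 ≤ k → k < 5859 → pointOk (k * 20) = true := between_extend pointOk 20 0 5832 27 (p0u215) p0r216

theorem p0r217 : allRange pointOk 20 5859 27 = true := by decide +kernel
theorem p0u217 : ∀ k, 0 ≤ k → k < 5886 → pointOk (k * 20) = true := between_extend pointOk 20 0 5859 27 (p0u216) p0r217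

theorem p0r218 : allRange pointOk 20 5886 27 = true := by decide +kernel
theorem p0u218 : ∀ k, 0 ≤ k → k < 5913 → pointOk (k * 20) = true := between_extend pointOk 20 0 5886 27 (p0u217) p0r218

theorem p0r219 : allRange pointOk 20 5913 27 = true := by decide +kernel
theorem p0u219 : ∀ k, 0 ≤ k → k < 5940 → pointOk (k * 20) = true := between_extend pointOk 20 0 5913 27 (p0u218) p0r219

theorem p0r220 : allRange pointOk 20 5940 27 = true := by decide +kernel
theorem p0u220 : ∀ k, 0 ≤ k → k < 5967 → pointOk (k * 20) = true := between_extend pointOk 20 0 5940 27 (p0u219) p0r220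

theorem p0r221 : allRange pointOk 20 5967 27 = true := by decide +kernel
theorem p0u221 : ∀ k, 0 ≤ k → k < 5994 → pointOk (k * 20) = true := between_extend pointOk 20 0 5967 27 (p0u220) p0r221

theorem p0r222 : allRange pointOk 20 5994 27 = true := by decide +kernel
theorem p0u222 : ∀ k, 0 ≤ k → k < 6021 → pointOk (k * 20) = true := between_extend pointOk 20 0 5994 27 (p0u221) p0r222

theorem p0r223 : allRange pointOk 20 6021 27 = true := by decide +kernel
theorem p0u223 : ∀ k, 0 ≤ k → k < 6048 → pointOk (k * 20) = true := between_extend pointOk 20 0 6021 27 (p0u222) p0r223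

theorem p0r224 : allRange pointOk 20 6048 27 = true := by decide +kernel
theorem p0u224 : ∀ k, 0 ≤ k → k < 6075 → pointOk (k * 20) = true := between_extend pointOk 20 0 6048 27 (p0u223) p0r224

theorem p0r225 : allRange pointOk 20 6075 27 = true := by decide +kernel
theorem p0u225 : ∀ k, 0 ≤ k → k < 6102 → pointOk (k * 20) = true := between_extend pointOk 20 0 6075 27 (p0u224) p0r225

theorem p0r226 : allRange pointOk 20 6102 27 = true := by decide +kernel
theorem p0u226 : ∀ k, 0 ≤ k → k < 6129 → pointOk (k * 20) = true := between_extend pointOk 20 0 6102 27 (p0u225) p0r226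

theorem p0r227 : allRange pointOk 20 6129 27 = true := by decide +kernel
theorem p0u227 : ∀ k, 0 ≤ k → k < 6156 → pointOk (k * 20) = true := between_extend pointOk 20 0 6129 27 (p0u226) p0r227

theorem p0r228 : allRange pointOk 20 6156 27 = true := by decide +kernel
theorem p0u228 : ∀ k, 0 ≤ k → k < 6183 → pointOk (k * 20) = true := between_extend pointOk 20 0 6156 27 (p0u227) p0r228

theorem p0r229 : allRange pointOk 20 6183 27 = true := by decide +kernel
theorem p0u229 : ∀ k, 0 ≤ k → k < 6210 → pointOk (k * 20) = true := between_extend pointOk 20 0 6183 27 (p0u228) p0r229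

theorem p0r230 : allRange pointOk 20 6210 27 = true := by decide +kernel
theorem p0u230 : ∀ k, 0 ≤ k → k < 6237 → pointOk (k * 20) = true := between_extend pointOk 20 0 6210 27 (p0u229) p0r230

theorem p0r231 : allRange pointOk 20 6237 27 = true := by decide +kernel
theorem p0u231 : ∀ k, 0 ≤ k → k < 6264 → pointOk (k * 20) = true := between_extend pointOk 20 0 6237 27 (p0u230) p0r231

theorem p0r232 : allRange pointOk 20 6264 27 = true := by decide +kernel
theorem p0u232 : ∀ k, 0 ≤ k → k < 6291 → pointOk (k * 20) = true := between_extend pointOk 20 0 6264 27 (p0u231) p0r232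

theorem p0r233 : allRange pointOk 20 6291 27 = true := by decide +kernel
theorem p0u233 : ∀ k, 0 ≤ k → k < 6318 → pointOk (k * 20) = true := between_extend pointOk 20 0 6291 27 (p0u232) p0r233

theorem p0r234 : allRange pointOk 20 6318 27 = true := by decide +kernel
theorem p0u234 : ∀ k, 0 ≤ k → k < 6345 → pointOk (k * 20) = true := between_extend pointOk 20 0 6318 27 (p0u233) p0r234

theorem p0r235 : allRange pointOk 20 6345 27 = true := by decide +kernel
theorem p0u235 : ∀ k, 0 ≤ k → k < 6372 → pointOk (k * 20) = true := between_extend pointOk 20 0 6345 27 (p0u234) p0r235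

theorem p0r236 : allRange pointOk 20 6372 27 = true := by decide +kernel
theorem p0u236 : ∀ k, 0 ≤ k → k < 6399 → pointOk (k * 20) = true := between_extend pointOk 20 0 6372 27 (p0u235) p0r236

theorem p0r237 : allRange pointOk 20 6399 27 = true := by decide +kernel
theorem p0u237 : ∀ k, 0 ≤ k → k < 6426 → pointOk (k * 20) = true := between_extend pointOk 20 0 6399 27 (p0u236) p0r237

theorem p0r238 : allRange pointOk 20 6426 27 = true := by decide +kernel
theorem p0u238 : ∀ k, 0 ≤ k → k < 6453 → pointOk (k * 20) = true := between_extend pointOk 20 0 6426 27 (p0u237) p0r238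

theorem p0r239 : allRange pointOk 20 6453 27 = true := by decide +kernel
theorem p0u239 : ∀ k, 0 ≤ k → k < 6480 → pointOk (k * 20) = true := between_extend pointOk 20 0 6453 27 (p0u238) p0r239

theorem p0r240 : allRange pointOk 20 6480 27 = true := by decide +kernel
theorem p0u240 : ∀ k, 0 ≤ k → k < 6507 → pointOk (k * 20) = true := between_extend pointOk 20 0 6480 27 (p0u239) p0r240

theorem p0r241 : allRange pointOk 20 6507 27 = true := by decide +kernel
theorem p0u241 : ∀ k, 0 ≤ k → k < 6534 → pointOk (k * 20) = true := between_extend pointOk 20 0 6507 27 (p0u240) p0r241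

theorem p0r242 : allRange pointOk 20 6534 27 = true := by decide +kernel
theorem p0u242 : ∀ k, 0 ≤ k → k < 6561 → pointOk (k * 20) = true := between_extend pointOk 20 0 6534 27 (p0u241) p0r242

theorem p0r243 : allRange pointOk 20 6561 27 = true := by decide +kernel
theorem p0u243 : ∀ k, 0 ≤ k → k < 6588 → pointOk (k * 20) = true := between_extend pointOk 20 0 6561 27 (p0u242) p0r243

theorem p0r244 : allRange pointOk 20 6588 27 = true := by decide +kernel
theorem p0u244 : ∀ k, 0 ≤ k → k < 6615 → pointOk (k * 20) = true := between_extend pointOk 20 0 6588 27 (p0u243) p0r244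

theorem p0r245 : allRange pointOk 20 6615 27 = true := by decide +kernel
theorem p0u245 : ∀ k, 0 ≤ k → k < 6642 → pointOk (k * 20) = true := between_extend pointOk 20 0 6615 27 (p0u244) p0r245

theorem p0r246 : allRange pointOk 20 6642 27 = true := by decide +kernel
theorem p0u246 : ∀ k, 0 ≤ k → k < 6669 → pointOk (k * 20) = true := between_extend pointOk 20 0 6642 27 (p0u245) p0r246

theorem p0r247 : allRange pointOk 20 6669 27 = true := by decide +kernel
theorem p0u247 : ∀ k, 0 ≤ k → k < 6696 → pointOk (k * 20) = true := between_extend pointOk 20 0 6669 27 (p0u246) p0r247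

theorem p0r248 : allRange pointOk 20 6696 27 = true := by decide +kernel
theorem p0u248 : ∀ k, 0 ≤ k → k < 6723 → pointOk (k * 20) = true := between_extend pointOk 20 0 6696 27 (p0u247) p0r248

theorem p0r249 : allRange pointOk 20 6723 27 = true := by decide +kernel
theorem p0u249 : ∀ k, 0 ≤ k → k < 6750 → pointOk (k * 20) = true := between_extend pointOk 20 0 6723 27 (p0u248) p0r249

theorem p0r250 : allRange pointOk 20 6750 27 = true := by decide +kernel
theorem p0u250 : ∀ k, 0 ≤ k → k < 6777 → pointOk (k * 20) = true := between_extend pointOk 20 0 6750 27 (p0u249) p0r250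

theorem p0r251 : allRange pointOk 20 6777 27 = true := by decide +kernel
theorem p0u251 : ∀ k, 0 ≤ k → k < 6804 → pointOk (k * 20) = true := between_extend pointOk 20 0 6777 27 (p0u250) p0r251

theorem p0r252 : allRange pointOk 20 6804 27 = true := by decide +kernel
theorem p0u252 : ∀ k, 0 ≤ k → k < 6831 → pointOk (k * 20) = true := between_extend pointOk 20 0 6804 27 (p0u251) p0r252

theorem p0r253 : allRange pointOk 20 6831 27 = true := by decide +kernel
theorem p0u253 : ∀ k, 0 ≤ k → k < 6858 → pointOk (k * 20) = true := between_extend pointOk 20 0 6831 27 (p0u252) p0r253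

theorem p0r254 : allRange pointOk 20 6858 27 = true := by decide +kernel
theorem p0u254 : ∀ k, 0 ≤ k → k < 6885 → pointOk (k * 20) = true := between_extend pointOk 20 0 6858 27 (p0u253) p0r254

theorem p0r255 : allRange pointOk 20 6885 27 = true := by decide +kernel
theorem p0u255 : ∀ k, 0 ≤ k → k < 6912 → pointOk (k * 20) = true := between_extend pointOk 20 0 6885 27 (p0u254) p0r255

theorem p0r256 : allRange pointOk 20 6912 27 = true := by decide +kernel
theorem p0u256 : ∀ k, 0 ≤ k → k < 6939 → pointOk (k * 20) = true := between_extend pointOk 20 0 6912 27 (p0u255) p0r256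

theorem p0r257 : allRange pointOk 20 6939 27 = true := by decide +kernel
theorem p0u257 : ∀ k, 0 ≤ k → k < 6966 → pointOk (k * 20) = true := between_extend pointOk 20 0 6939 27 (p0u256) p0r257

theorem p0r258 : allRange pointOk 20 6966 27 = true := by decide +kernel
theorem p0u258 : ∀ k, 0 ≤ k → k < 6993 → pointOk (k * 20) = true := between_extend pointOk 20 0 6966 27 (p0u257) p0r258

theorem p0r259 : allRange pointOk 20 6993 27 = true := by decide +kernel
theorem p0u259 : ∀ k, 0 ≤ k → k < 7020 → pointOk (k * 20) = true := between_extend pointOk 20 0 6993 27 (p0u258) p0r259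

theorem p0r260 : allRange pointOk 20 7020 27 = true := by decide +kernel
theorem p0u260 : ∀ k, 0 ≤ k → k < 7047 → pointOk (k * 20) = true := between_extend pointOk 20 0 7020 27 (p0u259) p0r260

theorem p0r261 : allRange pointOk 20 7047 27 = true := by decide +kernel
theorem p0u261 : ∀ k, 0 ≤ k → k < 7074 → pointOk (k * 20) = true := between_extend pointOk 20 0 7047 27 (p0u260) p0r261

theorem p0r262 : allRange pointOk 20 7074 27 = true := by decide +kernel
theorem p0u262 : ∀ k, 0 ≤ k → k < 7101 → pointOk (k * 20) = true := between_extend pointOk 20 0 7074 27 (p0u261) p0r262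

theorem p0r263 : allRange pointOk 20 7101 7 = true := by decide +kernel
theorem p0u263 : ∀ k, 0 ≤ k → k < 7108 → pointOk (k * 20) = true := between_extend pointOk 20 0 7101 7 (p0u262) p0r263

theorem p0 : ∀ k, 0 ≤ k → k < 7108 → pointOk (k * 20) = true := p0u263

end Cfsg.Agent.Lib.Helper96_Fi24TA
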