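import Cfsg.Agent.Lib.Helper96_Fi24TA
import Cfsg.Agent.Lib.Helper28_OrbitLB2

set_option autoImplicit false
set_option linter.constructorNameAsVariable false
set_option Elab.async false

namespace Cfsg.Agent.Lib.Helper96_Fi24TLB4

open Cfsg.Spor Cfsg.Agent.Lib.Helper28_CosetPerm Cfsg.Agent.Lib.Helper28_OrbitLB Cfsg.Agent.Lib.Helper96_Fi24TA Cfsg.Agent.Lib.Helper96_Fi24TATab

def lab : Nat := 0x200000000000000000000000000000100000000000000000000000000000000000000000000000000000000000000000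

def ls : List (Cfsg.Spor.Fi24.Gen × Bool) := [(.l, true)]

def chk (x : ℕ) : Bool := lchk 1048575 col lab 260 ls x

theorem r0 : allRange chk 20 0 4214 = true := by decide +kernel
theorem u0 : ∀ k, 0 ≤ k → k < 4214 → chk (k * 20) = true := between_extend chk 20 0 0 4214 (between_start chk 20 0) r0

theorem r1 : allRange chk 20 4214 4220 = true := by decide +kernel
theorem u1 : ∀ k, 0 ≤ k → k < 8434 → chk (k * 20) = true := between_extend chk 20 0 4214 4220 (u0) r1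

theorem r2 : allRange chk 20 8434 4220 = true := by decide +kernel
theorem u2 : ∀ k, 0 ≤ k → k < 12654 → chk (k * 20) = true := between_extend chk 20 0 8434 4220 (u1) r2

theorem r3 : allRange chk 20 12654 4220 = true := by decide +kernel
theorem u3 : ∀ k, 0 ≤ k → k < 16874 → chk (k * 20) = true := between_extend chk 20 0 12654 4220 (u2) r3

theorem r4 : allRange chk 20 16874 4220 = true := by decide +kernel
theorem u4 : ∀ k, 0 ≤ k → k < 21094 → chk (k * 20) = true := between_extend chk 20 0 16874 4220 (u3) r4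

theorem r5 : allRange chk 20 21094 4220 = true := by decide +kernel
theorem u5 : ∀ k, 0 ≤ k → k < 25314 → chk (k * 20) = true := between_extend chk 20 0 21094 4220 (u4) r5

theorem r6 : allRange chk 20 25314 3117 = true := by decide +kernel
theorem u6 : ∀ k, 0 ≤ k → k < 28431 → chk (k * 20) = true := between_extend chk 20 0 25314 3117 (u5) r6

theorem chk_all : ∀ k < 28431, lchk 1048575 col lab 260 ls (k * 20) = true := between_all chk 20 28431 u6

theorem cnt : cntB (fun k => Nat.blt 0 (nxt 1048575 lab (Nat.mul k 20))) 28431 = 2 := by decide +kernel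

theorem fix : ∀ a ∈ ([] : List Cfsg.Spor.Fi24.Gen), walk 1048575 col [(a, true)] (13 * 20) = 13 * 20 := by decide +kernel

theorem step [Finite (PresentedGroup (Cfsg.Spor.coxRelators Cfsg.Agent.Lib.Helper96_Fi24TChain.edges1 ∪ {r | r ∈ Cfsg.Agent.Lib.Helper96_Fi24TChain.extra1}))] (Z : Subgroup (PresentedGroup (Cfsg.Spor.coxRelators Cfsg.Agent.Lib.Helper96_Fi24TChain.edges1 ∪ {r | r ∈ Cfsg.Agent.Lib.Helper96_Fi24TChain.extra1}))) (hZ : ∀ z ∈ Z, psi (perm Cfsg.Agent.Lib.Helper96_Fi24TA.verified.hv) Cfsg.Agent.Lib.Helper96_Fi24TA.verified.hrel z = 1) :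
    2 * Nat.card (SG (Cfsg.Spor.coxRelators Cfsg.Agent.Lib.Helper96_Fi24TChain.edges1 ∪ {r | r ∈ Cfsg.Agent.Lib.Helper96_Fi24TChain.extra1}) [] ⊔ Z : Subgroup (PresentedGroup (Cfsg.Spor.coxRelators Cfsg.Agent.Lib.Helper96_Fi24TChain.edges1 ∪ {r | r ∈ Cfsg.Agent.Lib.Helper96_Fi24TChain.extra1}))) ≤ Nat.card (SG (Cfsg.Spor.coxRelators Cfsg.Agent.Lib.Helper96_Fi24TChain.edges1 ∪ {r | r ∈ Cfsg.Agent.Lib.Helper96_Fi24TChain.extra1}) [.l] ⊔ Z : Subgroup (PresentedGroup (Cfsg.Spor.coxRelators Cfsg.Agent.Lib.Helper96_Fi24TChain.edges1 ∪ {r | r ∈ Cfsg.Agent.Lib.Helper96_Fi24TChain.extra1}))) :=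
  Verified.step Cfsg.Agent.Lib.Helper96_Fi24TA.verified Z hZ [.l] [] (by decide) lab (⟨13, by norm_num⟩ : Fin 28431) ls (by decide) fix chk_all 2 cnt

theorem stab [Finite (PresentedGroup (Cfsg.Spor.coxRelators Cfsg.Agent.Lib.Helper96_Fi24TChain.edges1 ∪ {r | r ∈ Cfsg.Agent.Lib.Helper96_Fi24TChain.extra1}))] (htight : Nat.card (SG (Cfsg.Spor.coxRelators Cfsg.Agent.Lib.Helper96_Fi24TChain.edges1 ∪ {r | r ∈ Cfsg.Agent.Lib.Helper96_Fi24TChain.extra1}) [.l]) ≤ 2 * Nat.card (SG (Cfsg.Spor.coxRelators Cfsg.Agent.Lib.Helper96_Fi24TChain.edges1 ∪ {r | r ∈ Cfsg.Agent.Lib.Helper96_Fi24TChain.extra1}) [])) :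
    ∀ g ∈ SG (Cfsg.Spor.coxRelators Cfsg.Agent.Lib.Helper96_Fi24TChain.edges1 ∪ {r | r ∈ Cfsg.Agent.Lib.Helper96_Fi24TChain.extra1}) [.l], psi (perm Cfsg.Agent.Lib.Helper96_Fi24TA.verified.hv) Cfsg.Agent.Lib.Helper96_Fi24TA.verified.hrel g (⟨13, by norm_num⟩ : Fin 28431) = (⟨13, by norm_num⟩ : Fin 28431) → g ∈ SG (Cfsg.Spor.coxRelators Cfsg.Agent.Lib.Helper96_Fi24TChain.edges1 ∪ {r | r ∈ Cfsg.Agent.Lib.Helper96_Fi24TChain.extra1}) [] :=
  Verified.stab_step Cfsg.Agent.Lib.Helper96_Fi24TA.verified [.l] [] (by decide) lab (⟨13, by norm_num⟩ : Fin 28431) ls (by decide) fix chk_all 2 cnt (by norm_num) htight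

end Cfsg.Agent.Lib.Helper96_Fi24TLB4
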