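import Cfsg.Agent.Lib.Helper96_Fi24TOrderU
import Cfsg.Agent.Lib.Helper96_Fi24TLB0
import Cfsg.Agent.Lib.Helper96_Fi24TLB1
import Cfsg.Agent.Lib.Helper96_Fi24TLB2
import Cfsg.Agent.Lib.Helper96_Fi24TLB3
import Cfsg.Agent.Lib.Helper96_Fi24TLB4

/-!
# The order of the presented group `Fi24T`, faithfulness of its coset actions, and the
triviality of the pointwise stabiliser of the base points (helper96; generated by tools/helper96/fi24/lb.py, after tools/helper28/gen_lbchain.py)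
-/

set_option autoImplicit false
set_option linter.constructorNameAsVariable false
set_option linter.unusedVariables false

namespace Cfsg.Agent.Lib.Helper96_Fi24TOrder

open Cfsg.Spor Cfsg.Agent.Lib.Helper28_CosetPerm Cfsg.Agent.Lib.Helper28_OrbitLB

/-- the relators -/
abbrev RELS : Set (FreeGroup Cfsg.Spor.Fi24.Gen) :=
  Cfsg.Spor.coxRelators Cfsg.Agent.Lib.Helper96_Fi24TChain.edges1 ∪ {r | r ∈ Cfsg.Agent.Lib.Helper96_Fi24TChain.extra1}

instance finiteG : Finite (PresentedGroup RELS) := card_le.1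

/-- the action on the 28431 cosets of the table Fi24T -/
noncomputable def rhoFi24T : PresentedGroup RELS →* Equiv.Perm (Fin 28431) :=
  psi (perm Cfsg.Agent.Lib.Helper96_Fi24TA.verified.hv) Cfsg.Agent.Lib.Helper96_Fi24TA.verified.hrel

/-- the common kernel -/
noncomputable def Z : Subgroup (PresentedGroup RELS) := rhoFi24T.ker

theorem hZFi24T : ∀ z ∈ Z, rhoFi24T z = 1 := fun _ hz => MonoidHom.mem_ker.mp hz

theorem top_eq : SG RELS [.l, .k, .a, .b, .c, .d, .e, .f, .g, .j, .h, .i] = ⊤ :=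
  SG_top RELS _ (by intro x; cases x <;> decide)

theorem chain : 9904359628800 * Nat.card Z ≤ Nat.card (PresentedGroup RELS) := by
  have h0 := Cfsg.Agent.Lib.Helper96_Fi24TLB0.step Z hZFi24T
  have h1 := Cfsg.Agent.Lib.Helper96_Fi24TLB1.step Z hZFi24T
  have h2 := Cfsg.Agent.Lib.Helper96_Fi24TLB2.step Z hZFi24T
  have h3 := Cfsg.Agent.Lib.Helper96_Fi24TLB3.step Z hZFi24T
  have h4 := Cfsg.Agent.Lib.Helper96_Fi24TLB4.step Z hZFi24T
  have c3 := le_trans (Nat.mul_le_mul_left 2160 h4) h3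
  have c2 := le_trans (Nat.mul_le_mul_left 84 c3) h2
  have c1 := le_trans (Nat.mul_le_mul_left 960 c2) h1
  have c0 := le_trans (Nat.mul_le_mul_left 28431 c1) h0
  rw [top_eq, top_sup_eq, Subgroup.card_top, SG_nil, bot_sup_eq] at c0
  calc 9904359628800 * Nat.card Z = 28431 * (960 * (84 * (2160 * (2 * (Nat.card Z))))) := by ring
    _ ≤ _ := c0

/-- the order -/
theorem card_eq : Nat.card (PresentedGroup RELS) = 9904359628800 := by
  have h1 := chain
  have h2 := card_le.2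
  have hZ : 1 ≤ Nat.card Z := Nat.card_pos
  apply le_antisymm h2
  calc 9904359628800 = 9904359628800 * 1 := by norm_num
    _ ≤ 9904359628800 * Nat.card Z := Nat.mul_le_mul_left _ hZ
    _ ≤ _ := h1

theorem Z_eq_bot : Z = ⊥ := by
  have h1 := chain
  have h2 := card_le.2
  have h3 : 9904359628800 * Nat.card Z ≤ 9904359628800 * 1 := by
    rw [Nat.mul_one]; exact le_trans h1 h2
  have h4 : Nat.card Z ≤ 1 := Nat.le_of_mul_le_mul_left h3 (by norm_num)
  exact Z.eq_bot_of_card_le h4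

/-- faithfulness: an element acting trivially on the coset spaces is trivial -/
theorem eq_one_of_act (g : PresentedGroup RELS) (hFi24T : rhoFi24T g = 1) : g = 1 := by
  have : g ∈ Z := MonoidHom.mem_ker.mpr hFi24T
  rw [Z_eq_bot] at this
  exact Subgroup.mem_bot.mp this

theorem s0 : 28431 * Nat.card (SG RELS [.l, .k, .a, .b, .c, .d, .e, .f, .h]) ≤ Nat.card (SG RELS [.l, .k, .a, .b, .c, .d, .e, .f, .g, .j, .h, .i]) := by
  have h := Cfsg.Agent.Lib.Helper96_Fi24TLB0.step ⊥ (fun z hz => by rw [Subgroup.mem_bot.mp hz, map_one])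
  rwa [sup_bot_eq, sup_bot_eq] at h

theorem s1 : 960 * Nat.card (SG RELS [.l, .k, .a, .b, .c, .d, .e, .f]) ≤ Nat.card (SG RELS [.l, .k, .a, .b, .c, .d, .e, .f, .h]) := by
  have h := Cfsg.Agent.Lib.Helper96_Fi24TLB1.step ⊥ (fun z hz => by rw [Subgroup.mem_bot.mp hz, map_one])
  rwa [sup_bot_eq, sup_bot_eq] at h

theorem s2 : 84 * Nat.card (SG RELS [.l, .k, .a, .b, .c, .e, .f]) ≤ Nat.card (SG RELS [.l, .k, .a, .b, .c, .d, .e, .f]) := by
  have h := Cfsg.Agent.Lib.Helper96_Fi24TLB2.step ⊥ (fun z hz => by rw [Subgroup.mem_bot.mp hz, map_one])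
  rwa [sup_bot_eq, sup_bot_eq] at h

theorem s3 : 2160 * Nat.card (SG RELS [.l]) ≤ Nat.card (SG RELS [.l, .k, .a, .b, .c, .e, .f]) := by
  have h := Cfsg.Agent.Lib.Helper96_Fi24TLB3.step ⊥ (fun z hz => by rw [Subgroup.mem_bot.mp hz, map_one])
  rwa [sup_bot_eq, sup_bot_eq] at h

theorem s4 : 2 * Nat.card (SG RELS []) ≤ Nat.card (SG RELS [.l]) := by
  have h := Cfsg.Agent.Lib.Helper96_Fi24TLB4.step ⊥ (fun z hz => by rw [Subgroup.mem_bot.mp hz, map_one])
  rwa [sup_bot_eq, sup_bot_eq] at h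

theorem lo5 : 1 ≤ Nat.card (SG RELS ([] : List Cfsg.Spor.Fi24.Gen)) := Nat.card_pos

theorem lo4 : 2 ≤ Nat.card (SG RELS [.l]) :=
  calc 2 = 2 * 1 := by norm_num
    _ ≤ 2 * Nat.card (SG RELS []) := Nat.mul_le_mul_left _ lo5
    _ ≤ _ := s4

theorem lo3 : 4320 ≤ Nat.card (SG RELS [.l, .k, .a, .b, .c, .e, .f]) :=
  calc 4320 = 2160 * 2 := by norm_num
    _ ≤ 2160 * Nat.card (SG RELS [.l]) := Nat.mul_le_mul_left _ lo4
    _ ≤ _ := s3

theorem lo2 : 362880 ≤ Nat.card (SG RELS [.l, .k, .a, .b, .c, .d, .e, .f]) :=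
  calc 362880 = 84 * 4320 := by norm_num
    _ ≤ 84 * Nat.card (SG RELS [.l, .k, .a, .b, .c, .e, .f]) := Nat.mul_le_mul_left _ lo3
    _ ≤ _ := s2

theorem lo1 : 348364800 ≤ Nat.card (SG RELS [.l, .k, .a, .b, .c, .d, .e, .f, .h]) :=
  calc 348364800 = 960 * 362880 := by norm_num
    _ ≤ 960 * Nat.card (SG RELS [.l, .k, .a, .b, .c, .d, .e, .f]) := Nat.mul_le_mul_left _ lo2
    _ ≤ _ := s1

theorem lo0 : 9904359628800 ≤ Nat.card (SG RELS [.l, .k, .a, .b, .c, .d, .e, .f, .g, .j, .h, .i]) :=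
  calc 9904359628800 = 28431 * 348364800 := by norm_num
    _ ≤ 28431 * Nat.card (SG RELS [.l, .k, .a, .b, .c, .d, .e, .f, .h]) := Nat.mul_le_mul_left _ lo1
    _ ≤ _ := s0

theorem hi0 : Nat.card (SG RELS [.l, .k, .a, .b, .c, .d, .e, .f, .g, .j, .h, .i]) ≤ 9904359628800 := by
  rw [top_eq, Subgroup.card_top]; exact card_le.2

theorem hi1 : Nat.card (SG RELS [.l, .k, .a, .b, .c, .d, .e, .f, .h]) ≤ 348364800 := by
  have h1 : 28431 * Nat.card (SG RELS [.l, .k, .a, .b, .c, .d, .e, .f, .h]) ≤ 28431 * 348364800 :=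
    le_trans s0 (le_trans hi0 (by norm_num))
  exact Nat.le_of_mul_le_mul_left h1 (by norm_num)

theorem hi2 : Nat.card (SG RELS [.l, .k, .a, .b, .c, .d, .e, .f]) ≤ 362880 := by
  have h1 : 960 * Nat.card (SG RELS [.l, .k, .a, .b, .c, .d, .e, .f]) ≤ 960 * 362880 :=
    le_trans s1 (le_trans hi1 (by norm_num))
  exact Nat.le_of_mul_le_mul_left h1 (by norm_num)

theorem hi3 : Nat.card (SG RELS [.l, .k, .a, .b, .c, .e, .f]) ≤ 4320 := by
  have h1 : 84 * Nat.card (SG RELS [.l, .k, .a, .b, .c, .e, .f]) ≤ 84 * 4320 :=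
    le_trans s2 (le_trans hi2 (by norm_num))
  exact Nat.le_of_mul_le_mul_left h1 (by norm_num)

theorem hi4 : Nat.card (SG RELS [.l]) ≤ 2 := by
  have h1 : 2160 * Nat.card (SG RELS [.l]) ≤ 2160 * 2 :=
    le_trans s3 (le_trans hi3 (by norm_num))
  exact Nat.le_of_mul_le_mul_left h1 (by norm_num)

theorem hi5 : Nat.card (SG RELS []) ≤ 1 := by
  have h1 : 2 * Nat.card (SG RELS []) ≤ 2 * 1 :=
    le_trans s4 (le_trans hi4 (by norm_num))
  exact Nat.le_of_mul_le_mul_left h1 (by norm_num)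

theorem tight0 : Nat.card (SG RELS [.l, .k, .a, .b, .c, .d, .e, .f, .g, .j, .h, .i]) ≤ 28431 * Nat.card (SG RELS [.l, .k, .a, .b, .c, .d, .e, .f, .h]) :=
  le_trans hi0 (le_trans (by norm_num : 9904359628800 ≤ 28431 * 348364800) (Nat.mul_le_mul_left _ lo1))

theorem tight1 : Nat.card (SG RELS [.l, .k, .a, .b, .c, .d, .e, .f, .h]) ≤ 960 * Nat.card (SG RELS [.l, .k, .a, .b, .c, .d, .e, .f]) :=
  le_trans hi1 (le_trans (by norm_num : 348364800 ≤ 960 * 362880) (Nat.mul_le_mul_left _ lo2))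

theorem tight2 : Nat.card (SG RELS [.l, .k, .a, .b, .c, .d, .e, .f]) ≤ 84 * Nat.card (SG RELS [.l, .k, .a, .b, .c, .e, .f]) :=
  le_trans hi2 (le_trans (by norm_num : 362880 ≤ 84 * 4320) (Nat.mul_le_mul_left _ lo3))

theorem tight3 : Nat.card (SG RELS [.l, .k, .a, .b, .c, .e, .f]) ≤ 2160 * Nat.card (SG RELS [.l]) :=
  le_trans hi3 (le_trans (by norm_num : 4320 ≤ 2160 * 2) (Nat.mul_le_mul_left _ lo4))

theorem tight4 : Nat.card (SG RELS [.l]) ≤ 2 * Nat.card (SG RELS []) :=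
  le_trans hi4 (le_trans (by norm_num : 2 ≤ 2 * 1) (Nat.mul_le_mul_left _ lo5))

/-- an element fixing all the base points is trivial -/
theorem eq_one_of_fix (g : PresentedGroup RELS) (h0 : rhoFi24T g (⟨0, by norm_num⟩ : Fin 28431) = (⟨0, by norm_num⟩ : Fin 28431)) (h1 : rhoFi24T g (⟨1, by norm_num⟩ : Fin 28431) = (⟨1, by norm_num⟩ : Fin 28431)) (h2 : rhoFi24T g (⟨2, by norm_num⟩ : Fin 28431) = (⟨2, by norm_num⟩ : Fin 28431)) (h3 : rhoFi24T g (⟨5244, by norm_num⟩ : Fin 28431) = (⟨5244, by norm_num⟩ : Fin 28431)) (h4 : rhoFi24T g (⟨13, by norm_num⟩ : Fin 28431) = (⟨13, by norm_num⟩ : Fin 28431)) : g = 1 := by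
  have m0 : g ∈ SG RELS [.l, .k, .a, .b, .c, .d, .e, .f, .g, .j, .h, .i] := by rw [top_eq]; exact Subgroup.mem_top g
  have m1 := Cfsg.Agent.Lib.Helper96_Fi24TLB0.stab tight0 g m0 h0
  have m2 := Cfsg.Agent.Lib.Helper96_Fi24TLB1.stab tight1 g m1 h1
  have m3 := Cfsg.Agent.Lib.Helper96_Fi24TLB2.stab tight2 g m2 h2
  have m4 := Cfsg.Agent.Lib.Helper96_Fi24TLB3.stab tight3 g m3 h3
  have m5 := Cfsg.Agent.Lib.Helper96_Fi24TLB4.stab tight4 g m4 h4
  rw [SG_nil] at m5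
  exact Subgroup.mem_bot.mp m5

/-- the base offsets in the table Fi24T -/
def offsFi24T : List ℕ := [0, 20, 40, 104880, 260]

/-- a word walking back to every base offset is trivial in the presented group -/
theorem mk_eq_one_of_walk (u : List (Cfsg.Spor.Fi24.Gen × Bool)) (hFi24T : ∀ x ∈ offsFi24T, walk 1048575 Cfsg.Agent.Lib.Helper96_Fi24TA.col u x = x) :
    PresentedGroup.mk RELS (FreeGroup.mk u) = 1 := by
  apply eq_one_of_fix
  · exact psi_fix_of_walk Cfsg.Agent.Lib.Helper96_Fi24TA.verified u (⟨0, by norm_num⟩ : Fin 28431) (hFi24T 0 (by decide))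
  · exact psi_fix_of_walk Cfsg.Agent.Lib.Helper96_Fi24TA.verified u (⟨1, by norm_num⟩ : Fin 28431) (hFi24T 20 (by decide))
  · exact psi_fix_of_walk Cfsg.Agent.Lib.Helper96_Fi24TA.verified u (⟨2, by norm_num⟩ : Fin 28431) (hFi24T 40 (by decide))
  · exact psi_fix_of_walk Cfsg.Agent.Lib.Helper96_Fi24TA.verified u (⟨5244, by norm_num⟩ : Fin 28431) (hFi24T 104880 (by decide))
  · exact psi_fix_of_walk Cfsg.Agent.Lib.Helper96_Fi24TA.verified u (⟨13, by norm_num⟩ : Fin 28431) (hFi24T 260 (by decide))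

end Cfsg.Agent.Lib.Helper96_Fi24TOrder
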