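import Cfsg.Agent.Lib.Helper96_Fi24Tc1U
import Cfsg.Agent.Lib.Helper96_Fi24Tc2U
import Cfsg.Agent.Lib.Helper96_Fi24Tc3U
import Cfsg.Agent.Lib.Helper96_Fi24Tc4U
import Cfsg.Agent.Lib.Helper96_Fi24Tc5U
import Cfsg.Agent.Lib.Helper96_Fi24Tc6U

/-!
# The group `T` presented on `l, k, a, b, c, d, e, f, h, i` by the relators of `Fi24` has at most 9904359628800 elements (helper96)
-/

set_option autoImplicit false

namespace Cfsg.Agent.Lib.Helper96_Fi24TOrder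

open Cfsg.Spor Cfsg.Agent.Lib.Helper28_OrderChain Cfsg.Agent.Lib.Helper96_Fi24TChain

theorem card6 : Finite (PresentedGroup (coxRelators edges6 ∪ {r | r ∈ extra6})) ∧ Nat.card (PresentedGroup (coxRelators edges6 ∪ {r | r ∈ extra6})) ≤ 120 :=
  card_le_empty _ 120 Cfsg.Agent.Lib.Helper96_Fi24Tc6.U.upper

theorem hS5 : ∀ s ∈ ({Cfsg.Spor.Fi24.d, Cfsg.Spor.Fi24.e, Cfsg.Spor.Fi24.f, Cfsg.Spor.Fi24.h} : Set (FreeGroup Cfsg.Spor.Fi24.Gen)), ∃ x, x ∉ dropped6 ∧ s = FreeGroup.of x := by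
  intro s hs
  simp only [Set.mem_insert_iff, Set.mem_singleton_iff] at hs
  rcases hs with rfl | rfl | rfl | rfl
  · exact ⟨.d, by decide, rfl⟩
  · exact ⟨.e, by decide, rfl⟩
  · exact ⟨.f, by decide, rfl⟩
  · exact ⟨.h, by decide, rfl⟩

theorem card5 : Finite (PresentedGroup (coxRelators edges5 ∪ {r | r ∈ extra5})) ∧ Nat.card (PresentedGroup (coxRelators edges5 ∪ {r | r ∈ extra5})) ≤ 16 * 120 :=
  card_le_sub edges5 edges6 extra5 kept6 dropped6 h1_6 h2_6 h3_6 ({Cfsg.Spor.Fi24.d, Cfsg.Spor.Fi24.e, Cfsg.Spor.Fi24.f, Cfsg.Spor.Fi24.h} : Set (FreeGroup Cfsg.Spor.Fi24.Gen)) hS5 16 120 Cfsg.Agent.Lib.Helper96_Fi24Tc5.U.upper (by have := card6; norm_num at this ⊢; exact this)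

theorem hS4 : ∀ s ∈ ({Cfsg.Spor.Fi24.c, Cfsg.Spor.Fi24.d, Cfsg.Spor.Fi24.e, Cfsg.Spor.Fi24.f, Cfsg.Spor.Fi24.h} : Set (FreeGroup Cfsg.Spor.Fi24.Gen)), ∃ x, x ∉ dropped5 ∧ s = FreeGroup.of x := by
  intro s hs
  simp only [Set.mem_insert_iff, Set.mem_singleton_iff] at hs
  rcases hs with rfl | rfl | rfl | rfl | rfl
  · exact ⟨.c, by decide, rfl⟩
  · exact ⟨.d, by decide, rfl⟩
  · exact ⟨.e, by decide, rfl⟩
  · exact ⟨.f, by decide, rfl⟩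
  · exact ⟨.h, by decide, rfl⟩

theorem card4 : Finite (PresentedGroup (coxRelators edges4 ∪ {r | r ∈ extra4})) ∧ Nat.card (PresentedGroup (coxRelators edges4 ∪ {r | r ∈ extra4})) ≤ 27 * 1920 :=
  card_le_sub edges4 edges5 extra4 kept5 dropped5 h1_5 h2_5 h3_5 ({Cfsg.Spor.Fi24.c, Cfsg.Spor.Fi24.d, Cfsg.Spor.Fi24.e, Cfsg.Spor.Fi24.f, Cfsg.Spor.Fi24.h} : Set (FreeGroup Cfsg.Spor.Fi24.Gen)) hS4 27 1920 Cfsg.Agent.Lib.Helper96_Fi24Tc4.U.upper (by have := card5; norm_num at this ⊢; exact this)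

theorem hS3 : ∀ s ∈ ({Cfsg.Spor.Fi24.b, Cfsg.Spor.Fi24.c, Cfsg.Spor.Fi24.d, Cfsg.Spor.Fi24.e, Cfsg.Spor.Fi24.f, Cfsg.Spor.Fi24.h} : Set (FreeGroup Cfsg.Spor.Fi24.Gen)), ∃ x, x ∉ dropped4 ∧ s = FreeGroup.of x := by
  intro s hs
  simp only [Set.mem_insert_iff, Set.mem_singleton_iff] at hs
  rcases hs with rfl | rfl | rfl | rfl | rfl | rfl
  · exact ⟨.b, by decide, rfl⟩
  · exact ⟨.c, by decide, rfl⟩
  · exact ⟨.d, by decide, rfl⟩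
  · exact ⟨.e, by decide, rfl⟩
  · exact ⟨.f, by decide, rfl⟩
  · exact ⟨.h, by decide, rfl⟩

theorem card3 : Finite (PresentedGroup (coxRelators edges3 ∪ {r | r ∈ extra3})) ∧ Nat.card (PresentedGroup (coxRelators edges3 ∪ {r | r ∈ extra3})) ≤ 56 * 51840 :=
  card_le_sub edges3 edges4 extra3 kept4 dropped4 h1_4 h2_4 h3_4 ({Cfsg.Spor.Fi24.b, Cfsg.Spor.Fi24.c, Cfsg.Spor.Fi24.d, Cfsg.Spor.Fi24.e, Cfsg.Spor.Fi24.f, Cfsg.Spor.Fi24.h} : Set (FreeGroup Cfsg.Spor.Fi24.Gen)) hS3 56 51840 Cfsg.Agent.Lib.Helper96_Fi24Tc3.U.upper (by have := card4; norm_num at this ⊢; exact this)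

theorem hS2 : ∀ s ∈ ({Cfsg.Spor.Fi24.l, Cfsg.Spor.Fi24.a, Cfsg.Spor.Fi24.b, Cfsg.Spor.Fi24.c, Cfsg.Spor.Fi24.d, Cfsg.Spor.Fi24.e, Cfsg.Spor.Fi24.f, Cfsg.Spor.Fi24.h} : Set (FreeGroup Cfsg.Spor.Fi24.Gen)), ∃ x, x ∉ dropped3 ∧ s = FreeGroup.of x := by
  intro s hs
  simp only [Set.mem_insert_iff, Set.mem_singleton_iff] at hs
  rcases hs with rfl | rfl | rfl | rfl | rfl | rfl | rfl | rfl
  · exact ⟨.l, by decide, rfl⟩
  · exact ⟨.a, by decide, rfl⟩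
  · exact ⟨.b, by decide, rfl⟩
  · exact ⟨.c, by decide, rfl⟩
  · exact ⟨.d, by decide, rfl⟩
  · exact ⟨.e, by decide, rfl⟩
  · exact ⟨.f, by decide, rfl⟩
  · exact ⟨.h, by decide, rfl⟩

theorem card2 : Finite (PresentedGroup (coxRelators edges2 ∪ {r | r ∈ extra2})) ∧ Nat.card (PresentedGroup (coxRelators edges2 ∪ {r | r ∈ extra2})) ≤ 120 * 2903040 :=
  card_le_sub edges2 edges3 extra2 kept3 dropped3 h1_3 h2_3 h3_3 ({Cfsg.Spor.Fi24.l, Cfsg.Spor.Fi24.a, Cfsg.Spor.Fi24.b, Cfsg.Spor.Fi24.c, Cfsg.Spor.Fi24.d, Cfsg.Spor.Fi24.e, Cfsg.Spor.Fi24.f, Cfsg.Spor.Fi24.h} : Set (FreeGroup Cfsg.Spor.Fi24.Gen)) hS2 120 2903040 Cfsg.Agent.Lib.Helper96_Fi24Tc2.U.upper (by have := card3; norm_num at this ⊢; exact this)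

theorem hS1 : ∀ s ∈ ({Cfsg.Spor.Fi24.l, Cfsg.Spor.Fi24.k, Cfsg.Spor.Fi24.a, Cfsg.Spor.Fi24.b, Cfsg.Spor.Fi24.c, Cfsg.Spor.Fi24.d, Cfsg.Spor.Fi24.e, Cfsg.Spor.Fi24.f, Cfsg.Spor.Fi24.h} : Set (FreeGroup Cfsg.Spor.Fi24.Gen)), ∃ x, x ∉ dropped2 ∧ s = FreeGroup.of x := by
  intro s hs
  simp only [Set.mem_insert_iff, Set.mem_singleton_iff] at hs
  rcases hs with rfl | rfl | rfl | rfl | rfl | rfl | rfl | rfl | rfl
  · exact ⟨.l, by decide, rfl⟩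
  · exact ⟨.k, by decide, rfl⟩
  · exact ⟨.a, by decide, rfl⟩
  · exact ⟨.b, by decide, rfl⟩
  · exact ⟨.c, by decide, rfl⟩
  · exact ⟨.d, by decide, rfl⟩
  · exact ⟨.e, by decide, rfl⟩
  · exact ⟨.f, by decide, rfl⟩
  · exact ⟨.h, by decide, rfl⟩

theorem card1 : Finite (PresentedGroup (coxRelators edges1 ∪ {r | r ∈ extra1})) ∧ Nat.card (PresentedGroup (coxRelators edges1 ∪ {r | r ∈ extra1})) ≤ 28431 * 348364800 :=
  card_le_sub edges1 edges2 extra1 kept2 dropped2 h1_2 h2_2 h3_2 ({Cfsg.Spor.Fi24.l, Cfsg.Spor.Fi24.k, Cfsg.Spor.Fi24.a, Cfsg.Spor.Fi24.b, Cfsg.Spor.Fi24.c, Cfsg.Spor.Fi24.d, Cfsg.Spor.Fi24.e, Cfsg.Spor.Fi24.f, Cfsg.Spor.Fi24.h} : Set (FreeGroup Cfsg.Spor.Fi24.Gen)) hS1 28431 348364800 Cfsg.Agent.Lib.Helper96_Fi24Tc1.U.upper (by have := card2; norm_num at this ⊢; exact this)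

/-- the upper bound for the order -/
theorem card_le : Finite (PresentedGroup (coxRelators edges1 ∪ {r | r ∈ extra1})) ∧ Nat.card (PresentedGroup (coxRelators edges1 ∪ {r | r ∈ extra1})) ≤ 9904359628800 := by
  have := card1
  norm_num at this ⊢
  exact this

end Cfsg.Agent.Lib.Helper96_Fi24TOrder
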