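import Cfsg.Agent.Lib.Helper96_Fi24Tc1UDef

set_option autoImplicit false
set_option linter.constructorNameAsVariable false
set_option linter.unusedVariables false
set_option Elab.async false

namespace Cfsg.Agent.Lib.Helper96_Fi24Tc1.U

open Cfsg.Agent.Lib.Helper28_CosetPerm

theorem f1r0 : allRange blockOk 1 224 86 = true := by decide +kernel
theorem f1u0 : ∀ k, 224 ≤ k → k < 310 → blockOk (k * 1) = true := between_extend blockOk 1 224 224 86 (between_start blockOk 1 224) f1r0

theorem f1r1 : allRange blockOk 1 310 86 = true := by decide +kernel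
theorem f1u1 : ∀ k, 224 ≤ k → k < 396 → blockOk (k * 1) = true := between_extend blockOk 1 224 310 86 (f1u0) f1r1

theorem f1r2 : allRange blockOk 1 396 62 = true := by decide +kernel
theorem f1u2 : ∀ k, 224 ≤ k → k < 458 → blockOk (k * 1) = true := between_extend blockOk 1 224 396 62 (f1u1) f1r2

theorem f1 : ∀ k, 224 ≤ k → k < 458 → blockOk (k * 1) = true := f1u2

end Cfsg.Agent.Lib.Helper96_Fi24Tc1.U
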