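import Cfsg.Agent.Lib.Helper96_Fi24Tc1UDef

set_option autoImplicit false
set_option linter.constructorNameAsVariable false
set_option linter.unusedVariables false
set_option Elab.async false

namespace Cfsg.Agent.Lib.Helper96_Fi24Tc1.U

open Cfsg.Agent.Lib.Helper28_CosetPerm

theorem f4r0 : allRange blockOk 1 915 87 = true := by decide +kernel
theorem f4u0 : ∀ k, 915 ≤ k → k < 1002 → blockOk (k * 1) = true := between_extend blockOk 1 915 915 87 (between_start blockOk 1 915) f4r0

theorem f4r1 : allRange blockOk 1 1002 87 = true := by decide +kernel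
theorem f4u1 : ∀ k, 915 ≤ k → k < 1089 → blockOk (k * 1) = true := between_extend blockOk 1 915 1002 87 (f4u0) f4r1

theorem f4r2 : allRange blockOk 1 1089 64 = true := by decide +kernel
theorem f4u2 : ∀ k, 915 ≤ k → k < 1153 → blockOk (k * 1) = true := between_extend blockOk 1 915 1089 64 (f4u1) f4r2

theorem f4 : ∀ k, 915 ≤ k → k < 1153 → blockOk (k * 1) = true := f4u2

end Cfsg.Agent.Lib.Helper96_Fi24Tc1.U
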