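import Cfsg.Agent.Lib.Helper96_Fi24Tc1UDef

set_option autoImplicit false
set_option linter.constructorNameAsVariable false
set_option linter.unusedVariables false
set_option Elab.async false

namespace Cfsg.Agent.Lib.Helper96_Fi24Tc1.U

open Cfsg.Agent.Lib.Helper28_CosetPerm

theorem f5r0 : allRange blockOk 1 1153 88 = true := by decide +kernel
theorem f5u0 : ∀ k, 1153 ≤ k → k < 1241 → blockOk (k * 1) = true := between_extend blockOk 1 1153 1153 88 (between_start blockOk 1 1153) f5r0

theorem f5r1 : allRange blockOk 1 1241 87 = true := by decide +kernel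
theorem f5u1 : ∀ k, 1153 ≤ k → k < 1328 → blockOk (k * 1) = true := between_extend blockOk 1 1153 1241 87 (f5u0) f5r1

theorem f5r2 : allRange blockOk 1 1328 64 = true := by decide +kernel
theorem f5u2 : ∀ k, 1153 ≤ k → k < 1392 → blockOk (k * 1) = true := between_extend blockOk 1 1153 1328 64 (f5u1) f5r2

theorem f5 : ∀ k, 1153 ≤ k → k < 1392 → blockOk (k * 1) = true := f5u2

end Cfsg.Agent.Lib.Helper96_Fi24Tc1.U
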