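import Cfsg.Agent.Lib.Helper96_Fi24Tc1UDef

set_option autoImplicit false
set_option linter.constructorNameAsVariable false
set_option linter.unusedVariables false
set_option Elab.async false

namespace Cfsg.Agent.Lib.Helper96_Fi24Tc1.U

open Cfsg.Agent.Lib.Helper28_CosetPerm

theorem r0r0 : allRange rowOk 1 0 7124 = true := by decide +kernel
theorem r0u0 : ∀ k, 0 ≤ k → k < 7124 → rowOk (k * 1) = true := between_extend rowOk 1 0 0 7124 (between_start rowOk 1 0) r0r0

theorem r0r1 : allRange rowOk 1 7124 7896 = true := by decide +kernel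
theorem r0u1 : ∀ k, 0 ≤ k → k < 15020 → rowOk (k * 1) = true := between_extend rowOk 1 0 7124 7896 (r0u0) r0r1

theorem r0r2 : allRange rowOk 1 15020 8573 = true := by decide +kernel
theorem r0u2 : ∀ k, 0 ≤ k → k < 23593 → rowOk (k * 1) = true := between_extend rowOk 1 0 15020 8573 (r0u1) r0r2

theorem r0r3 : allRange rowOk 1 23593 7119 = true := by decide +kernel
theorem r0u3 : ∀ k, 0 ≤ k → k < 30712 → rowOk (k * 1) = true := between_extend rowOk 1 0 23593 7119 (r0u2) r0r3

theorem r0 : ∀ k, 0 ≤ k → k < 30712 → rowOk (k * 1) = true := r0u3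

end Cfsg.Agent.Lib.Helper96_Fi24Tc1.U
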