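import Cfsg.Agent.Lib.Helper96_Fi24Tc1UDef

set_option autoImplicit false
set_option linter.constructorNameAsVariable false
set_option linter.unusedVariables false
set_option Elab.async false

namespace Cfsg.Agent.Lib.Helper96_Fi24Tc1.U

open Cfsg.Agent.Lib.Helper28_CosetPerm

theorem r1r0 : allRange rowOk 1 30712 9192 = true := by decide +kernel
theorem r1u0 : ∀ k, 30712 ≤ k → k < 39904 → rowOk (k * 1) = true := between_extend rowOk 1 30712 30712 9192 (between_start rowOk 1 30712) r1r0

theorem r1r1 : allRange rowOk 1 39904 8408 = true := by decide +kernel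
theorem r1u1 : ∀ k, 30712 ≤ k → k < 48312 → rowOk (k * 1) = true := between_extend rowOk 1 30712 39904 8408 (r1u0) r1r1

theorem r1r2 : allRange rowOk 1 48312 7677 = true := by decide +kernel
theorem r1u2 : ∀ k, 30712 ≤ k → k < 55989 → rowOk (k * 1) = true := between_extend rowOk 1 30712 48312 7677 (r1u1) r1r2

theorem r1r3 : allRange rowOk 1 55989 6286 = true := by decide +kernel
theorem r1u3 : ∀ k, 30712 ≤ k → k < 62275 → rowOk (k * 1) = true := between_extend rowOk 1 30712 55989 6286 (r1u2) r1r3

theorem r1 : ∀ k, 30712 ≤ k → k < 62275 → rowOk (k * 1) = true := r1u3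

end Cfsg.Agent.Lib.Helper96_Fi24Tc1.U
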