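import Cfsg.Agent.Lib.Helper96_Fi24Tc1UDef

set_option autoImplicit false
set_option linter.constructorNameAsVariable false
set_option linter.unusedVariables false
set_option Elab.async false

namespace Cfsg.Agent.Lib.Helper96_Fi24Tc1.U

open Cfsg.Agent.Lib.Helper28_CosetPerm

theorem r2r0 : allRange rowOk 1 62275 8025 = true := by decide +kernel
theorem r2u0 : ∀ k, 62275 ≤ k → k < 70300 → rowOk (k * 1) = true := between_extend rowOk 1 62275 62275 8025 (between_start rowOk 1 62275) r2r0

theorem r2r1 : allRange rowOk 1 70300 8259 = true := by decide +kernel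
theorem r2u1 : ∀ k, 62275 ≤ k → k < 78559 → rowOk (k * 1) = true := between_extend rowOk 1 62275 70300 8259 (r2u0) r2r1

theorem r2r2 : allRange rowOk 1 78559 7928 = true := by decide +kernel
theorem r2u2 : ∀ k, 62275 ≤ k → k < 86487 → rowOk (k * 1) = true := between_extend rowOk 1 62275 78559 7928 (r2u1) r2r2

theorem r2r3 : allRange rowOk 1 86487 7660 = true := by decide +kernel
theorem r2u3 : ∀ k, 62275 ≤ k → k < 94147 → rowOk (k * 1) = true := between_extend rowOk 1 62275 86487 7660 (r2u2) r2r3

theorem r2 : ∀ k, 62275 ≤ k → k < 94147 → rowOk (k * 1) = true := r2u3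

end Cfsg.Agent.Lib.Helper96_Fi24Tc1.U
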