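import Cfsg.Agent.Lib.Helper28_CosetUpCox
import Cfsg.Agent.Lib.Helper28_CosetPerm
import Cfsg.Agent.Lib.Helper96_Fi24Tc1UTab0
import Cfsg.Agent.Lib.Helper96_Fi24Tc1UTab1
import Cfsg.Agent.Lib.Helper96_Fi24Tc1UTab2
import Cfsg.Agent.Lib.Helper96_Fi24Tc1UTab3
import Cfsg.Agent.Lib.Helper96_Fi24TChain

set_option autoImplicit false
set_option linter.constructorNameAsVariable false
set_option linter.unusedVariables false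
set_option Elab.async false

namespace Cfsg.Agent.Lib.Helper96_Fi24Tc1.U

open Cfsg.Spor Cfsg.Agent.Lib.Helper28_CosetUp Cfsg.Agent.Lib.Helper28_CosetUpCox Cfsg.Agent.Lib.Helper96_Fi24Tc1UTab

def factBlk_n0_0 (i : ℕ) : ℕ := (@Bool.rec (fun _ => ℕ) (@Bool.rec (fun _ => ℕ) (@Bool.rec (fun _ => ℕ) (@Bool.rec (fun _ => ℕ) (@Bool.rec (fun _ => ℕ) fb0 fb1 (Nat.ble (nat_lit 1) i)) (@Bool.rec (fun _ => ℕ) fb2 fb3 (Nat.ble (nat_lit 3) i)) (Nat.ble (nat_lit 2) i)) (@Bool.rec (fun _ => ℕ) (@Bool.rec (fun _ => ℕ) fb4 fb5 (Nat.ble (nat_lit 5) i)) (@Bool.rec (fun _ => ℕ) fb6 fb7 (Nat.ble (nat_lit 7) i)) (Nat.ble (nat_lit 6) i)) (Nat.ble (nat_lit 4) i)) (@Bool.rec (fun _ => ℕ) (@Bool.rec (fun _ => ℕ) (@Bool.rec (fun _ => ℕ) fb8 fb9 (Nat.ble (nat_lit 9) i)) (@Bool.rec (fun _ => ℕ) fb10 fb11 (Nat.ble (nat_lit 11)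 i)) (Nat.ble (nat_lit 10) i)) (@Bool.rec (fun _ => ℕ) (@Bool.rec (fun _ => ℕ) fb12 fb13 (Nat.ble (nat_lit 13) i)) (@Bool.rec (fun _ => ℕ) fb14 fb15 (Nat.ble (nat_lit 15) i)) (Nat.ble (nat_lit 14) i)) (Nat.ble (nat_lit 12) i)) (Nat.ble (nat_lit 8) i)) (@Bool.rec (fun _ => ℕ) (@Bool.rec (fun _ => ℕ) (@Bool.rec (fun _ => ℕ) (@Bool.rec (fun _ => ℕ) fb16 fb17 (Nat.ble (nat_lit 17) i)) (@Bool.rec (fun _ => ℕ) fb18 fb19 (Nat.ble (nat_lit 19) i)) (Nat.ble (nat_lit 18) i)) (@Bool.rec (fun _ => ℕ) (@Bool.rec (fun _ => ℕ) fb20 fb21 (Nat.ble (nat_lit 21) i)) (@Bool.rec (fun _ => ℕ) fb22 fb23 (Nat.ble (nat_lit 23) i)) (Nat.ble (nat_lit 22) i)) (Nat.ble (nat_lit 20) i)) (@Bool.rec (fun _ => ℕ) (@Bool.rec (fun _ => ℕ) (@Bool.rec (fun _ => ℕ) fb24 fb25 (Nat.ble (nat_lit 25) i)) (@Bool.rec (fun _ => ℕ) fb26 fb27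 (Nat.ble (nat_lit 27) i)) (Nat.ble (nat_lit 26) i)) (@Bool.rec (fun _ => ℕ) (@Bool.rec (fun _ => ℕ) fb28 fb29 (Nat.ble (nat_lit 29) i)) (@Bool.rec (fun _ => ℕ) fb30 fb31 (Nat.ble (nat_lit 31) i)) (Nat.ble (nat_lit 30) i)) (Nat.ble (nat_lit 28) i)) (Nat.ble (nat_lit 24) i)) (Nat.ble (nat_lit 16) i))

def factBlk_n0_1 (i : ℕ) : ℕ := (@Bool.rec (fun _ => ℕ) (@Bool.rec (fun _ => ℕ) (@Bool.rec (fun _ => ℕ) (@Bool.rec (fun _ => ℕ) (@Bool.rec (fun _ => ℕ) fb32 fb33 (Nat.ble (nat_lit 33) i)) (@Bool.rec (fun _ => ℕ) fb34 fb35 (Nat.ble (nat_lit 35) i)) (Nat.ble (nat_lit 34) i)) (@Bool.rec (fun _ => ℕ) (@Bool.rec (fun _ => ℕ) fb36 fb37 (Nat.ble (nat_lit 37) i)) (@Bool.rec (fun _ => ℕ) fb38 fb39 (Nat.ble (nat_lit 39) i)) (Nat.ble (nat_lit 38) i)) (Nat.ble (nat_lit 36) i)) (@Bool.rec (fun _ => ℕ) (@Bool.rec (fun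 _ => ℕ) (@Bool.rec (fun _ => ℕ) fb40 fb41 (Nat.ble (nat_lit 41) i)) (@Bool.rec (fun _ => ℕ) fb42 fb43 (Nat.ble (nat_lit 43) i)) (Nat.ble (nat_lit 42) i)) (@Bool.rec (fun _ => ℕ) (@Bool.rec (fun _ => ℕ) fb44 fb45 (Nat.ble (nat_lit 45) i)) (@Bool.rec (fun _ => ℕ) fb46 fb47 (Nat.ble (nat_lit 47) i)) (Nat.ble (nat_lit 46) i)) (Nat.ble (nat_lit 44) i)) (Nat.ble (nat_lit 40) i)) (@Bool.rec (fun _ => ℕ) (@Bool.rec (fun _ => ℕ) (@Bool.rec (fun _ => ℕ) (@Bool.rec (fun _ => ℕ) fb48 fb49 (Nat.ble (nat_lit 49) i)) (@Bool.rec (fun _ => ℕ) fb50 fb51 (Nat.ble (nat_lit 51) i)) (Nat.ble (nat_lit 50) i)) (@Bool.rec (fun _ => ℕ) (@Bool.rec (fun _ => ℕ) fb52 fb53 (Nat.ble (nat_lit 53) i)) (@Bool.rec (fun _ => ℕ) fb54 fb55 (Nat.ble (nat_lit 55) i)) (Nat.ble (nat_lit 54) i)) (Nat.ble (nat_lit 52) i)) (@Bool.rec (fun _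 => ℕ) (@Bool.rec (fun _ => ℕ) (@Bool.rec (fun _ => ℕ) fb56 fb57 (Nat.ble (nat_lit 57) i)) (@Bool.rec (fun _ => ℕ) fb58 fb59 (Nat.ble (nat_lit 59) i)) (Nat.ble (nat_lit 58) i)) (@Bool.rec (fun _ => ℕ) (@Bool.rec (fun _ => ℕ) fb60 fb61 (Nat.ble (nat_lit 61) i)) (@Bool.rec (fun _ => ℕ) fb62 fb63 (Nat.ble (nat_lit 63) i)) (Nat.ble (nat_lit 62) i)) (Nat.ble (nat_lit 60) i)) (Nat.ble (nat_lit 56) i)) (Nat.ble (nat_lit 48) i))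

def factBlk_n0_2 (i : ℕ) : ℕ := (@Bool.rec (fun _ => ℕ) (@Bool.rec (fun _ => ℕ) (@Bool.rec (fun _ => ℕ) (@Bool.rec (fun _ => ℕ) (@Bool.rec (fun _ => ℕ) fb64 fb65 (Nat.ble (nat_lit 65) i)) (@Bool.rec (fun _ => ℕ) fb66 fb67 (Nat.ble (nat_lit 67) i)) (Nat.ble (nat_lit 66) i)) (@Bool.rec (fun _ => ℕ) (@Bool.rec (fun _ => ℕ) fb68 fb69 (Nat.ble (nat_lit 69) i)) (@Bool.rec (fun _ => ℕ) fb70 fb71 (Nat.ble (nat_lit 71) i)) (Nat.ble (nat_lit 70) i)) (Nat.ble (nat_lit 68) i)) (@Bool.rec (fun _ => ℕ) (@Bool.rec (fun _ => ℕ) (@Bool.rec (fun _ => ℕ) fb72 fb73 (Nat.ble (nat_lit 73) i)) (@Bool.rec (fun _ => ℕ) fb74 fb75 (Nat.ble (nat_lit 75) i)) (Nat.ble (nat_lit 74) i)) (@Bool.rec (fun _ => ℕ) (@Bool.rec (fun _ => ℕ) fb76 fb77 (Nat.ble (nat_lit 77) i)) (@Bool.rec (fun _ => ℕ) fb78 fb79 (Nat.ble (nat_lit 79) i))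 (Nat.ble (nat_lit 78) i)) (Nat.ble (nat_lit 76) i)) (Nat.ble (nat_lit 72) i)) (@Bool.rec (fun _ => ℕ) (@Bool.rec (fun _ => ℕ) (@Bool.rec (fun _ => ℕ) (@Bool.rec (fun _ => ℕ) fb80 fb81 (Nat.ble (nat_lit 81) i)) (@Bool.rec (fun _ => ℕ) fb82 fb83 (Nat.ble (nat_lit 83) i)) (Nat.ble (nat_lit 82) i)) (@Bool.rec (fun _ => ℕ) (@Bool.rec (fun _ => ℕ) fb84 fb85 (Nat.ble (nat_lit 85) i)) (@Bool.rec (fun _ => ℕ) fb86 fb87 (Nat.ble (nat_lit 87) i)) (Nat.ble (nat_lit 86) i)) (Nat.ble (nat_lit 84) i)) (@Bool.rec (fun _ => ℕ) (@Bool.rec (fun _ => ℕ) (@Bool.rec (fun _ => ℕ) fb88 fb89 (Nat.ble (nat_lit 89) i)) (@Bool.rec (fun _ => ℕ) fb90 fb91 (Nat.ble (nat_lit 91) i)) (Nat.ble (nat_lit 90) i)) (@Bool.rec (fun _ => ℕ) (@Bool.rec (fun _ => ℕ) fb92 fb93 (Nat.ble (nat_lit 93) i)) (@Bool.rec (fun _ => ℕ) fb94 fb95 (Nat.ble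 (nat_lit 95) i)) (Nat.ble (nat_lit 94) i)) (Nat.ble (nat_lit 92) i)) (Nat.ble (nat_lit 88) i)) (Nat.ble (nat_lit 80) i))

def factBlk_n0_3 (i : ℕ) : ℕ := (@Bool.rec (fun _ => ℕ) (@Bool.rec (fun _ => ℕ) (@Bool.rec (fun _ => ℕ) (@Bool.rec (fun _ => ℕ) (@Bool.rec (fun _ => ℕ) fb96 fb97 (Nat.ble (nat_lit 97) i)) (@Bool.rec (fun _ => ℕ) fb98 fb99 (Nat.ble (nat_lit 99) i)) (Nat.ble (nat_lit 98) i)) (@Bool.rec (fun _ => ℕ) (@Bool.rec (fun _ => ℕ) fb100 fb101 (Nat.ble (nat_lit 101) i)) (@Bool.rec (fun _ => ℕ) fb102 fb103 (Nat.ble (nat_lit 103) i)) (Nat.ble (nat_lit 102) i)) (Nat.ble (nat_lit 100) i)) (@Bool.rec (fun _ => ℕ) (@Bool.rec (fun _ => ℕ) (@Bool.rec (fun _ => ℕ) fb104 fb105 (Nat.ble (nat_lit 105) i)) (@Bool.rec (fun _ => ℕ) fb106 fb107 (Nat.ble (nat_lit 107) i)) (Nat.ble (nat_lit 106) i)) (@Bool.rec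 (fun _ => ℕ) (@Bool.rec (fun _ => ℕ) fb108 fb109 (Nat.ble (nat_lit 109) i)) (@Bool.rec (fun _ => ℕ) fb110 fb111 (Nat.ble (nat_lit 111) i)) (Nat.ble (nat_lit 110) i)) (Nat.ble (nat_lit 108) i)) (Nat.ble (nat_lit 104) i)) (@Bool.rec (fun _ => ℕ) (@Bool.rec (fun _ => ℕ) (@Bool.rec (fun _ => ℕ) (@Bool.rec (fun _ => ℕ) fb112 fb113 (Nat.ble (nat_lit 113) i)) (@Bool.rec (fun _ => ℕ) fb114 fb115 (Nat.ble (nat_lit 115) i)) (Nat.ble (nat_lit 114) i)) (@Bool.rec (fun _ => ℕ) (@Bool.rec (fun _ => ℕ) fb116 fb117 (Nat.ble (nat_lit 117) i)) (@Bool.rec (fun _ => ℕ) fb118 fb119 (Nat.ble (nat_lit 119) i)) (Nat.ble (nat_lit 118) i)) (Nat.ble (nat_lit 116) i)) (@Bool.rec (fun _ => ℕ) (@Bool.rec (fun _ => ℕ) (@Bool.rec (fun _ => ℕ) fb120 fb121 (Nat.ble (nat_lit 121) i)) (@Bool.rec (fun _ => ℕ) fb122 fb123 (Nat.ble (nat_lit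 123) i)) (Nat.ble (nat_lit 122) i)) (@Bool.rec (fun _ => ℕ) (@Bool.rec (fun _ => ℕ) fb124 fb125 (Nat.ble (nat_lit 125) i)) (@Bool.rec (fun _ => ℕ) fb126 fb127 (Nat.ble (nat_lit 127) i)) (Nat.ble (nat_lit 126) i)) (Nat.ble (nat_lit 124) i)) (Nat.ble (nat_lit 120) i)) (Nat.ble (nat_lit 112) i))

def factBlk_n0_4 (i : ℕ) : ℕ := (@Bool.rec (fun _ => ℕ) (@Bool.rec (fun _ => ℕ) (@Bool.rec (fun _ => ℕ) (@Bool.rec (fun _ => ℕ) (@Bool.rec (fun _ => ℕ) fb128 fb129 (Nat.ble (nat_lit 129) i)) (@Bool.rec (fun _ => ℕ) fb130 fb131 (Nat.ble (nat_lit 131) i)) (Nat.ble (nat_lit 130) i)) (@Bool.rec (fun _ => ℕ) (@Bool.rec (fun _ => ℕ) fb132 fb133 (Nat.ble (nat_lit 133) i)) (@Bool.rec (fun _ => ℕ) fb134 fb135 (Nat.ble (nat_lit 135) i)) (Nat.ble (nat_lit 134) i)) (Nat.ble (nat_lit 132) i)) (@Bool.rec (fun _ => ℕ) (@Bool.rec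 (fun _ => ℕ) (@Bool.rec (fun _ => ℕ) fb136 fb137 (Nat.ble (nat_lit 137) i)) (@Bool.rec (fun _ => ℕ) fb138 fb139 (Nat.ble (nat_lit 139) i)) (Nat.ble (nat_lit 138) i)) (@Bool.rec (fun _ => ℕ) (@Bool.rec (fun _ => ℕ) fb140 fb141 (Nat.ble (nat_lit 141) i)) (@Bool.rec (fun _ => ℕ) fb142 fb143 (Nat.ble (nat_lit 143) i)) (Nat.ble (nat_lit 142) i)) (Nat.ble (nat_lit 140) i)) (Nat.ble (nat_lit 136) i)) (@Bool.rec (fun _ => ℕ) (@Bool.rec (fun _ => ℕ) (@Bool.rec (fun _ => ℕ) (@Bool.rec (fun _ => ℕ) fb144 fb145 (Nat.ble (nat_lit 145) i)) (@Bool.rec (fun _ => ℕ) fb146 fb147 (Nat.ble (nat_lit 147) i)) (Nat.ble (nat_lit 146) i)) (@Bool.rec (fun _ => ℕ) (@Bool.rec (fun _ => ℕ) fb148 fb149 (Nat.ble (nat_lit 149) i)) (@Bool.rec (fun _ => ℕ) fb150 fb151 (Nat.ble (nat_lit 151) i)) (Nat.ble (nat_lit 150) i)) (Nat.ble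 (nat_lit 148) i)) (@Bool.rec (fun _ => ℕ) (@Bool.rec (fun _ => ℕ) (@Bool.rec (fun _ => ℕ) fb152 fb153 (Nat.ble (nat_lit 153) i)) (@Bool.rec (fun _ => ℕ) fb154 fb155 (Nat.ble (nat_lit 155) i)) (Nat.ble (nat_lit 154) i)) (@Bool.rec (fun _ => ℕ) (@Bool.rec (fun _ => ℕ) fb156 fb157 (Nat.ble (nat_lit 157) i)) (@Bool.rec (fun _ => ℕ) fb158 fb159 (Nat.ble (nat_lit 159) i)) (Nat.ble (nat_lit 158) i)) (Nat.ble (nat_lit 156) i)) (Nat.ble (nat_lit 152) i)) (Nat.ble (nat_lit 144) i))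

def factBlk_n0_5 (i : ℕ) : ℕ := (@Bool.rec (fun _ => ℕ) (@Bool.rec (fun _ => ℕ) (@Bool.rec (fun _ => ℕ) (@Bool.rec (fun _ => ℕ) (@Bool.rec (fun _ => ℕ) fb160 fb161 (Nat.ble (nat_lit 161) i)) (@Bool.rec (fun _ => ℕ) fb162 fb163 (Nat.ble (nat_lit 163) i)) (Nat.ble (nat_lit 162) i)) (@Bool.rec (fun _ => ℕ) (@Bool.rec (fun _ => ℕ) fb164 fb165 (Nat.ble (nat_lit 165) i)) (@Bool.rec (fun _ => ℕ) fb166 fb167 (Nat.ble (nat_lit 167) i)) (Nat.ble (nat_lit 166) i)) (Nat.ble (nat_lit 164) i)) (@Bool.rec (fun _ => ℕ) (@Bool.rec (fun _ => ℕ) (@Bool.rec (fun _ => ℕ) fb168 fb169 (Nat.ble (nat_lit 169) i)) (@Bool.rec (fun _ => ℕ) fb170 fb171 (Nat.ble (nat_lit 171) i)) (Nat.ble (nat_lit 170) i)) (@Bool.rec (fun _ => ℕ) (@Bool.rec (fun _ => ℕ) fb172 fb173 (Nat.ble (nat_lit 173) i)) (@Bool.rec (fun _ => ℕ) fb174 fb175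 (Nat.ble (nat_lit 175) i)) (Nat.ble (nat_lit 174) i)) (Nat.ble (nat_lit 172) i)) (Nat.ble (nat_lit 168) i)) (@Bool.rec (fun _ => ℕ) (@Bool.rec (fun _ => ℕ) (@Bool.rec (fun _ => ℕ) (@Bool.rec (fun _ => ℕ) fb176 fb177 (Nat.ble (nat_lit 177) i)) (@Bool.rec (fun _ => ℕ) fb178 fb179 (Nat.ble (nat_lit 179) i)) (Nat.ble (nat_lit 178) i)) (@Bool.rec (fun _ => ℕ) (@Bool.rec (fun _ => ℕ) fb180 fb181 (Nat.ble (nat_lit 181) i)) (@Bool.rec (fun _ => ℕ) fb182 fb183 (Nat.ble (nat_lit 183) i)) (Nat.ble (nat_lit 182) i)) (Nat.ble (nat_lit 180) i)) (@Bool.rec (fun _ => ℕ) (@Bool.rec (fun _ => ℕ) (@Bool.rec (fun _ => ℕ) fb184 fb185 (Nat.ble (nat_lit 185) i)) (@Bool.rec (fun _ => ℕ) fb186 fb187 (Nat.ble (nat_lit 187) i)) (Nat.ble (nat_lit 186) i)) (@Bool.rec (fun _ => ℕ) (@Bool.rec (fun _ => ℕ) fb188 fb189 (Nat.ble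 (nat_lit 189) i)) (@Bool.rec (fun _ => ℕ) fb190 fb191 (Nat.ble (nat_lit 191) i)) (Nat.ble (nat_lit 190) i)) (Nat.ble (nat_lit 188) i)) (Nat.ble (nat_lit 184) i)) (Nat.ble (nat_lit 176) i))

def factBlk_n0_6 (i : ℕ) : ℕ := (@Bool.rec (fun _ => ℕ) (@Bool.rec (fun _ => ℕ) (@Bool.rec (fun _ => ℕ) (@Bool.rec (fun _ => ℕ) (@Bool.rec (fun _ => ℕ) fb192 fb193 (Nat.ble (nat_lit 193) i)) (@Bool.rec (fun _ => ℕ) fb194 fb195 (Nat.ble (nat_lit 195) i)) (Nat.ble (nat_lit 194) i)) (@Bool.rec (fun _ => ℕ) (@Bool.rec (fun _ => ℕ) fb196 fb197 (Nat.ble (nat_lit 197) i)) (@Bool.rec (fun _ => ℕ) fb198 fb199 (Nat.ble (nat_lit 199) i)) (Nat.ble (nat_lit 198) i)) (Nat.ble (nat_lit 196) i)) (@Bool.rec (fun _ => ℕ) (@Bool.rec (fun _ => ℕ) (@Bool.rec (fun _ => ℕ) fb200 fb201 (Nat.ble (nat_lit 201) i)) (@Bool.rec (fun _ =>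 ℕ) fb202 fb203 (Nat.ble (nat_lit 203) i)) (Nat.ble (nat_lit 202) i)) (@Bool.rec (fun _ => ℕ) (@Bool.rec (fun _ => ℕ) fb204 fb205 (Nat.ble (nat_lit 205) i)) (@Bool.rec (fun _ => ℕ) fb206 fb207 (Nat.ble (nat_lit 207) i)) (Nat.ble (nat_lit 206) i)) (Nat.ble (nat_lit 204) i)) (Nat.ble (nat_lit 200) i)) (@Bool.rec (fun _ => ℕ) (@Bool.rec (fun _ => ℕ) (@Bool.rec (fun _ => ℕ) (@Bool.rec (fun _ => ℕ) fb208 fb209 (Nat.ble (nat_lit 209) i)) (@Bool.rec (fun _ => ℕ) fb210 fb211 (Nat.ble (nat_lit 211) i)) (Nat.ble (nat_lit 210) i)) (@Bool.rec (fun _ => ℕ) (@Bool.rec (fun _ => ℕ) fb212 fb213 (Nat.ble (nat_lit 213) i)) (@Bool.rec (fun _ => ℕ) fb214 fb215 (Nat.ble (nat_lit 215) i)) (Nat.ble (nat_lit 214) i)) (Nat.ble (nat_lit 212) i)) (@Bool.rec (fun _ => ℕ) (@Bool.rec (fun _ => ℕ) (@Bool.rec (fun _ => ℕ) fb216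 fb217 (Nat.ble (nat_lit 217) i)) (@Bool.rec (fun _ => ℕ) fb218 fb219 (Nat.ble (nat_lit 219) i)) (Nat.ble (nat_lit 218) i)) (@Bool.rec (fun _ => ℕ) (@Bool.rec (fun _ => ℕ) fb220 fb221 (Nat.ble (nat_lit 221) i)) (@Bool.rec (fun _ => ℕ) fb222 fb223 (Nat.ble (nat_lit 223) i)) (Nat.ble (nat_lit 222) i)) (Nat.ble (nat_lit 220) i)) (Nat.ble (nat_lit 216) i)) (Nat.ble (nat_lit 208) i))

def factBlk_n0_7 (i : ℕ) : ℕ := (@Bool.rec (fun _ => ℕ) (@Bool.rec (fun _ => ℕ) (@Bool.rec (fun _ => ℕ) (@Bool.rec (fun _ => ℕ) (@Bool.rec (fun _ => ℕ) fb224 fb225 (Nat.ble (nat_lit 225) i)) (@Bool.rec (fun _ => ℕ) fb226 fb227 (Nat.ble (nat_lit 227) i)) (Nat.ble (nat_lit 226) i)) (@Bool.rec (fun _ => ℕ) (@Bool.rec (fun _ => ℕ) fb228 fb229 (Nat.ble (nat_lit 229) i)) (@Bool.rec (fun _ => ℕ) fb230 fb231 (Nat.ble (nat_lit 231)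 i)) (Nat.ble (nat_lit 230) i)) (Nat.ble (nat_lit 228) i)) (@Bool.rec (fun _ => ℕ) (@Bool.rec (fun _ => ℕ) (@Bool.rec (fun _ => ℕ) fb232 fb233 (Nat.ble (nat_lit 233) i)) (@Bool.rec (fun _ => ℕ) fb234 fb235 (Nat.ble (nat_lit 235) i)) (Nat.ble (nat_lit 234) i)) (@Bool.rec (fun _ => ℕ) (@Bool.rec (fun _ => ℕ) fb236 fb237 (Nat.ble (nat_lit 237) i)) (@Bool.rec (fun _ => ℕ) fb238 fb239 (Nat.ble (nat_lit 239) i)) (Nat.ble (nat_lit 238) i)) (Nat.ble (nat_lit 236) i)) (Nat.ble (nat_lit 232) i)) (@Bool.rec (fun _ => ℕ) (@Bool.rec (fun _ => ℕ) (@Bool.rec (fun _ => ℕ) (@Bool.rec (fun _ => ℕ) fb240 fb241 (Nat.ble (nat_lit 241) i)) (@Bool.rec (fun _ => ℕ) fb242 fb243 (Nat.ble (nat_lit 243) i)) (Nat.ble (nat_lit 242) i)) (@Bool.rec (fun _ => ℕ) (@Bool.rec (fun _ => ℕ) fb244 fb245 (Nat.ble (nat_lit 245) i)) (@Bool.rec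 (fun _ => ℕ) fb246 fb247 (Nat.ble (nat_lit 247) i)) (Nat.ble (nat_lit 246) i)) (Nat.ble (nat_lit 244) i)) (@Bool.rec (fun _ => ℕ) (@Bool.rec (fun _ => ℕ) (@Bool.rec (fun _ => ℕ) fb248 fb249 (Nat.ble (nat_lit 249) i)) (@Bool.rec (fun _ => ℕ) fb250 fb251 (Nat.ble (nat_lit 251) i)) (Nat.ble (nat_lit 250) i)) (@Bool.rec (fun _ => ℕ) (@Bool.rec (fun _ => ℕ) fb252 fb253 (Nat.ble (nat_lit 253) i)) (@Bool.rec (fun _ => ℕ) fb254 fb255 (Nat.ble (nat_lit 255) i)) (Nat.ble (nat_lit 254) i)) (Nat.ble (nat_lit 252) i)) (Nat.ble (nat_lit 248) i)) (Nat.ble (nat_lit 240) i))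

def factBlk_n0_8 (i : ℕ) : ℕ := (@Bool.rec (fun _ => ℕ) (@Bool.rec (fun _ => ℕ) (@Bool.rec (fun _ => ℕ) (@Bool.rec (fun _ => ℕ) (@Bool.rec (fun _ => ℕ) fb256 fb257 (Nat.ble (nat_lit 257) i)) (@Bool.rec (fun _ => ℕ) fb258 fb259 (Nat.ble (nat_lit 259) i)) (Nat.ble (nat_lit 258) i)) (@Bool.rec (fun _ => ℕ) (@Bool.rec (fun _ => ℕ) fb260 fb261 (Nat.ble (nat_lit 261) i)) (@Bool.rec (fun _ => ℕ) fb262 fb263 (Nat.ble (nat_lit 263) i)) (Nat.ble (nat_lit 262) i)) (Nat.ble (nat_lit 260) i)) (@Bool.rec (fun _ => ℕ) (@Bool.rec (fun _ => ℕ) (@Bool.rec (fun _ => ℕ) fb264 fb265 (Nat.ble (nat_lit 265) i)) (@Bool.rec (fun _ => ℕ) fb266 fb267 (Nat.ble (nat_lit 267) i)) (Nat.ble (nat_lit 266) i)) (@Bool.rec (fun _ => ℕ) (@Bool.rec (fun _ => ℕ) fb268 fb269 (Nat.ble (nat_lit 269) i)) (@Bool.rec (fun _ => ℕ) fb270 fb271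 (Nat.ble (nat_lit 271) i)) (Nat.ble (nat_lit 270) i)) (Nat.ble (nat_lit 268) i)) (Nat.ble (nat_lit 264) i)) (@Bool.rec (fun _ => ℕ) (@Bool.rec (fun _ => ℕ) (@Bool.rec (fun _ => ℕ) (@Bool.rec (fun _ => ℕ) fb272 fb273 (Nat.ble (nat_lit 273) i)) (@Bool.rec (fun _ => ℕ) fb274 fb275 (Nat.ble (nat_lit 275) i)) (Nat.ble (nat_lit 274) i)) (@Bool.rec (fun _ => ℕ) (@Bool.rec (fun _ => ℕ) fb276 fb277 (Nat.ble (nat_lit 277) i)) (@Bool.rec (fun _ => ℕ) fb278 fb279 (Nat.ble (nat_lit 279) i)) (Nat.ble (nat_lit 278) i)) (Nat.ble (nat_lit 276) i)) (@Bool.rec (fun _ => ℕ) (@Bool.rec (fun _ => ℕ) (@Bool.rec (fun _ => ℕ) fb280 fb281 (Nat.ble (nat_lit 281) i)) (@Bool.rec (fun _ => ℕ) fb282 fb283 (Nat.ble (nat_lit 283) i)) (Nat.ble (nat_lit 282) i)) (@Bool.rec (fun _ => ℕ) (@Bool.rec (fun _ => ℕ) fb284 fb285 (Nat.ble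 (nat_lit 285) i)) (@Bool.rec (fun _ => ℕ) fb286 fb287 (Nat.ble (nat_lit 287) i)) (Nat.ble (nat_lit 286) i)) (Nat.ble (nat_lit 284) i)) (Nat.ble (nat_lit 280) i)) (Nat.ble (nat_lit 272) i))

def factBlk_n0_9 (i : ℕ) : ℕ := (@Bool.rec (fun _ => ℕ) (@Bool.rec (fun _ => ℕ) (@Bool.rec (fun _ => ℕ) (@Bool.rec (fun _ => ℕ) (@Bool.rec (fun _ => ℕ) fb288 fb289 (Nat.ble (nat_lit 289) i)) (@Bool.rec (fun _ => ℕ) fb290 fb291 (Nat.ble (nat_lit 291) i)) (Nat.ble (nat_lit 290) i)) (@Bool.rec (fun _ => ℕ) (@Bool.rec (fun _ => ℕ) fb292 fb293 (Nat.ble (nat_lit 293) i)) (@Bool.rec (fun _ => ℕ) fb294 fb295 (Nat.ble (nat_lit 295) i)) (Nat.ble (nat_lit 294) i)) (Nat.ble (nat_lit 292) i)) (@Bool.rec (fun _ => ℕ) (@Bool.rec (fun _ => ℕ) (@Bool.rec (fun _ => ℕ) fb296 fb297 (Nat.ble (nat_lit 297) i)) (@Bool.rec (fun _ =>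 ℕ) fb298 fb299 (Nat.ble (nat_lit 299) i)) (Nat.ble (nat_lit 298) i)) (@Bool.rec (fun _ => ℕ) (@Bool.rec (fun _ => ℕ) fb300 fb301 (Nat.ble (nat_lit 301) i)) (@Bool.rec (fun _ => ℕ) fb302 fb303 (Nat.ble (nat_lit 303) i)) (Nat.ble (nat_lit 302) i)) (Nat.ble (nat_lit 300) i)) (Nat.ble (nat_lit 296) i)) (@Bool.rec (fun _ => ℕ) (@Bool.rec (fun _ => ℕ) (@Bool.rec (fun _ => ℕ) (@Bool.rec (fun _ => ℕ) fb304 fb305 (Nat.ble (nat_lit 305) i)) (@Bool.rec (fun _ => ℕ) fb306 fb307 (Nat.ble (nat_lit 307) i)) (Nat.ble (nat_lit 306) i)) (@Bool.rec (fun _ => ℕ) (@Bool.rec (fun _ => ℕ) fb308 fb309 (Nat.ble (nat_lit 309) i)) (@Bool.rec (fun _ => ℕ) fb310 fb311 (Nat.ble (nat_lit 311) i)) (Nat.ble (nat_lit 310) i)) (Nat.ble (nat_lit 308) i)) (@Bool.rec (fun _ => ℕ) (@Bool.rec (fun _ => ℕ) (@Bool.rec (fun _ => ℕ) fb312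 fb313 (Nat.ble (nat_lit 313) i)) (@Bool.rec (fun _ => ℕ) fb314 fb315 (Nat.ble (nat_lit 315) i)) (Nat.ble (nat_lit 314) i)) (@Bool.rec (fun _ => ℕ) (@Bool.rec (fun _ => ℕ) fb316 fb317 (Nat.ble (nat_lit 317) i)) (@Bool.rec (fun _ => ℕ) fb318 fb319 (Nat.ble (nat_lit 319) i)) (Nat.ble (nat_lit 318) i)) (Nat.ble (nat_lit 316) i)) (Nat.ble (nat_lit 312) i)) (Nat.ble (nat_lit 304) i))

def factBlk_n0_10 (i : ℕ) : ℕ := (@Bool.rec (fun _ => ℕ) (@Bool.rec (fun _ => ℕ) (@Bool.rec (fun _ => ℕ) (@Bool.rec (fun _ => ℕ) (@Bool.rec (fun _ => ℕ) fb320 fb321 (Nat.ble (nat_lit 321) i)) (@Bool.rec (fun _ => ℕ) fb322 fb323 (Nat.ble (nat_lit 323) i)) (Nat.ble (nat_lit 322) i)) (@Bool.rec (fun _ => ℕ) (@Bool.rec (fun _ => ℕ) fb324 fb325 (Nat.ble (nat_lit 325) i)) (@Bool.rec (fun _ => ℕ) fb326 fb327 (Nat.ble (nat_lit 327)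 i)) (Nat.ble (nat_lit 326) i)) (Nat.ble (nat_lit 324) i)) (@Bool.rec (fun _ => ℕ) (@Bool.rec (fun _ => ℕ) (@Bool.rec (fun _ => ℕ) fb328 fb329 (Nat.ble (nat_lit 329) i)) (@Bool.rec (fun _ => ℕ) fb330 fb331 (Nat.ble (nat_lit 331) i)) (Nat.ble (nat_lit 330) i)) (@Bool.rec (fun _ => ℕ) (@Bool.rec (fun _ => ℕ) fb332 fb333 (Nat.ble (nat_lit 333) i)) (@Bool.rec (fun _ => ℕ) fb334 fb335 (Nat.ble (nat_lit 335) i)) (Nat.ble (nat_lit 334) i)) (Nat.ble (nat_lit 332) i)) (Nat.ble (nat_lit 328) i)) (@Bool.rec (fun _ => ℕ) (@Bool.rec (fun _ => ℕ) (@Bool.rec (fun _ => ℕ) (@Bool.rec (fun _ => ℕ) fb336 fb337 (Nat.ble (nat_lit 337) i)) (@Bool.rec (fun _ => ℕ) fb338 fb339 (Nat.ble (nat_lit 339) i)) (Nat.ble (nat_lit 338) i)) (@Bool.rec (fun _ => ℕ) (@Bool.rec (fun _ => ℕ) fb340 fb341 (Nat.ble (nat_lit 341) i)) (@Bool.rec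 (fun _ => ℕ) fb342 fb343 (Nat.ble (nat_lit 343) i)) (Nat.ble (nat_lit 342) i)) (Nat.ble (nat_lit 340) i)) (@Bool.rec (fun _ => ℕ) (@Bool.rec (fun _ => ℕ) (@Bool.rec (fun _ => ℕ) fb344 fb345 (Nat.ble (nat_lit 345) i)) (@Bool.rec (fun _ => ℕ) fb346 fb347 (Nat.ble (nat_lit 347) i)) (Nat.ble (nat_lit 346) i)) (@Bool.rec (fun _ => ℕ) (@Bool.rec (fun _ => ℕ) fb348 fb349 (Nat.ble (nat_lit 349) i)) (@Bool.rec (fun _ => ℕ) fb350 fb351 (Nat.ble (nat_lit 351) i)) (Nat.ble (nat_lit 350) i)) (Nat.ble (nat_lit 348) i)) (Nat.ble (nat_lit 344) i)) (Nat.ble (nat_lit 336) i))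

def factBlk_n0_11 (i : ℕ) : ℕ := (@Bool.rec (fun _ => ℕ) (@Bool.rec (fun _ => ℕ) (@Bool.rec (fun _ => ℕ) (@Bool.rec (fun _ => ℕ) (@Bool.rec (fun _ => ℕ) fb352 fb353 (Nat.ble (nat_lit 353) i)) (@Bool.rec (fun _ => ℕ) fb354 fb355 (Nat.ble (nat_lit 355) i)) (Nat.ble (nat_lit 354) i)) (@Bool.rec (fun _ => ℕ) (@Bool.rec (fun _ => ℕ) fb356 fb357 (Nat.ble (nat_lit 357) i)) (@Bool.rec (fun _ => ℕ) fb358 fb359 (Nat.ble (nat_lit 359) i)) (Nat.ble (nat_lit 358) i)) (Nat.ble (nat_lit 356) i)) (@Bool.rec (fun _ => ℕ) (@Bool.rec (fun _ => ℕ) (@Bool.rec (fun _ => ℕ) fb360 fb361 (Nat.ble (nat_lit 361) i)) (@Bool.rec (fun _ => ℕ) fb362 fb363 (Nat.ble (nat_lit 363) i)) (Nat.ble (nat_lit 362) i)) (@Bool.rec (fun _ => ℕ) (@Bool.rec (fun _ => ℕ) fb364 fb365 (Nat.ble (nat_lit 365) i)) (@Bool.rec (fun _ => ℕ) fb366 fb367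 (Nat.ble (nat_lit 367) i)) (Nat.ble (nat_lit 366) i)) (Nat.ble (nat_lit 364) i)) (Nat.ble (nat_lit 360) i)) (@Bool.rec (fun _ => ℕ) (@Bool.rec (fun _ => ℕ) (@Bool.rec (fun _ => ℕ) (@Bool.rec (fun _ => ℕ) fb368 fb369 (Nat.ble (nat_lit 369) i)) (@Bool.rec (fun _ => ℕ) fb370 fb371 (Nat.ble (nat_lit 371) i)) (Nat.ble (nat_lit 370) i)) (@Bool.rec (fun _ => ℕ) (@Bool.rec (fun _ => ℕ) fb372 fb373 (Nat.ble (nat_lit 373) i)) (@Bool.rec (fun _ => ℕ) fb374 fb375 (Nat.ble (nat_lit 375) i)) (Nat.ble (nat_lit 374) i)) (Nat.ble (nat_lit 372) i)) (@Bool.rec (fun _ => ℕ) (@Bool.rec (fun _ => ℕ) (@Bool.rec (fun _ => ℕ) fb376 fb377 (Nat.ble (nat_lit 377) i)) (@Bool.rec (fun _ => ℕ) fb378 fb379 (Nat.ble (nat_lit 379) i)) (Nat.ble (nat_lit 378) i)) (@Bool.rec (fun _ => ℕ) (@Bool.rec (fun _ => ℕ) fb380 fb381 (Nat.ble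 (nat_lit 381) i)) (@Bool.rec (fun _ => ℕ) fb382 fb383 (Nat.ble (nat_lit 383) i)) (Nat.ble (nat_lit 382) i)) (Nat.ble (nat_lit 380) i)) (Nat.ble (nat_lit 376) i)) (Nat.ble (nat_lit 368) i))

def factBlk_n0_12 (i : ℕ) : ℕ := (@Bool.rec (fun _ => ℕ) (@Bool.rec (fun _ => ℕ) (@Bool.rec (fun _ => ℕ) (@Bool.rec (fun _ => ℕ) (@Bool.rec (fun _ => ℕ) fb384 fb385 (Nat.ble (nat_lit 385) i)) (@Bool.rec (fun _ => ℕ) fb386 fb387 (Nat.ble (nat_lit 387) i)) (Nat.ble (nat_lit 386) i)) (@Bool.rec (fun _ => ℕ) (@Bool.rec (fun _ => ℕ) fb388 fb389 (Nat.ble (nat_lit 389) i)) (@Bool.rec (fun _ => ℕ) fb390 fb391 (Nat.ble (nat_lit 391) i)) (Nat.ble (nat_lit 390) i)) (Nat.ble (nat_lit 388) i)) (@Bool.rec (fun _ => ℕ) (@Bool.rec (fun _ => ℕ) (@Bool.rec (fun _ => ℕ) fb392 fb393 (Nat.ble (nat_lit 393) i)) (@Bool.rec (fun _ =>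 ℕ) fb394 fb395 (Nat.ble (nat_lit 395) i)) (Nat.ble (nat_lit 394) i)) (@Bool.rec (fun _ => ℕ) (@Bool.rec (fun _ => ℕ) fb396 fb397 (Nat.ble (nat_lit 397) i)) (@Bool.rec (fun _ => ℕ) fb398 fb399 (Nat.ble (nat_lit 399) i)) (Nat.ble (nat_lit 398) i)) (Nat.ble (nat_lit 396) i)) (Nat.ble (nat_lit 392) i)) (@Bool.rec (fun _ => ℕ) (@Bool.rec (fun _ => ℕ) (@Bool.rec (fun _ => ℕ) (@Bool.rec (fun _ => ℕ) fb400 fb401 (Nat.ble (nat_lit 401) i)) (@Bool.rec (fun _ => ℕ) fb402 fb403 (Nat.ble (nat_lit 403) i)) (Nat.ble (nat_lit 402) i)) (@Bool.rec (fun _ => ℕ) (@Bool.rec (fun _ => ℕ) fb404 fb405 (Nat.ble (nat_lit 405) i)) (@Bool.rec (fun _ => ℕ) fb406 fb407 (Nat.ble (nat_lit 407) i)) (Nat.ble (nat_lit 406) i)) (Nat.ble (nat_lit 404) i)) (@Bool.rec (fun _ => ℕ) (@Bool.rec (fun _ => ℕ) (@Bool.rec (fun _ => ℕ) fb408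 fb409 (Nat.ble (nat_lit 409) i)) (@Bool.rec (fun _ => ℕ) fb410 fb411 (Nat.ble (nat_lit 411) i)) (Nat.ble (nat_lit 410) i)) (@Bool.rec (fun _ => ℕ) (@Bool.rec (fun _ => ℕ) fb412 fb413 (Nat.ble (nat_lit 413) i)) (@Bool.rec (fun _ => ℕ) fb414 fb415 (Nat.ble (nat_lit 415) i)) (Nat.ble (nat_lit 414) i)) (Nat.ble (nat_lit 412) i)) (Nat.ble (nat_lit 408) i)) (Nat.ble (nat_lit 400) i))

def factBlk_n0_13 (i : ℕ) : ℕ := (@Bool.rec (fun _ => ℕ) (@Bool.rec (fun _ => ℕ) (@Bool.rec (fun _ => ℕ) (@Bool.rec (fun _ => ℕ) (@Bool.rec (fun _ => ℕ) fb416 fb417 (Nat.ble (nat_lit 417) i)) (@Bool.rec (fun _ => ℕ) fb418 fb419 (Nat.ble (nat_lit 419) i)) (Nat.ble (nat_lit 418) i)) (@Bool.rec (fun _ => ℕ) (@Bool.rec (fun _ => ℕ) fb420 fb421 (Nat.ble (nat_lit 421) i)) (@Bool.rec (fun _ => ℕ) fb422 fb423 (Nat.ble (nat_lit 423)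 i)) (Nat.ble (nat_lit 422) i)) (Nat.ble (nat_lit 420) i)) (@Bool.rec (fun _ => ℕ) (@Bool.rec (fun _ => ℕ) (@Bool.rec (fun _ => ℕ) fb424 fb425 (Nat.ble (nat_lit 425) i)) (@Bool.rec (fun _ => ℕ) fb426 fb427 (Nat.ble (nat_lit 427) i)) (Nat.ble (nat_lit 426) i)) (@Bool.rec (fun _ => ℕ) (@Bool.rec (fun _ => ℕ) fb428 fb429 (Nat.ble (nat_lit 429) i)) (@Bool.rec (fun _ => ℕ) fb430 fb431 (Nat.ble (nat_lit 431) i)) (Nat.ble (nat_lit 430) i)) (Nat.ble (nat_lit 428) i)) (Nat.ble (nat_lit 424) i)) (@Bool.rec (fun _ => ℕ) (@Bool.rec (fun _ => ℕ) (@Bool.rec (fun _ => ℕ) (@Bool.rec (fun _ => ℕ) fb432 fb433 (Nat.ble (nat_lit 433) i)) (@Bool.rec (fun _ => ℕ) fb434 fb435 (Nat.ble (nat_lit 435) i)) (Nat.ble (nat_lit 434) i)) (@Bool.rec (fun _ => ℕ) (@Bool.rec (fun _ => ℕ) fb436 fb437 (Nat.ble (nat_lit 437) i)) (@Bool.rec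 (fun _ => ℕ) fb438 fb439 (Nat.ble (nat_lit 439) i)) (Nat.ble (nat_lit 438) i)) (Nat.ble (nat_lit 436) i)) (@Bool.rec (fun _ => ℕ) (@Bool.rec (fun _ => ℕ) (@Bool.rec (fun _ => ℕ) fb440 fb441 (Nat.ble (nat_lit 441) i)) (@Bool.rec (fun _ => ℕ) fb442 fb443 (Nat.ble (nat_lit 443) i)) (Nat.ble (nat_lit 442) i)) (@Bool.rec (fun _ => ℕ) (@Bool.rec (fun _ => ℕ) fb444 fb445 (Nat.ble (nat_lit 445) i)) (@Bool.rec (fun _ => ℕ) fb446 fb447 (Nat.ble (nat_lit 447) i)) (Nat.ble (nat_lit 446) i)) (Nat.ble (nat_lit 444) i)) (Nat.ble (nat_lit 440) i)) (Nat.ble (nat_lit 432) i))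

def factBlk_n0_14 (i : ℕ) : ℕ := (@Bool.rec (fun _ => ℕ) (@Bool.rec (fun _ => ℕ) (@Bool.rec (fun _ => ℕ) (@Bool.rec (fun _ => ℕ) (@Bool.rec (fun _ => ℕ) fb448 fb449 (Nat.ble (nat_lit 449) i)) (@Bool.rec (fun _ => ℕ) fb450 fb451 (Nat.ble (nat_lit 451) i)) (Nat.ble (nat_lit 450) i)) (@Bool.rec (fun _ => ℕ) (@Bool.rec (fun _ => ℕ) fb452 fb453 (Nat.ble (nat_lit 453) i)) (@Bool.rec (fun _ => ℕ) fb454 fb455 (Nat.ble (nat_lit 455) i)) (Nat.ble (nat_lit 454) i)) (Nat.ble (nat_lit 452) i)) (@Bool.rec (fun _ => ℕ) (@Bool.rec (fun _ => ℕ) (@Bool.rec (fun _ => ℕ) fb456 fb457 (Nat.ble (nat_lit 457) i)) (@Bool.rec (fun _ => ℕ) fb458 fb459 (Nat.ble (nat_lit 459) i)) (Nat.ble (nat_lit 458) i)) (@Bool.rec (fun _ => ℕ) (@Bool.rec (fun _ => ℕ) fb460 fb461 (Nat.ble (nat_lit 461) i)) (@Bool.rec (fun _ => ℕ) fb462 fb463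 (Nat.ble (nat_lit 463) i)) (Nat.ble (nat_lit 462) i)) (Nat.ble (nat_lit 460) i)) (Nat.ble (nat_lit 456) i)) (@Bool.rec (fun _ => ℕ) (@Bool.rec (fun _ => ℕ) (@Bool.rec (fun _ => ℕ) (@Bool.rec (fun _ => ℕ) fb464 fb465 (Nat.ble (nat_lit 465) i)) (@Bool.rec (fun _ => ℕ) fb466 fb467 (Nat.ble (nat_lit 467) i)) (Nat.ble (nat_lit 466) i)) (@Bool.rec (fun _ => ℕ) (@Bool.rec (fun _ => ℕ) fb468 fb469 (Nat.ble (nat_lit 469) i)) (@Bool.rec (fun _ => ℕ) fb470 fb471 (Nat.ble (nat_lit 471) i)) (Nat.ble (nat_lit 470) i)) (Nat.ble (nat_lit 468) i)) (@Bool.rec (fun _ => ℕ) (@Bool.rec (fun _ => ℕ) (@Bool.rec (fun _ => ℕ) fb472 fb473 (Nat.ble (nat_lit 473) i)) (@Bool.rec (fun _ => ℕ) fb474 fb475 (Nat.ble (nat_lit 475) i)) (Nat.ble (nat_lit 474) i)) (@Bool.rec (fun _ => ℕ) (@Bool.rec (fun _ => ℕ) fb476 fb477 (Nat.ble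 (nat_lit 477) i)) (@Bool.rec (fun _ => ℕ) fb478 fb479 (Nat.ble (nat_lit 479) i)) (Nat.ble (nat_lit 478) i)) (Nat.ble (nat_lit 476) i)) (Nat.ble (nat_lit 472) i)) (Nat.ble (nat_lit 464) i))

def factBlk_n0_15 (i : ℕ) : ℕ := (@Bool.rec (fun _ => ℕ) (@Bool.rec (fun _ => ℕ) (@Bool.rec (fun _ => ℕ) (@Bool.rec (fun _ => ℕ) (@Bool.rec (fun _ => ℕ) fb480 fb481 (Nat.ble (nat_lit 481) i)) (@Bool.rec (fun _ => ℕ) fb482 fb483 (Nat.ble (nat_lit 483) i)) (Nat.ble (nat_lit 482) i)) (@Bool.rec (fun _ => ℕ) (@Bool.rec (fun _ => ℕ) fb484 fb485 (Nat.ble (nat_lit 485) i)) (@Bool.rec (fun _ => ℕ) fb486 fb487 (Nat.ble (nat_lit 487) i)) (Nat.ble (nat_lit 486) i)) (Nat.ble (nat_lit 484) i)) (@Bool.rec (fun _ => ℕ) (@Bool.rec (fun _ => ℕ) (@Bool.rec (fun _ => ℕ) fb488 fb489 (Nat.ble (nat_lit 489) i)) (@Bool.rec (fun _ =>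 ℕ) fb490 fb491 (Nat.ble (nat_lit 491) i)) (Nat.ble (nat_lit 490) i)) (@Bool.rec (fun _ => ℕ) (@Bool.rec (fun _ => ℕ) fb492 fb493 (Nat.ble (nat_lit 493) i)) (@Bool.rec (fun _ => ℕ) fb494 fb495 (Nat.ble (nat_lit 495) i)) (Nat.ble (nat_lit 494) i)) (Nat.ble (nat_lit 492) i)) (Nat.ble (nat_lit 488) i)) (@Bool.rec (fun _ => ℕ) (@Bool.rec (fun _ => ℕ) (@Bool.rec (fun _ => ℕ) (@Bool.rec (fun _ => ℕ) fb496 fb497 (Nat.ble (nat_lit 497) i)) (@Bool.rec (fun _ => ℕ) fb498 fb499 (Nat.ble (nat_lit 499) i)) (Nat.ble (nat_lit 498) i)) (@Bool.rec (fun _ => ℕ) (@Bool.rec (fun _ => ℕ) fb500 fb501 (Nat.ble (nat_lit 501) i)) (@Bool.rec (fun _ => ℕ) fb502 fb503 (Nat.ble (nat_lit 503) i)) (Nat.ble (nat_lit 502) i)) (Nat.ble (nat_lit 500) i)) (@Bool.rec (fun _ => ℕ) (@Bool.rec (fun _ => ℕ) (@Bool.rec (fun _ => ℕ) fb504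 fb505 (Nat.ble (nat_lit 505) i)) (@Bool.rec (fun _ => ℕ) fb506 fb507 (Nat.ble (nat_lit 507) i)) (Nat.ble (nat_lit 506) i)) (@Bool.rec (fun _ => ℕ) (@Bool.rec (fun _ => ℕ) fb508 fb509 (Nat.ble (nat_lit 509) i)) (@Bool.rec (fun _ => ℕ) fb510 fb511 (Nat.ble (nat_lit 511) i)) (Nat.ble (nat_lit 510) i)) (Nat.ble (nat_lit 508) i)) (Nat.ble (nat_lit 504) i)) (Nat.ble (nat_lit 496) i))

def factBlk_n0_16 (i : ℕ) : ℕ := (@Bool.rec (fun _ => ℕ) (@Bool.rec (fun _ => ℕ) (@Bool.rec (fun _ => ℕ) (@Bool.rec (fun _ => ℕ) (@Bool.rec (fun _ => ℕ) fb512 fb513 (Nat.ble (nat_lit 513) i)) (@Bool.rec (fun _ => ℕ) fb514 fb515 (Nat.ble (nat_lit 515) i)) (Nat.ble (nat_lit 514) i)) (@Bool.rec (fun _ => ℕ) (@Bool.rec (fun _ => ℕ) fb516 fb517 (Nat.ble (nat_lit 517) i)) (@Bool.rec (fun _ => ℕ) fb518 fb519 (Nat.ble (nat_lit 519)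 i)) (Nat.ble (nat_lit 518) i)) (Nat.ble (nat_lit 516) i)) (@Bool.rec (fun _ => ℕ) (@Bool.rec (fun _ => ℕ) (@Bool.rec (fun _ => ℕ) fb520 fb521 (Nat.ble (nat_lit 521) i)) (@Bool.rec (fun _ => ℕ) fb522 fb523 (Nat.ble (nat_lit 523) i)) (Nat.ble (nat_lit 522) i)) (@Bool.rec (fun _ => ℕ) (@Bool.rec (fun _ => ℕ) fb524 fb525 (Nat.ble (nat_lit 525) i)) (@Bool.rec (fun _ => ℕ) fb526 fb527 (Nat.ble (nat_lit 527) i)) (Nat.ble (nat_lit 526) i)) (Nat.ble (nat_lit 524) i)) (Nat.ble (nat_lit 520) i)) (@Bool.rec (fun _ => ℕ) (@Bool.rec (fun _ => ℕ) (@Bool.rec (fun _ => ℕ) (@Bool.rec (fun _ => ℕ) fb528 fb529 (Nat.ble (nat_lit 529) i)) (@Bool.rec (fun _ => ℕ) fb530 fb531 (Nat.ble (nat_lit 531) i)) (Nat.ble (nat_lit 530) i)) (@Bool.rec (fun _ => ℕ) (@Bool.rec (fun _ => ℕ) fb532 fb533 (Nat.ble (nat_lit 533) i)) (@Bool.rec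 (fun _ => ℕ) fb534 fb535 (Nat.ble (nat_lit 535) i)) (Nat.ble (nat_lit 534) i)) (Nat.ble (nat_lit 532) i)) (@Bool.rec (fun _ => ℕ) (@Bool.rec (fun _ => ℕ) (@Bool.rec (fun _ => ℕ) fb536 fb537 (Nat.ble (nat_lit 537) i)) (@Bool.rec (fun _ => ℕ) fb538 fb539 (Nat.ble (nat_lit 539) i)) (Nat.ble (nat_lit 538) i)) (@Bool.rec (fun _ => ℕ) (@Bool.rec (fun _ => ℕ) fb540 fb541 (Nat.ble (nat_lit 541) i)) (@Bool.rec (fun _ => ℕ) fb542 fb543 (Nat.ble (nat_lit 543) i)) (Nat.ble (nat_lit 542) i)) (Nat.ble (nat_lit 540) i)) (Nat.ble (nat_lit 536) i)) (Nat.ble (nat_lit 528) i))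

def factBlk_n0_17 (i : ℕ) : ℕ := (@Bool.rec (fun _ => ℕ) (@Bool.rec (fun _ => ℕ) (@Bool.rec (fun _ => ℕ) (@Bool.rec (fun _ => ℕ) (@Bool.rec (fun _ => ℕ) fb544 fb545 (Nat.ble (nat_lit 545) i)) (@Bool.rec (fun _ => ℕ) fb546 fb547 (Nat.ble (nat_lit 547) i)) (Nat.ble (nat_lit 546) i)) (@Bool.rec (fun _ => ℕ) (@Bool.rec (fun _ => ℕ) fb548 fb549 (Nat.ble (nat_lit 549) i)) (@Bool.rec (fun _ => ℕ) fb550 fb551 (Nat.ble (nat_lit 551) i)) (Nat.ble (nat_lit 550) i)) (Nat.ble (nat_lit 548) i)) (@Bool.rec (fun _ => ℕ) (@Bool.rec (fun _ => ℕ) (@Bool.rec (fun _ => ℕ) fb552 fb553 (Nat.ble (nat_lit 553) i)) (@Bool.rec (fun _ => ℕ) fb554 fb555 (Nat.ble (nat_lit 555) i)) (Nat.ble (nat_lit 554) i)) (@Bool.rec (fun _ => ℕ) (@Bool.rec (fun _ => ℕ) fb556 fb557 (Nat.ble (nat_lit 557) i)) (@Bool.rec (fun _ => ℕ) fb558 fb559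 (Nat.ble (nat_lit 559) i)) (Nat.ble (nat_lit 558) i)) (Nat.ble (nat_lit 556) i)) (Nat.ble (nat_lit 552) i)) (@Bool.rec (fun _ => ℕ) (@Bool.rec (fun _ => ℕ) (@Bool.rec (fun _ => ℕ) (@Bool.rec (fun _ => ℕ) fb560 fb561 (Nat.ble (nat_lit 561) i)) (@Bool.rec (fun _ => ℕ) fb562 fb563 (Nat.ble (nat_lit 563) i)) (Nat.ble (nat_lit 562) i)) (@Bool.rec (fun _ => ℕ) (@Bool.rec (fun _ => ℕ) fb564 fb565 (Nat.ble (nat_lit 565) i)) (@Bool.rec (fun _ => ℕ) fb566 fb567 (Nat.ble (nat_lit 567) i)) (Nat.ble (nat_lit 566) i)) (Nat.ble (nat_lit 564) i)) (@Bool.rec (fun _ => ℕ) (@Bool.rec (fun _ => ℕ) (@Bool.rec (fun _ => ℕ) fb568 fb569 (Nat.ble (nat_lit 569) i)) (@Bool.rec (fun _ => ℕ) fb570 fb571 (Nat.ble (nat_lit 571) i)) (Nat.ble (nat_lit 570) i)) (@Bool.rec (fun _ => ℕ) (@Bool.rec (fun _ => ℕ) fb572 fb573 (Nat.ble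 (nat_lit 573) i)) (@Bool.rec (fun _ => ℕ) fb574 fb575 (Nat.ble (nat_lit 575) i)) (Nat.ble (nat_lit 574) i)) (Nat.ble (nat_lit 572) i)) (Nat.ble (nat_lit 568) i)) (Nat.ble (nat_lit 560) i))

def factBlk_n0_18 (i : ℕ) : ℕ := (@Bool.rec (fun _ => ℕ) (@Bool.rec (fun _ => ℕ) (@Bool.rec (fun _ => ℕ) (@Bool.rec (fun _ => ℕ) (@Bool.rec (fun _ => ℕ) fb576 fb577 (Nat.ble (nat_lit 577) i)) (@Bool.rec (fun _ => ℕ) fb578 fb579 (Nat.ble (nat_lit 579) i)) (Nat.ble (nat_lit 578) i)) (@Bool.rec (fun _ => ℕ) (@Bool.rec (fun _ => ℕ) fb580 fb581 (Nat.ble (nat_lit 581) i)) (@Bool.rec (fun _ => ℕ) fb582 fb583 (Nat.ble (nat_lit 583) i)) (Nat.ble (nat_lit 582) i)) (Nat.ble (nat_lit 580) i)) (@Bool.rec (fun _ => ℕ) (@Bool.rec (fun _ => ℕ) (@Bool.rec (fun _ => ℕ) fb584 fb585 (Nat.ble (nat_lit 585) i)) (@Bool.rec (fun _ =>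 ℕ) fb586 fb587 (Nat.ble (nat_lit 587) i)) (Nat.ble (nat_lit 586) i)) (@Bool.rec (fun _ => ℕ) (@Bool.rec (fun _ => ℕ) fb588 fb589 (Nat.ble (nat_lit 589) i)) (@Bool.rec (fun _ => ℕ) fb590 fb591 (Nat.ble (nat_lit 591) i)) (Nat.ble (nat_lit 590) i)) (Nat.ble (nat_lit 588) i)) (Nat.ble (nat_lit 584) i)) (@Bool.rec (fun _ => ℕ) (@Bool.rec (fun _ => ℕ) (@Bool.rec (fun _ => ℕ) (@Bool.rec (fun _ => ℕ) fb592 fb593 (Nat.ble (nat_lit 593) i)) (@Bool.rec (fun _ => ℕ) fb594 fb595 (Nat.ble (nat_lit 595) i)) (Nat.ble (nat_lit 594) i)) (@Bool.rec (fun _ => ℕ) (@Bool.rec (fun _ => ℕ) fb596 fb597 (Nat.ble (nat_lit 597) i)) (@Bool.rec (fun _ => ℕ) fb598 fb599 (Nat.ble (nat_lit 599) i)) (Nat.ble (nat_lit 598) i)) (Nat.ble (nat_lit 596) i)) (@Bool.rec (fun _ => ℕ) (@Bool.rec (fun _ => ℕ) (@Bool.rec (fun _ => ℕ) fb600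 fb601 (Nat.ble (nat_lit 601) i)) (@Bool.rec (fun _ => ℕ) fb602 fb603 (Nat.ble (nat_lit 603) i)) (Nat.ble (nat_lit 602) i)) (@Bool.rec (fun _ => ℕ) (@Bool.rec (fun _ => ℕ) fb604 fb605 (Nat.ble (nat_lit 605) i)) (@Bool.rec (fun _ => ℕ) fb606 fb607 (Nat.ble (nat_lit 607) i)) (Nat.ble (nat_lit 606) i)) (Nat.ble (nat_lit 604) i)) (Nat.ble (nat_lit 600) i)) (Nat.ble (nat_lit 592) i))

def factBlk_n0_19 (i : ℕ) : ℕ := (@Bool.rec (fun _ => ℕ) (@Bool.rec (fun _ => ℕ) (@Bool.rec (fun _ => ℕ) (@Bool.rec (fun _ => ℕ) (@Bool.rec (fun _ => ℕ) fb608 fb609 (Nat.ble (nat_lit 609) i)) (@Bool.rec (fun _ => ℕ) fb610 fb611 (Nat.ble (nat_lit 611) i)) (Nat.ble (nat_lit 610) i)) (@Bool.rec (fun _ => ℕ) (@Bool.rec (fun _ => ℕ) fb612 fb613 (Nat.ble (nat_lit 613) i)) (@Bool.rec (fun _ => ℕ) fb614 fb615 (Nat.ble (nat_lit 615)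 i)) (Nat.ble (nat_lit 614) i)) (Nat.ble (nat_lit 612) i)) (@Bool.rec (fun _ => ℕ) (@Bool.rec (fun _ => ℕ) (@Bool.rec (fun _ => ℕ) fb616 fb617 (Nat.ble (nat_lit 617) i)) (@Bool.rec (fun _ => ℕ) fb618 fb619 (Nat.ble (nat_lit 619) i)) (Nat.ble (nat_lit 618) i)) (@Bool.rec (fun _ => ℕ) (@Bool.rec (fun _ => ℕ) fb620 fb621 (Nat.ble (nat_lit 621) i)) (@Bool.rec (fun _ => ℕ) fb622 fb623 (Nat.ble (nat_lit 623) i)) (Nat.ble (nat_lit 622) i)) (Nat.ble (nat_lit 620) i)) (Nat.ble (nat_lit 616) i)) (@Bool.rec (fun _ => ℕ) (@Bool.rec (fun _ => ℕ) (@Bool.rec (fun _ => ℕ) (@Bool.rec (fun _ => ℕ) fb624 fb625 (Nat.ble (nat_lit 625) i)) (@Bool.rec (fun _ => ℕ) fb626 fb627 (Nat.ble (nat_lit 627) i)) (Nat.ble (nat_lit 626) i)) (@Bool.rec (fun _ => ℕ) (@Bool.rec (fun _ => ℕ) fb628 fb629 (Nat.ble (nat_lit 629) i)) (@Bool.rec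 (fun _ => ℕ) fb630 fb631 (Nat.ble (nat_lit 631) i)) (Nat.ble (nat_lit 630) i)) (Nat.ble (nat_lit 628) i)) (@Bool.rec (fun _ => ℕ) (@Bool.rec (fun _ => ℕ) (@Bool.rec (fun _ => ℕ) fb632 fb633 (Nat.ble (nat_lit 633) i)) (@Bool.rec (fun _ => ℕ) fb634 fb635 (Nat.ble (nat_lit 635) i)) (Nat.ble (nat_lit 634) i)) (@Bool.rec (fun _ => ℕ) (@Bool.rec (fun _ => ℕ) fb636 fb637 (Nat.ble (nat_lit 637) i)) (@Bool.rec (fun _ => ℕ) fb638 fb639 (Nat.ble (nat_lit 639) i)) (Nat.ble (nat_lit 638) i)) (Nat.ble (nat_lit 636) i)) (Nat.ble (nat_lit 632) i)) (Nat.ble (nat_lit 624) i))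

def factBlk_n0_20 (i : ℕ) : ℕ := (@Bool.rec (fun _ => ℕ) (@Bool.rec (fun _ => ℕ) (@Bool.rec (fun _ => ℕ) (@Bool.rec (fun _ => ℕ) (@Bool.rec (fun _ => ℕ) fb640 fb641 (Nat.ble (nat_lit 641) i)) (@Bool.rec (fun _ => ℕ) fb642 fb643 (Nat.ble (nat_lit 643) i)) (Nat.ble (nat_lit 642) i)) (@Bool.rec (fun _ => ℕ) (@Bool.rec (fun _ => ℕ) fb644 fb645 (Nat.ble (nat_lit 645) i)) (@Bool.rec (fun _ => ℕ) fb646 fb647 (Nat.ble (nat_lit 647) i)) (Nat.ble (nat_lit 646) i)) (Nat.ble (nat_lit 644) i)) (@Bool.rec (fun _ => ℕ) (@Bool.rec (fun _ => ℕ) (@Bool.rec (fun _ => ℕ) fb648 fb649 (Nat.ble (nat_lit 649) i)) (@Bool.rec (fun _ => ℕ) fb650 fb651 (Nat.ble (nat_lit 651) i)) (Nat.ble (nat_lit 650) i)) (@Bool.rec (fun _ => ℕ) (@Bool.rec (fun _ => ℕ) fb652 fb653 (Nat.ble (nat_lit 653) i)) (@Bool.rec (fun _ => ℕ) fb654 fb655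 (Nat.ble (nat_lit 655) i)) (Nat.ble (nat_lit 654) i)) (Nat.ble (nat_lit 652) i)) (Nat.ble (nat_lit 648) i)) (@Bool.rec (fun _ => ℕ) (@Bool.rec (fun _ => ℕ) (@Bool.rec (fun _ => ℕ) (@Bool.rec (fun _ => ℕ) fb656 fb657 (Nat.ble (nat_lit 657) i)) (@Bool.rec (fun _ => ℕ) fb658 fb659 (Nat.ble (nat_lit 659) i)) (Nat.ble (nat_lit 658) i)) (@Bool.rec (fun _ => ℕ) (@Bool.rec (fun _ => ℕ) fb660 fb661 (Nat.ble (nat_lit 661) i)) (@Bool.rec (fun _ => ℕ) fb662 fb663 (Nat.ble (nat_lit 663) i)) (Nat.ble (nat_lit 662) i)) (Nat.ble (nat_lit 660) i)) (@Bool.rec (fun _ => ℕ) (@Bool.rec (fun _ => ℕ) (@Bool.rec (fun _ => ℕ) fb664 fb665 (Nat.ble (nat_lit 665) i)) (@Bool.rec (fun _ => ℕ) fb666 fb667 (Nat.ble (nat_lit 667) i)) (Nat.ble (nat_lit 666) i)) (@Bool.rec (fun _ => ℕ) (@Bool.rec (fun _ => ℕ) fb668 fb669 (Nat.ble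 (nat_lit 669) i)) (@Bool.rec (fun _ => ℕ) fb670 fb671 (Nat.ble (nat_lit 671) i)) (Nat.ble (nat_lit 670) i)) (Nat.ble (nat_lit 668) i)) (Nat.ble (nat_lit 664) i)) (Nat.ble (nat_lit 656) i))

def factBlk_n0_21 (i : ℕ) : ℕ := (@Bool.rec (fun _ => ℕ) (@Bool.rec (fun _ => ℕ) (@Bool.rec (fun _ => ℕ) (@Bool.rec (fun _ => ℕ) (@Bool.rec (fun _ => ℕ) fb672 fb673 (Nat.ble (nat_lit 673) i)) (@Bool.rec (fun _ => ℕ) fb674 fb675 (Nat.ble (nat_lit 675) i)) (Nat.ble (nat_lit 674) i)) (@Bool.rec (fun _ => ℕ) (@Bool.rec (fun _ => ℕ) fb676 fb677 (Nat.ble (nat_lit 677) i)) (@Bool.rec (fun _ => ℕ) fb678 fb679 (Nat.ble (nat_lit 679) i)) (Nat.ble (nat_lit 678) i)) (Nat.ble (nat_lit 676) i)) (@Bool.rec (fun _ => ℕ) (@Bool.rec (fun _ => ℕ) (@Bool.rec (fun _ => ℕ) fb680 fb681 (Nat.ble (nat_lit 681) i)) (@Bool.rec (fun _ =>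 ℕ) fb682 fb683 (Nat.ble (nat_lit 683) i)) (Nat.ble (nat_lit 682) i)) (@Bool.rec (fun _ => ℕ) (@Bool.rec (fun _ => ℕ) fb684 fb685 (Nat.ble (nat_lit 685) i)) (@Bool.rec (fun _ => ℕ) fb686 fb687 (Nat.ble (nat_lit 687) i)) (Nat.ble (nat_lit 686) i)) (Nat.ble (nat_lit 684) i)) (Nat.ble (nat_lit 680) i)) (@Bool.rec (fun _ => ℕ) (@Bool.rec (fun _ => ℕ) (@Bool.rec (fun _ => ℕ) (@Bool.rec (fun _ => ℕ) fb688 fb689 (Nat.ble (nat_lit 689) i)) (@Bool.rec (fun _ => ℕ) fb690 fb691 (Nat.ble (nat_lit 691) i)) (Nat.ble (nat_lit 690) i)) (@Bool.rec (fun _ => ℕ) (@Bool.rec (fun _ => ℕ) fb692 fb693 (Nat.ble (nat_lit 693) i)) (@Bool.rec (fun _ => ℕ) fb694 fb695 (Nat.ble (nat_lit 695) i)) (Nat.ble (nat_lit 694) i)) (Nat.ble (nat_lit 692) i)) (@Bool.rec (fun _ => ℕ) (@Bool.rec (fun _ => ℕ) (@Bool.rec (fun _ => ℕ) fb696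 fb697 (Nat.ble (nat_lit 697) i)) (@Bool.rec (fun _ => ℕ) fb698 fb699 (Nat.ble (nat_lit 699) i)) (Nat.ble (nat_lit 698) i)) (@Bool.rec (fun _ => ℕ) (@Bool.rec (fun _ => ℕ) fb700 fb701 (Nat.ble (nat_lit 701) i)) (@Bool.rec (fun _ => ℕ) fb702 fb703 (Nat.ble (nat_lit 703) i)) (Nat.ble (nat_lit 702) i)) (Nat.ble (nat_lit 700) i)) (Nat.ble (nat_lit 696) i)) (Nat.ble (nat_lit 688) i))

def factBlk_n0_22 (i : ℕ) : ℕ := (@Bool.rec (fun _ => ℕ) (@Bool.rec (fun _ => ℕ) (@Bool.rec (fun _ => ℕ) (@Bool.rec (fun _ => ℕ) (@Bool.rec (fun _ => ℕ) fb704 fb705 (Nat.ble (nat_lit 705) i)) (@Bool.rec (fun _ => ℕ) fb706 fb707 (Nat.ble (nat_lit 707) i)) (Nat.ble (nat_lit 706) i)) (@Bool.rec (fun _ => ℕ) (@Bool.rec (fun _ => ℕ) fb708 fb709 (Nat.ble (nat_lit 709) i)) (@Bool.rec (fun _ => ℕ) fb710 fb711 (Nat.ble (nat_lit 711)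 i)) (Nat.ble (nat_lit 710) i)) (Nat.ble (nat_lit 708) i)) (@Bool.rec (fun _ => ℕ) (@Bool.rec (fun _ => ℕ) (@Bool.rec (fun _ => ℕ) fb712 fb713 (Nat.ble (nat_lit 713) i)) (@Bool.rec (fun _ => ℕ) fb714 fb715 (Nat.ble (nat_lit 715) i)) (Nat.ble (nat_lit 714) i)) (@Bool.rec (fun _ => ℕ) (@Bool.rec (fun _ => ℕ) fb716 fb717 (Nat.ble (nat_lit 717) i)) (@Bool.rec (fun _ => ℕ) fb718 fb719 (Nat.ble (nat_lit 719) i)) (Nat.ble (nat_lit 718) i)) (Nat.ble (nat_lit 716) i)) (Nat.ble (nat_lit 712) i)) (@Bool.rec (fun _ => ℕ) (@Bool.rec (fun _ => ℕ) (@Bool.rec (fun _ => ℕ) (@Bool.rec (fun _ => ℕ) fb720 fb721 (Nat.ble (nat_lit 721) i)) (@Bool.rec (fun _ => ℕ) fb722 fb723 (Nat.ble (nat_lit 723) i)) (Nat.ble (nat_lit 722) i)) (@Bool.rec (fun _ => ℕ) (@Bool.rec (fun _ => ℕ) fb724 fb725 (Nat.ble (nat_lit 725) i)) (@Bool.rec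 (fun _ => ℕ) fb726 fb727 (Nat.ble (nat_lit 727) i)) (Nat.ble (nat_lit 726) i)) (Nat.ble (nat_lit 724) i)) (@Bool.rec (fun _ => ℕ) (@Bool.rec (fun _ => ℕ) (@Bool.rec (fun _ => ℕ) fb728 fb729 (Nat.ble (nat_lit 729) i)) (@Bool.rec (fun _ => ℕ) fb730 fb731 (Nat.ble (nat_lit 731) i)) (Nat.ble (nat_lit 730) i)) (@Bool.rec (fun _ => ℕ) (@Bool.rec (fun _ => ℕ) fb732 fb733 (Nat.ble (nat_lit 733) i)) (@Bool.rec (fun _ => ℕ) fb734 fb735 (Nat.ble (nat_lit 735) i)) (Nat.ble (nat_lit 734) i)) (Nat.ble (nat_lit 732) i)) (Nat.ble (nat_lit 728) i)) (Nat.ble (nat_lit 720) i))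

def factBlk_n0_23 (i : ℕ) : ℕ := (@Bool.rec (fun _ => ℕ) (@Bool.rec (fun _ => ℕ) (@Bool.rec (fun _ => ℕ) (@Bool.rec (fun _ => ℕ) (@Bool.rec (fun _ => ℕ) fb736 fb737 (Nat.ble (nat_lit 737) i)) (@Bool.rec (fun _ => ℕ) fb738 fb739 (Nat.ble (nat_lit 739) i)) (Nat.ble (nat_lit 738) i)) (@Bool.rec (fun _ => ℕ) (@Bool.rec (fun _ => ℕ) fb740 fb741 (Nat.ble (nat_lit 741) i)) (@Bool.rec (fun _ => ℕ) fb742 fb743 (Nat.ble (nat_lit 743) i)) (Nat.ble (nat_lit 742) i)) (Nat.ble (nat_lit 740) i)) (@Bool.rec (fun _ => ℕ) (@Bool.rec (fun _ => ℕ) (@Bool.rec (fun _ => ℕ) fb744 fb745 (Nat.ble (nat_lit 745) i)) (@Bool.rec (fun _ => ℕ) fb746 fb747 (Nat.ble (nat_lit 747) i)) (Nat.ble (nat_lit 746) i)) (@Bool.rec (fun _ => ℕ) (@Bool.rec (fun _ => ℕ) fb748 fb749 (Nat.ble (nat_lit 749) i)) (@Bool.rec (fun _ => ℕ) fb750 fb751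 (Nat.ble (nat_lit 751) i)) (Nat.ble (nat_lit 750) i)) (Nat.ble (nat_lit 748) i)) (Nat.ble (nat_lit 744) i)) (@Bool.rec (fun _ => ℕ) (@Bool.rec (fun _ => ℕ) (@Bool.rec (fun _ => ℕ) (@Bool.rec (fun _ => ℕ) fb752 fb753 (Nat.ble (nat_lit 753) i)) (@Bool.rec (fun _ => ℕ) fb754 fb755 (Nat.ble (nat_lit 755) i)) (Nat.ble (nat_lit 754) i)) (@Bool.rec (fun _ => ℕ) (@Bool.rec (fun _ => ℕ) fb756 fb757 (Nat.ble (nat_lit 757) i)) (@Bool.rec (fun _ => ℕ) fb758 fb759 (Nat.ble (nat_lit 759) i)) (Nat.ble (nat_lit 758) i)) (Nat.ble (nat_lit 756) i)) (@Bool.rec (fun _ => ℕ) (@Bool.rec (fun _ => ℕ) (@Bool.rec (fun _ => ℕ) fb760 fb761 (Nat.ble (nat_lit 761) i)) (@Bool.rec (fun _ => ℕ) fb762 fb763 (Nat.ble (nat_lit 763) i)) (Nat.ble (nat_lit 762) i)) (@Bool.rec (fun _ => ℕ) (@Bool.rec (fun _ => ℕ) fb764 fb765 (Nat.ble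 (nat_lit 765) i)) (@Bool.rec (fun _ => ℕ) fb766 fb767 (Nat.ble (nat_lit 767) i)) (Nat.ble (nat_lit 766) i)) (Nat.ble (nat_lit 764) i)) (Nat.ble (nat_lit 760) i)) (Nat.ble (nat_lit 752) i))

def factBlk_n0_24 (i : ℕ) : ℕ := (@Bool.rec (fun _ => ℕ) (@Bool.rec (fun _ => ℕ) (@Bool.rec (fun _ => ℕ) (@Bool.rec (fun _ => ℕ) (@Bool.rec (fun _ => ℕ) fb768 fb769 (Nat.ble (nat_lit 769) i)) (@Bool.rec (fun _ => ℕ) fb770 fb771 (Nat.ble (nat_lit 771) i)) (Nat.ble (nat_lit 770) i)) (@Bool.rec (fun _ => ℕ) (@Bool.rec (fun _ => ℕ) fb772 fb773 (Nat.ble (nat_lit 773) i)) (@Bool.rec (fun _ => ℕ) fb774 fb775 (Nat.ble (nat_lit 775) i)) (Nat.ble (nat_lit 774) i)) (Nat.ble (nat_lit 772) i)) (@Bool.rec (fun _ => ℕ) (@Bool.rec (fun _ => ℕ) (@Bool.rec (fun _ => ℕ) fb776 fb777 (Nat.ble (nat_lit 777) i)) (@Bool.rec (fun _ =>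 ℕ) fb778 fb779 (Nat.ble (nat_lit 779) i)) (Nat.ble (nat_lit 778) i)) (@Bool.rec (fun _ => ℕ) (@Bool.rec (fun _ => ℕ) fb780 fb781 (Nat.ble (nat_lit 781) i)) (@Bool.rec (fun _ => ℕ) fb782 fb783 (Nat.ble (nat_lit 783) i)) (Nat.ble (nat_lit 782) i)) (Nat.ble (nat_lit 780) i)) (Nat.ble (nat_lit 776) i)) (@Bool.rec (fun _ => ℕ) (@Bool.rec (fun _ => ℕ) (@Bool.rec (fun _ => ℕ) (@Bool.rec (fun _ => ℕ) fb784 fb785 (Nat.ble (nat_lit 785) i)) (@Bool.rec (fun _ => ℕ) fb786 fb787 (Nat.ble (nat_lit 787) i)) (Nat.ble (nat_lit 786) i)) (@Bool.rec (fun _ => ℕ) (@Bool.rec (fun _ => ℕ) fb788 fb789 (Nat.ble (nat_lit 789) i)) (@Bool.rec (fun _ => ℕ) fb790 fb791 (Nat.ble (nat_lit 791) i)) (Nat.ble (nat_lit 790) i)) (Nat.ble (nat_lit 788) i)) (@Bool.rec (fun _ => ℕ) (@Bool.rec (fun _ => ℕ) (@Bool.rec (fun _ => ℕ) fb792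 fb793 (Nat.ble (nat_lit 793) i)) (@Bool.rec (fun _ => ℕ) fb794 fb795 (Nat.ble (nat_lit 795) i)) (Nat.ble (nat_lit 794) i)) (@Bool.rec (fun _ => ℕ) (@Bool.rec (fun _ => ℕ) fb796 fb797 (Nat.ble (nat_lit 797) i)) (@Bool.rec (fun _ => ℕ) fb798 fb799 (Nat.ble (nat_lit 799) i)) (Nat.ble (nat_lit 798) i)) (Nat.ble (nat_lit 796) i)) (Nat.ble (nat_lit 792) i)) (Nat.ble (nat_lit 784) i))

def factBlk_n0_25 (i : ℕ) : ℕ := (@Bool.rec (fun _ => ℕ) (@Bool.rec (fun _ => ℕ) (@Bool.rec (fun _ => ℕ) (@Bool.rec (fun _ => ℕ) (@Bool.rec (fun _ => ℕ) fb800 fb801 (Nat.ble (nat_lit 801) i)) (@Bool.rec (fun _ => ℕ) fb802 fb803 (Nat.ble (nat_lit 803) i)) (Nat.ble (nat_lit 802) i)) (@Bool.rec (fun _ => ℕ) (@Bool.rec (fun _ => ℕ) fb804 fb805 (Nat.ble (nat_lit 805) i)) (@Bool.rec (fun _ => ℕ) fb806 fb807 (Nat.ble (nat_lit 807)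 i)) (Nat.ble (nat_lit 806) i)) (Nat.ble (nat_lit 804) i)) (@Bool.rec (fun _ => ℕ) (@Bool.rec (fun _ => ℕ) (@Bool.rec (fun _ => ℕ) fb808 fb809 (Nat.ble (nat_lit 809) i)) (@Bool.rec (fun _ => ℕ) fb810 fb811 (Nat.ble (nat_lit 811) i)) (Nat.ble (nat_lit 810) i)) (@Bool.rec (fun _ => ℕ) (@Bool.rec (fun _ => ℕ) fb812 fb813 (Nat.ble (nat_lit 813) i)) (@Bool.rec (fun _ => ℕ) fb814 fb815 (Nat.ble (nat_lit 815) i)) (Nat.ble (nat_lit 814) i)) (Nat.ble (nat_lit 812) i)) (Nat.ble (nat_lit 808) i)) (@Bool.rec (fun _ => ℕ) (@Bool.rec (fun _ => ℕ) (@Bool.rec (fun _ => ℕ) (@Bool.rec (fun _ => ℕ) fb816 fb817 (Nat.ble (nat_lit 817) i)) (@Bool.rec (fun _ => ℕ) fb818 fb819 (Nat.ble (nat_lit 819) i)) (Nat.ble (nat_lit 818) i)) (@Bool.rec (fun _ => ℕ) (@Bool.rec (fun _ => ℕ) fb820 fb821 (Nat.ble (nat_lit 821) i)) (@Bool.rec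 (fun _ => ℕ) fb822 fb823 (Nat.ble (nat_lit 823) i)) (Nat.ble (nat_lit 822) i)) (Nat.ble (nat_lit 820) i)) (@Bool.rec (fun _ => ℕ) (@Bool.rec (fun _ => ℕ) (@Bool.rec (fun _ => ℕ) fb824 fb825 (Nat.ble (nat_lit 825) i)) (@Bool.rec (fun _ => ℕ) fb826 fb827 (Nat.ble (nat_lit 827) i)) (Nat.ble (nat_lit 826) i)) (@Bool.rec (fun _ => ℕ) (@Bool.rec (fun _ => ℕ) fb828 fb829 (Nat.ble (nat_lit 829) i)) (@Bool.rec (fun _ => ℕ) fb830 fb831 (Nat.ble (nat_lit 831) i)) (Nat.ble (nat_lit 830) i)) (Nat.ble (nat_lit 828) i)) (Nat.ble (nat_lit 824) i)) (Nat.ble (nat_lit 816) i))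

def factBlk_n0_26 (i : ℕ) : ℕ := (@Bool.rec (fun _ => ℕ) (@Bool.rec (fun _ => ℕ) (@Bool.rec (fun _ => ℕ) (@Bool.rec (fun _ => ℕ) (@Bool.rec (fun _ => ℕ) fb832 fb833 (Nat.ble (nat_lit 833) i)) (@Bool.rec (fun _ => ℕ) fb834 fb835 (Nat.ble (nat_lit 835) i)) (Nat.ble (nat_lit 834) i)) (@Bool.rec (fun _ => ℕ) (@Bool.rec (fun _ => ℕ) fb836 fb837 (Nat.ble (nat_lit 837) i)) (@Bool.rec (fun _ => ℕ) fb838 fb839 (Nat.ble (nat_lit 839) i)) (Nat.ble (nat_lit 838) i)) (Nat.ble (nat_lit 836) i)) (@Bool.rec (fun _ => ℕ) (@Bool.rec (fun _ => ℕ) (@Bool.rec (fun _ => ℕ) fb840 fb841 (Nat.ble (nat_lit 841) i)) (@Bool.rec (fun _ => ℕ) fb842 fb843 (Nat.ble (nat_lit 843) i)) (Nat.ble (nat_lit 842) i)) (@Bool.rec (fun _ => ℕ) (@Bool.rec (fun _ => ℕ) fb844 fb845 (Nat.ble (nat_lit 845) i)) (@Bool.rec (fun _ => ℕ) fb846 fb847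 (Nat.ble (nat_lit 847) i)) (Nat.ble (nat_lit 846) i)) (Nat.ble (nat_lit 844) i)) (Nat.ble (nat_lit 840) i)) (@Bool.rec (fun _ => ℕ) (@Bool.rec (fun _ => ℕ) (@Bool.rec (fun _ => ℕ) (@Bool.rec (fun _ => ℕ) fb848 fb849 (Nat.ble (nat_lit 849) i)) (@Bool.rec (fun _ => ℕ) fb850 fb851 (Nat.ble (nat_lit 851) i)) (Nat.ble (nat_lit 850) i)) (@Bool.rec (fun _ => ℕ) (@Bool.rec (fun _ => ℕ) fb852 fb853 (Nat.ble (nat_lit 853) i)) (@Bool.rec (fun _ => ℕ) fb854 fb855 (Nat.ble (nat_lit 855) i)) (Nat.ble (nat_lit 854) i)) (Nat.ble (nat_lit 852) i)) (@Bool.rec (fun _ => ℕ) (@Bool.rec (fun _ => ℕ) (@Bool.rec (fun _ => ℕ) fb856 fb857 (Nat.ble (nat_lit 857) i)) (@Bool.rec (fun _ => ℕ) fb858 fb859 (Nat.ble (nat_lit 859) i)) (Nat.ble (nat_lit 858) i)) (@Bool.rec (fun _ => ℕ) (@Bool.rec (fun _ => ℕ) fb860 fb861 (Nat.ble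 (nat_lit 861) i)) (@Bool.rec (fun _ => ℕ) fb862 fb863 (Nat.ble (nat_lit 863) i)) (Nat.ble (nat_lit 862) i)) (Nat.ble (nat_lit 860) i)) (Nat.ble (nat_lit 856) i)) (Nat.ble (nat_lit 848) i))

def factBlk_n0_27 (i : ℕ) : ℕ := (@Bool.rec (fun _ => ℕ) (@Bool.rec (fun _ => ℕ) (@Bool.rec (fun _ => ℕ) (@Bool.rec (fun _ => ℕ) (@Bool.rec (fun _ => ℕ) fb864 fb865 (Nat.ble (nat_lit 865) i)) (@Bool.rec (fun _ => ℕ) fb866 fb867 (Nat.ble (nat_lit 867) i)) (Nat.ble (nat_lit 866) i)) (@Bool.rec (fun _ => ℕ) (@Bool.rec (fun _ => ℕ) fb868 fb869 (Nat.ble (nat_lit 869) i)) (@Bool.rec (fun _ => ℕ) fb870 fb871 (Nat.ble (nat_lit 871) i)) (Nat.ble (nat_lit 870) i)) (Nat.ble (nat_lit 868) i)) (@Bool.rec (fun _ => ℕ) (@Bool.rec (fun _ => ℕ) (@Bool.rec (fun _ => ℕ) fb872 fb873 (Nat.ble (nat_lit 873) i)) (@Bool.rec (fun _ =>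 ℕ) fb874 fb875 (Nat.ble (nat_lit 875) i)) (Nat.ble (nat_lit 874) i)) (@Bool.rec (fun _ => ℕ) (@Bool.rec (fun _ => ℕ) fb876 fb877 (Nat.ble (nat_lit 877) i)) (@Bool.rec (fun _ => ℕ) fb878 fb879 (Nat.ble (nat_lit 879) i)) (Nat.ble (nat_lit 878) i)) (Nat.ble (nat_lit 876) i)) (Nat.ble (nat_lit 872) i)) (@Bool.rec (fun _ => ℕ) (@Bool.rec (fun _ => ℕ) (@Bool.rec (fun _ => ℕ) (@Bool.rec (fun _ => ℕ) fb880 fb881 (Nat.ble (nat_lit 881) i)) (@Bool.rec (fun _ => ℕ) fb882 fb883 (Nat.ble (nat_lit 883) i)) (Nat.ble (nat_lit 882) i)) (@Bool.rec (fun _ => ℕ) (@Bool.rec (fun _ => ℕ) fb884 fb885 (Nat.ble (nat_lit 885) i)) (@Bool.rec (fun _ => ℕ) fb886 fb887 (Nat.ble (nat_lit 887) i)) (Nat.ble (nat_lit 886) i)) (Nat.ble (nat_lit 884) i)) (@Bool.rec (fun _ => ℕ) (@Bool.rec (fun _ => ℕ) (@Bool.rec (fun _ => ℕ) fb888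 fb889 (Nat.ble (nat_lit 889) i)) (@Bool.rec (fun _ => ℕ) fb890 fb891 (Nat.ble (nat_lit 891) i)) (Nat.ble (nat_lit 890) i)) (@Bool.rec (fun _ => ℕ) (@Bool.rec (fun _ => ℕ) fb892 fb893 (Nat.ble (nat_lit 893) i)) (@Bool.rec (fun _ => ℕ) fb894 fb895 (Nat.ble (nat_lit 895) i)) (Nat.ble (nat_lit 894) i)) (Nat.ble (nat_lit 892) i)) (Nat.ble (nat_lit 888) i)) (Nat.ble (nat_lit 880) i))

def factBlk_n0_28 (i : ℕ) : ℕ := (@Bool.rec (fun _ => ℕ) (@Bool.rec (fun _ => ℕ) (@Bool.rec (fun _ => ℕ) (@Bool.rec (fun _ => ℕ) (@Bool.rec (fun _ => ℕ) fb896 fb897 (Nat.ble (nat_lit 897) i)) (@Bool.rec (fun _ => ℕ) fb898 fb899 (Nat.ble (nat_lit 899) i)) (Nat.ble (nat_lit 898) i)) (@Bool.rec (fun _ => ℕ) (@Bool.rec (fun _ => ℕ) fb900 fb901 (Nat.ble (nat_lit 901) i)) (@Bool.rec (fun _ => ℕ) fb902 fb903 (Nat.ble (nat_lit 903)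 i)) (Nat.ble (nat_lit 902) i)) (Nat.ble (nat_lit 900) i)) (@Bool.rec (fun _ => ℕ) (@Bool.rec (fun _ => ℕ) (@Bool.rec (fun _ => ℕ) fb904 fb905 (Nat.ble (nat_lit 905) i)) (@Bool.rec (fun _ => ℕ) fb906 fb907 (Nat.ble (nat_lit 907) i)) (Nat.ble (nat_lit 906) i)) (@Bool.rec (fun _ => ℕ) (@Bool.rec (fun _ => ℕ) fb908 fb909 (Nat.ble (nat_lit 909) i)) (@Bool.rec (fun _ => ℕ) fb910 fb911 (Nat.ble (nat_lit 911) i)) (Nat.ble (nat_lit 910) i)) (Nat.ble (nat_lit 908) i)) (Nat.ble (nat_lit 904) i)) (@Bool.rec (fun _ => ℕ) (@Bool.rec (fun _ => ℕ) (@Bool.rec (fun _ => ℕ) (@Bool.rec (fun _ => ℕ) fb912 fb913 (Nat.ble (nat_lit 913) i)) (@Bool.rec (fun _ => ℕ) fb914 fb915 (Nat.ble (nat_lit 915) i)) (Nat.ble (nat_lit 914) i)) (@Bool.rec (fun _ => ℕ) (@Bool.rec (fun _ => ℕ) fb916 fb917 (Nat.ble (nat_lit 917) i)) (@Bool.rec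 (fun _ => ℕ) fb918 fb919 (Nat.ble (nat_lit 919) i)) (Nat.ble (nat_lit 918) i)) (Nat.ble (nat_lit 916) i)) (@Bool.rec (fun _ => ℕ) (@Bool.rec (fun _ => ℕ) (@Bool.rec (fun _ => ℕ) fb920 fb921 (Nat.ble (nat_lit 921) i)) (@Bool.rec (fun _ => ℕ) fb922 fb923 (Nat.ble (nat_lit 923) i)) (Nat.ble (nat_lit 922) i)) (@Bool.rec (fun _ => ℕ) (@Bool.rec (fun _ => ℕ) fb924 fb925 (Nat.ble (nat_lit 925) i)) (@Bool.rec (fun _ => ℕ) fb926 fb927 (Nat.ble (nat_lit 927) i)) (Nat.ble (nat_lit 926) i)) (Nat.ble (nat_lit 924) i)) (Nat.ble (nat_lit 920) i)) (Nat.ble (nat_lit 912) i))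

def factBlk_n0_29 (i : ℕ) : ℕ := (@Bool.rec (fun _ => ℕ) (@Bool.rec (fun _ => ℕ) (@Bool.rec (fun _ => ℕ) (@Bool.rec (fun _ => ℕ) (@Bool.rec (fun _ => ℕ) fb928 fb929 (Nat.ble (nat_lit 929) i)) (@Bool.rec (fun _ => ℕ) fb930 fb931 (Nat.ble (nat_lit 931) i)) (Nat.ble (nat_lit 930) i)) (@Bool.rec (fun _ => ℕ) (@Bool.rec (fun _ => ℕ) fb932 fb933 (Nat.ble (nat_lit 933) i)) (@Bool.rec (fun _ => ℕ) fb934 fb935 (Nat.ble (nat_lit 935) i)) (Nat.ble (nat_lit 934) i)) (Nat.ble (nat_lit 932) i)) (@Bool.rec (fun _ => ℕ) (@Bool.rec (fun _ => ℕ) (@Bool.rec (fun _ => ℕ) fb936 fb937 (Nat.ble (nat_lit 937) i)) (@Bool.rec (fun _ => ℕ) fb938 fb939 (Nat.ble (nat_lit 939) i)) (Nat.ble (nat_lit 938) i)) (@Bool.rec (fun _ => ℕ) (@Bool.rec (fun _ => ℕ) fb940 fb941 (Nat.ble (nat_lit 941) i)) (@Bool.rec (fun _ => ℕ) fb942 fb943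 (Nat.ble (nat_lit 943) i)) (Nat.ble (nat_lit 942) i)) (Nat.ble (nat_lit 940) i)) (Nat.ble (nat_lit 936) i)) (@Bool.rec (fun _ => ℕ) (@Bool.rec (fun _ => ℕ) (@Bool.rec (fun _ => ℕ) (@Bool.rec (fun _ => ℕ) fb944 fb945 (Nat.ble (nat_lit 945) i)) (@Bool.rec (fun _ => ℕ) fb946 fb947 (Nat.ble (nat_lit 947) i)) (Nat.ble (nat_lit 946) i)) (@Bool.rec (fun _ => ℕ) (@Bool.rec (fun _ => ℕ) fb948 fb949 (Nat.ble (nat_lit 949) i)) (@Bool.rec (fun _ => ℕ) fb950 fb951 (Nat.ble (nat_lit 951) i)) (Nat.ble (nat_lit 950) i)) (Nat.ble (nat_lit 948) i)) (@Bool.rec (fun _ => ℕ) (@Bool.rec (fun _ => ℕ) (@Bool.rec (fun _ => ℕ) fb952 fb953 (Nat.ble (nat_lit 953) i)) (@Bool.rec (fun _ => ℕ) fb954 fb955 (Nat.ble (nat_lit 955) i)) (Nat.ble (nat_lit 954) i)) (@Bool.rec (fun _ => ℕ) (@Bool.rec (fun _ => ℕ) fb956 fb957 (Nat.ble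 (nat_lit 957) i)) (@Bool.rec (fun _ => ℕ) fb958 fb959 (Nat.ble (nat_lit 959) i)) (Nat.ble (nat_lit 958) i)) (Nat.ble (nat_lit 956) i)) (Nat.ble (nat_lit 952) i)) (Nat.ble (nat_lit 944) i))

def factBlk_n0_30 (i : ℕ) : ℕ := (@Bool.rec (fun _ => ℕ) (@Bool.rec (fun _ => ℕ) (@Bool.rec (fun _ => ℕ) (@Bool.rec (fun _ => ℕ) (@Bool.rec (fun _ => ℕ) fb960 fb961 (Nat.ble (nat_lit 961) i)) (@Bool.rec (fun _ => ℕ) fb962 fb963 (Nat.ble (nat_lit 963) i)) (Nat.ble (nat_lit 962) i)) (@Bool.rec (fun _ => ℕ) (@Bool.rec (fun _ => ℕ) fb964 fb965 (Nat.ble (nat_lit 965) i)) (@Bool.rec (fun _ => ℕ) fb966 fb967 (Nat.ble (nat_lit 967) i)) (Nat.ble (nat_lit 966) i)) (Nat.ble (nat_lit 964) i)) (@Bool.rec (fun _ => ℕ) (@Bool.rec (fun _ => ℕ) (@Bool.rec (fun _ => ℕ) fb968 fb969 (Nat.ble (nat_lit 969) i)) (@Bool.rec (fun _ =>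 ℕ) fb970 fb971 (Nat.ble (nat_lit 971) i)) (Nat.ble (nat_lit 970) i)) (@Bool.rec (fun _ => ℕ) (@Bool.rec (fun _ => ℕ) fb972 fb973 (Nat.ble (nat_lit 973) i)) (@Bool.rec (fun _ => ℕ) fb974 fb975 (Nat.ble (nat_lit 975) i)) (Nat.ble (nat_lit 974) i)) (Nat.ble (nat_lit 972) i)) (Nat.ble (nat_lit 968) i)) (@Bool.rec (fun _ => ℕ) (@Bool.rec (fun _ => ℕ) (@Bool.rec (fun _ => ℕ) (@Bool.rec (fun _ => ℕ) fb976 fb977 (Nat.ble (nat_lit 977) i)) (@Bool.rec (fun _ => ℕ) fb978 fb979 (Nat.ble (nat_lit 979) i)) (Nat.ble (nat_lit 978) i)) (@Bool.rec (fun _ => ℕ) (@Bool.rec (fun _ => ℕ) fb980 fb981 (Nat.ble (nat_lit 981) i)) (@Bool.rec (fun _ => ℕ) fb982 fb983 (Nat.ble (nat_lit 983) i)) (Nat.ble (nat_lit 982) i)) (Nat.ble (nat_lit 980) i)) (@Bool.rec (fun _ => ℕ) (@Bool.rec (fun _ => ℕ) (@Bool.rec (fun _ => ℕ) fb984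 fb985 (Nat.ble (nat_lit 985) i)) (@Bool.rec (fun _ => ℕ) fb986 fb987 (Nat.ble (nat_lit 987) i)) (Nat.ble (nat_lit 986) i)) (@Bool.rec (fun _ => ℕ) (@Bool.rec (fun _ => ℕ) fb988 fb989 (Nat.ble (nat_lit 989) i)) (@Bool.rec (fun _ => ℕ) fb990 fb991 (Nat.ble (nat_lit 991) i)) (Nat.ble (nat_lit 990) i)) (Nat.ble (nat_lit 988) i)) (Nat.ble (nat_lit 984) i)) (Nat.ble (nat_lit 976) i))

def factBlk_n0_31 (i : ℕ) : ℕ := (@Bool.rec (fun _ => ℕ) (@Bool.rec (fun _ => ℕ) (@Bool.rec (fun _ => ℕ) (@Bool.rec (fun _ => ℕ) (@Bool.rec (fun _ => ℕ) fb992 fb993 (Nat.ble (nat_lit 993) i)) (@Bool.rec (fun _ => ℕ) fb994 fb995 (Nat.ble (nat_lit 995) i)) (Nat.ble (nat_lit 994) i)) (@Bool.rec (fun _ => ℕ) (@Bool.rec (fun _ => ℕ) fb996 fb997 (Nat.ble (nat_lit 997) i)) (@Bool.rec (fun _ => ℕ) fb998 fb999 (Nat.ble (nat_lit 999)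 i)) (Nat.ble (nat_lit 998) i)) (Nat.ble (nat_lit 996) i)) (@Bool.rec (fun _ => ℕ) (@Bool.rec (fun _ => ℕ) (@Bool.rec (fun _ => ℕ) fb1000 fb1001 (Nat.ble (nat_lit 1001) i)) (@Bool.rec (fun _ => ℕ) fb1002 fb1003 (Nat.ble (nat_lit 1003) i)) (Nat.ble (nat_lit 1002) i)) (@Bool.rec (fun _ => ℕ) (@Bool.rec (fun _ => ℕ) fb1004 fb1005 (Nat.ble (nat_lit 1005) i)) (@Bool.rec (fun _ => ℕ) fb1006 fb1007 (Nat.ble (nat_lit 1007) i)) (Nat.ble (nat_lit 1006) i)) (Nat.ble (nat_lit 1004) i)) (Nat.ble (nat_lit 1000) i)) (@Bool.rec (fun _ => ℕ) (@Bool.rec (fun _ => ℕ) (@Bool.rec (fun _ => ℕ) (@Bool.rec (fun _ => ℕ) fb1008 fb1009 (Nat.ble (nat_lit 1009) i)) (@Bool.rec (fun _ => ℕ) fb1010 fb1011 (Nat.ble (nat_lit 1011) i)) (Nat.ble (nat_lit 1010) i)) (@Bool.rec (fun _ => ℕ) (@Bool.rec (fun _ => ℕ) fb1012 fb1013 (Nat.ble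 (nat_lit 1013) i)) (@Bool.rec (fun _ => ℕ) fb1014 fb1015 (Nat.ble (nat_lit 1015) i)) (Nat.ble (nat_lit 1014) i)) (Nat.ble (nat_lit 1012) i)) (@Bool.rec (fun _ => ℕ) (@Bool.rec (fun _ => ℕ) (@Bool.rec (fun _ => ℕ) fb1016 fb1017 (Nat.ble (nat_lit 1017) i)) (@Bool.rec (fun _ => ℕ) fb1018 fb1019 (Nat.ble (nat_lit 1019) i)) (Nat.ble (nat_lit 1018) i)) (@Bool.rec (fun _ => ℕ) (@Bool.rec (fun _ => ℕ) fb1020 fb1021 (Nat.ble (nat_lit 1021) i)) (@Bool.rec (fun _ => ℕ) fb1022 fb1023 (Nat.ble (nat_lit 1023) i)) (Nat.ble (nat_lit 1022) i)) (Nat.ble (nat_lit 1020) i)) (Nat.ble (nat_lit 1016) i)) (Nat.ble (nat_lit 1008) i))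

def factBlk_n0_32 (i : ℕ) : ℕ := (@Bool.rec (fun _ => ℕ) (@Bool.rec (fun _ => ℕ) (@Bool.rec (fun _ => ℕ) (@Bool.rec (fun _ => ℕ) (@Bool.rec (fun _ => ℕ) fb1024 fb1025 (Nat.ble (nat_lit 1025) i)) (@Bool.rec (fun _ => ℕ) fb1026 fb1027 (Nat.ble (nat_lit 1027) i)) (Nat.ble (nat_lit 1026) i)) (@Bool.rec (fun _ => ℕ) (@Bool.rec (fun _ => ℕ) fb1028 fb1029 (Nat.ble (nat_lit 1029) i)) (@Bool.rec (fun _ => ℕ) fb1030 fb1031 (Nat.ble (nat_lit 1031) i)) (Nat.ble (nat_lit 1030) i)) (Nat.ble (nat_lit 1028) i)) (@Bool.rec (fun _ => ℕ) (@Bool.rec (fun _ => ℕ) (@Bool.rec (fun _ => ℕ) fb1032 fb1033 (Nat.ble (nat_lit 1033) i)) (@Bool.rec (fun _ => ℕ) fb1034 fb1035 (Nat.ble (nat_lit 1035) i)) (Nat.ble (nat_lit 1034) i)) (@Bool.rec (fun _ => ℕ) (@Bool.rec (fun _ => ℕ) fb1036 fb1037 (Nat.ble (nat_lit 1037) i)) (@Bool.rec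 (fun _ => ℕ) fb1038 fb1039 (Nat.ble (nat_lit 1039) i)) (Nat.ble (nat_lit 1038) i)) (Nat.ble (nat_lit 1036) i)) (Nat.ble (nat_lit 1032) i)) (@Bool.rec (fun _ => ℕ) (@Bool.rec (fun _ => ℕ) (@Bool.rec (fun _ => ℕ) (@Bool.rec (fun _ => ℕ) fb1040 fb1041 (Nat.ble (nat_lit 1041) i)) (@Bool.rec (fun _ => ℕ) fb1042 fb1043 (Nat.ble (nat_lit 1043) i)) (Nat.ble (nat_lit 1042) i)) (@Bool.rec (fun _ => ℕ) (@Bool.rec (fun _ => ℕ) fb1044 fb1045 (Nat.ble (nat_lit 1045) i)) (@Bool.rec (fun _ => ℕ) fb1046 fb1047 (Nat.ble (nat_lit 1047) i)) (Nat.ble (nat_lit 1046) i)) (Nat.ble (nat_lit 1044) i)) (@Bool.rec (fun _ => ℕ) (@Bool.rec (fun _ => ℕ) (@Bool.rec (fun _ => ℕ) fb1048 fb1049 (Nat.ble (nat_lit 1049) i)) (@Bool.rec (fun _ => ℕ) fb1050 fb1051 (Nat.ble (nat_lit 1051) i)) (Nat.ble (nat_lit 1050) i)) (@Bool.rec (fun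 _ => ℕ) (@Bool.rec (fun _ => ℕ) fb1052 fb1053 (Nat.ble (nat_lit 1053) i)) (@Bool.rec (fun _ => ℕ) fb1054 fb1055 (Nat.ble (nat_lit 1055) i)) (Nat.ble (nat_lit 1054) i)) (Nat.ble (nat_lit 1052) i)) (Nat.ble (nat_lit 1048) i)) (Nat.ble (nat_lit 1040) i))

def factBlk_n0_33 (i : ℕ) : ℕ := (@Bool.rec (fun _ => ℕ) (@Bool.rec (fun _ => ℕ) (@Bool.rec (fun _ => ℕ) (@Bool.rec (fun _ => ℕ) (@Bool.rec (fun _ => ℕ) fb1056 fb1057 (Nat.ble (nat_lit 1057) i)) (@Bool.rec (fun _ => ℕ) fb1058 fb1059 (Nat.ble (nat_lit 1059) i)) (Nat.ble (nat_lit 1058) i)) (@Bool.rec (fun _ => ℕ) (@Bool.rec (fun _ => ℕ) fb1060 fb1061 (Nat.ble (nat_lit 1061) i)) (@Bool.rec (fun _ => ℕ) fb1062 fb1063 (Nat.ble (nat_lit 1063) i)) (Nat.ble (nat_lit 1062) i)) (Nat.ble (nat_lit 1060) i)) (@Bool.rec (fun _ => ℕ) (@Bool.rec (fun _ => ℕ) (@Bool.rec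 (fun _ => ℕ) fb1064 fb1065 (Nat.ble (nat_lit 1065) i)) (@Bool.rec (fun _ => ℕ) fb1066 fb1067 (Nat.ble (nat_lit 1067) i)) (Nat.ble (nat_lit 1066) i)) (@Bool.rec (fun _ => ℕ) (@Bool.rec (fun _ => ℕ) fb1068 fb1069 (Nat.ble (nat_lit 1069) i)) (@Bool.rec (fun _ => ℕ) fb1070 fb1071 (Nat.ble (nat_lit 1071) i)) (Nat.ble (nat_lit 1070) i)) (Nat.ble (nat_lit 1068) i)) (Nat.ble (nat_lit 1064) i)) (@Bool.rec (fun _ => ℕ) (@Bool.rec (fun _ => ℕ) (@Bool.rec (fun _ => ℕ) (@Bool.rec (fun _ => ℕ) fb1072 fb1073 (Nat.ble (nat_lit 1073) i)) (@Bool.rec (fun _ => ℕ) fb1074 fb1075 (Nat.ble (nat_lit 1075) i)) (Nat.ble (nat_lit 1074) i)) (@Bool.rec (fun _ => ℕ) (@Bool.rec (fun _ => ℕ) fb1076 fb1077 (Nat.ble (nat_lit 1077) i)) (@Bool.rec (fun _ => ℕ) fb1078 fb1079 (Nat.ble (nat_lit 1079) i)) (Nat.ble (nat_lit 1078) i)) (Nat.ble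 (nat_lit 1076) i)) (@Bool.rec (fun _ => ℕ) (@Bool.rec (fun _ => ℕ) (@Bool.rec (fun _ => ℕ) fb1080 fb1081 (Nat.ble (nat_lit 1081) i)) (@Bool.rec (fun _ => ℕ) fb1082 fb1083 (Nat.ble (nat_lit 1083) i)) (Nat.ble (nat_lit 1082) i)) (@Bool.rec (fun _ => ℕ) (@Bool.rec (fun _ => ℕ) fb1084 fb1085 (Nat.ble (nat_lit 1085) i)) (@Bool.rec (fun _ => ℕ) fb1086 fb1087 (Nat.ble (nat_lit 1087) i)) (Nat.ble (nat_lit 1086) i)) (Nat.ble (nat_lit 1084) i)) (Nat.ble (nat_lit 1080) i)) (Nat.ble (nat_lit 1072) i))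

def factBlk_n0_34 (i : ℕ) : ℕ := (@Bool.rec (fun _ => ℕ) (@Bool.rec (fun _ => ℕ) (@Bool.rec (fun _ => ℕ) (@Bool.rec (fun _ => ℕ) (@Bool.rec (fun _ => ℕ) fb1088 fb1089 (Nat.ble (nat_lit 1089) i)) (@Bool.rec (fun _ => ℕ) fb1090 fb1091 (Nat.ble (nat_lit 1091) i)) (Nat.ble (nat_lit 1090) i)) (@Bool.rec (fun _ => ℕ) (@Bool.rec (fun _ => ℕ) fb1092 fb1093 (Nat.ble (nat_lit 1093) i)) (@Bool.rec (fun _ => ℕ) fb1094 fb1095 (Nat.ble (nat_lit 1095) i)) (Nat.ble (nat_lit 1094) i)) (Nat.ble (nat_lit 1092) i)) (@Bool.rec (fun _ => ℕ) (@Bool.rec (fun _ => ℕ) (@Bool.rec (fun _ => ℕ) fb1096 fb1097 (Nat.ble (nat_lit 1097) i)) (@Bool.rec (fun _ => ℕ) fb1098 fb1099 (Nat.ble (nat_lit 1099) i)) (Nat.ble (nat_lit 1098) i)) (@Bool.rec (fun _ => ℕ) (@Bool.rec (fun _ => ℕ) fb1100 fb1101 (Nat.ble (nat_lit 1101) i)) (@Bool.rec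 (fun _ => ℕ) fb1102 fb1103 (Nat.ble (nat_lit 1103) i)) (Nat.ble (nat_lit 1102) i)) (Nat.ble (nat_lit 1100) i)) (Nat.ble (nat_lit 1096) i)) (@Bool.rec (fun _ => ℕ) (@Bool.rec (fun _ => ℕ) (@Bool.rec (fun _ => ℕ) (@Bool.rec (fun _ => ℕ) fb1104 fb1105 (Nat.ble (nat_lit 1105) i)) (@Bool.rec (fun _ => ℕ) fb1106 fb1107 (Nat.ble (nat_lit 1107) i)) (Nat.ble (nat_lit 1106) i)) (@Bool.rec (fun _ => ℕ) (@Bool.rec (fun _ => ℕ) fb1108 fb1109 (Nat.ble (nat_lit 1109) i)) (@Bool.rec (fun _ => ℕ) fb1110 fb1111 (Nat.ble (nat_lit 1111) i)) (Nat.ble (nat_lit 1110) i)) (Nat.ble (nat_lit 1108) i)) (@Bool.rec (fun _ => ℕ) (@Bool.rec (fun _ => ℕ) (@Bool.rec (fun _ => ℕ) fb1112 fb1113 (Nat.ble (nat_lit 1113) i)) (@Bool.rec (fun _ => ℕ) fb1114 fb1115 (Nat.ble (nat_lit 1115) i)) (Nat.ble (nat_lit 1114) i)) (@Bool.rec (fun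 _ => ℕ) (@Bool.rec (fun _ => ℕ) fb1116 fb1117 (Nat.ble (nat_lit 1117) i)) (@Bool.rec (fun _ => ℕ) fb1118 fb1119 (Nat.ble (nat_lit 1119) i)) (Nat.ble (nat_lit 1118) i)) (Nat.ble (nat_lit 1116) i)) (Nat.ble (nat_lit 1112) i)) (Nat.ble (nat_lit 1104) i))

def factBlk_n0_35 (i : ℕ) : ℕ := (@Bool.rec (fun _ => ℕ) (@Bool.rec (fun _ => ℕ) (@Bool.rec (fun _ => ℕ) (@Bool.rec (fun _ => ℕ) (@Bool.rec (fun _ => ℕ) fb1120 fb1121 (Nat.ble (nat_lit 1121) i)) (@Bool.rec (fun _ => ℕ) fb1122 fb1123 (Nat.ble (nat_lit 1123) i)) (Nat.ble (nat_lit 1122) i)) (@Bool.rec (fun _ => ℕ) (@Bool.rec (fun _ => ℕ) fb1124 fb1125 (Nat.ble (nat_lit 1125) i)) (@Bool.rec (fun _ => ℕ) fb1126 fb1127 (Nat.ble (nat_lit 1127) i)) (Nat.ble (nat_lit 1126) i)) (Nat.ble (nat_lit 1124) i)) (@Bool.rec (fun _ => ℕ) (@Bool.rec (fun _ => ℕ) (@Bool.rec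 (fun _ => ℕ) fb1128 fb1129 (Nat.ble (nat_lit 1129) i)) (@Bool.rec (fun _ => ℕ) fb1130 fb1131 (Nat.ble (nat_lit 1131) i)) (Nat.ble (nat_lit 1130) i)) (@Bool.rec (fun _ => ℕ) (@Bool.rec (fun _ => ℕ) fb1132 fb1133 (Nat.ble (nat_lit 1133) i)) (@Bool.rec (fun _ => ℕ) fb1134 fb1135 (Nat.ble (nat_lit 1135) i)) (Nat.ble (nat_lit 1134) i)) (Nat.ble (nat_lit 1132) i)) (Nat.ble (nat_lit 1128) i)) (@Bool.rec (fun _ => ℕ) (@Bool.rec (fun _ => ℕ) (@Bool.rec (fun _ => ℕ) (@Bool.rec (fun _ => ℕ) fb1136 fb1137 (Nat.ble (nat_lit 1137) i)) (@Bool.rec (fun _ => ℕ) fb1138 fb1139 (Nat.ble (nat_lit 1139) i)) (Nat.ble (nat_lit 1138) i)) (@Bool.rec (fun _ => ℕ) (@Bool.rec (fun _ => ℕ) fb1140 fb1141 (Nat.ble (nat_lit 1141) i)) (@Bool.rec (fun _ => ℕ) fb1142 fb1143 (Nat.ble (nat_lit 1143) i)) (Nat.ble (nat_lit 1142) i)) (Nat.ble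 (nat_lit 1140) i)) (@Bool.rec (fun _ => ℕ) (@Bool.rec (fun _ => ℕ) (@Bool.rec (fun _ => ℕ) fb1144 fb1145 (Nat.ble (nat_lit 1145) i)) (@Bool.rec (fun _ => ℕ) fb1146 fb1147 (Nat.ble (nat_lit 1147) i)) (Nat.ble (nat_lit 1146) i)) (@Bool.rec (fun _ => ℕ) (@Bool.rec (fun _ => ℕ) fb1148 fb1149 (Nat.ble (nat_lit 1149) i)) (@Bool.rec (fun _ => ℕ) fb1150 fb1151 (Nat.ble (nat_lit 1151) i)) (Nat.ble (nat_lit 1150) i)) (Nat.ble (nat_lit 1148) i)) (Nat.ble (nat_lit 1144) i)) (Nat.ble (nat_lit 1136) i))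

def factBlk_n0_36 (i : ℕ) : ℕ := (@Bool.rec (fun _ => ℕ) (@Bool.rec (fun _ => ℕ) (@Bool.rec (fun _ => ℕ) (@Bool.rec (fun _ => ℕ) (@Bool.rec (fun _ => ℕ) fb1152 fb1153 (Nat.ble (nat_lit 1153) i)) (@Bool.rec (fun _ => ℕ) fb1154 fb1155 (Nat.ble (nat_lit 1155) i)) (Nat.ble (nat_lit 1154) i)) (@Bool.rec (fun _ => ℕ) (@Bool.rec (fun _ => ℕ) fb1156 fb1157 (Nat.ble (nat_lit 1157) i)) (@Bool.rec (fun _ => ℕ) fb1158 fb1159 (Nat.ble (nat_lit 1159) i)) (Nat.ble (nat_lit 1158) i)) (Nat.ble (nat_lit 1156) i)) (@Bool.rec (fun _ => ℕ) (@Bool.rec (fun _ => ℕ) (@Bool.rec (fun _ => ℕ) fb1160 fb1161 (Nat.ble (nat_lit 1161) i)) (@Bool.rec (fun _ => ℕ) fb1162 fb1163 (Nat.ble (nat_lit 1163) i)) (Nat.ble (nat_lit 1162) i)) (@Bool.rec (fun _ => ℕ) (@Bool.rec (fun _ => ℕ) fb1164 fb1165 (Nat.ble (nat_lit 1165) i)) (@Bool.rec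 (fun _ => ℕ) fb1166 fb1167 (Nat.ble (nat_lit 1167) i)) (Nat.ble (nat_lit 1166) i)) (Nat.ble (nat_lit 1164) i)) (Nat.ble (nat_lit 1160) i)) (@Bool.rec (fun _ => ℕ) (@Bool.rec (fun _ => ℕ) (@Bool.rec (fun _ => ℕ) (@Bool.rec (fun _ => ℕ) fb1168 fb1169 (Nat.ble (nat_lit 1169) i)) (@Bool.rec (fun _ => ℕ) fb1170 fb1171 (Nat.ble (nat_lit 1171) i)) (Nat.ble (nat_lit 1170) i)) (@Bool.rec (fun _ => ℕ) (@Bool.rec (fun _ => ℕ) fb1172 fb1173 (Nat.ble (nat_lit 1173) i)) (@Bool.rec (fun _ => ℕ) fb1174 fb1175 (Nat.ble (nat_lit 1175) i)) (Nat.ble (nat_lit 1174) i)) (Nat.ble (nat_lit 1172) i)) (@Bool.rec (fun _ => ℕ) (@Bool.rec (fun _ => ℕ) (@Bool.rec (fun _ => ℕ) fb1176 fb1177 (Nat.ble (nat_lit 1177) i)) (@Bool.rec (fun _ => ℕ) fb1178 fb1179 (Nat.ble (nat_lit 1179) i)) (Nat.ble (nat_lit 1178) i)) (@Bool.rec (fun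 _ => ℕ) (@Bool.rec (fun _ => ℕ) fb1180 fb1181 (Nat.ble (nat_lit 1181) i)) (@Bool.rec (fun _ => ℕ) fb1182 fb1183 (Nat.ble (nat_lit 1183) i)) (Nat.ble (nat_lit 1182) i)) (Nat.ble (nat_lit 1180) i)) (Nat.ble (nat_lit 1176) i)) (Nat.ble (nat_lit 1168) i))

def factBlk_n0_37 (i : ℕ) : ℕ := (@Bool.rec (fun _ => ℕ) (@Bool.rec (fun _ => ℕ) (@Bool.rec (fun _ => ℕ) (@Bool.rec (fun _ => ℕ) (@Bool.rec (fun _ => ℕ) fb1184 fb1185 (Nat.ble (nat_lit 1185) i)) (@Bool.rec (fun _ => ℕ) fb1186 fb1187 (Nat.ble (nat_lit 1187) i)) (Nat.ble (nat_lit 1186) i)) (@Bool.rec (fun _ => ℕ) (@Bool.rec (fun _ => ℕ) fb1188 fb1189 (Nat.ble (nat_lit 1189) i)) (@Bool.rec (fun _ => ℕ) fb1190 fb1191 (Nat.ble (nat_lit 1191) i)) (Nat.ble (nat_lit 1190) i)) (Nat.ble (nat_lit 1188) i)) (@Bool.rec (fun _ => ℕ) (@Bool.rec (fun _ => ℕ) (@Bool.rec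 (fun _ => ℕ) fb1192 fb1193 (Nat.ble (nat_lit 1193) i)) (@Bool.rec (fun _ => ℕ) fb1194 fb1195 (Nat.ble (nat_lit 1195) i)) (Nat.ble (nat_lit 1194) i)) (@Bool.rec (fun _ => ℕ) (@Bool.rec (fun _ => ℕ) fb1196 fb1197 (Nat.ble (nat_lit 1197) i)) (@Bool.rec (fun _ => ℕ) fb1198 fb1199 (Nat.ble (nat_lit 1199) i)) (Nat.ble (nat_lit 1198) i)) (Nat.ble (nat_lit 1196) i)) (Nat.ble (nat_lit 1192) i)) (@Bool.rec (fun _ => ℕ) (@Bool.rec (fun _ => ℕ) (@Bool.rec (fun _ => ℕ) (@Bool.rec (fun _ => ℕ) fb1200 fb1201 (Nat.ble (nat_lit 1201) i)) (@Bool.rec (fun _ => ℕ) fb1202 fb1203 (Nat.ble (nat_lit 1203) i)) (Nat.ble (nat_lit 1202) i)) (@Bool.rec (fun _ => ℕ) (@Bool.rec (fun _ => ℕ) fb1204 fb1205 (Nat.ble (nat_lit 1205) i)) (@Bool.rec (fun _ => ℕ) fb1206 fb1207 (Nat.ble (nat_lit 1207) i)) (Nat.ble (nat_lit 1206) i)) (Nat.ble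 (nat_lit 1204) i)) (@Bool.rec (fun _ => ℕ) (@Bool.rec (fun _ => ℕ) (@Bool.rec (fun _ => ℕ) fb1208 fb1209 (Nat.ble (nat_lit 1209) i)) (@Bool.rec (fun _ => ℕ) fb1210 fb1211 (Nat.ble (nat_lit 1211) i)) (Nat.ble (nat_lit 1210) i)) (@Bool.rec (fun _ => ℕ) (@Bool.rec (fun _ => ℕ) fb1212 fb1213 (Nat.ble (nat_lit 1213) i)) (@Bool.rec (fun _ => ℕ) fb1214 fb1215 (Nat.ble (nat_lit 1215) i)) (Nat.ble (nat_lit 1214) i)) (Nat.ble (nat_lit 1212) i)) (Nat.ble (nat_lit 1208) i)) (Nat.ble (nat_lit 1200) i))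

def factBlk_n0_38 (i : ℕ) : ℕ := (@Bool.rec (fun _ => ℕ) (@Bool.rec (fun _ => ℕ) (@Bool.rec (fun _ => ℕ) (@Bool.rec (fun _ => ℕ) (@Bool.rec (fun _ => ℕ) fb1216 fb1217 (Nat.ble (nat_lit 1217) i)) (@Bool.rec (fun _ => ℕ) fb1218 fb1219 (Nat.ble (nat_lit 1219) i)) (Nat.ble (nat_lit 1218) i)) (@Bool.rec (fun _ => ℕ) (@Bool.rec (fun _ => ℕ) fb1220 fb1221 (Nat.ble (nat_lit 1221) i)) (@Bool.rec (fun _ => ℕ) fb1222 fb1223 (Nat.ble (nat_lit 1223) i)) (Nat.ble (nat_lit 1222) i)) (Nat.ble (nat_lit 1220) i)) (@Bool.rec (fun _ => ℕ) (@Bool.rec (fun _ => ℕ) (@Bool.rec (fun _ => ℕ) fb1224 fb1225 (Nat.ble (nat_lit 1225) i)) (@Bool.rec (fun _ => ℕ) fb1226 fb1227 (Nat.ble (nat_lit 1227) i)) (Nat.ble (nat_lit 1226) i)) (@Bool.rec (fun _ => ℕ) (@Bool.rec (fun _ => ℕ) fb1228 fb1229 (Nat.ble (nat_lit 1229) i)) (@Bool.rec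 (fun _ => ℕ) fb1230 fb1231 (Nat.ble (nat_lit 1231) i)) (Nat.ble (nat_lit 1230) i)) (Nat.ble (nat_lit 1228) i)) (Nat.ble (nat_lit 1224) i)) (@Bool.rec (fun _ => ℕ) (@Bool.rec (fun _ => ℕ) (@Bool.rec (fun _ => ℕ) (@Bool.rec (fun _ => ℕ) fb1232 fb1233 (Nat.ble (nat_lit 1233) i)) (@Bool.rec (fun _ => ℕ) fb1234 fb1235 (Nat.ble (nat_lit 1235) i)) (Nat.ble (nat_lit 1234) i)) (@Bool.rec (fun _ => ℕ) (@Bool.rec (fun _ => ℕ) fb1236 fb1237 (Nat.ble (nat_lit 1237) i)) (@Bool.rec (fun _ => ℕ) fb1238 fb1239 (Nat.ble (nat_lit 1239) i)) (Nat.ble (nat_lit 1238) i)) (Nat.ble (nat_lit 1236) i)) (@Bool.rec (fun _ => ℕ) (@Bool.rec (fun _ => ℕ) (@Bool.rec (fun _ => ℕ) fb1240 fb1241 (Nat.ble (nat_lit 1241) i)) (@Bool.rec (fun _ => ℕ) fb1242 fb1243 (Nat.ble (nat_lit 1243) i)) (Nat.ble (nat_lit 1242) i)) (@Bool.rec (fun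 _ => ℕ) (@Bool.rec (fun _ => ℕ) fb1244 fb1245 (Nat.ble (nat_lit 1245) i)) (@Bool.rec (fun _ => ℕ) fb1246 fb1247 (Nat.ble (nat_lit 1247) i)) (Nat.ble (nat_lit 1246) i)) (Nat.ble (nat_lit 1244) i)) (Nat.ble (nat_lit 1240) i)) (Nat.ble (nat_lit 1232) i))

def factBlk_n0_39 (i : ℕ) : ℕ := (@Bool.rec (fun _ => ℕ) (@Bool.rec (fun _ => ℕ) (@Bool.rec (fun _ => ℕ) (@Bool.rec (fun _ => ℕ) (@Bool.rec (fun _ => ℕ) fb1248 fb1249 (Nat.ble (nat_lit 1249) i)) (@Bool.rec (fun _ => ℕ) fb1250 fb1251 (Nat.ble (nat_lit 1251) i)) (Nat.ble (nat_lit 1250) i)) (@Bool.rec (fun _ => ℕ) (@Bool.rec (fun _ => ℕ) fb1252 fb1253 (Nat.ble (nat_lit 1253) i)) (@Bool.rec (fun _ => ℕ) fb1254 fb1255 (Nat.ble (nat_lit 1255) i)) (Nat.ble (nat_lit 1254) i)) (Nat.ble (nat_lit 1252) i)) (@Bool.rec (fun _ => ℕ) (@Bool.rec (fun _ => ℕ) (@Bool.rec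 (fun _ => ℕ) fb1256 fb1257 (Nat.ble (nat_lit 1257) i)) (@Bool.rec (fun _ => ℕ) fb1258 fb1259 (Nat.ble (nat_lit 1259) i)) (Nat.ble (nat_lit 1258) i)) (@Bool.rec (fun _ => ℕ) (@Bool.rec (fun _ => ℕ) fb1260 fb1261 (Nat.ble (nat_lit 1261) i)) (@Bool.rec (fun _ => ℕ) fb1262 fb1263 (Nat.ble (nat_lit 1263) i)) (Nat.ble (nat_lit 1262) i)) (Nat.ble (nat_lit 1260) i)) (Nat.ble (nat_lit 1256) i)) (@Bool.rec (fun _ => ℕ) (@Bool.rec (fun _ => ℕ) (@Bool.rec (fun _ => ℕ) (@Bool.rec (fun _ => ℕ) fb1264 fb1265 (Nat.ble (nat_lit 1265) i)) (@Bool.rec (fun _ => ℕ) fb1266 fb1267 (Nat.ble (nat_lit 1267) i)) (Nat.ble (nat_lit 1266) i)) (@Bool.rec (fun _ => ℕ) (@Bool.rec (fun _ => ℕ) fb1268 fb1269 (Nat.ble (nat_lit 1269) i)) (@Bool.rec (fun _ => ℕ) fb1270 fb1271 (Nat.ble (nat_lit 1271) i)) (Nat.ble (nat_lit 1270) i)) (Nat.ble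 (nat_lit 1268) i)) (@Bool.rec (fun _ => ℕ) (@Bool.rec (fun _ => ℕ) (@Bool.rec (fun _ => ℕ) fb1272 fb1273 (Nat.ble (nat_lit 1273) i)) (@Bool.rec (fun _ => ℕ) fb1274 fb1275 (Nat.ble (nat_lit 1275) i)) (Nat.ble (nat_lit 1274) i)) (@Bool.rec (fun _ => ℕ) (@Bool.rec (fun _ => ℕ) fb1276 fb1277 (Nat.ble (nat_lit 1277) i)) (@Bool.rec (fun _ => ℕ) fb1278 fb1279 (Nat.ble (nat_lit 1279) i)) (Nat.ble (nat_lit 1278) i)) (Nat.ble (nat_lit 1276) i)) (Nat.ble (nat_lit 1272) i)) (Nat.ble (nat_lit 1264) i))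

def factBlk_n0_40 (i : ℕ) : ℕ := (@Bool.rec (fun _ => ℕ) (@Bool.rec (fun _ => ℕ) (@Bool.rec (fun _ => ℕ) (@Bool.rec (fun _ => ℕ) (@Bool.rec (fun _ => ℕ) fb1280 fb1281 (Nat.ble (nat_lit 1281) i)) (@Bool.rec (fun _ => ℕ) fb1282 fb1283 (Nat.ble (nat_lit 1283) i)) (Nat.ble (nat_lit 1282) i)) (@Bool.rec (fun _ => ℕ) (@Bool.rec (fun _ => ℕ) fb1284 fb1285 (Nat.ble (nat_lit 1285) i)) (@Bool.rec (fun _ => ℕ) fb1286 fb1287 (Nat.ble (nat_lit 1287) i)) (Nat.ble (nat_lit 1286) i)) (Nat.ble (nat_lit 1284) i)) (@Bool.rec (fun _ => ℕ) (@Bool.rec (fun _ => ℕ) (@Bool.rec (fun _ => ℕ) fb1288 fb1289 (Nat.ble (nat_lit 1289) i)) (@Bool.rec (fun _ => ℕ) fb1290 fb1291 (Nat.ble (nat_lit 1291) i)) (Nat.ble (nat_lit 1290) i)) (@Bool.rec (fun _ => ℕ) (@Bool.rec (fun _ => ℕ) fb1292 fb1293 (Nat.ble (nat_lit 1293) i)) (@Bool.rec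 (fun _ => ℕ) fb1294 fb1295 (Nat.ble (nat_lit 1295) i)) (Nat.ble (nat_lit 1294) i)) (Nat.ble (nat_lit 1292) i)) (Nat.ble (nat_lit 1288) i)) (@Bool.rec (fun _ => ℕ) (@Bool.rec (fun _ => ℕ) (@Bool.rec (fun _ => ℕ) (@Bool.rec (fun _ => ℕ) fb1296 fb1297 (Nat.ble (nat_lit 1297) i)) (@Bool.rec (fun _ => ℕ) fb1298 fb1299 (Nat.ble (nat_lit 1299) i)) (Nat.ble (nat_lit 1298) i)) (@Bool.rec (fun _ => ℕ) (@Bool.rec (fun _ => ℕ) fb1300 fb1301 (Nat.ble (nat_lit 1301) i)) (@Bool.rec (fun _ => ℕ) fb1302 fb1303 (Nat.ble (nat_lit 1303) i)) (Nat.ble (nat_lit 1302) i)) (Nat.ble (nat_lit 1300) i)) (@Bool.rec (fun _ => ℕ) (@Bool.rec (fun _ => ℕ) (@Bool.rec (fun _ => ℕ) fb1304 fb1305 (Nat.ble (nat_lit 1305) i)) (@Bool.rec (fun _ => ℕ) fb1306 fb1307 (Nat.ble (nat_lit 1307) i)) (Nat.ble (nat_lit 1306) i)) (@Bool.rec (fun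 _ => ℕ) (@Bool.rec (fun _ => ℕ) fb1308 fb1309 (Nat.ble (nat_lit 1309) i)) (@Bool.rec (fun _ => ℕ) fb1310 fb1311 (Nat.ble (nat_lit 1311) i)) (Nat.ble (nat_lit 1310) i)) (Nat.ble (nat_lit 1308) i)) (Nat.ble (nat_lit 1304) i)) (Nat.ble (nat_lit 1296) i))

def factBlk_n0_41 (i : ℕ) : ℕ := (@Bool.rec (fun _ => ℕ) (@Bool.rec (fun _ => ℕ) (@Bool.rec (fun _ => ℕ) (@Bool.rec (fun _ => ℕ) (@Bool.rec (fun _ => ℕ) fb1312 fb1313 (Nat.ble (nat_lit 1313) i)) (@Bool.rec (fun _ => ℕ) fb1314 fb1315 (Nat.ble (nat_lit 1315) i)) (Nat.ble (nat_lit 1314) i)) (@Bool.rec (fun _ => ℕ) (@Bool.rec (fun _ => ℕ) fb1316 fb1317 (Nat.ble (nat_lit 1317) i)) (@Bool.rec (fun _ => ℕ) fb1318 fb1319 (Nat.ble (nat_lit 1319) i)) (Nat.ble (nat_lit 1318) i)) (Nat.ble (nat_lit 1316) i)) (@Bool.rec (fun _ => ℕ) (@Bool.rec (fun _ => ℕ) (@Bool.rec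 (fun _ => ℕ) fb1320 fb1321 (Nat.ble (nat_lit 1321) i)) (@Bool.rec (fun _ => ℕ) fb1322 fb1323 (Nat.ble (nat_lit 1323) i)) (Nat.ble (nat_lit 1322) i)) (@Bool.rec (fun _ => ℕ) (@Bool.rec (fun _ => ℕ) fb1324 fb1325 (Nat.ble (nat_lit 1325) i)) (@Bool.rec (fun _ => ℕ) fb1326 fb1327 (Nat.ble (nat_lit 1327) i)) (Nat.ble (nat_lit 1326) i)) (Nat.ble (nat_lit 1324) i)) (Nat.ble (nat_lit 1320) i)) (@Bool.rec (fun _ => ℕ) (@Bool.rec (fun _ => ℕ) (@Bool.rec (fun _ => ℕ) (@Bool.rec (fun _ => ℕ) fb1328 fb1329 (Nat.ble (nat_lit 1329) i)) (@Bool.rec (fun _ => ℕ) fb1330 fb1331 (Nat.ble (nat_lit 1331) i)) (Nat.ble (nat_lit 1330) i)) (@Bool.rec (fun _ => ℕ) (@Bool.rec (fun _ => ℕ) fb1332 fb1333 (Nat.ble (nat_lit 1333) i)) (@Bool.rec (fun _ => ℕ) fb1334 fb1335 (Nat.ble (nat_lit 1335) i)) (Nat.ble (nat_lit 1334) i)) (Nat.ble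 (nat_lit 1332) i)) (@Bool.rec (fun _ => ℕ) (@Bool.rec (fun _ => ℕ) (@Bool.rec (fun _ => ℕ) fb1336 fb1337 (Nat.ble (nat_lit 1337) i)) (@Bool.rec (fun _ => ℕ) fb1338 fb1339 (Nat.ble (nat_lit 1339) i)) (Nat.ble (nat_lit 1338) i)) (@Bool.rec (fun _ => ℕ) (@Bool.rec (fun _ => ℕ) fb1340 fb1341 (Nat.ble (nat_lit 1341) i)) (@Bool.rec (fun _ => ℕ) fb1342 fb1343 (Nat.ble (nat_lit 1343) i)) (Nat.ble (nat_lit 1342) i)) (Nat.ble (nat_lit 1340) i)) (Nat.ble (nat_lit 1336) i)) (Nat.ble (nat_lit 1328) i))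

def factBlk_n0_42 (i : ℕ) : ℕ := (@Bool.rec (fun _ => ℕ) (@Bool.rec (fun _ => ℕ) (@Bool.rec (fun _ => ℕ) (@Bool.rec (fun _ => ℕ) (@Bool.rec (fun _ => ℕ) fb1344 fb1345 (Nat.ble (nat_lit 1345) i)) (@Bool.rec (fun _ => ℕ) fb1346 fb1347 (Nat.ble (nat_lit 1347) i)) (Nat.ble (nat_lit 1346) i)) (@Bool.rec (fun _ => ℕ) (@Bool.rec (fun _ => ℕ) fb1348 fb1349 (Nat.ble (nat_lit 1349) i)) (@Bool.rec (fun _ => ℕ) fb1350 fb1351 (Nat.ble (nat_lit 1351) i)) (Nat.ble (nat_lit 1350) i)) (Nat.ble (nat_lit 1348) i)) (@Bool.rec (fun _ => ℕ) (@Bool.rec (fun _ => ℕ) (@Bool.rec (fun _ => ℕ) fb1352 fb1353 (Nat.ble (nat_lit 1353) i)) (@Bool.rec (fun _ => ℕ) fb1354 fb1355 (Nat.ble (nat_lit 1355) i)) (Nat.ble (nat_lit 1354) i)) (@Bool.rec (fun _ => ℕ) (@Bool.rec (fun _ => ℕ) fb1356 fb1357 (Nat.ble (nat_lit 1357) i)) (@Bool.rec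 (fun _ => ℕ) fb1358 fb1359 (Nat.ble (nat_lit 1359) i)) (Nat.ble (nat_lit 1358) i)) (Nat.ble (nat_lit 1356) i)) (Nat.ble (nat_lit 1352) i)) (@Bool.rec (fun _ => ℕ) (@Bool.rec (fun _ => ℕ) (@Bool.rec (fun _ => ℕ) (@Bool.rec (fun _ => ℕ) fb1360 fb1361 (Nat.ble (nat_lit 1361) i)) (@Bool.rec (fun _ => ℕ) fb1362 fb1363 (Nat.ble (nat_lit 1363) i)) (Nat.ble (nat_lit 1362) i)) (@Bool.rec (fun _ => ℕ) (@Bool.rec (fun _ => ℕ) fb1364 fb1365 (Nat.ble (nat_lit 1365) i)) (@Bool.rec (fun _ => ℕ) fb1366 fb1367 (Nat.ble (nat_lit 1367) i)) (Nat.ble (nat_lit 1366) i)) (Nat.ble (nat_lit 1364) i)) (@Bool.rec (fun _ => ℕ) (@Bool.rec (fun _ => ℕ) (@Bool.rec (fun _ => ℕ) fb1368 fb1369 (Nat.ble (nat_lit 1369) i)) (@Bool.rec (fun _ => ℕ) fb1370 fb1371 (Nat.ble (nat_lit 1371) i)) (Nat.ble (nat_lit 1370) i)) (@Bool.rec (fun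 _ => ℕ) (@Bool.rec (fun _ => ℕ) fb1372 fb1373 (Nat.ble (nat_lit 1373) i)) (@Bool.rec (fun _ => ℕ) fb1374 fb1375 (Nat.ble (nat_lit 1375) i)) (Nat.ble (nat_lit 1374) i)) (Nat.ble (nat_lit 1372) i)) (Nat.ble (nat_lit 1368) i)) (Nat.ble (nat_lit 1360) i))

def factBlk_n0_43 (i : ℕ) : ℕ := (@Bool.rec (fun _ => ℕ) (@Bool.rec (fun _ => ℕ) (@Bool.rec (fun _ => ℕ) (@Bool.rec (fun _ => ℕ) fb1376 fb1377 (Nat.ble (nat_lit 1377) i)) (@Bool.rec (fun _ => ℕ) fb1378 fb1379 (Nat.ble (nat_lit 1379) i)) (Nat.ble (nat_lit 1378) i)) (@Bool.rec (fun _ => ℕ) (@Bool.rec (fun _ => ℕ) fb1380 fb1381 (Nat.ble (nat_lit 1381) i)) (@Bool.rec (fun _ => ℕ) fb1382 fb1383 (Nat.ble (nat_lit 1383) i)) (Nat.ble (nat_lit 1382) i)) (Nat.ble (nat_lit 1380) i)) (@Bool.rec (fun _ => ℕ) (@Bool.rec (fun _ => ℕ) (@Bool.rec (fun _ => ℕ) fb1384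 fb1385 (Nat.ble (nat_lit 1385) i)) (@Bool.rec (fun _ => ℕ) fb1386 fb1387 (Nat.ble (nat_lit 1387) i)) (Nat.ble (nat_lit 1386) i)) (@Bool.rec (fun _ => ℕ) (@Bool.rec (fun _ => ℕ) fb1388 fb1389 (Nat.ble (nat_lit 1389) i)) (@Bool.rec (fun _ => ℕ) fb1390 fb1391 (Nat.ble (nat_lit 1391) i)) (Nat.ble (nat_lit 1390) i)) (Nat.ble (nat_lit 1388) i)) (Nat.ble (nat_lit 1384) i))

def factBlk_n1_0 (i : ℕ) : ℕ := (@Bool.rec (fun _ => ℕ) (@Bool.rec (fun _ => ℕ) (@Bool.rec (fun _ => ℕ) (@Bool.rec (fun _ => ℕ) (@Bool.rec (fun _ => ℕ) (factBlk_n0_0 i) (factBlk_n0_1 i) (Nat.ble (nat_lit 32) i)) (@Bool.rec (fun _ => ℕ) (factBlk_n0_2 i) (factBlk_n0_3 i) (Nat.ble (nat_lit 96) i)) (Nat.ble (nat_lit 64) i)) (@Bool.rec (fun _ => ℕ) (@Bool.rec (fun _ => ℕ) (factBlk_n0_4 i) (factBlk_n0_5 i) (Nat.ble (nat_lit 160) i)) (@Bool.rec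 (fun _ => ℕ) (factBlk_n0_6 i) (factBlk_n0_7 i) (Nat.ble (nat_lit 224) i)) (Nat.ble (nat_lit 192) i)) (Nat.ble (nat_lit 128) i)) (@Bool.rec (fun _ => ℕ) (@Bool.rec (fun _ => ℕ) (@Bool.rec (fun _ => ℕ) (factBlk_n0_8 i) (factBlk_n0_9 i) (Nat.ble (nat_lit 288) i)) (@Bool.rec (fun _ => ℕ) (factBlk_n0_10 i) (factBlk_n0_11 i) (Nat.ble (nat_lit 352) i)) (Nat.ble (nat_lit 320) i)) (@Bool.rec (fun _ => ℕ) (@Bool.rec (fun _ => ℕ) (factBlk_n0_12 i) (factBlk_n0_13 i) (Nat.ble (nat_lit 416) i)) (@Bool.rec (fun _ => ℕ) (factBlk_n0_14 i) (factBlk_n0_15 i) (Nat.ble (nat_lit 480) i)) (Nat.ble (nat_lit 448) i)) (Nat.ble (nat_lit 384) i)) (Nat.ble (nat_lit 256) i)) (@Bool.rec (fun _ => ℕ) (@Bool.rec (fun _ => ℕ) (@Bool.rec (fun _ => ℕ) (@Bool.rec (fun _ => ℕ) (factBlk_n0_16 i) (factBlk_n0_17 i) (Nat.ble (nat_lit 544)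 i)) (@Bool.rec (fun _ => ℕ) (factBlk_n0_18 i) (factBlk_n0_19 i) (Nat.ble (nat_lit 608) i)) (Nat.ble (nat_lit 576) i)) (@Bool.rec (fun _ => ℕ) (@Bool.rec (fun _ => ℕ) (factBlk_n0_20 i) (factBlk_n0_21 i) (Nat.ble (nat_lit 672) i)) (@Bool.rec (fun _ => ℕ) (factBlk_n0_22 i) (factBlk_n0_23 i) (Nat.ble (nat_lit 736) i)) (Nat.ble (nat_lit 704) i)) (Nat.ble (nat_lit 640) i)) (@Bool.rec (fun _ => ℕ) (@Bool.rec (fun _ => ℕ) (@Bool.rec (fun _ => ℕ) (factBlk_n0_24 i) (factBlk_n0_25 i) (Nat.ble (nat_lit 800) i)) (@Bool.rec (fun _ => ℕ) (factBlk_n0_26 i) (factBlk_n0_27 i) (Nat.ble (nat_lit 864) i)) (Nat.ble (nat_lit 832) i)) (@Bool.rec (fun _ => ℕ) (@Bool.rec (fun _ => ℕ) (factBlk_n0_28 i) (factBlk_n0_29 i) (Nat.ble (nat_lit 928) i)) (@Bool.rec (fun _ => ℕ) (factBlk_n0_30 i) (factBlk_n0_31 i) (Nat.ble (nat_lit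 992) i)) (Nat.ble (nat_lit 960) i)) (Nat.ble (nat_lit 896) i)) (Nat.ble (nat_lit 768) i)) (Nat.ble (nat_lit 512) i))

def factBlk_n1_1 (i : ℕ) : ℕ := (@Bool.rec (fun _ => ℕ) (@Bool.rec (fun _ => ℕ) (@Bool.rec (fun _ => ℕ) (factBlk_n0_32 i) (@Bool.rec (fun _ => ℕ) (factBlk_n0_33 i) (factBlk_n0_34 i) (Nat.ble (nat_lit 1088) i)) (Nat.ble (nat_lit 1056) i)) (@Bool.rec (fun _ => ℕ) (factBlk_n0_35 i) (@Bool.rec (fun _ => ℕ) (factBlk_n0_36 i) (factBlk_n0_37 i) (Nat.ble (nat_lit 1184) i)) (Nat.ble (nat_lit 1152) i)) (Nat.ble (nat_lit 1120) i)) (@Bool.rec (fun _ => ℕ) (@Bool.rec (fun _ => ℕ) (factBlk_n0_38 i) (@Bool.rec (fun _ => ℕ) (factBlk_n0_39 i) (factBlk_n0_40 i) (Nat.ble (nat_lit 1280) i)) (Nat.ble (nat_lit 1248) i)) (@Bool.rec (fun _ => ℕ) (factBlk_n0_41 i) (@Bool.rec (fun _ => ℕ) (factBlk_n0_42 i)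 (factBlk_n0_43 i) (Nat.ble (nat_lit 1376) i)) (Nat.ble (nat_lit 1344) i)) (Nat.ble (nat_lit 1312) i)) (Nat.ble (nat_lit 1216) i))

def factBlk (i : ℕ) : ℕ := (@Bool.rec (fun _ => ℕ) (factBlk_n1_0 i) (factBlk_n1_1 i) (Nat.ble (nat_lit 1024) i))

def certBlk_n0_0 (i : ℕ) : ℕ := (@Bool.rec (fun _ => ℕ) (@Bool.rec (fun _ => ℕ) (@Bool.rec (fun _ => ℕ) (@Bool.rec (fun _ => ℕ) (@Bool.rec (fun _ => ℕ) cb0 cb1 (Nat.ble (nat_lit 1) i)) (@Bool.rec (fun _ => ℕ) cb2 cb3 (Nat.ble (nat_lit 3) i)) (Nat.ble (nat_lit 2) i)) (@Bool.rec (fun _ => ℕ) (@Bool.rec (fun _ => ℕ) cb4 cb5 (Nat.ble (nat_lit 5) i)) (@Bool.rec (fun _ => ℕ) cb6 cb7 (Nat.ble (nat_lit 7) i)) (Nat.ble (nat_lit 6) i)) (Nat.ble (nat_lit 4) i)) (@Bool.rec (fun _ => ℕ) (@Bool.rec (fun _ => ℕ) (@Bool.rec (fun _ => ℕ) cb8 cb9 (Nat.ble (nat_lit 9) i)) (@Bool.rec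 (fun _ => ℕ) cb10 cb11 (Nat.ble (nat_lit 11) i)) (Nat.ble (nat_lit 10) i)) (@Bool.rec (fun _ => ℕ) (@Bool.rec (fun _ => ℕ) cb12 cb13 (Nat.ble (nat_lit 13) i)) (@Bool.rec (fun _ => ℕ) cb14 cb15 (Nat.ble (nat_lit 15) i)) (Nat.ble (nat_lit 14) i)) (Nat.ble (nat_lit 12) i)) (Nat.ble (nat_lit 8) i)) (@Bool.rec (fun _ => ℕ) (@Bool.rec (fun _ => ℕ) (@Bool.rec (fun _ => ℕ) (@Bool.rec (fun _ => ℕ) cb16 cb17 (Nat.ble (nat_lit 17) i)) (@Bool.rec (fun _ => ℕ) cb18 cb19 (Nat.ble (nat_lit 19) i)) (Nat.ble (nat_lit 18) i)) (@Bool.rec (fun _ => ℕ) (@Bool.rec (fun _ => ℕ) cb20 cb21 (Nat.ble (nat_lit 21) i)) (@Bool.rec (fun _ => ℕ) cb22 cb23 (Nat.ble (nat_lit 23) i)) (Nat.ble (nat_lit 22) i)) (Nat.ble (nat_lit 20) i)) (@Bool.rec (fun _ => ℕ) (@Bool.rec (fun _ => ℕ) (@Bool.rec (fun _ => ℕ) cb24 cb25 (Nat.ble (nat_lit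 25) i)) (@Bool.rec (fun _ => ℕ) cb26 cb27 (Nat.ble (nat_lit 27) i)) (Nat.ble (nat_lit 26) i)) (@Bool.rec (fun _ => ℕ) (@Bool.rec (fun _ => ℕ) cb28 cb29 (Nat.ble (nat_lit 29) i)) (@Bool.rec (fun _ => ℕ) cb30 cb31 (Nat.ble (nat_lit 31) i)) (Nat.ble (nat_lit 30) i)) (Nat.ble (nat_lit 28) i)) (Nat.ble (nat_lit 24) i)) (Nat.ble (nat_lit 16) i))

def certBlk_n0_1 (i : ℕ) : ℕ := (@Bool.rec (fun _ => ℕ) (@Bool.rec (fun _ => ℕ) (@Bool.rec (fun _ => ℕ) (@Bool.rec (fun _ => ℕ) (@Bool.rec (fun _ => ℕ) cb32 cb33 (Nat.ble (nat_lit 33) i)) (@Bool.rec (fun _ => ℕ) cb34 cb35 (Nat.ble (nat_lit 35) i)) (Nat.ble (nat_lit 34) i)) (@Bool.rec (fun _ => ℕ) (@Bool.rec (fun _ => ℕ) cb36 cb37 (Nat.ble (nat_lit 37) i)) (@Bool.rec (fun _ => ℕ) cb38 cb39 (Nat.ble (nat_lit 39) i)) (Nat.ble (nat_lit 38) i)) (Nat.ble (nat_lit 36)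 i)) (@Bool.rec (fun _ => ℕ) (@Bool.rec (fun _ => ℕ) (@Bool.rec (fun _ => ℕ) cb40 cb41 (Nat.ble (nat_lit 41) i)) (@Bool.rec (fun _ => ℕ) cb42 cb43 (Nat.ble (nat_lit 43) i)) (Nat.ble (nat_lit 42) i)) (@Bool.rec (fun _ => ℕ) (@Bool.rec (fun _ => ℕ) cb44 cb45 (Nat.ble (nat_lit 45) i)) (@Bool.rec (fun _ => ℕ) cb46 cb47 (Nat.ble (nat_lit 47) i)) (Nat.ble (nat_lit 46) i)) (Nat.ble (nat_lit 44) i)) (Nat.ble (nat_lit 40) i)) (@Bool.rec (fun _ => ℕ) (@Bool.rec (fun _ => ℕ) (@Bool.rec (fun _ => ℕ) (@Bool.rec (fun _ => ℕ) cb48 cb49 (Nat.ble (nat_lit 49) i)) (@Bool.rec (fun _ => ℕ) cb50 cb51 (Nat.ble (nat_lit 51) i)) (Nat.ble (nat_lit 50) i)) (@Bool.rec (fun _ => ℕ) (@Bool.rec (fun _ => ℕ) cb52 cb53 (Nat.ble (nat_lit 53) i)) (@Bool.rec (fun _ => ℕ) cb54 cb55 (Nat.ble (nat_lit 55) i)) (Nat.ble (nat_lit 54) i))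 (Nat.ble (nat_lit 52) i)) (@Bool.rec (fun _ => ℕ) (@Bool.rec (fun _ => ℕ) (@Bool.rec (fun _ => ℕ) cb56 cb57 (Nat.ble (nat_lit 57) i)) (@Bool.rec (fun _ => ℕ) cb58 cb59 (Nat.ble (nat_lit 59) i)) (Nat.ble (nat_lit 58) i)) (@Bool.rec (fun _ => ℕ) (@Bool.rec (fun _ => ℕ) cb60 cb61 (Nat.ble (nat_lit 61) i)) (@Bool.rec (fun _ => ℕ) cb62 cb63 (Nat.ble (nat_lit 63) i)) (Nat.ble (nat_lit 62) i)) (Nat.ble (nat_lit 60) i)) (Nat.ble (nat_lit 56) i)) (Nat.ble (nat_lit 48) i))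

def certBlk_n0_2 (i : ℕ) : ℕ := (@Bool.rec (fun _ => ℕ) (@Bool.rec (fun _ => ℕ) (@Bool.rec (fun _ => ℕ) (@Bool.rec (fun _ => ℕ) (@Bool.rec (fun _ => ℕ) cb64 cb65 (Nat.ble (nat_lit 65) i)) (@Bool.rec (fun _ => ℕ) cb66 cb67 (Nat.ble (nat_lit 67) i)) (Nat.ble (nat_lit 66) i)) (@Bool.rec (fun _ => ℕ) (@Bool.rec (fun _ => ℕ) cb68 cb69 (Nat.ble (nat_lit 69) i)) (@Bool.rec (fun _ => ℕ) cb70 cb71 (Nat.ble (nat_lit 71) i)) (Nat.ble (nat_lit 70) i)) (Nat.ble (nat_lit 68) i)) (@Bool.rec (fun _ => ℕ) (@Bool.rec (fun _ => ℕ) (@Bool.rec (fun _ => ℕ) cb72 cb73 (Nat.ble (nat_lit 73) i)) (@Bool.rec (fun _ => ℕ) cb74 cb75 (Nat.ble (nat_lit 75) i)) (Nat.ble (nat_lit 74) i)) (@Bool.rec (fun _ => ℕ) (@Bool.rec (fun _ => ℕ) cb76 cb77 (Nat.ble (nat_lit 77) i)) (@Bool.rec (fun _ => ℕ) cb78 cb79 (Nat.ble (nat_lit 79) i))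 (Nat.ble (nat_lit 78) i)) (Nat.ble (nat_lit 76) i)) (Nat.ble (nat_lit 72) i)) (@Bool.rec (fun _ => ℕ) (@Bool.rec (fun _ => ℕ) (@Bool.rec (fun _ => ℕ) (@Bool.rec (fun _ => ℕ) cb80 cb81 (Nat.ble (nat_lit 81) i)) (@Bool.rec (fun _ => ℕ) cb82 cb83 (Nat.ble (nat_lit 83) i)) (Nat.ble (nat_lit 82) i)) (@Bool.rec (fun _ => ℕ) (@Bool.rec (fun _ => ℕ) cb84 cb85 (Nat.ble (nat_lit 85) i)) (@Bool.rec (fun _ => ℕ) cb86 cb87 (Nat.ble (nat_lit 87) i)) (Nat.ble (nat_lit 86) i)) (Nat.ble (nat_lit 84) i)) (@Bool.rec (fun _ => ℕ) (@Bool.rec (fun _ => ℕ) (@Bool.rec (fun _ => ℕ) cb88 cb89 (Nat.ble (nat_lit 89) i)) (@Bool.rec (fun _ => ℕ) cb90 cb91 (Nat.ble (nat_lit 91) i)) (Nat.ble (nat_lit 90) i)) (@Bool.rec (fun _ => ℕ) (@Bool.rec (fun _ => ℕ) cb92 cb93 (Nat.ble (nat_lit 93) i)) (@Bool.rec (fun _ => ℕ) cb94 cb95 (Nat.ble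 (nat_lit 95) i)) (Nat.ble (nat_lit 94) i)) (Nat.ble (nat_lit 92) i)) (Nat.ble (nat_lit 88) i)) (Nat.ble (nat_lit 80) i))

def certBlk_n0_3 (i : ℕ) : ℕ := (@Bool.rec (fun _ => ℕ) (@Bool.rec (fun _ => ℕ) (@Bool.rec (fun _ => ℕ) (@Bool.rec (fun _ => ℕ) (@Bool.rec (fun _ => ℕ) cb96 cb97 (Nat.ble (nat_lit 97) i)) (@Bool.rec (fun _ => ℕ) cb98 cb99 (Nat.ble (nat_lit 99) i)) (Nat.ble (nat_lit 98) i)) (@Bool.rec (fun _ => ℕ) (@Bool.rec (fun _ => ℕ) cb100 cb101 (Nat.ble (nat_lit 101) i)) (@Bool.rec (fun _ => ℕ) cb102 cb103 (Nat.ble (nat_lit 103) i)) (Nat.ble (nat_lit 102) i)) (Nat.ble (nat_lit 100) i)) (@Bool.rec (fun _ => ℕ) (@Bool.rec (fun _ => ℕ) (@Bool.rec (fun _ => ℕ) cb104 cb105 (Nat.ble (nat_lit 105) i)) (@Bool.rec (fun _ => ℕ) cb106 cb107 (Nat.ble (nat_lit 107) i)) (Nat.ble (nat_lit 106) i)) (@Bool.rec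 (fun _ => ℕ) (@Bool.rec (fun _ => ℕ) cb108 cb109 (Nat.ble (nat_lit 109) i)) (@Bool.rec (fun _ => ℕ) cb110 cb111 (Nat.ble (nat_lit 111) i)) (Nat.ble (nat_lit 110) i)) (Nat.ble (nat_lit 108) i)) (Nat.ble (nat_lit 104) i)) (@Bool.rec (fun _ => ℕ) (@Bool.rec (fun _ => ℕ) (@Bool.rec (fun _ => ℕ) (@Bool.rec (fun _ => ℕ) cb112 cb113 (Nat.ble (nat_lit 113) i)) (@Bool.rec (fun _ => ℕ) cb114 cb115 (Nat.ble (nat_lit 115) i)) (Nat.ble (nat_lit 114) i)) (@Bool.rec (fun _ => ℕ) (@Bool.rec (fun _ => ℕ) cb116 cb117 (Nat.ble (nat_lit 117) i)) (@Bool.rec (fun _ => ℕ) cb118 cb119 (Nat.ble (nat_lit 119) i)) (Nat.ble (nat_lit 118) i)) (Nat.ble (nat_lit 116) i)) (@Bool.rec (fun _ => ℕ) (@Bool.rec (fun _ => ℕ) (@Bool.rec (fun _ => ℕ) cb120 cb121 (Nat.ble (nat_lit 121) i)) (@Bool.rec (fun _ => ℕ) cb122 cb123 (Nat.ble (nat_lit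 123) i)) (Nat.ble (nat_lit 122) i)) (@Bool.rec (fun _ => ℕ) (@Bool.rec (fun _ => ℕ) cb124 cb125 (Nat.ble (nat_lit 125) i)) (@Bool.rec (fun _ => ℕ) cb126 cb127 (Nat.ble (nat_lit 127) i)) (Nat.ble (nat_lit 126) i)) (Nat.ble (nat_lit 124) i)) (Nat.ble (nat_lit 120) i)) (Nat.ble (nat_lit 112) i))

def certBlk_n0_4 (i : ℕ) : ℕ := (@Bool.rec (fun _ => ℕ) (@Bool.rec (fun _ => ℕ) (@Bool.rec (fun _ => ℕ) (@Bool.rec (fun _ => ℕ) (@Bool.rec (fun _ => ℕ) cb128 cb129 (Nat.ble (nat_lit 129) i)) (@Bool.rec (fun _ => ℕ) cb130 cb131 (Nat.ble (nat_lit 131) i)) (Nat.ble (nat_lit 130) i)) (@Bool.rec (fun _ => ℕ) (@Bool.rec (fun _ => ℕ) cb132 cb133 (Nat.ble (nat_lit 133) i)) (@Bool.rec (fun _ => ℕ) cb134 cb135 (Nat.ble (nat_lit 135) i)) (Nat.ble (nat_lit 134) i)) (Nat.ble (nat_lit 132) i)) (@Bool.rec (fun _ => ℕ) (@Bool.rec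 (fun _ => ℕ) (@Bool.rec (fun _ => ℕ) cb136 cb137 (Nat.ble (nat_lit 137) i)) (@Bool.rec (fun _ => ℕ) cb138 cb139 (Nat.ble (nat_lit 139) i)) (Nat.ble (nat_lit 138) i)) (@Bool.rec (fun _ => ℕ) (@Bool.rec (fun _ => ℕ) cb140 cb141 (Nat.ble (nat_lit 141) i)) (@Bool.rec (fun _ => ℕ) cb142 cb143 (Nat.ble (nat_lit 143) i)) (Nat.ble (nat_lit 142) i)) (Nat.ble (nat_lit 140) i)) (Nat.ble (nat_lit 136) i)) (@Bool.rec (fun _ => ℕ) (@Bool.rec (fun _ => ℕ) (@Bool.rec (fun _ => ℕ) (@Bool.rec (fun _ => ℕ) cb144 cb145 (Nat.ble (nat_lit 145) i)) (@Bool.rec (fun _ => ℕ) cb146 cb147 (Nat.ble (nat_lit 147) i)) (Nat.ble (nat_lit 146) i)) (@Bool.rec (fun _ => ℕ) (@Bool.rec (fun _ => ℕ) cb148 cb149 (Nat.ble (nat_lit 149) i)) (@Bool.rec (fun _ => ℕ) cb150 cb151 (Nat.ble (nat_lit 151) i)) (Nat.ble (nat_lit 150) i)) (Nat.ble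 (nat_lit 148) i)) (@Bool.rec (fun _ => ℕ) (@Bool.rec (fun _ => ℕ) (@Bool.rec (fun _ => ℕ) cb152 cb153 (Nat.ble (nat_lit 153) i)) (@Bool.rec (fun _ => ℕ) cb154 cb155 (Nat.ble (nat_lit 155) i)) (Nat.ble (nat_lit 154) i)) (@Bool.rec (fun _ => ℕ) (@Bool.rec (fun _ => ℕ) cb156 cb157 (Nat.ble (nat_lit 157) i)) (@Bool.rec (fun _ => ℕ) cb158 cb159 (Nat.ble (nat_lit 159) i)) (Nat.ble (nat_lit 158) i)) (Nat.ble (nat_lit 156) i)) (Nat.ble (nat_lit 152) i)) (Nat.ble (nat_lit 144) i))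

def certBlk_n0_5 (i : ℕ) : ℕ := (@Bool.rec (fun _ => ℕ) (@Bool.rec (fun _ => ℕ) (@Bool.rec (fun _ => ℕ) (@Bool.rec (fun _ => ℕ) (@Bool.rec (fun _ => ℕ) cb160 cb161 (Nat.ble (nat_lit 161) i)) (@Bool.rec (fun _ => ℕ) cb162 cb163 (Nat.ble (nat_lit 163) i)) (Nat.ble (nat_lit 162) i)) (@Bool.rec (fun _ => ℕ) (@Bool.rec (fun _ => ℕ) cb164 cb165 (Nat.ble (nat_lit 165) i)) (@Bool.rec (fun _ => ℕ) cb166 cb167 (Nat.ble (nat_lit 167) i)) (Nat.ble (nat_lit 166) i)) (Nat.ble (nat_lit 164) i)) (@Bool.rec (fun _ => ℕ) (@Bool.rec (fun _ => ℕ) (@Bool.rec (fun _ => ℕ) cb168 cb169 (Nat.ble (nat_lit 169) i)) (@Bool.rec (fun _ => ℕ) cb170 cb171 (Nat.ble (nat_lit 171) i)) (Nat.ble (nat_lit 170) i)) (@Bool.rec (fun _ => ℕ) (@Bool.rec (fun _ => ℕ) cb172 cb173 (Nat.ble (nat_lit 173) i)) (@Bool.rec (fun _ => ℕ) cb174 cb175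 (Nat.ble (nat_lit 175) i)) (Nat.ble (nat_lit 174) i)) (Nat.ble (nat_lit 172) i)) (Nat.ble (nat_lit 168) i)) (@Bool.rec (fun _ => ℕ) (@Bool.rec (fun _ => ℕ) (@Bool.rec (fun _ => ℕ) (@Bool.rec (fun _ => ℕ) cb176 cb177 (Nat.ble (nat_lit 177) i)) (@Bool.rec (fun _ => ℕ) cb178 cb179 (Nat.ble (nat_lit 179) i)) (Nat.ble (nat_lit 178) i)) (@Bool.rec (fun _ => ℕ) (@Bool.rec (fun _ => ℕ) cb180 cb181 (Nat.ble (nat_lit 181) i)) (@Bool.rec (fun _ => ℕ) cb182 cb183 (Nat.ble (nat_lit 183) i)) (Nat.ble (nat_lit 182) i)) (Nat.ble (nat_lit 180) i)) (@Bool.rec (fun _ => ℕ) (@Bool.rec (fun _ => ℕ) (@Bool.rec (fun _ => ℕ) cb184 cb185 (Nat.ble (nat_lit 185) i)) (@Bool.rec (fun _ => ℕ) cb186 cb187 (Nat.ble (nat_lit 187) i)) (Nat.ble (nat_lit 186) i)) (@Bool.rec (fun _ => ℕ) (@Bool.rec (fun _ => ℕ) cb188 cb189 (Nat.ble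 (nat_lit 189) i)) (@Bool.rec (fun _ => ℕ) cb190 cb191 (Nat.ble (nat_lit 191) i)) (Nat.ble (nat_lit 190) i)) (Nat.ble (nat_lit 188) i)) (Nat.ble (nat_lit 184) i)) (Nat.ble (nat_lit 176) i))

def certBlk_n0_6 (i : ℕ) : ℕ := (@Bool.rec (fun _ => ℕ) (@Bool.rec (fun _ => ℕ) (@Bool.rec (fun _ => ℕ) (@Bool.rec (fun _ => ℕ) (@Bool.rec (fun _ => ℕ) cb192 cb193 (Nat.ble (nat_lit 193) i)) (@Bool.rec (fun _ => ℕ) cb194 cb195 (Nat.ble (nat_lit 195) i)) (Nat.ble (nat_lit 194) i)) (@Bool.rec (fun _ => ℕ) (@Bool.rec (fun _ => ℕ) cb196 cb197 (Nat.ble (nat_lit 197) i)) (@Bool.rec (fun _ => ℕ) cb198 cb199 (Nat.ble (nat_lit 199) i)) (Nat.ble (nat_lit 198) i)) (Nat.ble (nat_lit 196) i)) (@Bool.rec (fun _ => ℕ) (@Bool.rec (fun _ => ℕ) (@Bool.rec (fun _ => ℕ) cb200 cb201 (Nat.ble (nat_lit 201) i)) (@Bool.rec (fun _ =>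 ℕ) cb202 cb203 (Nat.ble (nat_lit 203) i)) (Nat.ble (nat_lit 202) i)) (@Bool.rec (fun _ => ℕ) (@Bool.rec (fun _ => ℕ) cb204 cb205 (Nat.ble (nat_lit 205) i)) (@Bool.rec (fun _ => ℕ) cb206 cb207 (Nat.ble (nat_lit 207) i)) (Nat.ble (nat_lit 206) i)) (Nat.ble (nat_lit 204) i)) (Nat.ble (nat_lit 200) i)) (@Bool.rec (fun _ => ℕ) (@Bool.rec (fun _ => ℕ) (@Bool.rec (fun _ => ℕ) (@Bool.rec (fun _ => ℕ) cb208 cb209 (Nat.ble (nat_lit 209) i)) (@Bool.rec (fun _ => ℕ) cb210 cb211 (Nat.ble (nat_lit 211) i)) (Nat.ble (nat_lit 210) i)) (@Bool.rec (fun _ => ℕ) (@Bool.rec (fun _ => ℕ) cb212 cb213 (Nat.ble (nat_lit 213) i)) (@Bool.rec (fun _ => ℕ) cb214 cb215 (Nat.ble (nat_lit 215) i)) (Nat.ble (nat_lit 214) i)) (Nat.ble (nat_lit 212) i)) (@Bool.rec (fun _ => ℕ) (@Bool.rec (fun _ => ℕ) (@Bool.rec (fun _ => ℕ) cb216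 cb217 (Nat.ble (nat_lit 217) i)) (@Bool.rec (fun _ => ℕ) cb218 cb219 (Nat.ble (nat_lit 219) i)) (Nat.ble (nat_lit 218) i)) (@Bool.rec (fun _ => ℕ) (@Bool.rec (fun _ => ℕ) cb220 cb221 (Nat.ble (nat_lit 221) i)) (@Bool.rec (fun _ => ℕ) cb222 cb223 (Nat.ble (nat_lit 223) i)) (Nat.ble (nat_lit 222) i)) (Nat.ble (nat_lit 220) i)) (Nat.ble (nat_lit 216) i)) (Nat.ble (nat_lit 208) i))

def certBlk_n0_7 (i : ℕ) : ℕ := (@Bool.rec (fun _ => ℕ) (@Bool.rec (fun _ => ℕ) (@Bool.rec (fun _ => ℕ) (@Bool.rec (fun _ => ℕ) (@Bool.rec (fun _ => ℕ) cb224 cb225 (Nat.ble (nat_lit 225) i)) (@Bool.rec (fun _ => ℕ) cb226 cb227 (Nat.ble (nat_lit 227) i)) (Nat.ble (nat_lit 226) i)) (@Bool.rec (fun _ => ℕ) (@Bool.rec (fun _ => ℕ) cb228 cb229 (Nat.ble (nat_lit 229) i)) (@Bool.rec (fun _ => ℕ) cb230 cb231 (Nat.ble (nat_lit 231)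 i)) (Nat.ble (nat_lit 230) i)) (Nat.ble (nat_lit 228) i)) (@Bool.rec (fun _ => ℕ) (@Bool.rec (fun _ => ℕ) (@Bool.rec (fun _ => ℕ) cb232 cb233 (Nat.ble (nat_lit 233) i)) (@Bool.rec (fun _ => ℕ) cb234 cb235 (Nat.ble (nat_lit 235) i)) (Nat.ble (nat_lit 234) i)) (@Bool.rec (fun _ => ℕ) (@Bool.rec (fun _ => ℕ) cb236 cb237 (Nat.ble (nat_lit 237) i)) (@Bool.rec (fun _ => ℕ) cb238 cb239 (Nat.ble (nat_lit 239) i)) (Nat.ble (nat_lit 238) i)) (Nat.ble (nat_lit 236) i)) (Nat.ble (nat_lit 232) i)) (@Bool.rec (fun _ => ℕ) (@Bool.rec (fun _ => ℕ) (@Bool.rec (fun _ => ℕ) (@Bool.rec (fun _ => ℕ) cb240 cb241 (Nat.ble (nat_lit 241) i)) (@Bool.rec (fun _ => ℕ) cb242 cb243 (Nat.ble (nat_lit 243) i)) (Nat.ble (nat_lit 242) i)) (@Bool.rec (fun _ => ℕ) (@Bool.rec (fun _ => ℕ) cb244 cb245 (Nat.ble (nat_lit 245) i)) (@Bool.rec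 (fun _ => ℕ) cb246 cb247 (Nat.ble (nat_lit 247) i)) (Nat.ble (nat_lit 246) i)) (Nat.ble (nat_lit 244) i)) (@Bool.rec (fun _ => ℕ) (@Bool.rec (fun _ => ℕ) (@Bool.rec (fun _ => ℕ) cb248 cb249 (Nat.ble (nat_lit 249) i)) (@Bool.rec (fun _ => ℕ) cb250 cb251 (Nat.ble (nat_lit 251) i)) (Nat.ble (nat_lit 250) i)) (@Bool.rec (fun _ => ℕ) (@Bool.rec (fun _ => ℕ) cb252 cb253 (Nat.ble (nat_lit 253) i)) (@Bool.rec (fun _ => ℕ) cb254 cb255 (Nat.ble (nat_lit 255) i)) (Nat.ble (nat_lit 254) i)) (Nat.ble (nat_lit 252) i)) (Nat.ble (nat_lit 248) i)) (Nat.ble (nat_lit 240) i))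

def certBlk_n0_8 (i : ℕ) : ℕ := (@Bool.rec (fun _ => ℕ) (@Bool.rec (fun _ => ℕ) (@Bool.rec (fun _ => ℕ) (@Bool.rec (fun _ => ℕ) (@Bool.rec (fun _ => ℕ) cb256 cb257 (Nat.ble (nat_lit 257) i)) (@Bool.rec (fun _ => ℕ) cb258 cb259 (Nat.ble (nat_lit 259) i)) (Nat.ble (nat_lit 258) i)) (@Bool.rec (fun _ => ℕ) (@Bool.rec (fun _ => ℕ) cb260 cb261 (Nat.ble (nat_lit 261) i)) (@Bool.rec (fun _ => ℕ) cb262 cb263 (Nat.ble (nat_lit 263) i)) (Nat.ble (nat_lit 262) i)) (Nat.ble (nat_lit 260) i)) (@Bool.rec (fun _ => ℕ) (@Bool.rec (fun _ => ℕ) (@Bool.rec (fun _ => ℕ) cb264 cb265 (Nat.ble (nat_lit 265) i)) (@Bool.rec (fun _ => ℕ) cb266 cb267 (Nat.ble (nat_lit 267) i)) (Nat.ble (nat_lit 266) i)) (@Bool.rec (fun _ => ℕ) (@Bool.rec (fun _ => ℕ) cb268 cb269 (Nat.ble (nat_lit 269) i)) (@Bool.rec (fun _ => ℕ) cb270 cb271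 (Nat.ble (nat_lit 271) i)) (Nat.ble (nat_lit 270) i)) (Nat.ble (nat_lit 268) i)) (Nat.ble (nat_lit 264) i)) (@Bool.rec (fun _ => ℕ) (@Bool.rec (fun _ => ℕ) (@Bool.rec (fun _ => ℕ) (@Bool.rec (fun _ => ℕ) cb272 cb273 (Nat.ble (nat_lit 273) i)) (@Bool.rec (fun _ => ℕ) cb274 cb275 (Nat.ble (nat_lit 275) i)) (Nat.ble (nat_lit 274) i)) (@Bool.rec (fun _ => ℕ) (@Bool.rec (fun _ => ℕ) cb276 cb277 (Nat.ble (nat_lit 277) i)) (@Bool.rec (fun _ => ℕ) cb278 cb279 (Nat.ble (nat_lit 279) i)) (Nat.ble (nat_lit 278) i)) (Nat.ble (nat_lit 276) i)) (@Bool.rec (fun _ => ℕ) (@Bool.rec (fun _ => ℕ) (@Bool.rec (fun _ => ℕ) cb280 cb281 (Nat.ble (nat_lit 281) i)) (@Bool.rec (fun _ => ℕ) cb282 cb283 (Nat.ble (nat_lit 283) i)) (Nat.ble (nat_lit 282) i)) (@Bool.rec (fun _ => ℕ) (@Bool.rec (fun _ => ℕ) cb284 cb285 (Nat.ble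 (nat_lit 285) i)) (@Bool.rec (fun _ => ℕ) cb286 cb287 (Nat.ble (nat_lit 287) i)) (Nat.ble (nat_lit 286) i)) (Nat.ble (nat_lit 284) i)) (Nat.ble (nat_lit 280) i)) (Nat.ble (nat_lit 272) i))

def certBlk_n0_9 (i : ℕ) : ℕ := (@Bool.rec (fun _ => ℕ) (@Bool.rec (fun _ => ℕ) (@Bool.rec (fun _ => ℕ) (@Bool.rec (fun _ => ℕ) (@Bool.rec (fun _ => ℕ) cb288 cb289 (Nat.ble (nat_lit 289) i)) (@Bool.rec (fun _ => ℕ) cb290 cb291 (Nat.ble (nat_lit 291) i)) (Nat.ble (nat_lit 290) i)) (@Bool.rec (fun _ => ℕ) (@Bool.rec (fun _ => ℕ) cb292 cb293 (Nat.ble (nat_lit 293) i)) (@Bool.rec (fun _ => ℕ) cb294 cb295 (Nat.ble (nat_lit 295) i)) (Nat.ble (nat_lit 294) i)) (Nat.ble (nat_lit 292) i)) (@Bool.rec (fun _ => ℕ) (@Bool.rec (fun _ => ℕ) (@Bool.rec (fun _ => ℕ) cb296 cb297 (Nat.ble (nat_lit 297) i)) (@Bool.rec (fun _ =>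 ℕ) cb298 cb299 (Nat.ble (nat_lit 299) i)) (Nat.ble (nat_lit 298) i)) (@Bool.rec (fun _ => ℕ) (@Bool.rec (fun _ => ℕ) cb300 cb301 (Nat.ble (nat_lit 301) i)) (@Bool.rec (fun _ => ℕ) cb302 cb303 (Nat.ble (nat_lit 303) i)) (Nat.ble (nat_lit 302) i)) (Nat.ble (nat_lit 300) i)) (Nat.ble (nat_lit 296) i)) (@Bool.rec (fun _ => ℕ) (@Bool.rec (fun _ => ℕ) (@Bool.rec (fun _ => ℕ) (@Bool.rec (fun _ => ℕ) cb304 cb305 (Nat.ble (nat_lit 305) i)) (@Bool.rec (fun _ => ℕ) cb306 cb307 (Nat.ble (nat_lit 307) i)) (Nat.ble (nat_lit 306) i)) (@Bool.rec (fun _ => ℕ) (@Bool.rec (fun _ => ℕ) cb308 cb309 (Nat.ble (nat_lit 309) i)) (@Bool.rec (fun _ => ℕ) cb310 cb311 (Nat.ble (nat_lit 311) i)) (Nat.ble (nat_lit 310) i)) (Nat.ble (nat_lit 308) i)) (@Bool.rec (fun _ => ℕ) (@Bool.rec (fun _ => ℕ) (@Bool.rec (fun _ => ℕ) cb312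 cb313 (Nat.ble (nat_lit 313) i)) (@Bool.rec (fun _ => ℕ) cb314 cb315 (Nat.ble (nat_lit 315) i)) (Nat.ble (nat_lit 314) i)) (@Bool.rec (fun _ => ℕ) (@Bool.rec (fun _ => ℕ) cb316 cb317 (Nat.ble (nat_lit 317) i)) (@Bool.rec (fun _ => ℕ) cb318 cb319 (Nat.ble (nat_lit 319) i)) (Nat.ble (nat_lit 318) i)) (Nat.ble (nat_lit 316) i)) (Nat.ble (nat_lit 312) i)) (Nat.ble (nat_lit 304) i))

def certBlk_n0_10 (i : ℕ) : ℕ := (@Bool.rec (fun _ => ℕ) (@Bool.rec (fun _ => ℕ) (@Bool.rec (fun _ => ℕ) (@Bool.rec (fun _ => ℕ) (@Bool.rec (fun _ => ℕ) cb320 cb321 (Nat.ble (nat_lit 321) i)) (@Bool.rec (fun _ => ℕ) cb322 cb323 (Nat.ble (nat_lit 323) i)) (Nat.ble (nat_lit 322) i)) (@Bool.rec (fun _ => ℕ) (@Bool.rec (fun _ => ℕ) cb324 cb325 (Nat.ble (nat_lit 325) i)) (@Bool.rec (fun _ => ℕ) cb326 cb327 (Nat.ble (nat_lit 327)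 i)) (Nat.ble (nat_lit 326) i)) (Nat.ble (nat_lit 324) i)) (@Bool.rec (fun _ => ℕ) (@Bool.rec (fun _ => ℕ) (@Bool.rec (fun _ => ℕ) cb328 cb329 (Nat.ble (nat_lit 329) i)) (@Bool.rec (fun _ => ℕ) cb330 cb331 (Nat.ble (nat_lit 331) i)) (Nat.ble (nat_lit 330) i)) (@Bool.rec (fun _ => ℕ) (@Bool.rec (fun _ => ℕ) cb332 cb333 (Nat.ble (nat_lit 333) i)) (@Bool.rec (fun _ => ℕ) cb334 cb335 (Nat.ble (nat_lit 335) i)) (Nat.ble (nat_lit 334) i)) (Nat.ble (nat_lit 332) i)) (Nat.ble (nat_lit 328) i)) (@Bool.rec (fun _ => ℕ) (@Bool.rec (fun _ => ℕ) (@Bool.rec (fun _ => ℕ) (@Bool.rec (fun _ => ℕ) cb336 cb337 (Nat.ble (nat_lit 337) i)) (@Bool.rec (fun _ => ℕ) cb338 cb339 (Nat.ble (nat_lit 339) i)) (Nat.ble (nat_lit 338) i)) (@Bool.rec (fun _ => ℕ) (@Bool.rec (fun _ => ℕ) cb340 cb341 (Nat.ble (nat_lit 341) i)) (@Bool.rec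 (fun _ => ℕ) cb342 cb343 (Nat.ble (nat_lit 343) i)) (Nat.ble (nat_lit 342) i)) (Nat.ble (nat_lit 340) i)) (@Bool.rec (fun _ => ℕ) (@Bool.rec (fun _ => ℕ) (@Bool.rec (fun _ => ℕ) cb344 cb345 (Nat.ble (nat_lit 345) i)) (@Bool.rec (fun _ => ℕ) cb346 cb347 (Nat.ble (nat_lit 347) i)) (Nat.ble (nat_lit 346) i)) (@Bool.rec (fun _ => ℕ) (@Bool.rec (fun _ => ℕ) cb348 cb349 (Nat.ble (nat_lit 349) i)) (@Bool.rec (fun _ => ℕ) cb350 cb351 (Nat.ble (nat_lit 351) i)) (Nat.ble (nat_lit 350) i)) (Nat.ble (nat_lit 348) i)) (Nat.ble (nat_lit 344) i)) (Nat.ble (nat_lit 336) i))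

def certBlk_n0_11 (i : ℕ) : ℕ := (@Bool.rec (fun _ => ℕ) (@Bool.rec (fun _ => ℕ) (@Bool.rec (fun _ => ℕ) (@Bool.rec (fun _ => ℕ) (@Bool.rec (fun _ => ℕ) cb352 cb353 (Nat.ble (nat_lit 353) i)) (@Bool.rec (fun _ => ℕ) cb354 cb355 (Nat.ble (nat_lit 355) i)) (Nat.ble (nat_lit 354) i)) (@Bool.rec (fun _ => ℕ) (@Bool.rec (fun _ => ℕ) cb356 cb357 (Nat.ble (nat_lit 357) i)) (@Bool.rec (fun _ => ℕ) cb358 cb359 (Nat.ble (nat_lit 359) i)) (Nat.ble (nat_lit 358) i)) (Nat.ble (nat_lit 356) i)) (@Bool.rec (fun _ => ℕ) (@Bool.rec (fun _ => ℕ) (@Bool.rec (fun _ => ℕ) cb360 cb361 (Nat.ble (nat_lit 361) i)) (@Bool.rec (fun _ => ℕ) cb362 cb363 (Nat.ble (nat_lit 363) i)) (Nat.ble (nat_lit 362) i)) (@Bool.rec (fun _ => ℕ) (@Bool.rec (fun _ => ℕ) cb364 cb365 (Nat.ble (nat_lit 365) i)) (@Bool.rec (fun _ => ℕ) cb366 cb367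 (Nat.ble (nat_lit 367) i)) (Nat.ble (nat_lit 366) i)) (Nat.ble (nat_lit 364) i)) (Nat.ble (nat_lit 360) i)) (@Bool.rec (fun _ => ℕ) (@Bool.rec (fun _ => ℕ) (@Bool.rec (fun _ => ℕ) (@Bool.rec (fun _ => ℕ) cb368 cb369 (Nat.ble (nat_lit 369) i)) (@Bool.rec (fun _ => ℕ) cb370 cb371 (Nat.ble (nat_lit 371) i)) (Nat.ble (nat_lit 370) i)) (@Bool.rec (fun _ => ℕ) (@Bool.rec (fun _ => ℕ) cb372 cb373 (Nat.ble (nat_lit 373) i)) (@Bool.rec (fun _ => ℕ) cb374 cb375 (Nat.ble (nat_lit 375) i)) (Nat.ble (nat_lit 374) i)) (Nat.ble (nat_lit 372) i)) (@Bool.rec (fun _ => ℕ) (@Bool.rec (fun _ => ℕ) (@Bool.rec (fun _ => ℕ) cb376 cb377 (Nat.ble (nat_lit 377) i)) (@Bool.rec (fun _ => ℕ) cb378 cb379 (Nat.ble (nat_lit 379) i)) (Nat.ble (nat_lit 378) i)) (@Bool.rec (fun _ => ℕ) (@Bool.rec (fun _ => ℕ) cb380 cb381 (Nat.ble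 (nat_lit 381) i)) (@Bool.rec (fun _ => ℕ) cb382 cb383 (Nat.ble (nat_lit 383) i)) (Nat.ble (nat_lit 382) i)) (Nat.ble (nat_lit 380) i)) (Nat.ble (nat_lit 376) i)) (Nat.ble (nat_lit 368) i))

def certBlk_n0_12 (i : ℕ) : ℕ := (@Bool.rec (fun _ => ℕ) (@Bool.rec (fun _ => ℕ) (@Bool.rec (fun _ => ℕ) (@Bool.rec (fun _ => ℕ) (@Bool.rec (fun _ => ℕ) cb384 cb385 (Nat.ble (nat_lit 385) i)) (@Bool.rec (fun _ => ℕ) cb386 cb387 (Nat.ble (nat_lit 387) i)) (Nat.ble (nat_lit 386) i)) (@Bool.rec (fun _ => ℕ) (@Bool.rec (fun _ => ℕ) cb388 cb389 (Nat.ble (nat_lit 389) i)) (@Bool.rec (fun _ => ℕ) cb390 cb391 (Nat.ble (nat_lit 391) i)) (Nat.ble (nat_lit 390) i)) (Nat.ble (nat_lit 388) i)) (@Bool.rec (fun _ => ℕ) (@Bool.rec (fun _ => ℕ) (@Bool.rec (fun _ => ℕ) cb392 cb393 (Nat.ble (nat_lit 393) i)) (@Bool.rec (fun _ =>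 ℕ) cb394 cb395 (Nat.ble (nat_lit 395) i)) (Nat.ble (nat_lit 394) i)) (@Bool.rec (fun _ => ℕ) (@Bool.rec (fun _ => ℕ) cb396 cb397 (Nat.ble (nat_lit 397) i)) (@Bool.rec (fun _ => ℕ) cb398 cb399 (Nat.ble (nat_lit 399) i)) (Nat.ble (nat_lit 398) i)) (Nat.ble (nat_lit 396) i)) (Nat.ble (nat_lit 392) i)) (@Bool.rec (fun _ => ℕ) (@Bool.rec (fun _ => ℕ) (@Bool.rec (fun _ => ℕ) (@Bool.rec (fun _ => ℕ) cb400 cb401 (Nat.ble (nat_lit 401) i)) (@Bool.rec (fun _ => ℕ) cb402 cb403 (Nat.ble (nat_lit 403) i)) (Nat.ble (nat_lit 402) i)) (@Bool.rec (fun _ => ℕ) (@Bool.rec (fun _ => ℕ) cb404 cb405 (Nat.ble (nat_lit 405) i)) (@Bool.rec (fun _ => ℕ) cb406 cb407 (Nat.ble (nat_lit 407) i)) (Nat.ble (nat_lit 406) i)) (Nat.ble (nat_lit 404) i)) (@Bool.rec (fun _ => ℕ) (@Bool.rec (fun _ => ℕ) (@Bool.rec (fun _ => ℕ) cb408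 cb409 (Nat.ble (nat_lit 409) i)) (@Bool.rec (fun _ => ℕ) cb410 cb411 (Nat.ble (nat_lit 411) i)) (Nat.ble (nat_lit 410) i)) (@Bool.rec (fun _ => ℕ) (@Bool.rec (fun _ => ℕ) cb412 cb413 (Nat.ble (nat_lit 413) i)) (@Bool.rec (fun _ => ℕ) cb414 cb415 (Nat.ble (nat_lit 415) i)) (Nat.ble (nat_lit 414) i)) (Nat.ble (nat_lit 412) i)) (Nat.ble (nat_lit 408) i)) (Nat.ble (nat_lit 400) i))

def certBlk_n0_13 (i : ℕ) : ℕ := (@Bool.rec (fun _ => ℕ) (@Bool.rec (fun _ => ℕ) (@Bool.rec (fun _ => ℕ) (@Bool.rec (fun _ => ℕ) (@Bool.rec (fun _ => ℕ) cb416 cb417 (Nat.ble (nat_lit 417) i)) (@Bool.rec (fun _ => ℕ) cb418 cb419 (Nat.ble (nat_lit 419) i)) (Nat.ble (nat_lit 418) i)) (@Bool.rec (fun _ => ℕ) (@Bool.rec (fun _ => ℕ) cb420 cb421 (Nat.ble (nat_lit 421) i)) (@Bool.rec (fun _ => ℕ) cb422 cb423 (Nat.ble (nat_lit 423)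 i)) (Nat.ble (nat_lit 422) i)) (Nat.ble (nat_lit 420) i)) (@Bool.rec (fun _ => ℕ) (@Bool.rec (fun _ => ℕ) (@Bool.rec (fun _ => ℕ) cb424 cb425 (Nat.ble (nat_lit 425) i)) (@Bool.rec (fun _ => ℕ) cb426 cb427 (Nat.ble (nat_lit 427) i)) (Nat.ble (nat_lit 426) i)) (@Bool.rec (fun _ => ℕ) (@Bool.rec (fun _ => ℕ) cb428 cb429 (Nat.ble (nat_lit 429) i)) (@Bool.rec (fun _ => ℕ) cb430 cb431 (Nat.ble (nat_lit 431) i)) (Nat.ble (nat_lit 430) i)) (Nat.ble (nat_lit 428) i)) (Nat.ble (nat_lit 424) i)) (@Bool.rec (fun _ => ℕ) (@Bool.rec (fun _ => ℕ) (@Bool.rec (fun _ => ℕ) (@Bool.rec (fun _ => ℕ) cb432 cb433 (Nat.ble (nat_lit 433) i)) (@Bool.rec (fun _ => ℕ) cb434 cb435 (Nat.ble (nat_lit 435) i)) (Nat.ble (nat_lit 434) i)) (@Bool.rec (fun _ => ℕ) (@Bool.rec (fun _ => ℕ) cb436 cb437 (Nat.ble (nat_lit 437) i)) (@Bool.rec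 (fun _ => ℕ) cb438 cb439 (Nat.ble (nat_lit 439) i)) (Nat.ble (nat_lit 438) i)) (Nat.ble (nat_lit 436) i)) (@Bool.rec (fun _ => ℕ) (@Bool.rec (fun _ => ℕ) (@Bool.rec (fun _ => ℕ) cb440 cb441 (Nat.ble (nat_lit 441) i)) (@Bool.rec (fun _ => ℕ) cb442 cb443 (Nat.ble (nat_lit 443) i)) (Nat.ble (nat_lit 442) i)) (@Bool.rec (fun _ => ℕ) (@Bool.rec (fun _ => ℕ) cb444 cb445 (Nat.ble (nat_lit 445) i)) (@Bool.rec (fun _ => ℕ) cb446 cb447 (Nat.ble (nat_lit 447) i)) (Nat.ble (nat_lit 446) i)) (Nat.ble (nat_lit 444) i)) (Nat.ble (nat_lit 440) i)) (Nat.ble (nat_lit 432) i))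

def certBlk_n0_14 (i : ℕ) : ℕ := (@Bool.rec (fun _ => ℕ) (@Bool.rec (fun _ => ℕ) (@Bool.rec (fun _ => ℕ) (@Bool.rec (fun _ => ℕ) (@Bool.rec (fun _ => ℕ) cb448 cb449 (Nat.ble (nat_lit 449) i)) (@Bool.rec (fun _ => ℕ) cb450 cb451 (Nat.ble (nat_lit 451) i)) (Nat.ble (nat_lit 450) i)) (@Bool.rec (fun _ => ℕ) (@Bool.rec (fun _ => ℕ) cb452 cb453 (Nat.ble (nat_lit 453) i)) (@Bool.rec (fun _ => ℕ) cb454 cb455 (Nat.ble (nat_lit 455) i)) (Nat.ble (nat_lit 454) i)) (Nat.ble (nat_lit 452) i)) (@Bool.rec (fun _ => ℕ) (@Bool.rec (fun _ => ℕ) (@Bool.rec (fun _ => ℕ) cb456 cb457 (Nat.ble (nat_lit 457) i)) (@Bool.rec (fun _ => ℕ) cb458 cb459 (Nat.ble (nat_lit 459) i)) (Nat.ble (nat_lit 458) i)) (@Bool.rec (fun _ => ℕ) (@Bool.rec (fun _ => ℕ) cb460 cb461 (Nat.ble (nat_lit 461) i)) (@Bool.rec (fun _ => ℕ) cb462 cb463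 (Nat.ble (nat_lit 463) i)) (Nat.ble (nat_lit 462) i)) (Nat.ble (nat_lit 460) i)) (Nat.ble (nat_lit 456) i)) (@Bool.rec (fun _ => ℕ) (@Bool.rec (fun _ => ℕ) (@Bool.rec (fun _ => ℕ) (@Bool.rec (fun _ => ℕ) cb464 cb465 (Nat.ble (nat_lit 465) i)) (@Bool.rec (fun _ => ℕ) cb466 cb467 (Nat.ble (nat_lit 467) i)) (Nat.ble (nat_lit 466) i)) (@Bool.rec (fun _ => ℕ) (@Bool.rec (fun _ => ℕ) cb468 cb469 (Nat.ble (nat_lit 469) i)) (@Bool.rec (fun _ => ℕ) cb470 cb471 (Nat.ble (nat_lit 471) i)) (Nat.ble (nat_lit 470) i)) (Nat.ble (nat_lit 468) i)) (@Bool.rec (fun _ => ℕ) (@Bool.rec (fun _ => ℕ) (@Bool.rec (fun _ => ℕ) cb472 cb473 (Nat.ble (nat_lit 473) i)) (@Bool.rec (fun _ => ℕ) cb474 cb475 (Nat.ble (nat_lit 475) i)) (Nat.ble (nat_lit 474) i)) (@Bool.rec (fun _ => ℕ) (@Bool.rec (fun _ => ℕ) cb476 cb477 (Nat.ble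 (nat_lit 477) i)) (@Bool.rec (fun _ => ℕ) cb478 cb479 (Nat.ble (nat_lit 479) i)) (Nat.ble (nat_lit 478) i)) (Nat.ble (nat_lit 476) i)) (Nat.ble (nat_lit 472) i)) (Nat.ble (nat_lit 464) i))

def certBlk_n0_15 (i : ℕ) : ℕ := (@Bool.rec (fun _ => ℕ) (@Bool.rec (fun _ => ℕ) (@Bool.rec (fun _ => ℕ) (@Bool.rec (fun _ => ℕ) (@Bool.rec (fun _ => ℕ) cb480 cb481 (Nat.ble (nat_lit 481) i)) (@Bool.rec (fun _ => ℕ) cb482 cb483 (Nat.ble (nat_lit 483) i)) (Nat.ble (nat_lit 482) i)) (@Bool.rec (fun _ => ℕ) (@Bool.rec (fun _ => ℕ) cb484 cb485 (Nat.ble (nat_lit 485) i)) (@Bool.rec (fun _ => ℕ) cb486 cb487 (Nat.ble (nat_lit 487) i)) (Nat.ble (nat_lit 486) i)) (Nat.ble (nat_lit 484) i)) (@Bool.rec (fun _ => ℕ) (@Bool.rec (fun _ => ℕ) (@Bool.rec (fun _ => ℕ) cb488 cb489 (Nat.ble (nat_lit 489) i)) (@Bool.rec (fun _ =>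 ℕ) cb490 cb491 (Nat.ble (nat_lit 491) i)) (Nat.ble (nat_lit 490) i)) (@Bool.rec (fun _ => ℕ) (@Bool.rec (fun _ => ℕ) cb492 cb493 (Nat.ble (nat_lit 493) i)) (@Bool.rec (fun _ => ℕ) cb494 cb495 (Nat.ble (nat_lit 495) i)) (Nat.ble (nat_lit 494) i)) (Nat.ble (nat_lit 492) i)) (Nat.ble (nat_lit 488) i)) (@Bool.rec (fun _ => ℕ) (@Bool.rec (fun _ => ℕ) (@Bool.rec (fun _ => ℕ) (@Bool.rec (fun _ => ℕ) cb496 cb497 (Nat.ble (nat_lit 497) i)) (@Bool.rec (fun _ => ℕ) cb498 cb499 (Nat.ble (nat_lit 499) i)) (Nat.ble (nat_lit 498) i)) (@Bool.rec (fun _ => ℕ) (@Bool.rec (fun _ => ℕ) cb500 cb501 (Nat.ble (nat_lit 501) i)) (@Bool.rec (fun _ => ℕ) cb502 cb503 (Nat.ble (nat_lit 503) i)) (Nat.ble (nat_lit 502) i)) (Nat.ble (nat_lit 500) i)) (@Bool.rec (fun _ => ℕ) (@Bool.rec (fun _ => ℕ) (@Bool.rec (fun _ => ℕ) cb504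 cb505 (Nat.ble (nat_lit 505) i)) (@Bool.rec (fun _ => ℕ) cb506 cb507 (Nat.ble (nat_lit 507) i)) (Nat.ble (nat_lit 506) i)) (@Bool.rec (fun _ => ℕ) (@Bool.rec (fun _ => ℕ) cb508 cb509 (Nat.ble (nat_lit 509) i)) (@Bool.rec (fun _ => ℕ) cb510 cb511 (Nat.ble (nat_lit 511) i)) (Nat.ble (nat_lit 510) i)) (Nat.ble (nat_lit 508) i)) (Nat.ble (nat_lit 504) i)) (Nat.ble (nat_lit 496) i))

def certBlk_n0_16 (i : ℕ) : ℕ := (@Bool.rec (fun _ => ℕ) (@Bool.rec (fun _ => ℕ) (@Bool.rec (fun _ => ℕ) (@Bool.rec (fun _ => ℕ) (@Bool.rec (fun _ => ℕ) cb512 cb513 (Nat.ble (nat_lit 513) i)) (@Bool.rec (fun _ => ℕ) cb514 cb515 (Nat.ble (nat_lit 515) i)) (Nat.ble (nat_lit 514) i)) (@Bool.rec (fun _ => ℕ) (@Bool.rec (fun _ => ℕ) cb516 cb517 (Nat.ble (nat_lit 517) i)) (@Bool.rec (fun _ => ℕ) cb518 cb519 (Nat.ble (nat_lit 519)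 i)) (Nat.ble (nat_lit 518) i)) (Nat.ble (nat_lit 516) i)) (@Bool.rec (fun _ => ℕ) (@Bool.rec (fun _ => ℕ) (@Bool.rec (fun _ => ℕ) cb520 cb521 (Nat.ble (nat_lit 521) i)) (@Bool.rec (fun _ => ℕ) cb522 cb523 (Nat.ble (nat_lit 523) i)) (Nat.ble (nat_lit 522) i)) (@Bool.rec (fun _ => ℕ) (@Bool.rec (fun _ => ℕ) cb524 cb525 (Nat.ble (nat_lit 525) i)) (@Bool.rec (fun _ => ℕ) cb526 cb527 (Nat.ble (nat_lit 527) i)) (Nat.ble (nat_lit 526) i)) (Nat.ble (nat_lit 524) i)) (Nat.ble (nat_lit 520) i)) (@Bool.rec (fun _ => ℕ) (@Bool.rec (fun _ => ℕ) (@Bool.rec (fun _ => ℕ) (@Bool.rec (fun _ => ℕ) cb528 cb529 (Nat.ble (nat_lit 529) i)) (@Bool.rec (fun _ => ℕ) cb530 cb531 (Nat.ble (nat_lit 531) i)) (Nat.ble (nat_lit 530) i)) (@Bool.rec (fun _ => ℕ) (@Bool.rec (fun _ => ℕ) cb532 cb533 (Nat.ble (nat_lit 533) i)) (@Bool.rec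 (fun _ => ℕ) cb534 cb535 (Nat.ble (nat_lit 535) i)) (Nat.ble (nat_lit 534) i)) (Nat.ble (nat_lit 532) i)) (@Bool.rec (fun _ => ℕ) (@Bool.rec (fun _ => ℕ) (@Bool.rec (fun _ => ℕ) cb536 cb537 (Nat.ble (nat_lit 537) i)) (@Bool.rec (fun _ => ℕ) cb538 cb539 (Nat.ble (nat_lit 539) i)) (Nat.ble (nat_lit 538) i)) (@Bool.rec (fun _ => ℕ) (@Bool.rec (fun _ => ℕ) cb540 cb541 (Nat.ble (nat_lit 541) i)) (@Bool.rec (fun _ => ℕ) cb542 cb543 (Nat.ble (nat_lit 543) i)) (Nat.ble (nat_lit 542) i)) (Nat.ble (nat_lit 540) i)) (Nat.ble (nat_lit 536) i)) (Nat.ble (nat_lit 528) i))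

def certBlk_n0_17 (i : ℕ) : ℕ := (@Bool.rec (fun _ => ℕ) (@Bool.rec (fun _ => ℕ) (@Bool.rec (fun _ => ℕ) (@Bool.rec (fun _ => ℕ) (@Bool.rec (fun _ => ℕ) cb544 cb545 (Nat.ble (nat_lit 545) i)) (@Bool.rec (fun _ => ℕ) cb546 cb547 (Nat.ble (nat_lit 547) i)) (Nat.ble (nat_lit 546) i)) (@Bool.rec (fun _ => ℕ) (@Bool.rec (fun _ => ℕ) cb548 cb549 (Nat.ble (nat_lit 549) i)) (@Bool.rec (fun _ => ℕ) cb550 cb551 (Nat.ble (nat_lit 551) i)) (Nat.ble (nat_lit 550) i)) (Nat.ble (nat_lit 548) i)) (@Bool.rec (fun _ => ℕ) (@Bool.rec (fun _ => ℕ) (@Bool.rec (fun _ => ℕ) cb552 cb553 (Nat.ble (nat_lit 553) i)) (@Bool.rec (fun _ => ℕ) cb554 cb555 (Nat.ble (nat_lit 555) i)) (Nat.ble (nat_lit 554) i)) (@Bool.rec (fun _ => ℕ) (@Bool.rec (fun _ => ℕ) cb556 cb557 (Nat.ble (nat_lit 557) i)) (@Bool.rec (fun _ => ℕ) cb558 cb559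 (Nat.ble (nat_lit 559) i)) (Nat.ble (nat_lit 558) i)) (Nat.ble (nat_lit 556) i)) (Nat.ble (nat_lit 552) i)) (@Bool.rec (fun _ => ℕ) (@Bool.rec (fun _ => ℕ) (@Bool.rec (fun _ => ℕ) (@Bool.rec (fun _ => ℕ) cb560 cb561 (Nat.ble (nat_lit 561) i)) (@Bool.rec (fun _ => ℕ) cb562 cb563 (Nat.ble (nat_lit 563) i)) (Nat.ble (nat_lit 562) i)) (@Bool.rec (fun _ => ℕ) (@Bool.rec (fun _ => ℕ) cb564 cb565 (Nat.ble (nat_lit 565) i)) (@Bool.rec (fun _ => ℕ) cb566 cb567 (Nat.ble (nat_lit 567) i)) (Nat.ble (nat_lit 566) i)) (Nat.ble (nat_lit 564) i)) (@Bool.rec (fun _ => ℕ) (@Bool.rec (fun _ => ℕ) (@Bool.rec (fun _ => ℕ) cb568 cb569 (Nat.ble (nat_lit 569) i)) (@Bool.rec (fun _ => ℕ) cb570 cb571 (Nat.ble (nat_lit 571) i)) (Nat.ble (nat_lit 570) i)) (@Bool.rec (fun _ => ℕ) (@Bool.rec (fun _ => ℕ) cb572 cb573 (Nat.ble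 (nat_lit 573) i)) (@Bool.rec (fun _ => ℕ) cb574 cb575 (Nat.ble (nat_lit 575) i)) (Nat.ble (nat_lit 574) i)) (Nat.ble (nat_lit 572) i)) (Nat.ble (nat_lit 568) i)) (Nat.ble (nat_lit 560) i))

def certBlk_n0_18 (i : ℕ) : ℕ := (@Bool.rec (fun _ => ℕ) (@Bool.rec (fun _ => ℕ) (@Bool.rec (fun _ => ℕ) (@Bool.rec (fun _ => ℕ) (@Bool.rec (fun _ => ℕ) cb576 cb577 (Nat.ble (nat_lit 577) i)) (@Bool.rec (fun _ => ℕ) cb578 cb579 (Nat.ble (nat_lit 579) i)) (Nat.ble (nat_lit 578) i)) (@Bool.rec (fun _ => ℕ) (@Bool.rec (fun _ => ℕ) cb580 cb581 (Nat.ble (nat_lit 581) i)) (@Bool.rec (fun _ => ℕ) cb582 cb583 (Nat.ble (nat_lit 583) i)) (Nat.ble (nat_lit 582) i)) (Nat.ble (nat_lit 580) i)) (@Bool.rec (fun _ => ℕ) (@Bool.rec (fun _ => ℕ) (@Bool.rec (fun _ => ℕ) cb584 cb585 (Nat.ble (nat_lit 585) i)) (@Bool.rec (fun _ =>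 ℕ) cb586 cb587 (Nat.ble (nat_lit 587) i)) (Nat.ble (nat_lit 586) i)) (@Bool.rec (fun _ => ℕ) (@Bool.rec (fun _ => ℕ) cb588 cb589 (Nat.ble (nat_lit 589) i)) (@Bool.rec (fun _ => ℕ) cb590 cb591 (Nat.ble (nat_lit 591) i)) (Nat.ble (nat_lit 590) i)) (Nat.ble (nat_lit 588) i)) (Nat.ble (nat_lit 584) i)) (@Bool.rec (fun _ => ℕ) (@Bool.rec (fun _ => ℕ) (@Bool.rec (fun _ => ℕ) (@Bool.rec (fun _ => ℕ) cb592 cb593 (Nat.ble (nat_lit 593) i)) (@Bool.rec (fun _ => ℕ) cb594 cb595 (Nat.ble (nat_lit 595) i)) (Nat.ble (nat_lit 594) i)) (@Bool.rec (fun _ => ℕ) (@Bool.rec (fun _ => ℕ) cb596 cb597 (Nat.ble (nat_lit 597) i)) (@Bool.rec (fun _ => ℕ) cb598 cb599 (Nat.ble (nat_lit 599) i)) (Nat.ble (nat_lit 598) i)) (Nat.ble (nat_lit 596) i)) (@Bool.rec (fun _ => ℕ) (@Bool.rec (fun _ => ℕ) (@Bool.rec (fun _ => ℕ) cb600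 cb601 (Nat.ble (nat_lit 601) i)) (@Bool.rec (fun _ => ℕ) cb602 cb603 (Nat.ble (nat_lit 603) i)) (Nat.ble (nat_lit 602) i)) (@Bool.rec (fun _ => ℕ) (@Bool.rec (fun _ => ℕ) cb604 cb605 (Nat.ble (nat_lit 605) i)) (@Bool.rec (fun _ => ℕ) cb606 cb607 (Nat.ble (nat_lit 607) i)) (Nat.ble (nat_lit 606) i)) (Nat.ble (nat_lit 604) i)) (Nat.ble (nat_lit 600) i)) (Nat.ble (nat_lit 592) i))

def certBlk_n0_19 (i : ℕ) : ℕ := (@Bool.rec (fun _ => ℕ) (@Bool.rec (fun _ => ℕ) (@Bool.rec (fun _ => ℕ) (@Bool.rec (fun _ => ℕ) (@Bool.rec (fun _ => ℕ) cb608 cb609 (Nat.ble (nat_lit 609) i)) (@Bool.rec (fun _ => ℕ) cb610 cb611 (Nat.ble (nat_lit 611) i)) (Nat.ble (nat_lit 610) i)) (@Bool.rec (fun _ => ℕ) (@Bool.rec (fun _ => ℕ) cb612 cb613 (Nat.ble (nat_lit 613) i)) (@Bool.rec (fun _ => ℕ) cb614 cb615 (Nat.ble (nat_lit 615)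 i)) (Nat.ble (nat_lit 614) i)) (Nat.ble (nat_lit 612) i)) (@Bool.rec (fun _ => ℕ) (@Bool.rec (fun _ => ℕ) (@Bool.rec (fun _ => ℕ) cb616 cb617 (Nat.ble (nat_lit 617) i)) (@Bool.rec (fun _ => ℕ) cb618 cb619 (Nat.ble (nat_lit 619) i)) (Nat.ble (nat_lit 618) i)) (@Bool.rec (fun _ => ℕ) (@Bool.rec (fun _ => ℕ) cb620 cb621 (Nat.ble (nat_lit 621) i)) (@Bool.rec (fun _ => ℕ) cb622 cb623 (Nat.ble (nat_lit 623) i)) (Nat.ble (nat_lit 622) i)) (Nat.ble (nat_lit 620) i)) (Nat.ble (nat_lit 616) i)) (@Bool.rec (fun _ => ℕ) (@Bool.rec (fun _ => ℕ) (@Bool.rec (fun _ => ℕ) (@Bool.rec (fun _ => ℕ) cb624 cb625 (Nat.ble (nat_lit 625) i)) (@Bool.rec (fun _ => ℕ) cb626 cb627 (Nat.ble (nat_lit 627) i)) (Nat.ble (nat_lit 626) i)) (@Bool.rec (fun _ => ℕ) (@Bool.rec (fun _ => ℕ) cb628 cb629 (Nat.ble (nat_lit 629) i)) (@Bool.rec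 (fun _ => ℕ) cb630 cb631 (Nat.ble (nat_lit 631) i)) (Nat.ble (nat_lit 630) i)) (Nat.ble (nat_lit 628) i)) (@Bool.rec (fun _ => ℕ) (@Bool.rec (fun _ => ℕ) (@Bool.rec (fun _ => ℕ) cb632 cb633 (Nat.ble (nat_lit 633) i)) (@Bool.rec (fun _ => ℕ) cb634 cb635 (Nat.ble (nat_lit 635) i)) (Nat.ble (nat_lit 634) i)) (@Bool.rec (fun _ => ℕ) (@Bool.rec (fun _ => ℕ) cb636 cb637 (Nat.ble (nat_lit 637) i)) (@Bool.rec (fun _ => ℕ) cb638 cb639 (Nat.ble (nat_lit 639) i)) (Nat.ble (nat_lit 638) i)) (Nat.ble (nat_lit 636) i)) (Nat.ble (nat_lit 632) i)) (Nat.ble (nat_lit 624) i))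

def certBlk_n0_20 (i : ℕ) : ℕ := (@Bool.rec (fun _ => ℕ) (@Bool.rec (fun _ => ℕ) (@Bool.rec (fun _ => ℕ) (@Bool.rec (fun _ => ℕ) (@Bool.rec (fun _ => ℕ) cb640 cb641 (Nat.ble (nat_lit 641) i)) (@Bool.rec (fun _ => ℕ) cb642 cb643 (Nat.ble (nat_lit 643) i)) (Nat.ble (nat_lit 642) i)) (@Bool.rec (fun _ => ℕ) (@Bool.rec (fun _ => ℕ) cb644 cb645 (Nat.ble (nat_lit 645) i)) (@Bool.rec (fun _ => ℕ) cb646 cb647 (Nat.ble (nat_lit 647) i)) (Nat.ble (nat_lit 646) i)) (Nat.ble (nat_lit 644) i)) (@Bool.rec (fun _ => ℕ) (@Bool.rec (fun _ => ℕ) (@Bool.rec (fun _ => ℕ) cb648 cb649 (Nat.ble (nat_lit 649) i)) (@Bool.rec (fun _ => ℕ) cb650 cb651 (Nat.ble (nat_lit 651) i)) (Nat.ble (nat_lit 650) i)) (@Bool.rec (fun _ => ℕ) (@Bool.rec (fun _ => ℕ) cb652 cb653 (Nat.ble (nat_lit 653) i)) (@Bool.rec (fun _ => ℕ) cb654 cb655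 (Nat.ble (nat_lit 655) i)) (Nat.ble (nat_lit 654) i)) (Nat.ble (nat_lit 652) i)) (Nat.ble (nat_lit 648) i)) (@Bool.rec (fun _ => ℕ) (@Bool.rec (fun _ => ℕ) (@Bool.rec (fun _ => ℕ) (@Bool.rec (fun _ => ℕ) cb656 cb657 (Nat.ble (nat_lit 657) i)) (@Bool.rec (fun _ => ℕ) cb658 cb659 (Nat.ble (nat_lit 659) i)) (Nat.ble (nat_lit 658) i)) (@Bool.rec (fun _ => ℕ) (@Bool.rec (fun _ => ℕ) cb660 cb661 (Nat.ble (nat_lit 661) i)) (@Bool.rec (fun _ => ℕ) cb662 cb663 (Nat.ble (nat_lit 663) i)) (Nat.ble (nat_lit 662) i)) (Nat.ble (nat_lit 660) i)) (@Bool.rec (fun _ => ℕ) (@Bool.rec (fun _ => ℕ) (@Bool.rec (fun _ => ℕ) cb664 cb665 (Nat.ble (nat_lit 665) i)) (@Bool.rec (fun _ => ℕ) cb666 cb667 (Nat.ble (nat_lit 667) i)) (Nat.ble (nat_lit 666) i)) (@Bool.rec (fun _ => ℕ) (@Bool.rec (fun _ => ℕ) cb668 cb669 (Nat.ble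 (nat_lit 669) i)) (@Bool.rec (fun _ => ℕ) cb670 cb671 (Nat.ble (nat_lit 671) i)) (Nat.ble (nat_lit 670) i)) (Nat.ble (nat_lit 668) i)) (Nat.ble (nat_lit 664) i)) (Nat.ble (nat_lit 656) i))

def certBlk_n0_21 (i : ℕ) : ℕ := (@Bool.rec (fun _ => ℕ) (@Bool.rec (fun _ => ℕ) (@Bool.rec (fun _ => ℕ) (@Bool.rec (fun _ => ℕ) (@Bool.rec (fun _ => ℕ) cb672 cb673 (Nat.ble (nat_lit 673) i)) (@Bool.rec (fun _ => ℕ) cb674 cb675 (Nat.ble (nat_lit 675) i)) (Nat.ble (nat_lit 674) i)) (@Bool.rec (fun _ => ℕ) (@Bool.rec (fun _ => ℕ) cb676 cb677 (Nat.ble (nat_lit 677) i)) (@Bool.rec (fun _ => ℕ) cb678 cb679 (Nat.ble (nat_lit 679) i)) (Nat.ble (nat_lit 678) i)) (Nat.ble (nat_lit 676) i)) (@Bool.rec (fun _ => ℕ) (@Bool.rec (fun _ => ℕ) (@Bool.rec (fun _ => ℕ) cb680 cb681 (Nat.ble (nat_lit 681) i)) (@Bool.rec (fun _ =>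 ℕ) cb682 cb683 (Nat.ble (nat_lit 683) i)) (Nat.ble (nat_lit 682) i)) (@Bool.rec (fun _ => ℕ) (@Bool.rec (fun _ => ℕ) cb684 cb685 (Nat.ble (nat_lit 685) i)) (@Bool.rec (fun _ => ℕ) cb686 cb687 (Nat.ble (nat_lit 687) i)) (Nat.ble (nat_lit 686) i)) (Nat.ble (nat_lit 684) i)) (Nat.ble (nat_lit 680) i)) (@Bool.rec (fun _ => ℕ) (@Bool.rec (fun _ => ℕ) (@Bool.rec (fun _ => ℕ) (@Bool.rec (fun _ => ℕ) cb688 cb689 (Nat.ble (nat_lit 689) i)) (@Bool.rec (fun _ => ℕ) cb690 cb691 (Nat.ble (nat_lit 691) i)) (Nat.ble (nat_lit 690) i)) (@Bool.rec (fun _ => ℕ) (@Bool.rec (fun _ => ℕ) cb692 cb693 (Nat.ble (nat_lit 693) i)) (@Bool.rec (fun _ => ℕ) cb694 cb695 (Nat.ble (nat_lit 695) i)) (Nat.ble (nat_lit 694) i)) (Nat.ble (nat_lit 692) i)) (@Bool.rec (fun _ => ℕ) (@Bool.rec (fun _ => ℕ) (@Bool.rec (fun _ => ℕ) cb696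 cb697 (Nat.ble (nat_lit 697) i)) (@Bool.rec (fun _ => ℕ) cb698 cb699 (Nat.ble (nat_lit 699) i)) (Nat.ble (nat_lit 698) i)) (@Bool.rec (fun _ => ℕ) (@Bool.rec (fun _ => ℕ) cb700 cb701 (Nat.ble (nat_lit 701) i)) (@Bool.rec (fun _ => ℕ) cb702 cb703 (Nat.ble (nat_lit 703) i)) (Nat.ble (nat_lit 702) i)) (Nat.ble (nat_lit 700) i)) (Nat.ble (nat_lit 696) i)) (Nat.ble (nat_lit 688) i))

def certBlk_n0_22 (i : ℕ) : ℕ := (@Bool.rec (fun _ => ℕ) (@Bool.rec (fun _ => ℕ) (@Bool.rec (fun _ => ℕ) (@Bool.rec (fun _ => ℕ) (@Bool.rec (fun _ => ℕ) cb704 cb705 (Nat.ble (nat_lit 705) i)) (@Bool.rec (fun _ => ℕ) cb706 cb707 (Nat.ble (nat_lit 707) i)) (Nat.ble (nat_lit 706) i)) (@Bool.rec (fun _ => ℕ) (@Bool.rec (fun _ => ℕ) cb708 cb709 (Nat.ble (nat_lit 709) i)) (@Bool.rec (fun _ => ℕ) cb710 cb711 (Nat.ble (nat_lit 711)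 i)) (Nat.ble (nat_lit 710) i)) (Nat.ble (nat_lit 708) i)) (@Bool.rec (fun _ => ℕ) (@Bool.rec (fun _ => ℕ) (@Bool.rec (fun _ => ℕ) cb712 cb713 (Nat.ble (nat_lit 713) i)) (@Bool.rec (fun _ => ℕ) cb714 cb715 (Nat.ble (nat_lit 715) i)) (Nat.ble (nat_lit 714) i)) (@Bool.rec (fun _ => ℕ) (@Bool.rec (fun _ => ℕ) cb716 cb717 (Nat.ble (nat_lit 717) i)) (@Bool.rec (fun _ => ℕ) cb718 cb719 (Nat.ble (nat_lit 719) i)) (Nat.ble (nat_lit 718) i)) (Nat.ble (nat_lit 716) i)) (Nat.ble (nat_lit 712) i)) (@Bool.rec (fun _ => ℕ) (@Bool.rec (fun _ => ℕ) (@Bool.rec (fun _ => ℕ) (@Bool.rec (fun _ => ℕ) cb720 cb721 (Nat.ble (nat_lit 721) i)) (@Bool.rec (fun _ => ℕ) cb722 cb723 (Nat.ble (nat_lit 723) i)) (Nat.ble (nat_lit 722) i)) (@Bool.rec (fun _ => ℕ) (@Bool.rec (fun _ => ℕ) cb724 cb725 (Nat.ble (nat_lit 725) i)) (@Bool.rec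 (fun _ => ℕ) cb726 cb727 (Nat.ble (nat_lit 727) i)) (Nat.ble (nat_lit 726) i)) (Nat.ble (nat_lit 724) i)) (@Bool.rec (fun _ => ℕ) (@Bool.rec (fun _ => ℕ) (@Bool.rec (fun _ => ℕ) cb728 cb729 (Nat.ble (nat_lit 729) i)) (@Bool.rec (fun _ => ℕ) cb730 cb731 (Nat.ble (nat_lit 731) i)) (Nat.ble (nat_lit 730) i)) (@Bool.rec (fun _ => ℕ) (@Bool.rec (fun _ => ℕ) cb732 cb733 (Nat.ble (nat_lit 733) i)) (@Bool.rec (fun _ => ℕ) cb734 cb735 (Nat.ble (nat_lit 735) i)) (Nat.ble (nat_lit 734) i)) (Nat.ble (nat_lit 732) i)) (Nat.ble (nat_lit 728) i)) (Nat.ble (nat_lit 720) i))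

def certBlk_n0_23 (i : ℕ) : ℕ := (@Bool.rec (fun _ => ℕ) (@Bool.rec (fun _ => ℕ) (@Bool.rec (fun _ => ℕ) (@Bool.rec (fun _ => ℕ) (@Bool.rec (fun _ => ℕ) cb736 cb737 (Nat.ble (nat_lit 737) i)) (@Bool.rec (fun _ => ℕ) cb738 cb739 (Nat.ble (nat_lit 739) i)) (Nat.ble (nat_lit 738) i)) (@Bool.rec (fun _ => ℕ) (@Bool.rec (fun _ => ℕ) cb740 cb741 (Nat.ble (nat_lit 741) i)) (@Bool.rec (fun _ => ℕ) cb742 cb743 (Nat.ble (nat_lit 743) i)) (Nat.ble (nat_lit 742) i)) (Nat.ble (nat_lit 740) i)) (@Bool.rec (fun _ => ℕ) (@Bool.rec (fun _ => ℕ) (@Bool.rec (fun _ => ℕ) cb744 cb745 (Nat.ble (nat_lit 745) i)) (@Bool.rec (fun _ => ℕ) cb746 cb747 (Nat.ble (nat_lit 747) i)) (Nat.ble (nat_lit 746) i)) (@Bool.rec (fun _ => ℕ) (@Bool.rec (fun _ => ℕ) cb748 cb749 (Nat.ble (nat_lit 749) i)) (@Bool.rec (fun _ => ℕ) cb750 cb751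 (Nat.ble (nat_lit 751) i)) (Nat.ble (nat_lit 750) i)) (Nat.ble (nat_lit 748) i)) (Nat.ble (nat_lit 744) i)) (@Bool.rec (fun _ => ℕ) (@Bool.rec (fun _ => ℕ) (@Bool.rec (fun _ => ℕ) (@Bool.rec (fun _ => ℕ) cb752 cb753 (Nat.ble (nat_lit 753) i)) (@Bool.rec (fun _ => ℕ) cb754 cb755 (Nat.ble (nat_lit 755) i)) (Nat.ble (nat_lit 754) i)) (@Bool.rec (fun _ => ℕ) (@Bool.rec (fun _ => ℕ) cb756 cb757 (Nat.ble (nat_lit 757) i)) (@Bool.rec (fun _ => ℕ) cb758 cb759 (Nat.ble (nat_lit 759) i)) (Nat.ble (nat_lit 758) i)) (Nat.ble (nat_lit 756) i)) (@Bool.rec (fun _ => ℕ) (@Bool.rec (fun _ => ℕ) (@Bool.rec (fun _ => ℕ) cb760 cb761 (Nat.ble (nat_lit 761) i)) (@Bool.rec (fun _ => ℕ) cb762 cb763 (Nat.ble (nat_lit 763) i)) (Nat.ble (nat_lit 762) i)) (@Bool.rec (fun _ => ℕ) (@Bool.rec (fun _ => ℕ) cb764 cb765 (Nat.ble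 (nat_lit 765) i)) (@Bool.rec (fun _ => ℕ) cb766 cb767 (Nat.ble (nat_lit 767) i)) (Nat.ble (nat_lit 766) i)) (Nat.ble (nat_lit 764) i)) (Nat.ble (nat_lit 760) i)) (Nat.ble (nat_lit 752) i))

def certBlk_n0_24 (i : ℕ) : ℕ := (@Bool.rec (fun _ => ℕ) (@Bool.rec (fun _ => ℕ) (@Bool.rec (fun _ => ℕ) (@Bool.rec (fun _ => ℕ) (@Bool.rec (fun _ => ℕ) cb768 cb769 (Nat.ble (nat_lit 769) i)) (@Bool.rec (fun _ => ℕ) cb770 cb771 (Nat.ble (nat_lit 771) i)) (Nat.ble (nat_lit 770) i)) (@Bool.rec (fun _ => ℕ) (@Bool.rec (fun _ => ℕ) cb772 cb773 (Nat.ble (nat_lit 773) i)) (@Bool.rec (fun _ => ℕ) cb774 cb775 (Nat.ble (nat_lit 775) i)) (Nat.ble (nat_lit 774) i)) (Nat.ble (nat_lit 772) i)) (@Bool.rec (fun _ => ℕ) (@Bool.rec (fun _ => ℕ) (@Bool.rec (fun _ => ℕ) cb776 cb777 (Nat.ble (nat_lit 777) i)) (@Bool.rec (fun _ =>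 ℕ) cb778 cb779 (Nat.ble (nat_lit 779) i)) (Nat.ble (nat_lit 778) i)) (@Bool.rec (fun _ => ℕ) (@Bool.rec (fun _ => ℕ) cb780 cb781 (Nat.ble (nat_lit 781) i)) (@Bool.rec (fun _ => ℕ) cb782 cb783 (Nat.ble (nat_lit 783) i)) (Nat.ble (nat_lit 782) i)) (Nat.ble (nat_lit 780) i)) (Nat.ble (nat_lit 776) i)) (@Bool.rec (fun _ => ℕ) (@Bool.rec (fun _ => ℕ) (@Bool.rec (fun _ => ℕ) (@Bool.rec (fun _ => ℕ) cb784 cb785 (Nat.ble (nat_lit 785) i)) (@Bool.rec (fun _ => ℕ) cb786 cb787 (Nat.ble (nat_lit 787) i)) (Nat.ble (nat_lit 786) i)) (@Bool.rec (fun _ => ℕ) (@Bool.rec (fun _ => ℕ) cb788 cb789 (Nat.ble (nat_lit 789) i)) (@Bool.rec (fun _ => ℕ) cb790 cb791 (Nat.ble (nat_lit 791) i)) (Nat.ble (nat_lit 790) i)) (Nat.ble (nat_lit 788) i)) (@Bool.rec (fun _ => ℕ) (@Bool.rec (fun _ => ℕ) (@Bool.rec (fun _ => ℕ) cb792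 cb793 (Nat.ble (nat_lit 793) i)) (@Bool.rec (fun _ => ℕ) cb794 cb795 (Nat.ble (nat_lit 795) i)) (Nat.ble (nat_lit 794) i)) (@Bool.rec (fun _ => ℕ) (@Bool.rec (fun _ => ℕ) cb796 cb797 (Nat.ble (nat_lit 797) i)) (@Bool.rec (fun _ => ℕ) cb798 cb799 (Nat.ble (nat_lit 799) i)) (Nat.ble (nat_lit 798) i)) (Nat.ble (nat_lit 796) i)) (Nat.ble (nat_lit 792) i)) (Nat.ble (nat_lit 784) i))

def certBlk_n0_25 (i : ℕ) : ℕ := (@Bool.rec (fun _ => ℕ) (@Bool.rec (fun _ => ℕ) (@Bool.rec (fun _ => ℕ) (@Bool.rec (fun _ => ℕ) (@Bool.rec (fun _ => ℕ) cb800 cb801 (Nat.ble (nat_lit 801) i)) (@Bool.rec (fun _ => ℕ) cb802 cb803 (Nat.ble (nat_lit 803) i)) (Nat.ble (nat_lit 802) i)) (@Bool.rec (fun _ => ℕ) (@Bool.rec (fun _ => ℕ) cb804 cb805 (Nat.ble (nat_lit 805) i)) (@Bool.rec (fun _ => ℕ) cb806 cb807 (Nat.ble (nat_lit 807)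 i)) (Nat.ble (nat_lit 806) i)) (Nat.ble (nat_lit 804) i)) (@Bool.rec (fun _ => ℕ) (@Bool.rec (fun _ => ℕ) (@Bool.rec (fun _ => ℕ) cb808 cb809 (Nat.ble (nat_lit 809) i)) (@Bool.rec (fun _ => ℕ) cb810 cb811 (Nat.ble (nat_lit 811) i)) (Nat.ble (nat_lit 810) i)) (@Bool.rec (fun _ => ℕ) (@Bool.rec (fun _ => ℕ) cb812 cb813 (Nat.ble (nat_lit 813) i)) (@Bool.rec (fun _ => ℕ) cb814 cb815 (Nat.ble (nat_lit 815) i)) (Nat.ble (nat_lit 814) i)) (Nat.ble (nat_lit 812) i)) (Nat.ble (nat_lit 808) i)) (@Bool.rec (fun _ => ℕ) (@Bool.rec (fun _ => ℕ) (@Bool.rec (fun _ => ℕ) (@Bool.rec (fun _ => ℕ) cb816 cb817 (Nat.ble (nat_lit 817) i)) (@Bool.rec (fun _ => ℕ) cb818 cb819 (Nat.ble (nat_lit 819) i)) (Nat.ble (nat_lit 818) i)) (@Bool.rec (fun _ => ℕ) (@Bool.rec (fun _ => ℕ) cb820 cb821 (Nat.ble (nat_lit 821) i)) (@Bool.rec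 (fun _ => ℕ) cb822 cb823 (Nat.ble (nat_lit 823) i)) (Nat.ble (nat_lit 822) i)) (Nat.ble (nat_lit 820) i)) (@Bool.rec (fun _ => ℕ) (@Bool.rec (fun _ => ℕ) (@Bool.rec (fun _ => ℕ) cb824 cb825 (Nat.ble (nat_lit 825) i)) (@Bool.rec (fun _ => ℕ) cb826 cb827 (Nat.ble (nat_lit 827) i)) (Nat.ble (nat_lit 826) i)) (@Bool.rec (fun _ => ℕ) (@Bool.rec (fun _ => ℕ) cb828 cb829 (Nat.ble (nat_lit 829) i)) (@Bool.rec (fun _ => ℕ) cb830 cb831 (Nat.ble (nat_lit 831) i)) (Nat.ble (nat_lit 830) i)) (Nat.ble (nat_lit 828) i)) (Nat.ble (nat_lit 824) i)) (Nat.ble (nat_lit 816) i))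

def certBlk_n0_26 (i : ℕ) : ℕ := (@Bool.rec (fun _ => ℕ) (@Bool.rec (fun _ => ℕ) (@Bool.rec (fun _ => ℕ) (@Bool.rec (fun _ => ℕ) (@Bool.rec (fun _ => ℕ) cb832 cb833 (Nat.ble (nat_lit 833) i)) (@Bool.rec (fun _ => ℕ) cb834 cb835 (Nat.ble (nat_lit 835) i)) (Nat.ble (nat_lit 834) i)) (@Bool.rec (fun _ => ℕ) (@Bool.rec (fun _ => ℕ) cb836 cb837 (Nat.ble (nat_lit 837) i)) (@Bool.rec (fun _ => ℕ) cb838 cb839 (Nat.ble (nat_lit 839) i)) (Nat.ble (nat_lit 838) i)) (Nat.ble (nat_lit 836) i)) (@Bool.rec (fun _ => ℕ) (@Bool.rec (fun _ => ℕ) (@Bool.rec (fun _ => ℕ) cb840 cb841 (Nat.ble (nat_lit 841) i)) (@Bool.rec (fun _ => ℕ) cb842 cb843 (Nat.ble (nat_lit 843) i)) (Nat.ble (nat_lit 842) i)) (@Bool.rec (fun _ => ℕ) (@Bool.rec (fun _ => ℕ) cb844 cb845 (Nat.ble (nat_lit 845) i)) (@Bool.rec (fun _ => ℕ) cb846 cb847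 (Nat.ble (nat_lit 847) i)) (Nat.ble (nat_lit 846) i)) (Nat.ble (nat_lit 844) i)) (Nat.ble (nat_lit 840) i)) (@Bool.rec (fun _ => ℕ) (@Bool.rec (fun _ => ℕ) (@Bool.rec (fun _ => ℕ) (@Bool.rec (fun _ => ℕ) cb848 cb849 (Nat.ble (nat_lit 849) i)) (@Bool.rec (fun _ => ℕ) cb850 cb851 (Nat.ble (nat_lit 851) i)) (Nat.ble (nat_lit 850) i)) (@Bool.rec (fun _ => ℕ) (@Bool.rec (fun _ => ℕ) cb852 cb853 (Nat.ble (nat_lit 853) i)) (@Bool.rec (fun _ => ℕ) cb854 cb855 (Nat.ble (nat_lit 855) i)) (Nat.ble (nat_lit 854) i)) (Nat.ble (nat_lit 852) i)) (@Bool.rec (fun _ => ℕ) (@Bool.rec (fun _ => ℕ) (@Bool.rec (fun _ => ℕ) cb856 cb857 (Nat.ble (nat_lit 857) i)) (@Bool.rec (fun _ => ℕ) cb858 cb859 (Nat.ble (nat_lit 859) i)) (Nat.ble (nat_lit 858) i)) (@Bool.rec (fun _ => ℕ) (@Bool.rec (fun _ => ℕ) cb860 cb861 (Nat.ble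 (nat_lit 861) i)) (@Bool.rec (fun _ => ℕ) cb862 cb863 (Nat.ble (nat_lit 863) i)) (Nat.ble (nat_lit 862) i)) (Nat.ble (nat_lit 860) i)) (Nat.ble (nat_lit 856) i)) (Nat.ble (nat_lit 848) i))

def certBlk_n0_27 (i : ℕ) : ℕ := (@Bool.rec (fun _ => ℕ) (@Bool.rec (fun _ => ℕ) (@Bool.rec (fun _ => ℕ) (@Bool.rec (fun _ => ℕ) (@Bool.rec (fun _ => ℕ) cb864 cb865 (Nat.ble (nat_lit 865) i)) (@Bool.rec (fun _ => ℕ) cb866 cb867 (Nat.ble (nat_lit 867) i)) (Nat.ble (nat_lit 866) i)) (@Bool.rec (fun _ => ℕ) (@Bool.rec (fun _ => ℕ) cb868 cb869 (Nat.ble (nat_lit 869) i)) (@Bool.rec (fun _ => ℕ) cb870 cb871 (Nat.ble (nat_lit 871) i)) (Nat.ble (nat_lit 870) i)) (Nat.ble (nat_lit 868) i)) (@Bool.rec (fun _ => ℕ) (@Bool.rec (fun _ => ℕ) (@Bool.rec (fun _ => ℕ) cb872 cb873 (Nat.ble (nat_lit 873) i)) (@Bool.rec (fun _ =>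 ℕ) cb874 cb875 (Nat.ble (nat_lit 875) i)) (Nat.ble (nat_lit 874) i)) (@Bool.rec (fun _ => ℕ) (@Bool.rec (fun _ => ℕ) cb876 cb877 (Nat.ble (nat_lit 877) i)) (@Bool.rec (fun _ => ℕ) cb878 cb879 (Nat.ble (nat_lit 879) i)) (Nat.ble (nat_lit 878) i)) (Nat.ble (nat_lit 876) i)) (Nat.ble (nat_lit 872) i)) (@Bool.rec (fun _ => ℕ) (@Bool.rec (fun _ => ℕ) (@Bool.rec (fun _ => ℕ) (@Bool.rec (fun _ => ℕ) cb880 cb881 (Nat.ble (nat_lit 881) i)) (@Bool.rec (fun _ => ℕ) cb882 cb883 (Nat.ble (nat_lit 883) i)) (Nat.ble (nat_lit 882) i)) (@Bool.rec (fun _ => ℕ) (@Bool.rec (fun _ => ℕ) cb884 cb885 (Nat.ble (nat_lit 885) i)) (@Bool.rec (fun _ => ℕ) cb886 cb887 (Nat.ble (nat_lit 887) i)) (Nat.ble (nat_lit 886) i)) (Nat.ble (nat_lit 884) i)) (@Bool.rec (fun _ => ℕ) (@Bool.rec (fun _ => ℕ) (@Bool.rec (fun _ => ℕ) cb888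 cb889 (Nat.ble (nat_lit 889) i)) (@Bool.rec (fun _ => ℕ) cb890 cb891 (Nat.ble (nat_lit 891) i)) (Nat.ble (nat_lit 890) i)) (@Bool.rec (fun _ => ℕ) (@Bool.rec (fun _ => ℕ) cb892 cb893 (Nat.ble (nat_lit 893) i)) (@Bool.rec (fun _ => ℕ) cb894 cb895 (Nat.ble (nat_lit 895) i)) (Nat.ble (nat_lit 894) i)) (Nat.ble (nat_lit 892) i)) (Nat.ble (nat_lit 888) i)) (Nat.ble (nat_lit 880) i))

def certBlk_n0_28 (i : ℕ) : ℕ := (@Bool.rec (fun _ => ℕ) (@Bool.rec (fun _ => ℕ) (@Bool.rec (fun _ => ℕ) (@Bool.rec (fun _ => ℕ) (@Bool.rec (fun _ => ℕ) cb896 cb897 (Nat.ble (nat_lit 897) i)) (@Bool.rec (fun _ => ℕ) cb898 cb899 (Nat.ble (nat_lit 899) i)) (Nat.ble (nat_lit 898) i)) (@Bool.rec (fun _ => ℕ) (@Bool.rec (fun _ => ℕ) cb900 cb901 (Nat.ble (nat_lit 901) i)) (@Bool.rec (fun _ => ℕ) cb902 cb903 (Nat.ble (nat_lit 903)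 i)) (Nat.ble (nat_lit 902) i)) (Nat.ble (nat_lit 900) i)) (@Bool.rec (fun _ => ℕ) (@Bool.rec (fun _ => ℕ) (@Bool.rec (fun _ => ℕ) cb904 cb905 (Nat.ble (nat_lit 905) i)) (@Bool.rec (fun _ => ℕ) cb906 cb907 (Nat.ble (nat_lit 907) i)) (Nat.ble (nat_lit 906) i)) (@Bool.rec (fun _ => ℕ) (@Bool.rec (fun _ => ℕ) cb908 cb909 (Nat.ble (nat_lit 909) i)) (@Bool.rec (fun _ => ℕ) cb910 cb911 (Nat.ble (nat_lit 911) i)) (Nat.ble (nat_lit 910) i)) (Nat.ble (nat_lit 908) i)) (Nat.ble (nat_lit 904) i)) (@Bool.rec (fun _ => ℕ) (@Bool.rec (fun _ => ℕ) (@Bool.rec (fun _ => ℕ) (@Bool.rec (fun _ => ℕ) cb912 cb913 (Nat.ble (nat_lit 913) i)) (@Bool.rec (fun _ => ℕ) cb914 cb915 (Nat.ble (nat_lit 915) i)) (Nat.ble (nat_lit 914) i)) (@Bool.rec (fun _ => ℕ) (@Bool.rec (fun _ => ℕ) cb916 cb917 (Nat.ble (nat_lit 917) i)) (@Bool.rec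 (fun _ => ℕ) cb918 cb919 (Nat.ble (nat_lit 919) i)) (Nat.ble (nat_lit 918) i)) (Nat.ble (nat_lit 916) i)) (@Bool.rec (fun _ => ℕ) (@Bool.rec (fun _ => ℕ) (@Bool.rec (fun _ => ℕ) cb920 cb921 (Nat.ble (nat_lit 921) i)) (@Bool.rec (fun _ => ℕ) cb922 cb923 (Nat.ble (nat_lit 923) i)) (Nat.ble (nat_lit 922) i)) (@Bool.rec (fun _ => ℕ) (@Bool.rec (fun _ => ℕ) cb924 cb925 (Nat.ble (nat_lit 925) i)) (@Bool.rec (fun _ => ℕ) cb926 cb927 (Nat.ble (nat_lit 927) i)) (Nat.ble (nat_lit 926) i)) (Nat.ble (nat_lit 924) i)) (Nat.ble (nat_lit 920) i)) (Nat.ble (nat_lit 912) i))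

def certBlk_n0_29 (i : ℕ) : ℕ := (@Bool.rec (fun _ => ℕ) (@Bool.rec (fun _ => ℕ) (@Bool.rec (fun _ => ℕ) (@Bool.rec (fun _ => ℕ) (@Bool.rec (fun _ => ℕ) cb928 cb929 (Nat.ble (nat_lit 929) i)) (@Bool.rec (fun _ => ℕ) cb930 cb931 (Nat.ble (nat_lit 931) i)) (Nat.ble (nat_lit 930) i)) (@Bool.rec (fun _ => ℕ) (@Bool.rec (fun _ => ℕ) cb932 cb933 (Nat.ble (nat_lit 933) i)) (@Bool.rec (fun _ => ℕ) cb934 cb935 (Nat.ble (nat_lit 935) i)) (Nat.ble (nat_lit 934) i)) (Nat.ble (nat_lit 932) i)) (@Bool.rec (fun _ => ℕ) (@Bool.rec (fun _ => ℕ) (@Bool.rec (fun _ => ℕ) cb936 cb937 (Nat.ble (nat_lit 937) i)) (@Bool.rec (fun _ => ℕ) cb938 cb939 (Nat.ble (nat_lit 939) i)) (Nat.ble (nat_lit 938) i)) (@Bool.rec (fun _ => ℕ) (@Bool.rec (fun _ => ℕ) cb940 cb941 (Nat.ble (nat_lit 941) i)) (@Bool.rec (fun _ => ℕ) cb942 cb943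 (Nat.ble (nat_lit 943) i)) (Nat.ble (nat_lit 942) i)) (Nat.ble (nat_lit 940) i)) (Nat.ble (nat_lit 936) i)) (@Bool.rec (fun _ => ℕ) (@Bool.rec (fun _ => ℕ) (@Bool.rec (fun _ => ℕ) (@Bool.rec (fun _ => ℕ) cb944 cb945 (Nat.ble (nat_lit 945) i)) (@Bool.rec (fun _ => ℕ) cb946 cb947 (Nat.ble (nat_lit 947) i)) (Nat.ble (nat_lit 946) i)) (@Bool.rec (fun _ => ℕ) (@Bool.rec (fun _ => ℕ) cb948 cb949 (Nat.ble (nat_lit 949) i)) (@Bool.rec (fun _ => ℕ) cb950 cb951 (Nat.ble (nat_lit 951) i)) (Nat.ble (nat_lit 950) i)) (Nat.ble (nat_lit 948) i)) (@Bool.rec (fun _ => ℕ) (@Bool.rec (fun _ => ℕ) (@Bool.rec (fun _ => ℕ) cb952 cb953 (Nat.ble (nat_lit 953) i)) (@Bool.rec (fun _ => ℕ) cb954 cb955 (Nat.ble (nat_lit 955) i)) (Nat.ble (nat_lit 954) i)) (@Bool.rec (fun _ => ℕ) (@Bool.rec (fun _ => ℕ) cb956 cb957 (Nat.ble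 (nat_lit 957) i)) (@Bool.rec (fun _ => ℕ) cb958 cb959 (Nat.ble (nat_lit 959) i)) (Nat.ble (nat_lit 958) i)) (Nat.ble (nat_lit 956) i)) (Nat.ble (nat_lit 952) i)) (Nat.ble (nat_lit 944) i))

def certBlk_n0_30 (i : ℕ) : ℕ := (@Bool.rec (fun _ => ℕ) (@Bool.rec (fun _ => ℕ) (@Bool.rec (fun _ => ℕ) (@Bool.rec (fun _ => ℕ) (@Bool.rec (fun _ => ℕ) cb960 cb961 (Nat.ble (nat_lit 961) i)) (@Bool.rec (fun _ => ℕ) cb962 cb963 (Nat.ble (nat_lit 963) i)) (Nat.ble (nat_lit 962) i)) (@Bool.rec (fun _ => ℕ) (@Bool.rec (fun _ => ℕ) cb964 cb965 (Nat.ble (nat_lit 965) i)) (@Bool.rec (fun _ => ℕ) cb966 cb967 (Nat.ble (nat_lit 967) i)) (Nat.ble (nat_lit 966) i)) (Nat.ble (nat_lit 964) i)) (@Bool.rec (fun _ => ℕ) (@Bool.rec (fun _ => ℕ) (@Bool.rec (fun _ => ℕ) cb968 cb969 (Nat.ble (nat_lit 969) i)) (@Bool.rec (fun _ =>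 ℕ) cb970 cb971 (Nat.ble (nat_lit 971) i)) (Nat.ble (nat_lit 970) i)) (@Bool.rec (fun _ => ℕ) (@Bool.rec (fun _ => ℕ) cb972 cb973 (Nat.ble (nat_lit 973) i)) (@Bool.rec (fun _ => ℕ) cb974 cb975 (Nat.ble (nat_lit 975) i)) (Nat.ble (nat_lit 974) i)) (Nat.ble (nat_lit 972) i)) (Nat.ble (nat_lit 968) i)) (@Bool.rec (fun _ => ℕ) (@Bool.rec (fun _ => ℕ) (@Bool.rec (fun _ => ℕ) (@Bool.rec (fun _ => ℕ) cb976 cb977 (Nat.ble (nat_lit 977) i)) (@Bool.rec (fun _ => ℕ) cb978 cb979 (Nat.ble (nat_lit 979) i)) (Nat.ble (nat_lit 978) i)) (@Bool.rec (fun _ => ℕ) (@Bool.rec (fun _ => ℕ) cb980 cb981 (Nat.ble (nat_lit 981) i)) (@Bool.rec (fun _ => ℕ) cb982 cb983 (Nat.ble (nat_lit 983) i)) (Nat.ble (nat_lit 982) i)) (Nat.ble (nat_lit 980) i)) (@Bool.rec (fun _ => ℕ) (@Bool.rec (fun _ => ℕ) (@Bool.rec (fun _ => ℕ) cb984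 cb985 (Nat.ble (nat_lit 985) i)) (@Bool.rec (fun _ => ℕ) cb986 cb987 (Nat.ble (nat_lit 987) i)) (Nat.ble (nat_lit 986) i)) (@Bool.rec (fun _ => ℕ) (@Bool.rec (fun _ => ℕ) cb988 cb989 (Nat.ble (nat_lit 989) i)) (@Bool.rec (fun _ => ℕ) cb990 cb991 (Nat.ble (nat_lit 991) i)) (Nat.ble (nat_lit 990) i)) (Nat.ble (nat_lit 988) i)) (Nat.ble (nat_lit 984) i)) (Nat.ble (nat_lit 976) i))

def certBlk_n0_31 (i : ℕ) : ℕ := (@Bool.rec (fun _ => ℕ) (@Bool.rec (fun _ => ℕ) (@Bool.rec (fun _ => ℕ) (@Bool.rec (fun _ => ℕ) (@Bool.rec (fun _ => ℕ) cb992 cb993 (Nat.ble (nat_lit 993) i)) (@Bool.rec (fun _ => ℕ) cb994 cb995 (Nat.ble (nat_lit 995) i)) (Nat.ble (nat_lit 994) i)) (@Bool.rec (fun _ => ℕ) (@Bool.rec (fun _ => ℕ) cb996 cb997 (Nat.ble (nat_lit 997) i)) (@Bool.rec (fun _ => ℕ) cb998 cb999 (Nat.ble (nat_lit 999)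 i)) (Nat.ble (nat_lit 998) i)) (Nat.ble (nat_lit 996) i)) (@Bool.rec (fun _ => ℕ) (@Bool.rec (fun _ => ℕ) (@Bool.rec (fun _ => ℕ) cb1000 cb1001 (Nat.ble (nat_lit 1001) i)) (@Bool.rec (fun _ => ℕ) cb1002 cb1003 (Nat.ble (nat_lit 1003) i)) (Nat.ble (nat_lit 1002) i)) (@Bool.rec (fun _ => ℕ) (@Bool.rec (fun _ => ℕ) cb1004 cb1005 (Nat.ble (nat_lit 1005) i)) (@Bool.rec (fun _ => ℕ) cb1006 cb1007 (Nat.ble (nat_lit 1007) i)) (Nat.ble (nat_lit 1006) i)) (Nat.ble (nat_lit 1004) i)) (Nat.ble (nat_lit 1000) i)) (@Bool.rec (fun _ => ℕ) (@Bool.rec (fun _ => ℕ) (@Bool.rec (fun _ => ℕ) (@Bool.rec (fun _ => ℕ) cb1008 cb1009 (Nat.ble (nat_lit 1009) i)) (@Bool.rec (fun _ => ℕ) cb1010 cb1011 (Nat.ble (nat_lit 1011) i)) (Nat.ble (nat_lit 1010) i)) (@Bool.rec (fun _ => ℕ) (@Bool.rec (fun _ => ℕ) cb1012 cb1013 (Nat.ble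 (nat_lit 1013) i)) (@Bool.rec (fun _ => ℕ) cb1014 cb1015 (Nat.ble (nat_lit 1015) i)) (Nat.ble (nat_lit 1014) i)) (Nat.ble (nat_lit 1012) i)) (@Bool.rec (fun _ => ℕ) (@Bool.rec (fun _ => ℕ) (@Bool.rec (fun _ => ℕ) cb1016 cb1017 (Nat.ble (nat_lit 1017) i)) (@Bool.rec (fun _ => ℕ) cb1018 cb1019 (Nat.ble (nat_lit 1019) i)) (Nat.ble (nat_lit 1018) i)) (@Bool.rec (fun _ => ℕ) (@Bool.rec (fun _ => ℕ) cb1020 cb1021 (Nat.ble (nat_lit 1021) i)) (@Bool.rec (fun _ => ℕ) cb1022 cb1023 (Nat.ble (nat_lit 1023) i)) (Nat.ble (nat_lit 1022) i)) (Nat.ble (nat_lit 1020) i)) (Nat.ble (nat_lit 1016) i)) (Nat.ble (nat_lit 1008) i))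

def certBlk_n0_32 (i : ℕ) : ℕ := (@Bool.rec (fun _ => ℕ) (@Bool.rec (fun _ => ℕ) (@Bool.rec (fun _ => ℕ) (@Bool.rec (fun _ => ℕ) (@Bool.rec (fun _ => ℕ) cb1024 cb1025 (Nat.ble (nat_lit 1025) i)) (@Bool.rec (fun _ => ℕ) cb1026 cb1027 (Nat.ble (nat_lit 1027) i)) (Nat.ble (nat_lit 1026) i)) (@Bool.rec (fun _ => ℕ) (@Bool.rec (fun _ => ℕ) cb1028 cb1029 (Nat.ble (nat_lit 1029) i)) (@Bool.rec (fun _ => ℕ) cb1030 cb1031 (Nat.ble (nat_lit 1031) i)) (Nat.ble (nat_lit 1030) i)) (Nat.ble (nat_lit 1028) i)) (@Bool.rec (fun _ => ℕ) (@Bool.rec (fun _ => ℕ) (@Bool.rec (fun _ => ℕ) cb1032 cb1033 (Nat.ble (nat_lit 1033) i)) (@Bool.rec (fun _ => ℕ) cb1034 cb1035 (Nat.ble (nat_lit 1035) i)) (Nat.ble (nat_lit 1034) i)) (@Bool.rec (fun _ => ℕ) (@Bool.rec (fun _ => ℕ) cb1036 cb1037 (Nat.ble (nat_lit 1037) i)) (@Bool.rec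 (fun _ => ℕ) cb1038 cb1039 (Nat.ble (nat_lit 1039) i)) (Nat.ble (nat_lit 1038) i)) (Nat.ble (nat_lit 1036) i)) (Nat.ble (nat_lit 1032) i)) (@Bool.rec (fun _ => ℕ) (@Bool.rec (fun _ => ℕ) (@Bool.rec (fun _ => ℕ) (@Bool.rec (fun _ => ℕ) cb1040 cb1041 (Nat.ble (nat_lit 1041) i)) (@Bool.rec (fun _ => ℕ) cb1042 cb1043 (Nat.ble (nat_lit 1043) i)) (Nat.ble (nat_lit 1042) i)) (@Bool.rec (fun _ => ℕ) (@Bool.rec (fun _ => ℕ) cb1044 cb1045 (Nat.ble (nat_lit 1045) i)) (@Bool.rec (fun _ => ℕ) cb1046 cb1047 (Nat.ble (nat_lit 1047) i)) (Nat.ble (nat_lit 1046) i)) (Nat.ble (nat_lit 1044) i)) (@Bool.rec (fun _ => ℕ) (@Bool.rec (fun _ => ℕ) (@Bool.rec (fun _ => ℕ) cb1048 cb1049 (Nat.ble (nat_lit 1049) i)) (@Bool.rec (fun _ => ℕ) cb1050 cb1051 (Nat.ble (nat_lit 1051) i)) (Nat.ble (nat_lit 1050) i)) (@Bool.rec (fun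 _ => ℕ) (@Bool.rec (fun _ => ℕ) cb1052 cb1053 (Nat.ble (nat_lit 1053) i)) (@Bool.rec (fun _ => ℕ) cb1054 cb1055 (Nat.ble (nat_lit 1055) i)) (Nat.ble (nat_lit 1054) i)) (Nat.ble (nat_lit 1052) i)) (Nat.ble (nat_lit 1048) i)) (Nat.ble (nat_lit 1040) i))

def certBlk_n0_33 (i : ℕ) : ℕ := (@Bool.rec (fun _ => ℕ) (@Bool.rec (fun _ => ℕ) (@Bool.rec (fun _ => ℕ) (@Bool.rec (fun _ => ℕ) (@Bool.rec (fun _ => ℕ) cb1056 cb1057 (Nat.ble (nat_lit 1057) i)) (@Bool.rec (fun _ => ℕ) cb1058 cb1059 (Nat.ble (nat_lit 1059) i)) (Nat.ble (nat_lit 1058) i)) (@Bool.rec (fun _ => ℕ) (@Bool.rec (fun _ => ℕ) cb1060 cb1061 (Nat.ble (nat_lit 1061) i)) (@Bool.rec (fun _ => ℕ) cb1062 cb1063 (Nat.ble (nat_lit 1063) i)) (Nat.ble (nat_lit 1062) i)) (Nat.ble (nat_lit 1060) i)) (@Bool.rec (fun _ => ℕ) (@Bool.rec (fun _ => ℕ) (@Bool.rec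 (fun _ => ℕ) cb1064 cb1065 (Nat.ble (nat_lit 1065) i)) (@Bool.rec (fun _ => ℕ) cb1066 cb1067 (Nat.ble (nat_lit 1067) i)) (Nat.ble (nat_lit 1066) i)) (@Bool.rec (fun _ => ℕ) (@Bool.rec (fun _ => ℕ) cb1068 cb1069 (Nat.ble (nat_lit 1069) i)) (@Bool.rec (fun _ => ℕ) cb1070 cb1071 (Nat.ble (nat_lit 1071) i)) (Nat.ble (nat_lit 1070) i)) (Nat.ble (nat_lit 1068) i)) (Nat.ble (nat_lit 1064) i)) (@Bool.rec (fun _ => ℕ) (@Bool.rec (fun _ => ℕ) (@Bool.rec (fun _ => ℕ) (@Bool.rec (fun _ => ℕ) cb1072 cb1073 (Nat.ble (nat_lit 1073) i)) (@Bool.rec (fun _ => ℕ) cb1074 cb1075 (Nat.ble (nat_lit 1075) i)) (Nat.ble (nat_lit 1074) i)) (@Bool.rec (fun _ => ℕ) (@Bool.rec (fun _ => ℕ) cb1076 cb1077 (Nat.ble (nat_lit 1077) i)) (@Bool.rec (fun _ => ℕ) cb1078 cb1079 (Nat.ble (nat_lit 1079) i)) (Nat.ble (nat_lit 1078) i)) (Nat.ble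 (nat_lit 1076) i)) (@Bool.rec (fun _ => ℕ) (@Bool.rec (fun _ => ℕ) (@Bool.rec (fun _ => ℕ) cb1080 cb1081 (Nat.ble (nat_lit 1081) i)) (@Bool.rec (fun _ => ℕ) cb1082 cb1083 (Nat.ble (nat_lit 1083) i)) (Nat.ble (nat_lit 1082) i)) (@Bool.rec (fun _ => ℕ) (@Bool.rec (fun _ => ℕ) cb1084 cb1085 (Nat.ble (nat_lit 1085) i)) (@Bool.rec (fun _ => ℕ) cb1086 cb1087 (Nat.ble (nat_lit 1087) i)) (Nat.ble (nat_lit 1086) i)) (Nat.ble (nat_lit 1084) i)) (Nat.ble (nat_lit 1080) i)) (Nat.ble (nat_lit 1072) i))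

def certBlk_n0_34 (i : ℕ) : ℕ := (@Bool.rec (fun _ => ℕ) (@Bool.rec (fun _ => ℕ) (@Bool.rec (fun _ => ℕ) (@Bool.rec (fun _ => ℕ) (@Bool.rec (fun _ => ℕ) cb1088 cb1089 (Nat.ble (nat_lit 1089) i)) (@Bool.rec (fun _ => ℕ) cb1090 cb1091 (Nat.ble (nat_lit 1091) i)) (Nat.ble (nat_lit 1090) i)) (@Bool.rec (fun _ => ℕ) (@Bool.rec (fun _ => ℕ) cb1092 cb1093 (Nat.ble (nat_lit 1093) i)) (@Bool.rec (fun _ => ℕ) cb1094 cb1095 (Nat.ble (nat_lit 1095) i)) (Nat.ble (nat_lit 1094) i)) (Nat.ble (nat_lit 1092) i)) (@Bool.rec (fun _ => ℕ) (@Bool.rec (fun _ => ℕ) (@Bool.rec (fun _ => ℕ) cb1096 cb1097 (Nat.ble (nat_lit 1097) i)) (@Bool.rec (fun _ => ℕ) cb1098 cb1099 (Nat.ble (nat_lit 1099) i)) (Nat.ble (nat_lit 1098) i)) (@Bool.rec (fun _ => ℕ) (@Bool.rec (fun _ => ℕ) cb1100 cb1101 (Nat.ble (nat_lit 1101) i)) (@Bool.rec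 (fun _ => ℕ) cb1102 cb1103 (Nat.ble (nat_lit 1103) i)) (Nat.ble (nat_lit 1102) i)) (Nat.ble (nat_lit 1100) i)) (Nat.ble (nat_lit 1096) i)) (@Bool.rec (fun _ => ℕ) (@Bool.rec (fun _ => ℕ) (@Bool.rec (fun _ => ℕ) (@Bool.rec (fun _ => ℕ) cb1104 cb1105 (Nat.ble (nat_lit 1105) i)) (@Bool.rec (fun _ => ℕ) cb1106 cb1107 (Nat.ble (nat_lit 1107) i)) (Nat.ble (nat_lit 1106) i)) (@Bool.rec (fun _ => ℕ) (@Bool.rec (fun _ => ℕ) cb1108 cb1109 (Nat.ble (nat_lit 1109) i)) (@Bool.rec (fun _ => ℕ) cb1110 cb1111 (Nat.ble (nat_lit 1111) i)) (Nat.ble (nat_lit 1110) i)) (Nat.ble (nat_lit 1108) i)) (@Bool.rec (fun _ => ℕ) (@Bool.rec (fun _ => ℕ) (@Bool.rec (fun _ => ℕ) cb1112 cb1113 (Nat.ble (nat_lit 1113) i)) (@Bool.rec (fun _ => ℕ) cb1114 cb1115 (Nat.ble (nat_lit 1115) i)) (Nat.ble (nat_lit 1114) i)) (@Bool.rec (fun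 _ => ℕ) (@Bool.rec (fun _ => ℕ) cb1116 cb1117 (Nat.ble (nat_lit 1117) i)) (@Bool.rec (fun _ => ℕ) cb1118 cb1119 (Nat.ble (nat_lit 1119) i)) (Nat.ble (nat_lit 1118) i)) (Nat.ble (nat_lit 1116) i)) (Nat.ble (nat_lit 1112) i)) (Nat.ble (nat_lit 1104) i))

def certBlk_n0_35 (i : ℕ) : ℕ := (@Bool.rec (fun _ => ℕ) (@Bool.rec (fun _ => ℕ) (@Bool.rec (fun _ => ℕ) (@Bool.rec (fun _ => ℕ) (@Bool.rec (fun _ => ℕ) cb1120 cb1121 (Nat.ble (nat_lit 1121) i)) (@Bool.rec (fun _ => ℕ) cb1122 cb1123 (Nat.ble (nat_lit 1123) i)) (Nat.ble (nat_lit 1122) i)) (@Bool.rec (fun _ => ℕ) (@Bool.rec (fun _ => ℕ) cb1124 cb1125 (Nat.ble (nat_lit 1125) i)) (@Bool.rec (fun _ => ℕ) cb1126 cb1127 (Nat.ble (nat_lit 1127) i)) (Nat.ble (nat_lit 1126) i)) (Nat.ble (nat_lit 1124) i)) (@Bool.rec (fun _ => ℕ) (@Bool.rec (fun _ => ℕ) (@Bool.rec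 (fun _ => ℕ) cb1128 cb1129 (Nat.ble (nat_lit 1129) i)) (@Bool.rec (fun _ => ℕ) cb1130 cb1131 (Nat.ble (nat_lit 1131) i)) (Nat.ble (nat_lit 1130) i)) (@Bool.rec (fun _ => ℕ) (@Bool.rec (fun _ => ℕ) cb1132 cb1133 (Nat.ble (nat_lit 1133) i)) (@Bool.rec (fun _ => ℕ) cb1134 cb1135 (Nat.ble (nat_lit 1135) i)) (Nat.ble (nat_lit 1134) i)) (Nat.ble (nat_lit 1132) i)) (Nat.ble (nat_lit 1128) i)) (@Bool.rec (fun _ => ℕ) (@Bool.rec (fun _ => ℕ) (@Bool.rec (fun _ => ℕ) (@Bool.rec (fun _ => ℕ) cb1136 cb1137 (Nat.ble (nat_lit 1137) i)) (@Bool.rec (fun _ => ℕ) cb1138 cb1139 (Nat.ble (nat_lit 1139) i)) (Nat.ble (nat_lit 1138) i)) (@Bool.rec (fun _ => ℕ) (@Bool.rec (fun _ => ℕ) cb1140 cb1141 (Nat.ble (nat_lit 1141) i)) (@Bool.rec (fun _ => ℕ) cb1142 cb1143 (Nat.ble (nat_lit 1143) i)) (Nat.ble (nat_lit 1142) i)) (Nat.ble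 (nat_lit 1140) i)) (@Bool.rec (fun _ => ℕ) (@Bool.rec (fun _ => ℕ) (@Bool.rec (fun _ => ℕ) cb1144 cb1145 (Nat.ble (nat_lit 1145) i)) (@Bool.rec (fun _ => ℕ) cb1146 cb1147 (Nat.ble (nat_lit 1147) i)) (Nat.ble (nat_lit 1146) i)) (@Bool.rec (fun _ => ℕ) (@Bool.rec (fun _ => ℕ) cb1148 cb1149 (Nat.ble (nat_lit 1149) i)) (@Bool.rec (fun _ => ℕ) cb1150 cb1151 (Nat.ble (nat_lit 1151) i)) (Nat.ble (nat_lit 1150) i)) (Nat.ble (nat_lit 1148) i)) (Nat.ble (nat_lit 1144) i)) (Nat.ble (nat_lit 1136) i))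

def certBlk_n0_36 (i : ℕ) : ℕ := (@Bool.rec (fun _ => ℕ) (@Bool.rec (fun _ => ℕ) (@Bool.rec (fun _ => ℕ) (@Bool.rec (fun _ => ℕ) (@Bool.rec (fun _ => ℕ) cb1152 cb1153 (Nat.ble (nat_lit 1153) i)) (@Bool.rec (fun _ => ℕ) cb1154 cb1155 (Nat.ble (nat_lit 1155) i)) (Nat.ble (nat_lit 1154) i)) (@Bool.rec (fun _ => ℕ) (@Bool.rec (fun _ => ℕ) cb1156 cb1157 (Nat.ble (nat_lit 1157) i)) (@Bool.rec (fun _ => ℕ) cb1158 cb1159 (Nat.ble (nat_lit 1159) i)) (Nat.ble (nat_lit 1158) i)) (Nat.ble (nat_lit 1156) i)) (@Bool.rec (fun _ => ℕ) (@Bool.rec (fun _ => ℕ) (@Bool.rec (fun _ => ℕ) cb1160 cb1161 (Nat.ble (nat_lit 1161) i)) (@Bool.rec (fun _ => ℕ) cb1162 cb1163 (Nat.ble (nat_lit 1163) i)) (Nat.ble (nat_lit 1162) i)) (@Bool.rec (fun _ => ℕ) (@Bool.rec (fun _ => ℕ) cb1164 cb1165 (Nat.ble (nat_lit 1165) i)) (@Bool.rec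 (fun _ => ℕ) cb1166 cb1167 (Nat.ble (nat_lit 1167) i)) (Nat.ble (nat_lit 1166) i)) (Nat.ble (nat_lit 1164) i)) (Nat.ble (nat_lit 1160) i)) (@Bool.rec (fun _ => ℕ) (@Bool.rec (fun _ => ℕ) (@Bool.rec (fun _ => ℕ) (@Bool.rec (fun _ => ℕ) cb1168 cb1169 (Nat.ble (nat_lit 1169) i)) (@Bool.rec (fun _ => ℕ) cb1170 cb1171 (Nat.ble (nat_lit 1171) i)) (Nat.ble (nat_lit 1170) i)) (@Bool.rec (fun _ => ℕ) (@Bool.rec (fun _ => ℕ) cb1172 cb1173 (Nat.ble (nat_lit 1173) i)) (@Bool.rec (fun _ => ℕ) cb1174 cb1175 (Nat.ble (nat_lit 1175) i)) (Nat.ble (nat_lit 1174) i)) (Nat.ble (nat_lit 1172) i)) (@Bool.rec (fun _ => ℕ) (@Bool.rec (fun _ => ℕ) (@Bool.rec (fun _ => ℕ) cb1176 cb1177 (Nat.ble (nat_lit 1177) i)) (@Bool.rec (fun _ => ℕ) cb1178 cb1179 (Nat.ble (nat_lit 1179) i)) (Nat.ble (nat_lit 1178) i)) (@Bool.rec (fun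 _ => ℕ) (@Bool.rec (fun _ => ℕ) cb1180 cb1181 (Nat.ble (nat_lit 1181) i)) (@Bool.rec (fun _ => ℕ) cb1182 cb1183 (Nat.ble (nat_lit 1183) i)) (Nat.ble (nat_lit 1182) i)) (Nat.ble (nat_lit 1180) i)) (Nat.ble (nat_lit 1176) i)) (Nat.ble (nat_lit 1168) i))

def certBlk_n0_37 (i : ℕ) : ℕ := (@Bool.rec (fun _ => ℕ) (@Bool.rec (fun _ => ℕ) (@Bool.rec (fun _ => ℕ) (@Bool.rec (fun _ => ℕ) (@Bool.rec (fun _ => ℕ) cb1184 cb1185 (Nat.ble (nat_lit 1185) i)) (@Bool.rec (fun _ => ℕ) cb1186 cb1187 (Nat.ble (nat_lit 1187) i)) (Nat.ble (nat_lit 1186) i)) (@Bool.rec (fun _ => ℕ) (@Bool.rec (fun _ => ℕ) cb1188 cb1189 (Nat.ble (nat_lit 1189) i)) (@Bool.rec (fun _ => ℕ) cb1190 cb1191 (Nat.ble (nat_lit 1191) i)) (Nat.ble (nat_lit 1190) i)) (Nat.ble (nat_lit 1188) i)) (@Bool.rec (fun _ => ℕ) (@Bool.rec (fun _ => ℕ) (@Bool.rec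 (fun _ => ℕ) cb1192 cb1193 (Nat.ble (nat_lit 1193) i)) (@Bool.rec (fun _ => ℕ) cb1194 cb1195 (Nat.ble (nat_lit 1195) i)) (Nat.ble (nat_lit 1194) i)) (@Bool.rec (fun _ => ℕ) (@Bool.rec (fun _ => ℕ) cb1196 cb1197 (Nat.ble (nat_lit 1197) i)) (@Bool.rec (fun _ => ℕ) cb1198 cb1199 (Nat.ble (nat_lit 1199) i)) (Nat.ble (nat_lit 1198) i)) (Nat.ble (nat_lit 1196) i)) (Nat.ble (nat_lit 1192) i)) (@Bool.rec (fun _ => ℕ) (@Bool.rec (fun _ => ℕ) (@Bool.rec (fun _ => ℕ) (@Bool.rec (fun _ => ℕ) cb1200 cb1201 (Nat.ble (nat_lit 1201) i)) (@Bool.rec (fun _ => ℕ) cb1202 cb1203 (Nat.ble (nat_lit 1203) i)) (Nat.ble (nat_lit 1202) i)) (@Bool.rec (fun _ => ℕ) (@Bool.rec (fun _ => ℕ) cb1204 cb1205 (Nat.ble (nat_lit 1205) i)) (@Bool.rec (fun _ => ℕ) cb1206 cb1207 (Nat.ble (nat_lit 1207) i)) (Nat.ble (nat_lit 1206) i)) (Nat.ble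 (nat_lit 1204) i)) (@Bool.rec (fun _ => ℕ) (@Bool.rec (fun _ => ℕ) (@Bool.rec (fun _ => ℕ) cb1208 cb1209 (Nat.ble (nat_lit 1209) i)) (@Bool.rec (fun _ => ℕ) cb1210 cb1211 (Nat.ble (nat_lit 1211) i)) (Nat.ble (nat_lit 1210) i)) (@Bool.rec (fun _ => ℕ) (@Bool.rec (fun _ => ℕ) cb1212 cb1213 (Nat.ble (nat_lit 1213) i)) (@Bool.rec (fun _ => ℕ) cb1214 cb1215 (Nat.ble (nat_lit 1215) i)) (Nat.ble (nat_lit 1214) i)) (Nat.ble (nat_lit 1212) i)) (Nat.ble (nat_lit 1208) i)) (Nat.ble (nat_lit 1200) i))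

def certBlk_n0_38 (i : ℕ) : ℕ := (@Bool.rec (fun _ => ℕ) (@Bool.rec (fun _ => ℕ) (@Bool.rec (fun _ => ℕ) (@Bool.rec (fun _ => ℕ) (@Bool.rec (fun _ => ℕ) cb1216 cb1217 (Nat.ble (nat_lit 1217) i)) (@Bool.rec (fun _ => ℕ) cb1218 cb1219 (Nat.ble (nat_lit 1219) i)) (Nat.ble (nat_lit 1218) i)) (@Bool.rec (fun _ => ℕ) (@Bool.rec (fun _ => ℕ) cb1220 cb1221 (Nat.ble (nat_lit 1221) i)) (@Bool.rec (fun _ => ℕ) cb1222 cb1223 (Nat.ble (nat_lit 1223) i)) (Nat.ble (nat_lit 1222) i)) (Nat.ble (nat_lit 1220) i)) (@Bool.rec (fun _ => ℕ) (@Bool.rec (fun _ => ℕ) (@Bool.rec (fun _ => ℕ) cb1224 cb1225 (Nat.ble (nat_lit 1225) i)) (@Bool.rec (fun _ => ℕ) cb1226 cb1227 (Nat.ble (nat_lit 1227) i)) (Nat.ble (nat_lit 1226) i)) (@Bool.rec (fun _ => ℕ) (@Bool.rec (fun _ => ℕ) cb1228 cb1229 (Nat.ble (nat_lit 1229) i)) (@Bool.rec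 (fun _ => ℕ) cb1230 cb1231 (Nat.ble (nat_lit 1231) i)) (Nat.ble (nat_lit 1230) i)) (Nat.ble (nat_lit 1228) i)) (Nat.ble (nat_lit 1224) i)) (@Bool.rec (fun _ => ℕ) (@Bool.rec (fun _ => ℕ) (@Bool.rec (fun _ => ℕ) (@Bool.rec (fun _ => ℕ) cb1232 cb1233 (Nat.ble (nat_lit 1233) i)) (@Bool.rec (fun _ => ℕ) cb1234 cb1235 (Nat.ble (nat_lit 1235) i)) (Nat.ble (nat_lit 1234) i)) (@Bool.rec (fun _ => ℕ) (@Bool.rec (fun _ => ℕ) cb1236 cb1237 (Nat.ble (nat_lit 1237) i)) (@Bool.rec (fun _ => ℕ) cb1238 cb1239 (Nat.ble (nat_lit 1239) i)) (Nat.ble (nat_lit 1238) i)) (Nat.ble (nat_lit 1236) i)) (@Bool.rec (fun _ => ℕ) (@Bool.rec (fun _ => ℕ) (@Bool.rec (fun _ => ℕ) cb1240 cb1241 (Nat.ble (nat_lit 1241) i)) (@Bool.rec (fun _ => ℕ) cb1242 cb1243 (Nat.ble (nat_lit 1243) i)) (Nat.ble (nat_lit 1242) i)) (@Bool.rec (fun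 _ => ℕ) (@Bool.rec (fun _ => ℕ) cb1244 cb1245 (Nat.ble (nat_lit 1245) i)) (@Bool.rec (fun _ => ℕ) cb1246 cb1247 (Nat.ble (nat_lit 1247) i)) (Nat.ble (nat_lit 1246) i)) (Nat.ble (nat_lit 1244) i)) (Nat.ble (nat_lit 1240) i)) (Nat.ble (nat_lit 1232) i))

def certBlk_n0_39 (i : ℕ) : ℕ := (@Bool.rec (fun _ => ℕ) (@Bool.rec (fun _ => ℕ) (@Bool.rec (fun _ => ℕ) (@Bool.rec (fun _ => ℕ) (@Bool.rec (fun _ => ℕ) cb1248 cb1249 (Nat.ble (nat_lit 1249) i)) (@Bool.rec (fun _ => ℕ) cb1250 cb1251 (Nat.ble (nat_lit 1251) i)) (Nat.ble (nat_lit 1250) i)) (@Bool.rec (fun _ => ℕ) (@Bool.rec (fun _ => ℕ) cb1252 cb1253 (Nat.ble (nat_lit 1253) i)) (@Bool.rec (fun _ => ℕ) cb1254 cb1255 (Nat.ble (nat_lit 1255) i)) (Nat.ble (nat_lit 1254) i)) (Nat.ble (nat_lit 1252) i)) (@Bool.rec (fun _ => ℕ) (@Bool.rec (fun _ => ℕ) (@Bool.rec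 (fun _ => ℕ) cb1256 cb1257 (Nat.ble (nat_lit 1257) i)) (@Bool.rec (fun _ => ℕ) cb1258 cb1259 (Nat.ble (nat_lit 1259) i)) (Nat.ble (nat_lit 1258) i)) (@Bool.rec (fun _ => ℕ) (@Bool.rec (fun _ => ℕ) cb1260 cb1261 (Nat.ble (nat_lit 1261) i)) (@Bool.rec (fun _ => ℕ) cb1262 cb1263 (Nat.ble (nat_lit 1263) i)) (Nat.ble (nat_lit 1262) i)) (Nat.ble (nat_lit 1260) i)) (Nat.ble (nat_lit 1256) i)) (@Bool.rec (fun _ => ℕ) (@Bool.rec (fun _ => ℕ) (@Bool.rec (fun _ => ℕ) (@Bool.rec (fun _ => ℕ) cb1264 cb1265 (Nat.ble (nat_lit 1265) i)) (@Bool.rec (fun _ => ℕ) cb1266 cb1267 (Nat.ble (nat_lit 1267) i)) (Nat.ble (nat_lit 1266) i)) (@Bool.rec (fun _ => ℕ) (@Bool.rec (fun _ => ℕ) cb1268 cb1269 (Nat.ble (nat_lit 1269) i)) (@Bool.rec (fun _ => ℕ) cb1270 cb1271 (Nat.ble (nat_lit 1271) i)) (Nat.ble (nat_lit 1270) i)) (Nat.ble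 (nat_lit 1268) i)) (@Bool.rec (fun _ => ℕ) (@Bool.rec (fun _ => ℕ) (@Bool.rec (fun _ => ℕ) cb1272 cb1273 (Nat.ble (nat_lit 1273) i)) (@Bool.rec (fun _ => ℕ) cb1274 cb1275 (Nat.ble (nat_lit 1275) i)) (Nat.ble (nat_lit 1274) i)) (@Bool.rec (fun _ => ℕ) (@Bool.rec (fun _ => ℕ) cb1276 cb1277 (Nat.ble (nat_lit 1277) i)) (@Bool.rec (fun _ => ℕ) cb1278 cb1279 (Nat.ble (nat_lit 1279) i)) (Nat.ble (nat_lit 1278) i)) (Nat.ble (nat_lit 1276) i)) (Nat.ble (nat_lit 1272) i)) (Nat.ble (nat_lit 1264) i))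

def certBlk_n0_40 (i : ℕ) : ℕ := (@Bool.rec (fun _ => ℕ) (@Bool.rec (fun _ => ℕ) (@Bool.rec (fun _ => ℕ) (@Bool.rec (fun _ => ℕ) (@Bool.rec (fun _ => ℕ) cb1280 cb1281 (Nat.ble (nat_lit 1281) i)) (@Bool.rec (fun _ => ℕ) cb1282 cb1283 (Nat.ble (nat_lit 1283) i)) (Nat.ble (nat_lit 1282) i)) (@Bool.rec (fun _ => ℕ) (@Bool.rec (fun _ => ℕ) cb1284 cb1285 (Nat.ble (nat_lit 1285) i)) (@Bool.rec (fun _ => ℕ) cb1286 cb1287 (Nat.ble (nat_lit 1287) i)) (Nat.ble (nat_lit 1286) i)) (Nat.ble (nat_lit 1284) i)) (@Bool.rec (fun _ => ℕ) (@Bool.rec (fun _ => ℕ) (@Bool.rec (fun _ => ℕ) cb1288 cb1289 (Nat.ble (nat_lit 1289) i)) (@Bool.rec (fun _ => ℕ) cb1290 cb1291 (Nat.ble (nat_lit 1291) i)) (Nat.ble (nat_lit 1290) i)) (@Bool.rec (fun _ => ℕ) (@Bool.rec (fun _ => ℕ) cb1292 cb1293 (Nat.ble (nat_lit 1293) i)) (@Bool.rec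 (fun _ => ℕ) cb1294 cb1295 (Nat.ble (nat_lit 1295) i)) (Nat.ble (nat_lit 1294) i)) (Nat.ble (nat_lit 1292) i)) (Nat.ble (nat_lit 1288) i)) (@Bool.rec (fun _ => ℕ) (@Bool.rec (fun _ => ℕ) (@Bool.rec (fun _ => ℕ) (@Bool.rec (fun _ => ℕ) cb1296 cb1297 (Nat.ble (nat_lit 1297) i)) (@Bool.rec (fun _ => ℕ) cb1298 cb1299 (Nat.ble (nat_lit 1299) i)) (Nat.ble (nat_lit 1298) i)) (@Bool.rec (fun _ => ℕ) (@Bool.rec (fun _ => ℕ) cb1300 cb1301 (Nat.ble (nat_lit 1301) i)) (@Bool.rec (fun _ => ℕ) cb1302 cb1303 (Nat.ble (nat_lit 1303) i)) (Nat.ble (nat_lit 1302) i)) (Nat.ble (nat_lit 1300) i)) (@Bool.rec (fun _ => ℕ) (@Bool.rec (fun _ => ℕ) (@Bool.rec (fun _ => ℕ) cb1304 cb1305 (Nat.ble (nat_lit 1305) i)) (@Bool.rec (fun _ => ℕ) cb1306 cb1307 (Nat.ble (nat_lit 1307) i)) (Nat.ble (nat_lit 1306) i)) (@Bool.rec (fun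 _ => ℕ) (@Bool.rec (fun _ => ℕ) cb1308 cb1309 (Nat.ble (nat_lit 1309) i)) (@Bool.rec (fun _ => ℕ) cb1310 cb1311 (Nat.ble (nat_lit 1311) i)) (Nat.ble (nat_lit 1310) i)) (Nat.ble (nat_lit 1308) i)) (Nat.ble (nat_lit 1304) i)) (Nat.ble (nat_lit 1296) i))

def certBlk_n0_41 (i : ℕ) : ℕ := (@Bool.rec (fun _ => ℕ) (@Bool.rec (fun _ => ℕ) (@Bool.rec (fun _ => ℕ) (@Bool.rec (fun _ => ℕ) (@Bool.rec (fun _ => ℕ) cb1312 cb1313 (Nat.ble (nat_lit 1313) i)) (@Bool.rec (fun _ => ℕ) cb1314 cb1315 (Nat.ble (nat_lit 1315) i)) (Nat.ble (nat_lit 1314) i)) (@Bool.rec (fun _ => ℕ) (@Bool.rec (fun _ => ℕ) cb1316 cb1317 (Nat.ble (nat_lit 1317) i)) (@Bool.rec (fun _ => ℕ) cb1318 cb1319 (Nat.ble (nat_lit 1319) i)) (Nat.ble (nat_lit 1318) i)) (Nat.ble (nat_lit 1316) i)) (@Bool.rec (fun _ => ℕ) (@Bool.rec (fun _ => ℕ) (@Bool.rec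 (fun _ => ℕ) cb1320 cb1321 (Nat.ble (nat_lit 1321) i)) (@Bool.rec (fun _ => ℕ) cb1322 cb1323 (Nat.ble (nat_lit 1323) i)) (Nat.ble (nat_lit 1322) i)) (@Bool.rec (fun _ => ℕ) (@Bool.rec (fun _ => ℕ) cb1324 cb1325 (Nat.ble (nat_lit 1325) i)) (@Bool.rec (fun _ => ℕ) cb1326 cb1327 (Nat.ble (nat_lit 1327) i)) (Nat.ble (nat_lit 1326) i)) (Nat.ble (nat_lit 1324) i)) (Nat.ble (nat_lit 1320) i)) (@Bool.rec (fun _ => ℕ) (@Bool.rec (fun _ => ℕ) (@Bool.rec (fun _ => ℕ) (@Bool.rec (fun _ => ℕ) cb1328 cb1329 (Nat.ble (nat_lit 1329) i)) (@Bool.rec (fun _ => ℕ) cb1330 cb1331 (Nat.ble (nat_lit 1331) i)) (Nat.ble (nat_lit 1330) i)) (@Bool.rec (fun _ => ℕ) (@Bool.rec (fun _ => ℕ) cb1332 cb1333 (Nat.ble (nat_lit 1333) i)) (@Bool.rec (fun _ => ℕ) cb1334 cb1335 (Nat.ble (nat_lit 1335) i)) (Nat.ble (nat_lit 1334) i)) (Nat.ble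 (nat_lit 1332) i)) (@Bool.rec (fun _ => ℕ) (@Bool.rec (fun _ => ℕ) (@Bool.rec (fun _ => ℕ) cb1336 cb1337 (Nat.ble (nat_lit 1337) i)) (@Bool.rec (fun _ => ℕ) cb1338 cb1339 (Nat.ble (nat_lit 1339) i)) (Nat.ble (nat_lit 1338) i)) (@Bool.rec (fun _ => ℕ) (@Bool.rec (fun _ => ℕ) cb1340 cb1341 (Nat.ble (nat_lit 1341) i)) (@Bool.rec (fun _ => ℕ) cb1342 cb1343 (Nat.ble (nat_lit 1343) i)) (Nat.ble (nat_lit 1342) i)) (Nat.ble (nat_lit 1340) i)) (Nat.ble (nat_lit 1336) i)) (Nat.ble (nat_lit 1328) i))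

def certBlk_n0_42 (i : ℕ) : ℕ := (@Bool.rec (fun _ => ℕ) (@Bool.rec (fun _ => ℕ) (@Bool.rec (fun _ => ℕ) (@Bool.rec (fun _ => ℕ) (@Bool.rec (fun _ => ℕ) cb1344 cb1345 (Nat.ble (nat_lit 1345) i)) (@Bool.rec (fun _ => ℕ) cb1346 cb1347 (Nat.ble (nat_lit 1347) i)) (Nat.ble (nat_lit 1346) i)) (@Bool.rec (fun _ => ℕ) (@Bool.rec (fun _ => ℕ) cb1348 cb1349 (Nat.ble (nat_lit 1349) i)) (@Bool.rec (fun _ => ℕ) cb1350 cb1351 (Nat.ble (nat_lit 1351) i)) (Nat.ble (nat_lit 1350) i)) (Nat.ble (nat_lit 1348) i)) (@Bool.rec (fun _ => ℕ) (@Bool.rec (fun _ => ℕ) (@Bool.rec (fun _ => ℕ) cb1352 cb1353 (Nat.ble (nat_lit 1353) i)) (@Bool.rec (fun _ => ℕ) cb1354 cb1355 (Nat.ble (nat_lit 1355) i)) (Nat.ble (nat_lit 1354) i)) (@Bool.rec (fun _ => ℕ) (@Bool.rec (fun _ => ℕ) cb1356 cb1357 (Nat.ble (nat_lit 1357) i)) (@Bool.rec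 (fun _ => ℕ) cb1358 cb1359 (Nat.ble (nat_lit 1359) i)) (Nat.ble (nat_lit 1358) i)) (Nat.ble (nat_lit 1356) i)) (Nat.ble (nat_lit 1352) i)) (@Bool.rec (fun _ => ℕ) (@Bool.rec (fun _ => ℕ) (@Bool.rec (fun _ => ℕ) (@Bool.rec (fun _ => ℕ) cb1360 cb1361 (Nat.ble (nat_lit 1361) i)) (@Bool.rec (fun _ => ℕ) cb1362 cb1363 (Nat.ble (nat_lit 1363) i)) (Nat.ble (nat_lit 1362) i)) (@Bool.rec (fun _ => ℕ) (@Bool.rec (fun _ => ℕ) cb1364 cb1365 (Nat.ble (nat_lit 1365) i)) (@Bool.rec (fun _ => ℕ) cb1366 cb1367 (Nat.ble (nat_lit 1367) i)) (Nat.ble (nat_lit 1366) i)) (Nat.ble (nat_lit 1364) i)) (@Bool.rec (fun _ => ℕ) (@Bool.rec (fun _ => ℕ) (@Bool.rec (fun _ => ℕ) cb1368 cb1369 (Nat.ble (nat_lit 1369) i)) (@Bool.rec (fun _ => ℕ) cb1370 cb1371 (Nat.ble (nat_lit 1371) i)) (Nat.ble (nat_lit 1370) i)) (@Bool.rec (fun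 _ => ℕ) (@Bool.rec (fun _ => ℕ) cb1372 cb1373 (Nat.ble (nat_lit 1373) i)) (@Bool.rec (fun _ => ℕ) cb1374 cb1375 (Nat.ble (nat_lit 1375) i)) (Nat.ble (nat_lit 1374) i)) (Nat.ble (nat_lit 1372) i)) (Nat.ble (nat_lit 1368) i)) (Nat.ble (nat_lit 1360) i))

def certBlk_n0_43 (i : ℕ) : ℕ := (@Bool.rec (fun _ => ℕ) (@Bool.rec (fun _ => ℕ) (@Bool.rec (fun _ => ℕ) (@Bool.rec (fun _ => ℕ) cb1376 cb1377 (Nat.ble (nat_lit 1377) i)) (@Bool.rec (fun _ => ℕ) cb1378 cb1379 (Nat.ble (nat_lit 1379) i)) (Nat.ble (nat_lit 1378) i)) (@Bool.rec (fun _ => ℕ) (@Bool.rec (fun _ => ℕ) cb1380 cb1381 (Nat.ble (nat_lit 1381) i)) (@Bool.rec (fun _ => ℕ) cb1382 cb1383 (Nat.ble (nat_lit 1383) i)) (Nat.ble (nat_lit 1382) i)) (Nat.ble (nat_lit 1380) i)) (@Bool.rec (fun _ => ℕ) (@Bool.rec (fun _ => ℕ) (@Bool.rec (fun _ => ℕ) cb1384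 cb1385 (Nat.ble (nat_lit 1385) i)) (@Bool.rec (fun _ => ℕ) cb1386 cb1387 (Nat.ble (nat_lit 1387) i)) (Nat.ble (nat_lit 1386) i)) (@Bool.rec (fun _ => ℕ) (@Bool.rec (fun _ => ℕ) cb1388 cb1389 (Nat.ble (nat_lit 1389) i)) (@Bool.rec (fun _ => ℕ) cb1390 cb1391 (Nat.ble (nat_lit 1391) i)) (Nat.ble (nat_lit 1390) i)) (Nat.ble (nat_lit 1388) i)) (Nat.ble (nat_lit 1384) i))

def certBlk_n1_0 (i : ℕ) : ℕ := (@Bool.rec (fun _ => ℕ) (@Bool.rec (fun _ => ℕ) (@Bool.rec (fun _ => ℕ) (@Bool.rec (fun _ => ℕ) (@Bool.rec (fun _ => ℕ) (certBlk_n0_0 i) (certBlk_n0_1 i) (Nat.ble (nat_lit 32) i)) (@Bool.rec (fun _ => ℕ) (certBlk_n0_2 i) (certBlk_n0_3 i) (Nat.ble (nat_lit 96) i)) (Nat.ble (nat_lit 64) i)) (@Bool.rec (fun _ => ℕ) (@Bool.rec (fun _ => ℕ) (certBlk_n0_4 i) (certBlk_n0_5 i) (Nat.ble (nat_lit 160) i)) (@Bool.rec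 (fun _ => ℕ) (certBlk_n0_6 i) (certBlk_n0_7 i) (Nat.ble (nat_lit 224) i)) (Nat.ble (nat_lit 192) i)) (Nat.ble (nat_lit 128) i)) (@Bool.rec (fun _ => ℕ) (@Bool.rec (fun _ => ℕ) (@Bool.rec (fun _ => ℕ) (certBlk_n0_8 i) (certBlk_n0_9 i) (Nat.ble (nat_lit 288) i)) (@Bool.rec (fun _ => ℕ) (certBlk_n0_10 i) (certBlk_n0_11 i) (Nat.ble (nat_lit 352) i)) (Nat.ble (nat_lit 320) i)) (@Bool.rec (fun _ => ℕ) (@Bool.rec (fun _ => ℕ) (certBlk_n0_12 i) (certBlk_n0_13 i) (Nat.ble (nat_lit 416) i)) (@Bool.rec (fun _ => ℕ) (certBlk_n0_14 i) (certBlk_n0_15 i) (Nat.ble (nat_lit 480) i)) (Nat.ble (nat_lit 448) i)) (Nat.ble (nat_lit 384) i)) (Nat.ble (nat_lit 256) i)) (@Bool.rec (fun _ => ℕ) (@Bool.rec (fun _ => ℕ) (@Bool.rec (fun _ => ℕ) (@Bool.rec (fun _ => ℕ) (certBlk_n0_16 i) (certBlk_n0_17 i) (Nat.ble (nat_lit 544)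 i)) (@Bool.rec (fun _ => ℕ) (certBlk_n0_18 i) (certBlk_n0_19 i) (Nat.ble (nat_lit 608) i)) (Nat.ble (nat_lit 576) i)) (@Bool.rec (fun _ => ℕ) (@Bool.rec (fun _ => ℕ) (certBlk_n0_20 i) (certBlk_n0_21 i) (Nat.ble (nat_lit 672) i)) (@Bool.rec (fun _ => ℕ) (certBlk_n0_22 i) (certBlk_n0_23 i) (Nat.ble (nat_lit 736) i)) (Nat.ble (nat_lit 704) i)) (Nat.ble (nat_lit 640) i)) (@Bool.rec (fun _ => ℕ) (@Bool.rec (fun _ => ℕ) (@Bool.rec (fun _ => ℕ) (certBlk_n0_24 i) (certBlk_n0_25 i) (Nat.ble (nat_lit 800) i)) (@Bool.rec (fun _ => ℕ) (certBlk_n0_26 i) (certBlk_n0_27 i) (Nat.ble (nat_lit 864) i)) (Nat.ble (nat_lit 832) i)) (@Bool.rec (fun _ => ℕ) (@Bool.rec (fun _ => ℕ) (certBlk_n0_28 i) (certBlk_n0_29 i) (Nat.ble (nat_lit 928) i)) (@Bool.rec (fun _ => ℕ) (certBlk_n0_30 i) (certBlk_n0_31 i) (Nat.ble (nat_lit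 992) i)) (Nat.ble (nat_lit 960) i)) (Nat.ble (nat_lit 896) i)) (Nat.ble (nat_lit 768) i)) (Nat.ble (nat_lit 512) i))

def certBlk_n1_1 (i : ℕ) : ℕ := (@Bool.rec (fun _ => ℕ) (@Bool.rec (fun _ => ℕ) (@Bool.rec (fun _ => ℕ) (certBlk_n0_32 i) (@Bool.rec (fun _ => ℕ) (certBlk_n0_33 i) (certBlk_n0_34 i) (Nat.ble (nat_lit 1088) i)) (Nat.ble (nat_lit 1056) i)) (@Bool.rec (fun _ => ℕ) (certBlk_n0_35 i) (@Bool.rec (fun _ => ℕ) (certBlk_n0_36 i) (certBlk_n0_37 i) (Nat.ble (nat_lit 1184) i)) (Nat.ble (nat_lit 1152) i)) (Nat.ble (nat_lit 1120) i)) (@Bool.rec (fun _ => ℕ) (@Bool.rec (fun _ => ℕ) (certBlk_n0_38 i) (@Bool.rec (fun _ => ℕ) (certBlk_n0_39 i) (certBlk_n0_40 i) (Nat.ble (nat_lit 1280) i)) (Nat.ble (nat_lit 1248) i)) (@Bool.rec (fun _ => ℕ) (certBlk_n0_41 i) (@Bool.rec (fun _ => ℕ) (certBlk_n0_42 i)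 (certBlk_n0_43 i) (Nat.ble (nat_lit 1376) i)) (Nat.ble (nat_lit 1344) i)) (Nat.ble (nat_lit 1312) i)) (Nat.ble (nat_lit 1216) i))

def certBlk (i : ℕ) : ℕ := (@Bool.rec (fun _ => ℕ) (certBlk_n1_0 i) (certBlk_n1_1 i) (Nat.ble (nat_lit 1024) i))

def parBlk_n0_0 (i : ℕ) : ℕ := (@Bool.rec (fun _ => ℕ) (@Bool.rec (fun _ => ℕ) (@Bool.rec (fun _ => ℕ) (@Bool.rec (fun _ => ℕ) (@Bool.rec (fun _ => ℕ) pb0 pb1 (Nat.ble (nat_lit 1) i)) (@Bool.rec (fun _ => ℕ) pb2 pb3 (Nat.ble (nat_lit 3) i)) (Nat.ble (nat_lit 2) i)) (@Bool.rec (fun _ => ℕ) (@Bool.rec (fun _ => ℕ) pb4 pb5 (Nat.ble (nat_lit 5) i)) (@Bool.rec (fun _ => ℕ) pb6 pb7 (Nat.ble (nat_lit 7) i)) (Nat.ble (nat_lit 6) i)) (Nat.ble (nat_lit 4) i)) (@Bool.rec (fun _ => ℕ) (@Bool.rec (fun _ => ℕ) (@Bool.rec (fun _ => ℕ) pb8 pb9 (Nat.ble (nat_lit 9) i)) (@Bool.rec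 (fun _ => ℕ) pb10 pb11 (Nat.ble (nat_lit 11) i)) (Nat.ble (nat_lit 10) i)) (@Bool.rec (fun _ => ℕ) (@Bool.rec (fun _ => ℕ) pb12 pb13 (Nat.ble (nat_lit 13) i)) (@Bool.rec (fun _ => ℕ) pb14 pb15 (Nat.ble (nat_lit 15) i)) (Nat.ble (nat_lit 14) i)) (Nat.ble (nat_lit 12) i)) (Nat.ble (nat_lit 8) i)) (@Bool.rec (fun _ => ℕ) (@Bool.rec (fun _ => ℕ) (@Bool.rec (fun _ => ℕ) (@Bool.rec (fun _ => ℕ) pb16 pb17 (Nat.ble (nat_lit 17) i)) (@Bool.rec (fun _ => ℕ) pb18 pb19 (Nat.ble (nat_lit 19) i)) (Nat.ble (nat_lit 18) i)) (@Bool.rec (fun _ => ℕ) (@Bool.rec (fun _ => ℕ) pb20 pb21 (Nat.ble (nat_lit 21) i)) (@Bool.rec (fun _ => ℕ) pb22 pb23 (Nat.ble (nat_lit 23) i)) (Nat.ble (nat_lit 22) i)) (Nat.ble (nat_lit 20) i)) (@Bool.rec (fun _ => ℕ) (@Bool.rec (fun _ => ℕ) (@Bool.rec (fun _ => ℕ) pb24 pb25 (Nat.ble (nat_lit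 25) i)) (@Bool.rec (fun _ => ℕ) pb26 pb27 (Nat.ble (nat_lit 27) i)) (Nat.ble (nat_lit 26) i)) (@Bool.rec (fun _ => ℕ) (@Bool.rec (fun _ => ℕ) pb28 pb29 (Nat.ble (nat_lit 29) i)) (@Bool.rec (fun _ => ℕ) pb30 pb31 (Nat.ble (nat_lit 31) i)) (Nat.ble (nat_lit 30) i)) (Nat.ble (nat_lit 28) i)) (Nat.ble (nat_lit 24) i)) (Nat.ble (nat_lit 16) i))

def parBlk_n0_1 (i : ℕ) : ℕ := (@Bool.rec (fun _ => ℕ) (@Bool.rec (fun _ => ℕ) (@Bool.rec (fun _ => ℕ) (@Bool.rec (fun _ => ℕ) (@Bool.rec (fun _ => ℕ) pb32 pb33 (Nat.ble (nat_lit 33) i)) (@Bool.rec (fun _ => ℕ) pb34 pb35 (Nat.ble (nat_lit 35) i)) (Nat.ble (nat_lit 34) i)) (@Bool.rec (fun _ => ℕ) (@Bool.rec (fun _ => ℕ) pb36 pb37 (Nat.ble (nat_lit 37) i)) (@Bool.rec (fun _ => ℕ) pb38 pb39 (Nat.ble (nat_lit 39) i)) (Nat.ble (nat_lit 38) i)) (Nat.ble (nat_lit 36)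 i)) (@Bool.rec (fun _ => ℕ) (@Bool.rec (fun _ => ℕ) (@Bool.rec (fun _ => ℕ) pb40 pb41 (Nat.ble (nat_lit 41) i)) (@Bool.rec (fun _ => ℕ) pb42 pb43 (Nat.ble (nat_lit 43) i)) (Nat.ble (nat_lit 42) i)) (@Bool.rec (fun _ => ℕ) (@Bool.rec (fun _ => ℕ) pb44 pb45 (Nat.ble (nat_lit 45) i)) (@Bool.rec (fun _ => ℕ) pb46 pb47 (Nat.ble (nat_lit 47) i)) (Nat.ble (nat_lit 46) i)) (Nat.ble (nat_lit 44) i)) (Nat.ble (nat_lit 40) i)) (@Bool.rec (fun _ => ℕ) (@Bool.rec (fun _ => ℕ) (@Bool.rec (fun _ => ℕ) (@Bool.rec (fun _ => ℕ) pb48 pb49 (Nat.ble (nat_lit 49) i)) (@Bool.rec (fun _ => ℕ) pb50 pb51 (Nat.ble (nat_lit 51) i)) (Nat.ble (nat_lit 50) i)) (@Bool.rec (fun _ => ℕ) (@Bool.rec (fun _ => ℕ) pb52 pb53 (Nat.ble (nat_lit 53) i)) (@Bool.rec (fun _ => ℕ) pb54 pb55 (Nat.ble (nat_lit 55) i)) (Nat.ble (nat_lit 54) i))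 (Nat.ble (nat_lit 52) i)) (@Bool.rec (fun _ => ℕ) (@Bool.rec (fun _ => ℕ) (@Bool.rec (fun _ => ℕ) pb56 pb57 (Nat.ble (nat_lit 57) i)) (@Bool.rec (fun _ => ℕ) pb58 pb59 (Nat.ble (nat_lit 59) i)) (Nat.ble (nat_lit 58) i)) (@Bool.rec (fun _ => ℕ) (@Bool.rec (fun _ => ℕ) pb60 pb61 (Nat.ble (nat_lit 61) i)) (@Bool.rec (fun _ => ℕ) pb62 pb63 (Nat.ble (nat_lit 63) i)) (Nat.ble (nat_lit 62) i)) (Nat.ble (nat_lit 60) i)) (Nat.ble (nat_lit 56) i)) (Nat.ble (nat_lit 48) i))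

def parBlk_n0_2 (i : ℕ) : ℕ := (@Bool.rec (fun _ => ℕ) (@Bool.rec (fun _ => ℕ) (@Bool.rec (fun _ => ℕ) (@Bool.rec (fun _ => ℕ) (@Bool.rec (fun _ => ℕ) pb64 pb65 (Nat.ble (nat_lit 65) i)) (@Bool.rec (fun _ => ℕ) pb66 pb67 (Nat.ble (nat_lit 67) i)) (Nat.ble (nat_lit 66) i)) (@Bool.rec (fun _ => ℕ) (@Bool.rec (fun _ => ℕ) pb68 pb69 (Nat.ble (nat_lit 69) i)) (@Bool.rec (fun _ => ℕ) pb70 pb71 (Nat.ble (nat_lit 71) i)) (Nat.ble (nat_lit 70) i)) (Nat.ble (nat_lit 68) i)) (@Bool.rec (fun _ => ℕ) (@Bool.rec (fun _ => ℕ) (@Bool.rec (fun _ => ℕ) pb72 pb73 (Nat.ble (nat_lit 73) i)) (@Bool.rec (fun _ => ℕ) pb74 pb75 (Nat.ble (nat_lit 75) i)) (Nat.ble (nat_lit 74) i)) (@Bool.rec (fun _ => ℕ) (@Bool.rec (fun _ => ℕ) pb76 pb77 (Nat.ble (nat_lit 77) i)) (@Bool.rec (fun _ => ℕ) pb78 pb79 (Nat.ble (nat_lit 79) i))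 (Nat.ble (nat_lit 78) i)) (Nat.ble (nat_lit 76) i)) (Nat.ble (nat_lit 72) i)) (@Bool.rec (fun _ => ℕ) (@Bool.rec (fun _ => ℕ) (@Bool.rec (fun _ => ℕ) (@Bool.rec (fun _ => ℕ) pb80 pb81 (Nat.ble (nat_lit 81) i)) (@Bool.rec (fun _ => ℕ) pb82 pb83 (Nat.ble (nat_lit 83) i)) (Nat.ble (nat_lit 82) i)) (@Bool.rec (fun _ => ℕ) (@Bool.rec (fun _ => ℕ) pb84 pb85 (Nat.ble (nat_lit 85) i)) (@Bool.rec (fun _ => ℕ) pb86 pb87 (Nat.ble (nat_lit 87) i)) (Nat.ble (nat_lit 86) i)) (Nat.ble (nat_lit 84) i)) (@Bool.rec (fun _ => ℕ) (@Bool.rec (fun _ => ℕ) (@Bool.rec (fun _ => ℕ) pb88 pb89 (Nat.ble (nat_lit 89) i)) (@Bool.rec (fun _ => ℕ) pb90 pb91 (Nat.ble (nat_lit 91) i)) (Nat.ble (nat_lit 90) i)) (@Bool.rec (fun _ => ℕ) (@Bool.rec (fun _ => ℕ) pb92 pb93 (Nat.ble (nat_lit 93) i)) (@Bool.rec (fun _ => ℕ) pb94 pb95 (Nat.ble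 (nat_lit 95) i)) (Nat.ble (nat_lit 94) i)) (Nat.ble (nat_lit 92) i)) (Nat.ble (nat_lit 88) i)) (Nat.ble (nat_lit 80) i))

def parBlk_n0_3 (i : ℕ) : ℕ := (@Bool.rec (fun _ => ℕ) (@Bool.rec (fun _ => ℕ) (@Bool.rec (fun _ => ℕ) (@Bool.rec (fun _ => ℕ) (@Bool.rec (fun _ => ℕ) pb96 pb97 (Nat.ble (nat_lit 97) i)) (@Bool.rec (fun _ => ℕ) pb98 pb99 (Nat.ble (nat_lit 99) i)) (Nat.ble (nat_lit 98) i)) (@Bool.rec (fun _ => ℕ) (@Bool.rec (fun _ => ℕ) pb100 pb101 (Nat.ble (nat_lit 101) i)) (@Bool.rec (fun _ => ℕ) pb102 pb103 (Nat.ble (nat_lit 103) i)) (Nat.ble (nat_lit 102) i)) (Nat.ble (nat_lit 100) i)) (@Bool.rec (fun _ => ℕ) (@Bool.rec (fun _ => ℕ) (@Bool.rec (fun _ => ℕ) pb104 pb105 (Nat.ble (nat_lit 105) i)) (@Bool.rec (fun _ => ℕ) pb106 pb107 (Nat.ble (nat_lit 107) i)) (Nat.ble (nat_lit 106) i)) (@Bool.rec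 (fun _ => ℕ) (@Bool.rec (fun _ => ℕ) pb108 pb109 (Nat.ble (nat_lit 109) i)) (@Bool.rec (fun _ => ℕ) pb110 pb111 (Nat.ble (nat_lit 111) i)) (Nat.ble (nat_lit 110) i)) (Nat.ble (nat_lit 108) i)) (Nat.ble (nat_lit 104) i)) (@Bool.rec (fun _ => ℕ) (@Bool.rec (fun _ => ℕ) (@Bool.rec (fun _ => ℕ) (@Bool.rec (fun _ => ℕ) pb112 pb113 (Nat.ble (nat_lit 113) i)) (@Bool.rec (fun _ => ℕ) pb114 pb115 (Nat.ble (nat_lit 115) i)) (Nat.ble (nat_lit 114) i)) (@Bool.rec (fun _ => ℕ) (@Bool.rec (fun _ => ℕ) pb116 pb117 (Nat.ble (nat_lit 117) i)) (@Bool.rec (fun _ => ℕ) pb118 pb119 (Nat.ble (nat_lit 119) i)) (Nat.ble (nat_lit 118) i)) (Nat.ble (nat_lit 116) i)) (@Bool.rec (fun _ => ℕ) (@Bool.rec (fun _ => ℕ) (@Bool.rec (fun _ => ℕ) pb120 pb121 (Nat.ble (nat_lit 121) i)) (@Bool.rec (fun _ => ℕ) pb122 pb123 (Nat.ble (nat_lit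 123) i)) (Nat.ble (nat_lit 122) i)) (@Bool.rec (fun _ => ℕ) (@Bool.rec (fun _ => ℕ) pb124 pb125 (Nat.ble (nat_lit 125) i)) (@Bool.rec (fun _ => ℕ) pb126 pb127 (Nat.ble (nat_lit 127) i)) (Nat.ble (nat_lit 126) i)) (Nat.ble (nat_lit 124) i)) (Nat.ble (nat_lit 120) i)) (Nat.ble (nat_lit 112) i))

def parBlk_n0_4 (i : ℕ) : ℕ := (@Bool.rec (fun _ => ℕ) (@Bool.rec (fun _ => ℕ) (@Bool.rec (fun _ => ℕ) (@Bool.rec (fun _ => ℕ) (@Bool.rec (fun _ => ℕ) pb128 pb129 (Nat.ble (nat_lit 129) i)) (@Bool.rec (fun _ => ℕ) pb130 pb131 (Nat.ble (nat_lit 131) i)) (Nat.ble (nat_lit 130) i)) (@Bool.rec (fun _ => ℕ) (@Bool.rec (fun _ => ℕ) pb132 pb133 (Nat.ble (nat_lit 133) i)) (@Bool.rec (fun _ => ℕ) pb134 pb135 (Nat.ble (nat_lit 135) i)) (Nat.ble (nat_lit 134) i)) (Nat.ble (nat_lit 132) i)) (@Bool.rec (fun _ => ℕ) (@Bool.rec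 (fun _ => ℕ) (@Bool.rec (fun _ => ℕ) pb136 pb137 (Nat.ble (nat_lit 137) i)) (@Bool.rec (fun _ => ℕ) pb138 pb139 (Nat.ble (nat_lit 139) i)) (Nat.ble (nat_lit 138) i)) (@Bool.rec (fun _ => ℕ) (@Bool.rec (fun _ => ℕ) pb140 pb141 (Nat.ble (nat_lit 141) i)) (@Bool.rec (fun _ => ℕ) pb142 pb143 (Nat.ble (nat_lit 143) i)) (Nat.ble (nat_lit 142) i)) (Nat.ble (nat_lit 140) i)) (Nat.ble (nat_lit 136) i)) (@Bool.rec (fun _ => ℕ) (@Bool.rec (fun _ => ℕ) (@Bool.rec (fun _ => ℕ) (@Bool.rec (fun _ => ℕ) pb144 pb145 (Nat.ble (nat_lit 145) i)) (@Bool.rec (fun _ => ℕ) pb146 pb147 (Nat.ble (nat_lit 147) i)) (Nat.ble (nat_lit 146) i)) (@Bool.rec (fun _ => ℕ) (@Bool.rec (fun _ => ℕ) pb148 pb149 (Nat.ble (nat_lit 149) i)) (@Bool.rec (fun _ => ℕ) pb150 pb151 (Nat.ble (nat_lit 151) i)) (Nat.ble (nat_lit 150) i)) (Nat.ble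 (nat_lit 148) i)) (@Bool.rec (fun _ => ℕ) (@Bool.rec (fun _ => ℕ) (@Bool.rec (fun _ => ℕ) pb152 pb153 (Nat.ble (nat_lit 153) i)) (@Bool.rec (fun _ => ℕ) pb154 pb155 (Nat.ble (nat_lit 155) i)) (Nat.ble (nat_lit 154) i)) (@Bool.rec (fun _ => ℕ) (@Bool.rec (fun _ => ℕ) pb156 pb157 (Nat.ble (nat_lit 157) i)) (@Bool.rec (fun _ => ℕ) pb158 pb159 (Nat.ble (nat_lit 159) i)) (Nat.ble (nat_lit 158) i)) (Nat.ble (nat_lit 156) i)) (Nat.ble (nat_lit 152) i)) (Nat.ble (nat_lit 144) i))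

def parBlk_n0_5 (i : ℕ) : ℕ := (@Bool.rec (fun _ => ℕ) (@Bool.rec (fun _ => ℕ) (@Bool.rec (fun _ => ℕ) (@Bool.rec (fun _ => ℕ) (@Bool.rec (fun _ => ℕ) pb160 pb161 (Nat.ble (nat_lit 161) i)) (@Bool.rec (fun _ => ℕ) pb162 pb163 (Nat.ble (nat_lit 163) i)) (Nat.ble (nat_lit 162) i)) (@Bool.rec (fun _ => ℕ) (@Bool.rec (fun _ => ℕ) pb164 pb165 (Nat.ble (nat_lit 165) i)) (@Bool.rec (fun _ => ℕ) pb166 pb167 (Nat.ble (nat_lit 167) i)) (Nat.ble (nat_lit 166) i)) (Nat.ble (nat_lit 164) i)) (@Bool.rec (fun _ => ℕ) (@Bool.rec (fun _ => ℕ) (@Bool.rec (fun _ => ℕ) pb168 pb169 (Nat.ble (nat_lit 169) i)) (@Bool.rec (fun _ => ℕ) pb170 pb171 (Nat.ble (nat_lit 171) i)) (Nat.ble (nat_lit 170) i)) (@Bool.rec (fun _ => ℕ) (@Bool.rec (fun _ => ℕ) pb172 pb173 (Nat.ble (nat_lit 173) i)) (@Bool.rec (fun _ => ℕ) pb174 pb175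 (Nat.ble (nat_lit 175) i)) (Nat.ble (nat_lit 174) i)) (Nat.ble (nat_lit 172) i)) (Nat.ble (nat_lit 168) i)) (@Bool.rec (fun _ => ℕ) (@Bool.rec (fun _ => ℕ) (@Bool.rec (fun _ => ℕ) (@Bool.rec (fun _ => ℕ) pb176 pb177 (Nat.ble (nat_lit 177) i)) (@Bool.rec (fun _ => ℕ) pb178 pb179 (Nat.ble (nat_lit 179) i)) (Nat.ble (nat_lit 178) i)) (@Bool.rec (fun _ => ℕ) (@Bool.rec (fun _ => ℕ) pb180 pb181 (Nat.ble (nat_lit 181) i)) (@Bool.rec (fun _ => ℕ) pb182 pb183 (Nat.ble (nat_lit 183) i)) (Nat.ble (nat_lit 182) i)) (Nat.ble (nat_lit 180) i)) (@Bool.rec (fun _ => ℕ) (@Bool.rec (fun _ => ℕ) (@Bool.rec (fun _ => ℕ) pb184 pb185 (Nat.ble (nat_lit 185) i)) (@Bool.rec (fun _ => ℕ) pb186 pb187 (Nat.ble (nat_lit 187) i)) (Nat.ble (nat_lit 186) i)) (@Bool.rec (fun _ => ℕ) (@Bool.rec (fun _ => ℕ) pb188 pb189 (Nat.ble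 (nat_lit 189) i)) (@Bool.rec (fun _ => ℕ) pb190 pb191 (Nat.ble (nat_lit 191) i)) (Nat.ble (nat_lit 190) i)) (Nat.ble (nat_lit 188) i)) (Nat.ble (nat_lit 184) i)) (Nat.ble (nat_lit 176) i))

def parBlk_n0_6 (i : ℕ) : ℕ := (@Bool.rec (fun _ => ℕ) (@Bool.rec (fun _ => ℕ) (@Bool.rec (fun _ => ℕ) (@Bool.rec (fun _ => ℕ) (@Bool.rec (fun _ => ℕ) pb192 pb193 (Nat.ble (nat_lit 193) i)) (@Bool.rec (fun _ => ℕ) pb194 pb195 (Nat.ble (nat_lit 195) i)) (Nat.ble (nat_lit 194) i)) (@Bool.rec (fun _ => ℕ) (@Bool.rec (fun _ => ℕ) pb196 pb197 (Nat.ble (nat_lit 197) i)) (@Bool.rec (fun _ => ℕ) pb198 pb199 (Nat.ble (nat_lit 199) i)) (Nat.ble (nat_lit 198) i)) (Nat.ble (nat_lit 196) i)) (@Bool.rec (fun _ => ℕ) (@Bool.rec (fun _ => ℕ) (@Bool.rec (fun _ => ℕ) pb200 pb201 (Nat.ble (nat_lit 201) i)) (@Bool.rec (fun _ => ℕ)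 pb202 pb203 (Nat.ble (nat_lit 203) i)) (Nat.ble (nat_lit 202) i)) (@Bool.rec (fun _ => ℕ) (@Bool.rec (fun _ => ℕ) pb204 pb205 (Nat.ble (nat_lit 205) i)) (@Bool.rec (fun _ => ℕ) pb206 pb207 (Nat.ble (nat_lit 207) i)) (Nat.ble (nat_lit 206) i)) (Nat.ble (nat_lit 204) i)) (Nat.ble (nat_lit 200) i)) (@Bool.rec (fun _ => ℕ) (@Bool.rec (fun _ => ℕ) (@Bool.rec (fun _ => ℕ) (@Bool.rec (fun _ => ℕ) pb208 pb209 (Nat.ble (nat_lit 209) i)) (@Bool.rec (fun _ => ℕ) pb210 pb211 (Nat.ble (nat_lit 211) i)) (Nat.ble (nat_lit 210) i)) (@Bool.rec (fun _ => ℕ) (@Bool.rec (fun _ => ℕ) pb212 pb213 (Nat.ble (nat_lit 213) i)) (@Bool.rec (fun _ => ℕ) pb214 pb215 (Nat.ble (nat_lit 215) i)) (Nat.ble (nat_lit 214) i)) (Nat.ble (nat_lit 212) i)) (@Bool.rec (fun _ => ℕ) (@Bool.rec (fun _ => ℕ) (@Bool.rec (fun _ => ℕ) pb216 pb217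 (Nat.ble (nat_lit 217) i)) (@Bool.rec (fun _ => ℕ) pb218 pb219 (Nat.ble (nat_lit 219) i)) (Nat.ble (nat_lit 218) i)) (@Bool.rec (fun _ => ℕ) (@Bool.rec (fun _ => ℕ) pb220 pb221 (Nat.ble (nat_lit 221) i)) (@Bool.rec (fun _ => ℕ) pb222 pb223 (Nat.ble (nat_lit 223) i)) (Nat.ble (nat_lit 222) i)) (Nat.ble (nat_lit 220) i)) (Nat.ble (nat_lit 216) i)) (Nat.ble (nat_lit 208) i))

def parBlk_n0_7 (i : ℕ) : ℕ := (@Bool.rec (fun _ => ℕ) (@Bool.rec (fun _ => ℕ) (@Bool.rec (fun _ => ℕ) (@Bool.rec (fun _ => ℕ) (@Bool.rec (fun _ => ℕ) pb224 pb225 (Nat.ble (nat_lit 225) i)) (@Bool.rec (fun _ => ℕ) pb226 pb227 (Nat.ble (nat_lit 227) i)) (Nat.ble (nat_lit 226) i)) (@Bool.rec (fun _ => ℕ) (@Bool.rec (fun _ => ℕ) pb228 pb229 (Nat.ble (nat_lit 229) i)) (@Bool.rec (fun _ => ℕ) pb230 pb231 (Nat.ble (nat_lit 231) i)) (Nat.ble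 (nat_lit 230) i)) (Nat.ble (nat_lit 228) i)) (@Bool.rec (fun _ => ℕ) (@Bool.rec (fun _ => ℕ) (@Bool.rec (fun _ => ℕ) pb232 pb233 (Nat.ble (nat_lit 233) i)) (@Bool.rec (fun _ => ℕ) pb234 pb235 (Nat.ble (nat_lit 235) i)) (Nat.ble (nat_lit 234) i)) (@Bool.rec (fun _ => ℕ) (@Bool.rec (fun _ => ℕ) pb236 pb237 (Nat.ble (nat_lit 237) i)) (@Bool.rec (fun _ => ℕ) pb238 pb239 (Nat.ble (nat_lit 239) i)) (Nat.ble (nat_lit 238) i)) (Nat.ble (nat_lit 236) i)) (Nat.ble (nat_lit 232) i)) (@Bool.rec (fun _ => ℕ) (@Bool.rec (fun _ => ℕ) (@Bool.rec (fun _ => ℕ) (@Bool.rec (fun _ => ℕ) pb240 pb241 (Nat.ble (nat_lit 241) i)) (@Bool.rec (fun _ => ℕ) pb242 pb243 (Nat.ble (nat_lit 243) i)) (Nat.ble (nat_lit 242) i)) (@Bool.rec (fun _ => ℕ) (@Bool.rec (fun _ => ℕ) pb244 pb245 (Nat.ble (nat_lit 245) i)) (@Bool.rec (fun _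 => ℕ) pb246 pb247 (Nat.ble (nat_lit 247) i)) (Nat.ble (nat_lit 246) i)) (Nat.ble (nat_lit 244) i)) (@Bool.rec (fun _ => ℕ) (@Bool.rec (fun _ => ℕ) (@Bool.rec (fun _ => ℕ) pb248 pb249 (Nat.ble (nat_lit 249) i)) (@Bool.rec (fun _ => ℕ) pb250 pb251 (Nat.ble (nat_lit 251) i)) (Nat.ble (nat_lit 250) i)) (@Bool.rec (fun _ => ℕ) (@Bool.rec (fun _ => ℕ) pb252 pb253 (Nat.ble (nat_lit 253) i)) (@Bool.rec (fun _ => ℕ) pb254 pb255 (Nat.ble (nat_lit 255) i)) (Nat.ble (nat_lit 254) i)) (Nat.ble (nat_lit 252) i)) (Nat.ble (nat_lit 248) i)) (Nat.ble (nat_lit 240) i))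

def parBlk_n0_8 (i : ℕ) : ℕ := (@Bool.rec (fun _ => ℕ) (@Bool.rec (fun _ => ℕ) (@Bool.rec (fun _ => ℕ) (@Bool.rec (fun _ => ℕ) (@Bool.rec (fun _ => ℕ) pb256 pb257 (Nat.ble (nat_lit 257) i)) (@Bool.rec (fun _ => ℕ) pb258 pb259 (Nat.ble (nat_lit 259) i)) (Nat.ble (nat_lit 258) i)) (@Bool.rec (fun _ => ℕ) (@Bool.rec (fun _ => ℕ) pb260 pb261 (Nat.ble (nat_lit 261) i)) (@Bool.rec (fun _ => ℕ) pb262 pb263 (Nat.ble (nat_lit 263) i)) (Nat.ble (nat_lit 262) i)) (Nat.ble (nat_lit 260) i)) (@Bool.rec (fun _ => ℕ) (@Bool.rec (fun _ => ℕ) (@Bool.rec (fun _ => ℕ) pb264 pb265 (Nat.ble (nat_lit 265) i)) (@Bool.rec (fun _ => ℕ) pb266 pb267 (Nat.ble (nat_lit 267) i)) (Nat.ble (nat_lit 266) i)) (@Bool.rec (fun _ => ℕ) (@Bool.rec (fun _ => ℕ) pb268 pb269 (Nat.ble (nat_lit 269) i)) (@Bool.rec (fun _ => ℕ) pb270 pb271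 (Nat.ble (nat_lit 271) i)) (Nat.ble (nat_lit 270) i)) (Nat.ble (nat_lit 268) i)) (Nat.ble (nat_lit 264) i)) (@Bool.rec (fun _ => ℕ) (@Bool.rec (fun _ => ℕ) (@Bool.rec (fun _ => ℕ) (@Bool.rec (fun _ => ℕ) pb272 pb273 (Nat.ble (nat_lit 273) i)) (@Bool.rec (fun _ => ℕ) pb274 pb275 (Nat.ble (nat_lit 275) i)) (Nat.ble (nat_lit 274) i)) (@Bool.rec (fun _ => ℕ) (@Bool.rec (fun _ => ℕ) pb276 pb277 (Nat.ble (nat_lit 277) i)) (@Bool.rec (fun _ => ℕ) pb278 pb279 (Nat.ble (nat_lit 279) i)) (Nat.ble (nat_lit 278) i)) (Nat.ble (nat_lit 276) i)) (@Bool.rec (fun _ => ℕ) (@Bool.rec (fun _ => ℕ) (@Bool.rec (fun _ => ℕ) pb280 pb281 (Nat.ble (nat_lit 281) i)) (@Bool.rec (fun _ => ℕ) pb282 pb283 (Nat.ble (nat_lit 283) i)) (Nat.ble (nat_lit 282) i)) (@Bool.rec (fun _ => ℕ) (@Bool.rec (fun _ => ℕ) pb284 pb285 (Nat.ble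 (nat_lit 285) i)) (@Bool.rec (fun _ => ℕ) pb286 pb287 (Nat.ble (nat_lit 287) i)) (Nat.ble (nat_lit 286) i)) (Nat.ble (nat_lit 284) i)) (Nat.ble (nat_lit 280) i)) (Nat.ble (nat_lit 272) i))

def parBlk_n0_9 (i : ℕ) : ℕ := (@Bool.rec (fun _ => ℕ) (@Bool.rec (fun _ => ℕ) (@Bool.rec (fun _ => ℕ) (@Bool.rec (fun _ => ℕ) (@Bool.rec (fun _ => ℕ) pb288 pb289 (Nat.ble (nat_lit 289) i)) (@Bool.rec (fun _ => ℕ) pb290 pb291 (Nat.ble (nat_lit 291) i)) (Nat.ble (nat_lit 290) i)) (@Bool.rec (fun _ => ℕ) (@Bool.rec (fun _ => ℕ) pb292 pb293 (Nat.ble (nat_lit 293) i)) (@Bool.rec (fun _ => ℕ) pb294 pb295 (Nat.ble (nat_lit 295) i)) (Nat.ble (nat_lit 294) i)) (Nat.ble (nat_lit 292) i)) (@Bool.rec (fun _ => ℕ) (@Bool.rec (fun _ => ℕ) (@Bool.rec (fun _ => ℕ) pb296 pb297 (Nat.ble (nat_lit 297) i)) (@Bool.rec (fun _ => ℕ)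 pb298 pb299 (Nat.ble (nat_lit 299) i)) (Nat.ble (nat_lit 298) i)) (@Bool.rec (fun _ => ℕ) (@Bool.rec (fun _ => ℕ) pb300 pb301 (Nat.ble (nat_lit 301) i)) (@Bool.rec (fun _ => ℕ) pb302 pb303 (Nat.ble (nat_lit 303) i)) (Nat.ble (nat_lit 302) i)) (Nat.ble (nat_lit 300) i)) (Nat.ble (nat_lit 296) i)) (@Bool.rec (fun _ => ℕ) (@Bool.rec (fun _ => ℕ) (@Bool.rec (fun _ => ℕ) (@Bool.rec (fun _ => ℕ) pb304 pb305 (Nat.ble (nat_lit 305) i)) (@Bool.rec (fun _ => ℕ) pb306 pb307 (Nat.ble (nat_lit 307) i)) (Nat.ble (nat_lit 306) i)) (@Bool.rec (fun _ => ℕ) (@Bool.rec (fun _ => ℕ) pb308 pb309 (Nat.ble (nat_lit 309) i)) (@Bool.rec (fun _ => ℕ) pb310 pb311 (Nat.ble (nat_lit 311) i)) (Nat.ble (nat_lit 310) i)) (Nat.ble (nat_lit 308) i)) (@Bool.rec (fun _ => ℕ) (@Bool.rec (fun _ => ℕ) (@Bool.rec (fun _ => ℕ) pb312 pb313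 (Nat.ble (nat_lit 313) i)) (@Bool.rec (fun _ => ℕ) pb314 pb315 (Nat.ble (nat_lit 315) i)) (Nat.ble (nat_lit 314) i)) (@Bool.rec (fun _ => ℕ) (@Bool.rec (fun _ => ℕ) pb316 pb317 (Nat.ble (nat_lit 317) i)) (@Bool.rec (fun _ => ℕ) pb318 pb319 (Nat.ble (nat_lit 319) i)) (Nat.ble (nat_lit 318) i)) (Nat.ble (nat_lit 316) i)) (Nat.ble (nat_lit 312) i)) (Nat.ble (nat_lit 304) i))

def parBlk_n0_10 (i : ℕ) : ℕ := (@Bool.rec (fun _ => ℕ) (@Bool.rec (fun _ => ℕ) (@Bool.rec (fun _ => ℕ) (@Bool.rec (fun _ => ℕ) (@Bool.rec (fun _ => ℕ) pb320 pb321 (Nat.ble (nat_lit 321) i)) (@Bool.rec (fun _ => ℕ) pb322 pb323 (Nat.ble (nat_lit 323) i)) (Nat.ble (nat_lit 322) i)) (@Bool.rec (fun _ => ℕ) (@Bool.rec (fun _ => ℕ) pb324 pb325 (Nat.ble (nat_lit 325) i)) (@Bool.rec (fun _ => ℕ) pb326 pb327 (Nat.ble (nat_lit 327) i))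 (Nat.ble (nat_lit 326) i)) (Nat.ble (nat_lit 324) i)) (@Bool.rec (fun _ => ℕ) (@Bool.rec (fun _ => ℕ) (@Bool.rec (fun _ => ℕ) pb328 pb329 (Nat.ble (nat_lit 329) i)) (@Bool.rec (fun _ => ℕ) pb330 pb331 (Nat.ble (nat_lit 331) i)) (Nat.ble (nat_lit 330) i)) (@Bool.rec (fun _ => ℕ) (@Bool.rec (fun _ => ℕ) pb332 pb333 (Nat.ble (nat_lit 333) i)) (@Bool.rec (fun _ => ℕ) pb334 pb335 (Nat.ble (nat_lit 335) i)) (Nat.ble (nat_lit 334) i)) (Nat.ble (nat_lit 332) i)) (Nat.ble (nat_lit 328) i)) (@Bool.rec (fun _ => ℕ) (@Bool.rec (fun _ => ℕ) (@Bool.rec (fun _ => ℕ) (@Bool.rec (fun _ => ℕ) pb336 pb337 (Nat.ble (nat_lit 337) i)) (@Bool.rec (fun _ => ℕ) pb338 pb339 (Nat.ble (nat_lit 339) i)) (Nat.ble (nat_lit 338) i)) (@Bool.rec (fun _ => ℕ) (@Bool.rec (fun _ => ℕ) pb340 pb341 (Nat.ble (nat_lit 341) i)) (@Bool.rec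 (fun _ => ℕ) pb342 pb343 (Nat.ble (nat_lit 343) i)) (Nat.ble (nat_lit 342) i)) (Nat.ble (nat_lit 340) i)) (@Bool.rec (fun _ => ℕ) (@Bool.rec (fun _ => ℕ) (@Bool.rec (fun _ => ℕ) pb344 pb345 (Nat.ble (nat_lit 345) i)) (@Bool.rec (fun _ => ℕ) pb346 pb347 (Nat.ble (nat_lit 347) i)) (Nat.ble (nat_lit 346) i)) (@Bool.rec (fun _ => ℕ) (@Bool.rec (fun _ => ℕ) pb348 pb349 (Nat.ble (nat_lit 349) i)) (@Bool.rec (fun _ => ℕ) pb350 pb351 (Nat.ble (nat_lit 351) i)) (Nat.ble (nat_lit 350) i)) (Nat.ble (nat_lit 348) i)) (Nat.ble (nat_lit 344) i)) (Nat.ble (nat_lit 336) i))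

def parBlk_n0_11 (i : ℕ) : ℕ := (@Bool.rec (fun _ => ℕ) (@Bool.rec (fun _ => ℕ) (@Bool.rec (fun _ => ℕ) (@Bool.rec (fun _ => ℕ) pb352 pb353 (Nat.ble (nat_lit 353) i)) (@Bool.rec (fun _ => ℕ) pb354 pb355 (Nat.ble (nat_lit 355) i)) (Nat.ble (nat_lit 354) i)) (@Bool.rec (fun _ => ℕ) (@Bool.rec (fun _ => ℕ) pb356 pb357 (Nat.ble (nat_lit 357) i)) (@Bool.rec (fun _ => ℕ) pb358 pb359 (Nat.ble (nat_lit 359) i)) (Nat.ble (nat_lit 358) i)) (Nat.ble (nat_lit 356) i)) (@Bool.rec (fun _ => ℕ) (@Bool.rec (fun _ => ℕ) (@Bool.rec (fun _ => ℕ) pb360 pb361 (Nat.ble (nat_lit 361) i)) (@Bool.rec (fun _ => ℕ) pb362 pb363 (Nat.ble (nat_lit 363) i)) (Nat.ble (nat_lit 362) i)) (@Bool.rec (fun _ => ℕ) (@Bool.rec (fun _ => ℕ) pb364 pb365 (Nat.ble (nat_lit 365) i)) (@Bool.rec (fun _ => ℕ) pb366 pb367 (Nat.ble (nat_lit 367)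 i)) (Nat.ble (nat_lit 366) i)) (Nat.ble (nat_lit 364) i)) (Nat.ble (nat_lit 360) i))

def parBlk (i : ℕ) : ℕ := (@Bool.rec (fun _ => ℕ) (@Bool.rec (fun _ => ℕ) (@Bool.rec (fun _ => ℕ) (parBlk_n0_0 i) (@Bool.rec (fun _ => ℕ) (parBlk_n0_1 i) (parBlk_n0_2 i) (Nat.ble (nat_lit 64) i)) (Nat.ble (nat_lit 32) i)) (@Bool.rec (fun _ => ℕ) (parBlk_n0_3 i) (@Bool.rec (fun _ => ℕ) (parBlk_n0_4 i) (parBlk_n0_5 i) (Nat.ble (nat_lit 160) i)) (Nat.ble (nat_lit 128) i)) (Nat.ble (nat_lit 96) i)) (@Bool.rec (fun _ => ℕ) (@Bool.rec (fun _ => ℕ) (parBlk_n0_6 i) (@Bool.rec (fun _ => ℕ) (parBlk_n0_7 i) (parBlk_n0_8 i) (Nat.ble (nat_lit 256) i)) (Nat.ble (nat_lit 224) i)) (@Bool.rec (fun _ => ℕ) (parBlk_n0_9 i) (@Bool.rec (fun _ => ℕ) (parBlk_n0_10 i) (parBlk_n0_11 i) (Nat.ble (nat_lit 352) i)) (Nat.ble (nat_lit 320) i))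 (Nat.ble (nat_lit 288) i)) (Nat.ble (nat_lit 192) i))

def finBlk (i : ℕ) : ℕ := (@Bool.rec (fun _ => ℕ) (@Bool.rec (fun _ => ℕ) (@Bool.rec (fun _ => ℕ) (@Bool.rec (fun _ => ℕ) nb0 nb1 (Nat.ble (nat_lit 1) i)) (@Bool.rec (fun _ => ℕ) nb2 (@Bool.rec (fun _ => ℕ) nb3 nb4 (Nat.ble (nat_lit 4) i)) (Nat.ble (nat_lit 3) i)) (Nat.ble (nat_lit 2) i)) (@Bool.rec (fun _ => ℕ) (@Bool.rec (fun _ => ℕ) nb5 (@Bool.rec (fun _ => ℕ) nb6 nb7 (Nat.ble (nat_lit 7) i)) (Nat.ble (nat_lit 6) i)) (@Bool.rec (fun _ => ℕ) nb8 (@Bool.rec (fun _ => ℕ) nb9 nb10 (Nat.ble (nat_lit 10) i)) (Nat.ble (nat_lit 9) i)) (Nat.ble (nat_lit 8) i)) (Nat.ble (nat_lit 5) i)) (@Bool.rec (fun _ => ℕ) (@Bool.rec (fun _ => ℕ) (@Bool.rec (fun _ => ℕ) nb11 (@Bool.rec (fun _ => ℕ) nb12 nb13 (Nat.ble (nat_lit 13) i)) (Nat.ble (nat_lit 12) i)) (@Bool.rec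 (fun _ => ℕ) nb14 (@Bool.rec (fun _ => ℕ) nb15 nb16 (Nat.ble (nat_lit 16) i)) (Nat.ble (nat_lit 15) i)) (Nat.ble (nat_lit 14) i)) (@Bool.rec (fun _ => ℕ) (@Bool.rec (fun _ => ℕ) nb17 (@Bool.rec (fun _ => ℕ) nb18 nb19 (Nat.ble (nat_lit 19) i)) (Nat.ble (nat_lit 18) i)) (@Bool.rec (fun _ => ℕ) nb20 (@Bool.rec (fun _ => ℕ) nb21 nb22 (Nat.ble (nat_lit 22) i)) (Nat.ble (nat_lit 21) i)) (Nat.ble (nat_lit 20) i)) (Nat.ble (nat_lit 17) i)) (Nat.ble (nat_lit 11) i))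

def rowBlk_n0_0 (i : ℕ) : ℕ := (@Bool.rec (fun _ => ℕ) (@Bool.rec (fun _ => ℕ) (@Bool.rec (fun _ => ℕ) (@Bool.rec (fun _ => ℕ) (@Bool.rec (fun _ => ℕ) rb0 rb1 (Nat.ble (nat_lit 1) i)) (@Bool.rec (fun _ => ℕ) rb2 rb3 (Nat.ble (nat_lit 3) i)) (Nat.ble (nat_lit 2) i)) (@Bool.rec (fun _ => ℕ) (@Bool.rec (fun _ => ℕ) rb4 rb5 (Nat.ble (nat_lit 5) i)) (@Bool.rec (fun _ => ℕ) rb6 rb7 (Nat.ble (nat_lit 7) i)) (Nat.ble (nat_lit 6) i)) (Nat.ble (nat_lit 4) i)) (@Bool.rec (fun _ => ℕ) (@Bool.rec (fun _ => ℕ) (@Bool.rec (fun _ => ℕ) rb8 rb9 (Nat.ble (nat_lit 9) i)) (@Bool.rec (fun _ => ℕ) rb10 rb11 (Nat.ble (nat_lit 11) i)) (Nat.ble (nat_lit 10) i)) (@Bool.rec (fun _ => ℕ) (@Bool.rec (fun _ => ℕ) rb12 rb13 (Nat.ble (nat_lit 13) i)) (@Bool.rec (fun _ => ℕ) rb14 rb15 (Nat.ble (nat_lit 15) i)) (Nat.ble (nat_lit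 14) i)) (Nat.ble (nat_lit 12) i)) (Nat.ble (nat_lit 8) i)) (@Bool.rec (fun _ => ℕ) (@Bool.rec (fun _ => ℕ) (@Bool.rec (fun _ => ℕ) (@Bool.rec (fun _ => ℕ) rb16 rb17 (Nat.ble (nat_lit 17) i)) (@Bool.rec (fun _ => ℕ) rb18 rb19 (Nat.ble (nat_lit 19) i)) (Nat.ble (nat_lit 18) i)) (@Bool.rec (fun _ => ℕ) (@Bool.rec (fun _ => ℕ) rb20 rb21 (Nat.ble (nat_lit 21) i)) (@Bool.rec (fun _ => ℕ) rb22 rb23 (Nat.ble (nat_lit 23) i)) (Nat.ble (nat_lit 22) i)) (Nat.ble (nat_lit 20) i)) (@Bool.rec (fun _ => ℕ) (@Bool.rec (fun _ => ℕ) (@Bool.rec (fun _ => ℕ) rb24 rb25 (Nat.ble (nat_lit 25) i)) (@Bool.rec (fun _ => ℕ) rb26 rb27 (Nat.ble (nat_lit 27) i)) (Nat.ble (nat_lit 26) i)) (@Bool.rec (fun _ => ℕ) (@Bool.rec (fun _ => ℕ) rb28 rb29 (Nat.ble (nat_lit 29) i)) (@Bool.rec (fun _ => ℕ) rb30 rb31 (Nat.ble (nat_lit 31)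 i)) (Nat.ble (nat_lit 30) i)) (Nat.ble (nat_lit 28) i)) (Nat.ble (nat_lit 24) i)) (Nat.ble (nat_lit 16) i))

def rowBlk_n0_1 (i : ℕ) : ℕ := (@Bool.rec (fun _ => ℕ) (@Bool.rec (fun _ => ℕ) (@Bool.rec (fun _ => ℕ) (@Bool.rec (fun _ => ℕ) (@Bool.rec (fun _ => ℕ) rb32 rb33 (Nat.ble (nat_lit 33) i)) (@Bool.rec (fun _ => ℕ) rb34 rb35 (Nat.ble (nat_lit 35) i)) (Nat.ble (nat_lit 34) i)) (@Bool.rec (fun _ => ℕ) (@Bool.rec (fun _ => ℕ) rb36 rb37 (Nat.ble (nat_lit 37) i)) (@Bool.rec (fun _ => ℕ) rb38 rb39 (Nat.ble (nat_lit 39) i)) (Nat.ble (nat_lit 38) i)) (Nat.ble (nat_lit 36) i)) (@Bool.rec (fun _ => ℕ) (@Bool.rec (fun _ => ℕ) (@Bool.rec (fun _ => ℕ) rb40 rb41 (Nat.ble (nat_lit 41) i)) (@Bool.rec (fun _ => ℕ) rb42 rb43 (Nat.ble (nat_lit 43) i)) (Nat.ble (nat_lit 42) i)) (@Bool.rec (fun _ => ℕ) (@Bool.rec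 (fun _ => ℕ) rb44 rb45 (Nat.ble (nat_lit 45) i)) (@Bool.rec (fun _ => ℕ) rb46 rb47 (Nat.ble (nat_lit 47) i)) (Nat.ble (nat_lit 46) i)) (Nat.ble (nat_lit 44) i)) (Nat.ble (nat_lit 40) i)) (@Bool.rec (fun _ => ℕ) (@Bool.rec (fun _ => ℕ) (@Bool.rec (fun _ => ℕ) (@Bool.rec (fun _ => ℕ) rb48 rb49 (Nat.ble (nat_lit 49) i)) (@Bool.rec (fun _ => ℕ) rb50 rb51 (Nat.ble (nat_lit 51) i)) (Nat.ble (nat_lit 50) i)) (@Bool.rec (fun _ => ℕ) (@Bool.rec (fun _ => ℕ) rb52 rb53 (Nat.ble (nat_lit 53) i)) (@Bool.rec (fun _ => ℕ) rb54 rb55 (Nat.ble (nat_lit 55) i)) (Nat.ble (nat_lit 54) i)) (Nat.ble (nat_lit 52) i)) (@Bool.rec (fun _ => ℕ) (@Bool.rec (fun _ => ℕ) (@Bool.rec (fun _ => ℕ) rb56 rb57 (Nat.ble (nat_lit 57) i)) (@Bool.rec (fun _ => ℕ) rb58 rb59 (Nat.ble (nat_lit 59) i)) (Nat.ble (nat_lit 58) i)) (@Bool.rec (fun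 _ => ℕ) (@Bool.rec (fun _ => ℕ) rb60 rb61 (Nat.ble (nat_lit 61) i)) (@Bool.rec (fun _ => ℕ) rb62 rb63 (Nat.ble (nat_lit 63) i)) (Nat.ble (nat_lit 62) i)) (Nat.ble (nat_lit 60) i)) (Nat.ble (nat_lit 56) i)) (Nat.ble (nat_lit 48) i))

def rowBlk_n0_2 (i : ℕ) : ℕ := (@Bool.rec (fun _ => ℕ) (@Bool.rec (fun _ => ℕ) (@Bool.rec (fun _ => ℕ) (@Bool.rec (fun _ => ℕ) (@Bool.rec (fun _ => ℕ) rb64 rb65 (Nat.ble (nat_lit 65) i)) (@Bool.rec (fun _ => ℕ) rb66 rb67 (Nat.ble (nat_lit 67) i)) (Nat.ble (nat_lit 66) i)) (@Bool.rec (fun _ => ℕ) (@Bool.rec (fun _ => ℕ) rb68 rb69 (Nat.ble (nat_lit 69) i)) (@Bool.rec (fun _ => ℕ) rb70 rb71 (Nat.ble (nat_lit 71) i)) (Nat.ble (nat_lit 70) i)) (Nat.ble (nat_lit 68) i)) (@Bool.rec (fun _ => ℕ) (@Bool.rec (fun _ => ℕ) (@Bool.rec (fun _ => ℕ) rb72 rb73 (Nat.ble (nat_lit 73) i))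 (@Bool.rec (fun _ => ℕ) rb74 rb75 (Nat.ble (nat_lit 75) i)) (Nat.ble (nat_lit 74) i)) (@Bool.rec (fun _ => ℕ) (@Bool.rec (fun _ => ℕ) rb76 rb77 (Nat.ble (nat_lit 77) i)) (@Bool.rec (fun _ => ℕ) rb78 rb79 (Nat.ble (nat_lit 79) i)) (Nat.ble (nat_lit 78) i)) (Nat.ble (nat_lit 76) i)) (Nat.ble (nat_lit 72) i)) (@Bool.rec (fun _ => ℕ) (@Bool.rec (fun _ => ℕ) (@Bool.rec (fun _ => ℕ) (@Bool.rec (fun _ => ℕ) rb80 rb81 (Nat.ble (nat_lit 81) i)) (@Bool.rec (fun _ => ℕ) rb82 rb83 (Nat.ble (nat_lit 83) i)) (Nat.ble (nat_lit 82) i)) (@Bool.rec (fun _ => ℕ) (@Bool.rec (fun _ => ℕ) rb84 rb85 (Nat.ble (nat_lit 85) i)) (@Bool.rec (fun _ => ℕ) rb86 rb87 (Nat.ble (nat_lit 87) i)) (Nat.ble (nat_lit 86) i)) (Nat.ble (nat_lit 84) i)) (@Bool.rec (fun _ => ℕ) (@Bool.rec (fun _ => ℕ) (@Bool.rec (fun _ => ℕ) rb88 rb89 (Nat.ble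 (nat_lit 89) i)) (@Bool.rec (fun _ => ℕ) rb90 rb91 (Nat.ble (nat_lit 91) i)) (Nat.ble (nat_lit 90) i)) (@Bool.rec (fun _ => ℕ) (@Bool.rec (fun _ => ℕ) rb92 rb93 (Nat.ble (nat_lit 93) i)) (@Bool.rec (fun _ => ℕ) rb94 rb95 (Nat.ble (nat_lit 95) i)) (Nat.ble (nat_lit 94) i)) (Nat.ble (nat_lit 92) i)) (Nat.ble (nat_lit 88) i)) (Nat.ble (nat_lit 80) i))

def rowBlk_n0_3 (i : ℕ) : ℕ := (@Bool.rec (fun _ => ℕ) (@Bool.rec (fun _ => ℕ) (@Bool.rec (fun _ => ℕ) (@Bool.rec (fun _ => ℕ) (@Bool.rec (fun _ => ℕ) rb96 rb97 (Nat.ble (nat_lit 97) i)) (@Bool.rec (fun _ => ℕ) rb98 rb99 (Nat.ble (nat_lit 99) i)) (Nat.ble (nat_lit 98) i)) (@Bool.rec (fun _ => ℕ) (@Bool.rec (fun _ => ℕ) rb100 rb101 (Nat.ble (nat_lit 101) i)) (@Bool.rec (fun _ => ℕ) rb102 rb103 (Nat.ble (nat_lit 103) i)) (Nat.ble (nat_lit 102) i)) (Nat.ble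 (nat_lit 100) i)) (@Bool.rec (fun _ => ℕ) (@Bool.rec (fun _ => ℕ) (@Bool.rec (fun _ => ℕ) rb104 rb105 (Nat.ble (nat_lit 105) i)) (@Bool.rec (fun _ => ℕ) rb106 rb107 (Nat.ble (nat_lit 107) i)) (Nat.ble (nat_lit 106) i)) (@Bool.rec (fun _ => ℕ) (@Bool.rec (fun _ => ℕ) rb108 rb109 (Nat.ble (nat_lit 109) i)) (@Bool.rec (fun _ => ℕ) rb110 rb111 (Nat.ble (nat_lit 111) i)) (Nat.ble (nat_lit 110) i)) (Nat.ble (nat_lit 108) i)) (Nat.ble (nat_lit 104) i)) (@Bool.rec (fun _ => ℕ) (@Bool.rec (fun _ => ℕ) (@Bool.rec (fun _ => ℕ) (@Bool.rec (fun _ => ℕ) rb112 rb113 (Nat.ble (nat_lit 113) i)) (@Bool.rec (fun _ => ℕ) rb114 rb115 (Nat.ble (nat_lit 115) i)) (Nat.ble (nat_lit 114) i)) (@Bool.rec (fun _ => ℕ) (@Bool.rec (fun _ => ℕ) rb116 rb117 (Nat.ble (nat_lit 117) i)) (@Bool.rec (fun _ => ℕ) rb118 rb119 (Nat.ble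 (nat_lit 119) i)) (Nat.ble (nat_lit 118) i)) (Nat.ble (nat_lit 116) i)) (@Bool.rec (fun _ => ℕ) (@Bool.rec (fun _ => ℕ) (@Bool.rec (fun _ => ℕ) rb120 rb121 (Nat.ble (nat_lit 121) i)) (@Bool.rec (fun _ => ℕ) rb122 rb123 (Nat.ble (nat_lit 123) i)) (Nat.ble (nat_lit 122) i)) (@Bool.rec (fun _ => ℕ) (@Bool.rec (fun _ => ℕ) rb124 rb125 (Nat.ble (nat_lit 125) i)) (@Bool.rec (fun _ => ℕ) rb126 rb127 (Nat.ble (nat_lit 127) i)) (Nat.ble (nat_lit 126) i)) (Nat.ble (nat_lit 124) i)) (Nat.ble (nat_lit 120) i)) (Nat.ble (nat_lit 112) i))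

def rowBlk_n0_4 (i : ℕ) : ℕ := (@Bool.rec (fun _ => ℕ) (@Bool.rec (fun _ => ℕ) (@Bool.rec (fun _ => ℕ) (@Bool.rec (fun _ => ℕ) (@Bool.rec (fun _ => ℕ) rb128 rb129 (Nat.ble (nat_lit 129) i)) (@Bool.rec (fun _ => ℕ) rb130 rb131 (Nat.ble (nat_lit 131) i)) (Nat.ble (nat_lit 130) i)) (@Bool.rec (fun _ => ℕ) (@Bool.rec (fun _ => ℕ) rb132 rb133 (Nat.ble (nat_lit 133) i)) (@Bool.rec (fun _ => ℕ) rb134 rb135 (Nat.ble (nat_lit 135) i)) (Nat.ble (nat_lit 134) i)) (Nat.ble (nat_lit 132) i)) (@Bool.rec (fun _ => ℕ) (@Bool.rec (fun _ => ℕ) (@Bool.rec (fun _ => ℕ) rb136 rb137 (Nat.ble (nat_lit 137) i)) (@Bool.rec (fun _ => ℕ) rb138 rb139 (Nat.ble (nat_lit 139) i)) (Nat.ble (nat_lit 138) i)) (@Bool.rec (fun _ => ℕ) (@Bool.rec (fun _ => ℕ) rb140 rb141 (Nat.ble (nat_lit 141) i)) (@Bool.rec (fun _ => ℕ) rb142 rb143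 (Nat.ble (nat_lit 143) i)) (Nat.ble (nat_lit 142) i)) (Nat.ble (nat_lit 140) i)) (Nat.ble (nat_lit 136) i)) (@Bool.rec (fun _ => ℕ) (@Bool.rec (fun _ => ℕ) (@Bool.rec (fun _ => ℕ) (@Bool.rec (fun _ => ℕ) rb144 rb145 (Nat.ble (nat_lit 145) i)) (@Bool.rec (fun _ => ℕ) rb146 rb147 (Nat.ble (nat_lit 147) i)) (Nat.ble (nat_lit 146) i)) (@Bool.rec (fun _ => ℕ) (@Bool.rec (fun _ => ℕ) rb148 rb149 (Nat.ble (nat_lit 149) i)) (@Bool.rec (fun _ => ℕ) rb150 rb151 (Nat.ble (nat_lit 151) i)) (Nat.ble (nat_lit 150) i)) (Nat.ble (nat_lit 148) i)) (@Bool.rec (fun _ => ℕ) (@Bool.rec (fun _ => ℕ) (@Bool.rec (fun _ => ℕ) rb152 rb153 (Nat.ble (nat_lit 153) i)) (@Bool.rec (fun _ => ℕ) rb154 rb155 (Nat.ble (nat_lit 155) i)) (Nat.ble (nat_lit 154) i)) (@Bool.rec (fun _ => ℕ) (@Bool.rec (fun _ => ℕ) rb156 rb157 (Nat.ble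 (nat_lit 157) i)) (@Bool.rec (fun _ => ℕ) rb158 rb159 (Nat.ble (nat_lit 159) i)) (Nat.ble (nat_lit 158) i)) (Nat.ble (nat_lit 156) i)) (Nat.ble (nat_lit 152) i)) (Nat.ble (nat_lit 144) i))

def rowBlk_n0_5 (i : ℕ) : ℕ := (@Bool.rec (fun _ => ℕ) (@Bool.rec (fun _ => ℕ) (@Bool.rec (fun _ => ℕ) (@Bool.rec (fun _ => ℕ) (@Bool.rec (fun _ => ℕ) rb160 rb161 (Nat.ble (nat_lit 161) i)) (@Bool.rec (fun _ => ℕ) rb162 rb163 (Nat.ble (nat_lit 163) i)) (Nat.ble (nat_lit 162) i)) (@Bool.rec (fun _ => ℕ) (@Bool.rec (fun _ => ℕ) rb164 rb165 (Nat.ble (nat_lit 165) i)) (@Bool.rec (fun _ => ℕ) rb166 rb167 (Nat.ble (nat_lit 167) i)) (Nat.ble (nat_lit 166) i)) (Nat.ble (nat_lit 164) i)) (@Bool.rec (fun _ => ℕ) (@Bool.rec (fun _ => ℕ) (@Bool.rec (fun _ => ℕ) rb168 rb169 (Nat.ble (nat_lit 169) i)) (@Bool.rec (fun _ => ℕ)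 rb170 rb171 (Nat.ble (nat_lit 171) i)) (Nat.ble (nat_lit 170) i)) (@Bool.rec (fun _ => ℕ) (@Bool.rec (fun _ => ℕ) rb172 rb173 (Nat.ble (nat_lit 173) i)) (@Bool.rec (fun _ => ℕ) rb174 rb175 (Nat.ble (nat_lit 175) i)) (Nat.ble (nat_lit 174) i)) (Nat.ble (nat_lit 172) i)) (Nat.ble (nat_lit 168) i)) (@Bool.rec (fun _ => ℕ) (@Bool.rec (fun _ => ℕ) (@Bool.rec (fun _ => ℕ) (@Bool.rec (fun _ => ℕ) rb176 rb177 (Nat.ble (nat_lit 177) i)) (@Bool.rec (fun _ => ℕ) rb178 rb179 (Nat.ble (nat_lit 179) i)) (Nat.ble (nat_lit 178) i)) (@Bool.rec (fun _ => ℕ) (@Bool.rec (fun _ => ℕ) rb180 rb181 (Nat.ble (nat_lit 181) i)) (@Bool.rec (fun _ => ℕ) rb182 rb183 (Nat.ble (nat_lit 183) i)) (Nat.ble (nat_lit 182) i)) (Nat.ble (nat_lit 180) i)) (@Bool.rec (fun _ => ℕ) (@Bool.rec (fun _ => ℕ) (@Bool.rec (fun _ => ℕ) rb184 rb185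 (Nat.ble (nat_lit 185) i)) (@Bool.rec (fun _ => ℕ) rb186 rb187 (Nat.ble (nat_lit 187) i)) (Nat.ble (nat_lit 186) i)) (@Bool.rec (fun _ => ℕ) (@Bool.rec (fun _ => ℕ) rb188 rb189 (Nat.ble (nat_lit 189) i)) (@Bool.rec (fun _ => ℕ) rb190 rb191 (Nat.ble (nat_lit 191) i)) (Nat.ble (nat_lit 190) i)) (Nat.ble (nat_lit 188) i)) (Nat.ble (nat_lit 184) i)) (Nat.ble (nat_lit 176) i))

def rowBlk_n0_6 (i : ℕ) : ℕ := (@Bool.rec (fun _ => ℕ) (@Bool.rec (fun _ => ℕ) (@Bool.rec (fun _ => ℕ) (@Bool.rec (fun _ => ℕ) (@Bool.rec (fun _ => ℕ) rb192 rb193 (Nat.ble (nat_lit 193) i)) (@Bool.rec (fun _ => ℕ) rb194 rb195 (Nat.ble (nat_lit 195) i)) (Nat.ble (nat_lit 194) i)) (@Bool.rec (fun _ => ℕ) (@Bool.rec (fun _ => ℕ) rb196 rb197 (Nat.ble (nat_lit 197) i)) (@Bool.rec (fun _ => ℕ) rb198 rb199 (Nat.ble (nat_lit 199) i)) (Nat.ble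 (nat_lit 198) i)) (Nat.ble (nat_lit 196) i)) (@Bool.rec (fun _ => ℕ) (@Bool.rec (fun _ => ℕ) (@Bool.rec (fun _ => ℕ) rb200 rb201 (Nat.ble (nat_lit 201) i)) (@Bool.rec (fun _ => ℕ) rb202 rb203 (Nat.ble (nat_lit 203) i)) (Nat.ble (nat_lit 202) i)) (@Bool.rec (fun _ => ℕ) (@Bool.rec (fun _ => ℕ) rb204 rb205 (Nat.ble (nat_lit 205) i)) (@Bool.rec (fun _ => ℕ) rb206 rb207 (Nat.ble (nat_lit 207) i)) (Nat.ble (nat_lit 206) i)) (Nat.ble (nat_lit 204) i)) (Nat.ble (nat_lit 200) i)) (@Bool.rec (fun _ => ℕ) (@Bool.rec (fun _ => ℕ) (@Bool.rec (fun _ => ℕ) (@Bool.rec (fun _ => ℕ) rb208 rb209 (Nat.ble (nat_lit 209) i)) (@Bool.rec (fun _ => ℕ) rb210 rb211 (Nat.ble (nat_lit 211) i)) (Nat.ble (nat_lit 210) i)) (@Bool.rec (fun _ => ℕ) (@Bool.rec (fun _ => ℕ) rb212 rb213 (Nat.ble (nat_lit 213) i)) (@Bool.rec (fun _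 => ℕ) rb214 rb215 (Nat.ble (nat_lit 215) i)) (Nat.ble (nat_lit 214) i)) (Nat.ble (nat_lit 212) i)) (@Bool.rec (fun _ => ℕ) (@Bool.rec (fun _ => ℕ) (@Bool.rec (fun _ => ℕ) rb216 rb217 (Nat.ble (nat_lit 217) i)) (@Bool.rec (fun _ => ℕ) rb218 rb219 (Nat.ble (nat_lit 219) i)) (Nat.ble (nat_lit 218) i)) (@Bool.rec (fun _ => ℕ) (@Bool.rec (fun _ => ℕ) rb220 rb221 (Nat.ble (nat_lit 221) i)) (@Bool.rec (fun _ => ℕ) rb222 rb223 (Nat.ble (nat_lit 223) i)) (Nat.ble (nat_lit 222) i)) (Nat.ble (nat_lit 220) i)) (Nat.ble (nat_lit 216) i)) (Nat.ble (nat_lit 208) i))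

def rowBlk_n0_7 (i : ℕ) : ℕ := (@Bool.rec (fun _ => ℕ) (@Bool.rec (fun _ => ℕ) (@Bool.rec (fun _ => ℕ) (@Bool.rec (fun _ => ℕ) (@Bool.rec (fun _ => ℕ) rb224 rb225 (Nat.ble (nat_lit 225) i)) (@Bool.rec (fun _ => ℕ) rb226 rb227 (Nat.ble (nat_lit 227) i)) (Nat.ble (nat_lit 226) i)) (@Bool.rec (fun _ => ℕ) (@Bool.rec (fun _ => ℕ) rb228 rb229 (Nat.ble (nat_lit 229) i)) (@Bool.rec (fun _ => ℕ) rb230 rb231 (Nat.ble (nat_lit 231) i)) (Nat.ble (nat_lit 230) i)) (Nat.ble (nat_lit 228) i)) (@Bool.rec (fun _ => ℕ) (@Bool.rec (fun _ => ℕ) (@Bool.rec (fun _ => ℕ) rb232 rb233 (Nat.ble (nat_lit 233) i)) (@Bool.rec (fun _ => ℕ) rb234 rb235 (Nat.ble (nat_lit 235) i)) (Nat.ble (nat_lit 234) i)) (@Bool.rec (fun _ => ℕ) (@Bool.rec (fun _ => ℕ) rb236 rb237 (Nat.ble (nat_lit 237) i)) (@Bool.rec (fun _ => ℕ) rb238 rb239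 (Nat.ble (nat_lit 239) i)) (Nat.ble (nat_lit 238) i)) (Nat.ble (nat_lit 236) i)) (Nat.ble (nat_lit 232) i)) (@Bool.rec (fun _ => ℕ) (@Bool.rec (fun _ => ℕ) (@Bool.rec (fun _ => ℕ) (@Bool.rec (fun _ => ℕ) rb240 rb241 (Nat.ble (nat_lit 241) i)) (@Bool.rec (fun _ => ℕ) rb242 rb243 (Nat.ble (nat_lit 243) i)) (Nat.ble (nat_lit 242) i)) (@Bool.rec (fun _ => ℕ) (@Bool.rec (fun _ => ℕ) rb244 rb245 (Nat.ble (nat_lit 245) i)) (@Bool.rec (fun _ => ℕ) rb246 rb247 (Nat.ble (nat_lit 247) i)) (Nat.ble (nat_lit 246) i)) (Nat.ble (nat_lit 244) i)) (@Bool.rec (fun _ => ℕ) (@Bool.rec (fun _ => ℕ) (@Bool.rec (fun _ => ℕ) rb248 rb249 (Nat.ble (nat_lit 249) i)) (@Bool.rec (fun _ => ℕ) rb250 rb251 (Nat.ble (nat_lit 251) i)) (Nat.ble (nat_lit 250) i)) (@Bool.rec (fun _ => ℕ) (@Bool.rec (fun _ => ℕ) rb252 rb253 (Nat.ble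 (nat_lit 253) i)) (@Bool.rec (fun _ => ℕ) rb254 rb255 (Nat.ble (nat_lit 255) i)) (Nat.ble (nat_lit 254) i)) (Nat.ble (nat_lit 252) i)) (Nat.ble (nat_lit 248) i)) (Nat.ble (nat_lit 240) i))

def rowBlk_n0_8 (i : ℕ) : ℕ := (@Bool.rec (fun _ => ℕ) (@Bool.rec (fun _ => ℕ) (@Bool.rec (fun _ => ℕ) (@Bool.rec (fun _ => ℕ) (@Bool.rec (fun _ => ℕ) rb256 rb257 (Nat.ble (nat_lit 257) i)) (@Bool.rec (fun _ => ℕ) rb258 rb259 (Nat.ble (nat_lit 259) i)) (Nat.ble (nat_lit 258) i)) (@Bool.rec (fun _ => ℕ) (@Bool.rec (fun _ => ℕ) rb260 rb261 (Nat.ble (nat_lit 261) i)) (@Bool.rec (fun _ => ℕ) rb262 rb263 (Nat.ble (nat_lit 263) i)) (Nat.ble (nat_lit 262) i)) (Nat.ble (nat_lit 260) i)) (@Bool.rec (fun _ => ℕ) (@Bool.rec (fun _ => ℕ) (@Bool.rec (fun _ => ℕ) rb264 rb265 (Nat.ble (nat_lit 265) i)) (@Bool.rec (fun _ => ℕ)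 rb266 rb267 (Nat.ble (nat_lit 267) i)) (Nat.ble (nat_lit 266) i)) (@Bool.rec (fun _ => ℕ) (@Bool.rec (fun _ => ℕ) rb268 rb269 (Nat.ble (nat_lit 269) i)) (@Bool.rec (fun _ => ℕ) rb270 rb271 (Nat.ble (nat_lit 271) i)) (Nat.ble (nat_lit 270) i)) (Nat.ble (nat_lit 268) i)) (Nat.ble (nat_lit 264) i)) (@Bool.rec (fun _ => ℕ) (@Bool.rec (fun _ => ℕ) (@Bool.rec (fun _ => ℕ) (@Bool.rec (fun _ => ℕ) rb272 rb273 (Nat.ble (nat_lit 273) i)) (@Bool.rec (fun _ => ℕ) rb274 rb275 (Nat.ble (nat_lit 275) i)) (Nat.ble (nat_lit 274) i)) (@Bool.rec (fun _ => ℕ) (@Bool.rec (fun _ => ℕ) rb276 rb277 (Nat.ble (nat_lit 277) i)) (@Bool.rec (fun _ => ℕ) rb278 rb279 (Nat.ble (nat_lit 279) i)) (Nat.ble (nat_lit 278) i)) (Nat.ble (nat_lit 276) i)) (@Bool.rec (fun _ => ℕ) (@Bool.rec (fun _ => ℕ) (@Bool.rec (fun _ => ℕ) rb280 rb281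 (Nat.ble (nat_lit 281) i)) (@Bool.rec (fun _ => ℕ) rb282 rb283 (Nat.ble (nat_lit 283) i)) (Nat.ble (nat_lit 282) i)) (@Bool.rec (fun _ => ℕ) (@Bool.rec (fun _ => ℕ) rb284 rb285 (Nat.ble (nat_lit 285) i)) (@Bool.rec (fun _ => ℕ) rb286 rb287 (Nat.ble (nat_lit 287) i)) (Nat.ble (nat_lit 286) i)) (Nat.ble (nat_lit 284) i)) (Nat.ble (nat_lit 280) i)) (Nat.ble (nat_lit 272) i))

def rowBlk_n0_9 (i : ℕ) : ℕ := (@Bool.rec (fun _ => ℕ) (@Bool.rec (fun _ => ℕ) (@Bool.rec (fun _ => ℕ) (@Bool.rec (fun _ => ℕ) (@Bool.rec (fun _ => ℕ) rb288 rb289 (Nat.ble (nat_lit 289) i)) (@Bool.rec (fun _ => ℕ) rb290 rb291 (Nat.ble (nat_lit 291) i)) (Nat.ble (nat_lit 290) i)) (@Bool.rec (fun _ => ℕ) (@Bool.rec (fun _ => ℕ) rb292 rb293 (Nat.ble (nat_lit 293) i)) (@Bool.rec (fun _ => ℕ) rb294 rb295 (Nat.ble (nat_lit 295) i)) (Nat.ble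 (nat_lit 294) i)) (Nat.ble (nat_lit 292) i)) (@Bool.rec (fun _ => ℕ) (@Bool.rec (fun _ => ℕ) (@Bool.rec (fun _ => ℕ) rb296 rb297 (Nat.ble (nat_lit 297) i)) (@Bool.rec (fun _ => ℕ) rb298 rb299 (Nat.ble (nat_lit 299) i)) (Nat.ble (nat_lit 298) i)) (@Bool.rec (fun _ => ℕ) (@Bool.rec (fun _ => ℕ) rb300 rb301 (Nat.ble (nat_lit 301) i)) (@Bool.rec (fun _ => ℕ) rb302 rb303 (Nat.ble (nat_lit 303) i)) (Nat.ble (nat_lit 302) i)) (Nat.ble (nat_lit 300) i)) (Nat.ble (nat_lit 296) i)) (@Bool.rec (fun _ => ℕ) (@Bool.rec (fun _ => ℕ) (@Bool.rec (fun _ => ℕ) (@Bool.rec (fun _ => ℕ) rb304 rb305 (Nat.ble (nat_lit 305) i)) (@Bool.rec (fun _ => ℕ) rb306 rb307 (Nat.ble (nat_lit 307) i)) (Nat.ble (nat_lit 306) i)) (@Bool.rec (fun _ => ℕ) (@Bool.rec (fun _ => ℕ) rb308 rb309 (Nat.ble (nat_lit 309) i)) (@Bool.rec (fun _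 => ℕ) rb310 rb311 (Nat.ble (nat_lit 311) i)) (Nat.ble (nat_lit 310) i)) (Nat.ble (nat_lit 308) i)) (@Bool.rec (fun _ => ℕ) (@Bool.rec (fun _ => ℕ) (@Bool.rec (fun _ => ℕ) rb312 rb313 (Nat.ble (nat_lit 313) i)) (@Bool.rec (fun _ => ℕ) rb314 rb315 (Nat.ble (nat_lit 315) i)) (Nat.ble (nat_lit 314) i)) (@Bool.rec (fun _ => ℕ) (@Bool.rec (fun _ => ℕ) rb316 rb317 (Nat.ble (nat_lit 317) i)) (@Bool.rec (fun _ => ℕ) rb318 rb319 (Nat.ble (nat_lit 319) i)) (Nat.ble (nat_lit 318) i)) (Nat.ble (nat_lit 316) i)) (Nat.ble (nat_lit 312) i)) (Nat.ble (nat_lit 304) i))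

def rowBlk_n0_10 (i : ℕ) : ℕ := (@Bool.rec (fun _ => ℕ) (@Bool.rec (fun _ => ℕ) (@Bool.rec (fun _ => ℕ) (@Bool.rec (fun _ => ℕ) (@Bool.rec (fun _ => ℕ) rb320 rb321 (Nat.ble (nat_lit 321) i)) (@Bool.rec (fun _ => ℕ) rb322 rb323 (Nat.ble (nat_lit 323) i)) (Nat.ble (nat_lit 322) i)) (@Bool.rec (fun _ => ℕ) (@Bool.rec (fun _ => ℕ) rb324 rb325 (Nat.ble (nat_lit 325) i)) (@Bool.rec (fun _ => ℕ) rb326 rb327 (Nat.ble (nat_lit 327) i)) (Nat.ble (nat_lit 326) i)) (Nat.ble (nat_lit 324) i)) (@Bool.rec (fun _ => ℕ) (@Bool.rec (fun _ => ℕ) (@Bool.rec (fun _ => ℕ) rb328 rb329 (Nat.ble (nat_lit 329) i)) (@Bool.rec (fun _ => ℕ) rb330 rb331 (Nat.ble (nat_lit 331) i)) (Nat.ble (nat_lit 330) i)) (@Bool.rec (fun _ => ℕ) (@Bool.rec (fun _ => ℕ) rb332 rb333 (Nat.ble (nat_lit 333) i)) (@Bool.rec (fun _ => ℕ) rb334 rb335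 (Nat.ble (nat_lit 335) i)) (Nat.ble (nat_lit 334) i)) (Nat.ble (nat_lit 332) i)) (Nat.ble (nat_lit 328) i)) (@Bool.rec (fun _ => ℕ) (@Bool.rec (fun _ => ℕ) (@Bool.rec (fun _ => ℕ) (@Bool.rec (fun _ => ℕ) rb336 rb337 (Nat.ble (nat_lit 337) i)) (@Bool.rec (fun _ => ℕ) rb338 rb339 (Nat.ble (nat_lit 339) i)) (Nat.ble (nat_lit 338) i)) (@Bool.rec (fun _ => ℕ) (@Bool.rec (fun _ => ℕ) rb340 rb341 (Nat.ble (nat_lit 341) i)) (@Bool.rec (fun _ => ℕ) rb342 rb343 (Nat.ble (nat_lit 343) i)) (Nat.ble (nat_lit 342) i)) (Nat.ble (nat_lit 340) i)) (@Bool.rec (fun _ => ℕ) (@Bool.rec (fun _ => ℕ) (@Bool.rec (fun _ => ℕ) rb344 rb345 (Nat.ble (nat_lit 345) i)) (@Bool.rec (fun _ => ℕ) rb346 rb347 (Nat.ble (nat_lit 347) i)) (Nat.ble (nat_lit 346) i)) (@Bool.rec (fun _ => ℕ) (@Bool.rec (fun _ => ℕ) rb348 rb349 (Nat.ble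 (nat_lit 349) i)) (@Bool.rec (fun _ => ℕ) rb350 rb351 (Nat.ble (nat_lit 351) i)) (Nat.ble (nat_lit 350) i)) (Nat.ble (nat_lit 348) i)) (Nat.ble (nat_lit 344) i)) (Nat.ble (nat_lit 336) i))

def rowBlk_n0_11 (i : ℕ) : ℕ := (@Bool.rec (fun _ => ℕ) (@Bool.rec (fun _ => ℕ) (@Bool.rec (fun _ => ℕ) (@Bool.rec (fun _ => ℕ) (@Bool.rec (fun _ => ℕ) rb352 rb353 (Nat.ble (nat_lit 353) i)) (@Bool.rec (fun _ => ℕ) rb354 rb355 (Nat.ble (nat_lit 355) i)) (Nat.ble (nat_lit 354) i)) (@Bool.rec (fun _ => ℕ) (@Bool.rec (fun _ => ℕ) rb356 rb357 (Nat.ble (nat_lit 357) i)) (@Bool.rec (fun _ => ℕ) rb358 rb359 (Nat.ble (nat_lit 359) i)) (Nat.ble (nat_lit 358) i)) (Nat.ble (nat_lit 356) i)) (@Bool.rec (fun _ => ℕ) (@Bool.rec (fun _ => ℕ) (@Bool.rec (fun _ => ℕ) rb360 rb361 (Nat.ble (nat_lit 361) i)) (@Bool.rec (fun _ =>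 ℕ) rb362 rb363 (Nat.ble (nat_lit 363) i)) (Nat.ble (nat_lit 362) i)) (@Bool.rec (fun _ => ℕ) (@Bool.rec (fun _ => ℕ) rb364 rb365 (Nat.ble (nat_lit 365) i)) (@Bool.rec (fun _ => ℕ) rb366 rb367 (Nat.ble (nat_lit 367) i)) (Nat.ble (nat_lit 366) i)) (Nat.ble (nat_lit 364) i)) (Nat.ble (nat_lit 360) i)) (@Bool.rec (fun _ => ℕ) (@Bool.rec (fun _ => ℕ) (@Bool.rec (fun _ => ℕ) (@Bool.rec (fun _ => ℕ) rb368 rb369 (Nat.ble (nat_lit 369) i)) (@Bool.rec (fun _ => ℕ) rb370 rb371 (Nat.ble (nat_lit 371) i)) (Nat.ble (nat_lit 370) i)) (@Bool.rec (fun _ => ℕ) (@Bool.rec (fun _ => ℕ) rb372 rb373 (Nat.ble (nat_lit 373) i)) (@Bool.rec (fun _ => ℕ) rb374 rb375 (Nat.ble (nat_lit 375) i)) (Nat.ble (nat_lit 374) i)) (Nat.ble (nat_lit 372) i)) (@Bool.rec (fun _ => ℕ) (@Bool.rec (fun _ => ℕ) (@Bool.rec (fun _ => ℕ) rb376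 rb377 (Nat.ble (nat_lit 377) i)) (@Bool.rec (fun _ => ℕ) rb378 rb379 (Nat.ble (nat_lit 379) i)) (Nat.ble (nat_lit 378) i)) (@Bool.rec (fun _ => ℕ) (@Bool.rec (fun _ => ℕ) rb380 rb381 (Nat.ble (nat_lit 381) i)) (@Bool.rec (fun _ => ℕ) rb382 rb383 (Nat.ble (nat_lit 383) i)) (Nat.ble (nat_lit 382) i)) (Nat.ble (nat_lit 380) i)) (Nat.ble (nat_lit 376) i)) (Nat.ble (nat_lit 368) i))

def rowBlk_n0_12 (i : ℕ) : ℕ := (@Bool.rec (fun _ => ℕ) (@Bool.rec (fun _ => ℕ) (@Bool.rec (fun _ => ℕ) (@Bool.rec (fun _ => ℕ) (@Bool.rec (fun _ => ℕ) rb384 rb385 (Nat.ble (nat_lit 385) i)) (@Bool.rec (fun _ => ℕ) rb386 rb387 (Nat.ble (nat_lit 387) i)) (Nat.ble (nat_lit 386) i)) (@Bool.rec (fun _ => ℕ) (@Bool.rec (fun _ => ℕ) rb388 rb389 (Nat.ble (nat_lit 389) i)) (@Bool.rec (fun _ => ℕ) rb390 rb391 (Nat.ble (nat_lit 391)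 i)) (Nat.ble (nat_lit 390) i)) (Nat.ble (nat_lit 388) i)) (@Bool.rec (fun _ => ℕ) (@Bool.rec (fun _ => ℕ) (@Bool.rec (fun _ => ℕ) rb392 rb393 (Nat.ble (nat_lit 393) i)) (@Bool.rec (fun _ => ℕ) rb394 rb395 (Nat.ble (nat_lit 395) i)) (Nat.ble (nat_lit 394) i)) (@Bool.rec (fun _ => ℕ) (@Bool.rec (fun _ => ℕ) rb396 rb397 (Nat.ble (nat_lit 397) i)) (@Bool.rec (fun _ => ℕ) rb398 rb399 (Nat.ble (nat_lit 399) i)) (Nat.ble (nat_lit 398) i)) (Nat.ble (nat_lit 396) i)) (Nat.ble (nat_lit 392) i)) (@Bool.rec (fun _ => ℕ) (@Bool.rec (fun _ => ℕ) (@Bool.rec (fun _ => ℕ) (@Bool.rec (fun _ => ℕ) rb400 rb401 (Nat.ble (nat_lit 401) i)) (@Bool.rec (fun _ => ℕ) rb402 rb403 (Nat.ble (nat_lit 403) i)) (Nat.ble (nat_lit 402) i)) (@Bool.rec (fun _ => ℕ) (@Bool.rec (fun _ => ℕ) rb404 rb405 (Nat.ble (nat_lit 405) i)) (@Bool.rec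 (fun _ => ℕ) rb406 rb407 (Nat.ble (nat_lit 407) i)) (Nat.ble (nat_lit 406) i)) (Nat.ble (nat_lit 404) i)) (@Bool.rec (fun _ => ℕ) (@Bool.rec (fun _ => ℕ) (@Bool.rec (fun _ => ℕ) rb408 rb409 (Nat.ble (nat_lit 409) i)) (@Bool.rec (fun _ => ℕ) rb410 rb411 (Nat.ble (nat_lit 411) i)) (Nat.ble (nat_lit 410) i)) (@Bool.rec (fun _ => ℕ) (@Bool.rec (fun _ => ℕ) rb412 rb413 (Nat.ble (nat_lit 413) i)) (@Bool.rec (fun _ => ℕ) rb414 rb415 (Nat.ble (nat_lit 415) i)) (Nat.ble (nat_lit 414) i)) (Nat.ble (nat_lit 412) i)) (Nat.ble (nat_lit 408) i)) (Nat.ble (nat_lit 400) i))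

def rowBlk_n0_13 (i : ℕ) : ℕ := (@Bool.rec (fun _ => ℕ) (@Bool.rec (fun _ => ℕ) (@Bool.rec (fun _ => ℕ) (@Bool.rec (fun _ => ℕ) (@Bool.rec (fun _ => ℕ) rb416 rb417 (Nat.ble (nat_lit 417) i)) (@Bool.rec (fun _ => ℕ) rb418 rb419 (Nat.ble (nat_lit 419) i)) (Nat.ble (nat_lit 418) i)) (@Bool.rec (fun _ => ℕ) (@Bool.rec (fun _ => ℕ) rb420 rb421 (Nat.ble (nat_lit 421) i)) (@Bool.rec (fun _ => ℕ) rb422 rb423 (Nat.ble (nat_lit 423) i)) (Nat.ble (nat_lit 422) i)) (Nat.ble (nat_lit 420) i)) (@Bool.rec (fun _ => ℕ) (@Bool.rec (fun _ => ℕ) (@Bool.rec (fun _ => ℕ) rb424 rb425 (Nat.ble (nat_lit 425) i)) (@Bool.rec (fun _ => ℕ) rb426 rb427 (Nat.ble (nat_lit 427) i)) (Nat.ble (nat_lit 426) i)) (@Bool.rec (fun _ => ℕ) (@Bool.rec (fun _ => ℕ) rb428 rb429 (Nat.ble (nat_lit 429) i)) (@Bool.rec (fun _ => ℕ) rb430 rb431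 (Nat.ble (nat_lit 431) i)) (Nat.ble (nat_lit 430) i)) (Nat.ble (nat_lit 428) i)) (Nat.ble (nat_lit 424) i)) (@Bool.rec (fun _ => ℕ) (@Bool.rec (fun _ => ℕ) (@Bool.rec (fun _ => ℕ) (@Bool.rec (fun _ => ℕ) rb432 rb433 (Nat.ble (nat_lit 433) i)) (@Bool.rec (fun _ => ℕ) rb434 rb435 (Nat.ble (nat_lit 435) i)) (Nat.ble (nat_lit 434) i)) (@Bool.rec (fun _ => ℕ) (@Bool.rec (fun _ => ℕ) rb436 rb437 (Nat.ble (nat_lit 437) i)) (@Bool.rec (fun _ => ℕ) rb438 rb439 (Nat.ble (nat_lit 439) i)) (Nat.ble (nat_lit 438) i)) (Nat.ble (nat_lit 436) i)) (@Bool.rec (fun _ => ℕ) (@Bool.rec (fun _ => ℕ) (@Bool.rec (fun _ => ℕ) rb440 rb441 (Nat.ble (nat_lit 441) i)) (@Bool.rec (fun _ => ℕ) rb442 rb443 (Nat.ble (nat_lit 443) i)) (Nat.ble (nat_lit 442) i)) (@Bool.rec (fun _ => ℕ) (@Bool.rec (fun _ => ℕ) rb444 rb445 (Nat.ble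 (nat_lit 445) i)) (@Bool.rec (fun _ => ℕ) rb446 rb447 (Nat.ble (nat_lit 447) i)) (Nat.ble (nat_lit 446) i)) (Nat.ble (nat_lit 444) i)) (Nat.ble (nat_lit 440) i)) (Nat.ble (nat_lit 432) i))

def rowBlk_n0_14 (i : ℕ) : ℕ := (@Bool.rec (fun _ => ℕ) (@Bool.rec (fun _ => ℕ) (@Bool.rec (fun _ => ℕ) (@Bool.rec (fun _ => ℕ) (@Bool.rec (fun _ => ℕ) rb448 rb449 (Nat.ble (nat_lit 449) i)) (@Bool.rec (fun _ => ℕ) rb450 rb451 (Nat.ble (nat_lit 451) i)) (Nat.ble (nat_lit 450) i)) (@Bool.rec (fun _ => ℕ) (@Bool.rec (fun _ => ℕ) rb452 rb453 (Nat.ble (nat_lit 453) i)) (@Bool.rec (fun _ => ℕ) rb454 rb455 (Nat.ble (nat_lit 455) i)) (Nat.ble (nat_lit 454) i)) (Nat.ble (nat_lit 452) i)) (@Bool.rec (fun _ => ℕ) (@Bool.rec (fun _ => ℕ) (@Bool.rec (fun _ => ℕ) rb456 rb457 (Nat.ble (nat_lit 457) i)) (@Bool.rec (fun _ =>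 ℕ) rb458 rb459 (Nat.ble (nat_lit 459) i)) (Nat.ble (nat_lit 458) i)) (@Bool.rec (fun _ => ℕ) (@Bool.rec (fun _ => ℕ) rb460 rb461 (Nat.ble (nat_lit 461) i)) (@Bool.rec (fun _ => ℕ) rb462 rb463 (Nat.ble (nat_lit 463) i)) (Nat.ble (nat_lit 462) i)) (Nat.ble (nat_lit 460) i)) (Nat.ble (nat_lit 456) i)) (@Bool.rec (fun _ => ℕ) (@Bool.rec (fun _ => ℕ) (@Bool.rec (fun _ => ℕ) (@Bool.rec (fun _ => ℕ) rb464 rb465 (Nat.ble (nat_lit 465) i)) (@Bool.rec (fun _ => ℕ) rb466 rb467 (Nat.ble (nat_lit 467) i)) (Nat.ble (nat_lit 466) i)) (@Bool.rec (fun _ => ℕ) (@Bool.rec (fun _ => ℕ) rb468 rb469 (Nat.ble (nat_lit 469) i)) (@Bool.rec (fun _ => ℕ) rb470 rb471 (Nat.ble (nat_lit 471) i)) (Nat.ble (nat_lit 470) i)) (Nat.ble (nat_lit 468) i)) (@Bool.rec (fun _ => ℕ) (@Bool.rec (fun _ => ℕ) (@Bool.rec (fun _ => ℕ) rb472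 rb473 (Nat.ble (nat_lit 473) i)) (@Bool.rec (fun _ => ℕ) rb474 rb475 (Nat.ble (nat_lit 475) i)) (Nat.ble (nat_lit 474) i)) (@Bool.rec (fun _ => ℕ) (@Bool.rec (fun _ => ℕ) rb476 rb477 (Nat.ble (nat_lit 477) i)) (@Bool.rec (fun _ => ℕ) rb478 rb479 (Nat.ble (nat_lit 479) i)) (Nat.ble (nat_lit 478) i)) (Nat.ble (nat_lit 476) i)) (Nat.ble (nat_lit 472) i)) (Nat.ble (nat_lit 464) i))

def rowBlk_n0_15 (i : ℕ) : ℕ := (@Bool.rec (fun _ => ℕ) (@Bool.rec (fun _ => ℕ) (@Bool.rec (fun _ => ℕ) (@Bool.rec (fun _ => ℕ) (@Bool.rec (fun _ => ℕ) rb480 rb481 (Nat.ble (nat_lit 481) i)) (@Bool.rec (fun _ => ℕ) rb482 rb483 (Nat.ble (nat_lit 483) i)) (Nat.ble (nat_lit 482) i)) (@Bool.rec (fun _ => ℕ) (@Bool.rec (fun _ => ℕ) rb484 rb485 (Nat.ble (nat_lit 485) i)) (@Bool.rec (fun _ => ℕ) rb486 rb487 (Nat.ble (nat_lit 487)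 i)) (Nat.ble (nat_lit 486) i)) (Nat.ble (nat_lit 484) i)) (@Bool.rec (fun _ => ℕ) (@Bool.rec (fun _ => ℕ) (@Bool.rec (fun _ => ℕ) rb488 rb489 (Nat.ble (nat_lit 489) i)) (@Bool.rec (fun _ => ℕ) rb490 rb491 (Nat.ble (nat_lit 491) i)) (Nat.ble (nat_lit 490) i)) (@Bool.rec (fun _ => ℕ) (@Bool.rec (fun _ => ℕ) rb492 rb493 (Nat.ble (nat_lit 493) i)) (@Bool.rec (fun _ => ℕ) rb494 rb495 (Nat.ble (nat_lit 495) i)) (Nat.ble (nat_lit 494) i)) (Nat.ble (nat_lit 492) i)) (Nat.ble (nat_lit 488) i)) (@Bool.rec (fun _ => ℕ) (@Bool.rec (fun _ => ℕ) (@Bool.rec (fun _ => ℕ) (@Bool.rec (fun _ => ℕ) rb496 rb497 (Nat.ble (nat_lit 497) i)) (@Bool.rec (fun _ => ℕ) rb498 rb499 (Nat.ble (nat_lit 499) i)) (Nat.ble (nat_lit 498) i)) (@Bool.rec (fun _ => ℕ) (@Bool.rec (fun _ => ℕ) rb500 rb501 (Nat.ble (nat_lit 501) i)) (@Bool.rec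 (fun _ => ℕ) rb502 rb503 (Nat.ble (nat_lit 503) i)) (Nat.ble (nat_lit 502) i)) (Nat.ble (nat_lit 500) i)) (@Bool.rec (fun _ => ℕ) (@Bool.rec (fun _ => ℕ) (@Bool.rec (fun _ => ℕ) rb504 rb505 (Nat.ble (nat_lit 505) i)) (@Bool.rec (fun _ => ℕ) rb506 rb507 (Nat.ble (nat_lit 507) i)) (Nat.ble (nat_lit 506) i)) (@Bool.rec (fun _ => ℕ) (@Bool.rec (fun _ => ℕ) rb508 rb509 (Nat.ble (nat_lit 509) i)) (@Bool.rec (fun _ => ℕ) rb510 rb511 (Nat.ble (nat_lit 511) i)) (Nat.ble (nat_lit 510) i)) (Nat.ble (nat_lit 508) i)) (Nat.ble (nat_lit 504) i)) (Nat.ble (nat_lit 496) i))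

def rowBlk_n0_16 (i : ℕ) : ℕ := (@Bool.rec (fun _ => ℕ) (@Bool.rec (fun _ => ℕ) (@Bool.rec (fun _ => ℕ) (@Bool.rec (fun _ => ℕ) (@Bool.rec (fun _ => ℕ) rb512 rb513 (Nat.ble (nat_lit 513) i)) (@Bool.rec (fun _ => ℕ) rb514 rb515 (Nat.ble (nat_lit 515) i)) (Nat.ble (nat_lit 514) i)) (@Bool.rec (fun _ => ℕ) (@Bool.rec (fun _ => ℕ) rb516 rb517 (Nat.ble (nat_lit 517) i)) (@Bool.rec (fun _ => ℕ) rb518 rb519 (Nat.ble (nat_lit 519) i)) (Nat.ble (nat_lit 518) i)) (Nat.ble (nat_lit 516) i)) (@Bool.rec (fun _ => ℕ) (@Bool.rec (fun _ => ℕ) (@Bool.rec (fun _ => ℕ) rb520 rb521 (Nat.ble (nat_lit 521) i)) (@Bool.rec (fun _ => ℕ) rb522 rb523 (Nat.ble (nat_lit 523) i)) (Nat.ble (nat_lit 522) i)) (@Bool.rec (fun _ => ℕ) (@Bool.rec (fun _ => ℕ) rb524 rb525 (Nat.ble (nat_lit 525) i)) (@Bool.rec (fun _ => ℕ) rb526 rb527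 (Nat.ble (nat_lit 527) i)) (Nat.ble (nat_lit 526) i)) (Nat.ble (nat_lit 524) i)) (Nat.ble (nat_lit 520) i)) (@Bool.rec (fun _ => ℕ) (@Bool.rec (fun _ => ℕ) (@Bool.rec (fun _ => ℕ) (@Bool.rec (fun _ => ℕ) rb528 rb529 (Nat.ble (nat_lit 529) i)) (@Bool.rec (fun _ => ℕ) rb530 rb531 (Nat.ble (nat_lit 531) i)) (Nat.ble (nat_lit 530) i)) (@Bool.rec (fun _ => ℕ) (@Bool.rec (fun _ => ℕ) rb532 rb533 (Nat.ble (nat_lit 533) i)) (@Bool.rec (fun _ => ℕ) rb534 rb535 (Nat.ble (nat_lit 535) i)) (Nat.ble (nat_lit 534) i)) (Nat.ble (nat_lit 532) i)) (@Bool.rec (fun _ => ℕ) (@Bool.rec (fun _ => ℕ) (@Bool.rec (fun _ => ℕ) rb536 rb537 (Nat.ble (nat_lit 537) i)) (@Bool.rec (fun _ => ℕ) rb538 rb539 (Nat.ble (nat_lit 539) i)) (Nat.ble (nat_lit 538) i)) (@Bool.rec (fun _ => ℕ) (@Bool.rec (fun _ => ℕ) rb540 rb541 (Nat.ble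 (nat_lit 541) i)) (@Bool.rec (fun _ => ℕ) rb542 rb543 (Nat.ble (nat_lit 543) i)) (Nat.ble (nat_lit 542) i)) (Nat.ble (nat_lit 540) i)) (Nat.ble (nat_lit 536) i)) (Nat.ble (nat_lit 528) i))

def rowBlk_n0_17 (i : ℕ) : ℕ := (@Bool.rec (fun _ => ℕ) (@Bool.rec (fun _ => ℕ) (@Bool.rec (fun _ => ℕ) (@Bool.rec (fun _ => ℕ) (@Bool.rec (fun _ => ℕ) rb544 rb545 (Nat.ble (nat_lit 545) i)) (@Bool.rec (fun _ => ℕ) rb546 rb547 (Nat.ble (nat_lit 547) i)) (Nat.ble (nat_lit 546) i)) (@Bool.rec (fun _ => ℕ) (@Bool.rec (fun _ => ℕ) rb548 rb549 (Nat.ble (nat_lit 549) i)) (@Bool.rec (fun _ => ℕ) rb550 rb551 (Nat.ble (nat_lit 551) i)) (Nat.ble (nat_lit 550) i)) (Nat.ble (nat_lit 548) i)) (@Bool.rec (fun _ => ℕ) (@Bool.rec (fun _ => ℕ) (@Bool.rec (fun _ => ℕ) rb552 rb553 (Nat.ble (nat_lit 553) i)) (@Bool.rec (fun _ =>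 ℕ) rb554 rb555 (Nat.ble (nat_lit 555) i)) (Nat.ble (nat_lit 554) i)) (@Bool.rec (fun _ => ℕ) (@Bool.rec (fun _ => ℕ) rb556 rb557 (Nat.ble (nat_lit 557) i)) (@Bool.rec (fun _ => ℕ) rb558 rb559 (Nat.ble (nat_lit 559) i)) (Nat.ble (nat_lit 558) i)) (Nat.ble (nat_lit 556) i)) (Nat.ble (nat_lit 552) i)) (@Bool.rec (fun _ => ℕ) (@Bool.rec (fun _ => ℕ) (@Bool.rec (fun _ => ℕ) (@Bool.rec (fun _ => ℕ) rb560 rb561 (Nat.ble (nat_lit 561) i)) (@Bool.rec (fun _ => ℕ) rb562 rb563 (Nat.ble (nat_lit 563) i)) (Nat.ble (nat_lit 562) i)) (@Bool.rec (fun _ => ℕ) (@Bool.rec (fun _ => ℕ) rb564 rb565 (Nat.ble (nat_lit 565) i)) (@Bool.rec (fun _ => ℕ) rb566 rb567 (Nat.ble (nat_lit 567) i)) (Nat.ble (nat_lit 566) i)) (Nat.ble (nat_lit 564) i)) (@Bool.rec (fun _ => ℕ) (@Bool.rec (fun _ => ℕ) (@Bool.rec (fun _ => ℕ) rb568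 rb569 (Nat.ble (nat_lit 569) i)) (@Bool.rec (fun _ => ℕ) rb570 rb571 (Nat.ble (nat_lit 571) i)) (Nat.ble (nat_lit 570) i)) (@Bool.rec (fun _ => ℕ) (@Bool.rec (fun _ => ℕ) rb572 rb573 (Nat.ble (nat_lit 573) i)) (@Bool.rec (fun _ => ℕ) rb574 rb575 (Nat.ble (nat_lit 575) i)) (Nat.ble (nat_lit 574) i)) (Nat.ble (nat_lit 572) i)) (Nat.ble (nat_lit 568) i)) (Nat.ble (nat_lit 560) i))

def rowBlk_n0_18 (i : ℕ) : ℕ := (@Bool.rec (fun _ => ℕ) (@Bool.rec (fun _ => ℕ) (@Bool.rec (fun _ => ℕ) (@Bool.rec (fun _ => ℕ) (@Bool.rec (fun _ => ℕ) rb576 rb577 (Nat.ble (nat_lit 577) i)) (@Bool.rec (fun _ => ℕ) rb578 rb579 (Nat.ble (nat_lit 579) i)) (Nat.ble (nat_lit 578) i)) (@Bool.rec (fun _ => ℕ) (@Bool.rec (fun _ => ℕ) rb580 rb581 (Nat.ble (nat_lit 581) i)) (@Bool.rec (fun _ => ℕ) rb582 rb583 (Nat.ble (nat_lit 583)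 i)) (Nat.ble (nat_lit 582) i)) (Nat.ble (nat_lit 580) i)) (@Bool.rec (fun _ => ℕ) (@Bool.rec (fun _ => ℕ) (@Bool.rec (fun _ => ℕ) rb584 rb585 (Nat.ble (nat_lit 585) i)) (@Bool.rec (fun _ => ℕ) rb586 rb587 (Nat.ble (nat_lit 587) i)) (Nat.ble (nat_lit 586) i)) (@Bool.rec (fun _ => ℕ) (@Bool.rec (fun _ => ℕ) rb588 rb589 (Nat.ble (nat_lit 589) i)) (@Bool.rec (fun _ => ℕ) rb590 rb591 (Nat.ble (nat_lit 591) i)) (Nat.ble (nat_lit 590) i)) (Nat.ble (nat_lit 588) i)) (Nat.ble (nat_lit 584) i)) (@Bool.rec (fun _ => ℕ) (@Bool.rec (fun _ => ℕ) (@Bool.rec (fun _ => ℕ) (@Bool.rec (fun _ => ℕ) rb592 rb593 (Nat.ble (nat_lit 593) i)) (@Bool.rec (fun _ => ℕ) rb594 rb595 (Nat.ble (nat_lit 595) i)) (Nat.ble (nat_lit 594) i)) (@Bool.rec (fun _ => ℕ) (@Bool.rec (fun _ => ℕ) rb596 rb597 (Nat.ble (nat_lit 597) i)) (@Bool.rec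 (fun _ => ℕ) rb598 rb599 (Nat.ble (nat_lit 599) i)) (Nat.ble (nat_lit 598) i)) (Nat.ble (nat_lit 596) i)) (@Bool.rec (fun _ => ℕ) (@Bool.rec (fun _ => ℕ) (@Bool.rec (fun _ => ℕ) rb600 rb601 (Nat.ble (nat_lit 601) i)) (@Bool.rec (fun _ => ℕ) rb602 rb603 (Nat.ble (nat_lit 603) i)) (Nat.ble (nat_lit 602) i)) (@Bool.rec (fun _ => ℕ) (@Bool.rec (fun _ => ℕ) rb604 rb605 (Nat.ble (nat_lit 605) i)) (@Bool.rec (fun _ => ℕ) rb606 rb607 (Nat.ble (nat_lit 607) i)) (Nat.ble (nat_lit 606) i)) (Nat.ble (nat_lit 604) i)) (Nat.ble (nat_lit 600) i)) (Nat.ble (nat_lit 592) i))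

def rowBlk_n0_19 (i : ℕ) : ℕ := (@Bool.rec (fun _ => ℕ) (@Bool.rec (fun _ => ℕ) (@Bool.rec (fun _ => ℕ) (@Bool.rec (fun _ => ℕ) (@Bool.rec (fun _ => ℕ) rb608 rb609 (Nat.ble (nat_lit 609) i)) (@Bool.rec (fun _ => ℕ) rb610 rb611 (Nat.ble (nat_lit 611) i)) (Nat.ble (nat_lit 610) i)) (@Bool.rec (fun _ => ℕ) (@Bool.rec (fun _ => ℕ) rb612 rb613 (Nat.ble (nat_lit 613) i)) (@Bool.rec (fun _ => ℕ) rb614 rb615 (Nat.ble (nat_lit 615) i)) (Nat.ble (nat_lit 614) i)) (Nat.ble (nat_lit 612) i)) (@Bool.rec (fun _ => ℕ) (@Bool.rec (fun _ => ℕ) (@Bool.rec (fun _ => ℕ) rb616 rb617 (Nat.ble (nat_lit 617) i)) (@Bool.rec (fun _ => ℕ) rb618 rb619 (Nat.ble (nat_lit 619) i)) (Nat.ble (nat_lit 618) i)) (@Bool.rec (fun _ => ℕ) (@Bool.rec (fun _ => ℕ) rb620 rb621 (Nat.ble (nat_lit 621) i)) (@Bool.rec (fun _ => ℕ) rb622 rb623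 (Nat.ble (nat_lit 623) i)) (Nat.ble (nat_lit 622) i)) (Nat.ble (nat_lit 620) i)) (Nat.ble (nat_lit 616) i)) (@Bool.rec (fun _ => ℕ) (@Bool.rec (fun _ => ℕ) (@Bool.rec (fun _ => ℕ) (@Bool.rec (fun _ => ℕ) rb624 rb625 (Nat.ble (nat_lit 625) i)) (@Bool.rec (fun _ => ℕ) rb626 rb627 (Nat.ble (nat_lit 627) i)) (Nat.ble (nat_lit 626) i)) (@Bool.rec (fun _ => ℕ) (@Bool.rec (fun _ => ℕ) rb628 rb629 (Nat.ble (nat_lit 629) i)) (@Bool.rec (fun _ => ℕ) rb630 rb631 (Nat.ble (nat_lit 631) i)) (Nat.ble (nat_lit 630) i)) (Nat.ble (nat_lit 628) i)) (@Bool.rec (fun _ => ℕ) (@Bool.rec (fun _ => ℕ) (@Bool.rec (fun _ => ℕ) rb632 rb633 (Nat.ble (nat_lit 633) i)) (@Bool.rec (fun _ => ℕ) rb634 rb635 (Nat.ble (nat_lit 635) i)) (Nat.ble (nat_lit 634) i)) (@Bool.rec (fun _ => ℕ) (@Bool.rec (fun _ => ℕ) rb636 rb637 (Nat.ble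 (nat_lit 637) i)) (@Bool.rec (fun _ => ℕ) rb638 rb639 (Nat.ble (nat_lit 639) i)) (Nat.ble (nat_lit 638) i)) (Nat.ble (nat_lit 636) i)) (Nat.ble (nat_lit 632) i)) (Nat.ble (nat_lit 624) i))

def rowBlk_n0_20 (i : ℕ) : ℕ := (@Bool.rec (fun _ => ℕ) (@Bool.rec (fun _ => ℕ) (@Bool.rec (fun _ => ℕ) (@Bool.rec (fun _ => ℕ) (@Bool.rec (fun _ => ℕ) rb640 rb641 (Nat.ble (nat_lit 641) i)) (@Bool.rec (fun _ => ℕ) rb642 rb643 (Nat.ble (nat_lit 643) i)) (Nat.ble (nat_lit 642) i)) (@Bool.rec (fun _ => ℕ) (@Bool.rec (fun _ => ℕ) rb644 rb645 (Nat.ble (nat_lit 645) i)) (@Bool.rec (fun _ => ℕ) rb646 rb647 (Nat.ble (nat_lit 647) i)) (Nat.ble (nat_lit 646) i)) (Nat.ble (nat_lit 644) i)) (@Bool.rec (fun _ => ℕ) (@Bool.rec (fun _ => ℕ) (@Bool.rec (fun _ => ℕ) rb648 rb649 (Nat.ble (nat_lit 649) i)) (@Bool.rec (fun _ =>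 ℕ) rb650 rb651 (Nat.ble (nat_lit 651) i)) (Nat.ble (nat_lit 650) i)) (@Bool.rec (fun _ => ℕ) (@Bool.rec (fun _ => ℕ) rb652 rb653 (Nat.ble (nat_lit 653) i)) (@Bool.rec (fun _ => ℕ) rb654 rb655 (Nat.ble (nat_lit 655) i)) (Nat.ble (nat_lit 654) i)) (Nat.ble (nat_lit 652) i)) (Nat.ble (nat_lit 648) i)) (@Bool.rec (fun _ => ℕ) (@Bool.rec (fun _ => ℕ) (@Bool.rec (fun _ => ℕ) (@Bool.rec (fun _ => ℕ) rb656 rb657 (Nat.ble (nat_lit 657) i)) (@Bool.rec (fun _ => ℕ) rb658 rb659 (Nat.ble (nat_lit 659) i)) (Nat.ble (nat_lit 658) i)) (@Bool.rec (fun _ => ℕ) (@Bool.rec (fun _ => ℕ) rb660 rb661 (Nat.ble (nat_lit 661) i)) (@Bool.rec (fun _ => ℕ) rb662 rb663 (Nat.ble (nat_lit 663) i)) (Nat.ble (nat_lit 662) i)) (Nat.ble (nat_lit 660) i)) (@Bool.rec (fun _ => ℕ) (@Bool.rec (fun _ => ℕ) (@Bool.rec (fun _ => ℕ) rb664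 rb665 (Nat.ble (nat_lit 665) i)) (@Bool.rec (fun _ => ℕ) rb666 rb667 (Nat.ble (nat_lit 667) i)) (Nat.ble (nat_lit 666) i)) (@Bool.rec (fun _ => ℕ) (@Bool.rec (fun _ => ℕ) rb668 rb669 (Nat.ble (nat_lit 669) i)) (@Bool.rec (fun _ => ℕ) rb670 rb671 (Nat.ble (nat_lit 671) i)) (Nat.ble (nat_lit 670) i)) (Nat.ble (nat_lit 668) i)) (Nat.ble (nat_lit 664) i)) (Nat.ble (nat_lit 656) i))

def rowBlk_n0_21 (i : ℕ) : ℕ := (@Bool.rec (fun _ => ℕ) (@Bool.rec (fun _ => ℕ) (@Bool.rec (fun _ => ℕ) (@Bool.rec (fun _ => ℕ) (@Bool.rec (fun _ => ℕ) rb672 rb673 (Nat.ble (nat_lit 673) i)) (@Bool.rec (fun _ => ℕ) rb674 rb675 (Nat.ble (nat_lit 675) i)) (Nat.ble (nat_lit 674) i)) (@Bool.rec (fun _ => ℕ) (@Bool.rec (fun _ => ℕ) rb676 rb677 (Nat.ble (nat_lit 677) i)) (@Bool.rec (fun _ => ℕ) rb678 rb679 (Nat.ble (nat_lit 679)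 i)) (Nat.ble (nat_lit 678) i)) (Nat.ble (nat_lit 676) i)) (@Bool.rec (fun _ => ℕ) (@Bool.rec (fun _ => ℕ) (@Bool.rec (fun _ => ℕ) rb680 rb681 (Nat.ble (nat_lit 681) i)) (@Bool.rec (fun _ => ℕ) rb682 rb683 (Nat.ble (nat_lit 683) i)) (Nat.ble (nat_lit 682) i)) (@Bool.rec (fun _ => ℕ) (@Bool.rec (fun _ => ℕ) rb684 rb685 (Nat.ble (nat_lit 685) i)) (@Bool.rec (fun _ => ℕ) rb686 rb687 (Nat.ble (nat_lit 687) i)) (Nat.ble (nat_lit 686) i)) (Nat.ble (nat_lit 684) i)) (Nat.ble (nat_lit 680) i)) (@Bool.rec (fun _ => ℕ) (@Bool.rec (fun _ => ℕ) (@Bool.rec (fun _ => ℕ) (@Bool.rec (fun _ => ℕ) rb688 rb689 (Nat.ble (nat_lit 689) i)) (@Bool.rec (fun _ => ℕ) rb690 rb691 (Nat.ble (nat_lit 691) i)) (Nat.ble (nat_lit 690) i)) (@Bool.rec (fun _ => ℕ) (@Bool.rec (fun _ => ℕ) rb692 rb693 (Nat.ble (nat_lit 693) i)) (@Bool.rec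 (fun _ => ℕ) rb694 rb695 (Nat.ble (nat_lit 695) i)) (Nat.ble (nat_lit 694) i)) (Nat.ble (nat_lit 692) i)) (@Bool.rec (fun _ => ℕ) (@Bool.rec (fun _ => ℕ) (@Bool.rec (fun _ => ℕ) rb696 rb697 (Nat.ble (nat_lit 697) i)) (@Bool.rec (fun _ => ℕ) rb698 rb699 (Nat.ble (nat_lit 699) i)) (Nat.ble (nat_lit 698) i)) (@Bool.rec (fun _ => ℕ) (@Bool.rec (fun _ => ℕ) rb700 rb701 (Nat.ble (nat_lit 701) i)) (@Bool.rec (fun _ => ℕ) rb702 rb703 (Nat.ble (nat_lit 703) i)) (Nat.ble (nat_lit 702) i)) (Nat.ble (nat_lit 700) i)) (Nat.ble (nat_lit 696) i)) (Nat.ble (nat_lit 688) i))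

def rowBlk_n0_22 (i : ℕ) : ℕ := (@Bool.rec (fun _ => ℕ) (@Bool.rec (fun _ => ℕ) (@Bool.rec (fun _ => ℕ) (@Bool.rec (fun _ => ℕ) (@Bool.rec (fun _ => ℕ) rb704 rb705 (Nat.ble (nat_lit 705) i)) (@Bool.rec (fun _ => ℕ) rb706 rb707 (Nat.ble (nat_lit 707) i)) (Nat.ble (nat_lit 706) i)) (@Bool.rec (fun _ => ℕ) (@Bool.rec (fun _ => ℕ) rb708 rb709 (Nat.ble (nat_lit 709) i)) (@Bool.rec (fun _ => ℕ) rb710 rb711 (Nat.ble (nat_lit 711) i)) (Nat.ble (nat_lit 710) i)) (Nat.ble (nat_lit 708) i)) (@Bool.rec (fun _ => ℕ) (@Bool.rec (fun _ => ℕ) (@Bool.rec (fun _ => ℕ) rb712 rb713 (Nat.ble (nat_lit 713) i)) (@Bool.rec (fun _ => ℕ) rb714 rb715 (Nat.ble (nat_lit 715) i)) (Nat.ble (nat_lit 714) i)) (@Bool.rec (fun _ => ℕ) (@Bool.rec (fun _ => ℕ) rb716 rb717 (Nat.ble (nat_lit 717) i)) (@Bool.rec (fun _ => ℕ) rb718 rb719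 (Nat.ble (nat_lit 719) i)) (Nat.ble (nat_lit 718) i)) (Nat.ble (nat_lit 716) i)) (Nat.ble (nat_lit 712) i)) (@Bool.rec (fun _ => ℕ) (@Bool.rec (fun _ => ℕ) (@Bool.rec (fun _ => ℕ) (@Bool.rec (fun _ => ℕ) rb720 rb721 (Nat.ble (nat_lit 721) i)) (@Bool.rec (fun _ => ℕ) rb722 rb723 (Nat.ble (nat_lit 723) i)) (Nat.ble (nat_lit 722) i)) (@Bool.rec (fun _ => ℕ) (@Bool.rec (fun _ => ℕ) rb724 rb725 (Nat.ble (nat_lit 725) i)) (@Bool.rec (fun _ => ℕ) rb726 rb727 (Nat.ble (nat_lit 727) i)) (Nat.ble (nat_lit 726) i)) (Nat.ble (nat_lit 724) i)) (@Bool.rec (fun _ => ℕ) (@Bool.rec (fun _ => ℕ) (@Bool.rec (fun _ => ℕ) rb728 rb729 (Nat.ble (nat_lit 729) i)) (@Bool.rec (fun _ => ℕ) rb730 rb731 (Nat.ble (nat_lit 731) i)) (Nat.ble (nat_lit 730) i)) (@Bool.rec (fun _ => ℕ) (@Bool.rec (fun _ => ℕ) rb732 rb733 (Nat.ble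 (nat_lit 733) i)) (@Bool.rec (fun _ => ℕ) rb734 rb735 (Nat.ble (nat_lit 735) i)) (Nat.ble (nat_lit 734) i)) (Nat.ble (nat_lit 732) i)) (Nat.ble (nat_lit 728) i)) (Nat.ble (nat_lit 720) i))

def rowBlk_n0_23 (i : ℕ) : ℕ := (@Bool.rec (fun _ => ℕ) (@Bool.rec (fun _ => ℕ) (@Bool.rec (fun _ => ℕ) (@Bool.rec (fun _ => ℕ) (@Bool.rec (fun _ => ℕ) rb736 rb737 (Nat.ble (nat_lit 737) i)) (@Bool.rec (fun _ => ℕ) rb738 rb739 (Nat.ble (nat_lit 739) i)) (Nat.ble (nat_lit 738) i)) (@Bool.rec (fun _ => ℕ) (@Bool.rec (fun _ => ℕ) rb740 rb741 (Nat.ble (nat_lit 741) i)) (@Bool.rec (fun _ => ℕ) rb742 rb743 (Nat.ble (nat_lit 743) i)) (Nat.ble (nat_lit 742) i)) (Nat.ble (nat_lit 740) i)) (@Bool.rec (fun _ => ℕ) (@Bool.rec (fun _ => ℕ) (@Bool.rec (fun _ => ℕ) rb744 rb745 (Nat.ble (nat_lit 745) i)) (@Bool.rec (fun _ =>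 ℕ) rb746 rb747 (Nat.ble (nat_lit 747) i)) (Nat.ble (nat_lit 746) i)) (@Bool.rec (fun _ => ℕ) (@Bool.rec (fun _ => ℕ) rb748 rb749 (Nat.ble (nat_lit 749) i)) (@Bool.rec (fun _ => ℕ) rb750 rb751 (Nat.ble (nat_lit 751) i)) (Nat.ble (nat_lit 750) i)) (Nat.ble (nat_lit 748) i)) (Nat.ble (nat_lit 744) i)) (@Bool.rec (fun _ => ℕ) (@Bool.rec (fun _ => ℕ) (@Bool.rec (fun _ => ℕ) (@Bool.rec (fun _ => ℕ) rb752 rb753 (Nat.ble (nat_lit 753) i)) (@Bool.rec (fun _ => ℕ) rb754 rb755 (Nat.ble (nat_lit 755) i)) (Nat.ble (nat_lit 754) i)) (@Bool.rec (fun _ => ℕ) (@Bool.rec (fun _ => ℕ) rb756 rb757 (Nat.ble (nat_lit 757) i)) (@Bool.rec (fun _ => ℕ) rb758 rb759 (Nat.ble (nat_lit 759) i)) (Nat.ble (nat_lit 758) i)) (Nat.ble (nat_lit 756) i)) (@Bool.rec (fun _ => ℕ) (@Bool.rec (fun _ => ℕ) (@Bool.rec (fun _ => ℕ) rb760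 rb761 (Nat.ble (nat_lit 761) i)) (@Bool.rec (fun _ => ℕ) rb762 rb763 (Nat.ble (nat_lit 763) i)) (Nat.ble (nat_lit 762) i)) (@Bool.rec (fun _ => ℕ) (@Bool.rec (fun _ => ℕ) rb764 rb765 (Nat.ble (nat_lit 765) i)) (@Bool.rec (fun _ => ℕ) rb766 rb767 (Nat.ble (nat_lit 767) i)) (Nat.ble (nat_lit 766) i)) (Nat.ble (nat_lit 764) i)) (Nat.ble (nat_lit 760) i)) (Nat.ble (nat_lit 752) i))

def rowBlk_n0_24 (i : ℕ) : ℕ := (@Bool.rec (fun _ => ℕ) (@Bool.rec (fun _ => ℕ) (@Bool.rec (fun _ => ℕ) (@Bool.rec (fun _ => ℕ) (@Bool.rec (fun _ => ℕ) rb768 rb769 (Nat.ble (nat_lit 769) i)) (@Bool.rec (fun _ => ℕ) rb770 rb771 (Nat.ble (nat_lit 771) i)) (Nat.ble (nat_lit 770) i)) (@Bool.rec (fun _ => ℕ) (@Bool.rec (fun _ => ℕ) rb772 rb773 (Nat.ble (nat_lit 773) i)) (@Bool.rec (fun _ => ℕ) rb774 rb775 (Nat.ble (nat_lit 775)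 i)) (Nat.ble (nat_lit 774) i)) (Nat.ble (nat_lit 772) i)) (@Bool.rec (fun _ => ℕ) (@Bool.rec (fun _ => ℕ) (@Bool.rec (fun _ => ℕ) rb776 rb777 (Nat.ble (nat_lit 777) i)) (@Bool.rec (fun _ => ℕ) rb778 rb779 (Nat.ble (nat_lit 779) i)) (Nat.ble (nat_lit 778) i)) (@Bool.rec (fun _ => ℕ) (@Bool.rec (fun _ => ℕ) rb780 rb781 (Nat.ble (nat_lit 781) i)) (@Bool.rec (fun _ => ℕ) rb782 rb783 (Nat.ble (nat_lit 783) i)) (Nat.ble (nat_lit 782) i)) (Nat.ble (nat_lit 780) i)) (Nat.ble (nat_lit 776) i)) (@Bool.rec (fun _ => ℕ) (@Bool.rec (fun _ => ℕ) (@Bool.rec (fun _ => ℕ) (@Bool.rec (fun _ => ℕ) rb784 rb785 (Nat.ble (nat_lit 785) i)) (@Bool.rec (fun _ => ℕ) rb786 rb787 (Nat.ble (nat_lit 787) i)) (Nat.ble (nat_lit 786) i)) (@Bool.rec (fun _ => ℕ) (@Bool.rec (fun _ => ℕ) rb788 rb789 (Nat.ble (nat_lit 789) i)) (@Bool.rec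 (fun _ => ℕ) rb790 rb791 (Nat.ble (nat_lit 791) i)) (Nat.ble (nat_lit 790) i)) (Nat.ble (nat_lit 788) i)) (@Bool.rec (fun _ => ℕ) (@Bool.rec (fun _ => ℕ) (@Bool.rec (fun _ => ℕ) rb792 rb793 (Nat.ble (nat_lit 793) i)) (@Bool.rec (fun _ => ℕ) rb794 rb795 (Nat.ble (nat_lit 795) i)) (Nat.ble (nat_lit 794) i)) (@Bool.rec (fun _ => ℕ) (@Bool.rec (fun _ => ℕ) rb796 rb797 (Nat.ble (nat_lit 797) i)) (@Bool.rec (fun _ => ℕ) rb798 rb799 (Nat.ble (nat_lit 799) i)) (Nat.ble (nat_lit 798) i)) (Nat.ble (nat_lit 796) i)) (Nat.ble (nat_lit 792) i)) (Nat.ble (nat_lit 784) i))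

def rowBlk_n0_25 (i : ℕ) : ℕ := (@Bool.rec (fun _ => ℕ) (@Bool.rec (fun _ => ℕ) (@Bool.rec (fun _ => ℕ) (@Bool.rec (fun _ => ℕ) (@Bool.rec (fun _ => ℕ) rb800 rb801 (Nat.ble (nat_lit 801) i)) (@Bool.rec (fun _ => ℕ) rb802 rb803 (Nat.ble (nat_lit 803) i)) (Nat.ble (nat_lit 802) i)) (@Bool.rec (fun _ => ℕ) (@Bool.rec (fun _ => ℕ) rb804 rb805 (Nat.ble (nat_lit 805) i)) (@Bool.rec (fun _ => ℕ) rb806 rb807 (Nat.ble (nat_lit 807) i)) (Nat.ble (nat_lit 806) i)) (Nat.ble (nat_lit 804) i)) (@Bool.rec (fun _ => ℕ) (@Bool.rec (fun _ => ℕ) (@Bool.rec (fun _ => ℕ) rb808 rb809 (Nat.ble (nat_lit 809) i)) (@Bool.rec (fun _ => ℕ) rb810 rb811 (Nat.ble (nat_lit 811) i)) (Nat.ble (nat_lit 810) i)) (@Bool.rec (fun _ => ℕ) (@Bool.rec (fun _ => ℕ) rb812 rb813 (Nat.ble (nat_lit 813) i)) (@Bool.rec (fun _ => ℕ) rb814 rb815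 (Nat.ble (nat_lit 815) i)) (Nat.ble (nat_lit 814) i)) (Nat.ble (nat_lit 812) i)) (Nat.ble (nat_lit 808) i)) (@Bool.rec (fun _ => ℕ) (@Bool.rec (fun _ => ℕ) (@Bool.rec (fun _ => ℕ) (@Bool.rec (fun _ => ℕ) rb816 rb817 (Nat.ble (nat_lit 817) i)) (@Bool.rec (fun _ => ℕ) rb818 rb819 (Nat.ble (nat_lit 819) i)) (Nat.ble (nat_lit 818) i)) (@Bool.rec (fun _ => ℕ) (@Bool.rec (fun _ => ℕ) rb820 rb821 (Nat.ble (nat_lit 821) i)) (@Bool.rec (fun _ => ℕ) rb822 rb823 (Nat.ble (nat_lit 823) i)) (Nat.ble (nat_lit 822) i)) (Nat.ble (nat_lit 820) i)) (@Bool.rec (fun _ => ℕ) (@Bool.rec (fun _ => ℕ) (@Bool.rec (fun _ => ℕ) rb824 rb825 (Nat.ble (nat_lit 825) i)) (@Bool.rec (fun _ => ℕ) rb826 rb827 (Nat.ble (nat_lit 827) i)) (Nat.ble (nat_lit 826) i)) (@Bool.rec (fun _ => ℕ) (@Bool.rec (fun _ => ℕ) rb828 rb829 (Nat.ble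 (nat_lit 829) i)) (@Bool.rec (fun _ => ℕ) rb830 rb831 (Nat.ble (nat_lit 831) i)) (Nat.ble (nat_lit 830) i)) (Nat.ble (nat_lit 828) i)) (Nat.ble (nat_lit 824) i)) (Nat.ble (nat_lit 816) i))

def rowBlk_n0_26 (i : ℕ) : ℕ := (@Bool.rec (fun _ => ℕ) (@Bool.rec (fun _ => ℕ) (@Bool.rec (fun _ => ℕ) (@Bool.rec (fun _ => ℕ) (@Bool.rec (fun _ => ℕ) rb832 rb833 (Nat.ble (nat_lit 833) i)) (@Bool.rec (fun _ => ℕ) rb834 rb835 (Nat.ble (nat_lit 835) i)) (Nat.ble (nat_lit 834) i)) (@Bool.rec (fun _ => ℕ) (@Bool.rec (fun _ => ℕ) rb836 rb837 (Nat.ble (nat_lit 837) i)) (@Bool.rec (fun _ => ℕ) rb838 rb839 (Nat.ble (nat_lit 839) i)) (Nat.ble (nat_lit 838) i)) (Nat.ble (nat_lit 836) i)) (@Bool.rec (fun _ => ℕ) (@Bool.rec (fun _ => ℕ) (@Bool.rec (fun _ => ℕ) rb840 rb841 (Nat.ble (nat_lit 841) i)) (@Bool.rec (fun _ =>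 ℕ) rb842 rb843 (Nat.ble (nat_lit 843) i)) (Nat.ble (nat_lit 842) i)) (@Bool.rec (fun _ => ℕ) (@Bool.rec (fun _ => ℕ) rb844 rb845 (Nat.ble (nat_lit 845) i)) (@Bool.rec (fun _ => ℕ) rb846 rb847 (Nat.ble (nat_lit 847) i)) (Nat.ble (nat_lit 846) i)) (Nat.ble (nat_lit 844) i)) (Nat.ble (nat_lit 840) i)) (@Bool.rec (fun _ => ℕ) (@Bool.rec (fun _ => ℕ) (@Bool.rec (fun _ => ℕ) (@Bool.rec (fun _ => ℕ) rb848 rb849 (Nat.ble (nat_lit 849) i)) (@Bool.rec (fun _ => ℕ) rb850 rb851 (Nat.ble (nat_lit 851) i)) (Nat.ble (nat_lit 850) i)) (@Bool.rec (fun _ => ℕ) (@Bool.rec (fun _ => ℕ) rb852 rb853 (Nat.ble (nat_lit 853) i)) (@Bool.rec (fun _ => ℕ) rb854 rb855 (Nat.ble (nat_lit 855) i)) (Nat.ble (nat_lit 854) i)) (Nat.ble (nat_lit 852) i)) (@Bool.rec (fun _ => ℕ) (@Bool.rec (fun _ => ℕ) (@Bool.rec (fun _ => ℕ) rb856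 rb857 (Nat.ble (nat_lit 857) i)) (@Bool.rec (fun _ => ℕ) rb858 rb859 (Nat.ble (nat_lit 859) i)) (Nat.ble (nat_lit 858) i)) (@Bool.rec (fun _ => ℕ) (@Bool.rec (fun _ => ℕ) rb860 rb861 (Nat.ble (nat_lit 861) i)) (@Bool.rec (fun _ => ℕ) rb862 rb863 (Nat.ble (nat_lit 863) i)) (Nat.ble (nat_lit 862) i)) (Nat.ble (nat_lit 860) i)) (Nat.ble (nat_lit 856) i)) (Nat.ble (nat_lit 848) i))

def rowBlk_n0_27 (i : ℕ) : ℕ := (@Bool.rec (fun _ => ℕ) (@Bool.rec (fun _ => ℕ) (@Bool.rec (fun _ => ℕ) (@Bool.rec (fun _ => ℕ) (@Bool.rec (fun _ => ℕ) rb864 rb865 (Nat.ble (nat_lit 865) i)) (@Bool.rec (fun _ => ℕ) rb866 rb867 (Nat.ble (nat_lit 867) i)) (Nat.ble (nat_lit 866) i)) (@Bool.rec (fun _ => ℕ) (@Bool.rec (fun _ => ℕ) rb868 rb869 (Nat.ble (nat_lit 869) i)) (@Bool.rec (fun _ => ℕ) rb870 rb871 (Nat.ble (nat_lit 871)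 i)) (Nat.ble (nat_lit 870) i)) (Nat.ble (nat_lit 868) i)) (@Bool.rec (fun _ => ℕ) (@Bool.rec (fun _ => ℕ) (@Bool.rec (fun _ => ℕ) rb872 rb873 (Nat.ble (nat_lit 873) i)) (@Bool.rec (fun _ => ℕ) rb874 rb875 (Nat.ble (nat_lit 875) i)) (Nat.ble (nat_lit 874) i)) (@Bool.rec (fun _ => ℕ) (@Bool.rec (fun _ => ℕ) rb876 rb877 (Nat.ble (nat_lit 877) i)) (@Bool.rec (fun _ => ℕ) rb878 rb879 (Nat.ble (nat_lit 879) i)) (Nat.ble (nat_lit 878) i)) (Nat.ble (nat_lit 876) i)) (Nat.ble (nat_lit 872) i)) (@Bool.rec (fun _ => ℕ) (@Bool.rec (fun _ => ℕ) (@Bool.rec (fun _ => ℕ) (@Bool.rec (fun _ => ℕ) rb880 rb881 (Nat.ble (nat_lit 881) i)) (@Bool.rec (fun _ => ℕ) rb882 rb883 (Nat.ble (nat_lit 883) i)) (Nat.ble (nat_lit 882) i)) (@Bool.rec (fun _ => ℕ) (@Bool.rec (fun _ => ℕ) rb884 rb885 (Nat.ble (nat_lit 885) i)) (@Bool.rec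 (fun _ => ℕ) rb886 rb887 (Nat.ble (nat_lit 887) i)) (Nat.ble (nat_lit 886) i)) (Nat.ble (nat_lit 884) i)) (@Bool.rec (fun _ => ℕ) (@Bool.rec (fun _ => ℕ) (@Bool.rec (fun _ => ℕ) rb888 rb889 (Nat.ble (nat_lit 889) i)) (@Bool.rec (fun _ => ℕ) rb890 rb891 (Nat.ble (nat_lit 891) i)) (Nat.ble (nat_lit 890) i)) (@Bool.rec (fun _ => ℕ) (@Bool.rec (fun _ => ℕ) rb892 rb893 (Nat.ble (nat_lit 893) i)) (@Bool.rec (fun _ => ℕ) rb894 rb895 (Nat.ble (nat_lit 895) i)) (Nat.ble (nat_lit 894) i)) (Nat.ble (nat_lit 892) i)) (Nat.ble (nat_lit 888) i)) (Nat.ble (nat_lit 880) i))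

def rowBlk_n0_28 (i : ℕ) : ℕ := (@Bool.rec (fun _ => ℕ) (@Bool.rec (fun _ => ℕ) (@Bool.rec (fun _ => ℕ) (@Bool.rec (fun _ => ℕ) (@Bool.rec (fun _ => ℕ) rb896 rb897 (Nat.ble (nat_lit 897) i)) (@Bool.rec (fun _ => ℕ) rb898 rb899 (Nat.ble (nat_lit 899) i)) (Nat.ble (nat_lit 898) i)) (@Bool.rec (fun _ => ℕ) (@Bool.rec (fun _ => ℕ) rb900 rb901 (Nat.ble (nat_lit 901) i)) (@Bool.rec (fun _ => ℕ) rb902 rb903 (Nat.ble (nat_lit 903) i)) (Nat.ble (nat_lit 902) i)) (Nat.ble (nat_lit 900) i)) (@Bool.rec (fun _ => ℕ) (@Bool.rec (fun _ => ℕ) (@Bool.rec (fun _ => ℕ) rb904 rb905 (Nat.ble (nat_lit 905) i)) (@Bool.rec (fun _ => ℕ) rb906 rb907 (Nat.ble (nat_lit 907) i)) (Nat.ble (nat_lit 906) i)) (@Bool.rec (fun _ => ℕ) (@Bool.rec (fun _ => ℕ) rb908 rb909 (Nat.ble (nat_lit 909) i)) (@Bool.rec (fun _ => ℕ) rb910 rb911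 (Nat.ble (nat_lit 911) i)) (Nat.ble (nat_lit 910) i)) (Nat.ble (nat_lit 908) i)) (Nat.ble (nat_lit 904) i)) (@Bool.rec (fun _ => ℕ) (@Bool.rec (fun _ => ℕ) (@Bool.rec (fun _ => ℕ) (@Bool.rec (fun _ => ℕ) rb912 rb913 (Nat.ble (nat_lit 913) i)) (@Bool.rec (fun _ => ℕ) rb914 rb915 (Nat.ble (nat_lit 915) i)) (Nat.ble (nat_lit 914) i)) (@Bool.rec (fun _ => ℕ) (@Bool.rec (fun _ => ℕ) rb916 rb917 (Nat.ble (nat_lit 917) i)) (@Bool.rec (fun _ => ℕ) rb918 rb919 (Nat.ble (nat_lit 919) i)) (Nat.ble (nat_lit 918) i)) (Nat.ble (nat_lit 916) i)) (@Bool.rec (fun _ => ℕ) (@Bool.rec (fun _ => ℕ) (@Bool.rec (fun _ => ℕ) rb920 rb921 (Nat.ble (nat_lit 921) i)) (@Bool.rec (fun _ => ℕ) rb922 rb923 (Nat.ble (nat_lit 923) i)) (Nat.ble (nat_lit 922) i)) (@Bool.rec (fun _ => ℕ) (@Bool.rec (fun _ => ℕ) rb924 rb925 (Nat.ble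 (nat_lit 925) i)) (@Bool.rec (fun _ => ℕ) rb926 rb927 (Nat.ble (nat_lit 927) i)) (Nat.ble (nat_lit 926) i)) (Nat.ble (nat_lit 924) i)) (Nat.ble (nat_lit 920) i)) (Nat.ble (nat_lit 912) i))

def rowBlk_n0_29 (i : ℕ) : ℕ := (@Bool.rec (fun _ => ℕ) (@Bool.rec (fun _ => ℕ) (@Bool.rec (fun _ => ℕ) (@Bool.rec (fun _ => ℕ) (@Bool.rec (fun _ => ℕ) rb928 rb929 (Nat.ble (nat_lit 929) i)) (@Bool.rec (fun _ => ℕ) rb930 rb931 (Nat.ble (nat_lit 931) i)) (Nat.ble (nat_lit 930) i)) (@Bool.rec (fun _ => ℕ) (@Bool.rec (fun _ => ℕ) rb932 rb933 (Nat.ble (nat_lit 933) i)) (@Bool.rec (fun _ => ℕ) rb934 rb935 (Nat.ble (nat_lit 935) i)) (Nat.ble (nat_lit 934) i)) (Nat.ble (nat_lit 932) i)) (@Bool.rec (fun _ => ℕ) (@Bool.rec (fun _ => ℕ) (@Bool.rec (fun _ => ℕ) rb936 rb937 (Nat.ble (nat_lit 937) i)) (@Bool.rec (fun _ =>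 ℕ) rb938 rb939 (Nat.ble (nat_lit 939) i)) (Nat.ble (nat_lit 938) i)) (@Bool.rec (fun _ => ℕ) (@Bool.rec (fun _ => ℕ) rb940 rb941 (Nat.ble (nat_lit 941) i)) (@Bool.rec (fun _ => ℕ) rb942 rb943 (Nat.ble (nat_lit 943) i)) (Nat.ble (nat_lit 942) i)) (Nat.ble (nat_lit 940) i)) (Nat.ble (nat_lit 936) i)) (@Bool.rec (fun _ => ℕ) (@Bool.rec (fun _ => ℕ) (@Bool.rec (fun _ => ℕ) (@Bool.rec (fun _ => ℕ) rb944 rb945 (Nat.ble (nat_lit 945) i)) (@Bool.rec (fun _ => ℕ) rb946 rb947 (Nat.ble (nat_lit 947) i)) (Nat.ble (nat_lit 946) i)) (@Bool.rec (fun _ => ℕ) (@Bool.rec (fun _ => ℕ) rb948 rb949 (Nat.ble (nat_lit 949) i)) (@Bool.rec (fun _ => ℕ) rb950 rb951 (Nat.ble (nat_lit 951) i)) (Nat.ble (nat_lit 950) i)) (Nat.ble (nat_lit 948) i)) (@Bool.rec (fun _ => ℕ) (@Bool.rec (fun _ => ℕ) (@Bool.rec (fun _ => ℕ) rb952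 rb953 (Nat.ble (nat_lit 953) i)) (@Bool.rec (fun _ => ℕ) rb954 rb955 (Nat.ble (nat_lit 955) i)) (Nat.ble (nat_lit 954) i)) (@Bool.rec (fun _ => ℕ) (@Bool.rec (fun _ => ℕ) rb956 rb957 (Nat.ble (nat_lit 957) i)) (@Bool.rec (fun _ => ℕ) rb958 rb959 (Nat.ble (nat_lit 959) i)) (Nat.ble (nat_lit 958) i)) (Nat.ble (nat_lit 956) i)) (Nat.ble (nat_lit 952) i)) (Nat.ble (nat_lit 944) i))

def rowBlk_n0_30 (i : ℕ) : ℕ := (@Bool.rec (fun _ => ℕ) (@Bool.rec (fun _ => ℕ) (@Bool.rec (fun _ => ℕ) (@Bool.rec (fun _ => ℕ) (@Bool.rec (fun _ => ℕ) rb960 rb961 (Nat.ble (nat_lit 961) i)) (@Bool.rec (fun _ => ℕ) rb962 rb963 (Nat.ble (nat_lit 963) i)) (Nat.ble (nat_lit 962) i)) (@Bool.rec (fun _ => ℕ) (@Bool.rec (fun _ => ℕ) rb964 rb965 (Nat.ble (nat_lit 965) i)) (@Bool.rec (fun _ => ℕ) rb966 rb967 (Nat.ble (nat_lit 967)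 i)) (Nat.ble (nat_lit 966) i)) (Nat.ble (nat_lit 964) i)) (@Bool.rec (fun _ => ℕ) (@Bool.rec (fun _ => ℕ) (@Bool.rec (fun _ => ℕ) rb968 rb969 (Nat.ble (nat_lit 969) i)) (@Bool.rec (fun _ => ℕ) rb970 rb971 (Nat.ble (nat_lit 971) i)) (Nat.ble (nat_lit 970) i)) (@Bool.rec (fun _ => ℕ) (@Bool.rec (fun _ => ℕ) rb972 rb973 (Nat.ble (nat_lit 973) i)) (@Bool.rec (fun _ => ℕ) rb974 rb975 (Nat.ble (nat_lit 975) i)) (Nat.ble (nat_lit 974) i)) (Nat.ble (nat_lit 972) i)) (Nat.ble (nat_lit 968) i)) (@Bool.rec (fun _ => ℕ) (@Bool.rec (fun _ => ℕ) (@Bool.rec (fun _ => ℕ) (@Bool.rec (fun _ => ℕ) rb976 rb977 (Nat.ble (nat_lit 977) i)) (@Bool.rec (fun _ => ℕ) rb978 rb979 (Nat.ble (nat_lit 979) i)) (Nat.ble (nat_lit 978) i)) (@Bool.rec (fun _ => ℕ) (@Bool.rec (fun _ => ℕ) rb980 rb981 (Nat.ble (nat_lit 981) i)) (@Bool.rec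 (fun _ => ℕ) rb982 rb983 (Nat.ble (nat_lit 983) i)) (Nat.ble (nat_lit 982) i)) (Nat.ble (nat_lit 980) i)) (@Bool.rec (fun _ => ℕ) (@Bool.rec (fun _ => ℕ) (@Bool.rec (fun _ => ℕ) rb984 rb985 (Nat.ble (nat_lit 985) i)) (@Bool.rec (fun _ => ℕ) rb986 rb987 (Nat.ble (nat_lit 987) i)) (Nat.ble (nat_lit 986) i)) (@Bool.rec (fun _ => ℕ) (@Bool.rec (fun _ => ℕ) rb988 rb989 (Nat.ble (nat_lit 989) i)) (@Bool.rec (fun _ => ℕ) rb990 rb991 (Nat.ble (nat_lit 991) i)) (Nat.ble (nat_lit 990) i)) (Nat.ble (nat_lit 988) i)) (Nat.ble (nat_lit 984) i)) (Nat.ble (nat_lit 976) i))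

def rowBlk_n0_31 (i : ℕ) : ℕ := (@Bool.rec (fun _ => ℕ) (@Bool.rec (fun _ => ℕ) (@Bool.rec (fun _ => ℕ) (@Bool.rec (fun _ => ℕ) (@Bool.rec (fun _ => ℕ) rb992 rb993 (Nat.ble (nat_lit 993) i)) (@Bool.rec (fun _ => ℕ) rb994 rb995 (Nat.ble (nat_lit 995) i)) (Nat.ble (nat_lit 994) i)) (@Bool.rec (fun _ => ℕ) (@Bool.rec (fun _ => ℕ) rb996 rb997 (Nat.ble (nat_lit 997) i)) (@Bool.rec (fun _ => ℕ) rb998 rb999 (Nat.ble (nat_lit 999) i)) (Nat.ble (nat_lit 998) i)) (Nat.ble (nat_lit 996) i)) (@Bool.rec (fun _ => ℕ) (@Bool.rec (fun _ => ℕ) (@Bool.rec (fun _ => ℕ) rb1000 rb1001 (Nat.ble (nat_lit 1001) i)) (@Bool.rec (fun _ => ℕ) rb1002 rb1003 (Nat.ble (nat_lit 1003) i)) (Nat.ble (nat_lit 1002) i)) (@Bool.rec (fun _ => ℕ) (@Bool.rec (fun _ => ℕ) rb1004 rb1005 (Nat.ble (nat_lit 1005) i)) (@Bool.rec (fun _ => ℕ)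 rb1006 rb1007 (Nat.ble (nat_lit 1007) i)) (Nat.ble (nat_lit 1006) i)) (Nat.ble (nat_lit 1004) i)) (Nat.ble (nat_lit 1000) i)) (@Bool.rec (fun _ => ℕ) (@Bool.rec (fun _ => ℕ) (@Bool.rec (fun _ => ℕ) (@Bool.rec (fun _ => ℕ) rb1008 rb1009 (Nat.ble (nat_lit 1009) i)) (@Bool.rec (fun _ => ℕ) rb1010 rb1011 (Nat.ble (nat_lit 1011) i)) (Nat.ble (nat_lit 1010) i)) (@Bool.rec (fun _ => ℕ) (@Bool.rec (fun _ => ℕ) rb1012 rb1013 (Nat.ble (nat_lit 1013) i)) (@Bool.rec (fun _ => ℕ) rb1014 rb1015 (Nat.ble (nat_lit 1015) i)) (Nat.ble (nat_lit 1014) i)) (Nat.ble (nat_lit 1012) i)) (@Bool.rec (fun _ => ℕ) (@Bool.rec (fun _ => ℕ) (@Bool.rec (fun _ => ℕ) rb1016 rb1017 (Nat.ble (nat_lit 1017) i)) (@Bool.rec (fun _ => ℕ) rb1018 rb1019 (Nat.ble (nat_lit 1019) i)) (Nat.ble (nat_lit 1018) i)) (@Bool.rec (fun _ => ℕ) (@Bool.rec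 (fun _ => ℕ) rb1020 rb1021 (Nat.ble (nat_lit 1021) i)) (@Bool.rec (fun _ => ℕ) rb1022 rb1023 (Nat.ble (nat_lit 1023) i)) (Nat.ble (nat_lit 1022) i)) (Nat.ble (nat_lit 1020) i)) (Nat.ble (nat_lit 1016) i)) (Nat.ble (nat_lit 1008) i))

def rowBlk_n0_32 (i : ℕ) : ℕ := (@Bool.rec (fun _ => ℕ) (@Bool.rec (fun _ => ℕ) (@Bool.rec (fun _ => ℕ) (@Bool.rec (fun _ => ℕ) (@Bool.rec (fun _ => ℕ) rb1024 rb1025 (Nat.ble (nat_lit 1025) i)) (@Bool.rec (fun _ => ℕ) rb1026 rb1027 (Nat.ble (nat_lit 1027) i)) (Nat.ble (nat_lit 1026) i)) (@Bool.rec (fun _ => ℕ) (@Bool.rec (fun _ => ℕ) rb1028 rb1029 (Nat.ble (nat_lit 1029) i)) (@Bool.rec (fun _ => ℕ) rb1030 rb1031 (Nat.ble (nat_lit 1031) i)) (Nat.ble (nat_lit 1030) i)) (Nat.ble (nat_lit 1028) i)) (@Bool.rec (fun _ => ℕ) (@Bool.rec (fun _ => ℕ) (@Bool.rec (fun _ => ℕ) rb1032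 rb1033 (Nat.ble (nat_lit 1033) i)) (@Bool.rec (fun _ => ℕ) rb1034 rb1035 (Nat.ble (nat_lit 1035) i)) (Nat.ble (nat_lit 1034) i)) (@Bool.rec (fun _ => ℕ) (@Bool.rec (fun _ => ℕ) rb1036 rb1037 (Nat.ble (nat_lit 1037) i)) (@Bool.rec (fun _ => ℕ) rb1038 rb1039 (Nat.ble (nat_lit 1039) i)) (Nat.ble (nat_lit 1038) i)) (Nat.ble (nat_lit 1036) i)) (Nat.ble (nat_lit 1032) i)) (@Bool.rec (fun _ => ℕ) (@Bool.rec (fun _ => ℕ) (@Bool.rec (fun _ => ℕ) (@Bool.rec (fun _ => ℕ) rb1040 rb1041 (Nat.ble (nat_lit 1041) i)) (@Bool.rec (fun _ => ℕ) rb1042 rb1043 (Nat.ble (nat_lit 1043) i)) (Nat.ble (nat_lit 1042) i)) (@Bool.rec (fun _ => ℕ) (@Bool.rec (fun _ => ℕ) rb1044 rb1045 (Nat.ble (nat_lit 1045) i)) (@Bool.rec (fun _ => ℕ) rb1046 rb1047 (Nat.ble (nat_lit 1047) i)) (Nat.ble (nat_lit 1046) i)) (Nat.ble (nat_lit 1044)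 i)) (@Bool.rec (fun _ => ℕ) (@Bool.rec (fun _ => ℕ) (@Bool.rec (fun _ => ℕ) rb1048 rb1049 (Nat.ble (nat_lit 1049) i)) (@Bool.rec (fun _ => ℕ) rb1050 rb1051 (Nat.ble (nat_lit 1051) i)) (Nat.ble (nat_lit 1050) i)) (@Bool.rec (fun _ => ℕ) (@Bool.rec (fun _ => ℕ) rb1052 rb1053 (Nat.ble (nat_lit 1053) i)) (@Bool.rec (fun _ => ℕ) rb1054 rb1055 (Nat.ble (nat_lit 1055) i)) (Nat.ble (nat_lit 1054) i)) (Nat.ble (nat_lit 1052) i)) (Nat.ble (nat_lit 1048) i)) (Nat.ble (nat_lit 1040) i))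

def rowBlk_n0_33 (i : ℕ) : ℕ := (@Bool.rec (fun _ => ℕ) (@Bool.rec (fun _ => ℕ) (@Bool.rec (fun _ => ℕ) (@Bool.rec (fun _ => ℕ) (@Bool.rec (fun _ => ℕ) rb1056 rb1057 (Nat.ble (nat_lit 1057) i)) (@Bool.rec (fun _ => ℕ) rb1058 rb1059 (Nat.ble (nat_lit 1059) i)) (Nat.ble (nat_lit 1058) i)) (@Bool.rec (fun _ => ℕ) (@Bool.rec (fun _ => ℕ) rb1060 rb1061 (Nat.ble (nat_lit 1061) i)) (@Bool.rec (fun _ => ℕ) rb1062 rb1063 (Nat.ble (nat_lit 1063) i)) (Nat.ble (nat_lit 1062) i)) (Nat.ble (nat_lit 1060) i)) (@Bool.rec (fun _ => ℕ) (@Bool.rec (fun _ => ℕ) (@Bool.rec (fun _ => ℕ) rb1064 rb1065 (Nat.ble (nat_lit 1065) i)) (@Bool.rec (fun _ => ℕ) rb1066 rb1067 (Nat.ble (nat_lit 1067) i)) (Nat.ble (nat_lit 1066) i)) (@Bool.rec (fun _ => ℕ) (@Bool.rec (fun _ => ℕ) rb1068 rb1069 (Nat.ble (nat_lit 1069) i)) (@Bool.rec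 (fun _ => ℕ) rb1070 rb1071 (Nat.ble (nat_lit 1071) i)) (Nat.ble (nat_lit 1070) i)) (Nat.ble (nat_lit 1068) i)) (Nat.ble (nat_lit 1064) i)) (@Bool.rec (fun _ => ℕ) (@Bool.rec (fun _ => ℕ) (@Bool.rec (fun _ => ℕ) (@Bool.rec (fun _ => ℕ) rb1072 rb1073 (Nat.ble (nat_lit 1073) i)) (@Bool.rec (fun _ => ℕ) rb1074 rb1075 (Nat.ble (nat_lit 1075) i)) (Nat.ble (nat_lit 1074) i)) (@Bool.rec (fun _ => ℕ) (@Bool.rec (fun _ => ℕ) rb1076 rb1077 (Nat.ble (nat_lit 1077) i)) (@Bool.rec (fun _ => ℕ) rb1078 rb1079 (Nat.ble (nat_lit 1079) i)) (Nat.ble (nat_lit 1078) i)) (Nat.ble (nat_lit 1076) i)) (@Bool.rec (fun _ => ℕ) (@Bool.rec (fun _ => ℕ) (@Bool.rec (fun _ => ℕ) rb1080 rb1081 (Nat.ble (nat_lit 1081) i)) (@Bool.rec (fun _ => ℕ) rb1082 rb1083 (Nat.ble (nat_lit 1083) i)) (Nat.ble (nat_lit 1082) i)) (@Bool.rec (fun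 _ => ℕ) (@Bool.rec (fun _ => ℕ) rb1084 rb1085 (Nat.ble (nat_lit 1085) i)) (@Bool.rec (fun _ => ℕ) rb1086 rb1087 (Nat.ble (nat_lit 1087) i)) (Nat.ble (nat_lit 1086) i)) (Nat.ble (nat_lit 1084) i)) (Nat.ble (nat_lit 1080) i)) (Nat.ble (nat_lit 1072) i))

def rowBlk_n0_34 (i : ℕ) : ℕ := (@Bool.rec (fun _ => ℕ) (@Bool.rec (fun _ => ℕ) (@Bool.rec (fun _ => ℕ) (@Bool.rec (fun _ => ℕ) (@Bool.rec (fun _ => ℕ) rb1088 rb1089 (Nat.ble (nat_lit 1089) i)) (@Bool.rec (fun _ => ℕ) rb1090 rb1091 (Nat.ble (nat_lit 1091) i)) (Nat.ble (nat_lit 1090) i)) (@Bool.rec (fun _ => ℕ) (@Bool.rec (fun _ => ℕ) rb1092 rb1093 (Nat.ble (nat_lit 1093) i)) (@Bool.rec (fun _ => ℕ) rb1094 rb1095 (Nat.ble (nat_lit 1095) i)) (Nat.ble (nat_lit 1094) i)) (Nat.ble (nat_lit 1092) i)) (@Bool.rec (fun _ => ℕ) (@Bool.rec (fun _ => ℕ) (@Bool.rec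 (fun _ => ℕ) rb1096 rb1097 (Nat.ble (nat_lit 1097) i)) (@Bool.rec (fun _ => ℕ) rb1098 rb1099 (Nat.ble (nat_lit 1099) i)) (Nat.ble (nat_lit 1098) i)) (@Bool.rec (fun _ => ℕ) (@Bool.rec (fun _ => ℕ) rb1100 rb1101 (Nat.ble (nat_lit 1101) i)) (@Bool.rec (fun _ => ℕ) rb1102 rb1103 (Nat.ble (nat_lit 1103) i)) (Nat.ble (nat_lit 1102) i)) (Nat.ble (nat_lit 1100) i)) (Nat.ble (nat_lit 1096) i)) (@Bool.rec (fun _ => ℕ) (@Bool.rec (fun _ => ℕ) (@Bool.rec (fun _ => ℕ) (@Bool.rec (fun _ => ℕ) rb1104 rb1105 (Nat.ble (nat_lit 1105) i)) (@Bool.rec (fun _ => ℕ) rb1106 rb1107 (Nat.ble (nat_lit 1107) i)) (Nat.ble (nat_lit 1106) i)) (@Bool.rec (fun _ => ℕ) (@Bool.rec (fun _ => ℕ) rb1108 rb1109 (Nat.ble (nat_lit 1109) i)) (@Bool.rec (fun _ => ℕ) rb1110 rb1111 (Nat.ble (nat_lit 1111) i)) (Nat.ble (nat_lit 1110) i)) (Nat.ble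 (nat_lit 1108) i)) (@Bool.rec (fun _ => ℕ) (@Bool.rec (fun _ => ℕ) (@Bool.rec (fun _ => ℕ) rb1112 rb1113 (Nat.ble (nat_lit 1113) i)) (@Bool.rec (fun _ => ℕ) rb1114 rb1115 (Nat.ble (nat_lit 1115) i)) (Nat.ble (nat_lit 1114) i)) (@Bool.rec (fun _ => ℕ) (@Bool.rec (fun _ => ℕ) rb1116 rb1117 (Nat.ble (nat_lit 1117) i)) (@Bool.rec (fun _ => ℕ) rb1118 rb1119 (Nat.ble (nat_lit 1119) i)) (Nat.ble (nat_lit 1118) i)) (Nat.ble (nat_lit 1116) i)) (Nat.ble (nat_lit 1112) i)) (Nat.ble (nat_lit 1104) i))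

def rowBlk_n0_35 (i : ℕ) : ℕ := (@Bool.rec (fun _ => ℕ) (@Bool.rec (fun _ => ℕ) (@Bool.rec (fun _ => ℕ) (@Bool.rec (fun _ => ℕ) (@Bool.rec (fun _ => ℕ) rb1120 rb1121 (Nat.ble (nat_lit 1121) i)) (@Bool.rec (fun _ => ℕ) rb1122 rb1123 (Nat.ble (nat_lit 1123) i)) (Nat.ble (nat_lit 1122) i)) (@Bool.rec (fun _ => ℕ) (@Bool.rec (fun _ => ℕ) rb1124 rb1125 (Nat.ble (nat_lit 1125) i)) (@Bool.rec (fun _ => ℕ) rb1126 rb1127 (Nat.ble (nat_lit 1127) i)) (Nat.ble (nat_lit 1126) i)) (Nat.ble (nat_lit 1124) i)) (@Bool.rec (fun _ => ℕ) (@Bool.rec (fun _ => ℕ) (@Bool.rec (fun _ => ℕ) rb1128 rb1129 (Nat.ble (nat_lit 1129) i)) (@Bool.rec (fun _ => ℕ) rb1130 rb1131 (Nat.ble (nat_lit 1131) i)) (Nat.ble (nat_lit 1130) i)) (@Bool.rec (fun _ => ℕ) (@Bool.rec (fun _ => ℕ) rb1132 rb1133 (Nat.ble (nat_lit 1133) i)) (@Bool.rec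 (fun _ => ℕ) rb1134 rb1135 (Nat.ble (nat_lit 1135) i)) (Nat.ble (nat_lit 1134) i)) (Nat.ble (nat_lit 1132) i)) (Nat.ble (nat_lit 1128) i)) (@Bool.rec (fun _ => ℕ) (@Bool.rec (fun _ => ℕ) (@Bool.rec (fun _ => ℕ) (@Bool.rec (fun _ => ℕ) rb1136 rb1137 (Nat.ble (nat_lit 1137) i)) (@Bool.rec (fun _ => ℕ) rb1138 rb1139 (Nat.ble (nat_lit 1139) i)) (Nat.ble (nat_lit 1138) i)) (@Bool.rec (fun _ => ℕ) (@Bool.rec (fun _ => ℕ) rb1140 rb1141 (Nat.ble (nat_lit 1141) i)) (@Bool.rec (fun _ => ℕ) rb1142 rb1143 (Nat.ble (nat_lit 1143) i)) (Nat.ble (nat_lit 1142) i)) (Nat.ble (nat_lit 1140) i)) (@Bool.rec (fun _ => ℕ) (@Bool.rec (fun _ => ℕ) (@Bool.rec (fun _ => ℕ) rb1144 rb1145 (Nat.ble (nat_lit 1145) i)) (@Bool.rec (fun _ => ℕ) rb1146 rb1147 (Nat.ble (nat_lit 1147) i)) (Nat.ble (nat_lit 1146) i)) (@Bool.rec (fun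 _ => ℕ) (@Bool.rec (fun _ => ℕ) rb1148 rb1149 (Nat.ble (nat_lit 1149) i)) (@Bool.rec (fun _ => ℕ) rb1150 rb1151 (Nat.ble (nat_lit 1151) i)) (Nat.ble (nat_lit 1150) i)) (Nat.ble (nat_lit 1148) i)) (Nat.ble (nat_lit 1144) i)) (Nat.ble (nat_lit 1136) i))

def rowBlk_n0_36 (i : ℕ) : ℕ := (@Bool.rec (fun _ => ℕ) (@Bool.rec (fun _ => ℕ) (@Bool.rec (fun _ => ℕ) (@Bool.rec (fun _ => ℕ) (@Bool.rec (fun _ => ℕ) rb1152 rb1153 (Nat.ble (nat_lit 1153) i)) (@Bool.rec (fun _ => ℕ) rb1154 rb1155 (Nat.ble (nat_lit 1155) i)) (Nat.ble (nat_lit 1154) i)) (@Bool.rec (fun _ => ℕ) (@Bool.rec (fun _ => ℕ) rb1156 rb1157 (Nat.ble (nat_lit 1157) i)) (@Bool.rec (fun _ => ℕ) rb1158 rb1159 (Nat.ble (nat_lit 1159) i)) (Nat.ble (nat_lit 1158) i)) (Nat.ble (nat_lit 1156) i)) (@Bool.rec (fun _ => ℕ) (@Bool.rec (fun _ => ℕ) (@Bool.rec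 (fun _ => ℕ) rb1160 rb1161 (Nat.ble (nat_lit 1161) i)) (@Bool.rec (fun _ => ℕ) rb1162 rb1163 (Nat.ble (nat_lit 1163) i)) (Nat.ble (nat_lit 1162) i)) (@Bool.rec (fun _ => ℕ) (@Bool.rec (fun _ => ℕ) rb1164 rb1165 (Nat.ble (nat_lit 1165) i)) (@Bool.rec (fun _ => ℕ) rb1166 rb1167 (Nat.ble (nat_lit 1167) i)) (Nat.ble (nat_lit 1166) i)) (Nat.ble (nat_lit 1164) i)) (Nat.ble (nat_lit 1160) i)) (@Bool.rec (fun _ => ℕ) (@Bool.rec (fun _ => ℕ) (@Bool.rec (fun _ => ℕ) (@Bool.rec (fun _ => ℕ) rb1168 rb1169 (Nat.ble (nat_lit 1169) i)) (@Bool.rec (fun _ => ℕ) rb1170 rb1171 (Nat.ble (nat_lit 1171) i)) (Nat.ble (nat_lit 1170) i)) (@Bool.rec (fun _ => ℕ) (@Bool.rec (fun _ => ℕ) rb1172 rb1173 (Nat.ble (nat_lit 1173) i)) (@Bool.rec (fun _ => ℕ) rb1174 rb1175 (Nat.ble (nat_lit 1175) i)) (Nat.ble (nat_lit 1174) i)) (Nat.ble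 (nat_lit 1172) i)) (@Bool.rec (fun _ => ℕ) (@Bool.rec (fun _ => ℕ) (@Bool.rec (fun _ => ℕ) rb1176 rb1177 (Nat.ble (nat_lit 1177) i)) (@Bool.rec (fun _ => ℕ) rb1178 rb1179 (Nat.ble (nat_lit 1179) i)) (Nat.ble (nat_lit 1178) i)) (@Bool.rec (fun _ => ℕ) (@Bool.rec (fun _ => ℕ) rb1180 rb1181 (Nat.ble (nat_lit 1181) i)) (@Bool.rec (fun _ => ℕ) rb1182 rb1183 (Nat.ble (nat_lit 1183) i)) (Nat.ble (nat_lit 1182) i)) (Nat.ble (nat_lit 1180) i)) (Nat.ble (nat_lit 1176) i)) (Nat.ble (nat_lit 1168) i))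

def rowBlk_n0_37 (i : ℕ) : ℕ := (@Bool.rec (fun _ => ℕ) (@Bool.rec (fun _ => ℕ) (@Bool.rec (fun _ => ℕ) (@Bool.rec (fun _ => ℕ) (@Bool.rec (fun _ => ℕ) rb1184 rb1185 (Nat.ble (nat_lit 1185) i)) (@Bool.rec (fun _ => ℕ) rb1186 rb1187 (Nat.ble (nat_lit 1187) i)) (Nat.ble (nat_lit 1186) i)) (@Bool.rec (fun _ => ℕ) (@Bool.rec (fun _ => ℕ) rb1188 rb1189 (Nat.ble (nat_lit 1189) i)) (@Bool.rec (fun _ => ℕ) rb1190 rb1191 (Nat.ble (nat_lit 1191) i)) (Nat.ble (nat_lit 1190) i)) (Nat.ble (nat_lit 1188) i)) (@Bool.rec (fun _ => ℕ) (@Bool.rec (fun _ => ℕ) (@Bool.rec (fun _ => ℕ) rb1192 rb1193 (Nat.ble (nat_lit 1193) i)) (@Bool.rec (fun _ => ℕ) rb1194 rb1195 (Nat.ble (nat_lit 1195) i)) (Nat.ble (nat_lit 1194) i)) (@Bool.rec (fun _ => ℕ) (@Bool.rec (fun _ => ℕ) rb1196 rb1197 (Nat.ble (nat_lit 1197) i)) (@Bool.rec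 (fun _ => ℕ) rb1198 rb1199 (Nat.ble (nat_lit 1199) i)) (Nat.ble (nat_lit 1198) i)) (Nat.ble (nat_lit 1196) i)) (Nat.ble (nat_lit 1192) i)) (@Bool.rec (fun _ => ℕ) (@Bool.rec (fun _ => ℕ) (@Bool.rec (fun _ => ℕ) (@Bool.rec (fun _ => ℕ) rb1200 rb1201 (Nat.ble (nat_lit 1201) i)) (@Bool.rec (fun _ => ℕ) rb1202 rb1203 (Nat.ble (nat_lit 1203) i)) (Nat.ble (nat_lit 1202) i)) (@Bool.rec (fun _ => ℕ) (@Bool.rec (fun _ => ℕ) rb1204 rb1205 (Nat.ble (nat_lit 1205) i)) (@Bool.rec (fun _ => ℕ) rb1206 rb1207 (Nat.ble (nat_lit 1207) i)) (Nat.ble (nat_lit 1206) i)) (Nat.ble (nat_lit 1204) i)) (@Bool.rec (fun _ => ℕ) (@Bool.rec (fun _ => ℕ) (@Bool.rec (fun _ => ℕ) rb1208 rb1209 (Nat.ble (nat_lit 1209) i)) (@Bool.rec (fun _ => ℕ) rb1210 rb1211 (Nat.ble (nat_lit 1211) i)) (Nat.ble (nat_lit 1210) i)) (@Bool.rec (fun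 _ => ℕ) (@Bool.rec (fun _ => ℕ) rb1212 rb1213 (Nat.ble (nat_lit 1213) i)) (@Bool.rec (fun _ => ℕ) rb1214 rb1215 (Nat.ble (nat_lit 1215) i)) (Nat.ble (nat_lit 1214) i)) (Nat.ble (nat_lit 1212) i)) (Nat.ble (nat_lit 1208) i)) (Nat.ble (nat_lit 1200) i))

def rowBlk_n0_38 (i : ℕ) : ℕ := (@Bool.rec (fun _ => ℕ) (@Bool.rec (fun _ => ℕ) (@Bool.rec (fun _ => ℕ) (@Bool.rec (fun _ => ℕ) (@Bool.rec (fun _ => ℕ) rb1216 rb1217 (Nat.ble (nat_lit 1217) i)) (@Bool.rec (fun _ => ℕ) rb1218 rb1219 (Nat.ble (nat_lit 1219) i)) (Nat.ble (nat_lit 1218) i)) (@Bool.rec (fun _ => ℕ) (@Bool.rec (fun _ => ℕ) rb1220 rb1221 (Nat.ble (nat_lit 1221) i)) (@Bool.rec (fun _ => ℕ) rb1222 rb1223 (Nat.ble (nat_lit 1223) i)) (Nat.ble (nat_lit 1222) i)) (Nat.ble (nat_lit 1220) i)) (@Bool.rec (fun _ => ℕ) (@Bool.rec (fun _ => ℕ) (@Bool.rec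 (fun _ => ℕ) rb1224 rb1225 (Nat.ble (nat_lit 1225) i)) (@Bool.rec (fun _ => ℕ) rb1226 rb1227 (Nat.ble (nat_lit 1227) i)) (Nat.ble (nat_lit 1226) i)) (@Bool.rec (fun _ => ℕ) (@Bool.rec (fun _ => ℕ) rb1228 rb1229 (Nat.ble (nat_lit 1229) i)) (@Bool.rec (fun _ => ℕ) rb1230 rb1231 (Nat.ble (nat_lit 1231) i)) (Nat.ble (nat_lit 1230) i)) (Nat.ble (nat_lit 1228) i)) (Nat.ble (nat_lit 1224) i)) (@Bool.rec (fun _ => ℕ) (@Bool.rec (fun _ => ℕ) (@Bool.rec (fun _ => ℕ) (@Bool.rec (fun _ => ℕ) rb1232 rb1233 (Nat.ble (nat_lit 1233) i)) (@Bool.rec (fun _ => ℕ) rb1234 rb1235 (Nat.ble (nat_lit 1235) i)) (Nat.ble (nat_lit 1234) i)) (@Bool.rec (fun _ => ℕ) (@Bool.rec (fun _ => ℕ) rb1236 rb1237 (Nat.ble (nat_lit 1237) i)) (@Bool.rec (fun _ => ℕ) rb1238 rb1239 (Nat.ble (nat_lit 1239) i)) (Nat.ble (nat_lit 1238) i)) (Nat.ble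 (nat_lit 1236) i)) (@Bool.rec (fun _ => ℕ) (@Bool.rec (fun _ => ℕ) (@Bool.rec (fun _ => ℕ) rb1240 rb1241 (Nat.ble (nat_lit 1241) i)) (@Bool.rec (fun _ => ℕ) rb1242 rb1243 (Nat.ble (nat_lit 1243) i)) (Nat.ble (nat_lit 1242) i)) (@Bool.rec (fun _ => ℕ) (@Bool.rec (fun _ => ℕ) rb1244 rb1245 (Nat.ble (nat_lit 1245) i)) (@Bool.rec (fun _ => ℕ) rb1246 rb1247 (Nat.ble (nat_lit 1247) i)) (Nat.ble (nat_lit 1246) i)) (Nat.ble (nat_lit 1244) i)) (Nat.ble (nat_lit 1240) i)) (Nat.ble (nat_lit 1232) i))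

def rowBlk_n0_39 (i : ℕ) : ℕ := (@Bool.rec (fun _ => ℕ) (@Bool.rec (fun _ => ℕ) (@Bool.rec (fun _ => ℕ) (@Bool.rec (fun _ => ℕ) (@Bool.rec (fun _ => ℕ) rb1248 rb1249 (Nat.ble (nat_lit 1249) i)) (@Bool.rec (fun _ => ℕ) rb1250 rb1251 (Nat.ble (nat_lit 1251) i)) (Nat.ble (nat_lit 1250) i)) (@Bool.rec (fun _ => ℕ) (@Bool.rec (fun _ => ℕ) rb1252 rb1253 (Nat.ble (nat_lit 1253) i)) (@Bool.rec (fun _ => ℕ) rb1254 rb1255 (Nat.ble (nat_lit 1255) i)) (Nat.ble (nat_lit 1254) i)) (Nat.ble (nat_lit 1252) i)) (@Bool.rec (fun _ => ℕ) (@Bool.rec (fun _ => ℕ) (@Bool.rec (fun _ => ℕ) rb1256 rb1257 (Nat.ble (nat_lit 1257) i)) (@Bool.rec (fun _ => ℕ) rb1258 rb1259 (Nat.ble (nat_lit 1259) i)) (Nat.ble (nat_lit 1258) i)) (@Bool.rec (fun _ => ℕ) (@Bool.rec (fun _ => ℕ) rb1260 rb1261 (Nat.ble (nat_lit 1261) i)) (@Bool.rec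 (fun _ => ℕ) rb1262 rb1263 (Nat.ble (nat_lit 1263) i)) (Nat.ble (nat_lit 1262) i)) (Nat.ble (nat_lit 1260) i)) (Nat.ble (nat_lit 1256) i)) (@Bool.rec (fun _ => ℕ) (@Bool.rec (fun _ => ℕ) (@Bool.rec (fun _ => ℕ) (@Bool.rec (fun _ => ℕ) rb1264 rb1265 (Nat.ble (nat_lit 1265) i)) (@Bool.rec (fun _ => ℕ) rb1266 rb1267 (Nat.ble (nat_lit 1267) i)) (Nat.ble (nat_lit 1266) i)) (@Bool.rec (fun _ => ℕ) (@Bool.rec (fun _ => ℕ) rb1268 rb1269 (Nat.ble (nat_lit 1269) i)) (@Bool.rec (fun _ => ℕ) rb1270 rb1271 (Nat.ble (nat_lit 1271) i)) (Nat.ble (nat_lit 1270) i)) (Nat.ble (nat_lit 1268) i)) (@Bool.rec (fun _ => ℕ) (@Bool.rec (fun _ => ℕ) (@Bool.rec (fun _ => ℕ) rb1272 rb1273 (Nat.ble (nat_lit 1273) i)) (@Bool.rec (fun _ => ℕ) rb1274 rb1275 (Nat.ble (nat_lit 1275) i)) (Nat.ble (nat_lit 1274) i)) (@Bool.rec (fun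 _ => ℕ) (@Bool.rec (fun _ => ℕ) rb1276 rb1277 (Nat.ble (nat_lit 1277) i)) (@Bool.rec (fun _ => ℕ) rb1278 rb1279 (Nat.ble (nat_lit 1279) i)) (Nat.ble (nat_lit 1278) i)) (Nat.ble (nat_lit 1276) i)) (Nat.ble (nat_lit 1272) i)) (Nat.ble (nat_lit 1264) i))

def rowBlk_n0_40 (i : ℕ) : ℕ := (@Bool.rec (fun _ => ℕ) (@Bool.rec (fun _ => ℕ) (@Bool.rec (fun _ => ℕ) (@Bool.rec (fun _ => ℕ) (@Bool.rec (fun _ => ℕ) rb1280 rb1281 (Nat.ble (nat_lit 1281) i)) (@Bool.rec (fun _ => ℕ) rb1282 rb1283 (Nat.ble (nat_lit 1283) i)) (Nat.ble (nat_lit 1282) i)) (@Bool.rec (fun _ => ℕ) (@Bool.rec (fun _ => ℕ) rb1284 rb1285 (Nat.ble (nat_lit 1285) i)) (@Bool.rec (fun _ => ℕ) rb1286 rb1287 (Nat.ble (nat_lit 1287) i)) (Nat.ble (nat_lit 1286) i)) (Nat.ble (nat_lit 1284) i)) (@Bool.rec (fun _ => ℕ) (@Bool.rec (fun _ => ℕ) (@Bool.rec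 (fun _ => ℕ) rb1288 rb1289 (Nat.ble (nat_lit 1289) i)) (@Bool.rec (fun _ => ℕ) rb1290 rb1291 (Nat.ble (nat_lit 1291) i)) (Nat.ble (nat_lit 1290) i)) (@Bool.rec (fun _ => ℕ) (@Bool.rec (fun _ => ℕ) rb1292 rb1293 (Nat.ble (nat_lit 1293) i)) (@Bool.rec (fun _ => ℕ) rb1294 rb1295 (Nat.ble (nat_lit 1295) i)) (Nat.ble (nat_lit 1294) i)) (Nat.ble (nat_lit 1292) i)) (Nat.ble (nat_lit 1288) i)) (@Bool.rec (fun _ => ℕ) (@Bool.rec (fun _ => ℕ) (@Bool.rec (fun _ => ℕ) (@Bool.rec (fun _ => ℕ) rb1296 rb1297 (Nat.ble (nat_lit 1297) i)) (@Bool.rec (fun _ => ℕ) rb1298 rb1299 (Nat.ble (nat_lit 1299) i)) (Nat.ble (nat_lit 1298) i)) (@Bool.rec (fun _ => ℕ) (@Bool.rec (fun _ => ℕ) rb1300 rb1301 (Nat.ble (nat_lit 1301) i)) (@Bool.rec (fun _ => ℕ) rb1302 rb1303 (Nat.ble (nat_lit 1303) i)) (Nat.ble (nat_lit 1302) i)) (Nat.ble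 (nat_lit 1300) i)) (@Bool.rec (fun _ => ℕ) (@Bool.rec (fun _ => ℕ) (@Bool.rec (fun _ => ℕ) rb1304 rb1305 (Nat.ble (nat_lit 1305) i)) (@Bool.rec (fun _ => ℕ) rb1306 rb1307 (Nat.ble (nat_lit 1307) i)) (Nat.ble (nat_lit 1306) i)) (@Bool.rec (fun _ => ℕ) (@Bool.rec (fun _ => ℕ) rb1308 rb1309 (Nat.ble (nat_lit 1309) i)) (@Bool.rec (fun _ => ℕ) rb1310 rb1311 (Nat.ble (nat_lit 1311) i)) (Nat.ble (nat_lit 1310) i)) (Nat.ble (nat_lit 1308) i)) (Nat.ble (nat_lit 1304) i)) (Nat.ble (nat_lit 1296) i))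

def rowBlk_n0_41 (i : ℕ) : ℕ := (@Bool.rec (fun _ => ℕ) (@Bool.rec (fun _ => ℕ) (@Bool.rec (fun _ => ℕ) (@Bool.rec (fun _ => ℕ) (@Bool.rec (fun _ => ℕ) rb1312 rb1313 (Nat.ble (nat_lit 1313) i)) (@Bool.rec (fun _ => ℕ) rb1314 rb1315 (Nat.ble (nat_lit 1315) i)) (Nat.ble (nat_lit 1314) i)) (@Bool.rec (fun _ => ℕ) (@Bool.rec (fun _ => ℕ) rb1316 rb1317 (Nat.ble (nat_lit 1317) i)) (@Bool.rec (fun _ => ℕ) rb1318 rb1319 (Nat.ble (nat_lit 1319) i)) (Nat.ble (nat_lit 1318) i)) (Nat.ble (nat_lit 1316) i)) (@Bool.rec (fun _ => ℕ) (@Bool.rec (fun _ => ℕ) (@Bool.rec (fun _ => ℕ) rb1320 rb1321 (Nat.ble (nat_lit 1321) i)) (@Bool.rec (fun _ => ℕ) rb1322 rb1323 (Nat.ble (nat_lit 1323) i)) (Nat.ble (nat_lit 1322) i)) (@Bool.rec (fun _ => ℕ) (@Bool.rec (fun _ => ℕ) rb1324 rb1325 (Nat.ble (nat_lit 1325) i)) (@Bool.rec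 (fun _ => ℕ) rb1326 rb1327 (Nat.ble (nat_lit 1327) i)) (Nat.ble (nat_lit 1326) i)) (Nat.ble (nat_lit 1324) i)) (Nat.ble (nat_lit 1320) i)) (@Bool.rec (fun _ => ℕ) (@Bool.rec (fun _ => ℕ) (@Bool.rec (fun _ => ℕ) (@Bool.rec (fun _ => ℕ) rb1328 rb1329 (Nat.ble (nat_lit 1329) i)) (@Bool.rec (fun _ => ℕ) rb1330 rb1331 (Nat.ble (nat_lit 1331) i)) (Nat.ble (nat_lit 1330) i)) (@Bool.rec (fun _ => ℕ) (@Bool.rec (fun _ => ℕ) rb1332 rb1333 (Nat.ble (nat_lit 1333) i)) (@Bool.rec (fun _ => ℕ) rb1334 rb1335 (Nat.ble (nat_lit 1335) i)) (Nat.ble (nat_lit 1334) i)) (Nat.ble (nat_lit 1332) i)) (@Bool.rec (fun _ => ℕ) (@Bool.rec (fun _ => ℕ) (@Bool.rec (fun _ => ℕ) rb1336 rb1337 (Nat.ble (nat_lit 1337) i)) (@Bool.rec (fun _ => ℕ) rb1338 rb1339 (Nat.ble (nat_lit 1339) i)) (Nat.ble (nat_lit 1338) i)) (@Bool.rec (fun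 _ => ℕ) (@Bool.rec (fun _ => ℕ) rb1340 rb1341 (Nat.ble (nat_lit 1341) i)) (@Bool.rec (fun _ => ℕ) rb1342 rb1343 (Nat.ble (nat_lit 1343) i)) (Nat.ble (nat_lit 1342) i)) (Nat.ble (nat_lit 1340) i)) (Nat.ble (nat_lit 1336) i)) (Nat.ble (nat_lit 1328) i))

def rowBlk_n0_42 (i : ℕ) : ℕ := (@Bool.rec (fun _ => ℕ) (@Bool.rec (fun _ => ℕ) (@Bool.rec (fun _ => ℕ) (@Bool.rec (fun _ => ℕ) (@Bool.rec (fun _ => ℕ) rb1344 rb1345 (Nat.ble (nat_lit 1345) i)) (@Bool.rec (fun _ => ℕ) rb1346 rb1347 (Nat.ble (nat_lit 1347) i)) (Nat.ble (nat_lit 1346) i)) (@Bool.rec (fun _ => ℕ) (@Bool.rec (fun _ => ℕ) rb1348 rb1349 (Nat.ble (nat_lit 1349) i)) (@Bool.rec (fun _ => ℕ) rb1350 rb1351 (Nat.ble (nat_lit 1351) i)) (Nat.ble (nat_lit 1350) i)) (Nat.ble (nat_lit 1348) i)) (@Bool.rec (fun _ => ℕ) (@Bool.rec (fun _ => ℕ) (@Bool.rec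 (fun _ => ℕ) rb1352 rb1353 (Nat.ble (nat_lit 1353) i)) (@Bool.rec (fun _ => ℕ) rb1354 rb1355 (Nat.ble (nat_lit 1355) i)) (Nat.ble (nat_lit 1354) i)) (@Bool.rec (fun _ => ℕ) (@Bool.rec (fun _ => ℕ) rb1356 rb1357 (Nat.ble (nat_lit 1357) i)) (@Bool.rec (fun _ => ℕ) rb1358 rb1359 (Nat.ble (nat_lit 1359) i)) (Nat.ble (nat_lit 1358) i)) (Nat.ble (nat_lit 1356) i)) (Nat.ble (nat_lit 1352) i)) (@Bool.rec (fun _ => ℕ) (@Bool.rec (fun _ => ℕ) (@Bool.rec (fun _ => ℕ) (@Bool.rec (fun _ => ℕ) rb1360 rb1361 (Nat.ble (nat_lit 1361) i)) (@Bool.rec (fun _ => ℕ) rb1362 rb1363 (Nat.ble (nat_lit 1363) i)) (Nat.ble (nat_lit 1362) i)) (@Bool.rec (fun _ => ℕ) (@Bool.rec (fun _ => ℕ) rb1364 rb1365 (Nat.ble (nat_lit 1365) i)) (@Bool.rec (fun _ => ℕ) rb1366 rb1367 (Nat.ble (nat_lit 1367) i)) (Nat.ble (nat_lit 1366) i)) (Nat.ble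 (nat_lit 1364) i)) (@Bool.rec (fun _ => ℕ) (@Bool.rec (fun _ => ℕ) (@Bool.rec (fun _ => ℕ) rb1368 rb1369 (Nat.ble (nat_lit 1369) i)) (@Bool.rec (fun _ => ℕ) rb1370 rb1371 (Nat.ble (nat_lit 1371) i)) (Nat.ble (nat_lit 1370) i)) (@Bool.rec (fun _ => ℕ) (@Bool.rec (fun _ => ℕ) rb1372 rb1373 (Nat.ble (nat_lit 1373) i)) (@Bool.rec (fun _ => ℕ) rb1374 rb1375 (Nat.ble (nat_lit 1375) i)) (Nat.ble (nat_lit 1374) i)) (Nat.ble (nat_lit 1372) i)) (Nat.ble (nat_lit 1368) i)) (Nat.ble (nat_lit 1360) i))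

def rowBlk_n0_43 (i : ℕ) : ℕ := (@Bool.rec (fun _ => ℕ) (@Bool.rec (fun _ => ℕ) (@Bool.rec (fun _ => ℕ) (@Bool.rec (fun _ => ℕ) (@Bool.rec (fun _ => ℕ) rb1376 rb1377 (Nat.ble (nat_lit 1377) i)) (@Bool.rec (fun _ => ℕ) rb1378 rb1379 (Nat.ble (nat_lit 1379) i)) (Nat.ble (nat_lit 1378) i)) (@Bool.rec (fun _ => ℕ) (@Bool.rec (fun _ => ℕ) rb1380 rb1381 (Nat.ble (nat_lit 1381) i)) (@Bool.rec (fun _ => ℕ) rb1382 rb1383 (Nat.ble (nat_lit 1383) i)) (Nat.ble (nat_lit 1382) i)) (Nat.ble (nat_lit 1380) i)) (@Bool.rec (fun _ => ℕ) (@Bool.rec (fun _ => ℕ) (@Bool.rec (fun _ => ℕ) rb1384 rb1385 (Nat.ble (nat_lit 1385) i)) (@Bool.rec (fun _ => ℕ) rb1386 rb1387 (Nat.ble (nat_lit 1387) i)) (Nat.ble (nat_lit 1386) i)) (@Bool.rec (fun _ => ℕ) (@Bool.rec (fun _ => ℕ) rb1388 rb1389 (Nat.ble (nat_lit 1389) i)) (@Bool.rec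 (fun _ => ℕ) rb1390 rb1391 (Nat.ble (nat_lit 1391) i)) (Nat.ble (nat_lit 1390) i)) (Nat.ble (nat_lit 1388) i)) (Nat.ble (nat_lit 1384) i)) (@Bool.rec (fun _ => ℕ) (@Bool.rec (fun _ => ℕ) (@Bool.rec (fun _ => ℕ) (@Bool.rec (fun _ => ℕ) rb1392 rb1393 (Nat.ble (nat_lit 1393) i)) (@Bool.rec (fun _ => ℕ) rb1394 rb1395 (Nat.ble (nat_lit 1395) i)) (Nat.ble (nat_lit 1394) i)) (@Bool.rec (fun _ => ℕ) (@Bool.rec (fun _ => ℕ) rb1396 rb1397 (Nat.ble (nat_lit 1397) i)) (@Bool.rec (fun _ => ℕ) rb1398 rb1399 (Nat.ble (nat_lit 1399) i)) (Nat.ble (nat_lit 1398) i)) (Nat.ble (nat_lit 1396) i)) (@Bool.rec (fun _ => ℕ) (@Bool.rec (fun _ => ℕ) (@Bool.rec (fun _ => ℕ) rb1400 rb1401 (Nat.ble (nat_lit 1401) i)) (@Bool.rec (fun _ => ℕ) rb1402 rb1403 (Nat.ble (nat_lit 1403) i)) (Nat.ble (nat_lit 1402) i)) (@Bool.rec (fun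 _ => ℕ) (@Bool.rec (fun _ => ℕ) rb1404 rb1405 (Nat.ble (nat_lit 1405) i)) (@Bool.rec (fun _ => ℕ) rb1406 rb1407 (Nat.ble (nat_lit 1407) i)) (Nat.ble (nat_lit 1406) i)) (Nat.ble (nat_lit 1404) i)) (Nat.ble (nat_lit 1400) i)) (Nat.ble (nat_lit 1392) i))

def rowBlk_n0_44 (i : ℕ) : ℕ := (@Bool.rec (fun _ => ℕ) (@Bool.rec (fun _ => ℕ) (@Bool.rec (fun _ => ℕ) (@Bool.rec (fun _ => ℕ) (@Bool.rec (fun _ => ℕ) rb1408 rb1409 (Nat.ble (nat_lit 1409) i)) (@Bool.rec (fun _ => ℕ) rb1410 rb1411 (Nat.ble (nat_lit 1411) i)) (Nat.ble (nat_lit 1410) i)) (@Bool.rec (fun _ => ℕ) (@Bool.rec (fun _ => ℕ) rb1412 rb1413 (Nat.ble (nat_lit 1413) i)) (@Bool.rec (fun _ => ℕ) rb1414 rb1415 (Nat.ble (nat_lit 1415) i)) (Nat.ble (nat_lit 1414) i)) (Nat.ble (nat_lit 1412) i)) (@Bool.rec (fun _ => ℕ) (@Bool.rec (fun _ => ℕ) (@Bool.rec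 (fun _ => ℕ) rb1416 rb1417 (Nat.ble (nat_lit 1417) i)) (@Bool.rec (fun _ => ℕ) rb1418 rb1419 (Nat.ble (nat_lit 1419) i)) (Nat.ble (nat_lit 1418) i)) (@Bool.rec (fun _ => ℕ) (@Bool.rec (fun _ => ℕ) rb1420 rb1421 (Nat.ble (nat_lit 1421) i)) (@Bool.rec (fun _ => ℕ) rb1422 rb1423 (Nat.ble (nat_lit 1423) i)) (Nat.ble (nat_lit 1422) i)) (Nat.ble (nat_lit 1420) i)) (Nat.ble (nat_lit 1416) i)) (@Bool.rec (fun _ => ℕ) (@Bool.rec (fun _ => ℕ) (@Bool.rec (fun _ => ℕ) (@Bool.rec (fun _ => ℕ) rb1424 rb1425 (Nat.ble (nat_lit 1425) i)) (@Bool.rec (fun _ => ℕ) rb1426 rb1427 (Nat.ble (nat_lit 1427) i)) (Nat.ble (nat_lit 1426) i)) (@Bool.rec (fun _ => ℕ) (@Bool.rec (fun _ => ℕ) rb1428 rb1429 (Nat.ble (nat_lit 1429) i)) (@Bool.rec (fun _ => ℕ) rb1430 rb1431 (Nat.ble (nat_lit 1431) i)) (Nat.ble (nat_lit 1430) i)) (Nat.ble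 (nat_lit 1428) i)) (@Bool.rec (fun _ => ℕ) (@Bool.rec (fun _ => ℕ) (@Bool.rec (fun _ => ℕ) rb1432 rb1433 (Nat.ble (nat_lit 1433) i)) (@Bool.rec (fun _ => ℕ) rb1434 rb1435 (Nat.ble (nat_lit 1435) i)) (Nat.ble (nat_lit 1434) i)) (@Bool.rec (fun _ => ℕ) (@Bool.rec (fun _ => ℕ) rb1436 rb1437 (Nat.ble (nat_lit 1437) i)) (@Bool.rec (fun _ => ℕ) rb1438 rb1439 (Nat.ble (nat_lit 1439) i)) (Nat.ble (nat_lit 1438) i)) (Nat.ble (nat_lit 1436) i)) (Nat.ble (nat_lit 1432) i)) (Nat.ble (nat_lit 1424) i))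

def rowBlk_n0_45 (i : ℕ) : ℕ := (@Bool.rec (fun _ => ℕ) (@Bool.rec (fun _ => ℕ) (@Bool.rec (fun _ => ℕ) (@Bool.rec (fun _ => ℕ) (@Bool.rec (fun _ => ℕ) rb1440 rb1441 (Nat.ble (nat_lit 1441) i)) (@Bool.rec (fun _ => ℕ) rb1442 rb1443 (Nat.ble (nat_lit 1443) i)) (Nat.ble (nat_lit 1442) i)) (@Bool.rec (fun _ => ℕ) (@Bool.rec (fun _ => ℕ) rb1444 rb1445 (Nat.ble (nat_lit 1445) i)) (@Bool.rec (fun _ => ℕ) rb1446 rb1447 (Nat.ble (nat_lit 1447) i)) (Nat.ble (nat_lit 1446) i)) (Nat.ble (nat_lit 1444) i)) (@Bool.rec (fun _ => ℕ) (@Bool.rec (fun _ => ℕ) (@Bool.rec (fun _ => ℕ) rb1448 rb1449 (Nat.ble (nat_lit 1449) i)) (@Bool.rec (fun _ => ℕ) rb1450 rb1451 (Nat.ble (nat_lit 1451) i)) (Nat.ble (nat_lit 1450) i)) (@Bool.rec (fun _ => ℕ) (@Bool.rec (fun _ => ℕ) rb1452 rb1453 (Nat.ble (nat_lit 1453) i)) (@Bool.rec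 (fun _ => ℕ) rb1454 rb1455 (Nat.ble (nat_lit 1455) i)) (Nat.ble (nat_lit 1454) i)) (Nat.ble (nat_lit 1452) i)) (Nat.ble (nat_lit 1448) i)) (@Bool.rec (fun _ => ℕ) (@Bool.rec (fun _ => ℕ) (@Bool.rec (fun _ => ℕ) (@Bool.rec (fun _ => ℕ) rb1456 rb1457 (Nat.ble (nat_lit 1457) i)) (@Bool.rec (fun _ => ℕ) rb1458 rb1459 (Nat.ble (nat_lit 1459) i)) (Nat.ble (nat_lit 1458) i)) (@Bool.rec (fun _ => ℕ) (@Bool.rec (fun _ => ℕ) rb1460 rb1461 (Nat.ble (nat_lit 1461) i)) (@Bool.rec (fun _ => ℕ) rb1462 rb1463 (Nat.ble (nat_lit 1463) i)) (Nat.ble (nat_lit 1462) i)) (Nat.ble (nat_lit 1460) i)) (@Bool.rec (fun _ => ℕ) (@Bool.rec (fun _ => ℕ) (@Bool.rec (fun _ => ℕ) rb1464 rb1465 (Nat.ble (nat_lit 1465) i)) (@Bool.rec (fun _ => ℕ) rb1466 rb1467 (Nat.ble (nat_lit 1467) i)) (Nat.ble (nat_lit 1466) i)) (@Bool.rec (fun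 _ => ℕ) (@Bool.rec (fun _ => ℕ) rb1468 rb1469 (Nat.ble (nat_lit 1469) i)) (@Bool.rec (fun _ => ℕ) rb1470 rb1471 (Nat.ble (nat_lit 1471) i)) (Nat.ble (nat_lit 1470) i)) (Nat.ble (nat_lit 1468) i)) (Nat.ble (nat_lit 1464) i)) (Nat.ble (nat_lit 1456) i))

def rowBlk_n0_46 (i : ℕ) : ℕ := (@Bool.rec (fun _ => ℕ) (@Bool.rec (fun _ => ℕ) (@Bool.rec (fun _ => ℕ) (@Bool.rec (fun _ => ℕ) (@Bool.rec (fun _ => ℕ) rb1472 rb1473 (Nat.ble (nat_lit 1473) i)) (@Bool.rec (fun _ => ℕ) rb1474 rb1475 (Nat.ble (nat_lit 1475) i)) (Nat.ble (nat_lit 1474) i)) (@Bool.rec (fun _ => ℕ) (@Bool.rec (fun _ => ℕ) rb1476 rb1477 (Nat.ble (nat_lit 1477) i)) (@Bool.rec (fun _ => ℕ) rb1478 rb1479 (Nat.ble (nat_lit 1479) i)) (Nat.ble (nat_lit 1478) i)) (Nat.ble (nat_lit 1476) i)) (@Bool.rec (fun _ => ℕ) (@Bool.rec (fun _ => ℕ) (@Bool.rec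 (fun _ => ℕ) rb1480 rb1481 (Nat.ble (nat_lit 1481) i)) (@Bool.rec (fun _ => ℕ) rb1482 rb1483 (Nat.ble (nat_lit 1483) i)) (Nat.ble (nat_lit 1482) i)) (@Bool.rec (fun _ => ℕ) (@Bool.rec (fun _ => ℕ) rb1484 rb1485 (Nat.ble (nat_lit 1485) i)) (@Bool.rec (fun _ => ℕ) rb1486 rb1487 (Nat.ble (nat_lit 1487) i)) (Nat.ble (nat_lit 1486) i)) (Nat.ble (nat_lit 1484) i)) (Nat.ble (nat_lit 1480) i)) (@Bool.rec (fun _ => ℕ) (@Bool.rec (fun _ => ℕ) (@Bool.rec (fun _ => ℕ) (@Bool.rec (fun _ => ℕ) rb1488 rb1489 (Nat.ble (nat_lit 1489) i)) (@Bool.rec (fun _ => ℕ) rb1490 rb1491 (Nat.ble (nat_lit 1491) i)) (Nat.ble (nat_lit 1490) i)) (@Bool.rec (fun _ => ℕ) (@Bool.rec (fun _ => ℕ) rb1492 rb1493 (Nat.ble (nat_lit 1493) i)) (@Bool.rec (fun _ => ℕ) rb1494 rb1495 (Nat.ble (nat_lit 1495) i)) (Nat.ble (nat_lit 1494) i)) (Nat.ble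 (nat_lit 1492) i)) (@Bool.rec (fun _ => ℕ) (@Bool.rec (fun _ => ℕ) (@Bool.rec (fun _ => ℕ) rb1496 rb1497 (Nat.ble (nat_lit 1497) i)) (@Bool.rec (fun _ => ℕ) rb1498 rb1499 (Nat.ble (nat_lit 1499) i)) (Nat.ble (nat_lit 1498) i)) (@Bool.rec (fun _ => ℕ) (@Bool.rec (fun _ => ℕ) rb1500 rb1501 (Nat.ble (nat_lit 1501) i)) (@Bool.rec (fun _ => ℕ) rb1502 rb1503 (Nat.ble (nat_lit 1503) i)) (Nat.ble (nat_lit 1502) i)) (Nat.ble (nat_lit 1500) i)) (Nat.ble (nat_lit 1496) i)) (Nat.ble (nat_lit 1488) i))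

def rowBlk_n0_47 (i : ℕ) : ℕ := (@Bool.rec (fun _ => ℕ) (@Bool.rec (fun _ => ℕ) (@Bool.rec (fun _ => ℕ) (@Bool.rec (fun _ => ℕ) (@Bool.rec (fun _ => ℕ) rb1504 rb1505 (Nat.ble (nat_lit 1505) i)) (@Bool.rec (fun _ => ℕ) rb1506 rb1507 (Nat.ble (nat_lit 1507) i)) (Nat.ble (nat_lit 1506) i)) (@Bool.rec (fun _ => ℕ) (@Bool.rec (fun _ => ℕ) rb1508 rb1509 (Nat.ble (nat_lit 1509) i)) (@Bool.rec (fun _ => ℕ) rb1510 rb1511 (Nat.ble (nat_lit 1511) i)) (Nat.ble (nat_lit 1510) i)) (Nat.ble (nat_lit 1508) i)) (@Bool.rec (fun _ => ℕ) (@Bool.rec (fun _ => ℕ) (@Bool.rec (fun _ => ℕ) rb1512 rb1513 (Nat.ble (nat_lit 1513) i)) (@Bool.rec (fun _ => ℕ) rb1514 rb1515 (Nat.ble (nat_lit 1515) i)) (Nat.ble (nat_lit 1514) i)) (@Bool.rec (fun _ => ℕ) (@Bool.rec (fun _ => ℕ) rb1516 rb1517 (Nat.ble (nat_lit 1517) i)) (@Bool.rec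 (fun _ => ℕ) rb1518 rb1519 (Nat.ble (nat_lit 1519) i)) (Nat.ble (nat_lit 1518) i)) (Nat.ble (nat_lit 1516) i)) (Nat.ble (nat_lit 1512) i)) (@Bool.rec (fun _ => ℕ) (@Bool.rec (fun _ => ℕ) (@Bool.rec (fun _ => ℕ) (@Bool.rec (fun _ => ℕ) rb1520 rb1521 (Nat.ble (nat_lit 1521) i)) (@Bool.rec (fun _ => ℕ) rb1522 rb1523 (Nat.ble (nat_lit 1523) i)) (Nat.ble (nat_lit 1522) i)) (@Bool.rec (fun _ => ℕ) (@Bool.rec (fun _ => ℕ) rb1524 rb1525 (Nat.ble (nat_lit 1525) i)) (@Bool.rec (fun _ => ℕ) rb1526 rb1527 (Nat.ble (nat_lit 1527) i)) (Nat.ble (nat_lit 1526) i)) (Nat.ble (nat_lit 1524) i)) (@Bool.rec (fun _ => ℕ) (@Bool.rec (fun _ => ℕ) (@Bool.rec (fun _ => ℕ) rb1528 rb1529 (Nat.ble (nat_lit 1529) i)) (@Bool.rec (fun _ => ℕ) rb1530 rb1531 (Nat.ble (nat_lit 1531) i)) (Nat.ble (nat_lit 1530) i)) (@Bool.rec (fun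 _ => ℕ) (@Bool.rec (fun _ => ℕ) rb1532 rb1533 (Nat.ble (nat_lit 1533) i)) (@Bool.rec (fun _ => ℕ) rb1534 rb1535 (Nat.ble (nat_lit 1535) i)) (Nat.ble (nat_lit 1534) i)) (Nat.ble (nat_lit 1532) i)) (Nat.ble (nat_lit 1528) i)) (Nat.ble (nat_lit 1520) i))

def rowBlk_n0_48 (i : ℕ) : ℕ := (@Bool.rec (fun _ => ℕ) (@Bool.rec (fun _ => ℕ) (@Bool.rec (fun _ => ℕ) (@Bool.rec (fun _ => ℕ) (@Bool.rec (fun _ => ℕ) rb1536 rb1537 (Nat.ble (nat_lit 1537) i)) (@Bool.rec (fun _ => ℕ) rb1538 rb1539 (Nat.ble (nat_lit 1539) i)) (Nat.ble (nat_lit 1538) i)) (@Bool.rec (fun _ => ℕ) (@Bool.rec (fun _ => ℕ) rb1540 rb1541 (Nat.ble (nat_lit 1541) i)) (@Bool.rec (fun _ => ℕ) rb1542 rb1543 (Nat.ble (nat_lit 1543) i)) (Nat.ble (nat_lit 1542) i)) (Nat.ble (nat_lit 1540) i)) (@Bool.rec (fun _ => ℕ) (@Bool.rec (fun _ => ℕ) (@Bool.rec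 (fun _ => ℕ) rb1544 rb1545 (Nat.ble (nat_lit 1545) i)) (@Bool.rec (fun _ => ℕ) rb1546 rb1547 (Nat.ble (nat_lit 1547) i)) (Nat.ble (nat_lit 1546) i)) (@Bool.rec (fun _ => ℕ) (@Bool.rec (fun _ => ℕ) rb1548 rb1549 (Nat.ble (nat_lit 1549) i)) (@Bool.rec (fun _ => ℕ) rb1550 rb1551 (Nat.ble (nat_lit 1551) i)) (Nat.ble (nat_lit 1550) i)) (Nat.ble (nat_lit 1548) i)) (Nat.ble (nat_lit 1544) i)) (@Bool.rec (fun _ => ℕ) (@Bool.rec (fun _ => ℕ) (@Bool.rec (fun _ => ℕ) (@Bool.rec (fun _ => ℕ) rb1552 rb1553 (Nat.ble (nat_lit 1553) i)) (@Bool.rec (fun _ => ℕ) rb1554 rb1555 (Nat.ble (nat_lit 1555) i)) (Nat.ble (nat_lit 1554) i)) (@Bool.rec (fun _ => ℕ) (@Bool.rec (fun _ => ℕ) rb1556 rb1557 (Nat.ble (nat_lit 1557) i)) (@Bool.rec (fun _ => ℕ) rb1558 rb1559 (Nat.ble (nat_lit 1559) i)) (Nat.ble (nat_lit 1558) i)) (Nat.ble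 (nat_lit 1556) i)) (@Bool.rec (fun _ => ℕ) (@Bool.rec (fun _ => ℕ) (@Bool.rec (fun _ => ℕ) rb1560 rb1561 (Nat.ble (nat_lit 1561) i)) (@Bool.rec (fun _ => ℕ) rb1562 rb1563 (Nat.ble (nat_lit 1563) i)) (Nat.ble (nat_lit 1562) i)) (@Bool.rec (fun _ => ℕ) (@Bool.rec (fun _ => ℕ) rb1564 rb1565 (Nat.ble (nat_lit 1565) i)) (@Bool.rec (fun _ => ℕ) rb1566 rb1567 (Nat.ble (nat_lit 1567) i)) (Nat.ble (nat_lit 1566) i)) (Nat.ble (nat_lit 1564) i)) (Nat.ble (nat_lit 1560) i)) (Nat.ble (nat_lit 1552) i))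

def rowBlk_n0_49 (i : ℕ) : ℕ := (@Bool.rec (fun _ => ℕ) (@Bool.rec (fun _ => ℕ) (@Bool.rec (fun _ => ℕ) (@Bool.rec (fun _ => ℕ) (@Bool.rec (fun _ => ℕ) rb1568 rb1569 (Nat.ble (nat_lit 1569) i)) (@Bool.rec (fun _ => ℕ) rb1570 rb1571 (Nat.ble (nat_lit 1571) i)) (Nat.ble (nat_lit 1570) i)) (@Bool.rec (fun _ => ℕ) (@Bool.rec (fun _ => ℕ) rb1572 rb1573 (Nat.ble (nat_lit 1573) i)) (@Bool.rec (fun _ => ℕ) rb1574 rb1575 (Nat.ble (nat_lit 1575) i)) (Nat.ble (nat_lit 1574) i)) (Nat.ble (nat_lit 1572) i)) (@Bool.rec (fun _ => ℕ) (@Bool.rec (fun _ => ℕ) (@Bool.rec (fun _ => ℕ) rb1576 rb1577 (Nat.ble (nat_lit 1577) i)) (@Bool.rec (fun _ => ℕ) rb1578 rb1579 (Nat.ble (nat_lit 1579) i)) (Nat.ble (nat_lit 1578) i)) (@Bool.rec (fun _ => ℕ) (@Bool.rec (fun _ => ℕ) rb1580 rb1581 (Nat.ble (nat_lit 1581) i)) (@Bool.rec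 (fun _ => ℕ) rb1582 rb1583 (Nat.ble (nat_lit 1583) i)) (Nat.ble (nat_lit 1582) i)) (Nat.ble (nat_lit 1580) i)) (Nat.ble (nat_lit 1576) i)) (@Bool.rec (fun _ => ℕ) (@Bool.rec (fun _ => ℕ) (@Bool.rec (fun _ => ℕ) (@Bool.rec (fun _ => ℕ) rb1584 rb1585 (Nat.ble (nat_lit 1585) i)) (@Bool.rec (fun _ => ℕ) rb1586 rb1587 (Nat.ble (nat_lit 1587) i)) (Nat.ble (nat_lit 1586) i)) (@Bool.rec (fun _ => ℕ) (@Bool.rec (fun _ => ℕ) rb1588 rb1589 (Nat.ble (nat_lit 1589) i)) (@Bool.rec (fun _ => ℕ) rb1590 rb1591 (Nat.ble (nat_lit 1591) i)) (Nat.ble (nat_lit 1590) i)) (Nat.ble (nat_lit 1588) i)) (@Bool.rec (fun _ => ℕ) (@Bool.rec (fun _ => ℕ) (@Bool.rec (fun _ => ℕ) rb1592 rb1593 (Nat.ble (nat_lit 1593) i)) (@Bool.rec (fun _ => ℕ) rb1594 rb1595 (Nat.ble (nat_lit 1595) i)) (Nat.ble (nat_lit 1594) i)) (@Bool.rec (fun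 _ => ℕ) (@Bool.rec (fun _ => ℕ) rb1596 rb1597 (Nat.ble (nat_lit 1597) i)) (@Bool.rec (fun _ => ℕ) rb1598 rb1599 (Nat.ble (nat_lit 1599) i)) (Nat.ble (nat_lit 1598) i)) (Nat.ble (nat_lit 1596) i)) (Nat.ble (nat_lit 1592) i)) (Nat.ble (nat_lit 1584) i))

def rowBlk_n0_50 (i : ℕ) : ℕ := (@Bool.rec (fun _ => ℕ) (@Bool.rec (fun _ => ℕ) (@Bool.rec (fun _ => ℕ) (@Bool.rec (fun _ => ℕ) (@Bool.rec (fun _ => ℕ) rb1600 rb1601 (Nat.ble (nat_lit 1601) i)) (@Bool.rec (fun _ => ℕ) rb1602 rb1603 (Nat.ble (nat_lit 1603) i)) (Nat.ble (nat_lit 1602) i)) (@Bool.rec (fun _ => ℕ) (@Bool.rec (fun _ => ℕ) rb1604 rb1605 (Nat.ble (nat_lit 1605) i)) (@Bool.rec (fun _ => ℕ) rb1606 rb1607 (Nat.ble (nat_lit 1607) i)) (Nat.ble (nat_lit 1606) i)) (Nat.ble (nat_lit 1604) i)) (@Bool.rec (fun _ => ℕ) (@Bool.rec (fun _ => ℕ) (@Bool.rec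 (fun _ => ℕ) rb1608 rb1609 (Nat.ble (nat_lit 1609) i)) (@Bool.rec (fun _ => ℕ) rb1610 rb1611 (Nat.ble (nat_lit 1611) i)) (Nat.ble (nat_lit 1610) i)) (@Bool.rec (fun _ => ℕ) (@Bool.rec (fun _ => ℕ) rb1612 rb1613 (Nat.ble (nat_lit 1613) i)) (@Bool.rec (fun _ => ℕ) rb1614 rb1615 (Nat.ble (nat_lit 1615) i)) (Nat.ble (nat_lit 1614) i)) (Nat.ble (nat_lit 1612) i)) (Nat.ble (nat_lit 1608) i)) (@Bool.rec (fun _ => ℕ) (@Bool.rec (fun _ => ℕ) (@Bool.rec (fun _ => ℕ) (@Bool.rec (fun _ => ℕ) rb1616 rb1617 (Nat.ble (nat_lit 1617) i)) (@Bool.rec (fun _ => ℕ) rb1618 rb1619 (Nat.ble (nat_lit 1619) i)) (Nat.ble (nat_lit 1618) i)) (@Bool.rec (fun _ => ℕ) (@Bool.rec (fun _ => ℕ) rb1620 rb1621 (Nat.ble (nat_lit 1621) i)) (@Bool.rec (fun _ => ℕ) rb1622 rb1623 (Nat.ble (nat_lit 1623) i)) (Nat.ble (nat_lit 1622) i)) (Nat.ble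 (nat_lit 1620) i)) (@Bool.rec (fun _ => ℕ) (@Bool.rec (fun _ => ℕ) (@Bool.rec (fun _ => ℕ) rb1624 rb1625 (Nat.ble (nat_lit 1625) i)) (@Bool.rec (fun _ => ℕ) rb1626 rb1627 (Nat.ble (nat_lit 1627) i)) (Nat.ble (nat_lit 1626) i)) (@Bool.rec (fun _ => ℕ) (@Bool.rec (fun _ => ℕ) rb1628 rb1629 (Nat.ble (nat_lit 1629) i)) (@Bool.rec (fun _ => ℕ) rb1630 rb1631 (Nat.ble (nat_lit 1631) i)) (Nat.ble (nat_lit 1630) i)) (Nat.ble (nat_lit 1628) i)) (Nat.ble (nat_lit 1624) i)) (Nat.ble (nat_lit 1616) i))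

def rowBlk_n0_51 (i : ℕ) : ℕ := (@Bool.rec (fun _ => ℕ) (@Bool.rec (fun _ => ℕ) (@Bool.rec (fun _ => ℕ) (@Bool.rec (fun _ => ℕ) (@Bool.rec (fun _ => ℕ) rb1632 rb1633 (Nat.ble (nat_lit 1633) i)) (@Bool.rec (fun _ => ℕ) rb1634 rb1635 (Nat.ble (nat_lit 1635) i)) (Nat.ble (nat_lit 1634) i)) (@Bool.rec (fun _ => ℕ) (@Bool.rec (fun _ => ℕ) rb1636 rb1637 (Nat.ble (nat_lit 1637) i)) (@Bool.rec (fun _ => ℕ) rb1638 rb1639 (Nat.ble (nat_lit 1639) i)) (Nat.ble (nat_lit 1638) i)) (Nat.ble (nat_lit 1636) i)) (@Bool.rec (fun _ => ℕ) (@Bool.rec (fun _ => ℕ) (@Bool.rec (fun _ => ℕ) rb1640 rb1641 (Nat.ble (nat_lit 1641) i)) (@Bool.rec (fun _ => ℕ) rb1642 rb1643 (Nat.ble (nat_lit 1643) i)) (Nat.ble (nat_lit 1642) i)) (@Bool.rec (fun _ => ℕ) (@Bool.rec (fun _ => ℕ) rb1644 rb1645 (Nat.ble (nat_lit 1645) i)) (@Bool.rec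 (fun _ => ℕ) rb1646 rb1647 (Nat.ble (nat_lit 1647) i)) (Nat.ble (nat_lit 1646) i)) (Nat.ble (nat_lit 1644) i)) (Nat.ble (nat_lit 1640) i)) (@Bool.rec (fun _ => ℕ) (@Bool.rec (fun _ => ℕ) (@Bool.rec (fun _ => ℕ) (@Bool.rec (fun _ => ℕ) rb1648 rb1649 (Nat.ble (nat_lit 1649) i)) (@Bool.rec (fun _ => ℕ) rb1650 rb1651 (Nat.ble (nat_lit 1651) i)) (Nat.ble (nat_lit 1650) i)) (@Bool.rec (fun _ => ℕ) (@Bool.rec (fun _ => ℕ) rb1652 rb1653 (Nat.ble (nat_lit 1653) i)) (@Bool.rec (fun _ => ℕ) rb1654 rb1655 (Nat.ble (nat_lit 1655) i)) (Nat.ble (nat_lit 1654) i)) (Nat.ble (nat_lit 1652) i)) (@Bool.rec (fun _ => ℕ) (@Bool.rec (fun _ => ℕ) (@Bool.rec (fun _ => ℕ) rb1656 rb1657 (Nat.ble (nat_lit 1657) i)) (@Bool.rec (fun _ => ℕ) rb1658 rb1659 (Nat.ble (nat_lit 1659) i)) (Nat.ble (nat_lit 1658) i)) (@Bool.rec (fun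 _ => ℕ) (@Bool.rec (fun _ => ℕ) rb1660 rb1661 (Nat.ble (nat_lit 1661) i)) (@Bool.rec (fun _ => ℕ) rb1662 rb1663 (Nat.ble (nat_lit 1663) i)) (Nat.ble (nat_lit 1662) i)) (Nat.ble (nat_lit 1660) i)) (Nat.ble (nat_lit 1656) i)) (Nat.ble (nat_lit 1648) i))

def rowBlk_n0_52 (i : ℕ) : ℕ := (@Bool.rec (fun _ => ℕ) (@Bool.rec (fun _ => ℕ) (@Bool.rec (fun _ => ℕ) (@Bool.rec (fun _ => ℕ) (@Bool.rec (fun _ => ℕ) rb1664 rb1665 (Nat.ble (nat_lit 1665) i)) (@Bool.rec (fun _ => ℕ) rb1666 rb1667 (Nat.ble (nat_lit 1667) i)) (Nat.ble (nat_lit 1666) i)) (@Bool.rec (fun _ => ℕ) (@Bool.rec (fun _ => ℕ) rb1668 rb1669 (Nat.ble (nat_lit 1669) i)) (@Bool.rec (fun _ => ℕ) rb1670 rb1671 (Nat.ble (nat_lit 1671) i)) (Nat.ble (nat_lit 1670) i)) (Nat.ble (nat_lit 1668) i)) (@Bool.rec (fun _ => ℕ) (@Bool.rec (fun _ => ℕ) (@Bool.rec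 (fun _ => ℕ) rb1672 rb1673 (Nat.ble (nat_lit 1673) i)) (@Bool.rec (fun _ => ℕ) rb1674 rb1675 (Nat.ble (nat_lit 1675) i)) (Nat.ble (nat_lit 1674) i)) (@Bool.rec (fun _ => ℕ) (@Bool.rec (fun _ => ℕ) rb1676 rb1677 (Nat.ble (nat_lit 1677) i)) (@Bool.rec (fun _ => ℕ) rb1678 rb1679 (Nat.ble (nat_lit 1679) i)) (Nat.ble (nat_lit 1678) i)) (Nat.ble (nat_lit 1676) i)) (Nat.ble (nat_lit 1672) i)) (@Bool.rec (fun _ => ℕ) (@Bool.rec (fun _ => ℕ) (@Bool.rec (fun _ => ℕ) (@Bool.rec (fun _ => ℕ) rb1680 rb1681 (Nat.ble (nat_lit 1681) i)) (@Bool.rec (fun _ => ℕ) rb1682 rb1683 (Nat.ble (nat_lit 1683) i)) (Nat.ble (nat_lit 1682) i)) (@Bool.rec (fun _ => ℕ) (@Bool.rec (fun _ => ℕ) rb1684 rb1685 (Nat.ble (nat_lit 1685) i)) (@Bool.rec (fun _ => ℕ) rb1686 rb1687 (Nat.ble (nat_lit 1687) i)) (Nat.ble (nat_lit 1686) i)) (Nat.ble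 (nat_lit 1684) i)) (@Bool.rec (fun _ => ℕ) (@Bool.rec (fun _ => ℕ) (@Bool.rec (fun _ => ℕ) rb1688 rb1689 (Nat.ble (nat_lit 1689) i)) (@Bool.rec (fun _ => ℕ) rb1690 rb1691 (Nat.ble (nat_lit 1691) i)) (Nat.ble (nat_lit 1690) i)) (@Bool.rec (fun _ => ℕ) (@Bool.rec (fun _ => ℕ) rb1692 rb1693 (Nat.ble (nat_lit 1693) i)) (@Bool.rec (fun _ => ℕ) rb1694 rb1695 (Nat.ble (nat_lit 1695) i)) (Nat.ble (nat_lit 1694) i)) (Nat.ble (nat_lit 1692) i)) (Nat.ble (nat_lit 1688) i)) (Nat.ble (nat_lit 1680) i))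

def rowBlk_n0_53 (i : ℕ) : ℕ := (@Bool.rec (fun _ => ℕ) (@Bool.rec (fun _ => ℕ) (@Bool.rec (fun _ => ℕ) (@Bool.rec (fun _ => ℕ) (@Bool.rec (fun _ => ℕ) rb1696 rb1697 (Nat.ble (nat_lit 1697) i)) (@Bool.rec (fun _ => ℕ) rb1698 rb1699 (Nat.ble (nat_lit 1699) i)) (Nat.ble (nat_lit 1698) i)) (@Bool.rec (fun _ => ℕ) (@Bool.rec (fun _ => ℕ) rb1700 rb1701 (Nat.ble (nat_lit 1701) i)) (@Bool.rec (fun _ => ℕ) rb1702 rb1703 (Nat.ble (nat_lit 1703) i)) (Nat.ble (nat_lit 1702) i)) (Nat.ble (nat_lit 1700) i)) (@Bool.rec (fun _ => ℕ) (@Bool.rec (fun _ => ℕ) (@Bool.rec (fun _ => ℕ) rb1704 rb1705 (Nat.ble (nat_lit 1705) i)) (@Bool.rec (fun _ => ℕ) rb1706 rb1707 (Nat.ble (nat_lit 1707) i)) (Nat.ble (nat_lit 1706) i)) (@Bool.rec (fun _ => ℕ) (@Bool.rec (fun _ => ℕ) rb1708 rb1709 (Nat.ble (nat_lit 1709) i)) (@Bool.rec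 (fun _ => ℕ) rb1710 rb1711 (Nat.ble (nat_lit 1711) i)) (Nat.ble (nat_lit 1710) i)) (Nat.ble (nat_lit 1708) i)) (Nat.ble (nat_lit 1704) i)) (@Bool.rec (fun _ => ℕ) (@Bool.rec (fun _ => ℕ) (@Bool.rec (fun _ => ℕ) (@Bool.rec (fun _ => ℕ) rb1712 rb1713 (Nat.ble (nat_lit 1713) i)) (@Bool.rec (fun _ => ℕ) rb1714 rb1715 (Nat.ble (nat_lit 1715) i)) (Nat.ble (nat_lit 1714) i)) (@Bool.rec (fun _ => ℕ) (@Bool.rec (fun _ => ℕ) rb1716 rb1717 (Nat.ble (nat_lit 1717) i)) (@Bool.rec (fun _ => ℕ) rb1718 rb1719 (Nat.ble (nat_lit 1719) i)) (Nat.ble (nat_lit 1718) i)) (Nat.ble (nat_lit 1716) i)) (@Bool.rec (fun _ => ℕ) (@Bool.rec (fun _ => ℕ) (@Bool.rec (fun _ => ℕ) rb1720 rb1721 (Nat.ble (nat_lit 1721) i)) (@Bool.rec (fun _ => ℕ) rb1722 rb1723 (Nat.ble (nat_lit 1723) i)) (Nat.ble (nat_lit 1722) i)) (@Bool.rec (fun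 _ => ℕ) (@Bool.rec (fun _ => ℕ) rb1724 rb1725 (Nat.ble (nat_lit 1725) i)) (@Bool.rec (fun _ => ℕ) rb1726 rb1727 (Nat.ble (nat_lit 1727) i)) (Nat.ble (nat_lit 1726) i)) (Nat.ble (nat_lit 1724) i)) (Nat.ble (nat_lit 1720) i)) (Nat.ble (nat_lit 1712) i))

def rowBlk_n0_54 (i : ℕ) : ℕ := (@Bool.rec (fun _ => ℕ) (@Bool.rec (fun _ => ℕ) (@Bool.rec (fun _ => ℕ) (@Bool.rec (fun _ => ℕ) (@Bool.rec (fun _ => ℕ) rb1728 rb1729 (Nat.ble (nat_lit 1729) i)) (@Bool.rec (fun _ => ℕ) rb1730 rb1731 (Nat.ble (nat_lit 1731) i)) (Nat.ble (nat_lit 1730) i)) (@Bool.rec (fun _ => ℕ) (@Bool.rec (fun _ => ℕ) rb1732 rb1733 (Nat.ble (nat_lit 1733) i)) (@Bool.rec (fun _ => ℕ) rb1734 rb1735 (Nat.ble (nat_lit 1735) i)) (Nat.ble (nat_lit 1734) i)) (Nat.ble (nat_lit 1732) i)) (@Bool.rec (fun _ => ℕ) (@Bool.rec (fun _ => ℕ) (@Bool.rec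 (fun _ => ℕ) rb1736 rb1737 (Nat.ble (nat_lit 1737) i)) (@Bool.rec (fun _ => ℕ) rb1738 rb1739 (Nat.ble (nat_lit 1739) i)) (Nat.ble (nat_lit 1738) i)) (@Bool.rec (fun _ => ℕ) (@Bool.rec (fun _ => ℕ) rb1740 rb1741 (Nat.ble (nat_lit 1741) i)) (@Bool.rec (fun _ => ℕ) rb1742 rb1743 (Nat.ble (nat_lit 1743) i)) (Nat.ble (nat_lit 1742) i)) (Nat.ble (nat_lit 1740) i)) (Nat.ble (nat_lit 1736) i)) (@Bool.rec (fun _ => ℕ) (@Bool.rec (fun _ => ℕ) (@Bool.rec (fun _ => ℕ) (@Bool.rec (fun _ => ℕ) rb1744 rb1745 (Nat.ble (nat_lit 1745) i)) (@Bool.rec (fun _ => ℕ) rb1746 rb1747 (Nat.ble (nat_lit 1747) i)) (Nat.ble (nat_lit 1746) i)) (@Bool.rec (fun _ => ℕ) (@Bool.rec (fun _ => ℕ) rb1748 rb1749 (Nat.ble (nat_lit 1749) i)) (@Bool.rec (fun _ => ℕ) rb1750 rb1751 (Nat.ble (nat_lit 1751) i)) (Nat.ble (nat_lit 1750) i)) (Nat.ble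 (nat_lit 1748) i)) (@Bool.rec (fun _ => ℕ) (@Bool.rec (fun _ => ℕ) (@Bool.rec (fun _ => ℕ) rb1752 rb1753 (Nat.ble (nat_lit 1753) i)) (@Bool.rec (fun _ => ℕ) rb1754 rb1755 (Nat.ble (nat_lit 1755) i)) (Nat.ble (nat_lit 1754) i)) (@Bool.rec (fun _ => ℕ) (@Bool.rec (fun _ => ℕ) rb1756 rb1757 (Nat.ble (nat_lit 1757) i)) (@Bool.rec (fun _ => ℕ) rb1758 rb1759 (Nat.ble (nat_lit 1759) i)) (Nat.ble (nat_lit 1758) i)) (Nat.ble (nat_lit 1756) i)) (Nat.ble (nat_lit 1752) i)) (Nat.ble (nat_lit 1744) i))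

def rowBlk_n0_55 (i : ℕ) : ℕ := (@Bool.rec (fun _ => ℕ) (@Bool.rec (fun _ => ℕ) (@Bool.rec (fun _ => ℕ) (@Bool.rec (fun _ => ℕ) (@Bool.rec (fun _ => ℕ) rb1760 rb1761 (Nat.ble (nat_lit 1761) i)) (@Bool.rec (fun _ => ℕ) rb1762 rb1763 (Nat.ble (nat_lit 1763) i)) (Nat.ble (nat_lit 1762) i)) (@Bool.rec (fun _ => ℕ) (@Bool.rec (fun _ => ℕ) rb1764 rb1765 (Nat.ble (nat_lit 1765) i)) (@Bool.rec (fun _ => ℕ) rb1766 rb1767 (Nat.ble (nat_lit 1767) i)) (Nat.ble (nat_lit 1766) i)) (Nat.ble (nat_lit 1764) i)) (@Bool.rec (fun _ => ℕ) (@Bool.rec (fun _ => ℕ) (@Bool.rec (fun _ => ℕ) rb1768 rb1769 (Nat.ble (nat_lit 1769) i)) (@Bool.rec (fun _ => ℕ) rb1770 rb1771 (Nat.ble (nat_lit 1771) i)) (Nat.ble (nat_lit 1770) i)) (@Bool.rec (fun _ => ℕ) (@Bool.rec (fun _ => ℕ) rb1772 rb1773 (Nat.ble (nat_lit 1773) i)) (@Bool.rec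 (fun _ => ℕ) rb1774 rb1775 (Nat.ble (nat_lit 1775) i)) (Nat.ble (nat_lit 1774) i)) (Nat.ble (nat_lit 1772) i)) (Nat.ble (nat_lit 1768) i)) (@Bool.rec (fun _ => ℕ) (@Bool.rec (fun _ => ℕ) (@Bool.rec (fun _ => ℕ) (@Bool.rec (fun _ => ℕ) rb1776 rb1777 (Nat.ble (nat_lit 1777) i)) (@Bool.rec (fun _ => ℕ) rb1778 rb1779 (Nat.ble (nat_lit 1779) i)) (Nat.ble (nat_lit 1778) i)) (@Bool.rec (fun _ => ℕ) (@Bool.rec (fun _ => ℕ) rb1780 rb1781 (Nat.ble (nat_lit 1781) i)) (@Bool.rec (fun _ => ℕ) rb1782 rb1783 (Nat.ble (nat_lit 1783) i)) (Nat.ble (nat_lit 1782) i)) (Nat.ble (nat_lit 1780) i)) (@Bool.rec (fun _ => ℕ) (@Bool.rec (fun _ => ℕ) (@Bool.rec (fun _ => ℕ) rb1784 rb1785 (Nat.ble (nat_lit 1785) i)) (@Bool.rec (fun _ => ℕ) rb1786 rb1787 (Nat.ble (nat_lit 1787) i)) (Nat.ble (nat_lit 1786) i)) (@Bool.rec (fun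 _ => ℕ) (@Bool.rec (fun _ => ℕ) rb1788 rb1789 (Nat.ble (nat_lit 1789) i)) (@Bool.rec (fun _ => ℕ) rb1790 rb1791 (Nat.ble (nat_lit 1791) i)) (Nat.ble (nat_lit 1790) i)) (Nat.ble (nat_lit 1788) i)) (Nat.ble (nat_lit 1784) i)) (Nat.ble (nat_lit 1776) i))

def rowBlk_n0_56 (i : ℕ) : ℕ := (@Bool.rec (fun _ => ℕ) (@Bool.rec (fun _ => ℕ) (@Bool.rec (fun _ => ℕ) (@Bool.rec (fun _ => ℕ) (@Bool.rec (fun _ => ℕ) rb1792 rb1793 (Nat.ble (nat_lit 1793) i)) (@Bool.rec (fun _ => ℕ) rb1794 rb1795 (Nat.ble (nat_lit 1795) i)) (Nat.ble (nat_lit 1794) i)) (@Bool.rec (fun _ => ℕ) (@Bool.rec (fun _ => ℕ) rb1796 rb1797 (Nat.ble (nat_lit 1797) i)) (@Bool.rec (fun _ => ℕ) rb1798 rb1799 (Nat.ble (nat_lit 1799) i)) (Nat.ble (nat_lit 1798) i)) (Nat.ble (nat_lit 1796) i)) (@Bool.rec (fun _ => ℕ) (@Bool.rec (fun _ => ℕ) (@Bool.rec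 (fun _ => ℕ) rb1800 rb1801 (Nat.ble (nat_lit 1801) i)) (@Bool.rec (fun _ => ℕ) rb1802 rb1803 (Nat.ble (nat_lit 1803) i)) (Nat.ble (nat_lit 1802) i)) (@Bool.rec (fun _ => ℕ) (@Bool.rec (fun _ => ℕ) rb1804 rb1805 (Nat.ble (nat_lit 1805) i)) (@Bool.rec (fun _ => ℕ) rb1806 rb1807 (Nat.ble (nat_lit 1807) i)) (Nat.ble (nat_lit 1806) i)) (Nat.ble (nat_lit 1804) i)) (Nat.ble (nat_lit 1800) i)) (@Bool.rec (fun _ => ℕ) (@Bool.rec (fun _ => ℕ) (@Bool.rec (fun _ => ℕ) (@Bool.rec (fun _ => ℕ) rb1808 rb1809 (Nat.ble (nat_lit 1809) i)) (@Bool.rec (fun _ => ℕ) rb1810 rb1811 (Nat.ble (nat_lit 1811) i)) (Nat.ble (nat_lit 1810) i)) (@Bool.rec (fun _ => ℕ) (@Bool.rec (fun _ => ℕ) rb1812 rb1813 (Nat.ble (nat_lit 1813) i)) (@Bool.rec (fun _ => ℕ) rb1814 rb1815 (Nat.ble (nat_lit 1815) i)) (Nat.ble (nat_lit 1814) i)) (Nat.ble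 (nat_lit 1812) i)) (@Bool.rec (fun _ => ℕ) (@Bool.rec (fun _ => ℕ) (@Bool.rec (fun _ => ℕ) rb1816 rb1817 (Nat.ble (nat_lit 1817) i)) (@Bool.rec (fun _ => ℕ) rb1818 rb1819 (Nat.ble (nat_lit 1819) i)) (Nat.ble (nat_lit 1818) i)) (@Bool.rec (fun _ => ℕ) (@Bool.rec (fun _ => ℕ) rb1820 rb1821 (Nat.ble (nat_lit 1821) i)) (@Bool.rec (fun _ => ℕ) rb1822 rb1823 (Nat.ble (nat_lit 1823) i)) (Nat.ble (nat_lit 1822) i)) (Nat.ble (nat_lit 1820) i)) (Nat.ble (nat_lit 1816) i)) (Nat.ble (nat_lit 1808) i))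

def rowBlk_n0_57 (i : ℕ) : ℕ := (@Bool.rec (fun _ => ℕ) (@Bool.rec (fun _ => ℕ) (@Bool.rec (fun _ => ℕ) (@Bool.rec (fun _ => ℕ) (@Bool.rec (fun _ => ℕ) rb1824 rb1825 (Nat.ble (nat_lit 1825) i)) (@Bool.rec (fun _ => ℕ) rb1826 rb1827 (Nat.ble (nat_lit 1827) i)) (Nat.ble (nat_lit 1826) i)) (@Bool.rec (fun _ => ℕ) (@Bool.rec (fun _ => ℕ) rb1828 rb1829 (Nat.ble (nat_lit 1829) i)) (@Bool.rec (fun _ => ℕ) rb1830 rb1831 (Nat.ble (nat_lit 1831) i)) (Nat.ble (nat_lit 1830) i)) (Nat.ble (nat_lit 1828) i)) (@Bool.rec (fun _ => ℕ) (@Bool.rec (fun _ => ℕ) (@Bool.rec (fun _ => ℕ) rb1832 rb1833 (Nat.ble (nat_lit 1833) i)) (@Bool.rec (fun _ => ℕ) rb1834 rb1835 (Nat.ble (nat_lit 1835) i)) (Nat.ble (nat_lit 1834) i)) (@Bool.rec (fun _ => ℕ) (@Bool.rec (fun _ => ℕ) rb1836 rb1837 (Nat.ble (nat_lit 1837) i)) (@Bool.rec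 (fun _ => ℕ) rb1838 rb1839 (Nat.ble (nat_lit 1839) i)) (Nat.ble (nat_lit 1838) i)) (Nat.ble (nat_lit 1836) i)) (Nat.ble (nat_lit 1832) i)) (@Bool.rec (fun _ => ℕ) (@Bool.rec (fun _ => ℕ) (@Bool.rec (fun _ => ℕ) (@Bool.rec (fun _ => ℕ) rb1840 rb1841 (Nat.ble (nat_lit 1841) i)) (@Bool.rec (fun _ => ℕ) rb1842 rb1843 (Nat.ble (nat_lit 1843) i)) (Nat.ble (nat_lit 1842) i)) (@Bool.rec (fun _ => ℕ) (@Bool.rec (fun _ => ℕ) rb1844 rb1845 (Nat.ble (nat_lit 1845) i)) (@Bool.rec (fun _ => ℕ) rb1846 rb1847 (Nat.ble (nat_lit 1847) i)) (Nat.ble (nat_lit 1846) i)) (Nat.ble (nat_lit 1844) i)) (@Bool.rec (fun _ => ℕ) (@Bool.rec (fun _ => ℕ) (@Bool.rec (fun _ => ℕ) rb1848 rb1849 (Nat.ble (nat_lit 1849) i)) (@Bool.rec (fun _ => ℕ) rb1850 rb1851 (Nat.ble (nat_lit 1851) i)) (Nat.ble (nat_lit 1850) i)) (@Bool.rec (fun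 _ => ℕ) (@Bool.rec (fun _ => ℕ) rb1852 rb1853 (Nat.ble (nat_lit 1853) i)) (@Bool.rec (fun _ => ℕ) rb1854 rb1855 (Nat.ble (nat_lit 1855) i)) (Nat.ble (nat_lit 1854) i)) (Nat.ble (nat_lit 1852) i)) (Nat.ble (nat_lit 1848) i)) (Nat.ble (nat_lit 1840) i))

def rowBlk_n0_58 (i : ℕ) : ℕ := (@Bool.rec (fun _ => ℕ) (@Bool.rec (fun _ => ℕ) (@Bool.rec (fun _ => ℕ) (@Bool.rec (fun _ => ℕ) (@Bool.rec (fun _ => ℕ) rb1856 rb1857 (Nat.ble (nat_lit 1857) i)) (@Bool.rec (fun _ => ℕ) rb1858 rb1859 (Nat.ble (nat_lit 1859) i)) (Nat.ble (nat_lit 1858) i)) (@Bool.rec (fun _ => ℕ) (@Bool.rec (fun _ => ℕ) rb1860 rb1861 (Nat.ble (nat_lit 1861) i)) (@Bool.rec (fun _ => ℕ) rb1862 rb1863 (Nat.ble (nat_lit 1863) i)) (Nat.ble (nat_lit 1862) i)) (Nat.ble (nat_lit 1860) i)) (@Bool.rec (fun _ => ℕ) (@Bool.rec (fun _ => ℕ) (@Bool.rec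 (fun _ => ℕ) rb1864 rb1865 (Nat.ble (nat_lit 1865) i)) (@Bool.rec (fun _ => ℕ) rb1866 rb1867 (Nat.ble (nat_lit 1867) i)) (Nat.ble (nat_lit 1866) i)) (@Bool.rec (fun _ => ℕ) (@Bool.rec (fun _ => ℕ) rb1868 rb1869 (Nat.ble (nat_lit 1869) i)) (@Bool.rec (fun _ => ℕ) rb1870 rb1871 (Nat.ble (nat_lit 1871) i)) (Nat.ble (nat_lit 1870) i)) (Nat.ble (nat_lit 1868) i)) (Nat.ble (nat_lit 1864) i)) (@Bool.rec (fun _ => ℕ) (@Bool.rec (fun _ => ℕ) (@Bool.rec (fun _ => ℕ) (@Bool.rec (fun _ => ℕ) rb1872 rb1873 (Nat.ble (nat_lit 1873) i)) (@Bool.rec (fun _ => ℕ) rb1874 rb1875 (Nat.ble (nat_lit 1875) i)) (Nat.ble (nat_lit 1874) i)) (@Bool.rec (fun _ => ℕ) (@Bool.rec (fun _ => ℕ) rb1876 rb1877 (Nat.ble (nat_lit 1877) i)) (@Bool.rec (fun _ => ℕ) rb1878 rb1879 (Nat.ble (nat_lit 1879) i)) (Nat.ble (nat_lit 1878) i)) (Nat.ble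 (nat_lit 1876) i)) (@Bool.rec (fun _ => ℕ) (@Bool.rec (fun _ => ℕ) (@Bool.rec (fun _ => ℕ) rb1880 rb1881 (Nat.ble (nat_lit 1881) i)) (@Bool.rec (fun _ => ℕ) rb1882 rb1883 (Nat.ble (nat_lit 1883) i)) (Nat.ble (nat_lit 1882) i)) (@Bool.rec (fun _ => ℕ) (@Bool.rec (fun _ => ℕ) rb1884 rb1885 (Nat.ble (nat_lit 1885) i)) (@Bool.rec (fun _ => ℕ) rb1886 rb1887 (Nat.ble (nat_lit 1887) i)) (Nat.ble (nat_lit 1886) i)) (Nat.ble (nat_lit 1884) i)) (Nat.ble (nat_lit 1880) i)) (Nat.ble (nat_lit 1872) i))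

def rowBlk_n0_59 (i : ℕ) : ℕ := (@Bool.rec (fun _ => ℕ) (@Bool.rec (fun _ => ℕ) (@Bool.rec (fun _ => ℕ) (@Bool.rec (fun _ => ℕ) (@Bool.rec (fun _ => ℕ) rb1888 rb1889 (Nat.ble (nat_lit 1889) i)) (@Bool.rec (fun _ => ℕ) rb1890 rb1891 (Nat.ble (nat_lit 1891) i)) (Nat.ble (nat_lit 1890) i)) (@Bool.rec (fun _ => ℕ) (@Bool.rec (fun _ => ℕ) rb1892 rb1893 (Nat.ble (nat_lit 1893) i)) (@Bool.rec (fun _ => ℕ) rb1894 rb1895 (Nat.ble (nat_lit 1895) i)) (Nat.ble (nat_lit 1894) i)) (Nat.ble (nat_lit 1892) i)) (@Bool.rec (fun _ => ℕ) (@Bool.rec (fun _ => ℕ) (@Bool.rec (fun _ => ℕ) rb1896 rb1897 (Nat.ble (nat_lit 1897) i)) (@Bool.rec (fun _ => ℕ) rb1898 rb1899 (Nat.ble (nat_lit 1899) i)) (Nat.ble (nat_lit 1898) i)) (@Bool.rec (fun _ => ℕ) (@Bool.rec (fun _ => ℕ) rb1900 rb1901 (Nat.ble (nat_lit 1901) i)) (@Bool.rec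 (fun _ => ℕ) rb1902 rb1903 (Nat.ble (nat_lit 1903) i)) (Nat.ble (nat_lit 1902) i)) (Nat.ble (nat_lit 1900) i)) (Nat.ble (nat_lit 1896) i)) (@Bool.rec (fun _ => ℕ) (@Bool.rec (fun _ => ℕ) (@Bool.rec (fun _ => ℕ) (@Bool.rec (fun _ => ℕ) rb1904 rb1905 (Nat.ble (nat_lit 1905) i)) (@Bool.rec (fun _ => ℕ) rb1906 rb1907 (Nat.ble (nat_lit 1907) i)) (Nat.ble (nat_lit 1906) i)) (@Bool.rec (fun _ => ℕ) (@Bool.rec (fun _ => ℕ) rb1908 rb1909 (Nat.ble (nat_lit 1909) i)) (@Bool.rec (fun _ => ℕ) rb1910 rb1911 (Nat.ble (nat_lit 1911) i)) (Nat.ble (nat_lit 1910) i)) (Nat.ble (nat_lit 1908) i)) (@Bool.rec (fun _ => ℕ) (@Bool.rec (fun _ => ℕ) (@Bool.rec (fun _ => ℕ) rb1912 rb1913 (Nat.ble (nat_lit 1913) i)) (@Bool.rec (fun _ => ℕ) rb1914 rb1915 (Nat.ble (nat_lit 1915) i)) (Nat.ble (nat_lit 1914) i)) (@Bool.rec (fun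 _ => ℕ) (@Bool.rec (fun _ => ℕ) rb1916 rb1917 (Nat.ble (nat_lit 1917) i)) (@Bool.rec (fun _ => ℕ) rb1918 rb1919 (Nat.ble (nat_lit 1919) i)) (Nat.ble (nat_lit 1918) i)) (Nat.ble (nat_lit 1916) i)) (Nat.ble (nat_lit 1912) i)) (Nat.ble (nat_lit 1904) i))

def rowBlk_n0_60 (i : ℕ) : ℕ := (@Bool.rec (fun _ => ℕ) (@Bool.rec (fun _ => ℕ) (@Bool.rec (fun _ => ℕ) (@Bool.rec (fun _ => ℕ) (@Bool.rec (fun _ => ℕ) rb1920 rb1921 (Nat.ble (nat_lit 1921) i)) (@Bool.rec (fun _ => ℕ) rb1922 rb1923 (Nat.ble (nat_lit 1923) i)) (Nat.ble (nat_lit 1922) i)) (@Bool.rec (fun _ => ℕ) (@Bool.rec (fun _ => ℕ) rb1924 rb1925 (Nat.ble (nat_lit 1925) i)) (@Bool.rec (fun _ => ℕ) rb1926 rb1927 (Nat.ble (nat_lit 1927) i)) (Nat.ble (nat_lit 1926) i)) (Nat.ble (nat_lit 1924) i)) (@Bool.rec (fun _ => ℕ) (@Bool.rec (fun _ => ℕ) (@Bool.rec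 (fun _ => ℕ) rb1928 rb1929 (Nat.ble (nat_lit 1929) i)) (@Bool.rec (fun _ => ℕ) rb1930 rb1931 (Nat.ble (nat_lit 1931) i)) (Nat.ble (nat_lit 1930) i)) (@Bool.rec (fun _ => ℕ) (@Bool.rec (fun _ => ℕ) rb1932 rb1933 (Nat.ble (nat_lit 1933) i)) (@Bool.rec (fun _ => ℕ) rb1934 rb1935 (Nat.ble (nat_lit 1935) i)) (Nat.ble (nat_lit 1934) i)) (Nat.ble (nat_lit 1932) i)) (Nat.ble (nat_lit 1928) i)) (@Bool.rec (fun _ => ℕ) (@Bool.rec (fun _ => ℕ) (@Bool.rec (fun _ => ℕ) (@Bool.rec (fun _ => ℕ) rb1936 rb1937 (Nat.ble (nat_lit 1937) i)) (@Bool.rec (fun _ => ℕ) rb1938 rb1939 (Nat.ble (nat_lit 1939) i)) (Nat.ble (nat_lit 1938) i)) (@Bool.rec (fun _ => ℕ) (@Bool.rec (fun _ => ℕ) rb1940 rb1941 (Nat.ble (nat_lit 1941) i)) (@Bool.rec (fun _ => ℕ) rb1942 rb1943 (Nat.ble (nat_lit 1943) i)) (Nat.ble (nat_lit 1942) i)) (Nat.ble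 (nat_lit 1940) i)) (@Bool.rec (fun _ => ℕ) (@Bool.rec (fun _ => ℕ) (@Bool.rec (fun _ => ℕ) rb1944 rb1945 (Nat.ble (nat_lit 1945) i)) (@Bool.rec (fun _ => ℕ) rb1946 rb1947 (Nat.ble (nat_lit 1947) i)) (Nat.ble (nat_lit 1946) i)) (@Bool.rec (fun _ => ℕ) (@Bool.rec (fun _ => ℕ) rb1948 rb1949 (Nat.ble (nat_lit 1949) i)) (@Bool.rec (fun _ => ℕ) rb1950 rb1951 (Nat.ble (nat_lit 1951) i)) (Nat.ble (nat_lit 1950) i)) (Nat.ble (nat_lit 1948) i)) (Nat.ble (nat_lit 1944) i)) (Nat.ble (nat_lit 1936) i))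

def rowBlk_n0_61 (i : ℕ) : ℕ := (@Bool.rec (fun _ => ℕ) (@Bool.rec (fun _ => ℕ) (@Bool.rec (fun _ => ℕ) (@Bool.rec (fun _ => ℕ) (@Bool.rec (fun _ => ℕ) rb1952 rb1953 (Nat.ble (nat_lit 1953) i)) (@Bool.rec (fun _ => ℕ) rb1954 rb1955 (Nat.ble (nat_lit 1955) i)) (Nat.ble (nat_lit 1954) i)) (@Bool.rec (fun _ => ℕ) (@Bool.rec (fun _ => ℕ) rb1956 rb1957 (Nat.ble (nat_lit 1957) i)) (@Bool.rec (fun _ => ℕ) rb1958 rb1959 (Nat.ble (nat_lit 1959) i)) (Nat.ble (nat_lit 1958) i)) (Nat.ble (nat_lit 1956) i)) (@Bool.rec (fun _ => ℕ) (@Bool.rec (fun _ => ℕ) (@Bool.rec (fun _ => ℕ) rb1960 rb1961 (Nat.ble (nat_lit 1961) i)) (@Bool.rec (fun _ => ℕ) rb1962 rb1963 (Nat.ble (nat_lit 1963) i)) (Nat.ble (nat_lit 1962) i)) (@Bool.rec (fun _ => ℕ) (@Bool.rec (fun _ => ℕ) rb1964 rb1965 (Nat.ble (nat_lit 1965) i)) (@Bool.rec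 (fun _ => ℕ) rb1966 rb1967 (Nat.ble (nat_lit 1967) i)) (Nat.ble (nat_lit 1966) i)) (Nat.ble (nat_lit 1964) i)) (Nat.ble (nat_lit 1960) i)) (@Bool.rec (fun _ => ℕ) (@Bool.rec (fun _ => ℕ) (@Bool.rec (fun _ => ℕ) (@Bool.rec (fun _ => ℕ) rb1968 rb1969 (Nat.ble (nat_lit 1969) i)) (@Bool.rec (fun _ => ℕ) rb1970 rb1971 (Nat.ble (nat_lit 1971) i)) (Nat.ble (nat_lit 1970) i)) (@Bool.rec (fun _ => ℕ) (@Bool.rec (fun _ => ℕ) rb1972 rb1973 (Nat.ble (nat_lit 1973) i)) (@Bool.rec (fun _ => ℕ) rb1974 rb1975 (Nat.ble (nat_lit 1975) i)) (Nat.ble (nat_lit 1974) i)) (Nat.ble (nat_lit 1972) i)) (@Bool.rec (fun _ => ℕ) (@Bool.rec (fun _ => ℕ) (@Bool.rec (fun _ => ℕ) rb1976 rb1977 (Nat.ble (nat_lit 1977) i)) (@Bool.rec (fun _ => ℕ) rb1978 rb1979 (Nat.ble (nat_lit 1979) i)) (Nat.ble (nat_lit 1978) i)) (@Bool.rec (fun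 _ => ℕ) (@Bool.rec (fun _ => ℕ) rb1980 rb1981 (Nat.ble (nat_lit 1981) i)) (@Bool.rec (fun _ => ℕ) rb1982 rb1983 (Nat.ble (nat_lit 1983) i)) (Nat.ble (nat_lit 1982) i)) (Nat.ble (nat_lit 1980) i)) (Nat.ble (nat_lit 1976) i)) (Nat.ble (nat_lit 1968) i))

def rowBlk_n0_62 (i : ℕ) : ℕ := (@Bool.rec (fun _ => ℕ) (@Bool.rec (fun _ => ℕ) (@Bool.rec (fun _ => ℕ) (@Bool.rec (fun _ => ℕ) (@Bool.rec (fun _ => ℕ) rb1984 rb1985 (Nat.ble (nat_lit 1985) i)) (@Bool.rec (fun _ => ℕ) rb1986 rb1987 (Nat.ble (nat_lit 1987) i)) (Nat.ble (nat_lit 1986) i)) (@Bool.rec (fun _ => ℕ) (@Bool.rec (fun _ => ℕ) rb1988 rb1989 (Nat.ble (nat_lit 1989) i)) (@Bool.rec (fun _ => ℕ) rb1990 rb1991 (Nat.ble (nat_lit 1991) i)) (Nat.ble (nat_lit 1990) i)) (Nat.ble (nat_lit 1988) i)) (@Bool.rec (fun _ => ℕ) (@Bool.rec (fun _ => ℕ) (@Bool.rec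 (fun _ => ℕ) rb1992 rb1993 (Nat.ble (nat_lit 1993) i)) (@Bool.rec (fun _ => ℕ) rb1994 rb1995 (Nat.ble (nat_lit 1995) i)) (Nat.ble (nat_lit 1994) i)) (@Bool.rec (fun _ => ℕ) (@Bool.rec (fun _ => ℕ) rb1996 rb1997 (Nat.ble (nat_lit 1997) i)) (@Bool.rec (fun _ => ℕ) rb1998 rb1999 (Nat.ble (nat_lit 1999) i)) (Nat.ble (nat_lit 1998) i)) (Nat.ble (nat_lit 1996) i)) (Nat.ble (nat_lit 1992) i)) (@Bool.rec (fun _ => ℕ) (@Bool.rec (fun _ => ℕ) (@Bool.rec (fun _ => ℕ) (@Bool.rec (fun _ => ℕ) rb2000 rb2001 (Nat.ble (nat_lit 2001) i)) (@Bool.rec (fun _ => ℕ) rb2002 rb2003 (Nat.ble (nat_lit 2003) i)) (Nat.ble (nat_lit 2002) i)) (@Bool.rec (fun _ => ℕ) (@Bool.rec (fun _ => ℕ) rb2004 rb2005 (Nat.ble (nat_lit 2005) i)) (@Bool.rec (fun _ => ℕ) rb2006 rb2007 (Nat.ble (nat_lit 2007) i)) (Nat.ble (nat_lit 2006) i)) (Nat.ble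 (nat_lit 2004) i)) (@Bool.rec (fun _ => ℕ) (@Bool.rec (fun _ => ℕ) (@Bool.rec (fun _ => ℕ) rb2008 rb2009 (Nat.ble (nat_lit 2009) i)) (@Bool.rec (fun _ => ℕ) rb2010 rb2011 (Nat.ble (nat_lit 2011) i)) (Nat.ble (nat_lit 2010) i)) (@Bool.rec (fun _ => ℕ) (@Bool.rec (fun _ => ℕ) rb2012 rb2013 (Nat.ble (nat_lit 2013) i)) (@Bool.rec (fun _ => ℕ) rb2014 rb2015 (Nat.ble (nat_lit 2015) i)) (Nat.ble (nat_lit 2014) i)) (Nat.ble (nat_lit 2012) i)) (Nat.ble (nat_lit 2008) i)) (Nat.ble (nat_lit 2000) i))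

def rowBlk_n0_63 (i : ℕ) : ℕ := (@Bool.rec (fun _ => ℕ) (@Bool.rec (fun _ => ℕ) (@Bool.rec (fun _ => ℕ) (@Bool.rec (fun _ => ℕ) (@Bool.rec (fun _ => ℕ) rb2016 rb2017 (Nat.ble (nat_lit 2017) i)) (@Bool.rec (fun _ => ℕ) rb2018 rb2019 (Nat.ble (nat_lit 2019) i)) (Nat.ble (nat_lit 2018) i)) (@Bool.rec (fun _ => ℕ) (@Bool.rec (fun _ => ℕ) rb2020 rb2021 (Nat.ble (nat_lit 2021) i)) (@Bool.rec (fun _ => ℕ) rb2022 rb2023 (Nat.ble (nat_lit 2023) i)) (Nat.ble (nat_lit 2022) i)) (Nat.ble (nat_lit 2020) i)) (@Bool.rec (fun _ => ℕ) (@Bool.rec (fun _ => ℕ) (@Bool.rec (fun _ => ℕ) rb2024 rb2025 (Nat.ble (nat_lit 2025) i)) (@Bool.rec (fun _ => ℕ) rb2026 rb2027 (Nat.ble (nat_lit 2027) i)) (Nat.ble (nat_lit 2026) i)) (@Bool.rec (fun _ => ℕ) (@Bool.rec (fun _ => ℕ) rb2028 rb2029 (Nat.ble (nat_lit 2029) i)) (@Bool.rec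 (fun _ => ℕ) rb2030 rb2031 (Nat.ble (nat_lit 2031) i)) (Nat.ble (nat_lit 2030) i)) (Nat.ble (nat_lit 2028) i)) (Nat.ble (nat_lit 2024) i)) (@Bool.rec (fun _ => ℕ) (@Bool.rec (fun _ => ℕ) (@Bool.rec (fun _ => ℕ) (@Bool.rec (fun _ => ℕ) rb2032 rb2033 (Nat.ble (nat_lit 2033) i)) (@Bool.rec (fun _ => ℕ) rb2034 rb2035 (Nat.ble (nat_lit 2035) i)) (Nat.ble (nat_lit 2034) i)) (@Bool.rec (fun _ => ℕ) (@Bool.rec (fun _ => ℕ) rb2036 rb2037 (Nat.ble (nat_lit 2037) i)) (@Bool.rec (fun _ => ℕ) rb2038 rb2039 (Nat.ble (nat_lit 2039) i)) (Nat.ble (nat_lit 2038) i)) (Nat.ble (nat_lit 2036) i)) (@Bool.rec (fun _ => ℕ) (@Bool.rec (fun _ => ℕ) (@Bool.rec (fun _ => ℕ) rb2040 rb2041 (Nat.ble (nat_lit 2041) i)) (@Bool.rec (fun _ => ℕ) rb2042 rb2043 (Nat.ble (nat_lit 2043) i)) (Nat.ble (nat_lit 2042) i)) (@Bool.rec (fun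 _ => ℕ) (@Bool.rec (fun _ => ℕ) rb2044 rb2045 (Nat.ble (nat_lit 2045) i)) (@Bool.rec (fun _ => ℕ) rb2046 rb2047 (Nat.ble (nat_lit 2047) i)) (Nat.ble (nat_lit 2046) i)) (Nat.ble (nat_lit 2044) i)) (Nat.ble (nat_lit 2040) i)) (Nat.ble (nat_lit 2032) i))

def rowBlk_n0_64 (i : ℕ) : ℕ := (@Bool.rec (fun _ => ℕ) (@Bool.rec (fun _ => ℕ) (@Bool.rec (fun _ => ℕ) (@Bool.rec (fun _ => ℕ) (@Bool.rec (fun _ => ℕ) rb2048 rb2049 (Nat.ble (nat_lit 2049) i)) (@Bool.rec (fun _ => ℕ) rb2050 rb2051 (Nat.ble (nat_lit 2051) i)) (Nat.ble (nat_lit 2050) i)) (@Bool.rec (fun _ => ℕ) (@Bool.rec (fun _ => ℕ) rb2052 rb2053 (Nat.ble (nat_lit 2053) i)) (@Bool.rec (fun _ => ℕ) rb2054 rb2055 (Nat.ble (nat_lit 2055) i)) (Nat.ble (nat_lit 2054) i)) (Nat.ble (nat_lit 2052) i)) (@Bool.rec (fun _ => ℕ) (@Bool.rec (fun _ => ℕ) (@Bool.rec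 (fun _ => ℕ) rb2056 rb2057 (Nat.ble (nat_lit 2057) i)) (@Bool.rec (fun _ => ℕ) rb2058 rb2059 (Nat.ble (nat_lit 2059) i)) (Nat.ble (nat_lit 2058) i)) (@Bool.rec (fun _ => ℕ) (@Bool.rec (fun _ => ℕ) rb2060 rb2061 (Nat.ble (nat_lit 2061) i)) (@Bool.rec (fun _ => ℕ) rb2062 rb2063 (Nat.ble (nat_lit 2063) i)) (Nat.ble (nat_lit 2062) i)) (Nat.ble (nat_lit 2060) i)) (Nat.ble (nat_lit 2056) i)) (@Bool.rec (fun _ => ℕ) (@Bool.rec (fun _ => ℕ) (@Bool.rec (fun _ => ℕ) (@Bool.rec (fun _ => ℕ) rb2064 rb2065 (Nat.ble (nat_lit 2065) i)) (@Bool.rec (fun _ => ℕ) rb2066 rb2067 (Nat.ble (nat_lit 2067) i)) (Nat.ble (nat_lit 2066) i)) (@Bool.rec (fun _ => ℕ) (@Bool.rec (fun _ => ℕ) rb2068 rb2069 (Nat.ble (nat_lit 2069) i)) (@Bool.rec (fun _ => ℕ) rb2070 rb2071 (Nat.ble (nat_lit 2071) i)) (Nat.ble (nat_lit 2070) i)) (Nat.ble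 (nat_lit 2068) i)) (@Bool.rec (fun _ => ℕ) (@Bool.rec (fun _ => ℕ) (@Bool.rec (fun _ => ℕ) rb2072 rb2073 (Nat.ble (nat_lit 2073) i)) (@Bool.rec (fun _ => ℕ) rb2074 rb2075 (Nat.ble (nat_lit 2075) i)) (Nat.ble (nat_lit 2074) i)) (@Bool.rec (fun _ => ℕ) (@Bool.rec (fun _ => ℕ) rb2076 rb2077 (Nat.ble (nat_lit 2077) i)) (@Bool.rec (fun _ => ℕ) rb2078 rb2079 (Nat.ble (nat_lit 2079) i)) (Nat.ble (nat_lit 2078) i)) (Nat.ble (nat_lit 2076) i)) (Nat.ble (nat_lit 2072) i)) (Nat.ble (nat_lit 2064) i))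

def rowBlk_n0_65 (i : ℕ) : ℕ := (@Bool.rec (fun _ => ℕ) (@Bool.rec (fun _ => ℕ) (@Bool.rec (fun _ => ℕ) (@Bool.rec (fun _ => ℕ) (@Bool.rec (fun _ => ℕ) rb2080 rb2081 (Nat.ble (nat_lit 2081) i)) (@Bool.rec (fun _ => ℕ) rb2082 rb2083 (Nat.ble (nat_lit 2083) i)) (Nat.ble (nat_lit 2082) i)) (@Bool.rec (fun _ => ℕ) (@Bool.rec (fun _ => ℕ) rb2084 rb2085 (Nat.ble (nat_lit 2085) i)) (@Bool.rec (fun _ => ℕ) rb2086 rb2087 (Nat.ble (nat_lit 2087) i)) (Nat.ble (nat_lit 2086) i)) (Nat.ble (nat_lit 2084) i)) (@Bool.rec (fun _ => ℕ) (@Bool.rec (fun _ => ℕ) (@Bool.rec (fun _ => ℕ) rb2088 rb2089 (Nat.ble (nat_lit 2089) i)) (@Bool.rec (fun _ => ℕ) rb2090 rb2091 (Nat.ble (nat_lit 2091) i)) (Nat.ble (nat_lit 2090) i)) (@Bool.rec (fun _ => ℕ) (@Bool.rec (fun _ => ℕ) rb2092 rb2093 (Nat.ble (nat_lit 2093) i)) (@Bool.rec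 (fun _ => ℕ) rb2094 rb2095 (Nat.ble (nat_lit 2095) i)) (Nat.ble (nat_lit 2094) i)) (Nat.ble (nat_lit 2092) i)) (Nat.ble (nat_lit 2088) i)) (@Bool.rec (fun _ => ℕ) (@Bool.rec (fun _ => ℕ) (@Bool.rec (fun _ => ℕ) (@Bool.rec (fun _ => ℕ) rb2096 rb2097 (Nat.ble (nat_lit 2097) i)) (@Bool.rec (fun _ => ℕ) rb2098 rb2099 (Nat.ble (nat_lit 2099) i)) (Nat.ble (nat_lit 2098) i)) (@Bool.rec (fun _ => ℕ) (@Bool.rec (fun _ => ℕ) rb2100 rb2101 (Nat.ble (nat_lit 2101) i)) (@Bool.rec (fun _ => ℕ) rb2102 rb2103 (Nat.ble (nat_lit 2103) i)) (Nat.ble (nat_lit 2102) i)) (Nat.ble (nat_lit 2100) i)) (@Bool.rec (fun _ => ℕ) (@Bool.rec (fun _ => ℕ) (@Bool.rec (fun _ => ℕ) rb2104 rb2105 (Nat.ble (nat_lit 2105) i)) (@Bool.rec (fun _ => ℕ) rb2106 rb2107 (Nat.ble (nat_lit 2107) i)) (Nat.ble (nat_lit 2106) i)) (@Bool.rec (fun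 _ => ℕ) (@Bool.rec (fun _ => ℕ) rb2108 rb2109 (Nat.ble (nat_lit 2109) i)) (@Bool.rec (fun _ => ℕ) rb2110 rb2111 (Nat.ble (nat_lit 2111) i)) (Nat.ble (nat_lit 2110) i)) (Nat.ble (nat_lit 2108) i)) (Nat.ble (nat_lit 2104) i)) (Nat.ble (nat_lit 2096) i))

def rowBlk_n0_66 (i : ℕ) : ℕ := (@Bool.rec (fun _ => ℕ) (@Bool.rec (fun _ => ℕ) (@Bool.rec (fun _ => ℕ) (@Bool.rec (fun _ => ℕ) (@Bool.rec (fun _ => ℕ) rb2112 rb2113 (Nat.ble (nat_lit 2113) i)) (@Bool.rec (fun _ => ℕ) rb2114 rb2115 (Nat.ble (nat_lit 2115) i)) (Nat.ble (nat_lit 2114) i)) (@Bool.rec (fun _ => ℕ) (@Bool.rec (fun _ => ℕ) rb2116 rb2117 (Nat.ble (nat_lit 2117) i)) (@Bool.rec (fun _ => ℕ) rb2118 rb2119 (Nat.ble (nat_lit 2119) i)) (Nat.ble (nat_lit 2118) i)) (Nat.ble (nat_lit 2116) i)) (@Bool.rec (fun _ => ℕ) (@Bool.rec (fun _ => ℕ) (@Bool.rec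 (fun _ => ℕ) rb2120 rb2121 (Nat.ble (nat_lit 2121) i)) (@Bool.rec (fun _ => ℕ) rb2122 rb2123 (Nat.ble (nat_lit 2123) i)) (Nat.ble (nat_lit 2122) i)) (@Bool.rec (fun _ => ℕ) (@Bool.rec (fun _ => ℕ) rb2124 rb2125 (Nat.ble (nat_lit 2125) i)) (@Bool.rec (fun _ => ℕ) rb2126 rb2127 (Nat.ble (nat_lit 2127) i)) (Nat.ble (nat_lit 2126) i)) (Nat.ble (nat_lit 2124) i)) (Nat.ble (nat_lit 2120) i)) (@Bool.rec (fun _ => ℕ) (@Bool.rec (fun _ => ℕ) (@Bool.rec (fun _ => ℕ) (@Bool.rec (fun _ => ℕ) rb2128 rb2129 (Nat.ble (nat_lit 2129) i)) (@Bool.rec (fun _ => ℕ) rb2130 rb2131 (Nat.ble (nat_lit 2131) i)) (Nat.ble (nat_lit 2130) i)) (@Bool.rec (fun _ => ℕ) (@Bool.rec (fun _ => ℕ) rb2132 rb2133 (Nat.ble (nat_lit 2133) i)) (@Bool.rec (fun _ => ℕ) rb2134 rb2135 (Nat.ble (nat_lit 2135) i)) (Nat.ble (nat_lit 2134) i)) (Nat.ble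 (nat_lit 2132) i)) (@Bool.rec (fun _ => ℕ) (@Bool.rec (fun _ => ℕ) (@Bool.rec (fun _ => ℕ) rb2136 rb2137 (Nat.ble (nat_lit 2137) i)) (@Bool.rec (fun _ => ℕ) rb2138 rb2139 (Nat.ble (nat_lit 2139) i)) (Nat.ble (nat_lit 2138) i)) (@Bool.rec (fun _ => ℕ) (@Bool.rec (fun _ => ℕ) rb2140 rb2141 (Nat.ble (nat_lit 2141) i)) (@Bool.rec (fun _ => ℕ) rb2142 rb2143 (Nat.ble (nat_lit 2143) i)) (Nat.ble (nat_lit 2142) i)) (Nat.ble (nat_lit 2140) i)) (Nat.ble (nat_lit 2136) i)) (Nat.ble (nat_lit 2128) i))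

def rowBlk_n0_67 (i : ℕ) : ℕ := (@Bool.rec (fun _ => ℕ) (@Bool.rec (fun _ => ℕ) (@Bool.rec (fun _ => ℕ) (@Bool.rec (fun _ => ℕ) (@Bool.rec (fun _ => ℕ) rb2144 rb2145 (Nat.ble (nat_lit 2145) i)) (@Bool.rec (fun _ => ℕ) rb2146 rb2147 (Nat.ble (nat_lit 2147) i)) (Nat.ble (nat_lit 2146) i)) (@Bool.rec (fun _ => ℕ) (@Bool.rec (fun _ => ℕ) rb2148 rb2149 (Nat.ble (nat_lit 2149) i)) (@Bool.rec (fun _ => ℕ) rb2150 rb2151 (Nat.ble (nat_lit 2151) i)) (Nat.ble (nat_lit 2150) i)) (Nat.ble (nat_lit 2148) i)) (@Bool.rec (fun _ => ℕ) (@Bool.rec (fun _ => ℕ) (@Bool.rec (fun _ => ℕ) rb2152 rb2153 (Nat.ble (nat_lit 2153) i)) (@Bool.rec (fun _ => ℕ) rb2154 rb2155 (Nat.ble (nat_lit 2155) i)) (Nat.ble (nat_lit 2154) i)) (@Bool.rec (fun _ => ℕ) (@Bool.rec (fun _ => ℕ) rb2156 rb2157 (Nat.ble (nat_lit 2157) i)) (@Bool.rec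 (fun _ => ℕ) rb2158 rb2159 (Nat.ble (nat_lit 2159) i)) (Nat.ble (nat_lit 2158) i)) (Nat.ble (nat_lit 2156) i)) (Nat.ble (nat_lit 2152) i)) (@Bool.rec (fun _ => ℕ) (@Bool.rec (fun _ => ℕ) (@Bool.rec (fun _ => ℕ) (@Bool.rec (fun _ => ℕ) rb2160 rb2161 (Nat.ble (nat_lit 2161) i)) (@Bool.rec (fun _ => ℕ) rb2162 rb2163 (Nat.ble (nat_lit 2163) i)) (Nat.ble (nat_lit 2162) i)) (@Bool.rec (fun _ => ℕ) (@Bool.rec (fun _ => ℕ) rb2164 rb2165 (Nat.ble (nat_lit 2165) i)) (@Bool.rec (fun _ => ℕ) rb2166 rb2167 (Nat.ble (nat_lit 2167) i)) (Nat.ble (nat_lit 2166) i)) (Nat.ble (nat_lit 2164) i)) (@Bool.rec (fun _ => ℕ) (@Bool.rec (fun _ => ℕ) (@Bool.rec (fun _ => ℕ) rb2168 rb2169 (Nat.ble (nat_lit 2169) i)) (@Bool.rec (fun _ => ℕ) rb2170 rb2171 (Nat.ble (nat_lit 2171) i)) (Nat.ble (nat_lit 2170) i)) (@Bool.rec (fun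 _ => ℕ) (@Bool.rec (fun _ => ℕ) rb2172 rb2173 (Nat.ble (nat_lit 2173) i)) (@Bool.rec (fun _ => ℕ) rb2174 rb2175 (Nat.ble (nat_lit 2175) i)) (Nat.ble (nat_lit 2174) i)) (Nat.ble (nat_lit 2172) i)) (Nat.ble (nat_lit 2168) i)) (Nat.ble (nat_lit 2160) i))

def rowBlk_n0_68 (i : ℕ) : ℕ := (@Bool.rec (fun _ => ℕ) (@Bool.rec (fun _ => ℕ) (@Bool.rec (fun _ => ℕ) (@Bool.rec (fun _ => ℕ) (@Bool.rec (fun _ => ℕ) rb2176 rb2177 (Nat.ble (nat_lit 2177) i)) (@Bool.rec (fun _ => ℕ) rb2178 rb2179 (Nat.ble (nat_lit 2179) i)) (Nat.ble (nat_lit 2178) i)) (@Bool.rec (fun _ => ℕ) (@Bool.rec (fun _ => ℕ) rb2180 rb2181 (Nat.ble (nat_lit 2181) i)) (@Bool.rec (fun _ => ℕ) rb2182 rb2183 (Nat.ble (nat_lit 2183) i)) (Nat.ble (nat_lit 2182) i)) (Nat.ble (nat_lit 2180) i)) (@Bool.rec (fun _ => ℕ) (@Bool.rec (fun _ => ℕ) (@Bool.rec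 (fun _ => ℕ) rb2184 rb2185 (Nat.ble (nat_lit 2185) i)) (@Bool.rec (fun _ => ℕ) rb2186 rb2187 (Nat.ble (nat_lit 2187) i)) (Nat.ble (nat_lit 2186) i)) (@Bool.rec (fun _ => ℕ) (@Bool.rec (fun _ => ℕ) rb2188 rb2189 (Nat.ble (nat_lit 2189) i)) (@Bool.rec (fun _ => ℕ) rb2190 rb2191 (Nat.ble (nat_lit 2191) i)) (Nat.ble (nat_lit 2190) i)) (Nat.ble (nat_lit 2188) i)) (Nat.ble (nat_lit 2184) i)) (@Bool.rec (fun _ => ℕ) (@Bool.rec (fun _ => ℕ) (@Bool.rec (fun _ => ℕ) (@Bool.rec (fun _ => ℕ) rb2192 rb2193 (Nat.ble (nat_lit 2193) i)) (@Bool.rec (fun _ => ℕ) rb2194 rb2195 (Nat.ble (nat_lit 2195) i)) (Nat.ble (nat_lit 2194) i)) (@Bool.rec (fun _ => ℕ) (@Bool.rec (fun _ => ℕ) rb2196 rb2197 (Nat.ble (nat_lit 2197) i)) (@Bool.rec (fun _ => ℕ) rb2198 rb2199 (Nat.ble (nat_lit 2199) i)) (Nat.ble (nat_lit 2198) i)) (Nat.ble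 (nat_lit 2196) i)) (@Bool.rec (fun _ => ℕ) (@Bool.rec (fun _ => ℕ) (@Bool.rec (fun _ => ℕ) rb2200 rb2201 (Nat.ble (nat_lit 2201) i)) (@Bool.rec (fun _ => ℕ) rb2202 rb2203 (Nat.ble (nat_lit 2203) i)) (Nat.ble (nat_lit 2202) i)) (@Bool.rec (fun _ => ℕ) (@Bool.rec (fun _ => ℕ) rb2204 rb2205 (Nat.ble (nat_lit 2205) i)) (@Bool.rec (fun _ => ℕ) rb2206 rb2207 (Nat.ble (nat_lit 2207) i)) (Nat.ble (nat_lit 2206) i)) (Nat.ble (nat_lit 2204) i)) (Nat.ble (nat_lit 2200) i)) (Nat.ble (nat_lit 2192) i))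

def rowBlk_n0_69 (i : ℕ) : ℕ := (@Bool.rec (fun _ => ℕ) (@Bool.rec (fun _ => ℕ) (@Bool.rec (fun _ => ℕ) (@Bool.rec (fun _ => ℕ) (@Bool.rec (fun _ => ℕ) rb2208 rb2209 (Nat.ble (nat_lit 2209) i)) (@Bool.rec (fun _ => ℕ) rb2210 rb2211 (Nat.ble (nat_lit 2211) i)) (Nat.ble (nat_lit 2210) i)) (@Bool.rec (fun _ => ℕ) (@Bool.rec (fun _ => ℕ) rb2212 rb2213 (Nat.ble (nat_lit 2213) i)) (@Bool.rec (fun _ => ℕ) rb2214 rb2215 (Nat.ble (nat_lit 2215) i)) (Nat.ble (nat_lit 2214) i)) (Nat.ble (nat_lit 2212) i)) (@Bool.rec (fun _ => ℕ) (@Bool.rec (fun _ => ℕ) (@Bool.rec (fun _ => ℕ) rb2216 rb2217 (Nat.ble (nat_lit 2217) i)) (@Bool.rec (fun _ => ℕ) rb2218 rb2219 (Nat.ble (nat_lit 2219) i)) (Nat.ble (nat_lit 2218) i)) (@Bool.rec (fun _ => ℕ) (@Bool.rec (fun _ => ℕ) rb2220 rb2221 (Nat.ble (nat_lit 2221) i)) (@Bool.rec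 (fun _ => ℕ) rb2222 rb2223 (Nat.ble (nat_lit 2223) i)) (Nat.ble (nat_lit 2222) i)) (Nat.ble (nat_lit 2220) i)) (Nat.ble (nat_lit 2216) i)) (@Bool.rec (fun _ => ℕ) (@Bool.rec (fun _ => ℕ) (@Bool.rec (fun _ => ℕ) (@Bool.rec (fun _ => ℕ) rb2224 rb2225 (Nat.ble (nat_lit 2225) i)) (@Bool.rec (fun _ => ℕ) rb2226 rb2227 (Nat.ble (nat_lit 2227) i)) (Nat.ble (nat_lit 2226) i)) (@Bool.rec (fun _ => ℕ) (@Bool.rec (fun _ => ℕ) rb2228 rb2229 (Nat.ble (nat_lit 2229) i)) (@Bool.rec (fun _ => ℕ) rb2230 rb2231 (Nat.ble (nat_lit 2231) i)) (Nat.ble (nat_lit 2230) i)) (Nat.ble (nat_lit 2228) i)) (@Bool.rec (fun _ => ℕ) (@Bool.rec (fun _ => ℕ) (@Bool.rec (fun _ => ℕ) rb2232 rb2233 (Nat.ble (nat_lit 2233) i)) (@Bool.rec (fun _ => ℕ) rb2234 rb2235 (Nat.ble (nat_lit 2235) i)) (Nat.ble (nat_lit 2234) i)) (@Bool.rec (fun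 _ => ℕ) (@Bool.rec (fun _ => ℕ) rb2236 rb2237 (Nat.ble (nat_lit 2237) i)) (@Bool.rec (fun _ => ℕ) rb2238 rb2239 (Nat.ble (nat_lit 2239) i)) (Nat.ble (nat_lit 2238) i)) (Nat.ble (nat_lit 2236) i)) (Nat.ble (nat_lit 2232) i)) (Nat.ble (nat_lit 2224) i))

def rowBlk_n0_70 (i : ℕ) : ℕ := (@Bool.rec (fun _ => ℕ) (@Bool.rec (fun _ => ℕ) (@Bool.rec (fun _ => ℕ) (@Bool.rec (fun _ => ℕ) (@Bool.rec (fun _ => ℕ) rb2240 rb2241 (Nat.ble (nat_lit 2241) i)) (@Bool.rec (fun _ => ℕ) rb2242 rb2243 (Nat.ble (nat_lit 2243) i)) (Nat.ble (nat_lit 2242) i)) (@Bool.rec (fun _ => ℕ) (@Bool.rec (fun _ => ℕ) rb2244 rb2245 (Nat.ble (nat_lit 2245) i)) (@Bool.rec (fun _ => ℕ) rb2246 rb2247 (Nat.ble (nat_lit 2247) i)) (Nat.ble (nat_lit 2246) i)) (Nat.ble (nat_lit 2244) i)) (@Bool.rec (fun _ => ℕ) (@Bool.rec (fun _ => ℕ) (@Bool.rec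 (fun _ => ℕ) rb2248 rb2249 (Nat.ble (nat_lit 2249) i)) (@Bool.rec (fun _ => ℕ) rb2250 rb2251 (Nat.ble (nat_lit 2251) i)) (Nat.ble (nat_lit 2250) i)) (@Bool.rec (fun _ => ℕ) (@Bool.rec (fun _ => ℕ) rb2252 rb2253 (Nat.ble (nat_lit 2253) i)) (@Bool.rec (fun _ => ℕ) rb2254 rb2255 (Nat.ble (nat_lit 2255) i)) (Nat.ble (nat_lit 2254) i)) (Nat.ble (nat_lit 2252) i)) (Nat.ble (nat_lit 2248) i)) (@Bool.rec (fun _ => ℕ) (@Bool.rec (fun _ => ℕ) (@Bool.rec (fun _ => ℕ) (@Bool.rec (fun _ => ℕ) rb2256 rb2257 (Nat.ble (nat_lit 2257) i)) (@Bool.rec (fun _ => ℕ) rb2258 rb2259 (Nat.ble (nat_lit 2259) i)) (Nat.ble (nat_lit 2258) i)) (@Bool.rec (fun _ => ℕ) (@Bool.rec (fun _ => ℕ) rb2260 rb2261 (Nat.ble (nat_lit 2261) i)) (@Bool.rec (fun _ => ℕ) rb2262 rb2263 (Nat.ble (nat_lit 2263) i)) (Nat.ble (nat_lit 2262) i)) (Nat.ble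 (nat_lit 2260) i)) (@Bool.rec (fun _ => ℕ) (@Bool.rec (fun _ => ℕ) (@Bool.rec (fun _ => ℕ) rb2264 rb2265 (Nat.ble (nat_lit 2265) i)) (@Bool.rec (fun _ => ℕ) rb2266 rb2267 (Nat.ble (nat_lit 2267) i)) (Nat.ble (nat_lit 2266) i)) (@Bool.rec (fun _ => ℕ) (@Bool.rec (fun _ => ℕ) rb2268 rb2269 (Nat.ble (nat_lit 2269) i)) (@Bool.rec (fun _ => ℕ) rb2270 rb2271 (Nat.ble (nat_lit 2271) i)) (Nat.ble (nat_lit 2270) i)) (Nat.ble (nat_lit 2268) i)) (Nat.ble (nat_lit 2264) i)) (Nat.ble (nat_lit 2256) i))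

def rowBlk_n0_71 (i : ℕ) : ℕ := (@Bool.rec (fun _ => ℕ) (@Bool.rec (fun _ => ℕ) (@Bool.rec (fun _ => ℕ) (@Bool.rec (fun _ => ℕ) (@Bool.rec (fun _ => ℕ) rb2272 rb2273 (Nat.ble (nat_lit 2273) i)) (@Bool.rec (fun _ => ℕ) rb2274 rb2275 (Nat.ble (nat_lit 2275) i)) (Nat.ble (nat_lit 2274) i)) (@Bool.rec (fun _ => ℕ) (@Bool.rec (fun _ => ℕ) rb2276 rb2277 (Nat.ble (nat_lit 2277) i)) (@Bool.rec (fun _ => ℕ) rb2278 rb2279 (Nat.ble (nat_lit 2279) i)) (Nat.ble (nat_lit 2278) i)) (Nat.ble (nat_lit 2276) i)) (@Bool.rec (fun _ => ℕ) (@Bool.rec (fun _ => ℕ) (@Bool.rec (fun _ => ℕ) rb2280 rb2281 (Nat.ble (nat_lit 2281) i)) (@Bool.rec (fun _ => ℕ) rb2282 rb2283 (Nat.ble (nat_lit 2283) i)) (Nat.ble (nat_lit 2282) i)) (@Bool.rec (fun _ => ℕ) (@Bool.rec (fun _ => ℕ) rb2284 rb2285 (Nat.ble (nat_lit 2285) i)) (@Bool.rec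 (fun _ => ℕ) rb2286 rb2287 (Nat.ble (nat_lit 2287) i)) (Nat.ble (nat_lit 2286) i)) (Nat.ble (nat_lit 2284) i)) (Nat.ble (nat_lit 2280) i)) (@Bool.rec (fun _ => ℕ) (@Bool.rec (fun _ => ℕ) (@Bool.rec (fun _ => ℕ) (@Bool.rec (fun _ => ℕ) rb2288 rb2289 (Nat.ble (nat_lit 2289) i)) (@Bool.rec (fun _ => ℕ) rb2290 rb2291 (Nat.ble (nat_lit 2291) i)) (Nat.ble (nat_lit 2290) i)) (@Bool.rec (fun _ => ℕ) (@Bool.rec (fun _ => ℕ) rb2292 rb2293 (Nat.ble (nat_lit 2293) i)) (@Bool.rec (fun _ => ℕ) rb2294 rb2295 (Nat.ble (nat_lit 2295) i)) (Nat.ble (nat_lit 2294) i)) (Nat.ble (nat_lit 2292) i)) (@Bool.rec (fun _ => ℕ) (@Bool.rec (fun _ => ℕ) (@Bool.rec (fun _ => ℕ) rb2296 rb2297 (Nat.ble (nat_lit 2297) i)) (@Bool.rec (fun _ => ℕ) rb2298 rb2299 (Nat.ble (nat_lit 2299) i)) (Nat.ble (nat_lit 2298) i)) (@Bool.rec (fun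 _ => ℕ) (@Bool.rec (fun _ => ℕ) rb2300 rb2301 (Nat.ble (nat_lit 2301) i)) (@Bool.rec (fun _ => ℕ) rb2302 rb2303 (Nat.ble (nat_lit 2303) i)) (Nat.ble (nat_lit 2302) i)) (Nat.ble (nat_lit 2300) i)) (Nat.ble (nat_lit 2296) i)) (Nat.ble (nat_lit 2288) i))

def rowBlk_n0_72 (i : ℕ) : ℕ := (@Bool.rec (fun _ => ℕ) (@Bool.rec (fun _ => ℕ) (@Bool.rec (fun _ => ℕ) (@Bool.rec (fun _ => ℕ) (@Bool.rec (fun _ => ℕ) rb2304 rb2305 (Nat.ble (nat_lit 2305) i)) (@Bool.rec (fun _ => ℕ) rb2306 rb2307 (Nat.ble (nat_lit 2307) i)) (Nat.ble (nat_lit 2306) i)) (@Bool.rec (fun _ => ℕ) (@Bool.rec (fun _ => ℕ) rb2308 rb2309 (Nat.ble (nat_lit 2309) i)) (@Bool.rec (fun _ => ℕ) rb2310 rb2311 (Nat.ble (nat_lit 2311) i)) (Nat.ble (nat_lit 2310) i)) (Nat.ble (nat_lit 2308) i)) (@Bool.rec (fun _ => ℕ) (@Bool.rec (fun _ => ℕ) (@Bool.rec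 (fun _ => ℕ) rb2312 rb2313 (Nat.ble (nat_lit 2313) i)) (@Bool.rec (fun _ => ℕ) rb2314 rb2315 (Nat.ble (nat_lit 2315) i)) (Nat.ble (nat_lit 2314) i)) (@Bool.rec (fun _ => ℕ) (@Bool.rec (fun _ => ℕ) rb2316 rb2317 (Nat.ble (nat_lit 2317) i)) (@Bool.rec (fun _ => ℕ) rb2318 rb2319 (Nat.ble (nat_lit 2319) i)) (Nat.ble (nat_lit 2318) i)) (Nat.ble (nat_lit 2316) i)) (Nat.ble (nat_lit 2312) i)) (@Bool.rec (fun _ => ℕ) (@Bool.rec (fun _ => ℕ) (@Bool.rec (fun _ => ℕ) (@Bool.rec (fun _ => ℕ) rb2320 rb2321 (Nat.ble (nat_lit 2321) i)) (@Bool.rec (fun _ => ℕ) rb2322 rb2323 (Nat.ble (nat_lit 2323) i)) (Nat.ble (nat_lit 2322) i)) (@Bool.rec (fun _ => ℕ) (@Bool.rec (fun _ => ℕ) rb2324 rb2325 (Nat.ble (nat_lit 2325) i)) (@Bool.rec (fun _ => ℕ) rb2326 rb2327 (Nat.ble (nat_lit 2327) i)) (Nat.ble (nat_lit 2326) i)) (Nat.ble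 (nat_lit 2324) i)) (@Bool.rec (fun _ => ℕ) (@Bool.rec (fun _ => ℕ) (@Bool.rec (fun _ => ℕ) rb2328 rb2329 (Nat.ble (nat_lit 2329) i)) (@Bool.rec (fun _ => ℕ) rb2330 rb2331 (Nat.ble (nat_lit 2331) i)) (Nat.ble (nat_lit 2330) i)) (@Bool.rec (fun _ => ℕ) (@Bool.rec (fun _ => ℕ) rb2332 rb2333 (Nat.ble (nat_lit 2333) i)) (@Bool.rec (fun _ => ℕ) rb2334 rb2335 (Nat.ble (nat_lit 2335) i)) (Nat.ble (nat_lit 2334) i)) (Nat.ble (nat_lit 2332) i)) (Nat.ble (nat_lit 2328) i)) (Nat.ble (nat_lit 2320) i))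

def rowBlk_n0_73 (i : ℕ) : ℕ := (@Bool.rec (fun _ => ℕ) (@Bool.rec (fun _ => ℕ) (@Bool.rec (fun _ => ℕ) (@Bool.rec (fun _ => ℕ) (@Bool.rec (fun _ => ℕ) rb2336 rb2337 (Nat.ble (nat_lit 2337) i)) (@Bool.rec (fun _ => ℕ) rb2338 rb2339 (Nat.ble (nat_lit 2339) i)) (Nat.ble (nat_lit 2338) i)) (@Bool.rec (fun _ => ℕ) (@Bool.rec (fun _ => ℕ) rb2340 rb2341 (Nat.ble (nat_lit 2341) i)) (@Bool.rec (fun _ => ℕ) rb2342 rb2343 (Nat.ble (nat_lit 2343) i)) (Nat.ble (nat_lit 2342) i)) (Nat.ble (nat_lit 2340) i)) (@Bool.rec (fun _ => ℕ) (@Bool.rec (fun _ => ℕ) (@Bool.rec (fun _ => ℕ) rb2344 rb2345 (Nat.ble (nat_lit 2345) i)) (@Bool.rec (fun _ => ℕ) rb2346 rb2347 (Nat.ble (nat_lit 2347) i)) (Nat.ble (nat_lit 2346) i)) (@Bool.rec (fun _ => ℕ) (@Bool.rec (fun _ => ℕ) rb2348 rb2349 (Nat.ble (nat_lit 2349) i)) (@Bool.rec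 (fun _ => ℕ) rb2350 rb2351 (Nat.ble (nat_lit 2351) i)) (Nat.ble (nat_lit 2350) i)) (Nat.ble (nat_lit 2348) i)) (Nat.ble (nat_lit 2344) i)) (@Bool.rec (fun _ => ℕ) (@Bool.rec (fun _ => ℕ) (@Bool.rec (fun _ => ℕ) (@Bool.rec (fun _ => ℕ) rb2352 rb2353 (Nat.ble (nat_lit 2353) i)) (@Bool.rec (fun _ => ℕ) rb2354 rb2355 (Nat.ble (nat_lit 2355) i)) (Nat.ble (nat_lit 2354) i)) (@Bool.rec (fun _ => ℕ) (@Bool.rec (fun _ => ℕ) rb2356 rb2357 (Nat.ble (nat_lit 2357) i)) (@Bool.rec (fun _ => ℕ) rb2358 rb2359 (Nat.ble (nat_lit 2359) i)) (Nat.ble (nat_lit 2358) i)) (Nat.ble (nat_lit 2356) i)) (@Bool.rec (fun _ => ℕ) (@Bool.rec (fun _ => ℕ) (@Bool.rec (fun _ => ℕ) rb2360 rb2361 (Nat.ble (nat_lit 2361) i)) (@Bool.rec (fun _ => ℕ) rb2362 rb2363 (Nat.ble (nat_lit 2363) i)) (Nat.ble (nat_lit 2362) i)) (@Bool.rec (fun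 _ => ℕ) (@Bool.rec (fun _ => ℕ) rb2364 rb2365 (Nat.ble (nat_lit 2365) i)) (@Bool.rec (fun _ => ℕ) rb2366 rb2367 (Nat.ble (nat_lit 2367) i)) (Nat.ble (nat_lit 2366) i)) (Nat.ble (nat_lit 2364) i)) (Nat.ble (nat_lit 2360) i)) (Nat.ble (nat_lit 2352) i))

def rowBlk_n0_74 (i : ℕ) : ℕ := (@Bool.rec (fun _ => ℕ) (@Bool.rec (fun _ => ℕ) (@Bool.rec (fun _ => ℕ) (@Bool.rec (fun _ => ℕ) (@Bool.rec (fun _ => ℕ) rb2368 rb2369 (Nat.ble (nat_lit 2369) i)) (@Bool.rec (fun _ => ℕ) rb2370 rb2371 (Nat.ble (nat_lit 2371) i)) (Nat.ble (nat_lit 2370) i)) (@Bool.rec (fun _ => ℕ) (@Bool.rec (fun _ => ℕ) rb2372 rb2373 (Nat.ble (nat_lit 2373) i)) (@Bool.rec (fun _ => ℕ) rb2374 rb2375 (Nat.ble (nat_lit 2375) i)) (Nat.ble (nat_lit 2374) i)) (Nat.ble (nat_lit 2372) i)) (@Bool.rec (fun _ => ℕ) (@Bool.rec (fun _ => ℕ) (@Bool.rec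 (fun _ => ℕ) rb2376 rb2377 (Nat.ble (nat_lit 2377) i)) (@Bool.rec (fun _ => ℕ) rb2378 rb2379 (Nat.ble (nat_lit 2379) i)) (Nat.ble (nat_lit 2378) i)) (@Bool.rec (fun _ => ℕ) (@Bool.rec (fun _ => ℕ) rb2380 rb2381 (Nat.ble (nat_lit 2381) i)) (@Bool.rec (fun _ => ℕ) rb2382 rb2383 (Nat.ble (nat_lit 2383) i)) (Nat.ble (nat_lit 2382) i)) (Nat.ble (nat_lit 2380) i)) (Nat.ble (nat_lit 2376) i)) (@Bool.rec (fun _ => ℕ) (@Bool.rec (fun _ => ℕ) (@Bool.rec (fun _ => ℕ) (@Bool.rec (fun _ => ℕ) rb2384 rb2385 (Nat.ble (nat_lit 2385) i)) (@Bool.rec (fun _ => ℕ) rb2386 rb2387 (Nat.ble (nat_lit 2387) i)) (Nat.ble (nat_lit 2386) i)) (@Bool.rec (fun _ => ℕ) (@Bool.rec (fun _ => ℕ) rb2388 rb2389 (Nat.ble (nat_lit 2389) i)) (@Bool.rec (fun _ => ℕ) rb2390 rb2391 (Nat.ble (nat_lit 2391) i)) (Nat.ble (nat_lit 2390) i)) (Nat.ble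 (nat_lit 2388) i)) (@Bool.rec (fun _ => ℕ) (@Bool.rec (fun _ => ℕ) (@Bool.rec (fun _ => ℕ) rb2392 rb2393 (Nat.ble (nat_lit 2393) i)) (@Bool.rec (fun _ => ℕ) rb2394 rb2395 (Nat.ble (nat_lit 2395) i)) (Nat.ble (nat_lit 2394) i)) (@Bool.rec (fun _ => ℕ) (@Bool.rec (fun _ => ℕ) rb2396 rb2397 (Nat.ble (nat_lit 2397) i)) (@Bool.rec (fun _ => ℕ) rb2398 rb2399 (Nat.ble (nat_lit 2399) i)) (Nat.ble (nat_lit 2398) i)) (Nat.ble (nat_lit 2396) i)) (Nat.ble (nat_lit 2392) i)) (Nat.ble (nat_lit 2384) i))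

def rowBlk_n0_75 (i : ℕ) : ℕ := (@Bool.rec (fun _ => ℕ) (@Bool.rec (fun _ => ℕ) (@Bool.rec (fun _ => ℕ) (@Bool.rec (fun _ => ℕ) (@Bool.rec (fun _ => ℕ) rb2400 rb2401 (Nat.ble (nat_lit 2401) i)) (@Bool.rec (fun _ => ℕ) rb2402 rb2403 (Nat.ble (nat_lit 2403) i)) (Nat.ble (nat_lit 2402) i)) (@Bool.rec (fun _ => ℕ) (@Bool.rec (fun _ => ℕ) rb2404 rb2405 (Nat.ble (nat_lit 2405) i)) (@Bool.rec (fun _ => ℕ) rb2406 rb2407 (Nat.ble (nat_lit 2407) i)) (Nat.ble (nat_lit 2406) i)) (Nat.ble (nat_lit 2404) i)) (@Bool.rec (fun _ => ℕ) (@Bool.rec (fun _ => ℕ) (@Bool.rec (fun _ => ℕ) rb2408 rb2409 (Nat.ble (nat_lit 2409) i)) (@Bool.rec (fun _ => ℕ) rb2410 rb2411 (Nat.ble (nat_lit 2411) i)) (Nat.ble (nat_lit 2410) i)) (@Bool.rec (fun _ => ℕ) (@Bool.rec (fun _ => ℕ) rb2412 rb2413 (Nat.ble (nat_lit 2413) i)) (@Bool.rec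 (fun _ => ℕ) rb2414 rb2415 (Nat.ble (nat_lit 2415) i)) (Nat.ble (nat_lit 2414) i)) (Nat.ble (nat_lit 2412) i)) (Nat.ble (nat_lit 2408) i)) (@Bool.rec (fun _ => ℕ) (@Bool.rec (fun _ => ℕ) (@Bool.rec (fun _ => ℕ) (@Bool.rec (fun _ => ℕ) rb2416 rb2417 (Nat.ble (nat_lit 2417) i)) (@Bool.rec (fun _ => ℕ) rb2418 rb2419 (Nat.ble (nat_lit 2419) i)) (Nat.ble (nat_lit 2418) i)) (@Bool.rec (fun _ => ℕ) (@Bool.rec (fun _ => ℕ) rb2420 rb2421 (Nat.ble (nat_lit 2421) i)) (@Bool.rec (fun _ => ℕ) rb2422 rb2423 (Nat.ble (nat_lit 2423) i)) (Nat.ble (nat_lit 2422) i)) (Nat.ble (nat_lit 2420) i)) (@Bool.rec (fun _ => ℕ) (@Bool.rec (fun _ => ℕ) (@Bool.rec (fun _ => ℕ) rb2424 rb2425 (Nat.ble (nat_lit 2425) i)) (@Bool.rec (fun _ => ℕ) rb2426 rb2427 (Nat.ble (nat_lit 2427) i)) (Nat.ble (nat_lit 2426) i)) (@Bool.rec (fun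 _ => ℕ) (@Bool.rec (fun _ => ℕ) rb2428 rb2429 (Nat.ble (nat_lit 2429) i)) (@Bool.rec (fun _ => ℕ) rb2430 rb2431 (Nat.ble (nat_lit 2431) i)) (Nat.ble (nat_lit 2430) i)) (Nat.ble (nat_lit 2428) i)) (Nat.ble (nat_lit 2424) i)) (Nat.ble (nat_lit 2416) i))

def rowBlk_n0_76 (i : ℕ) : ℕ := (@Bool.rec (fun _ => ℕ) (@Bool.rec (fun _ => ℕ) (@Bool.rec (fun _ => ℕ) (@Bool.rec (fun _ => ℕ) (@Bool.rec (fun _ => ℕ) rb2432 rb2433 (Nat.ble (nat_lit 2433) i)) (@Bool.rec (fun _ => ℕ) rb2434 rb2435 (Nat.ble (nat_lit 2435) i)) (Nat.ble (nat_lit 2434) i)) (@Bool.rec (fun _ => ℕ) (@Bool.rec (fun _ => ℕ) rb2436 rb2437 (Nat.ble (nat_lit 2437) i)) (@Bool.rec (fun _ => ℕ) rb2438 rb2439 (Nat.ble (nat_lit 2439) i)) (Nat.ble (nat_lit 2438) i)) (Nat.ble (nat_lit 2436) i)) (@Bool.rec (fun _ => ℕ) (@Bool.rec (fun _ => ℕ) (@Bool.rec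 (fun _ => ℕ) rb2440 rb2441 (Nat.ble (nat_lit 2441) i)) (@Bool.rec (fun _ => ℕ) rb2442 rb2443 (Nat.ble (nat_lit 2443) i)) (Nat.ble (nat_lit 2442) i)) (@Bool.rec (fun _ => ℕ) (@Bool.rec (fun _ => ℕ) rb2444 rb2445 (Nat.ble (nat_lit 2445) i)) (@Bool.rec (fun _ => ℕ) rb2446 rb2447 (Nat.ble (nat_lit 2447) i)) (Nat.ble (nat_lit 2446) i)) (Nat.ble (nat_lit 2444) i)) (Nat.ble (nat_lit 2440) i)) (@Bool.rec (fun _ => ℕ) (@Bool.rec (fun _ => ℕ) (@Bool.rec (fun _ => ℕ) (@Bool.rec (fun _ => ℕ) rb2448 rb2449 (Nat.ble (nat_lit 2449) i)) (@Bool.rec (fun _ => ℕ) rb2450 rb2451 (Nat.ble (nat_lit 2451) i)) (Nat.ble (nat_lit 2450) i)) (@Bool.rec (fun _ => ℕ) (@Bool.rec (fun _ => ℕ) rb2452 rb2453 (Nat.ble (nat_lit 2453) i)) (@Bool.rec (fun _ => ℕ) rb2454 rb2455 (Nat.ble (nat_lit 2455) i)) (Nat.ble (nat_lit 2454) i)) (Nat.ble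 (nat_lit 2452) i)) (@Bool.rec (fun _ => ℕ) (@Bool.rec (fun _ => ℕ) (@Bool.rec (fun _ => ℕ) rb2456 rb2457 (Nat.ble (nat_lit 2457) i)) (@Bool.rec (fun _ => ℕ) rb2458 rb2459 (Nat.ble (nat_lit 2459) i)) (Nat.ble (nat_lit 2458) i)) (@Bool.rec (fun _ => ℕ) (@Bool.rec (fun _ => ℕ) rb2460 rb2461 (Nat.ble (nat_lit 2461) i)) (@Bool.rec (fun _ => ℕ) rb2462 rb2463 (Nat.ble (nat_lit 2463) i)) (Nat.ble (nat_lit 2462) i)) (Nat.ble (nat_lit 2460) i)) (Nat.ble (nat_lit 2456) i)) (Nat.ble (nat_lit 2448) i))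

def rowBlk_n0_77 (i : ℕ) : ℕ := (@Bool.rec (fun _ => ℕ) (@Bool.rec (fun _ => ℕ) (@Bool.rec (fun _ => ℕ) (@Bool.rec (fun _ => ℕ) (@Bool.rec (fun _ => ℕ) rb2464 rb2465 (Nat.ble (nat_lit 2465) i)) (@Bool.rec (fun _ => ℕ) rb2466 rb2467 (Nat.ble (nat_lit 2467) i)) (Nat.ble (nat_lit 2466) i)) (@Bool.rec (fun _ => ℕ) (@Bool.rec (fun _ => ℕ) rb2468 rb2469 (Nat.ble (nat_lit 2469) i)) (@Bool.rec (fun _ => ℕ) rb2470 rb2471 (Nat.ble (nat_lit 2471) i)) (Nat.ble (nat_lit 2470) i)) (Nat.ble (nat_lit 2468) i)) (@Bool.rec (fun _ => ℕ) (@Bool.rec (fun _ => ℕ) (@Bool.rec (fun _ => ℕ) rb2472 rb2473 (Nat.ble (nat_lit 2473) i)) (@Bool.rec (fun _ => ℕ) rb2474 rb2475 (Nat.ble (nat_lit 2475) i)) (Nat.ble (nat_lit 2474) i)) (@Bool.rec (fun _ => ℕ) (@Bool.rec (fun _ => ℕ) rb2476 rb2477 (Nat.ble (nat_lit 2477) i)) (@Bool.rec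 (fun _ => ℕ) rb2478 rb2479 (Nat.ble (nat_lit 2479) i)) (Nat.ble (nat_lit 2478) i)) (Nat.ble (nat_lit 2476) i)) (Nat.ble (nat_lit 2472) i)) (@Bool.rec (fun _ => ℕ) (@Bool.rec (fun _ => ℕ) (@Bool.rec (fun _ => ℕ) (@Bool.rec (fun _ => ℕ) rb2480 rb2481 (Nat.ble (nat_lit 2481) i)) (@Bool.rec (fun _ => ℕ) rb2482 rb2483 (Nat.ble (nat_lit 2483) i)) (Nat.ble (nat_lit 2482) i)) (@Bool.rec (fun _ => ℕ) (@Bool.rec (fun _ => ℕ) rb2484 rb2485 (Nat.ble (nat_lit 2485) i)) (@Bool.rec (fun _ => ℕ) rb2486 rb2487 (Nat.ble (nat_lit 2487) i)) (Nat.ble (nat_lit 2486) i)) (Nat.ble (nat_lit 2484) i)) (@Bool.rec (fun _ => ℕ) (@Bool.rec (fun _ => ℕ) (@Bool.rec (fun _ => ℕ) rb2488 rb2489 (Nat.ble (nat_lit 2489) i)) (@Bool.rec (fun _ => ℕ) rb2490 rb2491 (Nat.ble (nat_lit 2491) i)) (Nat.ble (nat_lit 2490) i)) (@Bool.rec (fun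 _ => ℕ) (@Bool.rec (fun _ => ℕ) rb2492 rb2493 (Nat.ble (nat_lit 2493) i)) (@Bool.rec (fun _ => ℕ) rb2494 rb2495 (Nat.ble (nat_lit 2495) i)) (Nat.ble (nat_lit 2494) i)) (Nat.ble (nat_lit 2492) i)) (Nat.ble (nat_lit 2488) i)) (Nat.ble (nat_lit 2480) i))

def rowBlk_n0_78 (i : ℕ) : ℕ := (@Bool.rec (fun _ => ℕ) (@Bool.rec (fun _ => ℕ) (@Bool.rec (fun _ => ℕ) (@Bool.rec (fun _ => ℕ) (@Bool.rec (fun _ => ℕ) rb2496 rb2497 (Nat.ble (nat_lit 2497) i)) (@Bool.rec (fun _ => ℕ) rb2498 rb2499 (Nat.ble (nat_lit 2499) i)) (Nat.ble (nat_lit 2498) i)) (@Bool.rec (fun _ => ℕ) (@Bool.rec (fun _ => ℕ) rb2500 rb2501 (Nat.ble (nat_lit 2501) i)) (@Bool.rec (fun _ => ℕ) rb2502 rb2503 (Nat.ble (nat_lit 2503) i)) (Nat.ble (nat_lit 2502) i)) (Nat.ble (nat_lit 2500) i)) (@Bool.rec (fun _ => ℕ) (@Bool.rec (fun _ => ℕ) (@Bool.rec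 (fun _ => ℕ) rb2504 rb2505 (Nat.ble (nat_lit 2505) i)) (@Bool.rec (fun _ => ℕ) rb2506 rb2507 (Nat.ble (nat_lit 2507) i)) (Nat.ble (nat_lit 2506) i)) (@Bool.rec (fun _ => ℕ) (@Bool.rec (fun _ => ℕ) rb2508 rb2509 (Nat.ble (nat_lit 2509) i)) (@Bool.rec (fun _ => ℕ) rb2510 rb2511 (Nat.ble (nat_lit 2511) i)) (Nat.ble (nat_lit 2510) i)) (Nat.ble (nat_lit 2508) i)) (Nat.ble (nat_lit 2504) i)) (@Bool.rec (fun _ => ℕ) (@Bool.rec (fun _ => ℕ) (@Bool.rec (fun _ => ℕ) (@Bool.rec (fun _ => ℕ) rb2512 rb2513 (Nat.ble (nat_lit 2513) i)) (@Bool.rec (fun _ => ℕ) rb2514 rb2515 (Nat.ble (nat_lit 2515) i)) (Nat.ble (nat_lit 2514) i)) (@Bool.rec (fun _ => ℕ) (@Bool.rec (fun _ => ℕ) rb2516 rb2517 (Nat.ble (nat_lit 2517) i)) (@Bool.rec (fun _ => ℕ) rb2518 rb2519 (Nat.ble (nat_lit 2519) i)) (Nat.ble (nat_lit 2518) i)) (Nat.ble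 (nat_lit 2516) i)) (@Bool.rec (fun _ => ℕ) (@Bool.rec (fun _ => ℕ) (@Bool.rec (fun _ => ℕ) rb2520 rb2521 (Nat.ble (nat_lit 2521) i)) (@Bool.rec (fun _ => ℕ) rb2522 rb2523 (Nat.ble (nat_lit 2523) i)) (Nat.ble (nat_lit 2522) i)) (@Bool.rec (fun _ => ℕ) (@Bool.rec (fun _ => ℕ) rb2524 rb2525 (Nat.ble (nat_lit 2525) i)) (@Bool.rec (fun _ => ℕ) rb2526 rb2527 (Nat.ble (nat_lit 2527) i)) (Nat.ble (nat_lit 2526) i)) (Nat.ble (nat_lit 2524) i)) (Nat.ble (nat_lit 2520) i)) (Nat.ble (nat_lit 2512) i))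

def rowBlk_n0_79 (i : ℕ) : ℕ := (@Bool.rec (fun _ => ℕ) (@Bool.rec (fun _ => ℕ) (@Bool.rec (fun _ => ℕ) (@Bool.rec (fun _ => ℕ) (@Bool.rec (fun _ => ℕ) rb2528 rb2529 (Nat.ble (nat_lit 2529) i)) (@Bool.rec (fun _ => ℕ) rb2530 rb2531 (Nat.ble (nat_lit 2531) i)) (Nat.ble (nat_lit 2530) i)) (@Bool.rec (fun _ => ℕ) (@Bool.rec (fun _ => ℕ) rb2532 rb2533 (Nat.ble (nat_lit 2533) i)) (@Bool.rec (fun _ => ℕ) rb2534 rb2535 (Nat.ble (nat_lit 2535) i)) (Nat.ble (nat_lit 2534) i)) (Nat.ble (nat_lit 2532) i)) (@Bool.rec (fun _ => ℕ) (@Bool.rec (fun _ => ℕ) (@Bool.rec (fun _ => ℕ) rb2536 rb2537 (Nat.ble (nat_lit 2537) i)) (@Bool.rec (fun _ => ℕ) rb2538 rb2539 (Nat.ble (nat_lit 2539) i)) (Nat.ble (nat_lit 2538) i)) (@Bool.rec (fun _ => ℕ) (@Bool.rec (fun _ => ℕ) rb2540 rb2541 (Nat.ble (nat_lit 2541) i)) (@Bool.rec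 (fun _ => ℕ) rb2542 rb2543 (Nat.ble (nat_lit 2543) i)) (Nat.ble (nat_lit 2542) i)) (Nat.ble (nat_lit 2540) i)) (Nat.ble (nat_lit 2536) i)) (@Bool.rec (fun _ => ℕ) (@Bool.rec (fun _ => ℕ) (@Bool.rec (fun _ => ℕ) (@Bool.rec (fun _ => ℕ) rb2544 rb2545 (Nat.ble (nat_lit 2545) i)) (@Bool.rec (fun _ => ℕ) rb2546 rb2547 (Nat.ble (nat_lit 2547) i)) (Nat.ble (nat_lit 2546) i)) (@Bool.rec (fun _ => ℕ) (@Bool.rec (fun _ => ℕ) rb2548 rb2549 (Nat.ble (nat_lit 2549) i)) (@Bool.rec (fun _ => ℕ) rb2550 rb2551 (Nat.ble (nat_lit 2551) i)) (Nat.ble (nat_lit 2550) i)) (Nat.ble (nat_lit 2548) i)) (@Bool.rec (fun _ => ℕ) (@Bool.rec (fun _ => ℕ) (@Bool.rec (fun _ => ℕ) rb2552 rb2553 (Nat.ble (nat_lit 2553) i)) (@Bool.rec (fun _ => ℕ) rb2554 rb2555 (Nat.ble (nat_lit 2555) i)) (Nat.ble (nat_lit 2554) i)) (@Bool.rec (fun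 _ => ℕ) (@Bool.rec (fun _ => ℕ) rb2556 rb2557 (Nat.ble (nat_lit 2557) i)) (@Bool.rec (fun _ => ℕ) rb2558 rb2559 (Nat.ble (nat_lit 2559) i)) (Nat.ble (nat_lit 2558) i)) (Nat.ble (nat_lit 2556) i)) (Nat.ble (nat_lit 2552) i)) (Nat.ble (nat_lit 2544) i))

def rowBlk_n0_80 (i : ℕ) : ℕ := (@Bool.rec (fun _ => ℕ) (@Bool.rec (fun _ => ℕ) (@Bool.rec (fun _ => ℕ) (@Bool.rec (fun _ => ℕ) (@Bool.rec (fun _ => ℕ) rb2560 rb2561 (Nat.ble (nat_lit 2561) i)) (@Bool.rec (fun _ => ℕ) rb2562 rb2563 (Nat.ble (nat_lit 2563) i)) (Nat.ble (nat_lit 2562) i)) (@Bool.rec (fun _ => ℕ) (@Bool.rec (fun _ => ℕ) rb2564 rb2565 (Nat.ble (nat_lit 2565) i)) (@Bool.rec (fun _ => ℕ) rb2566 rb2567 (Nat.ble (nat_lit 2567) i)) (Nat.ble (nat_lit 2566) i)) (Nat.ble (nat_lit 2564) i)) (@Bool.rec (fun _ => ℕ) (@Bool.rec (fun _ => ℕ) (@Bool.rec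 (fun _ => ℕ) rb2568 rb2569 (Nat.ble (nat_lit 2569) i)) (@Bool.rec (fun _ => ℕ) rb2570 rb2571 (Nat.ble (nat_lit 2571) i)) (Nat.ble (nat_lit 2570) i)) (@Bool.rec (fun _ => ℕ) (@Bool.rec (fun _ => ℕ) rb2572 rb2573 (Nat.ble (nat_lit 2573) i)) (@Bool.rec (fun _ => ℕ) rb2574 rb2575 (Nat.ble (nat_lit 2575) i)) (Nat.ble (nat_lit 2574) i)) (Nat.ble (nat_lit 2572) i)) (Nat.ble (nat_lit 2568) i)) (@Bool.rec (fun _ => ℕ) (@Bool.rec (fun _ => ℕ) (@Bool.rec (fun _ => ℕ) (@Bool.rec (fun _ => ℕ) rb2576 rb2577 (Nat.ble (nat_lit 2577) i)) (@Bool.rec (fun _ => ℕ) rb2578 rb2579 (Nat.ble (nat_lit 2579) i)) (Nat.ble (nat_lit 2578) i)) (@Bool.rec (fun _ => ℕ) (@Bool.rec (fun _ => ℕ) rb2580 rb2581 (Nat.ble (nat_lit 2581) i)) (@Bool.rec (fun _ => ℕ) rb2582 rb2583 (Nat.ble (nat_lit 2583) i)) (Nat.ble (nat_lit 2582) i)) (Nat.ble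 (nat_lit 2580) i)) (@Bool.rec (fun _ => ℕ) (@Bool.rec (fun _ => ℕ) (@Bool.rec (fun _ => ℕ) rb2584 rb2585 (Nat.ble (nat_lit 2585) i)) (@Bool.rec (fun _ => ℕ) rb2586 rb2587 (Nat.ble (nat_lit 2587) i)) (Nat.ble (nat_lit 2586) i)) (@Bool.rec (fun _ => ℕ) (@Bool.rec (fun _ => ℕ) rb2588 rb2589 (Nat.ble (nat_lit 2589) i)) (@Bool.rec (fun _ => ℕ) rb2590 rb2591 (Nat.ble (nat_lit 2591) i)) (Nat.ble (nat_lit 2590) i)) (Nat.ble (nat_lit 2588) i)) (Nat.ble (nat_lit 2584) i)) (Nat.ble (nat_lit 2576) i))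

def rowBlk_n0_81 (i : ℕ) : ℕ := (@Bool.rec (fun _ => ℕ) (@Bool.rec (fun _ => ℕ) (@Bool.rec (fun _ => ℕ) (@Bool.rec (fun _ => ℕ) (@Bool.rec (fun _ => ℕ) rb2592 rb2593 (Nat.ble (nat_lit 2593) i)) (@Bool.rec (fun _ => ℕ) rb2594 rb2595 (Nat.ble (nat_lit 2595) i)) (Nat.ble (nat_lit 2594) i)) (@Bool.rec (fun _ => ℕ) (@Bool.rec (fun _ => ℕ) rb2596 rb2597 (Nat.ble (nat_lit 2597) i)) (@Bool.rec (fun _ => ℕ) rb2598 rb2599 (Nat.ble (nat_lit 2599) i)) (Nat.ble (nat_lit 2598) i)) (Nat.ble (nat_lit 2596) i)) (@Bool.rec (fun _ => ℕ) (@Bool.rec (fun _ => ℕ) (@Bool.rec (fun _ => ℕ) rb2600 rb2601 (Nat.ble (nat_lit 2601) i)) (@Bool.rec (fun _ => ℕ) rb2602 rb2603 (Nat.ble (nat_lit 2603) i)) (Nat.ble (nat_lit 2602) i)) (@Bool.rec (fun _ => ℕ) (@Bool.rec (fun _ => ℕ) rb2604 rb2605 (Nat.ble (nat_lit 2605) i)) (@Bool.rec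 (fun _ => ℕ) rb2606 rb2607 (Nat.ble (nat_lit 2607) i)) (Nat.ble (nat_lit 2606) i)) (Nat.ble (nat_lit 2604) i)) (Nat.ble (nat_lit 2600) i)) (@Bool.rec (fun _ => ℕ) (@Bool.rec (fun _ => ℕ) (@Bool.rec (fun _ => ℕ) (@Bool.rec (fun _ => ℕ) rb2608 rb2609 (Nat.ble (nat_lit 2609) i)) (@Bool.rec (fun _ => ℕ) rb2610 rb2611 (Nat.ble (nat_lit 2611) i)) (Nat.ble (nat_lit 2610) i)) (@Bool.rec (fun _ => ℕ) (@Bool.rec (fun _ => ℕ) rb2612 rb2613 (Nat.ble (nat_lit 2613) i)) (@Bool.rec (fun _ => ℕ) rb2614 rb2615 (Nat.ble (nat_lit 2615) i)) (Nat.ble (nat_lit 2614) i)) (Nat.ble (nat_lit 2612) i)) (@Bool.rec (fun _ => ℕ) (@Bool.rec (fun _ => ℕ) (@Bool.rec (fun _ => ℕ) rb2616 rb2617 (Nat.ble (nat_lit 2617) i)) (@Bool.rec (fun _ => ℕ) rb2618 rb2619 (Nat.ble (nat_lit 2619) i)) (Nat.ble (nat_lit 2618) i)) (@Bool.rec (fun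 _ => ℕ) (@Bool.rec (fun _ => ℕ) rb2620 rb2621 (Nat.ble (nat_lit 2621) i)) (@Bool.rec (fun _ => ℕ) rb2622 rb2623 (Nat.ble (nat_lit 2623) i)) (Nat.ble (nat_lit 2622) i)) (Nat.ble (nat_lit 2620) i)) (Nat.ble (nat_lit 2616) i)) (Nat.ble (nat_lit 2608) i))

def rowBlk_n0_82 (i : ℕ) : ℕ := (@Bool.rec (fun _ => ℕ) (@Bool.rec (fun _ => ℕ) (@Bool.rec (fun _ => ℕ) (@Bool.rec (fun _ => ℕ) (@Bool.rec (fun _ => ℕ) rb2624 rb2625 (Nat.ble (nat_lit 2625) i)) (@Bool.rec (fun _ => ℕ) rb2626 rb2627 (Nat.ble (nat_lit 2627) i)) (Nat.ble (nat_lit 2626) i)) (@Bool.rec (fun _ => ℕ) (@Bool.rec (fun _ => ℕ) rb2628 rb2629 (Nat.ble (nat_lit 2629) i)) (@Bool.rec (fun _ => ℕ) rb2630 rb2631 (Nat.ble (nat_lit 2631) i)) (Nat.ble (nat_lit 2630) i)) (Nat.ble (nat_lit 2628) i)) (@Bool.rec (fun _ => ℕ) (@Bool.rec (fun _ => ℕ) (@Bool.rec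 (fun _ => ℕ) rb2632 rb2633 (Nat.ble (nat_lit 2633) i)) (@Bool.rec (fun _ => ℕ) rb2634 rb2635 (Nat.ble (nat_lit 2635) i)) (Nat.ble (nat_lit 2634) i)) (@Bool.rec (fun _ => ℕ) (@Bool.rec (fun _ => ℕ) rb2636 rb2637 (Nat.ble (nat_lit 2637) i)) (@Bool.rec (fun _ => ℕ) rb2638 rb2639 (Nat.ble (nat_lit 2639) i)) (Nat.ble (nat_lit 2638) i)) (Nat.ble (nat_lit 2636) i)) (Nat.ble (nat_lit 2632) i)) (@Bool.rec (fun _ => ℕ) (@Bool.rec (fun _ => ℕ) (@Bool.rec (fun _ => ℕ) (@Bool.rec (fun _ => ℕ) rb2640 rb2641 (Nat.ble (nat_lit 2641) i)) (@Bool.rec (fun _ => ℕ) rb2642 rb2643 (Nat.ble (nat_lit 2643) i)) (Nat.ble (nat_lit 2642) i)) (@Bool.rec (fun _ => ℕ) (@Bool.rec (fun _ => ℕ) rb2644 rb2645 (Nat.ble (nat_lit 2645) i)) (@Bool.rec (fun _ => ℕ) rb2646 rb2647 (Nat.ble (nat_lit 2647) i)) (Nat.ble (nat_lit 2646) i)) (Nat.ble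 (nat_lit 2644) i)) (@Bool.rec (fun _ => ℕ) (@Bool.rec (fun _ => ℕ) (@Bool.rec (fun _ => ℕ) rb2648 rb2649 (Nat.ble (nat_lit 2649) i)) (@Bool.rec (fun _ => ℕ) rb2650 rb2651 (Nat.ble (nat_lit 2651) i)) (Nat.ble (nat_lit 2650) i)) (@Bool.rec (fun _ => ℕ) (@Bool.rec (fun _ => ℕ) rb2652 rb2653 (Nat.ble (nat_lit 2653) i)) (@Bool.rec (fun _ => ℕ) rb2654 rb2655 (Nat.ble (nat_lit 2655) i)) (Nat.ble (nat_lit 2654) i)) (Nat.ble (nat_lit 2652) i)) (Nat.ble (nat_lit 2648) i)) (Nat.ble (nat_lit 2640) i))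

def rowBlk_n0_83 (i : ℕ) : ℕ := (@Bool.rec (fun _ => ℕ) (@Bool.rec (fun _ => ℕ) (@Bool.rec (fun _ => ℕ) (@Bool.rec (fun _ => ℕ) (@Bool.rec (fun _ => ℕ) rb2656 rb2657 (Nat.ble (nat_lit 2657) i)) (@Bool.rec (fun _ => ℕ) rb2658 rb2659 (Nat.ble (nat_lit 2659) i)) (Nat.ble (nat_lit 2658) i)) (@Bool.rec (fun _ => ℕ) (@Bool.rec (fun _ => ℕ) rb2660 rb2661 (Nat.ble (nat_lit 2661) i)) (@Bool.rec (fun _ => ℕ) rb2662 rb2663 (Nat.ble (nat_lit 2663) i)) (Nat.ble (nat_lit 2662) i)) (Nat.ble (nat_lit 2660) i)) (@Bool.rec (fun _ => ℕ) (@Bool.rec (fun _ => ℕ) (@Bool.rec (fun _ => ℕ) rb2664 rb2665 (Nat.ble (nat_lit 2665) i)) (@Bool.rec (fun _ => ℕ) rb2666 rb2667 (Nat.ble (nat_lit 2667) i)) (Nat.ble (nat_lit 2666) i)) (@Bool.rec (fun _ => ℕ) (@Bool.rec (fun _ => ℕ) rb2668 rb2669 (Nat.ble (nat_lit 2669) i)) (@Bool.rec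 (fun _ => ℕ) rb2670 rb2671 (Nat.ble (nat_lit 2671) i)) (Nat.ble (nat_lit 2670) i)) (Nat.ble (nat_lit 2668) i)) (Nat.ble (nat_lit 2664) i)) (@Bool.rec (fun _ => ℕ) (@Bool.rec (fun _ => ℕ) (@Bool.rec (fun _ => ℕ) (@Bool.rec (fun _ => ℕ) rb2672 rb2673 (Nat.ble (nat_lit 2673) i)) (@Bool.rec (fun _ => ℕ) rb2674 rb2675 (Nat.ble (nat_lit 2675) i)) (Nat.ble (nat_lit 2674) i)) (@Bool.rec (fun _ => ℕ) (@Bool.rec (fun _ => ℕ) rb2676 rb2677 (Nat.ble (nat_lit 2677) i)) (@Bool.rec (fun _ => ℕ) rb2678 rb2679 (Nat.ble (nat_lit 2679) i)) (Nat.ble (nat_lit 2678) i)) (Nat.ble (nat_lit 2676) i)) (@Bool.rec (fun _ => ℕ) (@Bool.rec (fun _ => ℕ) (@Bool.rec (fun _ => ℕ) rb2680 rb2681 (Nat.ble (nat_lit 2681) i)) (@Bool.rec (fun _ => ℕ) rb2682 rb2683 (Nat.ble (nat_lit 2683) i)) (Nat.ble (nat_lit 2682) i)) (@Bool.rec (fun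 _ => ℕ) (@Bool.rec (fun _ => ℕ) rb2684 rb2685 (Nat.ble (nat_lit 2685) i)) (@Bool.rec (fun _ => ℕ) rb2686 rb2687 (Nat.ble (nat_lit 2687) i)) (Nat.ble (nat_lit 2686) i)) (Nat.ble (nat_lit 2684) i)) (Nat.ble (nat_lit 2680) i)) (Nat.ble (nat_lit 2672) i))

def rowBlk_n0_84 (i : ℕ) : ℕ := (@Bool.rec (fun _ => ℕ) (@Bool.rec (fun _ => ℕ) (@Bool.rec (fun _ => ℕ) (@Bool.rec (fun _ => ℕ) (@Bool.rec (fun _ => ℕ) rb2688 rb2689 (Nat.ble (nat_lit 2689) i)) (@Bool.rec (fun _ => ℕ) rb2690 rb2691 (Nat.ble (nat_lit 2691) i)) (Nat.ble (nat_lit 2690) i)) (@Bool.rec (fun _ => ℕ) (@Bool.rec (fun _ => ℕ) rb2692 rb2693 (Nat.ble (nat_lit 2693) i)) (@Bool.rec (fun _ => ℕ) rb2694 rb2695 (Nat.ble (nat_lit 2695) i)) (Nat.ble (nat_lit 2694) i)) (Nat.ble (nat_lit 2692) i)) (@Bool.rec (fun _ => ℕ) (@Bool.rec (fun _ => ℕ) (@Bool.rec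 (fun _ => ℕ) rb2696 rb2697 (Nat.ble (nat_lit 2697) i)) (@Bool.rec (fun _ => ℕ) rb2698 rb2699 (Nat.ble (nat_lit 2699) i)) (Nat.ble (nat_lit 2698) i)) (@Bool.rec (fun _ => ℕ) (@Bool.rec (fun _ => ℕ) rb2700 rb2701 (Nat.ble (nat_lit 2701) i)) (@Bool.rec (fun _ => ℕ) rb2702 rb2703 (Nat.ble (nat_lit 2703) i)) (Nat.ble (nat_lit 2702) i)) (Nat.ble (nat_lit 2700) i)) (Nat.ble (nat_lit 2696) i)) (@Bool.rec (fun _ => ℕ) (@Bool.rec (fun _ => ℕ) (@Bool.rec (fun _ => ℕ) (@Bool.rec (fun _ => ℕ) rb2704 rb2705 (Nat.ble (nat_lit 2705) i)) (@Bool.rec (fun _ => ℕ) rb2706 rb2707 (Nat.ble (nat_lit 2707) i)) (Nat.ble (nat_lit 2706) i)) (@Bool.rec (fun _ => ℕ) (@Bool.rec (fun _ => ℕ) rb2708 rb2709 (Nat.ble (nat_lit 2709) i)) (@Bool.rec (fun _ => ℕ) rb2710 rb2711 (Nat.ble (nat_lit 2711) i)) (Nat.ble (nat_lit 2710) i)) (Nat.ble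 (nat_lit 2708) i)) (@Bool.rec (fun _ => ℕ) (@Bool.rec (fun _ => ℕ) (@Bool.rec (fun _ => ℕ) rb2712 rb2713 (Nat.ble (nat_lit 2713) i)) (@Bool.rec (fun _ => ℕ) rb2714 rb2715 (Nat.ble (nat_lit 2715) i)) (Nat.ble (nat_lit 2714) i)) (@Bool.rec (fun _ => ℕ) (@Bool.rec (fun _ => ℕ) rb2716 rb2717 (Nat.ble (nat_lit 2717) i)) (@Bool.rec (fun _ => ℕ) rb2718 rb2719 (Nat.ble (nat_lit 2719) i)) (Nat.ble (nat_lit 2718) i)) (Nat.ble (nat_lit 2716) i)) (Nat.ble (nat_lit 2712) i)) (Nat.ble (nat_lit 2704) i))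

def rowBlk_n0_85 (i : ℕ) : ℕ := (@Bool.rec (fun _ => ℕ) (@Bool.rec (fun _ => ℕ) (@Bool.rec (fun _ => ℕ) (@Bool.rec (fun _ => ℕ) (@Bool.rec (fun _ => ℕ) rb2720 rb2721 (Nat.ble (nat_lit 2721) i)) (@Bool.rec (fun _ => ℕ) rb2722 rb2723 (Nat.ble (nat_lit 2723) i)) (Nat.ble (nat_lit 2722) i)) (@Bool.rec (fun _ => ℕ) (@Bool.rec (fun _ => ℕ) rb2724 rb2725 (Nat.ble (nat_lit 2725) i)) (@Bool.rec (fun _ => ℕ) rb2726 rb2727 (Nat.ble (nat_lit 2727) i)) (Nat.ble (nat_lit 2726) i)) (Nat.ble (nat_lit 2724) i)) (@Bool.rec (fun _ => ℕ) (@Bool.rec (fun _ => ℕ) (@Bool.rec (fun _ => ℕ) rb2728 rb2729 (Nat.ble (nat_lit 2729) i)) (@Bool.rec (fun _ => ℕ) rb2730 rb2731 (Nat.ble (nat_lit 2731) i)) (Nat.ble (nat_lit 2730) i)) (@Bool.rec (fun _ => ℕ) (@Bool.rec (fun _ => ℕ) rb2732 rb2733 (Nat.ble (nat_lit 2733) i)) (@Bool.rec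 (fun _ => ℕ) rb2734 rb2735 (Nat.ble (nat_lit 2735) i)) (Nat.ble (nat_lit 2734) i)) (Nat.ble (nat_lit 2732) i)) (Nat.ble (nat_lit 2728) i)) (@Bool.rec (fun _ => ℕ) (@Bool.rec (fun _ => ℕ) (@Bool.rec (fun _ => ℕ) (@Bool.rec (fun _ => ℕ) rb2736 rb2737 (Nat.ble (nat_lit 2737) i)) (@Bool.rec (fun _ => ℕ) rb2738 rb2739 (Nat.ble (nat_lit 2739) i)) (Nat.ble (nat_lit 2738) i)) (@Bool.rec (fun _ => ℕ) (@Bool.rec (fun _ => ℕ) rb2740 rb2741 (Nat.ble (nat_lit 2741) i)) (@Bool.rec (fun _ => ℕ) rb2742 rb2743 (Nat.ble (nat_lit 2743) i)) (Nat.ble (nat_lit 2742) i)) (Nat.ble (nat_lit 2740) i)) (@Bool.rec (fun _ => ℕ) (@Bool.rec (fun _ => ℕ) (@Bool.rec (fun _ => ℕ) rb2744 rb2745 (Nat.ble (nat_lit 2745) i)) (@Bool.rec (fun _ => ℕ) rb2746 rb2747 (Nat.ble (nat_lit 2747) i)) (Nat.ble (nat_lit 2746) i)) (@Bool.rec (fun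 _ => ℕ) (@Bool.rec (fun _ => ℕ) rb2748 rb2749 (Nat.ble (nat_lit 2749) i)) (@Bool.rec (fun _ => ℕ) rb2750 rb2751 (Nat.ble (nat_lit 2751) i)) (Nat.ble (nat_lit 2750) i)) (Nat.ble (nat_lit 2748) i)) (Nat.ble (nat_lit 2744) i)) (Nat.ble (nat_lit 2736) i))

def rowBlk_n0_86 (i : ℕ) : ℕ := (@Bool.rec (fun _ => ℕ) (@Bool.rec (fun _ => ℕ) (@Bool.rec (fun _ => ℕ) (@Bool.rec (fun _ => ℕ) (@Bool.rec (fun _ => ℕ) rb2752 rb2753 (Nat.ble (nat_lit 2753) i)) (@Bool.rec (fun _ => ℕ) rb2754 rb2755 (Nat.ble (nat_lit 2755) i)) (Nat.ble (nat_lit 2754) i)) (@Bool.rec (fun _ => ℕ) (@Bool.rec (fun _ => ℕ) rb2756 rb2757 (Nat.ble (nat_lit 2757) i)) (@Bool.rec (fun _ => ℕ) rb2758 rb2759 (Nat.ble (nat_lit 2759) i)) (Nat.ble (nat_lit 2758) i)) (Nat.ble (nat_lit 2756) i)) (@Bool.rec (fun _ => ℕ) (@Bool.rec (fun _ => ℕ) (@Bool.rec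 (fun _ => ℕ) rb2760 rb2761 (Nat.ble (nat_lit 2761) i)) (@Bool.rec (fun _ => ℕ) rb2762 rb2763 (Nat.ble (nat_lit 2763) i)) (Nat.ble (nat_lit 2762) i)) (@Bool.rec (fun _ => ℕ) (@Bool.rec (fun _ => ℕ) rb2764 rb2765 (Nat.ble (nat_lit 2765) i)) (@Bool.rec (fun _ => ℕ) rb2766 rb2767 (Nat.ble (nat_lit 2767) i)) (Nat.ble (nat_lit 2766) i)) (Nat.ble (nat_lit 2764) i)) (Nat.ble (nat_lit 2760) i)) (@Bool.rec (fun _ => ℕ) (@Bool.rec (fun _ => ℕ) (@Bool.rec (fun _ => ℕ) (@Bool.rec (fun _ => ℕ) rb2768 rb2769 (Nat.ble (nat_lit 2769) i)) (@Bool.rec (fun _ => ℕ) rb2770 rb2771 (Nat.ble (nat_lit 2771) i)) (Nat.ble (nat_lit 2770) i)) (@Bool.rec (fun _ => ℕ) (@Bool.rec (fun _ => ℕ) rb2772 rb2773 (Nat.ble (nat_lit 2773) i)) (@Bool.rec (fun _ => ℕ) rb2774 rb2775 (Nat.ble (nat_lit 2775) i)) (Nat.ble (nat_lit 2774) i)) (Nat.ble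 (nat_lit 2772) i)) (@Bool.rec (fun _ => ℕ) (@Bool.rec (fun _ => ℕ) (@Bool.rec (fun _ => ℕ) rb2776 rb2777 (Nat.ble (nat_lit 2777) i)) (@Bool.rec (fun _ => ℕ) rb2778 rb2779 (Nat.ble (nat_lit 2779) i)) (Nat.ble (nat_lit 2778) i)) (@Bool.rec (fun _ => ℕ) (@Bool.rec (fun _ => ℕ) rb2780 rb2781 (Nat.ble (nat_lit 2781) i)) (@Bool.rec (fun _ => ℕ) rb2782 rb2783 (Nat.ble (nat_lit 2783) i)) (Nat.ble (nat_lit 2782) i)) (Nat.ble (nat_lit 2780) i)) (Nat.ble (nat_lit 2776) i)) (Nat.ble (nat_lit 2768) i))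

def rowBlk_n0_87 (i : ℕ) : ℕ := (@Bool.rec (fun _ => ℕ) (@Bool.rec (fun _ => ℕ) (@Bool.rec (fun _ => ℕ) (@Bool.rec (fun _ => ℕ) (@Bool.rec (fun _ => ℕ) rb2784 rb2785 (Nat.ble (nat_lit 2785) i)) (@Bool.rec (fun _ => ℕ) rb2786 rb2787 (Nat.ble (nat_lit 2787) i)) (Nat.ble (nat_lit 2786) i)) (@Bool.rec (fun _ => ℕ) (@Bool.rec (fun _ => ℕ) rb2788 rb2789 (Nat.ble (nat_lit 2789) i)) (@Bool.rec (fun _ => ℕ) rb2790 rb2791 (Nat.ble (nat_lit 2791) i)) (Nat.ble (nat_lit 2790) i)) (Nat.ble (nat_lit 2788) i)) (@Bool.rec (fun _ => ℕ) (@Bool.rec (fun _ => ℕ) (@Bool.rec (fun _ => ℕ) rb2792 rb2793 (Nat.ble (nat_lit 2793) i)) (@Bool.rec (fun _ => ℕ) rb2794 rb2795 (Nat.ble (nat_lit 2795) i)) (Nat.ble (nat_lit 2794) i)) (@Bool.rec (fun _ => ℕ) (@Bool.rec (fun _ => ℕ) rb2796 rb2797 (Nat.ble (nat_lit 2797) i)) (@Bool.rec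 (fun _ => ℕ) rb2798 rb2799 (Nat.ble (nat_lit 2799) i)) (Nat.ble (nat_lit 2798) i)) (Nat.ble (nat_lit 2796) i)) (Nat.ble (nat_lit 2792) i)) (@Bool.rec (fun _ => ℕ) (@Bool.rec (fun _ => ℕ) (@Bool.rec (fun _ => ℕ) (@Bool.rec (fun _ => ℕ) rb2800 rb2801 (Nat.ble (nat_lit 2801) i)) (@Bool.rec (fun _ => ℕ) rb2802 rb2803 (Nat.ble (nat_lit 2803) i)) (Nat.ble (nat_lit 2802) i)) (@Bool.rec (fun _ => ℕ) (@Bool.rec (fun _ => ℕ) rb2804 rb2805 (Nat.ble (nat_lit 2805) i)) (@Bool.rec (fun _ => ℕ) rb2806 rb2807 (Nat.ble (nat_lit 2807) i)) (Nat.ble (nat_lit 2806) i)) (Nat.ble (nat_lit 2804) i)) (@Bool.rec (fun _ => ℕ) (@Bool.rec (fun _ => ℕ) (@Bool.rec (fun _ => ℕ) rb2808 rb2809 (Nat.ble (nat_lit 2809) i)) (@Bool.rec (fun _ => ℕ) rb2810 rb2811 (Nat.ble (nat_lit 2811) i)) (Nat.ble (nat_lit 2810) i)) (@Bool.rec (fun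 _ => ℕ) (@Bool.rec (fun _ => ℕ) rb2812 rb2813 (Nat.ble (nat_lit 2813) i)) (@Bool.rec (fun _ => ℕ) rb2814 rb2815 (Nat.ble (nat_lit 2815) i)) (Nat.ble (nat_lit 2814) i)) (Nat.ble (nat_lit 2812) i)) (Nat.ble (nat_lit 2808) i)) (Nat.ble (nat_lit 2800) i))

def rowBlk_n0_88 (i : ℕ) : ℕ := (@Bool.rec (fun _ => ℕ) (@Bool.rec (fun _ => ℕ) (@Bool.rec (fun _ => ℕ) (@Bool.rec (fun _ => ℕ) (@Bool.rec (fun _ => ℕ) rb2816 rb2817 (Nat.ble (nat_lit 2817) i)) (@Bool.rec (fun _ => ℕ) rb2818 rb2819 (Nat.ble (nat_lit 2819) i)) (Nat.ble (nat_lit 2818) i)) (@Bool.rec (fun _ => ℕ) (@Bool.rec (fun _ => ℕ) rb2820 rb2821 (Nat.ble (nat_lit 2821) i)) (@Bool.rec (fun _ => ℕ) rb2822 rb2823 (Nat.ble (nat_lit 2823) i)) (Nat.ble (nat_lit 2822) i)) (Nat.ble (nat_lit 2820) i)) (@Bool.rec (fun _ => ℕ) (@Bool.rec (fun _ => ℕ) (@Bool.rec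 (fun _ => ℕ) rb2824 rb2825 (Nat.ble (nat_lit 2825) i)) (@Bool.rec (fun _ => ℕ) rb2826 rb2827 (Nat.ble (nat_lit 2827) i)) (Nat.ble (nat_lit 2826) i)) (@Bool.rec (fun _ => ℕ) (@Bool.rec (fun _ => ℕ) rb2828 rb2829 (Nat.ble (nat_lit 2829) i)) (@Bool.rec (fun _ => ℕ) rb2830 rb2831 (Nat.ble (nat_lit 2831) i)) (Nat.ble (nat_lit 2830) i)) (Nat.ble (nat_lit 2828) i)) (Nat.ble (nat_lit 2824) i)) (@Bool.rec (fun _ => ℕ) (@Bool.rec (fun _ => ℕ) (@Bool.rec (fun _ => ℕ) (@Bool.rec (fun _ => ℕ) rb2832 rb2833 (Nat.ble (nat_lit 2833) i)) (@Bool.rec (fun _ => ℕ) rb2834 rb2835 (Nat.ble (nat_lit 2835) i)) (Nat.ble (nat_lit 2834) i)) (@Bool.rec (fun _ => ℕ) (@Bool.rec (fun _ => ℕ) rb2836 rb2837 (Nat.ble (nat_lit 2837) i)) (@Bool.rec (fun _ => ℕ) rb2838 rb2839 (Nat.ble (nat_lit 2839) i)) (Nat.ble (nat_lit 2838) i)) (Nat.ble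 (nat_lit 2836) i)) (@Bool.rec (fun _ => ℕ) (@Bool.rec (fun _ => ℕ) (@Bool.rec (fun _ => ℕ) rb2840 rb2841 (Nat.ble (nat_lit 2841) i)) (@Bool.rec (fun _ => ℕ) rb2842 rb2843 (Nat.ble (nat_lit 2843) i)) (Nat.ble (nat_lit 2842) i)) (@Bool.rec (fun _ => ℕ) (@Bool.rec (fun _ => ℕ) rb2844 rb2845 (Nat.ble (nat_lit 2845) i)) (@Bool.rec (fun _ => ℕ) rb2846 rb2847 (Nat.ble (nat_lit 2847) i)) (Nat.ble (nat_lit 2846) i)) (Nat.ble (nat_lit 2844) i)) (Nat.ble (nat_lit 2840) i)) (Nat.ble (nat_lit 2832) i))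

def rowBlk_n0_89 (i : ℕ) : ℕ := (@Bool.rec (fun _ => ℕ) (@Bool.rec (fun _ => ℕ) (@Bool.rec (fun _ => ℕ) (@Bool.rec (fun _ => ℕ) (@Bool.rec (fun _ => ℕ) rb2848 rb2849 (Nat.ble (nat_lit 2849) i)) (@Bool.rec (fun _ => ℕ) rb2850 rb2851 (Nat.ble (nat_lit 2851) i)) (Nat.ble (nat_lit 2850) i)) (@Bool.rec (fun _ => ℕ) (@Bool.rec (fun _ => ℕ) rb2852 rb2853 (Nat.ble (nat_lit 2853) i)) (@Bool.rec (fun _ => ℕ) rb2854 rb2855 (Nat.ble (nat_lit 2855) i)) (Nat.ble (nat_lit 2854) i)) (Nat.ble (nat_lit 2852) i)) (@Bool.rec (fun _ => ℕ) (@Bool.rec (fun _ => ℕ) (@Bool.rec (fun _ => ℕ) rb2856 rb2857 (Nat.ble (nat_lit 2857) i)) (@Bool.rec (fun _ => ℕ) rb2858 rb2859 (Nat.ble (nat_lit 2859) i)) (Nat.ble (nat_lit 2858) i)) (@Bool.rec (fun _ => ℕ) (@Bool.rec (fun _ => ℕ) rb2860 rb2861 (Nat.ble (nat_lit 2861) i)) (@Bool.rec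 (fun _ => ℕ) rb2862 rb2863 (Nat.ble (nat_lit 2863) i)) (Nat.ble (nat_lit 2862) i)) (Nat.ble (nat_lit 2860) i)) (Nat.ble (nat_lit 2856) i)) (@Bool.rec (fun _ => ℕ) (@Bool.rec (fun _ => ℕ) (@Bool.rec (fun _ => ℕ) (@Bool.rec (fun _ => ℕ) rb2864 rb2865 (Nat.ble (nat_lit 2865) i)) (@Bool.rec (fun _ => ℕ) rb2866 rb2867 (Nat.ble (nat_lit 2867) i)) (Nat.ble (nat_lit 2866) i)) (@Bool.rec (fun _ => ℕ) (@Bool.rec (fun _ => ℕ) rb2868 rb2869 (Nat.ble (nat_lit 2869) i)) (@Bool.rec (fun _ => ℕ) rb2870 rb2871 (Nat.ble (nat_lit 2871) i)) (Nat.ble (nat_lit 2870) i)) (Nat.ble (nat_lit 2868) i)) (@Bool.rec (fun _ => ℕ) (@Bool.rec (fun _ => ℕ) (@Bool.rec (fun _ => ℕ) rb2872 rb2873 (Nat.ble (nat_lit 2873) i)) (@Bool.rec (fun _ => ℕ) rb2874 rb2875 (Nat.ble (nat_lit 2875) i)) (Nat.ble (nat_lit 2874) i)) (@Bool.rec (fun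 _ => ℕ) (@Bool.rec (fun _ => ℕ) rb2876 rb2877 (Nat.ble (nat_lit 2877) i)) (@Bool.rec (fun _ => ℕ) rb2878 rb2879 (Nat.ble (nat_lit 2879) i)) (Nat.ble (nat_lit 2878) i)) (Nat.ble (nat_lit 2876) i)) (Nat.ble (nat_lit 2872) i)) (Nat.ble (nat_lit 2864) i))

def rowBlk_n0_90 (i : ℕ) : ℕ := (@Bool.rec (fun _ => ℕ) (@Bool.rec (fun _ => ℕ) (@Bool.rec (fun _ => ℕ) (@Bool.rec (fun _ => ℕ) (@Bool.rec (fun _ => ℕ) rb2880 rb2881 (Nat.ble (nat_lit 2881) i)) (@Bool.rec (fun _ => ℕ) rb2882 rb2883 (Nat.ble (nat_lit 2883) i)) (Nat.ble (nat_lit 2882) i)) (@Bool.rec (fun _ => ℕ) (@Bool.rec (fun _ => ℕ) rb2884 rb2885 (Nat.ble (nat_lit 2885) i)) (@Bool.rec (fun _ => ℕ) rb2886 rb2887 (Nat.ble (nat_lit 2887) i)) (Nat.ble (nat_lit 2886) i)) (Nat.ble (nat_lit 2884) i)) (@Bool.rec (fun _ => ℕ) (@Bool.rec (fun _ => ℕ) (@Bool.rec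 (fun _ => ℕ) rb2888 rb2889 (Nat.ble (nat_lit 2889) i)) (@Bool.rec (fun _ => ℕ) rb2890 rb2891 (Nat.ble (nat_lit 2891) i)) (Nat.ble (nat_lit 2890) i)) (@Bool.rec (fun _ => ℕ) (@Bool.rec (fun _ => ℕ) rb2892 rb2893 (Nat.ble (nat_lit 2893) i)) (@Bool.rec (fun _ => ℕ) rb2894 rb2895 (Nat.ble (nat_lit 2895) i)) (Nat.ble (nat_lit 2894) i)) (Nat.ble (nat_lit 2892) i)) (Nat.ble (nat_lit 2888) i)) (@Bool.rec (fun _ => ℕ) (@Bool.rec (fun _ => ℕ) (@Bool.rec (fun _ => ℕ) (@Bool.rec (fun _ => ℕ) rb2896 rb2897 (Nat.ble (nat_lit 2897) i)) (@Bool.rec (fun _ => ℕ) rb2898 rb2899 (Nat.ble (nat_lit 2899) i)) (Nat.ble (nat_lit 2898) i)) (@Bool.rec (fun _ => ℕ) (@Bool.rec (fun _ => ℕ) rb2900 rb2901 (Nat.ble (nat_lit 2901) i)) (@Bool.rec (fun _ => ℕ) rb2902 rb2903 (Nat.ble (nat_lit 2903) i)) (Nat.ble (nat_lit 2902) i)) (Nat.ble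 (nat_lit 2900) i)) (@Bool.rec (fun _ => ℕ) (@Bool.rec (fun _ => ℕ) (@Bool.rec (fun _ => ℕ) rb2904 rb2905 (Nat.ble (nat_lit 2905) i)) (@Bool.rec (fun _ => ℕ) rb2906 rb2907 (Nat.ble (nat_lit 2907) i)) (Nat.ble (nat_lit 2906) i)) (@Bool.rec (fun _ => ℕ) (@Bool.rec (fun _ => ℕ) rb2908 rb2909 (Nat.ble (nat_lit 2909) i)) (@Bool.rec (fun _ => ℕ) rb2910 rb2911 (Nat.ble (nat_lit 2911) i)) (Nat.ble (nat_lit 2910) i)) (Nat.ble (nat_lit 2908) i)) (Nat.ble (nat_lit 2904) i)) (Nat.ble (nat_lit 2896) i))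

def rowBlk_n0_91 (i : ℕ) : ℕ := (@Bool.rec (fun _ => ℕ) (@Bool.rec (fun _ => ℕ) (@Bool.rec (fun _ => ℕ) (@Bool.rec (fun _ => ℕ) (@Bool.rec (fun _ => ℕ) rb2912 rb2913 (Nat.ble (nat_lit 2913) i)) (@Bool.rec (fun _ => ℕ) rb2914 rb2915 (Nat.ble (nat_lit 2915) i)) (Nat.ble (nat_lit 2914) i)) (@Bool.rec (fun _ => ℕ) (@Bool.rec (fun _ => ℕ) rb2916 rb2917 (Nat.ble (nat_lit 2917) i)) (@Bool.rec (fun _ => ℕ) rb2918 rb2919 (Nat.ble (nat_lit 2919) i)) (Nat.ble (nat_lit 2918) i)) (Nat.ble (nat_lit 2916) i)) (@Bool.rec (fun _ => ℕ) (@Bool.rec (fun _ => ℕ) (@Bool.rec (fun _ => ℕ) rb2920 rb2921 (Nat.ble (nat_lit 2921) i)) (@Bool.rec (fun _ => ℕ) rb2922 rb2923 (Nat.ble (nat_lit 2923) i)) (Nat.ble (nat_lit 2922) i)) (@Bool.rec (fun _ => ℕ) (@Bool.rec (fun _ => ℕ) rb2924 rb2925 (Nat.ble (nat_lit 2925) i)) (@Bool.rec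 (fun _ => ℕ) rb2926 rb2927 (Nat.ble (nat_lit 2927) i)) (Nat.ble (nat_lit 2926) i)) (Nat.ble (nat_lit 2924) i)) (Nat.ble (nat_lit 2920) i)) (@Bool.rec (fun _ => ℕ) (@Bool.rec (fun _ => ℕ) (@Bool.rec (fun _ => ℕ) (@Bool.rec (fun _ => ℕ) rb2928 rb2929 (Nat.ble (nat_lit 2929) i)) (@Bool.rec (fun _ => ℕ) rb2930 rb2931 (Nat.ble (nat_lit 2931) i)) (Nat.ble (nat_lit 2930) i)) (@Bool.rec (fun _ => ℕ) (@Bool.rec (fun _ => ℕ) rb2932 rb2933 (Nat.ble (nat_lit 2933) i)) (@Bool.rec (fun _ => ℕ) rb2934 rb2935 (Nat.ble (nat_lit 2935) i)) (Nat.ble (nat_lit 2934) i)) (Nat.ble (nat_lit 2932) i)) (@Bool.rec (fun _ => ℕ) (@Bool.rec (fun _ => ℕ) (@Bool.rec (fun _ => ℕ) rb2936 rb2937 (Nat.ble (nat_lit 2937) i)) (@Bool.rec (fun _ => ℕ) rb2938 rb2939 (Nat.ble (nat_lit 2939) i)) (Nat.ble (nat_lit 2938) i)) (@Bool.rec (fun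 _ => ℕ) (@Bool.rec (fun _ => ℕ) rb2940 rb2941 (Nat.ble (nat_lit 2941) i)) (@Bool.rec (fun _ => ℕ) rb2942 rb2943 (Nat.ble (nat_lit 2943) i)) (Nat.ble (nat_lit 2942) i)) (Nat.ble (nat_lit 2940) i)) (Nat.ble (nat_lit 2936) i)) (Nat.ble (nat_lit 2928) i))

def rowBlk_n0_92 (i : ℕ) : ℕ := (@Bool.rec (fun _ => ℕ) (@Bool.rec (fun _ => ℕ) (@Bool.rec (fun _ => ℕ) (@Bool.rec (fun _ => ℕ) (@Bool.rec (fun _ => ℕ) rb2944 rb2945 (Nat.ble (nat_lit 2945) i)) (@Bool.rec (fun _ => ℕ) rb2946 rb2947 (Nat.ble (nat_lit 2947) i)) (Nat.ble (nat_lit 2946) i)) (@Bool.rec (fun _ => ℕ) (@Bool.rec (fun _ => ℕ) rb2948 rb2949 (Nat.ble (nat_lit 2949) i)) (@Bool.rec (fun _ => ℕ) rb2950 rb2951 (Nat.ble (nat_lit 2951) i)) (Nat.ble (nat_lit 2950) i)) (Nat.ble (nat_lit 2948) i)) (@Bool.rec (fun _ => ℕ) (@Bool.rec (fun _ => ℕ) (@Bool.rec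 (fun _ => ℕ) rb2952 rb2953 (Nat.ble (nat_lit 2953) i)) (@Bool.rec (fun _ => ℕ) rb2954 rb2955 (Nat.ble (nat_lit 2955) i)) (Nat.ble (nat_lit 2954) i)) (@Bool.rec (fun _ => ℕ) (@Bool.rec (fun _ => ℕ) rb2956 rb2957 (Nat.ble (nat_lit 2957) i)) (@Bool.rec (fun _ => ℕ) rb2958 rb2959 (Nat.ble (nat_lit 2959) i)) (Nat.ble (nat_lit 2958) i)) (Nat.ble (nat_lit 2956) i)) (Nat.ble (nat_lit 2952) i)) (@Bool.rec (fun _ => ℕ) (@Bool.rec (fun _ => ℕ) (@Bool.rec (fun _ => ℕ) (@Bool.rec (fun _ => ℕ) rb2960 rb2961 (Nat.ble (nat_lit 2961) i)) (@Bool.rec (fun _ => ℕ) rb2962 rb2963 (Nat.ble (nat_lit 2963) i)) (Nat.ble (nat_lit 2962) i)) (@Bool.rec (fun _ => ℕ) (@Bool.rec (fun _ => ℕ) rb2964 rb2965 (Nat.ble (nat_lit 2965) i)) (@Bool.rec (fun _ => ℕ) rb2966 rb2967 (Nat.ble (nat_lit 2967) i)) (Nat.ble (nat_lit 2966) i)) (Nat.ble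 (nat_lit 2964) i)) (@Bool.rec (fun _ => ℕ) (@Bool.rec (fun _ => ℕ) (@Bool.rec (fun _ => ℕ) rb2968 rb2969 (Nat.ble (nat_lit 2969) i)) (@Bool.rec (fun _ => ℕ) rb2970 rb2971 (Nat.ble (nat_lit 2971) i)) (Nat.ble (nat_lit 2970) i)) (@Bool.rec (fun _ => ℕ) (@Bool.rec (fun _ => ℕ) rb2972 rb2973 (Nat.ble (nat_lit 2973) i)) (@Bool.rec (fun _ => ℕ) rb2974 rb2975 (Nat.ble (nat_lit 2975) i)) (Nat.ble (nat_lit 2974) i)) (Nat.ble (nat_lit 2972) i)) (Nat.ble (nat_lit 2968) i)) (Nat.ble (nat_lit 2960) i))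

def rowBlk_n0_93 (i : ℕ) : ℕ := (@Bool.rec (fun _ => ℕ) (@Bool.rec (fun _ => ℕ) (@Bool.rec (fun _ => ℕ) (@Bool.rec (fun _ => ℕ) (@Bool.rec (fun _ => ℕ) rb2976 rb2977 (Nat.ble (nat_lit 2977) i)) (@Bool.rec (fun _ => ℕ) rb2978 rb2979 (Nat.ble (nat_lit 2979) i)) (Nat.ble (nat_lit 2978) i)) (@Bool.rec (fun _ => ℕ) (@Bool.rec (fun _ => ℕ) rb2980 rb2981 (Nat.ble (nat_lit 2981) i)) (@Bool.rec (fun _ => ℕ) rb2982 rb2983 (Nat.ble (nat_lit 2983) i)) (Nat.ble (nat_lit 2982) i)) (Nat.ble (nat_lit 2980) i)) (@Bool.rec (fun _ => ℕ) (@Bool.rec (fun _ => ℕ) (@Bool.rec (fun _ => ℕ) rb2984 rb2985 (Nat.ble (nat_lit 2985) i)) (@Bool.rec (fun _ => ℕ) rb2986 rb2987 (Nat.ble (nat_lit 2987) i)) (Nat.ble (nat_lit 2986) i)) (@Bool.rec (fun _ => ℕ) (@Bool.rec (fun _ => ℕ) rb2988 rb2989 (Nat.ble (nat_lit 2989) i)) (@Bool.rec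 (fun _ => ℕ) rb2990 rb2991 (Nat.ble (nat_lit 2991) i)) (Nat.ble (nat_lit 2990) i)) (Nat.ble (nat_lit 2988) i)) (Nat.ble (nat_lit 2984) i)) (@Bool.rec (fun _ => ℕ) (@Bool.rec (fun _ => ℕ) (@Bool.rec (fun _ => ℕ) (@Bool.rec (fun _ => ℕ) rb2992 rb2993 (Nat.ble (nat_lit 2993) i)) (@Bool.rec (fun _ => ℕ) rb2994 rb2995 (Nat.ble (nat_lit 2995) i)) (Nat.ble (nat_lit 2994) i)) (@Bool.rec (fun _ => ℕ) (@Bool.rec (fun _ => ℕ) rb2996 rb2997 (Nat.ble (nat_lit 2997) i)) (@Bool.rec (fun _ => ℕ) rb2998 rb2999 (Nat.ble (nat_lit 2999) i)) (Nat.ble (nat_lit 2998) i)) (Nat.ble (nat_lit 2996) i)) (@Bool.rec (fun _ => ℕ) (@Bool.rec (fun _ => ℕ) (@Bool.rec (fun _ => ℕ) rb3000 rb3001 (Nat.ble (nat_lit 3001) i)) (@Bool.rec (fun _ => ℕ) rb3002 rb3003 (Nat.ble (nat_lit 3003) i)) (Nat.ble (nat_lit 3002) i)) (@Bool.rec (fun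 _ => ℕ) (@Bool.rec (fun _ => ℕ) rb3004 rb3005 (Nat.ble (nat_lit 3005) i)) (@Bool.rec (fun _ => ℕ) rb3006 rb3007 (Nat.ble (nat_lit 3007) i)) (Nat.ble (nat_lit 3006) i)) (Nat.ble (nat_lit 3004) i)) (Nat.ble (nat_lit 3000) i)) (Nat.ble (nat_lit 2992) i))

def rowBlk_n0_94 (i : ℕ) : ℕ := (@Bool.rec (fun _ => ℕ) (@Bool.rec (fun _ => ℕ) (@Bool.rec (fun _ => ℕ) (@Bool.rec (fun _ => ℕ) (@Bool.rec (fun _ => ℕ) rb3008 rb3009 (Nat.ble (nat_lit 3009) i)) (@Bool.rec (fun _ => ℕ) rb3010 rb3011 (Nat.ble (nat_lit 3011) i)) (Nat.ble (nat_lit 3010) i)) (@Bool.rec (fun _ => ℕ) (@Bool.rec (fun _ => ℕ) rb3012 rb3013 (Nat.ble (nat_lit 3013) i)) (@Bool.rec (fun _ => ℕ) rb3014 rb3015 (Nat.ble (nat_lit 3015) i)) (Nat.ble (nat_lit 3014) i)) (Nat.ble (nat_lit 3012) i)) (@Bool.rec (fun _ => ℕ) (@Bool.rec (fun _ => ℕ) (@Bool.rec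 (fun _ => ℕ) rb3016 rb3017 (Nat.ble (nat_lit 3017) i)) (@Bool.rec (fun _ => ℕ) rb3018 rb3019 (Nat.ble (nat_lit 3019) i)) (Nat.ble (nat_lit 3018) i)) (@Bool.rec (fun _ => ℕ) (@Bool.rec (fun _ => ℕ) rb3020 rb3021 (Nat.ble (nat_lit 3021) i)) (@Bool.rec (fun _ => ℕ) rb3022 rb3023 (Nat.ble (nat_lit 3023) i)) (Nat.ble (nat_lit 3022) i)) (Nat.ble (nat_lit 3020) i)) (Nat.ble (nat_lit 3016) i)) (@Bool.rec (fun _ => ℕ) (@Bool.rec (fun _ => ℕ) (@Bool.rec (fun _ => ℕ) (@Bool.rec (fun _ => ℕ) rb3024 rb3025 (Nat.ble (nat_lit 3025) i)) (@Bool.rec (fun _ => ℕ) rb3026 rb3027 (Nat.ble (nat_lit 3027) i)) (Nat.ble (nat_lit 3026) i)) (@Bool.rec (fun _ => ℕ) (@Bool.rec (fun _ => ℕ) rb3028 rb3029 (Nat.ble (nat_lit 3029) i)) (@Bool.rec (fun _ => ℕ) rb3030 rb3031 (Nat.ble (nat_lit 3031) i)) (Nat.ble (nat_lit 3030) i)) (Nat.ble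 (nat_lit 3028) i)) (@Bool.rec (fun _ => ℕ) (@Bool.rec (fun _ => ℕ) (@Bool.rec (fun _ => ℕ) rb3032 rb3033 (Nat.ble (nat_lit 3033) i)) (@Bool.rec (fun _ => ℕ) rb3034 rb3035 (Nat.ble (nat_lit 3035) i)) (Nat.ble (nat_lit 3034) i)) (@Bool.rec (fun _ => ℕ) (@Bool.rec (fun _ => ℕ) rb3036 rb3037 (Nat.ble (nat_lit 3037) i)) (@Bool.rec (fun _ => ℕ) rb3038 rb3039 (Nat.ble (nat_lit 3039) i)) (Nat.ble (nat_lit 3038) i)) (Nat.ble (nat_lit 3036) i)) (Nat.ble (nat_lit 3032) i)) (Nat.ble (nat_lit 3024) i))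

def rowBlk_n0_95 (i : ℕ) : ℕ := (@Bool.rec (fun _ => ℕ) (@Bool.rec (fun _ => ℕ) (@Bool.rec (fun _ => ℕ) (@Bool.rec (fun _ => ℕ) (@Bool.rec (fun _ => ℕ) rb3040 rb3041 (Nat.ble (nat_lit 3041) i)) (@Bool.rec (fun _ => ℕ) rb3042 rb3043 (Nat.ble (nat_lit 3043) i)) (Nat.ble (nat_lit 3042) i)) (@Bool.rec (fun _ => ℕ) (@Bool.rec (fun _ => ℕ) rb3044 rb3045 (Nat.ble (nat_lit 3045) i)) (@Bool.rec (fun _ => ℕ) rb3046 rb3047 (Nat.ble (nat_lit 3047) i)) (Nat.ble (nat_lit 3046) i)) (Nat.ble (nat_lit 3044) i)) (@Bool.rec (fun _ => ℕ) (@Bool.rec (fun _ => ℕ) (@Bool.rec (fun _ => ℕ) rb3048 rb3049 (Nat.ble (nat_lit 3049) i)) (@Bool.rec (fun _ => ℕ) rb3050 rb3051 (Nat.ble (nat_lit 3051) i)) (Nat.ble (nat_lit 3050) i)) (@Bool.rec (fun _ => ℕ) (@Bool.rec (fun _ => ℕ) rb3052 rb3053 (Nat.ble (nat_lit 3053) i)) (@Bool.rec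 (fun _ => ℕ) rb3054 rb3055 (Nat.ble (nat_lit 3055) i)) (Nat.ble (nat_lit 3054) i)) (Nat.ble (nat_lit 3052) i)) (Nat.ble (nat_lit 3048) i)) (@Bool.rec (fun _ => ℕ) (@Bool.rec (fun _ => ℕ) (@Bool.rec (fun _ => ℕ) (@Bool.rec (fun _ => ℕ) rb3056 rb3057 (Nat.ble (nat_lit 3057) i)) (@Bool.rec (fun _ => ℕ) rb3058 rb3059 (Nat.ble (nat_lit 3059) i)) (Nat.ble (nat_lit 3058) i)) (@Bool.rec (fun _ => ℕ) (@Bool.rec (fun _ => ℕ) rb3060 rb3061 (Nat.ble (nat_lit 3061) i)) (@Bool.rec (fun _ => ℕ) rb3062 rb3063 (Nat.ble (nat_lit 3063) i)) (Nat.ble (nat_lit 3062) i)) (Nat.ble (nat_lit 3060) i)) (@Bool.rec (fun _ => ℕ) (@Bool.rec (fun _ => ℕ) (@Bool.rec (fun _ => ℕ) rb3064 rb3065 (Nat.ble (nat_lit 3065) i)) (@Bool.rec (fun _ => ℕ) rb3066 rb3067 (Nat.ble (nat_lit 3067) i)) (Nat.ble (nat_lit 3066) i)) (@Bool.rec (fun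 _ => ℕ) (@Bool.rec (fun _ => ℕ) rb3068 rb3069 (Nat.ble (nat_lit 3069) i)) (@Bool.rec (fun _ => ℕ) rb3070 rb3071 (Nat.ble (nat_lit 3071) i)) (Nat.ble (nat_lit 3070) i)) (Nat.ble (nat_lit 3068) i)) (Nat.ble (nat_lit 3064) i)) (Nat.ble (nat_lit 3056) i))

def rowBlk_n0_96 (i : ℕ) : ℕ := (@Bool.rec (fun _ => ℕ) (@Bool.rec (fun _ => ℕ) (@Bool.rec (fun _ => ℕ) (@Bool.rec (fun _ => ℕ) (@Bool.rec (fun _ => ℕ) rb3072 rb3073 (Nat.ble (nat_lit 3073) i)) (@Bool.rec (fun _ => ℕ) rb3074 rb3075 (Nat.ble (nat_lit 3075) i)) (Nat.ble (nat_lit 3074) i)) (@Bool.rec (fun _ => ℕ) (@Bool.rec (fun _ => ℕ) rb3076 rb3077 (Nat.ble (nat_lit 3077) i)) (@Bool.rec (fun _ => ℕ) rb3078 rb3079 (Nat.ble (nat_lit 3079) i)) (Nat.ble (nat_lit 3078) i)) (Nat.ble (nat_lit 3076) i)) (@Bool.rec (fun _ => ℕ) (@Bool.rec (fun _ => ℕ) (@Bool.rec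 (fun _ => ℕ) rb3080 rb3081 (Nat.ble (nat_lit 3081) i)) (@Bool.rec (fun _ => ℕ) rb3082 rb3083 (Nat.ble (nat_lit 3083) i)) (Nat.ble (nat_lit 3082) i)) (@Bool.rec (fun _ => ℕ) (@Bool.rec (fun _ => ℕ) rb3084 rb3085 (Nat.ble (nat_lit 3085) i)) (@Bool.rec (fun _ => ℕ) rb3086 rb3087 (Nat.ble (nat_lit 3087) i)) (Nat.ble (nat_lit 3086) i)) (Nat.ble (nat_lit 3084) i)) (Nat.ble (nat_lit 3080) i)) (@Bool.rec (fun _ => ℕ) (@Bool.rec (fun _ => ℕ) (@Bool.rec (fun _ => ℕ) (@Bool.rec (fun _ => ℕ) rb3088 rb3089 (Nat.ble (nat_lit 3089) i)) (@Bool.rec (fun _ => ℕ) rb3090 rb3091 (Nat.ble (nat_lit 3091) i)) (Nat.ble (nat_lit 3090) i)) (@Bool.rec (fun _ => ℕ) (@Bool.rec (fun _ => ℕ) rb3092 rb3093 (Nat.ble (nat_lit 3093) i)) (@Bool.rec (fun _ => ℕ) rb3094 rb3095 (Nat.ble (nat_lit 3095) i)) (Nat.ble (nat_lit 3094) i)) (Nat.ble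 (nat_lit 3092) i)) (@Bool.rec (fun _ => ℕ) (@Bool.rec (fun _ => ℕ) (@Bool.rec (fun _ => ℕ) rb3096 rb3097 (Nat.ble (nat_lit 3097) i)) (@Bool.rec (fun _ => ℕ) rb3098 rb3099 (Nat.ble (nat_lit 3099) i)) (Nat.ble (nat_lit 3098) i)) (@Bool.rec (fun _ => ℕ) (@Bool.rec (fun _ => ℕ) rb3100 rb3101 (Nat.ble (nat_lit 3101) i)) (@Bool.rec (fun _ => ℕ) rb3102 rb3103 (Nat.ble (nat_lit 3103) i)) (Nat.ble (nat_lit 3102) i)) (Nat.ble (nat_lit 3100) i)) (Nat.ble (nat_lit 3096) i)) (Nat.ble (nat_lit 3088) i))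

def rowBlk_n0_97 (i : ℕ) : ℕ := (@Bool.rec (fun _ => ℕ) (@Bool.rec (fun _ => ℕ) (@Bool.rec (fun _ => ℕ) (@Bool.rec (fun _ => ℕ) (@Bool.rec (fun _ => ℕ) rb3104 rb3105 (Nat.ble (nat_lit 3105) i)) (@Bool.rec (fun _ => ℕ) rb3106 rb3107 (Nat.ble (nat_lit 3107) i)) (Nat.ble (nat_lit 3106) i)) (@Bool.rec (fun _ => ℕ) (@Bool.rec (fun _ => ℕ) rb3108 rb3109 (Nat.ble (nat_lit 3109) i)) (@Bool.rec (fun _ => ℕ) rb3110 rb3111 (Nat.ble (nat_lit 3111) i)) (Nat.ble (nat_lit 3110) i)) (Nat.ble (nat_lit 3108) i)) (@Bool.rec (fun _ => ℕ) (@Bool.rec (fun _ => ℕ) (@Bool.rec (fun _ => ℕ) rb3112 rb3113 (Nat.ble (nat_lit 3113) i)) (@Bool.rec (fun _ => ℕ) rb3114 rb3115 (Nat.ble (nat_lit 3115) i)) (Nat.ble (nat_lit 3114) i)) (@Bool.rec (fun _ => ℕ) (@Bool.rec (fun _ => ℕ) rb3116 rb3117 (Nat.ble (nat_lit 3117) i)) (@Bool.rec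 (fun _ => ℕ) rb3118 rb3119 (Nat.ble (nat_lit 3119) i)) (Nat.ble (nat_lit 3118) i)) (Nat.ble (nat_lit 3116) i)) (Nat.ble (nat_lit 3112) i)) (@Bool.rec (fun _ => ℕ) (@Bool.rec (fun _ => ℕ) (@Bool.rec (fun _ => ℕ) (@Bool.rec (fun _ => ℕ) rb3120 rb3121 (Nat.ble (nat_lit 3121) i)) (@Bool.rec (fun _ => ℕ) rb3122 rb3123 (Nat.ble (nat_lit 3123) i)) (Nat.ble (nat_lit 3122) i)) (@Bool.rec (fun _ => ℕ) (@Bool.rec (fun _ => ℕ) rb3124 rb3125 (Nat.ble (nat_lit 3125) i)) (@Bool.rec (fun _ => ℕ) rb3126 rb3127 (Nat.ble (nat_lit 3127) i)) (Nat.ble (nat_lit 3126) i)) (Nat.ble (nat_lit 3124) i)) (@Bool.rec (fun _ => ℕ) (@Bool.rec (fun _ => ℕ) (@Bool.rec (fun _ => ℕ) rb3128 rb3129 (Nat.ble (nat_lit 3129) i)) (@Bool.rec (fun _ => ℕ) rb3130 rb3131 (Nat.ble (nat_lit 3131) i)) (Nat.ble (nat_lit 3130) i)) (@Bool.rec (fun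 _ => ℕ) (@Bool.rec (fun _ => ℕ) rb3132 rb3133 (Nat.ble (nat_lit 3133) i)) (@Bool.rec (fun _ => ℕ) rb3134 rb3135 (Nat.ble (nat_lit 3135) i)) (Nat.ble (nat_lit 3134) i)) (Nat.ble (nat_lit 3132) i)) (Nat.ble (nat_lit 3128) i)) (Nat.ble (nat_lit 3120) i))

def rowBlk_n0_98 (i : ℕ) : ℕ := (@Bool.rec (fun _ => ℕ) (@Bool.rec (fun _ => ℕ) (@Bool.rec (fun _ => ℕ) (@Bool.rec (fun _ => ℕ) (@Bool.rec (fun _ => ℕ) rb3136 rb3137 (Nat.ble (nat_lit 3137) i)) (@Bool.rec (fun _ => ℕ) rb3138 rb3139 (Nat.ble (nat_lit 3139) i)) (Nat.ble (nat_lit 3138) i)) (@Bool.rec (fun _ => ℕ) (@Bool.rec (fun _ => ℕ) rb3140 rb3141 (Nat.ble (nat_lit 3141) i)) (@Bool.rec (fun _ => ℕ) rb3142 rb3143 (Nat.ble (nat_lit 3143) i)) (Nat.ble (nat_lit 3142) i)) (Nat.ble (nat_lit 3140) i)) (@Bool.rec (fun _ => ℕ) (@Bool.rec (fun _ => ℕ) (@Bool.rec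 (fun _ => ℕ) rb3144 rb3145 (Nat.ble (nat_lit 3145) i)) (@Bool.rec (fun _ => ℕ) rb3146 rb3147 (Nat.ble (nat_lit 3147) i)) (Nat.ble (nat_lit 3146) i)) (@Bool.rec (fun _ => ℕ) (@Bool.rec (fun _ => ℕ) rb3148 rb3149 (Nat.ble (nat_lit 3149) i)) (@Bool.rec (fun _ => ℕ) rb3150 rb3151 (Nat.ble (nat_lit 3151) i)) (Nat.ble (nat_lit 3150) i)) (Nat.ble (nat_lit 3148) i)) (Nat.ble (nat_lit 3144) i)) (@Bool.rec (fun _ => ℕ) (@Bool.rec (fun _ => ℕ) (@Bool.rec (fun _ => ℕ) (@Bool.rec (fun _ => ℕ) rb3152 rb3153 (Nat.ble (nat_lit 3153) i)) (@Bool.rec (fun _ => ℕ) rb3154 rb3155 (Nat.ble (nat_lit 3155) i)) (Nat.ble (nat_lit 3154) i)) (@Bool.rec (fun _ => ℕ) (@Bool.rec (fun _ => ℕ) rb3156 rb3157 (Nat.ble (nat_lit 3157) i)) (@Bool.rec (fun _ => ℕ) rb3158 rb3159 (Nat.ble (nat_lit 3159) i)) (Nat.ble (nat_lit 3158) i)) (Nat.ble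 (nat_lit 3156) i)) (@Bool.rec (fun _ => ℕ) (@Bool.rec (fun _ => ℕ) (@Bool.rec (fun _ => ℕ) rb3160 rb3161 (Nat.ble (nat_lit 3161) i)) (@Bool.rec (fun _ => ℕ) rb3162 rb3163 (Nat.ble (nat_lit 3163) i)) (Nat.ble (nat_lit 3162) i)) (@Bool.rec (fun _ => ℕ) (@Bool.rec (fun _ => ℕ) rb3164 rb3165 (Nat.ble (nat_lit 3165) i)) (@Bool.rec (fun _ => ℕ) rb3166 rb3167 (Nat.ble (nat_lit 3167) i)) (Nat.ble (nat_lit 3166) i)) (Nat.ble (nat_lit 3164) i)) (Nat.ble (nat_lit 3160) i)) (Nat.ble (nat_lit 3152) i))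

def rowBlk_n0_99 (i : ℕ) : ℕ := (@Bool.rec (fun _ => ℕ) (@Bool.rec (fun _ => ℕ) (@Bool.rec (fun _ => ℕ) (@Bool.rec (fun _ => ℕ) (@Bool.rec (fun _ => ℕ) rb3168 rb3169 (Nat.ble (nat_lit 3169) i)) (@Bool.rec (fun _ => ℕ) rb3170 rb3171 (Nat.ble (nat_lit 3171) i)) (Nat.ble (nat_lit 3170) i)) (@Bool.rec (fun _ => ℕ) (@Bool.rec (fun _ => ℕ) rb3172 rb3173 (Nat.ble (nat_lit 3173) i)) (@Bool.rec (fun _ => ℕ) rb3174 rb3175 (Nat.ble (nat_lit 3175) i)) (Nat.ble (nat_lit 3174) i)) (Nat.ble (nat_lit 3172) i)) (@Bool.rec (fun _ => ℕ) (@Bool.rec (fun _ => ℕ) (@Bool.rec (fun _ => ℕ) rb3176 rb3177 (Nat.ble (nat_lit 3177) i)) (@Bool.rec (fun _ => ℕ) rb3178 rb3179 (Nat.ble (nat_lit 3179) i)) (Nat.ble (nat_lit 3178) i)) (@Bool.rec (fun _ => ℕ) (@Bool.rec (fun _ => ℕ) rb3180 rb3181 (Nat.ble (nat_lit 3181) i)) (@Bool.rec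 (fun _ => ℕ) rb3182 rb3183 (Nat.ble (nat_lit 3183) i)) (Nat.ble (nat_lit 3182) i)) (Nat.ble (nat_lit 3180) i)) (Nat.ble (nat_lit 3176) i)) (@Bool.rec (fun _ => ℕ) (@Bool.rec (fun _ => ℕ) (@Bool.rec (fun _ => ℕ) (@Bool.rec (fun _ => ℕ) rb3184 rb3185 (Nat.ble (nat_lit 3185) i)) (@Bool.rec (fun _ => ℕ) rb3186 rb3187 (Nat.ble (nat_lit 3187) i)) (Nat.ble (nat_lit 3186) i)) (@Bool.rec (fun _ => ℕ) (@Bool.rec (fun _ => ℕ) rb3188 rb3189 (Nat.ble (nat_lit 3189) i)) (@Bool.rec (fun _ => ℕ) rb3190 rb3191 (Nat.ble (nat_lit 3191) i)) (Nat.ble (nat_lit 3190) i)) (Nat.ble (nat_lit 3188) i)) (@Bool.rec (fun _ => ℕ) (@Bool.rec (fun _ => ℕ) (@Bool.rec (fun _ => ℕ) rb3192 rb3193 (Nat.ble (nat_lit 3193) i)) (@Bool.rec (fun _ => ℕ) rb3194 rb3195 (Nat.ble (nat_lit 3195) i)) (Nat.ble (nat_lit 3194) i)) (@Bool.rec (fun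 _ => ℕ) (@Bool.rec (fun _ => ℕ) rb3196 rb3197 (Nat.ble (nat_lit 3197) i)) (@Bool.rec (fun _ => ℕ) rb3198 rb3199 (Nat.ble (nat_lit 3199) i)) (Nat.ble (nat_lit 3198) i)) (Nat.ble (nat_lit 3196) i)) (Nat.ble (nat_lit 3192) i)) (Nat.ble (nat_lit 3184) i))

def rowBlk_n0_100 (i : ℕ) : ℕ := (@Bool.rec (fun _ => ℕ) (@Bool.rec (fun _ => ℕ) (@Bool.rec (fun _ => ℕ) (@Bool.rec (fun _ => ℕ) (@Bool.rec (fun _ => ℕ) rb3200 rb3201 (Nat.ble (nat_lit 3201) i)) (@Bool.rec (fun _ => ℕ) rb3202 rb3203 (Nat.ble (nat_lit 3203) i)) (Nat.ble (nat_lit 3202) i)) (@Bool.rec (fun _ => ℕ) (@Bool.rec (fun _ => ℕ) rb3204 rb3205 (Nat.ble (nat_lit 3205) i)) (@Bool.rec (fun _ => ℕ) rb3206 rb3207 (Nat.ble (nat_lit 3207) i)) (Nat.ble (nat_lit 3206) i)) (Nat.ble (nat_lit 3204) i)) (@Bool.rec (fun _ => ℕ) (@Bool.rec (fun _ => ℕ) (@Bool.rec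 (fun _ => ℕ) rb3208 rb3209 (Nat.ble (nat_lit 3209) i)) (@Bool.rec (fun _ => ℕ) rb3210 rb3211 (Nat.ble (nat_lit 3211) i)) (Nat.ble (nat_lit 3210) i)) (@Bool.rec (fun _ => ℕ) (@Bool.rec (fun _ => ℕ) rb3212 rb3213 (Nat.ble (nat_lit 3213) i)) (@Bool.rec (fun _ => ℕ) rb3214 rb3215 (Nat.ble (nat_lit 3215) i)) (Nat.ble (nat_lit 3214) i)) (Nat.ble (nat_lit 3212) i)) (Nat.ble (nat_lit 3208) i)) (@Bool.rec (fun _ => ℕ) (@Bool.rec (fun _ => ℕ) (@Bool.rec (fun _ => ℕ) (@Bool.rec (fun _ => ℕ) rb3216 rb3217 (Nat.ble (nat_lit 3217) i)) (@Bool.rec (fun _ => ℕ) rb3218 rb3219 (Nat.ble (nat_lit 3219) i)) (Nat.ble (nat_lit 3218) i)) (@Bool.rec (fun _ => ℕ) (@Bool.rec (fun _ => ℕ) rb3220 rb3221 (Nat.ble (nat_lit 3221) i)) (@Bool.rec (fun _ => ℕ) rb3222 rb3223 (Nat.ble (nat_lit 3223) i)) (Nat.ble (nat_lit 3222) i)) (Nat.ble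 (nat_lit 3220) i)) (@Bool.rec (fun _ => ℕ) (@Bool.rec (fun _ => ℕ) (@Bool.rec (fun _ => ℕ) rb3224 rb3225 (Nat.ble (nat_lit 3225) i)) (@Bool.rec (fun _ => ℕ) rb3226 rb3227 (Nat.ble (nat_lit 3227) i)) (Nat.ble (nat_lit 3226) i)) (@Bool.rec (fun _ => ℕ) (@Bool.rec (fun _ => ℕ) rb3228 rb3229 (Nat.ble (nat_lit 3229) i)) (@Bool.rec (fun _ => ℕ) rb3230 rb3231 (Nat.ble (nat_lit 3231) i)) (Nat.ble (nat_lit 3230) i)) (Nat.ble (nat_lit 3228) i)) (Nat.ble (nat_lit 3224) i)) (Nat.ble (nat_lit 3216) i))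

def rowBlk_n0_101 (i : ℕ) : ℕ := (@Bool.rec (fun _ => ℕ) (@Bool.rec (fun _ => ℕ) (@Bool.rec (fun _ => ℕ) (@Bool.rec (fun _ => ℕ) (@Bool.rec (fun _ => ℕ) rb3232 rb3233 (Nat.ble (nat_lit 3233) i)) (@Bool.rec (fun _ => ℕ) rb3234 rb3235 (Nat.ble (nat_lit 3235) i)) (Nat.ble (nat_lit 3234) i)) (@Bool.rec (fun _ => ℕ) (@Bool.rec (fun _ => ℕ) rb3236 rb3237 (Nat.ble (nat_lit 3237) i)) (@Bool.rec (fun _ => ℕ) rb3238 rb3239 (Nat.ble (nat_lit 3239) i)) (Nat.ble (nat_lit 3238) i)) (Nat.ble (nat_lit 3236) i)) (@Bool.rec (fun _ => ℕ) (@Bool.rec (fun _ => ℕ) (@Bool.rec (fun _ => ℕ) rb3240 rb3241 (Nat.ble (nat_lit 3241) i)) (@Bool.rec (fun _ => ℕ) rb3242 rb3243 (Nat.ble (nat_lit 3243) i)) (Nat.ble (nat_lit 3242) i)) (@Bool.rec (fun _ => ℕ) (@Bool.rec (fun _ => ℕ) rb3244 rb3245 (Nat.ble (nat_lit 3245) i)) (@Bool.rec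 (fun _ => ℕ) rb3246 rb3247 (Nat.ble (nat_lit 3247) i)) (Nat.ble (nat_lit 3246) i)) (Nat.ble (nat_lit 3244) i)) (Nat.ble (nat_lit 3240) i)) (@Bool.rec (fun _ => ℕ) (@Bool.rec (fun _ => ℕ) (@Bool.rec (fun _ => ℕ) (@Bool.rec (fun _ => ℕ) rb3248 rb3249 (Nat.ble (nat_lit 3249) i)) (@Bool.rec (fun _ => ℕ) rb3250 rb3251 (Nat.ble (nat_lit 3251) i)) (Nat.ble (nat_lit 3250) i)) (@Bool.rec (fun _ => ℕ) (@Bool.rec (fun _ => ℕ) rb3252 rb3253 (Nat.ble (nat_lit 3253) i)) (@Bool.rec (fun _ => ℕ) rb3254 rb3255 (Nat.ble (nat_lit 3255) i)) (Nat.ble (nat_lit 3254) i)) (Nat.ble (nat_lit 3252) i)) (@Bool.rec (fun _ => ℕ) (@Bool.rec (fun _ => ℕ) (@Bool.rec (fun _ => ℕ) rb3256 rb3257 (Nat.ble (nat_lit 3257) i)) (@Bool.rec (fun _ => ℕ) rb3258 rb3259 (Nat.ble (nat_lit 3259) i)) (Nat.ble (nat_lit 3258) i)) (@Bool.rec (fun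 _ => ℕ) (@Bool.rec (fun _ => ℕ) rb3260 rb3261 (Nat.ble (nat_lit 3261) i)) (@Bool.rec (fun _ => ℕ) rb3262 rb3263 (Nat.ble (nat_lit 3263) i)) (Nat.ble (nat_lit 3262) i)) (Nat.ble (nat_lit 3260) i)) (Nat.ble (nat_lit 3256) i)) (Nat.ble (nat_lit 3248) i))

def rowBlk_n0_102 (i : ℕ) : ℕ := (@Bool.rec (fun _ => ℕ) (@Bool.rec (fun _ => ℕ) (@Bool.rec (fun _ => ℕ) (@Bool.rec (fun _ => ℕ) (@Bool.rec (fun _ => ℕ) rb3264 rb3265 (Nat.ble (nat_lit 3265) i)) (@Bool.rec (fun _ => ℕ) rb3266 rb3267 (Nat.ble (nat_lit 3267) i)) (Nat.ble (nat_lit 3266) i)) (@Bool.rec (fun _ => ℕ) (@Bool.rec (fun _ => ℕ) rb3268 rb3269 (Nat.ble (nat_lit 3269) i)) (@Bool.rec (fun _ => ℕ) rb3270 rb3271 (Nat.ble (nat_lit 3271) i)) (Nat.ble (nat_lit 3270) i)) (Nat.ble (nat_lit 3268) i)) (@Bool.rec (fun _ => ℕ) (@Bool.rec (fun _ => ℕ) (@Bool.rec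 (fun _ => ℕ) rb3272 rb3273 (Nat.ble (nat_lit 3273) i)) (@Bool.rec (fun _ => ℕ) rb3274 rb3275 (Nat.ble (nat_lit 3275) i)) (Nat.ble (nat_lit 3274) i)) (@Bool.rec (fun _ => ℕ) (@Bool.rec (fun _ => ℕ) rb3276 rb3277 (Nat.ble (nat_lit 3277) i)) (@Bool.rec (fun _ => ℕ) rb3278 rb3279 (Nat.ble (nat_lit 3279) i)) (Nat.ble (nat_lit 3278) i)) (Nat.ble (nat_lit 3276) i)) (Nat.ble (nat_lit 3272) i)) (@Bool.rec (fun _ => ℕ) (@Bool.rec (fun _ => ℕ) (@Bool.rec (fun _ => ℕ) (@Bool.rec (fun _ => ℕ) rb3280 rb3281 (Nat.ble (nat_lit 3281) i)) (@Bool.rec (fun _ => ℕ) rb3282 rb3283 (Nat.ble (nat_lit 3283) i)) (Nat.ble (nat_lit 3282) i)) (@Bool.rec (fun _ => ℕ) (@Bool.rec (fun _ => ℕ) rb3284 rb3285 (Nat.ble (nat_lit 3285) i)) (@Bool.rec (fun _ => ℕ) rb3286 rb3287 (Nat.ble (nat_lit 3287) i)) (Nat.ble (nat_lit 3286) i)) (Nat.ble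 (nat_lit 3284) i)) (@Bool.rec (fun _ => ℕ) (@Bool.rec (fun _ => ℕ) (@Bool.rec (fun _ => ℕ) rb3288 rb3289 (Nat.ble (nat_lit 3289) i)) (@Bool.rec (fun _ => ℕ) rb3290 rb3291 (Nat.ble (nat_lit 3291) i)) (Nat.ble (nat_lit 3290) i)) (@Bool.rec (fun _ => ℕ) (@Bool.rec (fun _ => ℕ) rb3292 rb3293 (Nat.ble (nat_lit 3293) i)) (@Bool.rec (fun _ => ℕ) rb3294 rb3295 (Nat.ble (nat_lit 3295) i)) (Nat.ble (nat_lit 3294) i)) (Nat.ble (nat_lit 3292) i)) (Nat.ble (nat_lit 3288) i)) (Nat.ble (nat_lit 3280) i))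

def rowBlk_n0_103 (i : ℕ) : ℕ := (@Bool.rec (fun _ => ℕ) (@Bool.rec (fun _ => ℕ) (@Bool.rec (fun _ => ℕ) (@Bool.rec (fun _ => ℕ) (@Bool.rec (fun _ => ℕ) rb3296 rb3297 (Nat.ble (nat_lit 3297) i)) (@Bool.rec (fun _ => ℕ) rb3298 rb3299 (Nat.ble (nat_lit 3299) i)) (Nat.ble (nat_lit 3298) i)) (@Bool.rec (fun _ => ℕ) (@Bool.rec (fun _ => ℕ) rb3300 rb3301 (Nat.ble (nat_lit 3301) i)) (@Bool.rec (fun _ => ℕ) rb3302 rb3303 (Nat.ble (nat_lit 3303) i)) (Nat.ble (nat_lit 3302) i)) (Nat.ble (nat_lit 3300) i)) (@Bool.rec (fun _ => ℕ) (@Bool.rec (fun _ => ℕ) (@Bool.rec (fun _ => ℕ) rb3304 rb3305 (Nat.ble (nat_lit 3305) i)) (@Bool.rec (fun _ => ℕ) rb3306 rb3307 (Nat.ble (nat_lit 3307) i)) (Nat.ble (nat_lit 3306) i)) (@Bool.rec (fun _ => ℕ) (@Bool.rec (fun _ => ℕ) rb3308 rb3309 (Nat.ble (nat_lit 3309) i)) (@Bool.rec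 (fun _ => ℕ) rb3310 rb3311 (Nat.ble (nat_lit 3311) i)) (Nat.ble (nat_lit 3310) i)) (Nat.ble (nat_lit 3308) i)) (Nat.ble (nat_lit 3304) i)) (@Bool.rec (fun _ => ℕ) (@Bool.rec (fun _ => ℕ) (@Bool.rec (fun _ => ℕ) (@Bool.rec (fun _ => ℕ) rb3312 rb3313 (Nat.ble (nat_lit 3313) i)) (@Bool.rec (fun _ => ℕ) rb3314 rb3315 (Nat.ble (nat_lit 3315) i)) (Nat.ble (nat_lit 3314) i)) (@Bool.rec (fun _ => ℕ) (@Bool.rec (fun _ => ℕ) rb3316 rb3317 (Nat.ble (nat_lit 3317) i)) (@Bool.rec (fun _ => ℕ) rb3318 rb3319 (Nat.ble (nat_lit 3319) i)) (Nat.ble (nat_lit 3318) i)) (Nat.ble (nat_lit 3316) i)) (@Bool.rec (fun _ => ℕ) (@Bool.rec (fun _ => ℕ) (@Bool.rec (fun _ => ℕ) rb3320 rb3321 (Nat.ble (nat_lit 3321) i)) (@Bool.rec (fun _ => ℕ) rb3322 rb3323 (Nat.ble (nat_lit 3323) i)) (Nat.ble (nat_lit 3322) i)) (@Bool.rec (fun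 _ => ℕ) (@Bool.rec (fun _ => ℕ) rb3324 rb3325 (Nat.ble (nat_lit 3325) i)) (@Bool.rec (fun _ => ℕ) rb3326 rb3327 (Nat.ble (nat_lit 3327) i)) (Nat.ble (nat_lit 3326) i)) (Nat.ble (nat_lit 3324) i)) (Nat.ble (nat_lit 3320) i)) (Nat.ble (nat_lit 3312) i))

def rowBlk_n0_104 (i : ℕ) : ℕ := (@Bool.rec (fun _ => ℕ) (@Bool.rec (fun _ => ℕ) (@Bool.rec (fun _ => ℕ) (@Bool.rec (fun _ => ℕ) (@Bool.rec (fun _ => ℕ) rb3328 rb3329 (Nat.ble (nat_lit 3329) i)) (@Bool.rec (fun _ => ℕ) rb3330 rb3331 (Nat.ble (nat_lit 3331) i)) (Nat.ble (nat_lit 3330) i)) (@Bool.rec (fun _ => ℕ) (@Bool.rec (fun _ => ℕ) rb3332 rb3333 (Nat.ble (nat_lit 3333) i)) (@Bool.rec (fun _ => ℕ) rb3334 rb3335 (Nat.ble (nat_lit 3335) i)) (Nat.ble (nat_lit 3334) i)) (Nat.ble (nat_lit 3332) i)) (@Bool.rec (fun _ => ℕ) (@Bool.rec (fun _ => ℕ) (@Bool.rec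 (fun _ => ℕ) rb3336 rb3337 (Nat.ble (nat_lit 3337) i)) (@Bool.rec (fun _ => ℕ) rb3338 rb3339 (Nat.ble (nat_lit 3339) i)) (Nat.ble (nat_lit 3338) i)) (@Bool.rec (fun _ => ℕ) (@Bool.rec (fun _ => ℕ) rb3340 rb3341 (Nat.ble (nat_lit 3341) i)) (@Bool.rec (fun _ => ℕ) rb3342 rb3343 (Nat.ble (nat_lit 3343) i)) (Nat.ble (nat_lit 3342) i)) (Nat.ble (nat_lit 3340) i)) (Nat.ble (nat_lit 3336) i)) (@Bool.rec (fun _ => ℕ) (@Bool.rec (fun _ => ℕ) (@Bool.rec (fun _ => ℕ) (@Bool.rec (fun _ => ℕ) rb3344 rb3345 (Nat.ble (nat_lit 3345) i)) (@Bool.rec (fun _ => ℕ) rb3346 rb3347 (Nat.ble (nat_lit 3347) i)) (Nat.ble (nat_lit 3346) i)) (@Bool.rec (fun _ => ℕ) (@Bool.rec (fun _ => ℕ) rb3348 rb3349 (Nat.ble (nat_lit 3349) i)) (@Bool.rec (fun _ => ℕ) rb3350 rb3351 (Nat.ble (nat_lit 3351) i)) (Nat.ble (nat_lit 3350) i)) (Nat.ble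 (nat_lit 3348) i)) (@Bool.rec (fun _ => ℕ) (@Bool.rec (fun _ => ℕ) (@Bool.rec (fun _ => ℕ) rb3352 rb3353 (Nat.ble (nat_lit 3353) i)) (@Bool.rec (fun _ => ℕ) rb3354 rb3355 (Nat.ble (nat_lit 3355) i)) (Nat.ble (nat_lit 3354) i)) (@Bool.rec (fun _ => ℕ) (@Bool.rec (fun _ => ℕ) rb3356 rb3357 (Nat.ble (nat_lit 3357) i)) (@Bool.rec (fun _ => ℕ) rb3358 rb3359 (Nat.ble (nat_lit 3359) i)) (Nat.ble (nat_lit 3358) i)) (Nat.ble (nat_lit 3356) i)) (Nat.ble (nat_lit 3352) i)) (Nat.ble (nat_lit 3344) i))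

def rowBlk_n0_105 (i : ℕ) : ℕ := (@Bool.rec (fun _ => ℕ) (@Bool.rec (fun _ => ℕ) (@Bool.rec (fun _ => ℕ) (@Bool.rec (fun _ => ℕ) (@Bool.rec (fun _ => ℕ) rb3360 rb3361 (Nat.ble (nat_lit 3361) i)) (@Bool.rec (fun _ => ℕ) rb3362 rb3363 (Nat.ble (nat_lit 3363) i)) (Nat.ble (nat_lit 3362) i)) (@Bool.rec (fun _ => ℕ) (@Bool.rec (fun _ => ℕ) rb3364 rb3365 (Nat.ble (nat_lit 3365) i)) (@Bool.rec (fun _ => ℕ) rb3366 rb3367 (Nat.ble (nat_lit 3367) i)) (Nat.ble (nat_lit 3366) i)) (Nat.ble (nat_lit 3364) i)) (@Bool.rec (fun _ => ℕ) (@Bool.rec (fun _ => ℕ) (@Bool.rec (fun _ => ℕ) rb3368 rb3369 (Nat.ble (nat_lit 3369) i)) (@Bool.rec (fun _ => ℕ) rb3370 rb3371 (Nat.ble (nat_lit 3371) i)) (Nat.ble (nat_lit 3370) i)) (@Bool.rec (fun _ => ℕ) (@Bool.rec (fun _ => ℕ) rb3372 rb3373 (Nat.ble (nat_lit 3373) i)) (@Bool.rec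 (fun _ => ℕ) rb3374 rb3375 (Nat.ble (nat_lit 3375) i)) (Nat.ble (nat_lit 3374) i)) (Nat.ble (nat_lit 3372) i)) (Nat.ble (nat_lit 3368) i)) (@Bool.rec (fun _ => ℕ) (@Bool.rec (fun _ => ℕ) (@Bool.rec (fun _ => ℕ) (@Bool.rec (fun _ => ℕ) rb3376 rb3377 (Nat.ble (nat_lit 3377) i)) (@Bool.rec (fun _ => ℕ) rb3378 rb3379 (Nat.ble (nat_lit 3379) i)) (Nat.ble (nat_lit 3378) i)) (@Bool.rec (fun _ => ℕ) (@Bool.rec (fun _ => ℕ) rb3380 rb3381 (Nat.ble (nat_lit 3381) i)) (@Bool.rec (fun _ => ℕ) rb3382 rb3383 (Nat.ble (nat_lit 3383) i)) (Nat.ble (nat_lit 3382) i)) (Nat.ble (nat_lit 3380) i)) (@Bool.rec (fun _ => ℕ) (@Bool.rec (fun _ => ℕ) (@Bool.rec (fun _ => ℕ) rb3384 rb3385 (Nat.ble (nat_lit 3385) i)) (@Bool.rec (fun _ => ℕ) rb3386 rb3387 (Nat.ble (nat_lit 3387) i)) (Nat.ble (nat_lit 3386) i)) (@Bool.rec (fun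 _ => ℕ) (@Bool.rec (fun _ => ℕ) rb3388 rb3389 (Nat.ble (nat_lit 3389) i)) (@Bool.rec (fun _ => ℕ) rb3390 rb3391 (Nat.ble (nat_lit 3391) i)) (Nat.ble (nat_lit 3390) i)) (Nat.ble (nat_lit 3388) i)) (Nat.ble (nat_lit 3384) i)) (Nat.ble (nat_lit 3376) i))

def rowBlk_n0_106 (i : ℕ) : ℕ := (@Bool.rec (fun _ => ℕ) (@Bool.rec (fun _ => ℕ) (@Bool.rec (fun _ => ℕ) (@Bool.rec (fun _ => ℕ) (@Bool.rec (fun _ => ℕ) rb3392 rb3393 (Nat.ble (nat_lit 3393) i)) (@Bool.rec (fun _ => ℕ) rb3394 rb3395 (Nat.ble (nat_lit 3395) i)) (Nat.ble (nat_lit 3394) i)) (@Bool.rec (fun _ => ℕ) (@Bool.rec (fun _ => ℕ) rb3396 rb3397 (Nat.ble (nat_lit 3397) i)) (@Bool.rec (fun _ => ℕ) rb3398 rb3399 (Nat.ble (nat_lit 3399) i)) (Nat.ble (nat_lit 3398) i)) (Nat.ble (nat_lit 3396) i)) (@Bool.rec (fun _ => ℕ) (@Bool.rec (fun _ => ℕ) (@Bool.rec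 (fun _ => ℕ) rb3400 rb3401 (Nat.ble (nat_lit 3401) i)) (@Bool.rec (fun _ => ℕ) rb3402 rb3403 (Nat.ble (nat_lit 3403) i)) (Nat.ble (nat_lit 3402) i)) (@Bool.rec (fun _ => ℕ) (@Bool.rec (fun _ => ℕ) rb3404 rb3405 (Nat.ble (nat_lit 3405) i)) (@Bool.rec (fun _ => ℕ) rb3406 rb3407 (Nat.ble (nat_lit 3407) i)) (Nat.ble (nat_lit 3406) i)) (Nat.ble (nat_lit 3404) i)) (Nat.ble (nat_lit 3400) i)) (@Bool.rec (fun _ => ℕ) (@Bool.rec (fun _ => ℕ) (@Bool.rec (fun _ => ℕ) (@Bool.rec (fun _ => ℕ) rb3408 rb3409 (Nat.ble (nat_lit 3409) i)) (@Bool.rec (fun _ => ℕ) rb3410 rb3411 (Nat.ble (nat_lit 3411) i)) (Nat.ble (nat_lit 3410) i)) (@Bool.rec (fun _ => ℕ) (@Bool.rec (fun _ => ℕ) rb3412 rb3413 (Nat.ble (nat_lit 3413) i)) (@Bool.rec (fun _ => ℕ) rb3414 rb3415 (Nat.ble (nat_lit 3415) i)) (Nat.ble (nat_lit 3414) i)) (Nat.ble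 (nat_lit 3412) i)) (@Bool.rec (fun _ => ℕ) (@Bool.rec (fun _ => ℕ) (@Bool.rec (fun _ => ℕ) rb3416 rb3417 (Nat.ble (nat_lit 3417) i)) (@Bool.rec (fun _ => ℕ) rb3418 rb3419 (Nat.ble (nat_lit 3419) i)) (Nat.ble (nat_lit 3418) i)) (@Bool.rec (fun _ => ℕ) (@Bool.rec (fun _ => ℕ) rb3420 rb3421 (Nat.ble (nat_lit 3421) i)) (@Bool.rec (fun _ => ℕ) rb3422 rb3423 (Nat.ble (nat_lit 3423) i)) (Nat.ble (nat_lit 3422) i)) (Nat.ble (nat_lit 3420) i)) (Nat.ble (nat_lit 3416) i)) (Nat.ble (nat_lit 3408) i))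

def rowBlk_n0_107 (i : ℕ) : ℕ := (@Bool.rec (fun _ => ℕ) (@Bool.rec (fun _ => ℕ) (@Bool.rec (fun _ => ℕ) (@Bool.rec (fun _ => ℕ) (@Bool.rec (fun _ => ℕ) rb3424 rb3425 (Nat.ble (nat_lit 3425) i)) (@Bool.rec (fun _ => ℕ) rb3426 rb3427 (Nat.ble (nat_lit 3427) i)) (Nat.ble (nat_lit 3426) i)) (@Bool.rec (fun _ => ℕ) (@Bool.rec (fun _ => ℕ) rb3428 rb3429 (Nat.ble (nat_lit 3429) i)) (@Bool.rec (fun _ => ℕ) rb3430 rb3431 (Nat.ble (nat_lit 3431) i)) (Nat.ble (nat_lit 3430) i)) (Nat.ble (nat_lit 3428) i)) (@Bool.rec (fun _ => ℕ) (@Bool.rec (fun _ => ℕ) (@Bool.rec (fun _ => ℕ) rb3432 rb3433 (Nat.ble (nat_lit 3433) i)) (@Bool.rec (fun _ => ℕ) rb3434 rb3435 (Nat.ble (nat_lit 3435) i)) (Nat.ble (nat_lit 3434) i)) (@Bool.rec (fun _ => ℕ) (@Bool.rec (fun _ => ℕ) rb3436 rb3437 (Nat.ble (nat_lit 3437) i)) (@Bool.rec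 (fun _ => ℕ) rb3438 rb3439 (Nat.ble (nat_lit 3439) i)) (Nat.ble (nat_lit 3438) i)) (Nat.ble (nat_lit 3436) i)) (Nat.ble (nat_lit 3432) i)) (@Bool.rec (fun _ => ℕ) (@Bool.rec (fun _ => ℕ) (@Bool.rec (fun _ => ℕ) (@Bool.rec (fun _ => ℕ) rb3440 rb3441 (Nat.ble (nat_lit 3441) i)) (@Bool.rec (fun _ => ℕ) rb3442 rb3443 (Nat.ble (nat_lit 3443) i)) (Nat.ble (nat_lit 3442) i)) (@Bool.rec (fun _ => ℕ) (@Bool.rec (fun _ => ℕ) rb3444 rb3445 (Nat.ble (nat_lit 3445) i)) (@Bool.rec (fun _ => ℕ) rb3446 rb3447 (Nat.ble (nat_lit 3447) i)) (Nat.ble (nat_lit 3446) i)) (Nat.ble (nat_lit 3444) i)) (@Bool.rec (fun _ => ℕ) (@Bool.rec (fun _ => ℕ) (@Bool.rec (fun _ => ℕ) rb3448 rb3449 (Nat.ble (nat_lit 3449) i)) (@Bool.rec (fun _ => ℕ) rb3450 rb3451 (Nat.ble (nat_lit 3451) i)) (Nat.ble (nat_lit 3450) i)) (@Bool.rec (fun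 _ => ℕ) (@Bool.rec (fun _ => ℕ) rb3452 rb3453 (Nat.ble (nat_lit 3453) i)) (@Bool.rec (fun _ => ℕ) rb3454 rb3455 (Nat.ble (nat_lit 3455) i)) (Nat.ble (nat_lit 3454) i)) (Nat.ble (nat_lit 3452) i)) (Nat.ble (nat_lit 3448) i)) (Nat.ble (nat_lit 3440) i))

def rowBlk_n0_108 (i : ℕ) : ℕ := (@Bool.rec (fun _ => ℕ) (@Bool.rec (fun _ => ℕ) (@Bool.rec (fun _ => ℕ) (@Bool.rec (fun _ => ℕ) (@Bool.rec (fun _ => ℕ) rb3456 rb3457 (Nat.ble (nat_lit 3457) i)) (@Bool.rec (fun _ => ℕ) rb3458 rb3459 (Nat.ble (nat_lit 3459) i)) (Nat.ble (nat_lit 3458) i)) (@Bool.rec (fun _ => ℕ) (@Bool.rec (fun _ => ℕ) rb3460 rb3461 (Nat.ble (nat_lit 3461) i)) (@Bool.rec (fun _ => ℕ) rb3462 rb3463 (Nat.ble (nat_lit 3463) i)) (Nat.ble (nat_lit 3462) i)) (Nat.ble (nat_lit 3460) i)) (@Bool.rec (fun _ => ℕ) (@Bool.rec (fun _ => ℕ) (@Bool.rec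 (fun _ => ℕ) rb3464 rb3465 (Nat.ble (nat_lit 3465) i)) (@Bool.rec (fun _ => ℕ) rb3466 rb3467 (Nat.ble (nat_lit 3467) i)) (Nat.ble (nat_lit 3466) i)) (@Bool.rec (fun _ => ℕ) (@Bool.rec (fun _ => ℕ) rb3468 rb3469 (Nat.ble (nat_lit 3469) i)) (@Bool.rec (fun _ => ℕ) rb3470 rb3471 (Nat.ble (nat_lit 3471) i)) (Nat.ble (nat_lit 3470) i)) (Nat.ble (nat_lit 3468) i)) (Nat.ble (nat_lit 3464) i)) (@Bool.rec (fun _ => ℕ) (@Bool.rec (fun _ => ℕ) (@Bool.rec (fun _ => ℕ) (@Bool.rec (fun _ => ℕ) rb3472 rb3473 (Nat.ble (nat_lit 3473) i)) (@Bool.rec (fun _ => ℕ) rb3474 rb3475 (Nat.ble (nat_lit 3475) i)) (Nat.ble (nat_lit 3474) i)) (@Bool.rec (fun _ => ℕ) (@Bool.rec (fun _ => ℕ) rb3476 rb3477 (Nat.ble (nat_lit 3477) i)) (@Bool.rec (fun _ => ℕ) rb3478 rb3479 (Nat.ble (nat_lit 3479) i)) (Nat.ble (nat_lit 3478) i)) (Nat.ble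 (nat_lit 3476) i)) (@Bool.rec (fun _ => ℕ) (@Bool.rec (fun _ => ℕ) (@Bool.rec (fun _ => ℕ) rb3480 rb3481 (Nat.ble (nat_lit 3481) i)) (@Bool.rec (fun _ => ℕ) rb3482 rb3483 (Nat.ble (nat_lit 3483) i)) (Nat.ble (nat_lit 3482) i)) (@Bool.rec (fun _ => ℕ) (@Bool.rec (fun _ => ℕ) rb3484 rb3485 (Nat.ble (nat_lit 3485) i)) (@Bool.rec (fun _ => ℕ) rb3486 rb3487 (Nat.ble (nat_lit 3487) i)) (Nat.ble (nat_lit 3486) i)) (Nat.ble (nat_lit 3484) i)) (Nat.ble (nat_lit 3480) i)) (Nat.ble (nat_lit 3472) i))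

def rowBlk_n0_109 (i : ℕ) : ℕ := (@Bool.rec (fun _ => ℕ) (@Bool.rec (fun _ => ℕ) (@Bool.rec (fun _ => ℕ) (@Bool.rec (fun _ => ℕ) (@Bool.rec (fun _ => ℕ) rb3488 rb3489 (Nat.ble (nat_lit 3489) i)) (@Bool.rec (fun _ => ℕ) rb3490 rb3491 (Nat.ble (nat_lit 3491) i)) (Nat.ble (nat_lit 3490) i)) (@Bool.rec (fun _ => ℕ) (@Bool.rec (fun _ => ℕ) rb3492 rb3493 (Nat.ble (nat_lit 3493) i)) (@Bool.rec (fun _ => ℕ) rb3494 rb3495 (Nat.ble (nat_lit 3495) i)) (Nat.ble (nat_lit 3494) i)) (Nat.ble (nat_lit 3492) i)) (@Bool.rec (fun _ => ℕ) (@Bool.rec (fun _ => ℕ) (@Bool.rec (fun _ => ℕ) rb3496 rb3497 (Nat.ble (nat_lit 3497) i)) (@Bool.rec (fun _ => ℕ) rb3498 rb3499 (Nat.ble (nat_lit 3499) i)) (Nat.ble (nat_lit 3498) i)) (@Bool.rec (fun _ => ℕ) (@Bool.rec (fun _ => ℕ) rb3500 rb3501 (Nat.ble (nat_lit 3501) i)) (@Bool.rec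 (fun _ => ℕ) rb3502 rb3503 (Nat.ble (nat_lit 3503) i)) (Nat.ble (nat_lit 3502) i)) (Nat.ble (nat_lit 3500) i)) (Nat.ble (nat_lit 3496) i)) (@Bool.rec (fun _ => ℕ) (@Bool.rec (fun _ => ℕ) (@Bool.rec (fun _ => ℕ) (@Bool.rec (fun _ => ℕ) rb3504 rb3505 (Nat.ble (nat_lit 3505) i)) (@Bool.rec (fun _ => ℕ) rb3506 rb3507 (Nat.ble (nat_lit 3507) i)) (Nat.ble (nat_lit 3506) i)) (@Bool.rec (fun _ => ℕ) (@Bool.rec (fun _ => ℕ) rb3508 rb3509 (Nat.ble (nat_lit 3509) i)) (@Bool.rec (fun _ => ℕ) rb3510 rb3511 (Nat.ble (nat_lit 3511) i)) (Nat.ble (nat_lit 3510) i)) (Nat.ble (nat_lit 3508) i)) (@Bool.rec (fun _ => ℕ) (@Bool.rec (fun _ => ℕ) (@Bool.rec (fun _ => ℕ) rb3512 rb3513 (Nat.ble (nat_lit 3513) i)) (@Bool.rec (fun _ => ℕ) rb3514 rb3515 (Nat.ble (nat_lit 3515) i)) (Nat.ble (nat_lit 3514) i)) (@Bool.rec (fun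 _ => ℕ) (@Bool.rec (fun _ => ℕ) rb3516 rb3517 (Nat.ble (nat_lit 3517) i)) (@Bool.rec (fun _ => ℕ) rb3518 rb3519 (Nat.ble (nat_lit 3519) i)) (Nat.ble (nat_lit 3518) i)) (Nat.ble (nat_lit 3516) i)) (Nat.ble (nat_lit 3512) i)) (Nat.ble (nat_lit 3504) i))

def rowBlk_n0_110 (i : ℕ) : ℕ := (@Bool.rec (fun _ => ℕ) (@Bool.rec (fun _ => ℕ) (@Bool.rec (fun _ => ℕ) (@Bool.rec (fun _ => ℕ) (@Bool.rec (fun _ => ℕ) rb3520 rb3521 (Nat.ble (nat_lit 3521) i)) (@Bool.rec (fun _ => ℕ) rb3522 rb3523 (Nat.ble (nat_lit 3523) i)) (Nat.ble (nat_lit 3522) i)) (@Bool.rec (fun _ => ℕ) (@Bool.rec (fun _ => ℕ) rb3524 rb3525 (Nat.ble (nat_lit 3525) i)) (@Bool.rec (fun _ => ℕ) rb3526 rb3527 (Nat.ble (nat_lit 3527) i)) (Nat.ble (nat_lit 3526) i)) (Nat.ble (nat_lit 3524) i)) (@Bool.rec (fun _ => ℕ) (@Bool.rec (fun _ => ℕ) (@Bool.rec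 (fun _ => ℕ) rb3528 rb3529 (Nat.ble (nat_lit 3529) i)) (@Bool.rec (fun _ => ℕ) rb3530 rb3531 (Nat.ble (nat_lit 3531) i)) (Nat.ble (nat_lit 3530) i)) (@Bool.rec (fun _ => ℕ) (@Bool.rec (fun _ => ℕ) rb3532 rb3533 (Nat.ble (nat_lit 3533) i)) (@Bool.rec (fun _ => ℕ) rb3534 rb3535 (Nat.ble (nat_lit 3535) i)) (Nat.ble (nat_lit 3534) i)) (Nat.ble (nat_lit 3532) i)) (Nat.ble (nat_lit 3528) i)) (@Bool.rec (fun _ => ℕ) (@Bool.rec (fun _ => ℕ) (@Bool.rec (fun _ => ℕ) (@Bool.rec (fun _ => ℕ) rb3536 rb3537 (Nat.ble (nat_lit 3537) i)) (@Bool.rec (fun _ => ℕ) rb3538 rb3539 (Nat.ble (nat_lit 3539) i)) (Nat.ble (nat_lit 3538) i)) (@Bool.rec (fun _ => ℕ) (@Bool.rec (fun _ => ℕ) rb3540 rb3541 (Nat.ble (nat_lit 3541) i)) (@Bool.rec (fun _ => ℕ) rb3542 rb3543 (Nat.ble (nat_lit 3543) i)) (Nat.ble (nat_lit 3542) i)) (Nat.ble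 (nat_lit 3540) i)) (@Bool.rec (fun _ => ℕ) (@Bool.rec (fun _ => ℕ) (@Bool.rec (fun _ => ℕ) rb3544 rb3545 (Nat.ble (nat_lit 3545) i)) (@Bool.rec (fun _ => ℕ) rb3546 rb3547 (Nat.ble (nat_lit 3547) i)) (Nat.ble (nat_lit 3546) i)) (@Bool.rec (fun _ => ℕ) (@Bool.rec (fun _ => ℕ) rb3548 rb3549 (Nat.ble (nat_lit 3549) i)) (@Bool.rec (fun _ => ℕ) rb3550 rb3551 (Nat.ble (nat_lit 3551) i)) (Nat.ble (nat_lit 3550) i)) (Nat.ble (nat_lit 3548) i)) (Nat.ble (nat_lit 3544) i)) (Nat.ble (nat_lit 3536) i))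

def rowBlk_n0_111 (i : ℕ) : ℕ := (@Bool.rec (fun _ => ℕ) (@Bool.rec (fun _ => ℕ) (@Bool.rec (fun _ => ℕ) (@Bool.rec (fun _ => ℕ) (@Bool.rec (fun _ => ℕ) rb3552 rb3553 (Nat.ble (nat_lit 3553) i)) (@Bool.rec (fun _ => ℕ) rb3554 rb3555 (Nat.ble (nat_lit 3555) i)) (Nat.ble (nat_lit 3554) i)) (@Bool.rec (fun _ => ℕ) (@Bool.rec (fun _ => ℕ) rb3556 rb3557 (Nat.ble (nat_lit 3557) i)) (@Bool.rec (fun _ => ℕ) rb3558 rb3559 (Nat.ble (nat_lit 3559) i)) (Nat.ble (nat_lit 3558) i)) (Nat.ble (nat_lit 3556) i)) (@Bool.rec (fun _ => ℕ) (@Bool.rec (fun _ => ℕ) (@Bool.rec (fun _ => ℕ) rb3560 rb3561 (Nat.ble (nat_lit 3561) i)) (@Bool.rec (fun _ => ℕ) rb3562 rb3563 (Nat.ble (nat_lit 3563) i)) (Nat.ble (nat_lit 3562) i)) (@Bool.rec (fun _ => ℕ) (@Bool.rec (fun _ => ℕ) rb3564 rb3565 (Nat.ble (nat_lit 3565) i)) (@Bool.rec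 (fun _ => ℕ) rb3566 rb3567 (Nat.ble (nat_lit 3567) i)) (Nat.ble (nat_lit 3566) i)) (Nat.ble (nat_lit 3564) i)) (Nat.ble (nat_lit 3560) i)) (@Bool.rec (fun _ => ℕ) (@Bool.rec (fun _ => ℕ) (@Bool.rec (fun _ => ℕ) (@Bool.rec (fun _ => ℕ) rb3568 rb3569 (Nat.ble (nat_lit 3569) i)) (@Bool.rec (fun _ => ℕ) rb3570 rb3571 (Nat.ble (nat_lit 3571) i)) (Nat.ble (nat_lit 3570) i)) (@Bool.rec (fun _ => ℕ) (@Bool.rec (fun _ => ℕ) rb3572 rb3573 (Nat.ble (nat_lit 3573) i)) (@Bool.rec (fun _ => ℕ) rb3574 rb3575 (Nat.ble (nat_lit 3575) i)) (Nat.ble (nat_lit 3574) i)) (Nat.ble (nat_lit 3572) i)) (@Bool.rec (fun _ => ℕ) (@Bool.rec (fun _ => ℕ) (@Bool.rec (fun _ => ℕ) rb3576 rb3577 (Nat.ble (nat_lit 3577) i)) (@Bool.rec (fun _ => ℕ) rb3578 rb3579 (Nat.ble (nat_lit 3579) i)) (Nat.ble (nat_lit 3578) i)) (@Bool.rec (fun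 _ => ℕ) (@Bool.rec (fun _ => ℕ) rb3580 rb3581 (Nat.ble (nat_lit 3581) i)) (@Bool.rec (fun _ => ℕ) rb3582 rb3583 (Nat.ble (nat_lit 3583) i)) (Nat.ble (nat_lit 3582) i)) (Nat.ble (nat_lit 3580) i)) (Nat.ble (nat_lit 3576) i)) (Nat.ble (nat_lit 3568) i))

def rowBlk_n0_112 (i : ℕ) : ℕ := (@Bool.rec (fun _ => ℕ) (@Bool.rec (fun _ => ℕ) (@Bool.rec (fun _ => ℕ) (@Bool.rec (fun _ => ℕ) (@Bool.rec (fun _ => ℕ) rb3584 rb3585 (Nat.ble (nat_lit 3585) i)) (@Bool.rec (fun _ => ℕ) rb3586 rb3587 (Nat.ble (nat_lit 3587) i)) (Nat.ble (nat_lit 3586) i)) (@Bool.rec (fun _ => ℕ) (@Bool.rec (fun _ => ℕ) rb3588 rb3589 (Nat.ble (nat_lit 3589) i)) (@Bool.rec (fun _ => ℕ) rb3590 rb3591 (Nat.ble (nat_lit 3591) i)) (Nat.ble (nat_lit 3590) i)) (Nat.ble (nat_lit 3588) i)) (@Bool.rec (fun _ => ℕ) (@Bool.rec (fun _ => ℕ) (@Bool.rec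 (fun _ => ℕ) rb3592 rb3593 (Nat.ble (nat_lit 3593) i)) (@Bool.rec (fun _ => ℕ) rb3594 rb3595 (Nat.ble (nat_lit 3595) i)) (Nat.ble (nat_lit 3594) i)) (@Bool.rec (fun _ => ℕ) (@Bool.rec (fun _ => ℕ) rb3596 rb3597 (Nat.ble (nat_lit 3597) i)) (@Bool.rec (fun _ => ℕ) rb3598 rb3599 (Nat.ble (nat_lit 3599) i)) (Nat.ble (nat_lit 3598) i)) (Nat.ble (nat_lit 3596) i)) (Nat.ble (nat_lit 3592) i)) (@Bool.rec (fun _ => ℕ) (@Bool.rec (fun _ => ℕ) (@Bool.rec (fun _ => ℕ) (@Bool.rec (fun _ => ℕ) rb3600 rb3601 (Nat.ble (nat_lit 3601) i)) (@Bool.rec (fun _ => ℕ) rb3602 rb3603 (Nat.ble (nat_lit 3603) i)) (Nat.ble (nat_lit 3602) i)) (@Bool.rec (fun _ => ℕ) (@Bool.rec (fun _ => ℕ) rb3604 rb3605 (Nat.ble (nat_lit 3605) i)) (@Bool.rec (fun _ => ℕ) rb3606 rb3607 (Nat.ble (nat_lit 3607) i)) (Nat.ble (nat_lit 3606) i)) (Nat.ble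 (nat_lit 3604) i)) (@Bool.rec (fun _ => ℕ) (@Bool.rec (fun _ => ℕ) (@Bool.rec (fun _ => ℕ) rb3608 rb3609 (Nat.ble (nat_lit 3609) i)) (@Bool.rec (fun _ => ℕ) rb3610 rb3611 (Nat.ble (nat_lit 3611) i)) (Nat.ble (nat_lit 3610) i)) (@Bool.rec (fun _ => ℕ) (@Bool.rec (fun _ => ℕ) rb3612 rb3613 (Nat.ble (nat_lit 3613) i)) (@Bool.rec (fun _ => ℕ) rb3614 rb3615 (Nat.ble (nat_lit 3615) i)) (Nat.ble (nat_lit 3614) i)) (Nat.ble (nat_lit 3612) i)) (Nat.ble (nat_lit 3608) i)) (Nat.ble (nat_lit 3600) i))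

def rowBlk_n0_113 (i : ℕ) : ℕ := (@Bool.rec (fun _ => ℕ) (@Bool.rec (fun _ => ℕ) (@Bool.rec (fun _ => ℕ) (@Bool.rec (fun _ => ℕ) (@Bool.rec (fun _ => ℕ) rb3616 rb3617 (Nat.ble (nat_lit 3617) i)) (@Bool.rec (fun _ => ℕ) rb3618 rb3619 (Nat.ble (nat_lit 3619) i)) (Nat.ble (nat_lit 3618) i)) (@Bool.rec (fun _ => ℕ) (@Bool.rec (fun _ => ℕ) rb3620 rb3621 (Nat.ble (nat_lit 3621) i)) (@Bool.rec (fun _ => ℕ) rb3622 rb3623 (Nat.ble (nat_lit 3623) i)) (Nat.ble (nat_lit 3622) i)) (Nat.ble (nat_lit 3620) i)) (@Bool.rec (fun _ => ℕ) (@Bool.rec (fun _ => ℕ) (@Bool.rec (fun _ => ℕ) rb3624 rb3625 (Nat.ble (nat_lit 3625) i)) (@Bool.rec (fun _ => ℕ) rb3626 rb3627 (Nat.ble (nat_lit 3627) i)) (Nat.ble (nat_lit 3626) i)) (@Bool.rec (fun _ => ℕ) (@Bool.rec (fun _ => ℕ) rb3628 rb3629 (Nat.ble (nat_lit 3629) i)) (@Bool.rec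 (fun _ => ℕ) rb3630 rb3631 (Nat.ble (nat_lit 3631) i)) (Nat.ble (nat_lit 3630) i)) (Nat.ble (nat_lit 3628) i)) (Nat.ble (nat_lit 3624) i)) (@Bool.rec (fun _ => ℕ) (@Bool.rec (fun _ => ℕ) (@Bool.rec (fun _ => ℕ) (@Bool.rec (fun _ => ℕ) rb3632 rb3633 (Nat.ble (nat_lit 3633) i)) (@Bool.rec (fun _ => ℕ) rb3634 rb3635 (Nat.ble (nat_lit 3635) i)) (Nat.ble (nat_lit 3634) i)) (@Bool.rec (fun _ => ℕ) (@Bool.rec (fun _ => ℕ) rb3636 rb3637 (Nat.ble (nat_lit 3637) i)) (@Bool.rec (fun _ => ℕ) rb3638 rb3639 (Nat.ble (nat_lit 3639) i)) (Nat.ble (nat_lit 3638) i)) (Nat.ble (nat_lit 3636) i)) (@Bool.rec (fun _ => ℕ) (@Bool.rec (fun _ => ℕ) (@Bool.rec (fun _ => ℕ) rb3640 rb3641 (Nat.ble (nat_lit 3641) i)) (@Bool.rec (fun _ => ℕ) rb3642 rb3643 (Nat.ble (nat_lit 3643) i)) (Nat.ble (nat_lit 3642) i)) (@Bool.rec (fun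 _ => ℕ) (@Bool.rec (fun _ => ℕ) rb3644 rb3645 (Nat.ble (nat_lit 3645) i)) (@Bool.rec (fun _ => ℕ) rb3646 rb3647 (Nat.ble (nat_lit 3647) i)) (Nat.ble (nat_lit 3646) i)) (Nat.ble (nat_lit 3644) i)) (Nat.ble (nat_lit 3640) i)) (Nat.ble (nat_lit 3632) i))

def rowBlk_n0_114 (i : ℕ) : ℕ := (@Bool.rec (fun _ => ℕ) (@Bool.rec (fun _ => ℕ) (@Bool.rec (fun _ => ℕ) (@Bool.rec (fun _ => ℕ) (@Bool.rec (fun _ => ℕ) rb3648 rb3649 (Nat.ble (nat_lit 3649) i)) (@Bool.rec (fun _ => ℕ) rb3650 rb3651 (Nat.ble (nat_lit 3651) i)) (Nat.ble (nat_lit 3650) i)) (@Bool.rec (fun _ => ℕ) (@Bool.rec (fun _ => ℕ) rb3652 rb3653 (Nat.ble (nat_lit 3653) i)) (@Bool.rec (fun _ => ℕ) rb3654 rb3655 (Nat.ble (nat_lit 3655) i)) (Nat.ble (nat_lit 3654) i)) (Nat.ble (nat_lit 3652) i)) (@Bool.rec (fun _ => ℕ) (@Bool.rec (fun _ => ℕ) (@Bool.rec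 (fun _ => ℕ) rb3656 rb3657 (Nat.ble (nat_lit 3657) i)) (@Bool.rec (fun _ => ℕ) rb3658 rb3659 (Nat.ble (nat_lit 3659) i)) (Nat.ble (nat_lit 3658) i)) (@Bool.rec (fun _ => ℕ) (@Bool.rec (fun _ => ℕ) rb3660 rb3661 (Nat.ble (nat_lit 3661) i)) (@Bool.rec (fun _ => ℕ) rb3662 rb3663 (Nat.ble (nat_lit 3663) i)) (Nat.ble (nat_lit 3662) i)) (Nat.ble (nat_lit 3660) i)) (Nat.ble (nat_lit 3656) i)) (@Bool.rec (fun _ => ℕ) (@Bool.rec (fun _ => ℕ) (@Bool.rec (fun _ => ℕ) (@Bool.rec (fun _ => ℕ) rb3664 rb3665 (Nat.ble (nat_lit 3665) i)) (@Bool.rec (fun _ => ℕ) rb3666 rb3667 (Nat.ble (nat_lit 3667) i)) (Nat.ble (nat_lit 3666) i)) (@Bool.rec (fun _ => ℕ) (@Bool.rec (fun _ => ℕ) rb3668 rb3669 (Nat.ble (nat_lit 3669) i)) (@Bool.rec (fun _ => ℕ) rb3670 rb3671 (Nat.ble (nat_lit 3671) i)) (Nat.ble (nat_lit 3670) i)) (Nat.ble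 (nat_lit 3668) i)) (@Bool.rec (fun _ => ℕ) (@Bool.rec (fun _ => ℕ) (@Bool.rec (fun _ => ℕ) rb3672 rb3673 (Nat.ble (nat_lit 3673) i)) (@Bool.rec (fun _ => ℕ) rb3674 rb3675 (Nat.ble (nat_lit 3675) i)) (Nat.ble (nat_lit 3674) i)) (@Bool.rec (fun _ => ℕ) (@Bool.rec (fun _ => ℕ) rb3676 rb3677 (Nat.ble (nat_lit 3677) i)) (@Bool.rec (fun _ => ℕ) rb3678 rb3679 (Nat.ble (nat_lit 3679) i)) (Nat.ble (nat_lit 3678) i)) (Nat.ble (nat_lit 3676) i)) (Nat.ble (nat_lit 3672) i)) (Nat.ble (nat_lit 3664) i))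

def rowBlk_n0_115 (i : ℕ) : ℕ := (@Bool.rec (fun _ => ℕ) (@Bool.rec (fun _ => ℕ) (@Bool.rec (fun _ => ℕ) (@Bool.rec (fun _ => ℕ) (@Bool.rec (fun _ => ℕ) rb3680 rb3681 (Nat.ble (nat_lit 3681) i)) (@Bool.rec (fun _ => ℕ) rb3682 rb3683 (Nat.ble (nat_lit 3683) i)) (Nat.ble (nat_lit 3682) i)) (@Bool.rec (fun _ => ℕ) (@Bool.rec (fun _ => ℕ) rb3684 rb3685 (Nat.ble (nat_lit 3685) i)) (@Bool.rec (fun _ => ℕ) rb3686 rb3687 (Nat.ble (nat_lit 3687) i)) (Nat.ble (nat_lit 3686) i)) (Nat.ble (nat_lit 3684) i)) (@Bool.rec (fun _ => ℕ) (@Bool.rec (fun _ => ℕ) (@Bool.rec (fun _ => ℕ) rb3688 rb3689 (Nat.ble (nat_lit 3689) i)) (@Bool.rec (fun _ => ℕ) rb3690 rb3691 (Nat.ble (nat_lit 3691) i)) (Nat.ble (nat_lit 3690) i)) (@Bool.rec (fun _ => ℕ) (@Bool.rec (fun _ => ℕ) rb3692 rb3693 (Nat.ble (nat_lit 3693) i)) (@Bool.rec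 (fun _ => ℕ) rb3694 rb3695 (Nat.ble (nat_lit 3695) i)) (Nat.ble (nat_lit 3694) i)) (Nat.ble (nat_lit 3692) i)) (Nat.ble (nat_lit 3688) i)) (@Bool.rec (fun _ => ℕ) (@Bool.rec (fun _ => ℕ) (@Bool.rec (fun _ => ℕ) (@Bool.rec (fun _ => ℕ) rb3696 rb3697 (Nat.ble (nat_lit 3697) i)) (@Bool.rec (fun _ => ℕ) rb3698 rb3699 (Nat.ble (nat_lit 3699) i)) (Nat.ble (nat_lit 3698) i)) (@Bool.rec (fun _ => ℕ) (@Bool.rec (fun _ => ℕ) rb3700 rb3701 (Nat.ble (nat_lit 3701) i)) (@Bool.rec (fun _ => ℕ) rb3702 rb3703 (Nat.ble (nat_lit 3703) i)) (Nat.ble (nat_lit 3702) i)) (Nat.ble (nat_lit 3700) i)) (@Bool.rec (fun _ => ℕ) (@Bool.rec (fun _ => ℕ) (@Bool.rec (fun _ => ℕ) rb3704 rb3705 (Nat.ble (nat_lit 3705) i)) (@Bool.rec (fun _ => ℕ) rb3706 rb3707 (Nat.ble (nat_lit 3707) i)) (Nat.ble (nat_lit 3706) i)) (@Bool.rec (fun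 _ => ℕ) (@Bool.rec (fun _ => ℕ) rb3708 rb3709 (Nat.ble (nat_lit 3709) i)) (@Bool.rec (fun _ => ℕ) rb3710 rb3711 (Nat.ble (nat_lit 3711) i)) (Nat.ble (nat_lit 3710) i)) (Nat.ble (nat_lit 3708) i)) (Nat.ble (nat_lit 3704) i)) (Nat.ble (nat_lit 3696) i))

def rowBlk_n0_116 (i : ℕ) : ℕ := (@Bool.rec (fun _ => ℕ) (@Bool.rec (fun _ => ℕ) (@Bool.rec (fun _ => ℕ) (@Bool.rec (fun _ => ℕ) (@Bool.rec (fun _ => ℕ) rb3712 rb3713 (Nat.ble (nat_lit 3713) i)) (@Bool.rec (fun _ => ℕ) rb3714 rb3715 (Nat.ble (nat_lit 3715) i)) (Nat.ble (nat_lit 3714) i)) (@Bool.rec (fun _ => ℕ) (@Bool.rec (fun _ => ℕ) rb3716 rb3717 (Nat.ble (nat_lit 3717) i)) (@Bool.rec (fun _ => ℕ) rb3718 rb3719 (Nat.ble (nat_lit 3719) i)) (Nat.ble (nat_lit 3718) i)) (Nat.ble (nat_lit 3716) i)) (@Bool.rec (fun _ => ℕ) (@Bool.rec (fun _ => ℕ) (@Bool.rec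 (fun _ => ℕ) rb3720 rb3721 (Nat.ble (nat_lit 3721) i)) (@Bool.rec (fun _ => ℕ) rb3722 rb3723 (Nat.ble (nat_lit 3723) i)) (Nat.ble (nat_lit 3722) i)) (@Bool.rec (fun _ => ℕ) (@Bool.rec (fun _ => ℕ) rb3724 rb3725 (Nat.ble (nat_lit 3725) i)) (@Bool.rec (fun _ => ℕ) rb3726 rb3727 (Nat.ble (nat_lit 3727) i)) (Nat.ble (nat_lit 3726) i)) (Nat.ble (nat_lit 3724) i)) (Nat.ble (nat_lit 3720) i)) (@Bool.rec (fun _ => ℕ) (@Bool.rec (fun _ => ℕ) (@Bool.rec (fun _ => ℕ) (@Bool.rec (fun _ => ℕ) rb3728 rb3729 (Nat.ble (nat_lit 3729) i)) (@Bool.rec (fun _ => ℕ) rb3730 rb3731 (Nat.ble (nat_lit 3731) i)) (Nat.ble (nat_lit 3730) i)) (@Bool.rec (fun _ => ℕ) (@Bool.rec (fun _ => ℕ) rb3732 rb3733 (Nat.ble (nat_lit 3733) i)) (@Bool.rec (fun _ => ℕ) rb3734 rb3735 (Nat.ble (nat_lit 3735) i)) (Nat.ble (nat_lit 3734) i)) (Nat.ble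 (nat_lit 3732) i)) (@Bool.rec (fun _ => ℕ) (@Bool.rec (fun _ => ℕ) (@Bool.rec (fun _ => ℕ) rb3736 rb3737 (Nat.ble (nat_lit 3737) i)) (@Bool.rec (fun _ => ℕ) rb3738 rb3739 (Nat.ble (nat_lit 3739) i)) (Nat.ble (nat_lit 3738) i)) (@Bool.rec (fun _ => ℕ) (@Bool.rec (fun _ => ℕ) rb3740 rb3741 (Nat.ble (nat_lit 3741) i)) (@Bool.rec (fun _ => ℕ) rb3742 rb3743 (Nat.ble (nat_lit 3743) i)) (Nat.ble (nat_lit 3742) i)) (Nat.ble (nat_lit 3740) i)) (Nat.ble (nat_lit 3736) i)) (Nat.ble (nat_lit 3728) i))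

def rowBlk_n0_117 (i : ℕ) : ℕ := (@Bool.rec (fun _ => ℕ) (@Bool.rec (fun _ => ℕ) (@Bool.rec (fun _ => ℕ) (@Bool.rec (fun _ => ℕ) (@Bool.rec (fun _ => ℕ) rb3744 rb3745 (Nat.ble (nat_lit 3745) i)) (@Bool.rec (fun _ => ℕ) rb3746 rb3747 (Nat.ble (nat_lit 3747) i)) (Nat.ble (nat_lit 3746) i)) (@Bool.rec (fun _ => ℕ) (@Bool.rec (fun _ => ℕ) rb3748 rb3749 (Nat.ble (nat_lit 3749) i)) (@Bool.rec (fun _ => ℕ) rb3750 rb3751 (Nat.ble (nat_lit 3751) i)) (Nat.ble (nat_lit 3750) i)) (Nat.ble (nat_lit 3748) i)) (@Bool.rec (fun _ => ℕ) (@Bool.rec (fun _ => ℕ) (@Bool.rec (fun _ => ℕ) rb3752 rb3753 (Nat.ble (nat_lit 3753) i)) (@Bool.rec (fun _ => ℕ) rb3754 rb3755 (Nat.ble (nat_lit 3755) i)) (Nat.ble (nat_lit 3754) i)) (@Bool.rec (fun _ => ℕ) (@Bool.rec (fun _ => ℕ) rb3756 rb3757 (Nat.ble (nat_lit 3757) i)) (@Bool.rec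 (fun _ => ℕ) rb3758 rb3759 (Nat.ble (nat_lit 3759) i)) (Nat.ble (nat_lit 3758) i)) (Nat.ble (nat_lit 3756) i)) (Nat.ble (nat_lit 3752) i)) (@Bool.rec (fun _ => ℕ) (@Bool.rec (fun _ => ℕ) (@Bool.rec (fun _ => ℕ) (@Bool.rec (fun _ => ℕ) rb3760 rb3761 (Nat.ble (nat_lit 3761) i)) (@Bool.rec (fun _ => ℕ) rb3762 rb3763 (Nat.ble (nat_lit 3763) i)) (Nat.ble (nat_lit 3762) i)) (@Bool.rec (fun _ => ℕ) (@Bool.rec (fun _ => ℕ) rb3764 rb3765 (Nat.ble (nat_lit 3765) i)) (@Bool.rec (fun _ => ℕ) rb3766 rb3767 (Nat.ble (nat_lit 3767) i)) (Nat.ble (nat_lit 3766) i)) (Nat.ble (nat_lit 3764) i)) (@Bool.rec (fun _ => ℕ) (@Bool.rec (fun _ => ℕ) (@Bool.rec (fun _ => ℕ) rb3768 rb3769 (Nat.ble (nat_lit 3769) i)) (@Bool.rec (fun _ => ℕ) rb3770 rb3771 (Nat.ble (nat_lit 3771) i)) (Nat.ble (nat_lit 3770) i)) (@Bool.rec (fun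 _ => ℕ) (@Bool.rec (fun _ => ℕ) rb3772 rb3773 (Nat.ble (nat_lit 3773) i)) (@Bool.rec (fun _ => ℕ) rb3774 rb3775 (Nat.ble (nat_lit 3775) i)) (Nat.ble (nat_lit 3774) i)) (Nat.ble (nat_lit 3772) i)) (Nat.ble (nat_lit 3768) i)) (Nat.ble (nat_lit 3760) i))

def rowBlk_n0_118 (i : ℕ) : ℕ := (@Bool.rec (fun _ => ℕ) (@Bool.rec (fun _ => ℕ) (@Bool.rec (fun _ => ℕ) (@Bool.rec (fun _ => ℕ) (@Bool.rec (fun _ => ℕ) rb3776 rb3777 (Nat.ble (nat_lit 3777) i)) (@Bool.rec (fun _ => ℕ) rb3778 rb3779 (Nat.ble (nat_lit 3779) i)) (Nat.ble (nat_lit 3778) i)) (@Bool.rec (fun _ => ℕ) (@Bool.rec (fun _ => ℕ) rb3780 rb3781 (Nat.ble (nat_lit 3781) i)) (@Bool.rec (fun _ => ℕ) rb3782 rb3783 (Nat.ble (nat_lit 3783) i)) (Nat.ble (nat_lit 3782) i)) (Nat.ble (nat_lit 3780) i)) (@Bool.rec (fun _ => ℕ) (@Bool.rec (fun _ => ℕ) (@Bool.rec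 (fun _ => ℕ) rb3784 rb3785 (Nat.ble (nat_lit 3785) i)) (@Bool.rec (fun _ => ℕ) rb3786 rb3787 (Nat.ble (nat_lit 3787) i)) (Nat.ble (nat_lit 3786) i)) (@Bool.rec (fun _ => ℕ) (@Bool.rec (fun _ => ℕ) rb3788 rb3789 (Nat.ble (nat_lit 3789) i)) (@Bool.rec (fun _ => ℕ) rb3790 rb3791 (Nat.ble (nat_lit 3791) i)) (Nat.ble (nat_lit 3790) i)) (Nat.ble (nat_lit 3788) i)) (Nat.ble (nat_lit 3784) i)) (@Bool.rec (fun _ => ℕ) (@Bool.rec (fun _ => ℕ) (@Bool.rec (fun _ => ℕ) (@Bool.rec (fun _ => ℕ) rb3792 rb3793 (Nat.ble (nat_lit 3793) i)) (@Bool.rec (fun _ => ℕ) rb3794 rb3795 (Nat.ble (nat_lit 3795) i)) (Nat.ble (nat_lit 3794) i)) (@Bool.rec (fun _ => ℕ) (@Bool.rec (fun _ => ℕ) rb3796 rb3797 (Nat.ble (nat_lit 3797) i)) (@Bool.rec (fun _ => ℕ) rb3798 rb3799 (Nat.ble (nat_lit 3799) i)) (Nat.ble (nat_lit 3798) i)) (Nat.ble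 (nat_lit 3796) i)) (@Bool.rec (fun _ => ℕ) (@Bool.rec (fun _ => ℕ) (@Bool.rec (fun _ => ℕ) rb3800 rb3801 (Nat.ble (nat_lit 3801) i)) (@Bool.rec (fun _ => ℕ) rb3802 rb3803 (Nat.ble (nat_lit 3803) i)) (Nat.ble (nat_lit 3802) i)) (@Bool.rec (fun _ => ℕ) (@Bool.rec (fun _ => ℕ) rb3804 rb3805 (Nat.ble (nat_lit 3805) i)) (@Bool.rec (fun _ => ℕ) rb3806 rb3807 (Nat.ble (nat_lit 3807) i)) (Nat.ble (nat_lit 3806) i)) (Nat.ble (nat_lit 3804) i)) (Nat.ble (nat_lit 3800) i)) (Nat.ble (nat_lit 3792) i))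

def rowBlk_n0_119 (i : ℕ) : ℕ := (@Bool.rec (fun _ => ℕ) (@Bool.rec (fun _ => ℕ) (@Bool.rec (fun _ => ℕ) (@Bool.rec (fun _ => ℕ) (@Bool.rec (fun _ => ℕ) rb3808 rb3809 (Nat.ble (nat_lit 3809) i)) (@Bool.rec (fun _ => ℕ) rb3810 rb3811 (Nat.ble (nat_lit 3811) i)) (Nat.ble (nat_lit 3810) i)) (@Bool.rec (fun _ => ℕ) (@Bool.rec (fun _ => ℕ) rb3812 rb3813 (Nat.ble (nat_lit 3813) i)) (@Bool.rec (fun _ => ℕ) rb3814 rb3815 (Nat.ble (nat_lit 3815) i)) (Nat.ble (nat_lit 3814) i)) (Nat.ble (nat_lit 3812) i)) (@Bool.rec (fun _ => ℕ) (@Bool.rec (fun _ => ℕ) (@Bool.rec (fun _ => ℕ) rb3816 rb3817 (Nat.ble (nat_lit 3817) i)) (@Bool.rec (fun _ => ℕ) rb3818 rb3819 (Nat.ble (nat_lit 3819) i)) (Nat.ble (nat_lit 3818) i)) (@Bool.rec (fun _ => ℕ) (@Bool.rec (fun _ => ℕ) rb3820 rb3821 (Nat.ble (nat_lit 3821) i)) (@Bool.rec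 (fun _ => ℕ) rb3822 rb3823 (Nat.ble (nat_lit 3823) i)) (Nat.ble (nat_lit 3822) i)) (Nat.ble (nat_lit 3820) i)) (Nat.ble (nat_lit 3816) i)) (@Bool.rec (fun _ => ℕ) (@Bool.rec (fun _ => ℕ) (@Bool.rec (fun _ => ℕ) (@Bool.rec (fun _ => ℕ) rb3824 rb3825 (Nat.ble (nat_lit 3825) i)) (@Bool.rec (fun _ => ℕ) rb3826 rb3827 (Nat.ble (nat_lit 3827) i)) (Nat.ble (nat_lit 3826) i)) (@Bool.rec (fun _ => ℕ) (@Bool.rec (fun _ => ℕ) rb3828 rb3829 (Nat.ble (nat_lit 3829) i)) (@Bool.rec (fun _ => ℕ) rb3830 rb3831 (Nat.ble (nat_lit 3831) i)) (Nat.ble (nat_lit 3830) i)) (Nat.ble (nat_lit 3828) i)) (@Bool.rec (fun _ => ℕ) (@Bool.rec (fun _ => ℕ) (@Bool.rec (fun _ => ℕ) rb3832 rb3833 (Nat.ble (nat_lit 3833) i)) (@Bool.rec (fun _ => ℕ) rb3834 rb3835 (Nat.ble (nat_lit 3835) i)) (Nat.ble (nat_lit 3834) i)) (@Bool.rec (fun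 _ => ℕ) (@Bool.rec (fun _ => ℕ) rb3836 rb3837 (Nat.ble (nat_lit 3837) i)) (@Bool.rec (fun _ => ℕ) rb3838 rb3839 (Nat.ble (nat_lit 3839) i)) (Nat.ble (nat_lit 3838) i)) (Nat.ble (nat_lit 3836) i)) (Nat.ble (nat_lit 3832) i)) (Nat.ble (nat_lit 3824) i))

def rowBlk_n0_120 (i : ℕ) : ℕ := (@Bool.rec (fun _ => ℕ) (@Bool.rec (fun _ => ℕ) (@Bool.rec (fun _ => ℕ) (@Bool.rec (fun _ => ℕ) (@Bool.rec (fun _ => ℕ) rb3840 rb3841 (Nat.ble (nat_lit 3841) i)) (@Bool.rec (fun _ => ℕ) rb3842 rb3843 (Nat.ble (nat_lit 3843) i)) (Nat.ble (nat_lit 3842) i)) (@Bool.rec (fun _ => ℕ) (@Bool.rec (fun _ => ℕ) rb3844 rb3845 (Nat.ble (nat_lit 3845) i)) (@Bool.rec (fun _ => ℕ) rb3846 rb3847 (Nat.ble (nat_lit 3847) i)) (Nat.ble (nat_lit 3846) i)) (Nat.ble (nat_lit 3844) i)) (@Bool.rec (fun _ => ℕ) (@Bool.rec (fun _ => ℕ) (@Bool.rec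 (fun _ => ℕ) rb3848 rb3849 (Nat.ble (nat_lit 3849) i)) (@Bool.rec (fun _ => ℕ) rb3850 rb3851 (Nat.ble (nat_lit 3851) i)) (Nat.ble (nat_lit 3850) i)) (@Bool.rec (fun _ => ℕ) (@Bool.rec (fun _ => ℕ) rb3852 rb3853 (Nat.ble (nat_lit 3853) i)) (@Bool.rec (fun _ => ℕ) rb3854 rb3855 (Nat.ble (nat_lit 3855) i)) (Nat.ble (nat_lit 3854) i)) (Nat.ble (nat_lit 3852) i)) (Nat.ble (nat_lit 3848) i)) (@Bool.rec (fun _ => ℕ) (@Bool.rec (fun _ => ℕ) (@Bool.rec (fun _ => ℕ) (@Bool.rec (fun _ => ℕ) rb3856 rb3857 (Nat.ble (nat_lit 3857) i)) (@Bool.rec (fun _ => ℕ) rb3858 rb3859 (Nat.ble (nat_lit 3859) i)) (Nat.ble (nat_lit 3858) i)) (@Bool.rec (fun _ => ℕ) (@Bool.rec (fun _ => ℕ) rb3860 rb3861 (Nat.ble (nat_lit 3861) i)) (@Bool.rec (fun _ => ℕ) rb3862 rb3863 (Nat.ble (nat_lit 3863) i)) (Nat.ble (nat_lit 3862) i)) (Nat.ble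 (nat_lit 3860) i)) (@Bool.rec (fun _ => ℕ) (@Bool.rec (fun _ => ℕ) (@Bool.rec (fun _ => ℕ) rb3864 rb3865 (Nat.ble (nat_lit 3865) i)) (@Bool.rec (fun _ => ℕ) rb3866 rb3867 (Nat.ble (nat_lit 3867) i)) (Nat.ble (nat_lit 3866) i)) (@Bool.rec (fun _ => ℕ) (@Bool.rec (fun _ => ℕ) rb3868 rb3869 (Nat.ble (nat_lit 3869) i)) (@Bool.rec (fun _ => ℕ) rb3870 rb3871 (Nat.ble (nat_lit 3871) i)) (Nat.ble (nat_lit 3870) i)) (Nat.ble (nat_lit 3868) i)) (Nat.ble (nat_lit 3864) i)) (Nat.ble (nat_lit 3856) i))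

def rowBlk_n0_121 (i : ℕ) : ℕ := (@Bool.rec (fun _ => ℕ) (@Bool.rec (fun _ => ℕ) (@Bool.rec (fun _ => ℕ) (@Bool.rec (fun _ => ℕ) (@Bool.rec (fun _ => ℕ) rb3872 rb3873 (Nat.ble (nat_lit 3873) i)) (@Bool.rec (fun _ => ℕ) rb3874 rb3875 (Nat.ble (nat_lit 3875) i)) (Nat.ble (nat_lit 3874) i)) (@Bool.rec (fun _ => ℕ) (@Bool.rec (fun _ => ℕ) rb3876 rb3877 (Nat.ble (nat_lit 3877) i)) (@Bool.rec (fun _ => ℕ) rb3878 rb3879 (Nat.ble (nat_lit 3879) i)) (Nat.ble (nat_lit 3878) i)) (Nat.ble (nat_lit 3876) i)) (@Bool.rec (fun _ => ℕ) (@Bool.rec (fun _ => ℕ) (@Bool.rec (fun _ => ℕ) rb3880 rb3881 (Nat.ble (nat_lit 3881) i)) (@Bool.rec (fun _ => ℕ) rb3882 rb3883 (Nat.ble (nat_lit 3883) i)) (Nat.ble (nat_lit 3882) i)) (@Bool.rec (fun _ => ℕ) (@Bool.rec (fun _ => ℕ) rb3884 rb3885 (Nat.ble (nat_lit 3885) i)) (@Bool.rec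 (fun _ => ℕ) rb3886 rb3887 (Nat.ble (nat_lit 3887) i)) (Nat.ble (nat_lit 3886) i)) (Nat.ble (nat_lit 3884) i)) (Nat.ble (nat_lit 3880) i)) (@Bool.rec (fun _ => ℕ) (@Bool.rec (fun _ => ℕ) (@Bool.rec (fun _ => ℕ) (@Bool.rec (fun _ => ℕ) rb3888 rb3889 (Nat.ble (nat_lit 3889) i)) (@Bool.rec (fun _ => ℕ) rb3890 rb3891 (Nat.ble (nat_lit 3891) i)) (Nat.ble (nat_lit 3890) i)) (@Bool.rec (fun _ => ℕ) (@Bool.rec (fun _ => ℕ) rb3892 rb3893 (Nat.ble (nat_lit 3893) i)) (@Bool.rec (fun _ => ℕ) rb3894 rb3895 (Nat.ble (nat_lit 3895) i)) (Nat.ble (nat_lit 3894) i)) (Nat.ble (nat_lit 3892) i)) (@Bool.rec (fun _ => ℕ) (@Bool.rec (fun _ => ℕ) (@Bool.rec (fun _ => ℕ) rb3896 rb3897 (Nat.ble (nat_lit 3897) i)) (@Bool.rec (fun _ => ℕ) rb3898 rb3899 (Nat.ble (nat_lit 3899) i)) (Nat.ble (nat_lit 3898) i)) (@Bool.rec (fun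 _ => ℕ) (@Bool.rec (fun _ => ℕ) rb3900 rb3901 (Nat.ble (nat_lit 3901) i)) (@Bool.rec (fun _ => ℕ) rb3902 rb3903 (Nat.ble (nat_lit 3903) i)) (Nat.ble (nat_lit 3902) i)) (Nat.ble (nat_lit 3900) i)) (Nat.ble (nat_lit 3896) i)) (Nat.ble (nat_lit 3888) i))

def rowBlk_n0_122 (i : ℕ) : ℕ := (@Bool.rec (fun _ => ℕ) (@Bool.rec (fun _ => ℕ) (@Bool.rec (fun _ => ℕ) (@Bool.rec (fun _ => ℕ) (@Bool.rec (fun _ => ℕ) rb3904 rb3905 (Nat.ble (nat_lit 3905) i)) (@Bool.rec (fun _ => ℕ) rb3906 rb3907 (Nat.ble (nat_lit 3907) i)) (Nat.ble (nat_lit 3906) i)) (@Bool.rec (fun _ => ℕ) (@Bool.rec (fun _ => ℕ) rb3908 rb3909 (Nat.ble (nat_lit 3909) i)) (@Bool.rec (fun _ => ℕ) rb3910 rb3911 (Nat.ble (nat_lit 3911) i)) (Nat.ble (nat_lit 3910) i)) (Nat.ble (nat_lit 3908) i)) (@Bool.rec (fun _ => ℕ) (@Bool.rec (fun _ => ℕ) (@Bool.rec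 (fun _ => ℕ) rb3912 rb3913 (Nat.ble (nat_lit 3913) i)) (@Bool.rec (fun _ => ℕ) rb3914 rb3915 (Nat.ble (nat_lit 3915) i)) (Nat.ble (nat_lit 3914) i)) (@Bool.rec (fun _ => ℕ) (@Bool.rec (fun _ => ℕ) rb3916 rb3917 (Nat.ble (nat_lit 3917) i)) (@Bool.rec (fun _ => ℕ) rb3918 rb3919 (Nat.ble (nat_lit 3919) i)) (Nat.ble (nat_lit 3918) i)) (Nat.ble (nat_lit 3916) i)) (Nat.ble (nat_lit 3912) i)) (@Bool.rec (fun _ => ℕ) (@Bool.rec (fun _ => ℕ) (@Bool.rec (fun _ => ℕ) (@Bool.rec (fun _ => ℕ) rb3920 rb3921 (Nat.ble (nat_lit 3921) i)) (@Bool.rec (fun _ => ℕ) rb3922 rb3923 (Nat.ble (nat_lit 3923) i)) (Nat.ble (nat_lit 3922) i)) (@Bool.rec (fun _ => ℕ) (@Bool.rec (fun _ => ℕ) rb3924 rb3925 (Nat.ble (nat_lit 3925) i)) (@Bool.rec (fun _ => ℕ) rb3926 rb3927 (Nat.ble (nat_lit 3927) i)) (Nat.ble (nat_lit 3926) i)) (Nat.ble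 (nat_lit 3924) i)) (@Bool.rec (fun _ => ℕ) (@Bool.rec (fun _ => ℕ) (@Bool.rec (fun _ => ℕ) rb3928 rb3929 (Nat.ble (nat_lit 3929) i)) (@Bool.rec (fun _ => ℕ) rb3930 rb3931 (Nat.ble (nat_lit 3931) i)) (Nat.ble (nat_lit 3930) i)) (@Bool.rec (fun _ => ℕ) (@Bool.rec (fun _ => ℕ) rb3932 rb3933 (Nat.ble (nat_lit 3933) i)) (@Bool.rec (fun _ => ℕ) rb3934 rb3935 (Nat.ble (nat_lit 3935) i)) (Nat.ble (nat_lit 3934) i)) (Nat.ble (nat_lit 3932) i)) (Nat.ble (nat_lit 3928) i)) (Nat.ble (nat_lit 3920) i))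

def rowBlk_n0_123 (i : ℕ) : ℕ := (@Bool.rec (fun _ => ℕ) (@Bool.rec (fun _ => ℕ) (@Bool.rec (fun _ => ℕ) (@Bool.rec (fun _ => ℕ) (@Bool.rec (fun _ => ℕ) rb3936 rb3937 (Nat.ble (nat_lit 3937) i)) (@Bool.rec (fun _ => ℕ) rb3938 rb3939 (Nat.ble (nat_lit 3939) i)) (Nat.ble (nat_lit 3938) i)) (@Bool.rec (fun _ => ℕ) (@Bool.rec (fun _ => ℕ) rb3940 rb3941 (Nat.ble (nat_lit 3941) i)) (@Bool.rec (fun _ => ℕ) rb3942 rb3943 (Nat.ble (nat_lit 3943) i)) (Nat.ble (nat_lit 3942) i)) (Nat.ble (nat_lit 3940) i)) (@Bool.rec (fun _ => ℕ) (@Bool.rec (fun _ => ℕ) (@Bool.rec (fun _ => ℕ) rb3944 rb3945 (Nat.ble (nat_lit 3945) i)) (@Bool.rec (fun _ => ℕ) rb3946 rb3947 (Nat.ble (nat_lit 3947) i)) (Nat.ble (nat_lit 3946) i)) (@Bool.rec (fun _ => ℕ) (@Bool.rec (fun _ => ℕ) rb3948 rb3949 (Nat.ble (nat_lit 3949) i)) (@Bool.rec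 (fun _ => ℕ) rb3950 rb3951 (Nat.ble (nat_lit 3951) i)) (Nat.ble (nat_lit 3950) i)) (Nat.ble (nat_lit 3948) i)) (Nat.ble (nat_lit 3944) i)) (@Bool.rec (fun _ => ℕ) (@Bool.rec (fun _ => ℕ) (@Bool.rec (fun _ => ℕ) (@Bool.rec (fun _ => ℕ) rb3952 rb3953 (Nat.ble (nat_lit 3953) i)) (@Bool.rec (fun _ => ℕ) rb3954 rb3955 (Nat.ble (nat_lit 3955) i)) (Nat.ble (nat_lit 3954) i)) (@Bool.rec (fun _ => ℕ) (@Bool.rec (fun _ => ℕ) rb3956 rb3957 (Nat.ble (nat_lit 3957) i)) (@Bool.rec (fun _ => ℕ) rb3958 rb3959 (Nat.ble (nat_lit 3959) i)) (Nat.ble (nat_lit 3958) i)) (Nat.ble (nat_lit 3956) i)) (@Bool.rec (fun _ => ℕ) (@Bool.rec (fun _ => ℕ) (@Bool.rec (fun _ => ℕ) rb3960 rb3961 (Nat.ble (nat_lit 3961) i)) (@Bool.rec (fun _ => ℕ) rb3962 rb3963 (Nat.ble (nat_lit 3963) i)) (Nat.ble (nat_lit 3962) i)) (@Bool.rec (fun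 _ => ℕ) (@Bool.rec (fun _ => ℕ) rb3964 rb3965 (Nat.ble (nat_lit 3965) i)) (@Bool.rec (fun _ => ℕ) rb3966 rb3967 (Nat.ble (nat_lit 3967) i)) (Nat.ble (nat_lit 3966) i)) (Nat.ble (nat_lit 3964) i)) (Nat.ble (nat_lit 3960) i)) (Nat.ble (nat_lit 3952) i))

def rowBlk_n0_124 (i : ℕ) : ℕ := (@Bool.rec (fun _ => ℕ) (@Bool.rec (fun _ => ℕ) (@Bool.rec (fun _ => ℕ) (@Bool.rec (fun _ => ℕ) (@Bool.rec (fun _ => ℕ) rb3968 rb3969 (Nat.ble (nat_lit 3969) i)) (@Bool.rec (fun _ => ℕ) rb3970 rb3971 (Nat.ble (nat_lit 3971) i)) (Nat.ble (nat_lit 3970) i)) (@Bool.rec (fun _ => ℕ) (@Bool.rec (fun _ => ℕ) rb3972 rb3973 (Nat.ble (nat_lit 3973) i)) (@Bool.rec (fun _ => ℕ) rb3974 rb3975 (Nat.ble (nat_lit 3975) i)) (Nat.ble (nat_lit 3974) i)) (Nat.ble (nat_lit 3972) i)) (@Bool.rec (fun _ => ℕ) (@Bool.rec (fun _ => ℕ) (@Bool.rec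 (fun _ => ℕ) rb3976 rb3977 (Nat.ble (nat_lit 3977) i)) (@Bool.rec (fun _ => ℕ) rb3978 rb3979 (Nat.ble (nat_lit 3979) i)) (Nat.ble (nat_lit 3978) i)) (@Bool.rec (fun _ => ℕ) (@Bool.rec (fun _ => ℕ) rb3980 rb3981 (Nat.ble (nat_lit 3981) i)) (@Bool.rec (fun _ => ℕ) rb3982 rb3983 (Nat.ble (nat_lit 3983) i)) (Nat.ble (nat_lit 3982) i)) (Nat.ble (nat_lit 3980) i)) (Nat.ble (nat_lit 3976) i)) (@Bool.rec (fun _ => ℕ) (@Bool.rec (fun _ => ℕ) (@Bool.rec (fun _ => ℕ) (@Bool.rec (fun _ => ℕ) rb3984 rb3985 (Nat.ble (nat_lit 3985) i)) (@Bool.rec (fun _ => ℕ) rb3986 rb3987 (Nat.ble (nat_lit 3987) i)) (Nat.ble (nat_lit 3986) i)) (@Bool.rec (fun _ => ℕ) (@Bool.rec (fun _ => ℕ) rb3988 rb3989 (Nat.ble (nat_lit 3989) i)) (@Bool.rec (fun _ => ℕ) rb3990 rb3991 (Nat.ble (nat_lit 3991) i)) (Nat.ble (nat_lit 3990) i)) (Nat.ble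 (nat_lit 3988) i)) (@Bool.rec (fun _ => ℕ) (@Bool.rec (fun _ => ℕ) (@Bool.rec (fun _ => ℕ) rb3992 rb3993 (Nat.ble (nat_lit 3993) i)) (@Bool.rec (fun _ => ℕ) rb3994 rb3995 (Nat.ble (nat_lit 3995) i)) (Nat.ble (nat_lit 3994) i)) (@Bool.rec (fun _ => ℕ) (@Bool.rec (fun _ => ℕ) rb3996 rb3997 (Nat.ble (nat_lit 3997) i)) (@Bool.rec (fun _ => ℕ) rb3998 rb3999 (Nat.ble (nat_lit 3999) i)) (Nat.ble (nat_lit 3998) i)) (Nat.ble (nat_lit 3996) i)) (Nat.ble (nat_lit 3992) i)) (Nat.ble (nat_lit 3984) i))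

def rowBlk_n0_125 (i : ℕ) : ℕ := (@Bool.rec (fun _ => ℕ) (@Bool.rec (fun _ => ℕ) (@Bool.rec (fun _ => ℕ) (@Bool.rec (fun _ => ℕ) (@Bool.rec (fun _ => ℕ) rb4000 rb4001 (Nat.ble (nat_lit 4001) i)) (@Bool.rec (fun _ => ℕ) rb4002 rb4003 (Nat.ble (nat_lit 4003) i)) (Nat.ble (nat_lit 4002) i)) (@Bool.rec (fun _ => ℕ) (@Bool.rec (fun _ => ℕ) rb4004 rb4005 (Nat.ble (nat_lit 4005) i)) (@Bool.rec (fun _ => ℕ) rb4006 rb4007 (Nat.ble (nat_lit 4007) i)) (Nat.ble (nat_lit 4006) i)) (Nat.ble (nat_lit 4004) i)) (@Bool.rec (fun _ => ℕ) (@Bool.rec (fun _ => ℕ) (@Bool.rec (fun _ => ℕ) rb4008 rb4009 (Nat.ble (nat_lit 4009) i)) (@Bool.rec (fun _ => ℕ) rb4010 rb4011 (Nat.ble (nat_lit 4011) i)) (Nat.ble (nat_lit 4010) i)) (@Bool.rec (fun _ => ℕ) (@Bool.rec (fun _ => ℕ) rb4012 rb4013 (Nat.ble (nat_lit 4013) i)) (@Bool.rec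 (fun _ => ℕ) rb4014 rb4015 (Nat.ble (nat_lit 4015) i)) (Nat.ble (nat_lit 4014) i)) (Nat.ble (nat_lit 4012) i)) (Nat.ble (nat_lit 4008) i)) (@Bool.rec (fun _ => ℕ) (@Bool.rec (fun _ => ℕ) (@Bool.rec (fun _ => ℕ) (@Bool.rec (fun _ => ℕ) rb4016 rb4017 (Nat.ble (nat_lit 4017) i)) (@Bool.rec (fun _ => ℕ) rb4018 rb4019 (Nat.ble (nat_lit 4019) i)) (Nat.ble (nat_lit 4018) i)) (@Bool.rec (fun _ => ℕ) (@Bool.rec (fun _ => ℕ) rb4020 rb4021 (Nat.ble (nat_lit 4021) i)) (@Bool.rec (fun _ => ℕ) rb4022 rb4023 (Nat.ble (nat_lit 4023) i)) (Nat.ble (nat_lit 4022) i)) (Nat.ble (nat_lit 4020) i)) (@Bool.rec (fun _ => ℕ) (@Bool.rec (fun _ => ℕ) (@Bool.rec (fun _ => ℕ) rb4024 rb4025 (Nat.ble (nat_lit 4025) i)) (@Bool.rec (fun _ => ℕ) rb4026 rb4027 (Nat.ble (nat_lit 4027) i)) (Nat.ble (nat_lit 4026) i)) (@Bool.rec (fun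 _ => ℕ) (@Bool.rec (fun _ => ℕ) rb4028 rb4029 (Nat.ble (nat_lit 4029) i)) (@Bool.rec (fun _ => ℕ) rb4030 rb4031 (Nat.ble (nat_lit 4031) i)) (Nat.ble (nat_lit 4030) i)) (Nat.ble (nat_lit 4028) i)) (Nat.ble (nat_lit 4024) i)) (Nat.ble (nat_lit 4016) i))

def rowBlk_n0_126 (i : ℕ) : ℕ := (@Bool.rec (fun _ => ℕ) (@Bool.rec (fun _ => ℕ) (@Bool.rec (fun _ => ℕ) (@Bool.rec (fun _ => ℕ) (@Bool.rec (fun _ => ℕ) rb4032 rb4033 (Nat.ble (nat_lit 4033) i)) (@Bool.rec (fun _ => ℕ) rb4034 rb4035 (Nat.ble (nat_lit 4035) i)) (Nat.ble (nat_lit 4034) i)) (@Bool.rec (fun _ => ℕ) (@Bool.rec (fun _ => ℕ) rb4036 rb4037 (Nat.ble (nat_lit 4037) i)) (@Bool.rec (fun _ => ℕ) rb4038 rb4039 (Nat.ble (nat_lit 4039) i)) (Nat.ble (nat_lit 4038) i)) (Nat.ble (nat_lit 4036) i)) (@Bool.rec (fun _ => ℕ) (@Bool.rec (fun _ => ℕ) (@Bool.rec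 (fun _ => ℕ) rb4040 rb4041 (Nat.ble (nat_lit 4041) i)) (@Bool.rec (fun _ => ℕ) rb4042 rb4043 (Nat.ble (nat_lit 4043) i)) (Nat.ble (nat_lit 4042) i)) (@Bool.rec (fun _ => ℕ) (@Bool.rec (fun _ => ℕ) rb4044 rb4045 (Nat.ble (nat_lit 4045) i)) (@Bool.rec (fun _ => ℕ) rb4046 rb4047 (Nat.ble (nat_lit 4047) i)) (Nat.ble (nat_lit 4046) i)) (Nat.ble (nat_lit 4044) i)) (Nat.ble (nat_lit 4040) i)) (@Bool.rec (fun _ => ℕ) (@Bool.rec (fun _ => ℕ) (@Bool.rec (fun _ => ℕ) (@Bool.rec (fun _ => ℕ) rb4048 rb4049 (Nat.ble (nat_lit 4049) i)) (@Bool.rec (fun _ => ℕ) rb4050 rb4051 (Nat.ble (nat_lit 4051) i)) (Nat.ble (nat_lit 4050) i)) (@Bool.rec (fun _ => ℕ) (@Bool.rec (fun _ => ℕ) rb4052 rb4053 (Nat.ble (nat_lit 4053) i)) (@Bool.rec (fun _ => ℕ) rb4054 rb4055 (Nat.ble (nat_lit 4055) i)) (Nat.ble (nat_lit 4054) i)) (Nat.ble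 (nat_lit 4052) i)) (@Bool.rec (fun _ => ℕ) (@Bool.rec (fun _ => ℕ) (@Bool.rec (fun _ => ℕ) rb4056 rb4057 (Nat.ble (nat_lit 4057) i)) (@Bool.rec (fun _ => ℕ) rb4058 rb4059 (Nat.ble (nat_lit 4059) i)) (Nat.ble (nat_lit 4058) i)) (@Bool.rec (fun _ => ℕ) (@Bool.rec (fun _ => ℕ) rb4060 rb4061 (Nat.ble (nat_lit 4061) i)) (@Bool.rec (fun _ => ℕ) rb4062 rb4063 (Nat.ble (nat_lit 4063) i)) (Nat.ble (nat_lit 4062) i)) (Nat.ble (nat_lit 4060) i)) (Nat.ble (nat_lit 4056) i)) (Nat.ble (nat_lit 4048) i))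

def rowBlk_n0_127 (i : ℕ) : ℕ := (@Bool.rec (fun _ => ℕ) (@Bool.rec (fun _ => ℕ) (@Bool.rec (fun _ => ℕ) (@Bool.rec (fun _ => ℕ) (@Bool.rec (fun _ => ℕ) rb4064 rb4065 (Nat.ble (nat_lit 4065) i)) (@Bool.rec (fun _ => ℕ) rb4066 rb4067 (Nat.ble (nat_lit 4067) i)) (Nat.ble (nat_lit 4066) i)) (@Bool.rec (fun _ => ℕ) (@Bool.rec (fun _ => ℕ) rb4068 rb4069 (Nat.ble (nat_lit 4069) i)) (@Bool.rec (fun _ => ℕ) rb4070 rb4071 (Nat.ble (nat_lit 4071) i)) (Nat.ble (nat_lit 4070) i)) (Nat.ble (nat_lit 4068) i)) (@Bool.rec (fun _ => ℕ) (@Bool.rec (fun _ => ℕ) (@Bool.rec (fun _ => ℕ) rb4072 rb4073 (Nat.ble (nat_lit 4073) i)) (@Bool.rec (fun _ => ℕ) rb4074 rb4075 (Nat.ble (nat_lit 4075) i)) (Nat.ble (nat_lit 4074) i)) (@Bool.rec (fun _ => ℕ) (@Bool.rec (fun _ => ℕ) rb4076 rb4077 (Nat.ble (nat_lit 4077) i)) (@Bool.rec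 (fun _ => ℕ) rb4078 rb4079 (Nat.ble (nat_lit 4079) i)) (Nat.ble (nat_lit 4078) i)) (Nat.ble (nat_lit 4076) i)) (Nat.ble (nat_lit 4072) i)) (@Bool.rec (fun _ => ℕ) (@Bool.rec (fun _ => ℕ) (@Bool.rec (fun _ => ℕ) (@Bool.rec (fun _ => ℕ) rb4080 rb4081 (Nat.ble (nat_lit 4081) i)) (@Bool.rec (fun _ => ℕ) rb4082 rb4083 (Nat.ble (nat_lit 4083) i)) (Nat.ble (nat_lit 4082) i)) (@Bool.rec (fun _ => ℕ) (@Bool.rec (fun _ => ℕ) rb4084 rb4085 (Nat.ble (nat_lit 4085) i)) (@Bool.rec (fun _ => ℕ) rb4086 rb4087 (Nat.ble (nat_lit 4087) i)) (Nat.ble (nat_lit 4086) i)) (Nat.ble (nat_lit 4084) i)) (@Bool.rec (fun _ => ℕ) (@Bool.rec (fun _ => ℕ) (@Bool.rec (fun _ => ℕ) rb4088 rb4089 (Nat.ble (nat_lit 4089) i)) (@Bool.rec (fun _ => ℕ) rb4090 rb4091 (Nat.ble (nat_lit 4091) i)) (Nat.ble (nat_lit 4090) i)) (@Bool.rec (fun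 _ => ℕ) (@Bool.rec (fun _ => ℕ) rb4092 rb4093 (Nat.ble (nat_lit 4093) i)) (@Bool.rec (fun _ => ℕ) rb4094 rb4095 (Nat.ble (nat_lit 4095) i)) (Nat.ble (nat_lit 4094) i)) (Nat.ble (nat_lit 4092) i)) (Nat.ble (nat_lit 4088) i)) (Nat.ble (nat_lit 4080) i))

def rowBlk_n0_128 (i : ℕ) : ℕ := (@Bool.rec (fun _ => ℕ) (@Bool.rec (fun _ => ℕ) (@Bool.rec (fun _ => ℕ) (@Bool.rec (fun _ => ℕ) (@Bool.rec (fun _ => ℕ) rb4096 rb4097 (Nat.ble (nat_lit 4097) i)) (@Bool.rec (fun _ => ℕ) rb4098 rb4099 (Nat.ble (nat_lit 4099) i)) (Nat.ble (nat_lit 4098) i)) (@Bool.rec (fun _ => ℕ) (@Bool.rec (fun _ => ℕ) rb4100 rb4101 (Nat.ble (nat_lit 4101) i)) (@Bool.rec (fun _ => ℕ) rb4102 rb4103 (Nat.ble (nat_lit 4103) i)) (Nat.ble (nat_lit 4102) i)) (Nat.ble (nat_lit 4100) i)) (@Bool.rec (fun _ => ℕ) (@Bool.rec (fun _ => ℕ) (@Bool.rec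 (fun _ => ℕ) rb4104 rb4105 (Nat.ble (nat_lit 4105) i)) (@Bool.rec (fun _ => ℕ) rb4106 rb4107 (Nat.ble (nat_lit 4107) i)) (Nat.ble (nat_lit 4106) i)) (@Bool.rec (fun _ => ℕ) (@Bool.rec (fun _ => ℕ) rb4108 rb4109 (Nat.ble (nat_lit 4109) i)) (@Bool.rec (fun _ => ℕ) rb4110 rb4111 (Nat.ble (nat_lit 4111) i)) (Nat.ble (nat_lit 4110) i)) (Nat.ble (nat_lit 4108) i)) (Nat.ble (nat_lit 4104) i)) (@Bool.rec (fun _ => ℕ) (@Bool.rec (fun _ => ℕ) (@Bool.rec (fun _ => ℕ) (@Bool.rec (fun _ => ℕ) rb4112 rb4113 (Nat.ble (nat_lit 4113) i)) (@Bool.rec (fun _ => ℕ) rb4114 rb4115 (Nat.ble (nat_lit 4115) i)) (Nat.ble (nat_lit 4114) i)) (@Bool.rec (fun _ => ℕ) (@Bool.rec (fun _ => ℕ) rb4116 rb4117 (Nat.ble (nat_lit 4117) i)) (@Bool.rec (fun _ => ℕ) rb4118 rb4119 (Nat.ble (nat_lit 4119) i)) (Nat.ble (nat_lit 4118) i)) (Nat.ble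 (nat_lit 4116) i)) (@Bool.rec (fun _ => ℕ) (@Bool.rec (fun _ => ℕ) (@Bool.rec (fun _ => ℕ) rb4120 rb4121 (Nat.ble (nat_lit 4121) i)) (@Bool.rec (fun _ => ℕ) rb4122 rb4123 (Nat.ble (nat_lit 4123) i)) (Nat.ble (nat_lit 4122) i)) (@Bool.rec (fun _ => ℕ) (@Bool.rec (fun _ => ℕ) rb4124 rb4125 (Nat.ble (nat_lit 4125) i)) (@Bool.rec (fun _ => ℕ) rb4126 rb4127 (Nat.ble (nat_lit 4127) i)) (Nat.ble (nat_lit 4126) i)) (Nat.ble (nat_lit 4124) i)) (Nat.ble (nat_lit 4120) i)) (Nat.ble (nat_lit 4112) i))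

def rowBlk_n0_129 (i : ℕ) : ℕ := (@Bool.rec (fun _ => ℕ) (@Bool.rec (fun _ => ℕ) (@Bool.rec (fun _ => ℕ) (@Bool.rec (fun _ => ℕ) (@Bool.rec (fun _ => ℕ) rb4128 rb4129 (Nat.ble (nat_lit 4129) i)) (@Bool.rec (fun _ => ℕ) rb4130 rb4131 (Nat.ble (nat_lit 4131) i)) (Nat.ble (nat_lit 4130) i)) (@Bool.rec (fun _ => ℕ) (@Bool.rec (fun _ => ℕ) rb4132 rb4133 (Nat.ble (nat_lit 4133) i)) (@Bool.rec (fun _ => ℕ) rb4134 rb4135 (Nat.ble (nat_lit 4135) i)) (Nat.ble (nat_lit 4134) i)) (Nat.ble (nat_lit 4132) i)) (@Bool.rec (fun _ => ℕ) (@Bool.rec (fun _ => ℕ) (@Bool.rec (fun _ => ℕ) rb4136 rb4137 (Nat.ble (nat_lit 4137) i)) (@Bool.rec (fun _ => ℕ) rb4138 rb4139 (Nat.ble (nat_lit 4139) i)) (Nat.ble (nat_lit 4138) i)) (@Bool.rec (fun _ => ℕ) (@Bool.rec (fun _ => ℕ) rb4140 rb4141 (Nat.ble (nat_lit 4141) i)) (@Bool.rec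 (fun _ => ℕ) rb4142 rb4143 (Nat.ble (nat_lit 4143) i)) (Nat.ble (nat_lit 4142) i)) (Nat.ble (nat_lit 4140) i)) (Nat.ble (nat_lit 4136) i)) (@Bool.rec (fun _ => ℕ) (@Bool.rec (fun _ => ℕ) (@Bool.rec (fun _ => ℕ) (@Bool.rec (fun _ => ℕ) rb4144 rb4145 (Nat.ble (nat_lit 4145) i)) (@Bool.rec (fun _ => ℕ) rb4146 rb4147 (Nat.ble (nat_lit 4147) i)) (Nat.ble (nat_lit 4146) i)) (@Bool.rec (fun _ => ℕ) (@Bool.rec (fun _ => ℕ) rb4148 rb4149 (Nat.ble (nat_lit 4149) i)) (@Bool.rec (fun _ => ℕ) rb4150 rb4151 (Nat.ble (nat_lit 4151) i)) (Nat.ble (nat_lit 4150) i)) (Nat.ble (nat_lit 4148) i)) (@Bool.rec (fun _ => ℕ) (@Bool.rec (fun _ => ℕ) (@Bool.rec (fun _ => ℕ) rb4152 rb4153 (Nat.ble (nat_lit 4153) i)) (@Bool.rec (fun _ => ℕ) rb4154 rb4155 (Nat.ble (nat_lit 4155) i)) (Nat.ble (nat_lit 4154) i)) (@Bool.rec (fun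 _ => ℕ) (@Bool.rec (fun _ => ℕ) rb4156 rb4157 (Nat.ble (nat_lit 4157) i)) (@Bool.rec (fun _ => ℕ) rb4158 rb4159 (Nat.ble (nat_lit 4159) i)) (Nat.ble (nat_lit 4158) i)) (Nat.ble (nat_lit 4156) i)) (Nat.ble (nat_lit 4152) i)) (Nat.ble (nat_lit 4144) i))

def rowBlk_n0_130 (i : ℕ) : ℕ := (@Bool.rec (fun _ => ℕ) (@Bool.rec (fun _ => ℕ) (@Bool.rec (fun _ => ℕ) (@Bool.rec (fun _ => ℕ) (@Bool.rec (fun _ => ℕ) rb4160 rb4161 (Nat.ble (nat_lit 4161) i)) (@Bool.rec (fun _ => ℕ) rb4162 rb4163 (Nat.ble (nat_lit 4163) i)) (Nat.ble (nat_lit 4162) i)) (@Bool.rec (fun _ => ℕ) (@Bool.rec (fun _ => ℕ) rb4164 rb4165 (Nat.ble (nat_lit 4165) i)) (@Bool.rec (fun _ => ℕ) rb4166 rb4167 (Nat.ble (nat_lit 4167) i)) (Nat.ble (nat_lit 4166) i)) (Nat.ble (nat_lit 4164) i)) (@Bool.rec (fun _ => ℕ) (@Bool.rec (fun _ => ℕ) (@Bool.rec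 (fun _ => ℕ) rb4168 rb4169 (Nat.ble (nat_lit 4169) i)) (@Bool.rec (fun _ => ℕ) rb4170 rb4171 (Nat.ble (nat_lit 4171) i)) (Nat.ble (nat_lit 4170) i)) (@Bool.rec (fun _ => ℕ) (@Bool.rec (fun _ => ℕ) rb4172 rb4173 (Nat.ble (nat_lit 4173) i)) (@Bool.rec (fun _ => ℕ) rb4174 rb4175 (Nat.ble (nat_lit 4175) i)) (Nat.ble (nat_lit 4174) i)) (Nat.ble (nat_lit 4172) i)) (Nat.ble (nat_lit 4168) i)) (@Bool.rec (fun _ => ℕ) (@Bool.rec (fun _ => ℕ) (@Bool.rec (fun _ => ℕ) (@Bool.rec (fun _ => ℕ) rb4176 rb4177 (Nat.ble (nat_lit 4177) i)) (@Bool.rec (fun _ => ℕ) rb4178 rb4179 (Nat.ble (nat_lit 4179) i)) (Nat.ble (nat_lit 4178) i)) (@Bool.rec (fun _ => ℕ) (@Bool.rec (fun _ => ℕ) rb4180 rb4181 (Nat.ble (nat_lit 4181) i)) (@Bool.rec (fun _ => ℕ) rb4182 rb4183 (Nat.ble (nat_lit 4183) i)) (Nat.ble (nat_lit 4182) i)) (Nat.ble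 (nat_lit 4180) i)) (@Bool.rec (fun _ => ℕ) (@Bool.rec (fun _ => ℕ) (@Bool.rec (fun _ => ℕ) rb4184 rb4185 (Nat.ble (nat_lit 4185) i)) (@Bool.rec (fun _ => ℕ) rb4186 rb4187 (Nat.ble (nat_lit 4187) i)) (Nat.ble (nat_lit 4186) i)) (@Bool.rec (fun _ => ℕ) (@Bool.rec (fun _ => ℕ) rb4188 rb4189 (Nat.ble (nat_lit 4189) i)) (@Bool.rec (fun _ => ℕ) rb4190 rb4191 (Nat.ble (nat_lit 4191) i)) (Nat.ble (nat_lit 4190) i)) (Nat.ble (nat_lit 4188) i)) (Nat.ble (nat_lit 4184) i)) (Nat.ble (nat_lit 4176) i))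

def rowBlk_n0_131 (i : ℕ) : ℕ := (@Bool.rec (fun _ => ℕ) (@Bool.rec (fun _ => ℕ) (@Bool.rec (fun _ => ℕ) (@Bool.rec (fun _ => ℕ) (@Bool.rec (fun _ => ℕ) rb4192 rb4193 (Nat.ble (nat_lit 4193) i)) (@Bool.rec (fun _ => ℕ) rb4194 rb4195 (Nat.ble (nat_lit 4195) i)) (Nat.ble (nat_lit 4194) i)) (@Bool.rec (fun _ => ℕ) (@Bool.rec (fun _ => ℕ) rb4196 rb4197 (Nat.ble (nat_lit 4197) i)) (@Bool.rec (fun _ => ℕ) rb4198 rb4199 (Nat.ble (nat_lit 4199) i)) (Nat.ble (nat_lit 4198) i)) (Nat.ble (nat_lit 4196) i)) (@Bool.rec (fun _ => ℕ) (@Bool.rec (fun _ => ℕ) (@Bool.rec (fun _ => ℕ) rb4200 rb4201 (Nat.ble (nat_lit 4201) i)) (@Bool.rec (fun _ => ℕ) rb4202 rb4203 (Nat.ble (nat_lit 4203) i)) (Nat.ble (nat_lit 4202) i)) (@Bool.rec (fun _ => ℕ) (@Bool.rec (fun _ => ℕ) rb4204 rb4205 (Nat.ble (nat_lit 4205) i)) (@Bool.rec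 (fun _ => ℕ) rb4206 rb4207 (Nat.ble (nat_lit 4207) i)) (Nat.ble (nat_lit 4206) i)) (Nat.ble (nat_lit 4204) i)) (Nat.ble (nat_lit 4200) i)) (@Bool.rec (fun _ => ℕ) (@Bool.rec (fun _ => ℕ) (@Bool.rec (fun _ => ℕ) (@Bool.rec (fun _ => ℕ) rb4208 rb4209 (Nat.ble (nat_lit 4209) i)) (@Bool.rec (fun _ => ℕ) rb4210 rb4211 (Nat.ble (nat_lit 4211) i)) (Nat.ble (nat_lit 4210) i)) (@Bool.rec (fun _ => ℕ) (@Bool.rec (fun _ => ℕ) rb4212 rb4213 (Nat.ble (nat_lit 4213) i)) (@Bool.rec (fun _ => ℕ) rb4214 rb4215 (Nat.ble (nat_lit 4215) i)) (Nat.ble (nat_lit 4214) i)) (Nat.ble (nat_lit 4212) i)) (@Bool.rec (fun _ => ℕ) (@Bool.rec (fun _ => ℕ) (@Bool.rec (fun _ => ℕ) rb4216 rb4217 (Nat.ble (nat_lit 4217) i)) (@Bool.rec (fun _ => ℕ) rb4218 rb4219 (Nat.ble (nat_lit 4219) i)) (Nat.ble (nat_lit 4218) i)) (@Bool.rec (fun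 _ => ℕ) (@Bool.rec (fun _ => ℕ) rb4220 rb4221 (Nat.ble (nat_lit 4221) i)) (@Bool.rec (fun _ => ℕ) rb4222 rb4223 (Nat.ble (nat_lit 4223) i)) (Nat.ble (nat_lit 4222) i)) (Nat.ble (nat_lit 4220) i)) (Nat.ble (nat_lit 4216) i)) (Nat.ble (nat_lit 4208) i))

def rowBlk_n0_132 (i : ℕ) : ℕ := (@Bool.rec (fun _ => ℕ) (@Bool.rec (fun _ => ℕ) (@Bool.rec (fun _ => ℕ) (@Bool.rec (fun _ => ℕ) (@Bool.rec (fun _ => ℕ) rb4224 rb4225 (Nat.ble (nat_lit 4225) i)) (@Bool.rec (fun _ => ℕ) rb4226 rb4227 (Nat.ble (nat_lit 4227) i)) (Nat.ble (nat_lit 4226) i)) (@Bool.rec (fun _ => ℕ) (@Bool.rec (fun _ => ℕ) rb4228 rb4229 (Nat.ble (nat_lit 4229) i)) (@Bool.rec (fun _ => ℕ) rb4230 rb4231 (Nat.ble (nat_lit 4231) i)) (Nat.ble (nat_lit 4230) i)) (Nat.ble (nat_lit 4228) i)) (@Bool.rec (fun _ => ℕ) (@Bool.rec (fun _ => ℕ) (@Bool.rec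 (fun _ => ℕ) rb4232 rb4233 (Nat.ble (nat_lit 4233) i)) (@Bool.rec (fun _ => ℕ) rb4234 rb4235 (Nat.ble (nat_lit 4235) i)) (Nat.ble (nat_lit 4234) i)) (@Bool.rec (fun _ => ℕ) (@Bool.rec (fun _ => ℕ) rb4236 rb4237 (Nat.ble (nat_lit 4237) i)) (@Bool.rec (fun _ => ℕ) rb4238 rb4239 (Nat.ble (nat_lit 4239) i)) (Nat.ble (nat_lit 4238) i)) (Nat.ble (nat_lit 4236) i)) (Nat.ble (nat_lit 4232) i)) (@Bool.rec (fun _ => ℕ) (@Bool.rec (fun _ => ℕ) (@Bool.rec (fun _ => ℕ) (@Bool.rec (fun _ => ℕ) rb4240 rb4241 (Nat.ble (nat_lit 4241) i)) (@Bool.rec (fun _ => ℕ) rb4242 rb4243 (Nat.ble (nat_lit 4243) i)) (Nat.ble (nat_lit 4242) i)) (@Bool.rec (fun _ => ℕ) (@Bool.rec (fun _ => ℕ) rb4244 rb4245 (Nat.ble (nat_lit 4245) i)) (@Bool.rec (fun _ => ℕ) rb4246 rb4247 (Nat.ble (nat_lit 4247) i)) (Nat.ble (nat_lit 4246) i)) (Nat.ble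 (nat_lit 4244) i)) (@Bool.rec (fun _ => ℕ) (@Bool.rec (fun _ => ℕ) (@Bool.rec (fun _ => ℕ) rb4248 rb4249 (Nat.ble (nat_lit 4249) i)) (@Bool.rec (fun _ => ℕ) rb4250 rb4251 (Nat.ble (nat_lit 4251) i)) (Nat.ble (nat_lit 4250) i)) (@Bool.rec (fun _ => ℕ) (@Bool.rec (fun _ => ℕ) rb4252 rb4253 (Nat.ble (nat_lit 4253) i)) (@Bool.rec (fun _ => ℕ) rb4254 rb4255 (Nat.ble (nat_lit 4255) i)) (Nat.ble (nat_lit 4254) i)) (Nat.ble (nat_lit 4252) i)) (Nat.ble (nat_lit 4248) i)) (Nat.ble (nat_lit 4240) i))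

def rowBlk_n0_133 (i : ℕ) : ℕ := (@Bool.rec (fun _ => ℕ) (@Bool.rec (fun _ => ℕ) (@Bool.rec (fun _ => ℕ) (@Bool.rec (fun _ => ℕ) (@Bool.rec (fun _ => ℕ) rb4256 rb4257 (Nat.ble (nat_lit 4257) i)) (@Bool.rec (fun _ => ℕ) rb4258 rb4259 (Nat.ble (nat_lit 4259) i)) (Nat.ble (nat_lit 4258) i)) (@Bool.rec (fun _ => ℕ) (@Bool.rec (fun _ => ℕ) rb4260 rb4261 (Nat.ble (nat_lit 4261) i)) (@Bool.rec (fun _ => ℕ) rb4262 rb4263 (Nat.ble (nat_lit 4263) i)) (Nat.ble (nat_lit 4262) i)) (Nat.ble (nat_lit 4260) i)) (@Bool.rec (fun _ => ℕ) (@Bool.rec (fun _ => ℕ) (@Bool.rec (fun _ => ℕ) rb4264 rb4265 (Nat.ble (nat_lit 4265) i)) (@Bool.rec (fun _ => ℕ) rb4266 rb4267 (Nat.ble (nat_lit 4267) i)) (Nat.ble (nat_lit 4266) i)) (@Bool.rec (fun _ => ℕ) (@Bool.rec (fun _ => ℕ) rb4268 rb4269 (Nat.ble (nat_lit 4269) i)) (@Bool.rec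 (fun _ => ℕ) rb4270 rb4271 (Nat.ble (nat_lit 4271) i)) (Nat.ble (nat_lit 4270) i)) (Nat.ble (nat_lit 4268) i)) (Nat.ble (nat_lit 4264) i)) (@Bool.rec (fun _ => ℕ) (@Bool.rec (fun _ => ℕ) (@Bool.rec (fun _ => ℕ) (@Bool.rec (fun _ => ℕ) rb4272 rb4273 (Nat.ble (nat_lit 4273) i)) (@Bool.rec (fun _ => ℕ) rb4274 rb4275 (Nat.ble (nat_lit 4275) i)) (Nat.ble (nat_lit 4274) i)) (@Bool.rec (fun _ => ℕ) (@Bool.rec (fun _ => ℕ) rb4276 rb4277 (Nat.ble (nat_lit 4277) i)) (@Bool.rec (fun _ => ℕ) rb4278 rb4279 (Nat.ble (nat_lit 4279) i)) (Nat.ble (nat_lit 4278) i)) (Nat.ble (nat_lit 4276) i)) (@Bool.rec (fun _ => ℕ) (@Bool.rec (fun _ => ℕ) (@Bool.rec (fun _ => ℕ) rb4280 rb4281 (Nat.ble (nat_lit 4281) i)) (@Bool.rec (fun _ => ℕ) rb4282 rb4283 (Nat.ble (nat_lit 4283) i)) (Nat.ble (nat_lit 4282) i)) (@Bool.rec (fun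 _ => ℕ) (@Bool.rec (fun _ => ℕ) rb4284 rb4285 (Nat.ble (nat_lit 4285) i)) (@Bool.rec (fun _ => ℕ) rb4286 rb4287 (Nat.ble (nat_lit 4287) i)) (Nat.ble (nat_lit 4286) i)) (Nat.ble (nat_lit 4284) i)) (Nat.ble (nat_lit 4280) i)) (Nat.ble (nat_lit 4272) i))

def rowBlk_n0_134 (i : ℕ) : ℕ := (@Bool.rec (fun _ => ℕ) (@Bool.rec (fun _ => ℕ) (@Bool.rec (fun _ => ℕ) (@Bool.rec (fun _ => ℕ) (@Bool.rec (fun _ => ℕ) rb4288 rb4289 (Nat.ble (nat_lit 4289) i)) (@Bool.rec (fun _ => ℕ) rb4290 rb4291 (Nat.ble (nat_lit 4291) i)) (Nat.ble (nat_lit 4290) i)) (@Bool.rec (fun _ => ℕ) (@Bool.rec (fun _ => ℕ) rb4292 rb4293 (Nat.ble (nat_lit 4293) i)) (@Bool.rec (fun _ => ℕ) rb4294 rb4295 (Nat.ble (nat_lit 4295) i)) (Nat.ble (nat_lit 4294) i)) (Nat.ble (nat_lit 4292) i)) (@Bool.rec (fun _ => ℕ) (@Bool.rec (fun _ => ℕ) (@Bool.rec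 (fun _ => ℕ) rb4296 rb4297 (Nat.ble (nat_lit 4297) i)) (@Bool.rec (fun _ => ℕ) rb4298 rb4299 (Nat.ble (nat_lit 4299) i)) (Nat.ble (nat_lit 4298) i)) (@Bool.rec (fun _ => ℕ) (@Bool.rec (fun _ => ℕ) rb4300 rb4301 (Nat.ble (nat_lit 4301) i)) (@Bool.rec (fun _ => ℕ) rb4302 rb4303 (Nat.ble (nat_lit 4303) i)) (Nat.ble (nat_lit 4302) i)) (Nat.ble (nat_lit 4300) i)) (Nat.ble (nat_lit 4296) i)) (@Bool.rec (fun _ => ℕ) (@Bool.rec (fun _ => ℕ) (@Bool.rec (fun _ => ℕ) (@Bool.rec (fun _ => ℕ) rb4304 rb4305 (Nat.ble (nat_lit 4305) i)) (@Bool.rec (fun _ => ℕ) rb4306 rb4307 (Nat.ble (nat_lit 4307) i)) (Nat.ble (nat_lit 4306) i)) (@Bool.rec (fun _ => ℕ) (@Bool.rec (fun _ => ℕ) rb4308 rb4309 (Nat.ble (nat_lit 4309) i)) (@Bool.rec (fun _ => ℕ) rb4310 rb4311 (Nat.ble (nat_lit 4311) i)) (Nat.ble (nat_lit 4310) i)) (Nat.ble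 (nat_lit 4308) i)) (@Bool.rec (fun _ => ℕ) (@Bool.rec (fun _ => ℕ) (@Bool.rec (fun _ => ℕ) rb4312 rb4313 (Nat.ble (nat_lit 4313) i)) (@Bool.rec (fun _ => ℕ) rb4314 rb4315 (Nat.ble (nat_lit 4315) i)) (Nat.ble (nat_lit 4314) i)) (@Bool.rec (fun _ => ℕ) (@Bool.rec (fun _ => ℕ) rb4316 rb4317 (Nat.ble (nat_lit 4317) i)) (@Bool.rec (fun _ => ℕ) rb4318 rb4319 (Nat.ble (nat_lit 4319) i)) (Nat.ble (nat_lit 4318) i)) (Nat.ble (nat_lit 4316) i)) (Nat.ble (nat_lit 4312) i)) (Nat.ble (nat_lit 4304) i))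

def rowBlk_n0_135 (i : ℕ) : ℕ := (@Bool.rec (fun _ => ℕ) (@Bool.rec (fun _ => ℕ) (@Bool.rec (fun _ => ℕ) (@Bool.rec (fun _ => ℕ) (@Bool.rec (fun _ => ℕ) rb4320 rb4321 (Nat.ble (nat_lit 4321) i)) (@Bool.rec (fun _ => ℕ) rb4322 rb4323 (Nat.ble (nat_lit 4323) i)) (Nat.ble (nat_lit 4322) i)) (@Bool.rec (fun _ => ℕ) (@Bool.rec (fun _ => ℕ) rb4324 rb4325 (Nat.ble (nat_lit 4325) i)) (@Bool.rec (fun _ => ℕ) rb4326 rb4327 (Nat.ble (nat_lit 4327) i)) (Nat.ble (nat_lit 4326) i)) (Nat.ble (nat_lit 4324) i)) (@Bool.rec (fun _ => ℕ) (@Bool.rec (fun _ => ℕ) (@Bool.rec (fun _ => ℕ) rb4328 rb4329 (Nat.ble (nat_lit 4329) i)) (@Bool.rec (fun _ => ℕ) rb4330 rb4331 (Nat.ble (nat_lit 4331) i)) (Nat.ble (nat_lit 4330) i)) (@Bool.rec (fun _ => ℕ) (@Bool.rec (fun _ => ℕ) rb4332 rb4333 (Nat.ble (nat_lit 4333) i)) (@Bool.rec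 (fun _ => ℕ) rb4334 rb4335 (Nat.ble (nat_lit 4335) i)) (Nat.ble (nat_lit 4334) i)) (Nat.ble (nat_lit 4332) i)) (Nat.ble (nat_lit 4328) i)) (@Bool.rec (fun _ => ℕ) (@Bool.rec (fun _ => ℕ) (@Bool.rec (fun _ => ℕ) (@Bool.rec (fun _ => ℕ) rb4336 rb4337 (Nat.ble (nat_lit 4337) i)) (@Bool.rec (fun _ => ℕ) rb4338 rb4339 (Nat.ble (nat_lit 4339) i)) (Nat.ble (nat_lit 4338) i)) (@Bool.rec (fun _ => ℕ) (@Bool.rec (fun _ => ℕ) rb4340 rb4341 (Nat.ble (nat_lit 4341) i)) (@Bool.rec (fun _ => ℕ) rb4342 rb4343 (Nat.ble (nat_lit 4343) i)) (Nat.ble (nat_lit 4342) i)) (Nat.ble (nat_lit 4340) i)) (@Bool.rec (fun _ => ℕ) (@Bool.rec (fun _ => ℕ) (@Bool.rec (fun _ => ℕ) rb4344 rb4345 (Nat.ble (nat_lit 4345) i)) (@Bool.rec (fun _ => ℕ) rb4346 rb4347 (Nat.ble (nat_lit 4347) i)) (Nat.ble (nat_lit 4346) i)) (@Bool.rec (fun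 _ => ℕ) (@Bool.rec (fun _ => ℕ) rb4348 rb4349 (Nat.ble (nat_lit 4349) i)) (@Bool.rec (fun _ => ℕ) rb4350 rb4351 (Nat.ble (nat_lit 4351) i)) (Nat.ble (nat_lit 4350) i)) (Nat.ble (nat_lit 4348) i)) (Nat.ble (nat_lit 4344) i)) (Nat.ble (nat_lit 4336) i))

def rowBlk_n0_136 (i : ℕ) : ℕ := (@Bool.rec (fun _ => ℕ) (@Bool.rec (fun _ => ℕ) (@Bool.rec (fun _ => ℕ) (@Bool.rec (fun _ => ℕ) (@Bool.rec (fun _ => ℕ) rb4352 rb4353 (Nat.ble (nat_lit 4353) i)) (@Bool.rec (fun _ => ℕ) rb4354 rb4355 (Nat.ble (nat_lit 4355) i)) (Nat.ble (nat_lit 4354) i)) (@Bool.rec (fun _ => ℕ) (@Bool.rec (fun _ => ℕ) rb4356 rb4357 (Nat.ble (nat_lit 4357) i)) (@Bool.rec (fun _ => ℕ) rb4358 rb4359 (Nat.ble (nat_lit 4359) i)) (Nat.ble (nat_lit 4358) i)) (Nat.ble (nat_lit 4356) i)) (@Bool.rec (fun _ => ℕ) (@Bool.rec (fun _ => ℕ) (@Bool.rec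 (fun _ => ℕ) rb4360 rb4361 (Nat.ble (nat_lit 4361) i)) (@Bool.rec (fun _ => ℕ) rb4362 rb4363 (Nat.ble (nat_lit 4363) i)) (Nat.ble (nat_lit 4362) i)) (@Bool.rec (fun _ => ℕ) (@Bool.rec (fun _ => ℕ) rb4364 rb4365 (Nat.ble (nat_lit 4365) i)) (@Bool.rec (fun _ => ℕ) rb4366 rb4367 (Nat.ble (nat_lit 4367) i)) (Nat.ble (nat_lit 4366) i)) (Nat.ble (nat_lit 4364) i)) (Nat.ble (nat_lit 4360) i)) (@Bool.rec (fun _ => ℕ) (@Bool.rec (fun _ => ℕ) (@Bool.rec (fun _ => ℕ) (@Bool.rec (fun _ => ℕ) rb4368 rb4369 (Nat.ble (nat_lit 4369) i)) (@Bool.rec (fun _ => ℕ) rb4370 rb4371 (Nat.ble (nat_lit 4371) i)) (Nat.ble (nat_lit 4370) i)) (@Bool.rec (fun _ => ℕ) (@Bool.rec (fun _ => ℕ) rb4372 rb4373 (Nat.ble (nat_lit 4373) i)) (@Bool.rec (fun _ => ℕ) rb4374 rb4375 (Nat.ble (nat_lit 4375) i)) (Nat.ble (nat_lit 4374) i)) (Nat.ble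 (nat_lit 4372) i)) (@Bool.rec (fun _ => ℕ) (@Bool.rec (fun _ => ℕ) (@Bool.rec (fun _ => ℕ) rb4376 rb4377 (Nat.ble (nat_lit 4377) i)) (@Bool.rec (fun _ => ℕ) rb4378 rb4379 (Nat.ble (nat_lit 4379) i)) (Nat.ble (nat_lit 4378) i)) (@Bool.rec (fun _ => ℕ) (@Bool.rec (fun _ => ℕ) rb4380 rb4381 (Nat.ble (nat_lit 4381) i)) (@Bool.rec (fun _ => ℕ) rb4382 rb4383 (Nat.ble (nat_lit 4383) i)) (Nat.ble (nat_lit 4382) i)) (Nat.ble (nat_lit 4380) i)) (Nat.ble (nat_lit 4376) i)) (Nat.ble (nat_lit 4368) i))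

def rowBlk_n0_137 (i : ℕ) : ℕ := (@Bool.rec (fun _ => ℕ) (@Bool.rec (fun _ => ℕ) (@Bool.rec (fun _ => ℕ) (@Bool.rec (fun _ => ℕ) (@Bool.rec (fun _ => ℕ) rb4384 rb4385 (Nat.ble (nat_lit 4385) i)) (@Bool.rec (fun _ => ℕ) rb4386 rb4387 (Nat.ble (nat_lit 4387) i)) (Nat.ble (nat_lit 4386) i)) (@Bool.rec (fun _ => ℕ) (@Bool.rec (fun _ => ℕ) rb4388 rb4389 (Nat.ble (nat_lit 4389) i)) (@Bool.rec (fun _ => ℕ) rb4390 rb4391 (Nat.ble (nat_lit 4391) i)) (Nat.ble (nat_lit 4390) i)) (Nat.ble (nat_lit 4388) i)) (@Bool.rec (fun _ => ℕ) (@Bool.rec (fun _ => ℕ) (@Bool.rec (fun _ => ℕ) rb4392 rb4393 (Nat.ble (nat_lit 4393) i)) (@Bool.rec (fun _ => ℕ) rb4394 rb4395 (Nat.ble (nat_lit 4395) i)) (Nat.ble (nat_lit 4394) i)) (@Bool.rec (fun _ => ℕ) (@Bool.rec (fun _ => ℕ) rb4396 rb4397 (Nat.ble (nat_lit 4397) i)) (@Bool.rec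 (fun _ => ℕ) rb4398 rb4399 (Nat.ble (nat_lit 4399) i)) (Nat.ble (nat_lit 4398) i)) (Nat.ble (nat_lit 4396) i)) (Nat.ble (nat_lit 4392) i)) (@Bool.rec (fun _ => ℕ) (@Bool.rec (fun _ => ℕ) (@Bool.rec (fun _ => ℕ) (@Bool.rec (fun _ => ℕ) rb4400 rb4401 (Nat.ble (nat_lit 4401) i)) (@Bool.rec (fun _ => ℕ) rb4402 rb4403 (Nat.ble (nat_lit 4403) i)) (Nat.ble (nat_lit 4402) i)) (@Bool.rec (fun _ => ℕ) (@Bool.rec (fun _ => ℕ) rb4404 rb4405 (Nat.ble (nat_lit 4405) i)) (@Bool.rec (fun _ => ℕ) rb4406 rb4407 (Nat.ble (nat_lit 4407) i)) (Nat.ble (nat_lit 4406) i)) (Nat.ble (nat_lit 4404) i)) (@Bool.rec (fun _ => ℕ) (@Bool.rec (fun _ => ℕ) (@Bool.rec (fun _ => ℕ) rb4408 rb4409 (Nat.ble (nat_lit 4409) i)) (@Bool.rec (fun _ => ℕ) rb4410 rb4411 (Nat.ble (nat_lit 4411) i)) (Nat.ble (nat_lit 4410) i)) (@Bool.rec (fun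 _ => ℕ) (@Bool.rec (fun _ => ℕ) rb4412 rb4413 (Nat.ble (nat_lit 4413) i)) (@Bool.rec (fun _ => ℕ) rb4414 rb4415 (Nat.ble (nat_lit 4415) i)) (Nat.ble (nat_lit 4414) i)) (Nat.ble (nat_lit 4412) i)) (Nat.ble (nat_lit 4408) i)) (Nat.ble (nat_lit 4400) i))

def rowBlk_n0_138 (i : ℕ) : ℕ := (@Bool.rec (fun _ => ℕ) (@Bool.rec (fun _ => ℕ) (@Bool.rec (fun _ => ℕ) (@Bool.rec (fun _ => ℕ) (@Bool.rec (fun _ => ℕ) rb4416 rb4417 (Nat.ble (nat_lit 4417) i)) (@Bool.rec (fun _ => ℕ) rb4418 rb4419 (Nat.ble (nat_lit 4419) i)) (Nat.ble (nat_lit 4418) i)) (@Bool.rec (fun _ => ℕ) (@Bool.rec (fun _ => ℕ) rb4420 rb4421 (Nat.ble (nat_lit 4421) i)) (@Bool.rec (fun _ => ℕ) rb4422 rb4423 (Nat.ble (nat_lit 4423) i)) (Nat.ble (nat_lit 4422) i)) (Nat.ble (nat_lit 4420) i)) (@Bool.rec (fun _ => ℕ) (@Bool.rec (fun _ => ℕ) (@Bool.rec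 (fun _ => ℕ) rb4424 rb4425 (Nat.ble (nat_lit 4425) i)) (@Bool.rec (fun _ => ℕ) rb4426 rb4427 (Nat.ble (nat_lit 4427) i)) (Nat.ble (nat_lit 4426) i)) (@Bool.rec (fun _ => ℕ) (@Bool.rec (fun _ => ℕ) rb4428 rb4429 (Nat.ble (nat_lit 4429) i)) (@Bool.rec (fun _ => ℕ) rb4430 rb4431 (Nat.ble (nat_lit 4431) i)) (Nat.ble (nat_lit 4430) i)) (Nat.ble (nat_lit 4428) i)) (Nat.ble (nat_lit 4424) i)) (@Bool.rec (fun _ => ℕ) (@Bool.rec (fun _ => ℕ) (@Bool.rec (fun _ => ℕ) (@Bool.rec (fun _ => ℕ) rb4432 rb4433 (Nat.ble (nat_lit 4433) i)) (@Bool.rec (fun _ => ℕ) rb4434 rb4435 (Nat.ble (nat_lit 4435) i)) (Nat.ble (nat_lit 4434) i)) (@Bool.rec (fun _ => ℕ) (@Bool.rec (fun _ => ℕ) rb4436 rb4437 (Nat.ble (nat_lit 4437) i)) (@Bool.rec (fun _ => ℕ) rb4438 rb4439 (Nat.ble (nat_lit 4439) i)) (Nat.ble (nat_lit 4438) i)) (Nat.ble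 (nat_lit 4436) i)) (@Bool.rec (fun _ => ℕ) (@Bool.rec (fun _ => ℕ) (@Bool.rec (fun _ => ℕ) rb4440 rb4441 (Nat.ble (nat_lit 4441) i)) (@Bool.rec (fun _ => ℕ) rb4442 rb4443 (Nat.ble (nat_lit 4443) i)) (Nat.ble (nat_lit 4442) i)) (@Bool.rec (fun _ => ℕ) (@Bool.rec (fun _ => ℕ) rb4444 rb4445 (Nat.ble (nat_lit 4445) i)) (@Bool.rec (fun _ => ℕ) rb4446 rb4447 (Nat.ble (nat_lit 4447) i)) (Nat.ble (nat_lit 4446) i)) (Nat.ble (nat_lit 4444) i)) (Nat.ble (nat_lit 4440) i)) (Nat.ble (nat_lit 4432) i))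

def rowBlk_n0_139 (i : ℕ) : ℕ := (@Bool.rec (fun _ => ℕ) (@Bool.rec (fun _ => ℕ) (@Bool.rec (fun _ => ℕ) (@Bool.rec (fun _ => ℕ) (@Bool.rec (fun _ => ℕ) rb4448 rb4449 (Nat.ble (nat_lit 4449) i)) (@Bool.rec (fun _ => ℕ) rb4450 rb4451 (Nat.ble (nat_lit 4451) i)) (Nat.ble (nat_lit 4450) i)) (@Bool.rec (fun _ => ℕ) (@Bool.rec (fun _ => ℕ) rb4452 rb4453 (Nat.ble (nat_lit 4453) i)) (@Bool.rec (fun _ => ℕ) rb4454 rb4455 (Nat.ble (nat_lit 4455) i)) (Nat.ble (nat_lit 4454) i)) (Nat.ble (nat_lit 4452) i)) (@Bool.rec (fun _ => ℕ) (@Bool.rec (fun _ => ℕ) (@Bool.rec (fun _ => ℕ) rb4456 rb4457 (Nat.ble (nat_lit 4457) i)) (@Bool.rec (fun _ => ℕ) rb4458 rb4459 (Nat.ble (nat_lit 4459) i)) (Nat.ble (nat_lit 4458) i)) (@Bool.rec (fun _ => ℕ) (@Bool.rec (fun _ => ℕ) rb4460 rb4461 (Nat.ble (nat_lit 4461) i)) (@Bool.rec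 (fun _ => ℕ) rb4462 rb4463 (Nat.ble (nat_lit 4463) i)) (Nat.ble (nat_lit 4462) i)) (Nat.ble (nat_lit 4460) i)) (Nat.ble (nat_lit 4456) i)) (@Bool.rec (fun _ => ℕ) (@Bool.rec (fun _ => ℕ) (@Bool.rec (fun _ => ℕ) (@Bool.rec (fun _ => ℕ) rb4464 rb4465 (Nat.ble (nat_lit 4465) i)) (@Bool.rec (fun _ => ℕ) rb4466 rb4467 (Nat.ble (nat_lit 4467) i)) (Nat.ble (nat_lit 4466) i)) (@Bool.rec (fun _ => ℕ) (@Bool.rec (fun _ => ℕ) rb4468 rb4469 (Nat.ble (nat_lit 4469) i)) (@Bool.rec (fun _ => ℕ) rb4470 rb4471 (Nat.ble (nat_lit 4471) i)) (Nat.ble (nat_lit 4470) i)) (Nat.ble (nat_lit 4468) i)) (@Bool.rec (fun _ => ℕ) (@Bool.rec (fun _ => ℕ) (@Bool.rec (fun _ => ℕ) rb4472 rb4473 (Nat.ble (nat_lit 4473) i)) (@Bool.rec (fun _ => ℕ) rb4474 rb4475 (Nat.ble (nat_lit 4475) i)) (Nat.ble (nat_lit 4474) i)) (@Bool.rec (fun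 _ => ℕ) (@Bool.rec (fun _ => ℕ) rb4476 rb4477 (Nat.ble (nat_lit 4477) i)) (@Bool.rec (fun _ => ℕ) rb4478 rb4479 (Nat.ble (nat_lit 4479) i)) (Nat.ble (nat_lit 4478) i)) (Nat.ble (nat_lit 4476) i)) (Nat.ble (nat_lit 4472) i)) (Nat.ble (nat_lit 4464) i))

def rowBlk_n0_140 (i : ℕ) : ℕ := (@Bool.rec (fun _ => ℕ) (@Bool.rec (fun _ => ℕ) (@Bool.rec (fun _ => ℕ) (@Bool.rec (fun _ => ℕ) (@Bool.rec (fun _ => ℕ) rb4480 rb4481 (Nat.ble (nat_lit 4481) i)) (@Bool.rec (fun _ => ℕ) rb4482 rb4483 (Nat.ble (nat_lit 4483) i)) (Nat.ble (nat_lit 4482) i)) (@Bool.rec (fun _ => ℕ) (@Bool.rec (fun _ => ℕ) rb4484 rb4485 (Nat.ble (nat_lit 4485) i)) (@Bool.rec (fun _ => ℕ) rb4486 rb4487 (Nat.ble (nat_lit 4487) i)) (Nat.ble (nat_lit 4486) i)) (Nat.ble (nat_lit 4484) i)) (@Bool.rec (fun _ => ℕ) (@Bool.rec (fun _ => ℕ) (@Bool.rec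 (fun _ => ℕ) rb4488 rb4489 (Nat.ble (nat_lit 4489) i)) (@Bool.rec (fun _ => ℕ) rb4490 rb4491 (Nat.ble (nat_lit 4491) i)) (Nat.ble (nat_lit 4490) i)) (@Bool.rec (fun _ => ℕ) (@Bool.rec (fun _ => ℕ) rb4492 rb4493 (Nat.ble (nat_lit 4493) i)) (@Bool.rec (fun _ => ℕ) rb4494 rb4495 (Nat.ble (nat_lit 4495) i)) (Nat.ble (nat_lit 4494) i)) (Nat.ble (nat_lit 4492) i)) (Nat.ble (nat_lit 4488) i)) (@Bool.rec (fun _ => ℕ) (@Bool.rec (fun _ => ℕ) (@Bool.rec (fun _ => ℕ) (@Bool.rec (fun _ => ℕ) rb4496 rb4497 (Nat.ble (nat_lit 4497) i)) (@Bool.rec (fun _ => ℕ) rb4498 rb4499 (Nat.ble (nat_lit 4499) i)) (Nat.ble (nat_lit 4498) i)) (@Bool.rec (fun _ => ℕ) (@Bool.rec (fun _ => ℕ) rb4500 rb4501 (Nat.ble (nat_lit 4501) i)) (@Bool.rec (fun _ => ℕ) rb4502 rb4503 (Nat.ble (nat_lit 4503) i)) (Nat.ble (nat_lit 4502) i)) (Nat.ble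 (nat_lit 4500) i)) (@Bool.rec (fun _ => ℕ) (@Bool.rec (fun _ => ℕ) (@Bool.rec (fun _ => ℕ) rb4504 rb4505 (Nat.ble (nat_lit 4505) i)) (@Bool.rec (fun _ => ℕ) rb4506 rb4507 (Nat.ble (nat_lit 4507) i)) (Nat.ble (nat_lit 4506) i)) (@Bool.rec (fun _ => ℕ) (@Bool.rec (fun _ => ℕ) rb4508 rb4509 (Nat.ble (nat_lit 4509) i)) (@Bool.rec (fun _ => ℕ) rb4510 rb4511 (Nat.ble (nat_lit 4511) i)) (Nat.ble (nat_lit 4510) i)) (Nat.ble (nat_lit 4508) i)) (Nat.ble (nat_lit 4504) i)) (Nat.ble (nat_lit 4496) i))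

def rowBlk_n0_141 (i : ℕ) : ℕ := (@Bool.rec (fun _ => ℕ) (@Bool.rec (fun _ => ℕ) (@Bool.rec (fun _ => ℕ) (@Bool.rec (fun _ => ℕ) (@Bool.rec (fun _ => ℕ) rb4512 rb4513 (Nat.ble (nat_lit 4513) i)) (@Bool.rec (fun _ => ℕ) rb4514 rb4515 (Nat.ble (nat_lit 4515) i)) (Nat.ble (nat_lit 4514) i)) (@Bool.rec (fun _ => ℕ) (@Bool.rec (fun _ => ℕ) rb4516 rb4517 (Nat.ble (nat_lit 4517) i)) (@Bool.rec (fun _ => ℕ) rb4518 rb4519 (Nat.ble (nat_lit 4519) i)) (Nat.ble (nat_lit 4518) i)) (Nat.ble (nat_lit 4516) i)) (@Bool.rec (fun _ => ℕ) (@Bool.rec (fun _ => ℕ) (@Bool.rec (fun _ => ℕ) rb4520 rb4521 (Nat.ble (nat_lit 4521) i)) (@Bool.rec (fun _ => ℕ) rb4522 rb4523 (Nat.ble (nat_lit 4523) i)) (Nat.ble (nat_lit 4522) i)) (@Bool.rec (fun _ => ℕ) (@Bool.rec (fun _ => ℕ) rb4524 rb4525 (Nat.ble (nat_lit 4525) i)) (@Bool.rec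 (fun _ => ℕ) rb4526 rb4527 (Nat.ble (nat_lit 4527) i)) (Nat.ble (nat_lit 4526) i)) (Nat.ble (nat_lit 4524) i)) (Nat.ble (nat_lit 4520) i)) (@Bool.rec (fun _ => ℕ) (@Bool.rec (fun _ => ℕ) (@Bool.rec (fun _ => ℕ) (@Bool.rec (fun _ => ℕ) rb4528 rb4529 (Nat.ble (nat_lit 4529) i)) (@Bool.rec (fun _ => ℕ) rb4530 rb4531 (Nat.ble (nat_lit 4531) i)) (Nat.ble (nat_lit 4530) i)) (@Bool.rec (fun _ => ℕ) (@Bool.rec (fun _ => ℕ) rb4532 rb4533 (Nat.ble (nat_lit 4533) i)) (@Bool.rec (fun _ => ℕ) rb4534 rb4535 (Nat.ble (nat_lit 4535) i)) (Nat.ble (nat_lit 4534) i)) (Nat.ble (nat_lit 4532) i)) (@Bool.rec (fun _ => ℕ) (@Bool.rec (fun _ => ℕ) (@Bool.rec (fun _ => ℕ) rb4536 rb4537 (Nat.ble (nat_lit 4537) i)) (@Bool.rec (fun _ => ℕ) rb4538 rb4539 (Nat.ble (nat_lit 4539) i)) (Nat.ble (nat_lit 4538) i)) (@Bool.rec (fun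 _ => ℕ) (@Bool.rec (fun _ => ℕ) rb4540 rb4541 (Nat.ble (nat_lit 4541) i)) (@Bool.rec (fun _ => ℕ) rb4542 rb4543 (Nat.ble (nat_lit 4543) i)) (Nat.ble (nat_lit 4542) i)) (Nat.ble (nat_lit 4540) i)) (Nat.ble (nat_lit 4536) i)) (Nat.ble (nat_lit 4528) i))

def rowBlk_n0_142 (i : ℕ) : ℕ := (@Bool.rec (fun _ => ℕ) (@Bool.rec (fun _ => ℕ) (@Bool.rec (fun _ => ℕ) (@Bool.rec (fun _ => ℕ) (@Bool.rec (fun _ => ℕ) rb4544 rb4545 (Nat.ble (nat_lit 4545) i)) (@Bool.rec (fun _ => ℕ) rb4546 rb4547 (Nat.ble (nat_lit 4547) i)) (Nat.ble (nat_lit 4546) i)) (@Bool.rec (fun _ => ℕ) (@Bool.rec (fun _ => ℕ) rb4548 rb4549 (Nat.ble (nat_lit 4549) i)) (@Bool.rec (fun _ => ℕ) rb4550 rb4551 (Nat.ble (nat_lit 4551) i)) (Nat.ble (nat_lit 4550) i)) (Nat.ble (nat_lit 4548) i)) (@Bool.rec (fun _ => ℕ) (@Bool.rec (fun _ => ℕ) (@Bool.rec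 (fun _ => ℕ) rb4552 rb4553 (Nat.ble (nat_lit 4553) i)) (@Bool.rec (fun _ => ℕ) rb4554 rb4555 (Nat.ble (nat_lit 4555) i)) (Nat.ble (nat_lit 4554) i)) (@Bool.rec (fun _ => ℕ) (@Bool.rec (fun _ => ℕ) rb4556 rb4557 (Nat.ble (nat_lit 4557) i)) (@Bool.rec (fun _ => ℕ) rb4558 rb4559 (Nat.ble (nat_lit 4559) i)) (Nat.ble (nat_lit 4558) i)) (Nat.ble (nat_lit 4556) i)) (Nat.ble (nat_lit 4552) i)) (@Bool.rec (fun _ => ℕ) (@Bool.rec (fun _ => ℕ) (@Bool.rec (fun _ => ℕ) (@Bool.rec (fun _ => ℕ) rb4560 rb4561 (Nat.ble (nat_lit 4561) i)) (@Bool.rec (fun _ => ℕ) rb4562 rb4563 (Nat.ble (nat_lit 4563) i)) (Nat.ble (nat_lit 4562) i)) (@Bool.rec (fun _ => ℕ) (@Bool.rec (fun _ => ℕ) rb4564 rb4565 (Nat.ble (nat_lit 4565) i)) (@Bool.rec (fun _ => ℕ) rb4566 rb4567 (Nat.ble (nat_lit 4567) i)) (Nat.ble (nat_lit 4566) i)) (Nat.ble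 (nat_lit 4564) i)) (@Bool.rec (fun _ => ℕ) (@Bool.rec (fun _ => ℕ) (@Bool.rec (fun _ => ℕ) rb4568 rb4569 (Nat.ble (nat_lit 4569) i)) (@Bool.rec (fun _ => ℕ) rb4570 rb4571 (Nat.ble (nat_lit 4571) i)) (Nat.ble (nat_lit 4570) i)) (@Bool.rec (fun _ => ℕ) (@Bool.rec (fun _ => ℕ) rb4572 rb4573 (Nat.ble (nat_lit 4573) i)) (@Bool.rec (fun _ => ℕ) rb4574 rb4575 (Nat.ble (nat_lit 4575) i)) (Nat.ble (nat_lit 4574) i)) (Nat.ble (nat_lit 4572) i)) (Nat.ble (nat_lit 4568) i)) (Nat.ble (nat_lit 4560) i))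

def rowBlk_n0_143 (i : ℕ) : ℕ := (@Bool.rec (fun _ => ℕ) (@Bool.rec (fun _ => ℕ) (@Bool.rec (fun _ => ℕ) (@Bool.rec (fun _ => ℕ) (@Bool.rec (fun _ => ℕ) rb4576 rb4577 (Nat.ble (nat_lit 4577) i)) (@Bool.rec (fun _ => ℕ) rb4578 rb4579 (Nat.ble (nat_lit 4579) i)) (Nat.ble (nat_lit 4578) i)) (@Bool.rec (fun _ => ℕ) (@Bool.rec (fun _ => ℕ) rb4580 rb4581 (Nat.ble (nat_lit 4581) i)) (@Bool.rec (fun _ => ℕ) rb4582 rb4583 (Nat.ble (nat_lit 4583) i)) (Nat.ble (nat_lit 4582) i)) (Nat.ble (nat_lit 4580) i)) (@Bool.rec (fun _ => ℕ) (@Bool.rec (fun _ => ℕ) (@Bool.rec (fun _ => ℕ) rb4584 rb4585 (Nat.ble (nat_lit 4585) i)) (@Bool.rec (fun _ => ℕ) rb4586 rb4587 (Nat.ble (nat_lit 4587) i)) (Nat.ble (nat_lit 4586) i)) (@Bool.rec (fun _ => ℕ) (@Bool.rec (fun _ => ℕ) rb4588 rb4589 (Nat.ble (nat_lit 4589) i)) (@Bool.rec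 (fun _ => ℕ) rb4590 rb4591 (Nat.ble (nat_lit 4591) i)) (Nat.ble (nat_lit 4590) i)) (Nat.ble (nat_lit 4588) i)) (Nat.ble (nat_lit 4584) i)) (@Bool.rec (fun _ => ℕ) (@Bool.rec (fun _ => ℕ) (@Bool.rec (fun _ => ℕ) (@Bool.rec (fun _ => ℕ) rb4592 rb4593 (Nat.ble (nat_lit 4593) i)) (@Bool.rec (fun _ => ℕ) rb4594 rb4595 (Nat.ble (nat_lit 4595) i)) (Nat.ble (nat_lit 4594) i)) (@Bool.rec (fun _ => ℕ) (@Bool.rec (fun _ => ℕ) rb4596 rb4597 (Nat.ble (nat_lit 4597) i)) (@Bool.rec (fun _ => ℕ) rb4598 rb4599 (Nat.ble (nat_lit 4599) i)) (Nat.ble (nat_lit 4598) i)) (Nat.ble (nat_lit 4596) i)) (@Bool.rec (fun _ => ℕ) (@Bool.rec (fun _ => ℕ) (@Bool.rec (fun _ => ℕ) rb4600 rb4601 (Nat.ble (nat_lit 4601) i)) (@Bool.rec (fun _ => ℕ) rb4602 rb4603 (Nat.ble (nat_lit 4603) i)) (Nat.ble (nat_lit 4602) i)) (@Bool.rec (fun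 _ => ℕ) (@Bool.rec (fun _ => ℕ) rb4604 rb4605 (Nat.ble (nat_lit 4605) i)) (@Bool.rec (fun _ => ℕ) rb4606 rb4607 (Nat.ble (nat_lit 4607) i)) (Nat.ble (nat_lit 4606) i)) (Nat.ble (nat_lit 4604) i)) (Nat.ble (nat_lit 4600) i)) (Nat.ble (nat_lit 4592) i))

def rowBlk_n0_144 (i : ℕ) : ℕ := (@Bool.rec (fun _ => ℕ) (@Bool.rec (fun _ => ℕ) (@Bool.rec (fun _ => ℕ) (@Bool.rec (fun _ => ℕ) (@Bool.rec (fun _ => ℕ) rb4608 rb4609 (Nat.ble (nat_lit 4609) i)) (@Bool.rec (fun _ => ℕ) rb4610 rb4611 (Nat.ble (nat_lit 4611) i)) (Nat.ble (nat_lit 4610) i)) (@Bool.rec (fun _ => ℕ) (@Bool.rec (fun _ => ℕ) rb4612 rb4613 (Nat.ble (nat_lit 4613) i)) (@Bool.rec (fun _ => ℕ) rb4614 rb4615 (Nat.ble (nat_lit 4615) i)) (Nat.ble (nat_lit 4614) i)) (Nat.ble (nat_lit 4612) i)) (@Bool.rec (fun _ => ℕ) (@Bool.rec (fun _ => ℕ) (@Bool.rec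 (fun _ => ℕ) rb4616 rb4617 (Nat.ble (nat_lit 4617) i)) (@Bool.rec (fun _ => ℕ) rb4618 rb4619 (Nat.ble (nat_lit 4619) i)) (Nat.ble (nat_lit 4618) i)) (@Bool.rec (fun _ => ℕ) (@Bool.rec (fun _ => ℕ) rb4620 rb4621 (Nat.ble (nat_lit 4621) i)) (@Bool.rec (fun _ => ℕ) rb4622 rb4623 (Nat.ble (nat_lit 4623) i)) (Nat.ble (nat_lit 4622) i)) (Nat.ble (nat_lit 4620) i)) (Nat.ble (nat_lit 4616) i)) (@Bool.rec (fun _ => ℕ) (@Bool.rec (fun _ => ℕ) (@Bool.rec (fun _ => ℕ) (@Bool.rec (fun _ => ℕ) rb4624 rb4625 (Nat.ble (nat_lit 4625) i)) (@Bool.rec (fun _ => ℕ) rb4626 rb4627 (Nat.ble (nat_lit 4627) i)) (Nat.ble (nat_lit 4626) i)) (@Bool.rec (fun _ => ℕ) (@Bool.rec (fun _ => ℕ) rb4628 rb4629 (Nat.ble (nat_lit 4629) i)) (@Bool.rec (fun _ => ℕ) rb4630 rb4631 (Nat.ble (nat_lit 4631) i)) (Nat.ble (nat_lit 4630) i)) (Nat.ble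 (nat_lit 4628) i)) (@Bool.rec (fun _ => ℕ) (@Bool.rec (fun _ => ℕ) (@Bool.rec (fun _ => ℕ) rb4632 rb4633 (Nat.ble (nat_lit 4633) i)) (@Bool.rec (fun _ => ℕ) rb4634 rb4635 (Nat.ble (nat_lit 4635) i)) (Nat.ble (nat_lit 4634) i)) (@Bool.rec (fun _ => ℕ) (@Bool.rec (fun _ => ℕ) rb4636 rb4637 (Nat.ble (nat_lit 4637) i)) (@Bool.rec (fun _ => ℕ) rb4638 rb4639 (Nat.ble (nat_lit 4639) i)) (Nat.ble (nat_lit 4638) i)) (Nat.ble (nat_lit 4636) i)) (Nat.ble (nat_lit 4632) i)) (Nat.ble (nat_lit 4624) i))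

def rowBlk_n0_145 (i : ℕ) : ℕ := (@Bool.rec (fun _ => ℕ) (@Bool.rec (fun _ => ℕ) (@Bool.rec (fun _ => ℕ) (@Bool.rec (fun _ => ℕ) (@Bool.rec (fun _ => ℕ) rb4640 rb4641 (Nat.ble (nat_lit 4641) i)) (@Bool.rec (fun _ => ℕ) rb4642 rb4643 (Nat.ble (nat_lit 4643) i)) (Nat.ble (nat_lit 4642) i)) (@Bool.rec (fun _ => ℕ) (@Bool.rec (fun _ => ℕ) rb4644 rb4645 (Nat.ble (nat_lit 4645) i)) (@Bool.rec (fun _ => ℕ) rb4646 rb4647 (Nat.ble (nat_lit 4647) i)) (Nat.ble (nat_lit 4646) i)) (Nat.ble (nat_lit 4644) i)) (@Bool.rec (fun _ => ℕ) (@Bool.rec (fun _ => ℕ) (@Bool.rec (fun _ => ℕ) rb4648 rb4649 (Nat.ble (nat_lit 4649) i)) (@Bool.rec (fun _ => ℕ) rb4650 rb4651 (Nat.ble (nat_lit 4651) i)) (Nat.ble (nat_lit 4650) i)) (@Bool.rec (fun _ => ℕ) (@Bool.rec (fun _ => ℕ) rb4652 rb4653 (Nat.ble (nat_lit 4653) i)) (@Bool.rec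 (fun _ => ℕ) rb4654 rb4655 (Nat.ble (nat_lit 4655) i)) (Nat.ble (nat_lit 4654) i)) (Nat.ble (nat_lit 4652) i)) (Nat.ble (nat_lit 4648) i)) (@Bool.rec (fun _ => ℕ) (@Bool.rec (fun _ => ℕ) (@Bool.rec (fun _ => ℕ) (@Bool.rec (fun _ => ℕ) rb4656 rb4657 (Nat.ble (nat_lit 4657) i)) (@Bool.rec (fun _ => ℕ) rb4658 rb4659 (Nat.ble (nat_lit 4659) i)) (Nat.ble (nat_lit 4658) i)) (@Bool.rec (fun _ => ℕ) (@Bool.rec (fun _ => ℕ) rb4660 rb4661 (Nat.ble (nat_lit 4661) i)) (@Bool.rec (fun _ => ℕ) rb4662 rb4663 (Nat.ble (nat_lit 4663) i)) (Nat.ble (nat_lit 4662) i)) (Nat.ble (nat_lit 4660) i)) (@Bool.rec (fun _ => ℕ) (@Bool.rec (fun _ => ℕ) (@Bool.rec (fun _ => ℕ) rb4664 rb4665 (Nat.ble (nat_lit 4665) i)) (@Bool.rec (fun _ => ℕ) rb4666 rb4667 (Nat.ble (nat_lit 4667) i)) (Nat.ble (nat_lit 4666) i)) (@Bool.rec (fun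 _ => ℕ) (@Bool.rec (fun _ => ℕ) rb4668 rb4669 (Nat.ble (nat_lit 4669) i)) (@Bool.rec (fun _ => ℕ) rb4670 rb4671 (Nat.ble (nat_lit 4671) i)) (Nat.ble (nat_lit 4670) i)) (Nat.ble (nat_lit 4668) i)) (Nat.ble (nat_lit 4664) i)) (Nat.ble (nat_lit 4656) i))

def rowBlk_n0_146 (i : ℕ) : ℕ := (@Bool.rec (fun _ => ℕ) (@Bool.rec (fun _ => ℕ) (@Bool.rec (fun _ => ℕ) (@Bool.rec (fun _ => ℕ) (@Bool.rec (fun _ => ℕ) rb4672 rb4673 (Nat.ble (nat_lit 4673) i)) (@Bool.rec (fun _ => ℕ) rb4674 rb4675 (Nat.ble (nat_lit 4675) i)) (Nat.ble (nat_lit 4674) i)) (@Bool.rec (fun _ => ℕ) (@Bool.rec (fun _ => ℕ) rb4676 rb4677 (Nat.ble (nat_lit 4677) i)) (@Bool.rec (fun _ => ℕ) rb4678 rb4679 (Nat.ble (nat_lit 4679) i)) (Nat.ble (nat_lit 4678) i)) (Nat.ble (nat_lit 4676) i)) (@Bool.rec (fun _ => ℕ) (@Bool.rec (fun _ => ℕ) (@Bool.rec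 (fun _ => ℕ) rb4680 rb4681 (Nat.ble (nat_lit 4681) i)) (@Bool.rec (fun _ => ℕ) rb4682 rb4683 (Nat.ble (nat_lit 4683) i)) (Nat.ble (nat_lit 4682) i)) (@Bool.rec (fun _ => ℕ) (@Bool.rec (fun _ => ℕ) rb4684 rb4685 (Nat.ble (nat_lit 4685) i)) (@Bool.rec (fun _ => ℕ) rb4686 rb4687 (Nat.ble (nat_lit 4687) i)) (Nat.ble (nat_lit 4686) i)) (Nat.ble (nat_lit 4684) i)) (Nat.ble (nat_lit 4680) i)) (@Bool.rec (fun _ => ℕ) (@Bool.rec (fun _ => ℕ) (@Bool.rec (fun _ => ℕ) (@Bool.rec (fun _ => ℕ) rb4688 rb4689 (Nat.ble (nat_lit 4689) i)) (@Bool.rec (fun _ => ℕ) rb4690 rb4691 (Nat.ble (nat_lit 4691) i)) (Nat.ble (nat_lit 4690) i)) (@Bool.rec (fun _ => ℕ) (@Bool.rec (fun _ => ℕ) rb4692 rb4693 (Nat.ble (nat_lit 4693) i)) (@Bool.rec (fun _ => ℕ) rb4694 rb4695 (Nat.ble (nat_lit 4695) i)) (Nat.ble (nat_lit 4694) i)) (Nat.ble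 (nat_lit 4692) i)) (@Bool.rec (fun _ => ℕ) (@Bool.rec (fun _ => ℕ) (@Bool.rec (fun _ => ℕ) rb4696 rb4697 (Nat.ble (nat_lit 4697) i)) (@Bool.rec (fun _ => ℕ) rb4698 rb4699 (Nat.ble (nat_lit 4699) i)) (Nat.ble (nat_lit 4698) i)) (@Bool.rec (fun _ => ℕ) (@Bool.rec (fun _ => ℕ) rb4700 rb4701 (Nat.ble (nat_lit 4701) i)) (@Bool.rec (fun _ => ℕ) rb4702 rb4703 (Nat.ble (nat_lit 4703) i)) (Nat.ble (nat_lit 4702) i)) (Nat.ble (nat_lit 4700) i)) (Nat.ble (nat_lit 4696) i)) (Nat.ble (nat_lit 4688) i))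

def rowBlk_n0_147 (i : ℕ) : ℕ := (@Bool.rec (fun _ => ℕ) (@Bool.rec (fun _ => ℕ) (@Bool.rec (fun _ => ℕ) (@Bool.rec (fun _ => ℕ) (@Bool.rec (fun _ => ℕ) rb4704 rb4705 (Nat.ble (nat_lit 4705) i)) (@Bool.rec (fun _ => ℕ) rb4706 rb4707 (Nat.ble (nat_lit 4707) i)) (Nat.ble (nat_lit 4706) i)) (@Bool.rec (fun _ => ℕ) (@Bool.rec (fun _ => ℕ) rb4708 rb4709 (Nat.ble (nat_lit 4709) i)) (@Bool.rec (fun _ => ℕ) rb4710 rb4711 (Nat.ble (nat_lit 4711) i)) (Nat.ble (nat_lit 4710) i)) (Nat.ble (nat_lit 4708) i)) (@Bool.rec (fun _ => ℕ) (@Bool.rec (fun _ => ℕ) (@Bool.rec (fun _ => ℕ) rb4712 rb4713 (Nat.ble (nat_lit 4713) i)) (@Bool.rec (fun _ => ℕ) rb4714 rb4715 (Nat.ble (nat_lit 4715) i)) (Nat.ble (nat_lit 4714) i)) (@Bool.rec (fun _ => ℕ) (@Bool.rec (fun _ => ℕ) rb4716 rb4717 (Nat.ble (nat_lit 4717) i)) (@Bool.rec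 (fun _ => ℕ) rb4718 rb4719 (Nat.ble (nat_lit 4719) i)) (Nat.ble (nat_lit 4718) i)) (Nat.ble (nat_lit 4716) i)) (Nat.ble (nat_lit 4712) i)) (@Bool.rec (fun _ => ℕ) (@Bool.rec (fun _ => ℕ) (@Bool.rec (fun _ => ℕ) (@Bool.rec (fun _ => ℕ) rb4720 rb4721 (Nat.ble (nat_lit 4721) i)) (@Bool.rec (fun _ => ℕ) rb4722 rb4723 (Nat.ble (nat_lit 4723) i)) (Nat.ble (nat_lit 4722) i)) (@Bool.rec (fun _ => ℕ) (@Bool.rec (fun _ => ℕ) rb4724 rb4725 (Nat.ble (nat_lit 4725) i)) (@Bool.rec (fun _ => ℕ) rb4726 rb4727 (Nat.ble (nat_lit 4727) i)) (Nat.ble (nat_lit 4726) i)) (Nat.ble (nat_lit 4724) i)) (@Bool.rec (fun _ => ℕ) (@Bool.rec (fun _ => ℕ) (@Bool.rec (fun _ => ℕ) rb4728 rb4729 (Nat.ble (nat_lit 4729) i)) (@Bool.rec (fun _ => ℕ) rb4730 rb4731 (Nat.ble (nat_lit 4731) i)) (Nat.ble (nat_lit 4730) i)) (@Bool.rec (fun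 _ => ℕ) (@Bool.rec (fun _ => ℕ) rb4732 rb4733 (Nat.ble (nat_lit 4733) i)) (@Bool.rec (fun _ => ℕ) rb4734 rb4735 (Nat.ble (nat_lit 4735) i)) (Nat.ble (nat_lit 4734) i)) (Nat.ble (nat_lit 4732) i)) (Nat.ble (nat_lit 4728) i)) (Nat.ble (nat_lit 4720) i))

def rowBlk_n0_148 (i : ℕ) : ℕ := (@Bool.rec (fun _ => ℕ) (@Bool.rec (fun _ => ℕ) (@Bool.rec (fun _ => ℕ) (@Bool.rec (fun _ => ℕ) (@Bool.rec (fun _ => ℕ) rb4736 rb4737 (Nat.ble (nat_lit 4737) i)) (@Bool.rec (fun _ => ℕ) rb4738 rb4739 (Nat.ble (nat_lit 4739) i)) (Nat.ble (nat_lit 4738) i)) (@Bool.rec (fun _ => ℕ) (@Bool.rec (fun _ => ℕ) rb4740 rb4741 (Nat.ble (nat_lit 4741) i)) (@Bool.rec (fun _ => ℕ) rb4742 rb4743 (Nat.ble (nat_lit 4743) i)) (Nat.ble (nat_lit 4742) i)) (Nat.ble (nat_lit 4740) i)) (@Bool.rec (fun _ => ℕ) (@Bool.rec (fun _ => ℕ) (@Bool.rec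 (fun _ => ℕ) rb4744 rb4745 (Nat.ble (nat_lit 4745) i)) (@Bool.rec (fun _ => ℕ) rb4746 rb4747 (Nat.ble (nat_lit 4747) i)) (Nat.ble (nat_lit 4746) i)) (@Bool.rec (fun _ => ℕ) (@Bool.rec (fun _ => ℕ) rb4748 rb4749 (Nat.ble (nat_lit 4749) i)) (@Bool.rec (fun _ => ℕ) rb4750 rb4751 (Nat.ble (nat_lit 4751) i)) (Nat.ble (nat_lit 4750) i)) (Nat.ble (nat_lit 4748) i)) (Nat.ble (nat_lit 4744) i)) (@Bool.rec (fun _ => ℕ) (@Bool.rec (fun _ => ℕ) (@Bool.rec (fun _ => ℕ) (@Bool.rec (fun _ => ℕ) rb4752 rb4753 (Nat.ble (nat_lit 4753) i)) (@Bool.rec (fun _ => ℕ) rb4754 rb4755 (Nat.ble (nat_lit 4755) i)) (Nat.ble (nat_lit 4754) i)) (@Bool.rec (fun _ => ℕ) (@Bool.rec (fun _ => ℕ) rb4756 rb4757 (Nat.ble (nat_lit 4757) i)) (@Bool.rec (fun _ => ℕ) rb4758 rb4759 (Nat.ble (nat_lit 4759) i)) (Nat.ble (nat_lit 4758) i)) (Nat.ble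 (nat_lit 4756) i)) (@Bool.rec (fun _ => ℕ) (@Bool.rec (fun _ => ℕ) (@Bool.rec (fun _ => ℕ) rb4760 rb4761 (Nat.ble (nat_lit 4761) i)) (@Bool.rec (fun _ => ℕ) rb4762 rb4763 (Nat.ble (nat_lit 4763) i)) (Nat.ble (nat_lit 4762) i)) (@Bool.rec (fun _ => ℕ) (@Bool.rec (fun _ => ℕ) rb4764 rb4765 (Nat.ble (nat_lit 4765) i)) (@Bool.rec (fun _ => ℕ) rb4766 rb4767 (Nat.ble (nat_lit 4767) i)) (Nat.ble (nat_lit 4766) i)) (Nat.ble (nat_lit 4764) i)) (Nat.ble (nat_lit 4760) i)) (Nat.ble (nat_lit 4752) i))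

def rowBlk_n0_149 (i : ℕ) : ℕ := (@Bool.rec (fun _ => ℕ) (@Bool.rec (fun _ => ℕ) (@Bool.rec (fun _ => ℕ) (@Bool.rec (fun _ => ℕ) (@Bool.rec (fun _ => ℕ) rb4768 rb4769 (Nat.ble (nat_lit 4769) i)) (@Bool.rec (fun _ => ℕ) rb4770 rb4771 (Nat.ble (nat_lit 4771) i)) (Nat.ble (nat_lit 4770) i)) (@Bool.rec (fun _ => ℕ) (@Bool.rec (fun _ => ℕ) rb4772 rb4773 (Nat.ble (nat_lit 4773) i)) (@Bool.rec (fun _ => ℕ) rb4774 rb4775 (Nat.ble (nat_lit 4775) i)) (Nat.ble (nat_lit 4774) i)) (Nat.ble (nat_lit 4772) i)) (@Bool.rec (fun _ => ℕ) (@Bool.rec (fun _ => ℕ) (@Bool.rec (fun _ => ℕ) rb4776 rb4777 (Nat.ble (nat_lit 4777) i)) (@Bool.rec (fun _ => ℕ) rb4778 rb4779 (Nat.ble (nat_lit 4779) i)) (Nat.ble (nat_lit 4778) i)) (@Bool.rec (fun _ => ℕ) (@Bool.rec (fun _ => ℕ) rb4780 rb4781 (Nat.ble (nat_lit 4781) i)) (@Bool.rec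 (fun _ => ℕ) rb4782 rb4783 (Nat.ble (nat_lit 4783) i)) (Nat.ble (nat_lit 4782) i)) (Nat.ble (nat_lit 4780) i)) (Nat.ble (nat_lit 4776) i)) (@Bool.rec (fun _ => ℕ) (@Bool.rec (fun _ => ℕ) (@Bool.rec (fun _ => ℕ) (@Bool.rec (fun _ => ℕ) rb4784 rb4785 (Nat.ble (nat_lit 4785) i)) (@Bool.rec (fun _ => ℕ) rb4786 rb4787 (Nat.ble (nat_lit 4787) i)) (Nat.ble (nat_lit 4786) i)) (@Bool.rec (fun _ => ℕ) (@Bool.rec (fun _ => ℕ) rb4788 rb4789 (Nat.ble (nat_lit 4789) i)) (@Bool.rec (fun _ => ℕ) rb4790 rb4791 (Nat.ble (nat_lit 4791) i)) (Nat.ble (nat_lit 4790) i)) (Nat.ble (nat_lit 4788) i)) (@Bool.rec (fun _ => ℕ) (@Bool.rec (fun _ => ℕ) (@Bool.rec (fun _ => ℕ) rb4792 rb4793 (Nat.ble (nat_lit 4793) i)) (@Bool.rec (fun _ => ℕ) rb4794 rb4795 (Nat.ble (nat_lit 4795) i)) (Nat.ble (nat_lit 4794) i)) (@Bool.rec (fun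 _ => ℕ) (@Bool.rec (fun _ => ℕ) rb4796 rb4797 (Nat.ble (nat_lit 4797) i)) (@Bool.rec (fun _ => ℕ) rb4798 rb4799 (Nat.ble (nat_lit 4799) i)) (Nat.ble (nat_lit 4798) i)) (Nat.ble (nat_lit 4796) i)) (Nat.ble (nat_lit 4792) i)) (Nat.ble (nat_lit 4784) i))

def rowBlk_n0_150 (i : ℕ) : ℕ := (@Bool.rec (fun _ => ℕ) (@Bool.rec (fun _ => ℕ) (@Bool.rec (fun _ => ℕ) (@Bool.rec (fun _ => ℕ) (@Bool.rec (fun _ => ℕ) rb4800 rb4801 (Nat.ble (nat_lit 4801) i)) (@Bool.rec (fun _ => ℕ) rb4802 rb4803 (Nat.ble (nat_lit 4803) i)) (Nat.ble (nat_lit 4802) i)) (@Bool.rec (fun _ => ℕ) (@Bool.rec (fun _ => ℕ) rb4804 rb4805 (Nat.ble (nat_lit 4805) i)) (@Bool.rec (fun _ => ℕ) rb4806 rb4807 (Nat.ble (nat_lit 4807) i)) (Nat.ble (nat_lit 4806) i)) (Nat.ble (nat_lit 4804) i)) (@Bool.rec (fun _ => ℕ) (@Bool.rec (fun _ => ℕ) (@Bool.rec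 (fun _ => ℕ) rb4808 rb4809 (Nat.ble (nat_lit 4809) i)) (@Bool.rec (fun _ => ℕ) rb4810 rb4811 (Nat.ble (nat_lit 4811) i)) (Nat.ble (nat_lit 4810) i)) (@Bool.rec (fun _ => ℕ) (@Bool.rec (fun _ => ℕ) rb4812 rb4813 (Nat.ble (nat_lit 4813) i)) (@Bool.rec (fun _ => ℕ) rb4814 rb4815 (Nat.ble (nat_lit 4815) i)) (Nat.ble (nat_lit 4814) i)) (Nat.ble (nat_lit 4812) i)) (Nat.ble (nat_lit 4808) i)) (@Bool.rec (fun _ => ℕ) (@Bool.rec (fun _ => ℕ) (@Bool.rec (fun _ => ℕ) (@Bool.rec (fun _ => ℕ) rb4816 rb4817 (Nat.ble (nat_lit 4817) i)) (@Bool.rec (fun _ => ℕ) rb4818 rb4819 (Nat.ble (nat_lit 4819) i)) (Nat.ble (nat_lit 4818) i)) (@Bool.rec (fun _ => ℕ) (@Bool.rec (fun _ => ℕ) rb4820 rb4821 (Nat.ble (nat_lit 4821) i)) (@Bool.rec (fun _ => ℕ) rb4822 rb4823 (Nat.ble (nat_lit 4823) i)) (Nat.ble (nat_lit 4822) i)) (Nat.ble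 (nat_lit 4820) i)) (@Bool.rec (fun _ => ℕ) (@Bool.rec (fun _ => ℕ) (@Bool.rec (fun _ => ℕ) rb4824 rb4825 (Nat.ble (nat_lit 4825) i)) (@Bool.rec (fun _ => ℕ) rb4826 rb4827 (Nat.ble (nat_lit 4827) i)) (Nat.ble (nat_lit 4826) i)) (@Bool.rec (fun _ => ℕ) (@Bool.rec (fun _ => ℕ) rb4828 rb4829 (Nat.ble (nat_lit 4829) i)) (@Bool.rec (fun _ => ℕ) rb4830 rb4831 (Nat.ble (nat_lit 4831) i)) (Nat.ble (nat_lit 4830) i)) (Nat.ble (nat_lit 4828) i)) (Nat.ble (nat_lit 4824) i)) (Nat.ble (nat_lit 4816) i))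

def rowBlk_n0_151 (i : ℕ) : ℕ := (@Bool.rec (fun _ => ℕ) (@Bool.rec (fun _ => ℕ) (@Bool.rec (fun _ => ℕ) (@Bool.rec (fun _ => ℕ) (@Bool.rec (fun _ => ℕ) rb4832 rb4833 (Nat.ble (nat_lit 4833) i)) (@Bool.rec (fun _ => ℕ) rb4834 rb4835 (Nat.ble (nat_lit 4835) i)) (Nat.ble (nat_lit 4834) i)) (@Bool.rec (fun _ => ℕ) (@Bool.rec (fun _ => ℕ) rb4836 rb4837 (Nat.ble (nat_lit 4837) i)) (@Bool.rec (fun _ => ℕ) rb4838 rb4839 (Nat.ble (nat_lit 4839) i)) (Nat.ble (nat_lit 4838) i)) (Nat.ble (nat_lit 4836) i)) (@Bool.rec (fun _ => ℕ) (@Bool.rec (fun _ => ℕ) (@Bool.rec (fun _ => ℕ) rb4840 rb4841 (Nat.ble (nat_lit 4841) i)) (@Bool.rec (fun _ => ℕ) rb4842 rb4843 (Nat.ble (nat_lit 4843) i)) (Nat.ble (nat_lit 4842) i)) (@Bool.rec (fun _ => ℕ) (@Bool.rec (fun _ => ℕ) rb4844 rb4845 (Nat.ble (nat_lit 4845) i)) (@Bool.rec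 (fun _ => ℕ) rb4846 rb4847 (Nat.ble (nat_lit 4847) i)) (Nat.ble (nat_lit 4846) i)) (Nat.ble (nat_lit 4844) i)) (Nat.ble (nat_lit 4840) i)) (@Bool.rec (fun _ => ℕ) (@Bool.rec (fun _ => ℕ) (@Bool.rec (fun _ => ℕ) (@Bool.rec (fun _ => ℕ) rb4848 rb4849 (Nat.ble (nat_lit 4849) i)) (@Bool.rec (fun _ => ℕ) rb4850 rb4851 (Nat.ble (nat_lit 4851) i)) (Nat.ble (nat_lit 4850) i)) (@Bool.rec (fun _ => ℕ) (@Bool.rec (fun _ => ℕ) rb4852 rb4853 (Nat.ble (nat_lit 4853) i)) (@Bool.rec (fun _ => ℕ) rb4854 rb4855 (Nat.ble (nat_lit 4855) i)) (Nat.ble (nat_lit 4854) i)) (Nat.ble (nat_lit 4852) i)) (@Bool.rec (fun _ => ℕ) (@Bool.rec (fun _ => ℕ) (@Bool.rec (fun _ => ℕ) rb4856 rb4857 (Nat.ble (nat_lit 4857) i)) (@Bool.rec (fun _ => ℕ) rb4858 rb4859 (Nat.ble (nat_lit 4859) i)) (Nat.ble (nat_lit 4858) i)) (@Bool.rec (fun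 _ => ℕ) (@Bool.rec (fun _ => ℕ) rb4860 rb4861 (Nat.ble (nat_lit 4861) i)) (@Bool.rec (fun _ => ℕ) rb4862 rb4863 (Nat.ble (nat_lit 4863) i)) (Nat.ble (nat_lit 4862) i)) (Nat.ble (nat_lit 4860) i)) (Nat.ble (nat_lit 4856) i)) (Nat.ble (nat_lit 4848) i))

def rowBlk_n0_152 (i : ℕ) : ℕ := (@Bool.rec (fun _ => ℕ) (@Bool.rec (fun _ => ℕ) (@Bool.rec (fun _ => ℕ) (@Bool.rec (fun _ => ℕ) (@Bool.rec (fun _ => ℕ) rb4864 rb4865 (Nat.ble (nat_lit 4865) i)) (@Bool.rec (fun _ => ℕ) rb4866 rb4867 (Nat.ble (nat_lit 4867) i)) (Nat.ble (nat_lit 4866) i)) (@Bool.rec (fun _ => ℕ) (@Bool.rec (fun _ => ℕ) rb4868 rb4869 (Nat.ble (nat_lit 4869) i)) (@Bool.rec (fun _ => ℕ) rb4870 rb4871 (Nat.ble (nat_lit 4871) i)) (Nat.ble (nat_lit 4870) i)) (Nat.ble (nat_lit 4868) i)) (@Bool.rec (fun _ => ℕ) (@Bool.rec (fun _ => ℕ) (@Bool.rec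 (fun _ => ℕ) rb4872 rb4873 (Nat.ble (nat_lit 4873) i)) (@Bool.rec (fun _ => ℕ) rb4874 rb4875 (Nat.ble (nat_lit 4875) i)) (Nat.ble (nat_lit 4874) i)) (@Bool.rec (fun _ => ℕ) (@Bool.rec (fun _ => ℕ) rb4876 rb4877 (Nat.ble (nat_lit 4877) i)) (@Bool.rec (fun _ => ℕ) rb4878 rb4879 (Nat.ble (nat_lit 4879) i)) (Nat.ble (nat_lit 4878) i)) (Nat.ble (nat_lit 4876) i)) (Nat.ble (nat_lit 4872) i)) (@Bool.rec (fun _ => ℕ) (@Bool.rec (fun _ => ℕ) (@Bool.rec (fun _ => ℕ) (@Bool.rec (fun _ => ℕ) rb4880 rb4881 (Nat.ble (nat_lit 4881) i)) (@Bool.rec (fun _ => ℕ) rb4882 rb4883 (Nat.ble (nat_lit 4883) i)) (Nat.ble (nat_lit 4882) i)) (@Bool.rec (fun _ => ℕ) (@Bool.rec (fun _ => ℕ) rb4884 rb4885 (Nat.ble (nat_lit 4885) i)) (@Bool.rec (fun _ => ℕ) rb4886 rb4887 (Nat.ble (nat_lit 4887) i)) (Nat.ble (nat_lit 4886) i)) (Nat.ble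 (nat_lit 4884) i)) (@Bool.rec (fun _ => ℕ) (@Bool.rec (fun _ => ℕ) (@Bool.rec (fun _ => ℕ) rb4888 rb4889 (Nat.ble (nat_lit 4889) i)) (@Bool.rec (fun _ => ℕ) rb4890 rb4891 (Nat.ble (nat_lit 4891) i)) (Nat.ble (nat_lit 4890) i)) (@Bool.rec (fun _ => ℕ) (@Bool.rec (fun _ => ℕ) rb4892 rb4893 (Nat.ble (nat_lit 4893) i)) (@Bool.rec (fun _ => ℕ) rb4894 rb4895 (Nat.ble (nat_lit 4895) i)) (Nat.ble (nat_lit 4894) i)) (Nat.ble (nat_lit 4892) i)) (Nat.ble (nat_lit 4888) i)) (Nat.ble (nat_lit 4880) i))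

def rowBlk_n0_153 (i : ℕ) : ℕ := (@Bool.rec (fun _ => ℕ) (@Bool.rec (fun _ => ℕ) (@Bool.rec (fun _ => ℕ) (@Bool.rec (fun _ => ℕ) (@Bool.rec (fun _ => ℕ) rb4896 rb4897 (Nat.ble (nat_lit 4897) i)) (@Bool.rec (fun _ => ℕ) rb4898 rb4899 (Nat.ble (nat_lit 4899) i)) (Nat.ble (nat_lit 4898) i)) (@Bool.rec (fun _ => ℕ) (@Bool.rec (fun _ => ℕ) rb4900 rb4901 (Nat.ble (nat_lit 4901) i)) (@Bool.rec (fun _ => ℕ) rb4902 rb4903 (Nat.ble (nat_lit 4903) i)) (Nat.ble (nat_lit 4902) i)) (Nat.ble (nat_lit 4900) i)) (@Bool.rec (fun _ => ℕ) (@Bool.rec (fun _ => ℕ) (@Bool.rec (fun _ => ℕ) rb4904 rb4905 (Nat.ble (nat_lit 4905) i)) (@Bool.rec (fun _ => ℕ) rb4906 rb4907 (Nat.ble (nat_lit 4907) i)) (Nat.ble (nat_lit 4906) i)) (@Bool.rec (fun _ => ℕ) (@Bool.rec (fun _ => ℕ) rb4908 rb4909 (Nat.ble (nat_lit 4909) i)) (@Bool.rec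 (fun _ => ℕ) rb4910 rb4911 (Nat.ble (nat_lit 4911) i)) (Nat.ble (nat_lit 4910) i)) (Nat.ble (nat_lit 4908) i)) (Nat.ble (nat_lit 4904) i)) (@Bool.rec (fun _ => ℕ) (@Bool.rec (fun _ => ℕ) (@Bool.rec (fun _ => ℕ) (@Bool.rec (fun _ => ℕ) rb4912 rb4913 (Nat.ble (nat_lit 4913) i)) (@Bool.rec (fun _ => ℕ) rb4914 rb4915 (Nat.ble (nat_lit 4915) i)) (Nat.ble (nat_lit 4914) i)) (@Bool.rec (fun _ => ℕ) (@Bool.rec (fun _ => ℕ) rb4916 rb4917 (Nat.ble (nat_lit 4917) i)) (@Bool.rec (fun _ => ℕ) rb4918 rb4919 (Nat.ble (nat_lit 4919) i)) (Nat.ble (nat_lit 4918) i)) (Nat.ble (nat_lit 4916) i)) (@Bool.rec (fun _ => ℕ) (@Bool.rec (fun _ => ℕ) (@Bool.rec (fun _ => ℕ) rb4920 rb4921 (Nat.ble (nat_lit 4921) i)) (@Bool.rec (fun _ => ℕ) rb4922 rb4923 (Nat.ble (nat_lit 4923) i)) (Nat.ble (nat_lit 4922) i)) (@Bool.rec (fun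 _ => ℕ) (@Bool.rec (fun _ => ℕ) rb4924 rb4925 (Nat.ble (nat_lit 4925) i)) (@Bool.rec (fun _ => ℕ) rb4926 rb4927 (Nat.ble (nat_lit 4927) i)) (Nat.ble (nat_lit 4926) i)) (Nat.ble (nat_lit 4924) i)) (Nat.ble (nat_lit 4920) i)) (Nat.ble (nat_lit 4912) i))

def rowBlk_n0_154 (i : ℕ) : ℕ := (@Bool.rec (fun _ => ℕ) (@Bool.rec (fun _ => ℕ) (@Bool.rec (fun _ => ℕ) (@Bool.rec (fun _ => ℕ) (@Bool.rec (fun _ => ℕ) rb4928 rb4929 (Nat.ble (nat_lit 4929) i)) (@Bool.rec (fun _ => ℕ) rb4930 rb4931 (Nat.ble (nat_lit 4931) i)) (Nat.ble (nat_lit 4930) i)) (@Bool.rec (fun _ => ℕ) (@Bool.rec (fun _ => ℕ) rb4932 rb4933 (Nat.ble (nat_lit 4933) i)) (@Bool.rec (fun _ => ℕ) rb4934 rb4935 (Nat.ble (nat_lit 4935) i)) (Nat.ble (nat_lit 4934) i)) (Nat.ble (nat_lit 4932) i)) (@Bool.rec (fun _ => ℕ) (@Bool.rec (fun _ => ℕ) (@Bool.rec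 (fun _ => ℕ) rb4936 rb4937 (Nat.ble (nat_lit 4937) i)) (@Bool.rec (fun _ => ℕ) rb4938 rb4939 (Nat.ble (nat_lit 4939) i)) (Nat.ble (nat_lit 4938) i)) (@Bool.rec (fun _ => ℕ) (@Bool.rec (fun _ => ℕ) rb4940 rb4941 (Nat.ble (nat_lit 4941) i)) (@Bool.rec (fun _ => ℕ) rb4942 rb4943 (Nat.ble (nat_lit 4943) i)) (Nat.ble (nat_lit 4942) i)) (Nat.ble (nat_lit 4940) i)) (Nat.ble (nat_lit 4936) i)) (@Bool.rec (fun _ => ℕ) (@Bool.rec (fun _ => ℕ) (@Bool.rec (fun _ => ℕ) (@Bool.rec (fun _ => ℕ) rb4944 rb4945 (Nat.ble (nat_lit 4945) i)) (@Bool.rec (fun _ => ℕ) rb4946 rb4947 (Nat.ble (nat_lit 4947) i)) (Nat.ble (nat_lit 4946) i)) (@Bool.rec (fun _ => ℕ) (@Bool.rec (fun _ => ℕ) rb4948 rb4949 (Nat.ble (nat_lit 4949) i)) (@Bool.rec (fun _ => ℕ) rb4950 rb4951 (Nat.ble (nat_lit 4951) i)) (Nat.ble (nat_lit 4950) i)) (Nat.ble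 (nat_lit 4948) i)) (@Bool.rec (fun _ => ℕ) (@Bool.rec (fun _ => ℕ) (@Bool.rec (fun _ => ℕ) rb4952 rb4953 (Nat.ble (nat_lit 4953) i)) (@Bool.rec (fun _ => ℕ) rb4954 rb4955 (Nat.ble (nat_lit 4955) i)) (Nat.ble (nat_lit 4954) i)) (@Bool.rec (fun _ => ℕ) (@Bool.rec (fun _ => ℕ) rb4956 rb4957 (Nat.ble (nat_lit 4957) i)) (@Bool.rec (fun _ => ℕ) rb4958 rb4959 (Nat.ble (nat_lit 4959) i)) (Nat.ble (nat_lit 4958) i)) (Nat.ble (nat_lit 4956) i)) (Nat.ble (nat_lit 4952) i)) (Nat.ble (nat_lit 4944) i))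

def rowBlk_n0_155 (i : ℕ) : ℕ := (@Bool.rec (fun _ => ℕ) (@Bool.rec (fun _ => ℕ) (@Bool.rec (fun _ => ℕ) (@Bool.rec (fun _ => ℕ) (@Bool.rec (fun _ => ℕ) rb4960 rb4961 (Nat.ble (nat_lit 4961) i)) (@Bool.rec (fun _ => ℕ) rb4962 rb4963 (Nat.ble (nat_lit 4963) i)) (Nat.ble (nat_lit 4962) i)) (@Bool.rec (fun _ => ℕ) (@Bool.rec (fun _ => ℕ) rb4964 rb4965 (Nat.ble (nat_lit 4965) i)) (@Bool.rec (fun _ => ℕ) rb4966 rb4967 (Nat.ble (nat_lit 4967) i)) (Nat.ble (nat_lit 4966) i)) (Nat.ble (nat_lit 4964) i)) (@Bool.rec (fun _ => ℕ) (@Bool.rec (fun _ => ℕ) (@Bool.rec (fun _ => ℕ) rb4968 rb4969 (Nat.ble (nat_lit 4969) i)) (@Bool.rec (fun _ => ℕ) rb4970 rb4971 (Nat.ble (nat_lit 4971) i)) (Nat.ble (nat_lit 4970) i)) (@Bool.rec (fun _ => ℕ) (@Bool.rec (fun _ => ℕ) rb4972 rb4973 (Nat.ble (nat_lit 4973) i)) (@Bool.rec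 (fun _ => ℕ) rb4974 rb4975 (Nat.ble (nat_lit 4975) i)) (Nat.ble (nat_lit 4974) i)) (Nat.ble (nat_lit 4972) i)) (Nat.ble (nat_lit 4968) i)) (@Bool.rec (fun _ => ℕ) (@Bool.rec (fun _ => ℕ) (@Bool.rec (fun _ => ℕ) (@Bool.rec (fun _ => ℕ) rb4976 rb4977 (Nat.ble (nat_lit 4977) i)) (@Bool.rec (fun _ => ℕ) rb4978 rb4979 (Nat.ble (nat_lit 4979) i)) (Nat.ble (nat_lit 4978) i)) (@Bool.rec (fun _ => ℕ) (@Bool.rec (fun _ => ℕ) rb4980 rb4981 (Nat.ble (nat_lit 4981) i)) (@Bool.rec (fun _ => ℕ) rb4982 rb4983 (Nat.ble (nat_lit 4983) i)) (Nat.ble (nat_lit 4982) i)) (Nat.ble (nat_lit 4980) i)) (@Bool.rec (fun _ => ℕ) (@Bool.rec (fun _ => ℕ) (@Bool.rec (fun _ => ℕ) rb4984 rb4985 (Nat.ble (nat_lit 4985) i)) (@Bool.rec (fun _ => ℕ) rb4986 rb4987 (Nat.ble (nat_lit 4987) i)) (Nat.ble (nat_lit 4986) i)) (@Bool.rec (fun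 _ => ℕ) (@Bool.rec (fun _ => ℕ) rb4988 rb4989 (Nat.ble (nat_lit 4989) i)) (@Bool.rec (fun _ => ℕ) rb4990 rb4991 (Nat.ble (nat_lit 4991) i)) (Nat.ble (nat_lit 4990) i)) (Nat.ble (nat_lit 4988) i)) (Nat.ble (nat_lit 4984) i)) (Nat.ble (nat_lit 4976) i))

def rowBlk_n0_156 (i : ℕ) : ℕ := (@Bool.rec (fun _ => ℕ) (@Bool.rec (fun _ => ℕ) (@Bool.rec (fun _ => ℕ) (@Bool.rec (fun _ => ℕ) (@Bool.rec (fun _ => ℕ) rb4992 rb4993 (Nat.ble (nat_lit 4993) i)) (@Bool.rec (fun _ => ℕ) rb4994 rb4995 (Nat.ble (nat_lit 4995) i)) (Nat.ble (nat_lit 4994) i)) (@Bool.rec (fun _ => ℕ) (@Bool.rec (fun _ => ℕ) rb4996 rb4997 (Nat.ble (nat_lit 4997) i)) (@Bool.rec (fun _ => ℕ) rb4998 rb4999 (Nat.ble (nat_lit 4999) i)) (Nat.ble (nat_lit 4998) i)) (Nat.ble (nat_lit 4996) i)) (@Bool.rec (fun _ => ℕ) (@Bool.rec (fun _ => ℕ) (@Bool.rec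 (fun _ => ℕ) rb5000 rb5001 (Nat.ble (nat_lit 5001) i)) (@Bool.rec (fun _ => ℕ) rb5002 rb5003 (Nat.ble (nat_lit 5003) i)) (Nat.ble (nat_lit 5002) i)) (@Bool.rec (fun _ => ℕ) (@Bool.rec (fun _ => ℕ) rb5004 rb5005 (Nat.ble (nat_lit 5005) i)) (@Bool.rec (fun _ => ℕ) rb5006 rb5007 (Nat.ble (nat_lit 5007) i)) (Nat.ble (nat_lit 5006) i)) (Nat.ble (nat_lit 5004) i)) (Nat.ble (nat_lit 5000) i)) (@Bool.rec (fun _ => ℕ) (@Bool.rec (fun _ => ℕ) (@Bool.rec (fun _ => ℕ) (@Bool.rec (fun _ => ℕ) rb5008 rb5009 (Nat.ble (nat_lit 5009) i)) (@Bool.rec (fun _ => ℕ) rb5010 rb5011 (Nat.ble (nat_lit 5011) i)) (Nat.ble (nat_lit 5010) i)) (@Bool.rec (fun _ => ℕ) (@Bool.rec (fun _ => ℕ) rb5012 rb5013 (Nat.ble (nat_lit 5013) i)) (@Bool.rec (fun _ => ℕ) rb5014 rb5015 (Nat.ble (nat_lit 5015) i)) (Nat.ble (nat_lit 5014) i)) (Nat.ble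 (nat_lit 5012) i)) (@Bool.rec (fun _ => ℕ) (@Bool.rec (fun _ => ℕ) (@Bool.rec (fun _ => ℕ) rb5016 rb5017 (Nat.ble (nat_lit 5017) i)) (@Bool.rec (fun _ => ℕ) rb5018 rb5019 (Nat.ble (nat_lit 5019) i)) (Nat.ble (nat_lit 5018) i)) (@Bool.rec (fun _ => ℕ) (@Bool.rec (fun _ => ℕ) rb5020 rb5021 (Nat.ble (nat_lit 5021) i)) (@Bool.rec (fun _ => ℕ) rb5022 rb5023 (Nat.ble (nat_lit 5023) i)) (Nat.ble (nat_lit 5022) i)) (Nat.ble (nat_lit 5020) i)) (Nat.ble (nat_lit 5016) i)) (Nat.ble (nat_lit 5008) i))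

def rowBlk_n0_157 (i : ℕ) : ℕ := (@Bool.rec (fun _ => ℕ) (@Bool.rec (fun _ => ℕ) (@Bool.rec (fun _ => ℕ) (@Bool.rec (fun _ => ℕ) (@Bool.rec (fun _ => ℕ) rb5024 rb5025 (Nat.ble (nat_lit 5025) i)) (@Bool.rec (fun _ => ℕ) rb5026 rb5027 (Nat.ble (nat_lit 5027) i)) (Nat.ble (nat_lit 5026) i)) (@Bool.rec (fun _ => ℕ) (@Bool.rec (fun _ => ℕ) rb5028 rb5029 (Nat.ble (nat_lit 5029) i)) (@Bool.rec (fun _ => ℕ) rb5030 rb5031 (Nat.ble (nat_lit 5031) i)) (Nat.ble (nat_lit 5030) i)) (Nat.ble (nat_lit 5028) i)) (@Bool.rec (fun _ => ℕ) (@Bool.rec (fun _ => ℕ) (@Bool.rec (fun _ => ℕ) rb5032 rb5033 (Nat.ble (nat_lit 5033) i)) (@Bool.rec (fun _ => ℕ) rb5034 rb5035 (Nat.ble (nat_lit 5035) i)) (Nat.ble (nat_lit 5034) i)) (@Bool.rec (fun _ => ℕ) (@Bool.rec (fun _ => ℕ) rb5036 rb5037 (Nat.ble (nat_lit 5037) i)) (@Bool.rec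 (fun _ => ℕ) rb5038 rb5039 (Nat.ble (nat_lit 5039) i)) (Nat.ble (nat_lit 5038) i)) (Nat.ble (nat_lit 5036) i)) (Nat.ble (nat_lit 5032) i)) (@Bool.rec (fun _ => ℕ) (@Bool.rec (fun _ => ℕ) (@Bool.rec (fun _ => ℕ) (@Bool.rec (fun _ => ℕ) rb5040 rb5041 (Nat.ble (nat_lit 5041) i)) (@Bool.rec (fun _ => ℕ) rb5042 rb5043 (Nat.ble (nat_lit 5043) i)) (Nat.ble (nat_lit 5042) i)) (@Bool.rec (fun _ => ℕ) (@Bool.rec (fun _ => ℕ) rb5044 rb5045 (Nat.ble (nat_lit 5045) i)) (@Bool.rec (fun _ => ℕ) rb5046 rb5047 (Nat.ble (nat_lit 5047) i)) (Nat.ble (nat_lit 5046) i)) (Nat.ble (nat_lit 5044) i)) (@Bool.rec (fun _ => ℕ) (@Bool.rec (fun _ => ℕ) (@Bool.rec (fun _ => ℕ) rb5048 rb5049 (Nat.ble (nat_lit 5049) i)) (@Bool.rec (fun _ => ℕ) rb5050 rb5051 (Nat.ble (nat_lit 5051) i)) (Nat.ble (nat_lit 5050) i)) (@Bool.rec (fun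 _ => ℕ) (@Bool.rec (fun _ => ℕ) rb5052 rb5053 (Nat.ble (nat_lit 5053) i)) (@Bool.rec (fun _ => ℕ) rb5054 rb5055 (Nat.ble (nat_lit 5055) i)) (Nat.ble (nat_lit 5054) i)) (Nat.ble (nat_lit 5052) i)) (Nat.ble (nat_lit 5048) i)) (Nat.ble (nat_lit 5040) i))

def rowBlk_n0_158 (i : ℕ) : ℕ := (@Bool.rec (fun _ => ℕ) (@Bool.rec (fun _ => ℕ) (@Bool.rec (fun _ => ℕ) (@Bool.rec (fun _ => ℕ) (@Bool.rec (fun _ => ℕ) rb5056 rb5057 (Nat.ble (nat_lit 5057) i)) (@Bool.rec (fun _ => ℕ) rb5058 rb5059 (Nat.ble (nat_lit 5059) i)) (Nat.ble (nat_lit 5058) i)) (@Bool.rec (fun _ => ℕ) (@Bool.rec (fun _ => ℕ) rb5060 rb5061 (Nat.ble (nat_lit 5061) i)) (@Bool.rec (fun _ => ℕ) rb5062 rb5063 (Nat.ble (nat_lit 5063) i)) (Nat.ble (nat_lit 5062) i)) (Nat.ble (nat_lit 5060) i)) (@Bool.rec (fun _ => ℕ) (@Bool.rec (fun _ => ℕ) (@Bool.rec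 (fun _ => ℕ) rb5064 rb5065 (Nat.ble (nat_lit 5065) i)) (@Bool.rec (fun _ => ℕ) rb5066 rb5067 (Nat.ble (nat_lit 5067) i)) (Nat.ble (nat_lit 5066) i)) (@Bool.rec (fun _ => ℕ) (@Bool.rec (fun _ => ℕ) rb5068 rb5069 (Nat.ble (nat_lit 5069) i)) (@Bool.rec (fun _ => ℕ) rb5070 rb5071 (Nat.ble (nat_lit 5071) i)) (Nat.ble (nat_lit 5070) i)) (Nat.ble (nat_lit 5068) i)) (Nat.ble (nat_lit 5064) i)) (@Bool.rec (fun _ => ℕ) (@Bool.rec (fun _ => ℕ) (@Bool.rec (fun _ => ℕ) (@Bool.rec (fun _ => ℕ) rb5072 rb5073 (Nat.ble (nat_lit 5073) i)) (@Bool.rec (fun _ => ℕ) rb5074 rb5075 (Nat.ble (nat_lit 5075) i)) (Nat.ble (nat_lit 5074) i)) (@Bool.rec (fun _ => ℕ) (@Bool.rec (fun _ => ℕ) rb5076 rb5077 (Nat.ble (nat_lit 5077) i)) (@Bool.rec (fun _ => ℕ) rb5078 rb5079 (Nat.ble (nat_lit 5079) i)) (Nat.ble (nat_lit 5078) i)) (Nat.ble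 (nat_lit 5076) i)) (@Bool.rec (fun _ => ℕ) (@Bool.rec (fun _ => ℕ) (@Bool.rec (fun _ => ℕ) rb5080 rb5081 (Nat.ble (nat_lit 5081) i)) (@Bool.rec (fun _ => ℕ) rb5082 rb5083 (Nat.ble (nat_lit 5083) i)) (Nat.ble (nat_lit 5082) i)) (@Bool.rec (fun _ => ℕ) (@Bool.rec (fun _ => ℕ) rb5084 rb5085 (Nat.ble (nat_lit 5085) i)) (@Bool.rec (fun _ => ℕ) rb5086 rb5087 (Nat.ble (nat_lit 5087) i)) (Nat.ble (nat_lit 5086) i)) (Nat.ble (nat_lit 5084) i)) (Nat.ble (nat_lit 5080) i)) (Nat.ble (nat_lit 5072) i))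

def rowBlk_n0_159 (i : ℕ) : ℕ := (@Bool.rec (fun _ => ℕ) (@Bool.rec (fun _ => ℕ) (@Bool.rec (fun _ => ℕ) (@Bool.rec (fun _ => ℕ) (@Bool.rec (fun _ => ℕ) rb5088 rb5089 (Nat.ble (nat_lit 5089) i)) (@Bool.rec (fun _ => ℕ) rb5090 rb5091 (Nat.ble (nat_lit 5091) i)) (Nat.ble (nat_lit 5090) i)) (@Bool.rec (fun _ => ℕ) (@Bool.rec (fun _ => ℕ) rb5092 rb5093 (Nat.ble (nat_lit 5093) i)) (@Bool.rec (fun _ => ℕ) rb5094 rb5095 (Nat.ble (nat_lit 5095) i)) (Nat.ble (nat_lit 5094) i)) (Nat.ble (nat_lit 5092) i)) (@Bool.rec (fun _ => ℕ) (@Bool.rec (fun _ => ℕ) (@Bool.rec (fun _ => ℕ) rb5096 rb5097 (Nat.ble (nat_lit 5097) i)) (@Bool.rec (fun _ => ℕ) rb5098 rb5099 (Nat.ble (nat_lit 5099) i)) (Nat.ble (nat_lit 5098) i)) (@Bool.rec (fun _ => ℕ) (@Bool.rec (fun _ => ℕ) rb5100 rb5101 (Nat.ble (nat_lit 5101) i)) (@Bool.rec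 (fun _ => ℕ) rb5102 rb5103 (Nat.ble (nat_lit 5103) i)) (Nat.ble (nat_lit 5102) i)) (Nat.ble (nat_lit 5100) i)) (Nat.ble (nat_lit 5096) i)) (@Bool.rec (fun _ => ℕ) (@Bool.rec (fun _ => ℕ) (@Bool.rec (fun _ => ℕ) (@Bool.rec (fun _ => ℕ) rb5104 rb5105 (Nat.ble (nat_lit 5105) i)) (@Bool.rec (fun _ => ℕ) rb5106 rb5107 (Nat.ble (nat_lit 5107) i)) (Nat.ble (nat_lit 5106) i)) (@Bool.rec (fun _ => ℕ) (@Bool.rec (fun _ => ℕ) rb5108 rb5109 (Nat.ble (nat_lit 5109) i)) (@Bool.rec (fun _ => ℕ) rb5110 rb5111 (Nat.ble (nat_lit 5111) i)) (Nat.ble (nat_lit 5110) i)) (Nat.ble (nat_lit 5108) i)) (@Bool.rec (fun _ => ℕ) (@Bool.rec (fun _ => ℕ) (@Bool.rec (fun _ => ℕ) rb5112 rb5113 (Nat.ble (nat_lit 5113) i)) (@Bool.rec (fun _ => ℕ) rb5114 rb5115 (Nat.ble (nat_lit 5115) i)) (Nat.ble (nat_lit 5114) i)) (@Bool.rec (fun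 _ => ℕ) (@Bool.rec (fun _ => ℕ) rb5116 rb5117 (Nat.ble (nat_lit 5117) i)) (@Bool.rec (fun _ => ℕ) rb5118 rb5119 (Nat.ble (nat_lit 5119) i)) (Nat.ble (nat_lit 5118) i)) (Nat.ble (nat_lit 5116) i)) (Nat.ble (nat_lit 5112) i)) (Nat.ble (nat_lit 5104) i))

def rowBlk_n0_160 (i : ℕ) : ℕ := (@Bool.rec (fun _ => ℕ) (@Bool.rec (fun _ => ℕ) (@Bool.rec (fun _ => ℕ) (@Bool.rec (fun _ => ℕ) (@Bool.rec (fun _ => ℕ) rb5120 rb5121 (Nat.ble (nat_lit 5121) i)) (@Bool.rec (fun _ => ℕ) rb5122 rb5123 (Nat.ble (nat_lit 5123) i)) (Nat.ble (nat_lit 5122) i)) (@Bool.rec (fun _ => ℕ) (@Bool.rec (fun _ => ℕ) rb5124 rb5125 (Nat.ble (nat_lit 5125) i)) (@Bool.rec (fun _ => ℕ) rb5126 rb5127 (Nat.ble (nat_lit 5127) i)) (Nat.ble (nat_lit 5126) i)) (Nat.ble (nat_lit 5124) i)) (@Bool.rec (fun _ => ℕ) (@Bool.rec (fun _ => ℕ) (@Bool.rec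 (fun _ => ℕ) rb5128 rb5129 (Nat.ble (nat_lit 5129) i)) (@Bool.rec (fun _ => ℕ) rb5130 rb5131 (Nat.ble (nat_lit 5131) i)) (Nat.ble (nat_lit 5130) i)) (@Bool.rec (fun _ => ℕ) (@Bool.rec (fun _ => ℕ) rb5132 rb5133 (Nat.ble (nat_lit 5133) i)) (@Bool.rec (fun _ => ℕ) rb5134 rb5135 (Nat.ble (nat_lit 5135) i)) (Nat.ble (nat_lit 5134) i)) (Nat.ble (nat_lit 5132) i)) (Nat.ble (nat_lit 5128) i)) (@Bool.rec (fun _ => ℕ) (@Bool.rec (fun _ => ℕ) (@Bool.rec (fun _ => ℕ) (@Bool.rec (fun _ => ℕ) rb5136 rb5137 (Nat.ble (nat_lit 5137) i)) (@Bool.rec (fun _ => ℕ) rb5138 rb5139 (Nat.ble (nat_lit 5139) i)) (Nat.ble (nat_lit 5138) i)) (@Bool.rec (fun _ => ℕ) (@Bool.rec (fun _ => ℕ) rb5140 rb5141 (Nat.ble (nat_lit 5141) i)) (@Bool.rec (fun _ => ℕ) rb5142 rb5143 (Nat.ble (nat_lit 5143) i)) (Nat.ble (nat_lit 5142) i)) (Nat.ble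 (nat_lit 5140) i)) (@Bool.rec (fun _ => ℕ) (@Bool.rec (fun _ => ℕ) (@Bool.rec (fun _ => ℕ) rb5144 rb5145 (Nat.ble (nat_lit 5145) i)) (@Bool.rec (fun _ => ℕ) rb5146 rb5147 (Nat.ble (nat_lit 5147) i)) (Nat.ble (nat_lit 5146) i)) (@Bool.rec (fun _ => ℕ) (@Bool.rec (fun _ => ℕ) rb5148 rb5149 (Nat.ble (nat_lit 5149) i)) (@Bool.rec (fun _ => ℕ) rb5150 rb5151 (Nat.ble (nat_lit 5151) i)) (Nat.ble (nat_lit 5150) i)) (Nat.ble (nat_lit 5148) i)) (Nat.ble (nat_lit 5144) i)) (Nat.ble (nat_lit 5136) i))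

def rowBlk_n0_161 (i : ℕ) : ℕ := (@Bool.rec (fun _ => ℕ) (@Bool.rec (fun _ => ℕ) (@Bool.rec (fun _ => ℕ) (@Bool.rec (fun _ => ℕ) (@Bool.rec (fun _ => ℕ) rb5152 rb5153 (Nat.ble (nat_lit 5153) i)) (@Bool.rec (fun _ => ℕ) rb5154 rb5155 (Nat.ble (nat_lit 5155) i)) (Nat.ble (nat_lit 5154) i)) (@Bool.rec (fun _ => ℕ) (@Bool.rec (fun _ => ℕ) rb5156 rb5157 (Nat.ble (nat_lit 5157) i)) (@Bool.rec (fun _ => ℕ) rb5158 rb5159 (Nat.ble (nat_lit 5159) i)) (Nat.ble (nat_lit 5158) i)) (Nat.ble (nat_lit 5156) i)) (@Bool.rec (fun _ => ℕ) (@Bool.rec (fun _ => ℕ) (@Bool.rec (fun _ => ℕ) rb5160 rb5161 (Nat.ble (nat_lit 5161) i)) (@Bool.rec (fun _ => ℕ) rb5162 rb5163 (Nat.ble (nat_lit 5163) i)) (Nat.ble (nat_lit 5162) i)) (@Bool.rec (fun _ => ℕ) (@Bool.rec (fun _ => ℕ) rb5164 rb5165 (Nat.ble (nat_lit 5165) i)) (@Bool.rec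 (fun _ => ℕ) rb5166 rb5167 (Nat.ble (nat_lit 5167) i)) (Nat.ble (nat_lit 5166) i)) (Nat.ble (nat_lit 5164) i)) (Nat.ble (nat_lit 5160) i)) (@Bool.rec (fun _ => ℕ) (@Bool.rec (fun _ => ℕ) (@Bool.rec (fun _ => ℕ) (@Bool.rec (fun _ => ℕ) rb5168 rb5169 (Nat.ble (nat_lit 5169) i)) (@Bool.rec (fun _ => ℕ) rb5170 rb5171 (Nat.ble (nat_lit 5171) i)) (Nat.ble (nat_lit 5170) i)) (@Bool.rec (fun _ => ℕ) (@Bool.rec (fun _ => ℕ) rb5172 rb5173 (Nat.ble (nat_lit 5173) i)) (@Bool.rec (fun _ => ℕ) rb5174 rb5175 (Nat.ble (nat_lit 5175) i)) (Nat.ble (nat_lit 5174) i)) (Nat.ble (nat_lit 5172) i)) (@Bool.rec (fun _ => ℕ) (@Bool.rec (fun _ => ℕ) (@Bool.rec (fun _ => ℕ) rb5176 rb5177 (Nat.ble (nat_lit 5177) i)) (@Bool.rec (fun _ => ℕ) rb5178 rb5179 (Nat.ble (nat_lit 5179) i)) (Nat.ble (nat_lit 5178) i)) (@Bool.rec (fun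 _ => ℕ) (@Bool.rec (fun _ => ℕ) rb5180 rb5181 (Nat.ble (nat_lit 5181) i)) (@Bool.rec (fun _ => ℕ) rb5182 rb5183 (Nat.ble (nat_lit 5183) i)) (Nat.ble (nat_lit 5182) i)) (Nat.ble (nat_lit 5180) i)) (Nat.ble (nat_lit 5176) i)) (Nat.ble (nat_lit 5168) i))

def rowBlk_n0_162 (i : ℕ) : ℕ := (@Bool.rec (fun _ => ℕ) (@Bool.rec (fun _ => ℕ) (@Bool.rec (fun _ => ℕ) (@Bool.rec (fun _ => ℕ) (@Bool.rec (fun _ => ℕ) rb5184 rb5185 (Nat.ble (nat_lit 5185) i)) (@Bool.rec (fun _ => ℕ) rb5186 rb5187 (Nat.ble (nat_lit 5187) i)) (Nat.ble (nat_lit 5186) i)) (@Bool.rec (fun _ => ℕ) (@Bool.rec (fun _ => ℕ) rb5188 rb5189 (Nat.ble (nat_lit 5189) i)) (@Bool.rec (fun _ => ℕ) rb5190 rb5191 (Nat.ble (nat_lit 5191) i)) (Nat.ble (nat_lit 5190) i)) (Nat.ble (nat_lit 5188) i)) (@Bool.rec (fun _ => ℕ) (@Bool.rec (fun _ => ℕ) (@Bool.rec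 (fun _ => ℕ) rb5192 rb5193 (Nat.ble (nat_lit 5193) i)) (@Bool.rec (fun _ => ℕ) rb5194 rb5195 (Nat.ble (nat_lit 5195) i)) (Nat.ble (nat_lit 5194) i)) (@Bool.rec (fun _ => ℕ) (@Bool.rec (fun _ => ℕ) rb5196 rb5197 (Nat.ble (nat_lit 5197) i)) (@Bool.rec (fun _ => ℕ) rb5198 rb5199 (Nat.ble (nat_lit 5199) i)) (Nat.ble (nat_lit 5198) i)) (Nat.ble (nat_lit 5196) i)) (Nat.ble (nat_lit 5192) i)) (@Bool.rec (fun _ => ℕ) (@Bool.rec (fun _ => ℕ) (@Bool.rec (fun _ => ℕ) (@Bool.rec (fun _ => ℕ) rb5200 rb5201 (Nat.ble (nat_lit 5201) i)) (@Bool.rec (fun _ => ℕ) rb5202 rb5203 (Nat.ble (nat_lit 5203) i)) (Nat.ble (nat_lit 5202) i)) (@Bool.rec (fun _ => ℕ) (@Bool.rec (fun _ => ℕ) rb5204 rb5205 (Nat.ble (nat_lit 5205) i)) (@Bool.rec (fun _ => ℕ) rb5206 rb5207 (Nat.ble (nat_lit 5207) i)) (Nat.ble (nat_lit 5206) i)) (Nat.ble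 (nat_lit 5204) i)) (@Bool.rec (fun _ => ℕ) (@Bool.rec (fun _ => ℕ) (@Bool.rec (fun _ => ℕ) rb5208 rb5209 (Nat.ble (nat_lit 5209) i)) (@Bool.rec (fun _ => ℕ) rb5210 rb5211 (Nat.ble (nat_lit 5211) i)) (Nat.ble (nat_lit 5210) i)) (@Bool.rec (fun _ => ℕ) (@Bool.rec (fun _ => ℕ) rb5212 rb5213 (Nat.ble (nat_lit 5213) i)) (@Bool.rec (fun _ => ℕ) rb5214 rb5215 (Nat.ble (nat_lit 5215) i)) (Nat.ble (nat_lit 5214) i)) (Nat.ble (nat_lit 5212) i)) (Nat.ble (nat_lit 5208) i)) (Nat.ble (nat_lit 5200) i))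

def rowBlk_n0_163 (i : ℕ) : ℕ := (@Bool.rec (fun _ => ℕ) (@Bool.rec (fun _ => ℕ) (@Bool.rec (fun _ => ℕ) (@Bool.rec (fun _ => ℕ) (@Bool.rec (fun _ => ℕ) rb5216 rb5217 (Nat.ble (nat_lit 5217) i)) (@Bool.rec (fun _ => ℕ) rb5218 rb5219 (Nat.ble (nat_lit 5219) i)) (Nat.ble (nat_lit 5218) i)) (@Bool.rec (fun _ => ℕ) (@Bool.rec (fun _ => ℕ) rb5220 rb5221 (Nat.ble (nat_lit 5221) i)) (@Bool.rec (fun _ => ℕ) rb5222 rb5223 (Nat.ble (nat_lit 5223) i)) (Nat.ble (nat_lit 5222) i)) (Nat.ble (nat_lit 5220) i)) (@Bool.rec (fun _ => ℕ) (@Bool.rec (fun _ => ℕ) (@Bool.rec (fun _ => ℕ) rb5224 rb5225 (Nat.ble (nat_lit 5225) i)) (@Bool.rec (fun _ => ℕ) rb5226 rb5227 (Nat.ble (nat_lit 5227) i)) (Nat.ble (nat_lit 5226) i)) (@Bool.rec (fun _ => ℕ) (@Bool.rec (fun _ => ℕ) rb5228 rb5229 (Nat.ble (nat_lit 5229) i)) (@Bool.rec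 (fun _ => ℕ) rb5230 rb5231 (Nat.ble (nat_lit 5231) i)) (Nat.ble (nat_lit 5230) i)) (Nat.ble (nat_lit 5228) i)) (Nat.ble (nat_lit 5224) i)) (@Bool.rec (fun _ => ℕ) (@Bool.rec (fun _ => ℕ) (@Bool.rec (fun _ => ℕ) (@Bool.rec (fun _ => ℕ) rb5232 rb5233 (Nat.ble (nat_lit 5233) i)) (@Bool.rec (fun _ => ℕ) rb5234 rb5235 (Nat.ble (nat_lit 5235) i)) (Nat.ble (nat_lit 5234) i)) (@Bool.rec (fun _ => ℕ) (@Bool.rec (fun _ => ℕ) rb5236 rb5237 (Nat.ble (nat_lit 5237) i)) (@Bool.rec (fun _ => ℕ) rb5238 rb5239 (Nat.ble (nat_lit 5239) i)) (Nat.ble (nat_lit 5238) i)) (Nat.ble (nat_lit 5236) i)) (@Bool.rec (fun _ => ℕ) (@Bool.rec (fun _ => ℕ) (@Bool.rec (fun _ => ℕ) rb5240 rb5241 (Nat.ble (nat_lit 5241) i)) (@Bool.rec (fun _ => ℕ) rb5242 rb5243 (Nat.ble (nat_lit 5243) i)) (Nat.ble (nat_lit 5242) i)) (@Bool.rec (fun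 _ => ℕ) (@Bool.rec (fun _ => ℕ) rb5244 rb5245 (Nat.ble (nat_lit 5245) i)) (@Bool.rec (fun _ => ℕ) rb5246 rb5247 (Nat.ble (nat_lit 5247) i)) (Nat.ble (nat_lit 5246) i)) (Nat.ble (nat_lit 5244) i)) (Nat.ble (nat_lit 5240) i)) (Nat.ble (nat_lit 5232) i))

def rowBlk_n0_164 (i : ℕ) : ℕ := (@Bool.rec (fun _ => ℕ) (@Bool.rec (fun _ => ℕ) (@Bool.rec (fun _ => ℕ) (@Bool.rec (fun _ => ℕ) (@Bool.rec (fun _ => ℕ) rb5248 rb5249 (Nat.ble (nat_lit 5249) i)) (@Bool.rec (fun _ => ℕ) rb5250 rb5251 (Nat.ble (nat_lit 5251) i)) (Nat.ble (nat_lit 5250) i)) (@Bool.rec (fun _ => ℕ) (@Bool.rec (fun _ => ℕ) rb5252 rb5253 (Nat.ble (nat_lit 5253) i)) (@Bool.rec (fun _ => ℕ) rb5254 rb5255 (Nat.ble (nat_lit 5255) i)) (Nat.ble (nat_lit 5254) i)) (Nat.ble (nat_lit 5252) i)) (@Bool.rec (fun _ => ℕ) (@Bool.rec (fun _ => ℕ) (@Bool.rec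 (fun _ => ℕ) rb5256 rb5257 (Nat.ble (nat_lit 5257) i)) (@Bool.rec (fun _ => ℕ) rb5258 rb5259 (Nat.ble (nat_lit 5259) i)) (Nat.ble (nat_lit 5258) i)) (@Bool.rec (fun _ => ℕ) (@Bool.rec (fun _ => ℕ) rb5260 rb5261 (Nat.ble (nat_lit 5261) i)) (@Bool.rec (fun _ => ℕ) rb5262 rb5263 (Nat.ble (nat_lit 5263) i)) (Nat.ble (nat_lit 5262) i)) (Nat.ble (nat_lit 5260) i)) (Nat.ble (nat_lit 5256) i)) (@Bool.rec (fun _ => ℕ) (@Bool.rec (fun _ => ℕ) (@Bool.rec (fun _ => ℕ) (@Bool.rec (fun _ => ℕ) rb5264 rb5265 (Nat.ble (nat_lit 5265) i)) (@Bool.rec (fun _ => ℕ) rb5266 rb5267 (Nat.ble (nat_lit 5267) i)) (Nat.ble (nat_lit 5266) i)) (@Bool.rec (fun _ => ℕ) (@Bool.rec (fun _ => ℕ) rb5268 rb5269 (Nat.ble (nat_lit 5269) i)) (@Bool.rec (fun _ => ℕ) rb5270 rb5271 (Nat.ble (nat_lit 5271) i)) (Nat.ble (nat_lit 5270) i)) (Nat.ble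 (nat_lit 5268) i)) (@Bool.rec (fun _ => ℕ) (@Bool.rec (fun _ => ℕ) (@Bool.rec (fun _ => ℕ) rb5272 rb5273 (Nat.ble (nat_lit 5273) i)) (@Bool.rec (fun _ => ℕ) rb5274 rb5275 (Nat.ble (nat_lit 5275) i)) (Nat.ble (nat_lit 5274) i)) (@Bool.rec (fun _ => ℕ) (@Bool.rec (fun _ => ℕ) rb5276 rb5277 (Nat.ble (nat_lit 5277) i)) (@Bool.rec (fun _ => ℕ) rb5278 rb5279 (Nat.ble (nat_lit 5279) i)) (Nat.ble (nat_lit 5278) i)) (Nat.ble (nat_lit 5276) i)) (Nat.ble (nat_lit 5272) i)) (Nat.ble (nat_lit 5264) i))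

def rowBlk_n0_165 (i : ℕ) : ℕ := (@Bool.rec (fun _ => ℕ) (@Bool.rec (fun _ => ℕ) (@Bool.rec (fun _ => ℕ) (@Bool.rec (fun _ => ℕ) (@Bool.rec (fun _ => ℕ) rb5280 rb5281 (Nat.ble (nat_lit 5281) i)) (@Bool.rec (fun _ => ℕ) rb5282 rb5283 (Nat.ble (nat_lit 5283) i)) (Nat.ble (nat_lit 5282) i)) (@Bool.rec (fun _ => ℕ) (@Bool.rec (fun _ => ℕ) rb5284 rb5285 (Nat.ble (nat_lit 5285) i)) (@Bool.rec (fun _ => ℕ) rb5286 rb5287 (Nat.ble (nat_lit 5287) i)) (Nat.ble (nat_lit 5286) i)) (Nat.ble (nat_lit 5284) i)) (@Bool.rec (fun _ => ℕ) (@Bool.rec (fun _ => ℕ) (@Bool.rec (fun _ => ℕ) rb5288 rb5289 (Nat.ble (nat_lit 5289) i)) (@Bool.rec (fun _ => ℕ) rb5290 rb5291 (Nat.ble (nat_lit 5291) i)) (Nat.ble (nat_lit 5290) i)) (@Bool.rec (fun _ => ℕ) (@Bool.rec (fun _ => ℕ) rb5292 rb5293 (Nat.ble (nat_lit 5293) i)) (@Bool.rec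 (fun _ => ℕ) rb5294 rb5295 (Nat.ble (nat_lit 5295) i)) (Nat.ble (nat_lit 5294) i)) (Nat.ble (nat_lit 5292) i)) (Nat.ble (nat_lit 5288) i)) (@Bool.rec (fun _ => ℕ) (@Bool.rec (fun _ => ℕ) (@Bool.rec (fun _ => ℕ) (@Bool.rec (fun _ => ℕ) rb5296 rb5297 (Nat.ble (nat_lit 5297) i)) (@Bool.rec (fun _ => ℕ) rb5298 rb5299 (Nat.ble (nat_lit 5299) i)) (Nat.ble (nat_lit 5298) i)) (@Bool.rec (fun _ => ℕ) (@Bool.rec (fun _ => ℕ) rb5300 rb5301 (Nat.ble (nat_lit 5301) i)) (@Bool.rec (fun _ => ℕ) rb5302 rb5303 (Nat.ble (nat_lit 5303) i)) (Nat.ble (nat_lit 5302) i)) (Nat.ble (nat_lit 5300) i)) (@Bool.rec (fun _ => ℕ) (@Bool.rec (fun _ => ℕ) (@Bool.rec (fun _ => ℕ) rb5304 rb5305 (Nat.ble (nat_lit 5305) i)) (@Bool.rec (fun _ => ℕ) rb5306 rb5307 (Nat.ble (nat_lit 5307) i)) (Nat.ble (nat_lit 5306) i)) (@Bool.rec (fun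 _ => ℕ) (@Bool.rec (fun _ => ℕ) rb5308 rb5309 (Nat.ble (nat_lit 5309) i)) (@Bool.rec (fun _ => ℕ) rb5310 rb5311 (Nat.ble (nat_lit 5311) i)) (Nat.ble (nat_lit 5310) i)) (Nat.ble (nat_lit 5308) i)) (Nat.ble (nat_lit 5304) i)) (Nat.ble (nat_lit 5296) i))

def rowBlk_n0_166 (i : ℕ) : ℕ := (@Bool.rec (fun _ => ℕ) (@Bool.rec (fun _ => ℕ) (@Bool.rec (fun _ => ℕ) (@Bool.rec (fun _ => ℕ) (@Bool.rec (fun _ => ℕ) rb5312 rb5313 (Nat.ble (nat_lit 5313) i)) (@Bool.rec (fun _ => ℕ) rb5314 rb5315 (Nat.ble (nat_lit 5315) i)) (Nat.ble (nat_lit 5314) i)) (@Bool.rec (fun _ => ℕ) (@Bool.rec (fun _ => ℕ) rb5316 rb5317 (Nat.ble (nat_lit 5317) i)) (@Bool.rec (fun _ => ℕ) rb5318 rb5319 (Nat.ble (nat_lit 5319) i)) (Nat.ble (nat_lit 5318) i)) (Nat.ble (nat_lit 5316) i)) (@Bool.rec (fun _ => ℕ) (@Bool.rec (fun _ => ℕ) (@Bool.rec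 (fun _ => ℕ) rb5320 rb5321 (Nat.ble (nat_lit 5321) i)) (@Bool.rec (fun _ => ℕ) rb5322 rb5323 (Nat.ble (nat_lit 5323) i)) (Nat.ble (nat_lit 5322) i)) (@Bool.rec (fun _ => ℕ) (@Bool.rec (fun _ => ℕ) rb5324 rb5325 (Nat.ble (nat_lit 5325) i)) (@Bool.rec (fun _ => ℕ) rb5326 rb5327 (Nat.ble (nat_lit 5327) i)) (Nat.ble (nat_lit 5326) i)) (Nat.ble (nat_lit 5324) i)) (Nat.ble (nat_lit 5320) i)) (@Bool.rec (fun _ => ℕ) (@Bool.rec (fun _ => ℕ) (@Bool.rec (fun _ => ℕ) (@Bool.rec (fun _ => ℕ) rb5328 rb5329 (Nat.ble (nat_lit 5329) i)) (@Bool.rec (fun _ => ℕ) rb5330 rb5331 (Nat.ble (nat_lit 5331) i)) (Nat.ble (nat_lit 5330) i)) (@Bool.rec (fun _ => ℕ) (@Bool.rec (fun _ => ℕ) rb5332 rb5333 (Nat.ble (nat_lit 5333) i)) (@Bool.rec (fun _ => ℕ) rb5334 rb5335 (Nat.ble (nat_lit 5335) i)) (Nat.ble (nat_lit 5334) i)) (Nat.ble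 (nat_lit 5332) i)) (@Bool.rec (fun _ => ℕ) (@Bool.rec (fun _ => ℕ) (@Bool.rec (fun _ => ℕ) rb5336 rb5337 (Nat.ble (nat_lit 5337) i)) (@Bool.rec (fun _ => ℕ) rb5338 rb5339 (Nat.ble (nat_lit 5339) i)) (Nat.ble (nat_lit 5338) i)) (@Bool.rec (fun _ => ℕ) (@Bool.rec (fun _ => ℕ) rb5340 rb5341 (Nat.ble (nat_lit 5341) i)) (@Bool.rec (fun _ => ℕ) rb5342 rb5343 (Nat.ble (nat_lit 5343) i)) (Nat.ble (nat_lit 5342) i)) (Nat.ble (nat_lit 5340) i)) (Nat.ble (nat_lit 5336) i)) (Nat.ble (nat_lit 5328) i))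

def rowBlk_n0_167 (i : ℕ) : ℕ := (@Bool.rec (fun _ => ℕ) (@Bool.rec (fun _ => ℕ) (@Bool.rec (fun _ => ℕ) (@Bool.rec (fun _ => ℕ) (@Bool.rec (fun _ => ℕ) rb5344 rb5345 (Nat.ble (nat_lit 5345) i)) (@Bool.rec (fun _ => ℕ) rb5346 rb5347 (Nat.ble (nat_lit 5347) i)) (Nat.ble (nat_lit 5346) i)) (@Bool.rec (fun _ => ℕ) (@Bool.rec (fun _ => ℕ) rb5348 rb5349 (Nat.ble (nat_lit 5349) i)) (@Bool.rec (fun _ => ℕ) rb5350 rb5351 (Nat.ble (nat_lit 5351) i)) (Nat.ble (nat_lit 5350) i)) (Nat.ble (nat_lit 5348) i)) (@Bool.rec (fun _ => ℕ) (@Bool.rec (fun _ => ℕ) (@Bool.rec (fun _ => ℕ) rb5352 rb5353 (Nat.ble (nat_lit 5353) i)) (@Bool.rec (fun _ => ℕ) rb5354 rb5355 (Nat.ble (nat_lit 5355) i)) (Nat.ble (nat_lit 5354) i)) (@Bool.rec (fun _ => ℕ) (@Bool.rec (fun _ => ℕ) rb5356 rb5357 (Nat.ble (nat_lit 5357) i)) (@Bool.rec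 (fun _ => ℕ) rb5358 rb5359 (Nat.ble (nat_lit 5359) i)) (Nat.ble (nat_lit 5358) i)) (Nat.ble (nat_lit 5356) i)) (Nat.ble (nat_lit 5352) i)) (@Bool.rec (fun _ => ℕ) (@Bool.rec (fun _ => ℕ) (@Bool.rec (fun _ => ℕ) (@Bool.rec (fun _ => ℕ) rb5360 rb5361 (Nat.ble (nat_lit 5361) i)) (@Bool.rec (fun _ => ℕ) rb5362 rb5363 (Nat.ble (nat_lit 5363) i)) (Nat.ble (nat_lit 5362) i)) (@Bool.rec (fun _ => ℕ) (@Bool.rec (fun _ => ℕ) rb5364 rb5365 (Nat.ble (nat_lit 5365) i)) (@Bool.rec (fun _ => ℕ) rb5366 rb5367 (Nat.ble (nat_lit 5367) i)) (Nat.ble (nat_lit 5366) i)) (Nat.ble (nat_lit 5364) i)) (@Bool.rec (fun _ => ℕ) (@Bool.rec (fun _ => ℕ) (@Bool.rec (fun _ => ℕ) rb5368 rb5369 (Nat.ble (nat_lit 5369) i)) (@Bool.rec (fun _ => ℕ) rb5370 rb5371 (Nat.ble (nat_lit 5371) i)) (Nat.ble (nat_lit 5370) i)) (@Bool.rec (fun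 _ => ℕ) (@Bool.rec (fun _ => ℕ) rb5372 rb5373 (Nat.ble (nat_lit 5373) i)) (@Bool.rec (fun _ => ℕ) rb5374 rb5375 (Nat.ble (nat_lit 5375) i)) (Nat.ble (nat_lit 5374) i)) (Nat.ble (nat_lit 5372) i)) (Nat.ble (nat_lit 5368) i)) (Nat.ble (nat_lit 5360) i))

def rowBlk_n0_168 (i : ℕ) : ℕ := (@Bool.rec (fun _ => ℕ) (@Bool.rec (fun _ => ℕ) (@Bool.rec (fun _ => ℕ) (@Bool.rec (fun _ => ℕ) (@Bool.rec (fun _ => ℕ) rb5376 rb5377 (Nat.ble (nat_lit 5377) i)) (@Bool.rec (fun _ => ℕ) rb5378 rb5379 (Nat.ble (nat_lit 5379) i)) (Nat.ble (nat_lit 5378) i)) (@Bool.rec (fun _ => ℕ) (@Bool.rec (fun _ => ℕ) rb5380 rb5381 (Nat.ble (nat_lit 5381) i)) (@Bool.rec (fun _ => ℕ) rb5382 rb5383 (Nat.ble (nat_lit 5383) i)) (Nat.ble (nat_lit 5382) i)) (Nat.ble (nat_lit 5380) i)) (@Bool.rec (fun _ => ℕ) (@Bool.rec (fun _ => ℕ) (@Bool.rec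 (fun _ => ℕ) rb5384 rb5385 (Nat.ble (nat_lit 5385) i)) (@Bool.rec (fun _ => ℕ) rb5386 rb5387 (Nat.ble (nat_lit 5387) i)) (Nat.ble (nat_lit 5386) i)) (@Bool.rec (fun _ => ℕ) (@Bool.rec (fun _ => ℕ) rb5388 rb5389 (Nat.ble (nat_lit 5389) i)) (@Bool.rec (fun _ => ℕ) rb5390 rb5391 (Nat.ble (nat_lit 5391) i)) (Nat.ble (nat_lit 5390) i)) (Nat.ble (nat_lit 5388) i)) (Nat.ble (nat_lit 5384) i)) (@Bool.rec (fun _ => ℕ) (@Bool.rec (fun _ => ℕ) (@Bool.rec (fun _ => ℕ) (@Bool.rec (fun _ => ℕ) rb5392 rb5393 (Nat.ble (nat_lit 5393) i)) (@Bool.rec (fun _ => ℕ) rb5394 rb5395 (Nat.ble (nat_lit 5395) i)) (Nat.ble (nat_lit 5394) i)) (@Bool.rec (fun _ => ℕ) (@Bool.rec (fun _ => ℕ) rb5396 rb5397 (Nat.ble (nat_lit 5397) i)) (@Bool.rec (fun _ => ℕ) rb5398 rb5399 (Nat.ble (nat_lit 5399) i)) (Nat.ble (nat_lit 5398) i)) (Nat.ble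 (nat_lit 5396) i)) (@Bool.rec (fun _ => ℕ) (@Bool.rec (fun _ => ℕ) (@Bool.rec (fun _ => ℕ) rb5400 rb5401 (Nat.ble (nat_lit 5401) i)) (@Bool.rec (fun _ => ℕ) rb5402 rb5403 (Nat.ble (nat_lit 5403) i)) (Nat.ble (nat_lit 5402) i)) (@Bool.rec (fun _ => ℕ) (@Bool.rec (fun _ => ℕ) rb5404 rb5405 (Nat.ble (nat_lit 5405) i)) (@Bool.rec (fun _ => ℕ) rb5406 rb5407 (Nat.ble (nat_lit 5407) i)) (Nat.ble (nat_lit 5406) i)) (Nat.ble (nat_lit 5404) i)) (Nat.ble (nat_lit 5400) i)) (Nat.ble (nat_lit 5392) i))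

def rowBlk_n0_169 (i : ℕ) : ℕ := (@Bool.rec (fun _ => ℕ) (@Bool.rec (fun _ => ℕ) (@Bool.rec (fun _ => ℕ) (@Bool.rec (fun _ => ℕ) (@Bool.rec (fun _ => ℕ) rb5408 rb5409 (Nat.ble (nat_lit 5409) i)) (@Bool.rec (fun _ => ℕ) rb5410 rb5411 (Nat.ble (nat_lit 5411) i)) (Nat.ble (nat_lit 5410) i)) (@Bool.rec (fun _ => ℕ) (@Bool.rec (fun _ => ℕ) rb5412 rb5413 (Nat.ble (nat_lit 5413) i)) (@Bool.rec (fun _ => ℕ) rb5414 rb5415 (Nat.ble (nat_lit 5415) i)) (Nat.ble (nat_lit 5414) i)) (Nat.ble (nat_lit 5412) i)) (@Bool.rec (fun _ => ℕ) (@Bool.rec (fun _ => ℕ) (@Bool.rec (fun _ => ℕ) rb5416 rb5417 (Nat.ble (nat_lit 5417) i)) (@Bool.rec (fun _ => ℕ) rb5418 rb5419 (Nat.ble (nat_lit 5419) i)) (Nat.ble (nat_lit 5418) i)) (@Bool.rec (fun _ => ℕ) (@Bool.rec (fun _ => ℕ) rb5420 rb5421 (Nat.ble (nat_lit 5421) i)) (@Bool.rec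 (fun _ => ℕ) rb5422 rb5423 (Nat.ble (nat_lit 5423) i)) (Nat.ble (nat_lit 5422) i)) (Nat.ble (nat_lit 5420) i)) (Nat.ble (nat_lit 5416) i)) (@Bool.rec (fun _ => ℕ) (@Bool.rec (fun _ => ℕ) (@Bool.rec (fun _ => ℕ) (@Bool.rec (fun _ => ℕ) rb5424 rb5425 (Nat.ble (nat_lit 5425) i)) (@Bool.rec (fun _ => ℕ) rb5426 rb5427 (Nat.ble (nat_lit 5427) i)) (Nat.ble (nat_lit 5426) i)) (@Bool.rec (fun _ => ℕ) (@Bool.rec (fun _ => ℕ) rb5428 rb5429 (Nat.ble (nat_lit 5429) i)) (@Bool.rec (fun _ => ℕ) rb5430 rb5431 (Nat.ble (nat_lit 5431) i)) (Nat.ble (nat_lit 5430) i)) (Nat.ble (nat_lit 5428) i)) (@Bool.rec (fun _ => ℕ) (@Bool.rec (fun _ => ℕ) (@Bool.rec (fun _ => ℕ) rb5432 rb5433 (Nat.ble (nat_lit 5433) i)) (@Bool.rec (fun _ => ℕ) rb5434 rb5435 (Nat.ble (nat_lit 5435) i)) (Nat.ble (nat_lit 5434) i)) (@Bool.rec (fun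 _ => ℕ) (@Bool.rec (fun _ => ℕ) rb5436 rb5437 (Nat.ble (nat_lit 5437) i)) (@Bool.rec (fun _ => ℕ) rb5438 rb5439 (Nat.ble (nat_lit 5439) i)) (Nat.ble (nat_lit 5438) i)) (Nat.ble (nat_lit 5436) i)) (Nat.ble (nat_lit 5432) i)) (Nat.ble (nat_lit 5424) i))

def rowBlk_n0_170 (i : ℕ) : ℕ := (@Bool.rec (fun _ => ℕ) (@Bool.rec (fun _ => ℕ) (@Bool.rec (fun _ => ℕ) (@Bool.rec (fun _ => ℕ) (@Bool.rec (fun _ => ℕ) rb5440 rb5441 (Nat.ble (nat_lit 5441) i)) (@Bool.rec (fun _ => ℕ) rb5442 rb5443 (Nat.ble (nat_lit 5443) i)) (Nat.ble (nat_lit 5442) i)) (@Bool.rec (fun _ => ℕ) (@Bool.rec (fun _ => ℕ) rb5444 rb5445 (Nat.ble (nat_lit 5445) i)) (@Bool.rec (fun _ => ℕ) rb5446 rb5447 (Nat.ble (nat_lit 5447) i)) (Nat.ble (nat_lit 5446) i)) (Nat.ble (nat_lit 5444) i)) (@Bool.rec (fun _ => ℕ) (@Bool.rec (fun _ => ℕ) (@Bool.rec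 (fun _ => ℕ) rb5448 rb5449 (Nat.ble (nat_lit 5449) i)) (@Bool.rec (fun _ => ℕ) rb5450 rb5451 (Nat.ble (nat_lit 5451) i)) (Nat.ble (nat_lit 5450) i)) (@Bool.rec (fun _ => ℕ) (@Bool.rec (fun _ => ℕ) rb5452 rb5453 (Nat.ble (nat_lit 5453) i)) (@Bool.rec (fun _ => ℕ) rb5454 rb5455 (Nat.ble (nat_lit 5455) i)) (Nat.ble (nat_lit 5454) i)) (Nat.ble (nat_lit 5452) i)) (Nat.ble (nat_lit 5448) i)) (@Bool.rec (fun _ => ℕ) (@Bool.rec (fun _ => ℕ) (@Bool.rec (fun _ => ℕ) (@Bool.rec (fun _ => ℕ) rb5456 rb5457 (Nat.ble (nat_lit 5457) i)) (@Bool.rec (fun _ => ℕ) rb5458 rb5459 (Nat.ble (nat_lit 5459) i)) (Nat.ble (nat_lit 5458) i)) (@Bool.rec (fun _ => ℕ) (@Bool.rec (fun _ => ℕ) rb5460 rb5461 (Nat.ble (nat_lit 5461) i)) (@Bool.rec (fun _ => ℕ) rb5462 rb5463 (Nat.ble (nat_lit 5463) i)) (Nat.ble (nat_lit 5462) i)) (Nat.ble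 (nat_lit 5460) i)) (@Bool.rec (fun _ => ℕ) (@Bool.rec (fun _ => ℕ) (@Bool.rec (fun _ => ℕ) rb5464 rb5465 (Nat.ble (nat_lit 5465) i)) (@Bool.rec (fun _ => ℕ) rb5466 rb5467 (Nat.ble (nat_lit 5467) i)) (Nat.ble (nat_lit 5466) i)) (@Bool.rec (fun _ => ℕ) (@Bool.rec (fun _ => ℕ) rb5468 rb5469 (Nat.ble (nat_lit 5469) i)) (@Bool.rec (fun _ => ℕ) rb5470 rb5471 (Nat.ble (nat_lit 5471) i)) (Nat.ble (nat_lit 5470) i)) (Nat.ble (nat_lit 5468) i)) (Nat.ble (nat_lit 5464) i)) (Nat.ble (nat_lit 5456) i))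

def rowBlk_n0_171 (i : ℕ) : ℕ := (@Bool.rec (fun _ => ℕ) (@Bool.rec (fun _ => ℕ) (@Bool.rec (fun _ => ℕ) (@Bool.rec (fun _ => ℕ) (@Bool.rec (fun _ => ℕ) rb5472 rb5473 (Nat.ble (nat_lit 5473) i)) (@Bool.rec (fun _ => ℕ) rb5474 rb5475 (Nat.ble (nat_lit 5475) i)) (Nat.ble (nat_lit 5474) i)) (@Bool.rec (fun _ => ℕ) (@Bool.rec (fun _ => ℕ) rb5476 rb5477 (Nat.ble (nat_lit 5477) i)) (@Bool.rec (fun _ => ℕ) rb5478 rb5479 (Nat.ble (nat_lit 5479) i)) (Nat.ble (nat_lit 5478) i)) (Nat.ble (nat_lit 5476) i)) (@Bool.rec (fun _ => ℕ) (@Bool.rec (fun _ => ℕ) (@Bool.rec (fun _ => ℕ) rb5480 rb5481 (Nat.ble (nat_lit 5481) i)) (@Bool.rec (fun _ => ℕ) rb5482 rb5483 (Nat.ble (nat_lit 5483) i)) (Nat.ble (nat_lit 5482) i)) (@Bool.rec (fun _ => ℕ) (@Bool.rec (fun _ => ℕ) rb5484 rb5485 (Nat.ble (nat_lit 5485) i)) (@Bool.rec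 (fun _ => ℕ) rb5486 rb5487 (Nat.ble (nat_lit 5487) i)) (Nat.ble (nat_lit 5486) i)) (Nat.ble (nat_lit 5484) i)) (Nat.ble (nat_lit 5480) i)) (@Bool.rec (fun _ => ℕ) (@Bool.rec (fun _ => ℕ) (@Bool.rec (fun _ => ℕ) (@Bool.rec (fun _ => ℕ) rb5488 rb5489 (Nat.ble (nat_lit 5489) i)) (@Bool.rec (fun _ => ℕ) rb5490 rb5491 (Nat.ble (nat_lit 5491) i)) (Nat.ble (nat_lit 5490) i)) (@Bool.rec (fun _ => ℕ) (@Bool.rec (fun _ => ℕ) rb5492 rb5493 (Nat.ble (nat_lit 5493) i)) (@Bool.rec (fun _ => ℕ) rb5494 rb5495 (Nat.ble (nat_lit 5495) i)) (Nat.ble (nat_lit 5494) i)) (Nat.ble (nat_lit 5492) i)) (@Bool.rec (fun _ => ℕ) (@Bool.rec (fun _ => ℕ) (@Bool.rec (fun _ => ℕ) rb5496 rb5497 (Nat.ble (nat_lit 5497) i)) (@Bool.rec (fun _ => ℕ) rb5498 rb5499 (Nat.ble (nat_lit 5499) i)) (Nat.ble (nat_lit 5498) i)) (@Bool.rec (fun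 _ => ℕ) (@Bool.rec (fun _ => ℕ) rb5500 rb5501 (Nat.ble (nat_lit 5501) i)) (@Bool.rec (fun _ => ℕ) rb5502 rb5503 (Nat.ble (nat_lit 5503) i)) (Nat.ble (nat_lit 5502) i)) (Nat.ble (nat_lit 5500) i)) (Nat.ble (nat_lit 5496) i)) (Nat.ble (nat_lit 5488) i))

def rowBlk_n0_172 (i : ℕ) : ℕ := (@Bool.rec (fun _ => ℕ) (@Bool.rec (fun _ => ℕ) (@Bool.rec (fun _ => ℕ) (@Bool.rec (fun _ => ℕ) (@Bool.rec (fun _ => ℕ) rb5504 rb5505 (Nat.ble (nat_lit 5505) i)) (@Bool.rec (fun _ => ℕ) rb5506 rb5507 (Nat.ble (nat_lit 5507) i)) (Nat.ble (nat_lit 5506) i)) (@Bool.rec (fun _ => ℕ) (@Bool.rec (fun _ => ℕ) rb5508 rb5509 (Nat.ble (nat_lit 5509) i)) (@Bool.rec (fun _ => ℕ) rb5510 rb5511 (Nat.ble (nat_lit 5511) i)) (Nat.ble (nat_lit 5510) i)) (Nat.ble (nat_lit 5508) i)) (@Bool.rec (fun _ => ℕ) (@Bool.rec (fun _ => ℕ) (@Bool.rec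 (fun _ => ℕ) rb5512 rb5513 (Nat.ble (nat_lit 5513) i)) (@Bool.rec (fun _ => ℕ) rb5514 rb5515 (Nat.ble (nat_lit 5515) i)) (Nat.ble (nat_lit 5514) i)) (@Bool.rec (fun _ => ℕ) (@Bool.rec (fun _ => ℕ) rb5516 rb5517 (Nat.ble (nat_lit 5517) i)) (@Bool.rec (fun _ => ℕ) rb5518 rb5519 (Nat.ble (nat_lit 5519) i)) (Nat.ble (nat_lit 5518) i)) (Nat.ble (nat_lit 5516) i)) (Nat.ble (nat_lit 5512) i)) (@Bool.rec (fun _ => ℕ) (@Bool.rec (fun _ => ℕ) (@Bool.rec (fun _ => ℕ) (@Bool.rec (fun _ => ℕ) rb5520 rb5521 (Nat.ble (nat_lit 5521) i)) (@Bool.rec (fun _ => ℕ) rb5522 rb5523 (Nat.ble (nat_lit 5523) i)) (Nat.ble (nat_lit 5522) i)) (@Bool.rec (fun _ => ℕ) (@Bool.rec (fun _ => ℕ) rb5524 rb5525 (Nat.ble (nat_lit 5525) i)) (@Bool.rec (fun _ => ℕ) rb5526 rb5527 (Nat.ble (nat_lit 5527) i)) (Nat.ble (nat_lit 5526) i)) (Nat.ble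 (nat_lit 5524) i)) (@Bool.rec (fun _ => ℕ) (@Bool.rec (fun _ => ℕ) (@Bool.rec (fun _ => ℕ) rb5528 rb5529 (Nat.ble (nat_lit 5529) i)) (@Bool.rec (fun _ => ℕ) rb5530 rb5531 (Nat.ble (nat_lit 5531) i)) (Nat.ble (nat_lit 5530) i)) (@Bool.rec (fun _ => ℕ) (@Bool.rec (fun _ => ℕ) rb5532 rb5533 (Nat.ble (nat_lit 5533) i)) (@Bool.rec (fun _ => ℕ) rb5534 rb5535 (Nat.ble (nat_lit 5535) i)) (Nat.ble (nat_lit 5534) i)) (Nat.ble (nat_lit 5532) i)) (Nat.ble (nat_lit 5528) i)) (Nat.ble (nat_lit 5520) i))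

def rowBlk_n0_173 (i : ℕ) : ℕ := (@Bool.rec (fun _ => ℕ) (@Bool.rec (fun _ => ℕ) (@Bool.rec (fun _ => ℕ) (@Bool.rec (fun _ => ℕ) (@Bool.rec (fun _ => ℕ) rb5536 rb5537 (Nat.ble (nat_lit 5537) i)) (@Bool.rec (fun _ => ℕ) rb5538 rb5539 (Nat.ble (nat_lit 5539) i)) (Nat.ble (nat_lit 5538) i)) (@Bool.rec (fun _ => ℕ) (@Bool.rec (fun _ => ℕ) rb5540 rb5541 (Nat.ble (nat_lit 5541) i)) (@Bool.rec (fun _ => ℕ) rb5542 rb5543 (Nat.ble (nat_lit 5543) i)) (Nat.ble (nat_lit 5542) i)) (Nat.ble (nat_lit 5540) i)) (@Bool.rec (fun _ => ℕ) (@Bool.rec (fun _ => ℕ) (@Bool.rec (fun _ => ℕ) rb5544 rb5545 (Nat.ble (nat_lit 5545) i)) (@Bool.rec (fun _ => ℕ) rb5546 rb5547 (Nat.ble (nat_lit 5547) i)) (Nat.ble (nat_lit 5546) i)) (@Bool.rec (fun _ => ℕ) (@Bool.rec (fun _ => ℕ) rb5548 rb5549 (Nat.ble (nat_lit 5549) i)) (@Bool.rec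 (fun _ => ℕ) rb5550 rb5551 (Nat.ble (nat_lit 5551) i)) (Nat.ble (nat_lit 5550) i)) (Nat.ble (nat_lit 5548) i)) (Nat.ble (nat_lit 5544) i)) (@Bool.rec (fun _ => ℕ) (@Bool.rec (fun _ => ℕ) (@Bool.rec (fun _ => ℕ) (@Bool.rec (fun _ => ℕ) rb5552 rb5553 (Nat.ble (nat_lit 5553) i)) (@Bool.rec (fun _ => ℕ) rb5554 rb5555 (Nat.ble (nat_lit 5555) i)) (Nat.ble (nat_lit 5554) i)) (@Bool.rec (fun _ => ℕ) (@Bool.rec (fun _ => ℕ) rb5556 rb5557 (Nat.ble (nat_lit 5557) i)) (@Bool.rec (fun _ => ℕ) rb5558 rb5559 (Nat.ble (nat_lit 5559) i)) (Nat.ble (nat_lit 5558) i)) (Nat.ble (nat_lit 5556) i)) (@Bool.rec (fun _ => ℕ) (@Bool.rec (fun _ => ℕ) (@Bool.rec (fun _ => ℕ) rb5560 rb5561 (Nat.ble (nat_lit 5561) i)) (@Bool.rec (fun _ => ℕ) rb5562 rb5563 (Nat.ble (nat_lit 5563) i)) (Nat.ble (nat_lit 5562) i)) (@Bool.rec (fun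 _ => ℕ) (@Bool.rec (fun _ => ℕ) rb5564 rb5565 (Nat.ble (nat_lit 5565) i)) (@Bool.rec (fun _ => ℕ) rb5566 rb5567 (Nat.ble (nat_lit 5567) i)) (Nat.ble (nat_lit 5566) i)) (Nat.ble (nat_lit 5564) i)) (Nat.ble (nat_lit 5560) i)) (Nat.ble (nat_lit 5552) i))

def rowBlk_n0_174 (i : ℕ) : ℕ := (@Bool.rec (fun _ => ℕ) (@Bool.rec (fun _ => ℕ) (@Bool.rec (fun _ => ℕ) (@Bool.rec (fun _ => ℕ) (@Bool.rec (fun _ => ℕ) rb5568 rb5569 (Nat.ble (nat_lit 5569) i)) (@Bool.rec (fun _ => ℕ) rb5570 rb5571 (Nat.ble (nat_lit 5571) i)) (Nat.ble (nat_lit 5570) i)) (@Bool.rec (fun _ => ℕ) (@Bool.rec (fun _ => ℕ) rb5572 rb5573 (Nat.ble (nat_lit 5573) i)) (@Bool.rec (fun _ => ℕ) rb5574 rb5575 (Nat.ble (nat_lit 5575) i)) (Nat.ble (nat_lit 5574) i)) (Nat.ble (nat_lit 5572) i)) (@Bool.rec (fun _ => ℕ) (@Bool.rec (fun _ => ℕ) (@Bool.rec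 (fun _ => ℕ) rb5576 rb5577 (Nat.ble (nat_lit 5577) i)) (@Bool.rec (fun _ => ℕ) rb5578 rb5579 (Nat.ble (nat_lit 5579) i)) (Nat.ble (nat_lit 5578) i)) (@Bool.rec (fun _ => ℕ) (@Bool.rec (fun _ => ℕ) rb5580 rb5581 (Nat.ble (nat_lit 5581) i)) (@Bool.rec (fun _ => ℕ) rb5582 rb5583 (Nat.ble (nat_lit 5583) i)) (Nat.ble (nat_lit 5582) i)) (Nat.ble (nat_lit 5580) i)) (Nat.ble (nat_lit 5576) i)) (@Bool.rec (fun _ => ℕ) (@Bool.rec (fun _ => ℕ) (@Bool.rec (fun _ => ℕ) (@Bool.rec (fun _ => ℕ) rb5584 rb5585 (Nat.ble (nat_lit 5585) i)) (@Bool.rec (fun _ => ℕ) rb5586 rb5587 (Nat.ble (nat_lit 5587) i)) (Nat.ble (nat_lit 5586) i)) (@Bool.rec (fun _ => ℕ) (@Bool.rec (fun _ => ℕ) rb5588 rb5589 (Nat.ble (nat_lit 5589) i)) (@Bool.rec (fun _ => ℕ) rb5590 rb5591 (Nat.ble (nat_lit 5591) i)) (Nat.ble (nat_lit 5590) i)) (Nat.ble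 (nat_lit 5588) i)) (@Bool.rec (fun _ => ℕ) (@Bool.rec (fun _ => ℕ) (@Bool.rec (fun _ => ℕ) rb5592 rb5593 (Nat.ble (nat_lit 5593) i)) (@Bool.rec (fun _ => ℕ) rb5594 rb5595 (Nat.ble (nat_lit 5595) i)) (Nat.ble (nat_lit 5594) i)) (@Bool.rec (fun _ => ℕ) (@Bool.rec (fun _ => ℕ) rb5596 rb5597 (Nat.ble (nat_lit 5597) i)) (@Bool.rec (fun _ => ℕ) rb5598 rb5599 (Nat.ble (nat_lit 5599) i)) (Nat.ble (nat_lit 5598) i)) (Nat.ble (nat_lit 5596) i)) (Nat.ble (nat_lit 5592) i)) (Nat.ble (nat_lit 5584) i))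

def rowBlk_n0_175 (i : ℕ) : ℕ := (@Bool.rec (fun _ => ℕ) (@Bool.rec (fun _ => ℕ) (@Bool.rec (fun _ => ℕ) (@Bool.rec (fun _ => ℕ) (@Bool.rec (fun _ => ℕ) rb5600 rb5601 (Nat.ble (nat_lit 5601) i)) (@Bool.rec (fun _ => ℕ) rb5602 rb5603 (Nat.ble (nat_lit 5603) i)) (Nat.ble (nat_lit 5602) i)) (@Bool.rec (fun _ => ℕ) (@Bool.rec (fun _ => ℕ) rb5604 rb5605 (Nat.ble (nat_lit 5605) i)) (@Bool.rec (fun _ => ℕ) rb5606 rb5607 (Nat.ble (nat_lit 5607) i)) (Nat.ble (nat_lit 5606) i)) (Nat.ble (nat_lit 5604) i)) (@Bool.rec (fun _ => ℕ) (@Bool.rec (fun _ => ℕ) (@Bool.rec (fun _ => ℕ) rb5608 rb5609 (Nat.ble (nat_lit 5609) i)) (@Bool.rec (fun _ => ℕ) rb5610 rb5611 (Nat.ble (nat_lit 5611) i)) (Nat.ble (nat_lit 5610) i)) (@Bool.rec (fun _ => ℕ) (@Bool.rec (fun _ => ℕ) rb5612 rb5613 (Nat.ble (nat_lit 5613) i)) (@Bool.rec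 (fun _ => ℕ) rb5614 rb5615 (Nat.ble (nat_lit 5615) i)) (Nat.ble (nat_lit 5614) i)) (Nat.ble (nat_lit 5612) i)) (Nat.ble (nat_lit 5608) i)) (@Bool.rec (fun _ => ℕ) (@Bool.rec (fun _ => ℕ) (@Bool.rec (fun _ => ℕ) (@Bool.rec (fun _ => ℕ) rb5616 rb5617 (Nat.ble (nat_lit 5617) i)) (@Bool.rec (fun _ => ℕ) rb5618 rb5619 (Nat.ble (nat_lit 5619) i)) (Nat.ble (nat_lit 5618) i)) (@Bool.rec (fun _ => ℕ) (@Bool.rec (fun _ => ℕ) rb5620 rb5621 (Nat.ble (nat_lit 5621) i)) (@Bool.rec (fun _ => ℕ) rb5622 rb5623 (Nat.ble (nat_lit 5623) i)) (Nat.ble (nat_lit 5622) i)) (Nat.ble (nat_lit 5620) i)) (@Bool.rec (fun _ => ℕ) (@Bool.rec (fun _ => ℕ) (@Bool.rec (fun _ => ℕ) rb5624 rb5625 (Nat.ble (nat_lit 5625) i)) (@Bool.rec (fun _ => ℕ) rb5626 rb5627 (Nat.ble (nat_lit 5627) i)) (Nat.ble (nat_lit 5626) i)) (@Bool.rec (fun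 _ => ℕ) (@Bool.rec (fun _ => ℕ) rb5628 rb5629 (Nat.ble (nat_lit 5629) i)) (@Bool.rec (fun _ => ℕ) rb5630 rb5631 (Nat.ble (nat_lit 5631) i)) (Nat.ble (nat_lit 5630) i)) (Nat.ble (nat_lit 5628) i)) (Nat.ble (nat_lit 5624) i)) (Nat.ble (nat_lit 5616) i))

def rowBlk_n0_176 (i : ℕ) : ℕ := (@Bool.rec (fun _ => ℕ) (@Bool.rec (fun _ => ℕ) (@Bool.rec (fun _ => ℕ) (@Bool.rec (fun _ => ℕ) (@Bool.rec (fun _ => ℕ) rb5632 rb5633 (Nat.ble (nat_lit 5633) i)) (@Bool.rec (fun _ => ℕ) rb5634 rb5635 (Nat.ble (nat_lit 5635) i)) (Nat.ble (nat_lit 5634) i)) (@Bool.rec (fun _ => ℕ) (@Bool.rec (fun _ => ℕ) rb5636 rb5637 (Nat.ble (nat_lit 5637) i)) (@Bool.rec (fun _ => ℕ) rb5638 rb5639 (Nat.ble (nat_lit 5639) i)) (Nat.ble (nat_lit 5638) i)) (Nat.ble (nat_lit 5636) i)) (@Bool.rec (fun _ => ℕ) (@Bool.rec (fun _ => ℕ) (@Bool.rec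 (fun _ => ℕ) rb5640 rb5641 (Nat.ble (nat_lit 5641) i)) (@Bool.rec (fun _ => ℕ) rb5642 rb5643 (Nat.ble (nat_lit 5643) i)) (Nat.ble (nat_lit 5642) i)) (@Bool.rec (fun _ => ℕ) (@Bool.rec (fun _ => ℕ) rb5644 rb5645 (Nat.ble (nat_lit 5645) i)) (@Bool.rec (fun _ => ℕ) rb5646 rb5647 (Nat.ble (nat_lit 5647) i)) (Nat.ble (nat_lit 5646) i)) (Nat.ble (nat_lit 5644) i)) (Nat.ble (nat_lit 5640) i)) (@Bool.rec (fun _ => ℕ) (@Bool.rec (fun _ => ℕ) (@Bool.rec (fun _ => ℕ) (@Bool.rec (fun _ => ℕ) rb5648 rb5649 (Nat.ble (nat_lit 5649) i)) (@Bool.rec (fun _ => ℕ) rb5650 rb5651 (Nat.ble (nat_lit 5651) i)) (Nat.ble (nat_lit 5650) i)) (@Bool.rec (fun _ => ℕ) (@Bool.rec (fun _ => ℕ) rb5652 rb5653 (Nat.ble (nat_lit 5653) i)) (@Bool.rec (fun _ => ℕ) rb5654 rb5655 (Nat.ble (nat_lit 5655) i)) (Nat.ble (nat_lit 5654) i)) (Nat.ble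 (nat_lit 5652) i)) (@Bool.rec (fun _ => ℕ) (@Bool.rec (fun _ => ℕ) (@Bool.rec (fun _ => ℕ) rb5656 rb5657 (Nat.ble (nat_lit 5657) i)) (@Bool.rec (fun _ => ℕ) rb5658 rb5659 (Nat.ble (nat_lit 5659) i)) (Nat.ble (nat_lit 5658) i)) (@Bool.rec (fun _ => ℕ) (@Bool.rec (fun _ => ℕ) rb5660 rb5661 (Nat.ble (nat_lit 5661) i)) (@Bool.rec (fun _ => ℕ) rb5662 rb5663 (Nat.ble (nat_lit 5663) i)) (Nat.ble (nat_lit 5662) i)) (Nat.ble (nat_lit 5660) i)) (Nat.ble (nat_lit 5656) i)) (Nat.ble (nat_lit 5648) i))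

def rowBlk_n0_177 (i : ℕ) : ℕ := (@Bool.rec (fun _ => ℕ) (@Bool.rec (fun _ => ℕ) (@Bool.rec (fun _ => ℕ) (@Bool.rec (fun _ => ℕ) (@Bool.rec (fun _ => ℕ) rb5664 rb5665 (Nat.ble (nat_lit 5665) i)) (@Bool.rec (fun _ => ℕ) rb5666 rb5667 (Nat.ble (nat_lit 5667) i)) (Nat.ble (nat_lit 5666) i)) (@Bool.rec (fun _ => ℕ) (@Bool.rec (fun _ => ℕ) rb5668 rb5669 (Nat.ble (nat_lit 5669) i)) (@Bool.rec (fun _ => ℕ) rb5670 rb5671 (Nat.ble (nat_lit 5671) i)) (Nat.ble (nat_lit 5670) i)) (Nat.ble (nat_lit 5668) i)) (@Bool.rec (fun _ => ℕ) (@Bool.rec (fun _ => ℕ) (@Bool.rec (fun _ => ℕ) rb5672 rb5673 (Nat.ble (nat_lit 5673) i)) (@Bool.rec (fun _ => ℕ) rb5674 rb5675 (Nat.ble (nat_lit 5675) i)) (Nat.ble (nat_lit 5674) i)) (@Bool.rec (fun _ => ℕ) (@Bool.rec (fun _ => ℕ) rb5676 rb5677 (Nat.ble (nat_lit 5677) i)) (@Bool.rec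 (fun _ => ℕ) rb5678 rb5679 (Nat.ble (nat_lit 5679) i)) (Nat.ble (nat_lit 5678) i)) (Nat.ble (nat_lit 5676) i)) (Nat.ble (nat_lit 5672) i)) (@Bool.rec (fun _ => ℕ) (@Bool.rec (fun _ => ℕ) (@Bool.rec (fun _ => ℕ) (@Bool.rec (fun _ => ℕ) rb5680 rb5681 (Nat.ble (nat_lit 5681) i)) (@Bool.rec (fun _ => ℕ) rb5682 rb5683 (Nat.ble (nat_lit 5683) i)) (Nat.ble (nat_lit 5682) i)) (@Bool.rec (fun _ => ℕ) (@Bool.rec (fun _ => ℕ) rb5684 rb5685 (Nat.ble (nat_lit 5685) i)) (@Bool.rec (fun _ => ℕ) rb5686 rb5687 (Nat.ble (nat_lit 5687) i)) (Nat.ble (nat_lit 5686) i)) (Nat.ble (nat_lit 5684) i)) (@Bool.rec (fun _ => ℕ) (@Bool.rec (fun _ => ℕ) (@Bool.rec (fun _ => ℕ) rb5688 rb5689 (Nat.ble (nat_lit 5689) i)) (@Bool.rec (fun _ => ℕ) rb5690 rb5691 (Nat.ble (nat_lit 5691) i)) (Nat.ble (nat_lit 5690) i)) (@Bool.rec (fun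 _ => ℕ) (@Bool.rec (fun _ => ℕ) rb5692 rb5693 (Nat.ble (nat_lit 5693) i)) (@Bool.rec (fun _ => ℕ) rb5694 rb5695 (Nat.ble (nat_lit 5695) i)) (Nat.ble (nat_lit 5694) i)) (Nat.ble (nat_lit 5692) i)) (Nat.ble (nat_lit 5688) i)) (Nat.ble (nat_lit 5680) i))

def rowBlk_n0_178 (i : ℕ) : ℕ := (@Bool.rec (fun _ => ℕ) (@Bool.rec (fun _ => ℕ) (@Bool.rec (fun _ => ℕ) (@Bool.rec (fun _ => ℕ) (@Bool.rec (fun _ => ℕ) rb5696 rb5697 (Nat.ble (nat_lit 5697) i)) (@Bool.rec (fun _ => ℕ) rb5698 rb5699 (Nat.ble (nat_lit 5699) i)) (Nat.ble (nat_lit 5698) i)) (@Bool.rec (fun _ => ℕ) (@Bool.rec (fun _ => ℕ) rb5700 rb5701 (Nat.ble (nat_lit 5701) i)) (@Bool.rec (fun _ => ℕ) rb5702 rb5703 (Nat.ble (nat_lit 5703) i)) (Nat.ble (nat_lit 5702) i)) (Nat.ble (nat_lit 5700) i)) (@Bool.rec (fun _ => ℕ) (@Bool.rec (fun _ => ℕ) (@Bool.rec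 (fun _ => ℕ) rb5704 rb5705 (Nat.ble (nat_lit 5705) i)) (@Bool.rec (fun _ => ℕ) rb5706 rb5707 (Nat.ble (nat_lit 5707) i)) (Nat.ble (nat_lit 5706) i)) (@Bool.rec (fun _ => ℕ) (@Bool.rec (fun _ => ℕ) rb5708 rb5709 (Nat.ble (nat_lit 5709) i)) (@Bool.rec (fun _ => ℕ) rb5710 rb5711 (Nat.ble (nat_lit 5711) i)) (Nat.ble (nat_lit 5710) i)) (Nat.ble (nat_lit 5708) i)) (Nat.ble (nat_lit 5704) i)) (@Bool.rec (fun _ => ℕ) (@Bool.rec (fun _ => ℕ) (@Bool.rec (fun _ => ℕ) (@Bool.rec (fun _ => ℕ) rb5712 rb5713 (Nat.ble (nat_lit 5713) i)) (@Bool.rec (fun _ => ℕ) rb5714 rb5715 (Nat.ble (nat_lit 5715) i)) (Nat.ble (nat_lit 5714) i)) (@Bool.rec (fun _ => ℕ) (@Bool.rec (fun _ => ℕ) rb5716 rb5717 (Nat.ble (nat_lit 5717) i)) (@Bool.rec (fun _ => ℕ) rb5718 rb5719 (Nat.ble (nat_lit 5719) i)) (Nat.ble (nat_lit 5718) i)) (Nat.ble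 (nat_lit 5716) i)) (@Bool.rec (fun _ => ℕ) (@Bool.rec (fun _ => ℕ) (@Bool.rec (fun _ => ℕ) rb5720 rb5721 (Nat.ble (nat_lit 5721) i)) (@Bool.rec (fun _ => ℕ) rb5722 rb5723 (Nat.ble (nat_lit 5723) i)) (Nat.ble (nat_lit 5722) i)) (@Bool.rec (fun _ => ℕ) (@Bool.rec (fun _ => ℕ) rb5724 rb5725 (Nat.ble (nat_lit 5725) i)) (@Bool.rec (fun _ => ℕ) rb5726 rb5727 (Nat.ble (nat_lit 5727) i)) (Nat.ble (nat_lit 5726) i)) (Nat.ble (nat_lit 5724) i)) (Nat.ble (nat_lit 5720) i)) (Nat.ble (nat_lit 5712) i))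

def rowBlk_n0_179 (i : ℕ) : ℕ := (@Bool.rec (fun _ => ℕ) (@Bool.rec (fun _ => ℕ) (@Bool.rec (fun _ => ℕ) (@Bool.rec (fun _ => ℕ) (@Bool.rec (fun _ => ℕ) rb5728 rb5729 (Nat.ble (nat_lit 5729) i)) (@Bool.rec (fun _ => ℕ) rb5730 rb5731 (Nat.ble (nat_lit 5731) i)) (Nat.ble (nat_lit 5730) i)) (@Bool.rec (fun _ => ℕ) (@Bool.rec (fun _ => ℕ) rb5732 rb5733 (Nat.ble (nat_lit 5733) i)) (@Bool.rec (fun _ => ℕ) rb5734 rb5735 (Nat.ble (nat_lit 5735) i)) (Nat.ble (nat_lit 5734) i)) (Nat.ble (nat_lit 5732) i)) (@Bool.rec (fun _ => ℕ) (@Bool.rec (fun _ => ℕ) (@Bool.rec (fun _ => ℕ) rb5736 rb5737 (Nat.ble (nat_lit 5737) i)) (@Bool.rec (fun _ => ℕ) rb5738 rb5739 (Nat.ble (nat_lit 5739) i)) (Nat.ble (nat_lit 5738) i)) (@Bool.rec (fun _ => ℕ) (@Bool.rec (fun _ => ℕ) rb5740 rb5741 (Nat.ble (nat_lit 5741) i)) (@Bool.rec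 (fun _ => ℕ) rb5742 rb5743 (Nat.ble (nat_lit 5743) i)) (Nat.ble (nat_lit 5742) i)) (Nat.ble (nat_lit 5740) i)) (Nat.ble (nat_lit 5736) i)) (@Bool.rec (fun _ => ℕ) (@Bool.rec (fun _ => ℕ) (@Bool.rec (fun _ => ℕ) (@Bool.rec (fun _ => ℕ) rb5744 rb5745 (Nat.ble (nat_lit 5745) i)) (@Bool.rec (fun _ => ℕ) rb5746 rb5747 (Nat.ble (nat_lit 5747) i)) (Nat.ble (nat_lit 5746) i)) (@Bool.rec (fun _ => ℕ) (@Bool.rec (fun _ => ℕ) rb5748 rb5749 (Nat.ble (nat_lit 5749) i)) (@Bool.rec (fun _ => ℕ) rb5750 rb5751 (Nat.ble (nat_lit 5751) i)) (Nat.ble (nat_lit 5750) i)) (Nat.ble (nat_lit 5748) i)) (@Bool.rec (fun _ => ℕ) (@Bool.rec (fun _ => ℕ) (@Bool.rec (fun _ => ℕ) rb5752 rb5753 (Nat.ble (nat_lit 5753) i)) (@Bool.rec (fun _ => ℕ) rb5754 rb5755 (Nat.ble (nat_lit 5755) i)) (Nat.ble (nat_lit 5754) i)) (@Bool.rec (fun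 _ => ℕ) (@Bool.rec (fun _ => ℕ) rb5756 rb5757 (Nat.ble (nat_lit 5757) i)) (@Bool.rec (fun _ => ℕ) rb5758 rb5759 (Nat.ble (nat_lit 5759) i)) (Nat.ble (nat_lit 5758) i)) (Nat.ble (nat_lit 5756) i)) (Nat.ble (nat_lit 5752) i)) (Nat.ble (nat_lit 5744) i))

def rowBlk_n0_180 (i : ℕ) : ℕ := (@Bool.rec (fun _ => ℕ) (@Bool.rec (fun _ => ℕ) (@Bool.rec (fun _ => ℕ) (@Bool.rec (fun _ => ℕ) (@Bool.rec (fun _ => ℕ) rb5760 rb5761 (Nat.ble (nat_lit 5761) i)) (@Bool.rec (fun _ => ℕ) rb5762 rb5763 (Nat.ble (nat_lit 5763) i)) (Nat.ble (nat_lit 5762) i)) (@Bool.rec (fun _ => ℕ) (@Bool.rec (fun _ => ℕ) rb5764 rb5765 (Nat.ble (nat_lit 5765) i)) (@Bool.rec (fun _ => ℕ) rb5766 rb5767 (Nat.ble (nat_lit 5767) i)) (Nat.ble (nat_lit 5766) i)) (Nat.ble (nat_lit 5764) i)) (@Bool.rec (fun _ => ℕ) (@Bool.rec (fun _ => ℕ) (@Bool.rec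 (fun _ => ℕ) rb5768 rb5769 (Nat.ble (nat_lit 5769) i)) (@Bool.rec (fun _ => ℕ) rb5770 rb5771 (Nat.ble (nat_lit 5771) i)) (Nat.ble (nat_lit 5770) i)) (@Bool.rec (fun _ => ℕ) (@Bool.rec (fun _ => ℕ) rb5772 rb5773 (Nat.ble (nat_lit 5773) i)) (@Bool.rec (fun _ => ℕ) rb5774 rb5775 (Nat.ble (nat_lit 5775) i)) (Nat.ble (nat_lit 5774) i)) (Nat.ble (nat_lit 5772) i)) (Nat.ble (nat_lit 5768) i)) (@Bool.rec (fun _ => ℕ) (@Bool.rec (fun _ => ℕ) (@Bool.rec (fun _ => ℕ) (@Bool.rec (fun _ => ℕ) rb5776 rb5777 (Nat.ble (nat_lit 5777) i)) (@Bool.rec (fun _ => ℕ) rb5778 rb5779 (Nat.ble (nat_lit 5779) i)) (Nat.ble (nat_lit 5778) i)) (@Bool.rec (fun _ => ℕ) (@Bool.rec (fun _ => ℕ) rb5780 rb5781 (Nat.ble (nat_lit 5781) i)) (@Bool.rec (fun _ => ℕ) rb5782 rb5783 (Nat.ble (nat_lit 5783) i)) (Nat.ble (nat_lit 5782) i)) (Nat.ble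 (nat_lit 5780) i)) (@Bool.rec (fun _ => ℕ) (@Bool.rec (fun _ => ℕ) (@Bool.rec (fun _ => ℕ) rb5784 rb5785 (Nat.ble (nat_lit 5785) i)) (@Bool.rec (fun _ => ℕ) rb5786 rb5787 (Nat.ble (nat_lit 5787) i)) (Nat.ble (nat_lit 5786) i)) (@Bool.rec (fun _ => ℕ) (@Bool.rec (fun _ => ℕ) rb5788 rb5789 (Nat.ble (nat_lit 5789) i)) (@Bool.rec (fun _ => ℕ) rb5790 rb5791 (Nat.ble (nat_lit 5791) i)) (Nat.ble (nat_lit 5790) i)) (Nat.ble (nat_lit 5788) i)) (Nat.ble (nat_lit 5784) i)) (Nat.ble (nat_lit 5776) i))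

def rowBlk_n0_181 (i : ℕ) : ℕ := (@Bool.rec (fun _ => ℕ) (@Bool.rec (fun _ => ℕ) (@Bool.rec (fun _ => ℕ) (@Bool.rec (fun _ => ℕ) (@Bool.rec (fun _ => ℕ) rb5792 rb5793 (Nat.ble (nat_lit 5793) i)) (@Bool.rec (fun _ => ℕ) rb5794 rb5795 (Nat.ble (nat_lit 5795) i)) (Nat.ble (nat_lit 5794) i)) (@Bool.rec (fun _ => ℕ) (@Bool.rec (fun _ => ℕ) rb5796 rb5797 (Nat.ble (nat_lit 5797) i)) (@Bool.rec (fun _ => ℕ) rb5798 rb5799 (Nat.ble (nat_lit 5799) i)) (Nat.ble (nat_lit 5798) i)) (Nat.ble (nat_lit 5796) i)) (@Bool.rec (fun _ => ℕ) (@Bool.rec (fun _ => ℕ) (@Bool.rec (fun _ => ℕ) rb5800 rb5801 (Nat.ble (nat_lit 5801) i)) (@Bool.rec (fun _ => ℕ) rb5802 rb5803 (Nat.ble (nat_lit 5803) i)) (Nat.ble (nat_lit 5802) i)) (@Bool.rec (fun _ => ℕ) (@Bool.rec (fun _ => ℕ) rb5804 rb5805 (Nat.ble (nat_lit 5805) i)) (@Bool.rec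 (fun _ => ℕ) rb5806 rb5807 (Nat.ble (nat_lit 5807) i)) (Nat.ble (nat_lit 5806) i)) (Nat.ble (nat_lit 5804) i)) (Nat.ble (nat_lit 5800) i)) (@Bool.rec (fun _ => ℕ) (@Bool.rec (fun _ => ℕ) (@Bool.rec (fun _ => ℕ) (@Bool.rec (fun _ => ℕ) rb5808 rb5809 (Nat.ble (nat_lit 5809) i)) (@Bool.rec (fun _ => ℕ) rb5810 rb5811 (Nat.ble (nat_lit 5811) i)) (Nat.ble (nat_lit 5810) i)) (@Bool.rec (fun _ => ℕ) (@Bool.rec (fun _ => ℕ) rb5812 rb5813 (Nat.ble (nat_lit 5813) i)) (@Bool.rec (fun _ => ℕ) rb5814 rb5815 (Nat.ble (nat_lit 5815) i)) (Nat.ble (nat_lit 5814) i)) (Nat.ble (nat_lit 5812) i)) (@Bool.rec (fun _ => ℕ) (@Bool.rec (fun _ => ℕ) (@Bool.rec (fun _ => ℕ) rb5816 rb5817 (Nat.ble (nat_lit 5817) i)) (@Bool.rec (fun _ => ℕ) rb5818 rb5819 (Nat.ble (nat_lit 5819) i)) (Nat.ble (nat_lit 5818) i)) (@Bool.rec (fun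 _ => ℕ) (@Bool.rec (fun _ => ℕ) rb5820 rb5821 (Nat.ble (nat_lit 5821) i)) (@Bool.rec (fun _ => ℕ) rb5822 rb5823 (Nat.ble (nat_lit 5823) i)) (Nat.ble (nat_lit 5822) i)) (Nat.ble (nat_lit 5820) i)) (Nat.ble (nat_lit 5816) i)) (Nat.ble (nat_lit 5808) i))

def rowBlk_n0_182 (i : ℕ) : ℕ := (@Bool.rec (fun _ => ℕ) (@Bool.rec (fun _ => ℕ) (@Bool.rec (fun _ => ℕ) (@Bool.rec (fun _ => ℕ) (@Bool.rec (fun _ => ℕ) rb5824 rb5825 (Nat.ble (nat_lit 5825) i)) (@Bool.rec (fun _ => ℕ) rb5826 rb5827 (Nat.ble (nat_lit 5827) i)) (Nat.ble (nat_lit 5826) i)) (@Bool.rec (fun _ => ℕ) (@Bool.rec (fun _ => ℕ) rb5828 rb5829 (Nat.ble (nat_lit 5829) i)) (@Bool.rec (fun _ => ℕ) rb5830 rb5831 (Nat.ble (nat_lit 5831) i)) (Nat.ble (nat_lit 5830) i)) (Nat.ble (nat_lit 5828) i)) (@Bool.rec (fun _ => ℕ) (@Bool.rec (fun _ => ℕ) (@Bool.rec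 (fun _ => ℕ) rb5832 rb5833 (Nat.ble (nat_lit 5833) i)) (@Bool.rec (fun _ => ℕ) rb5834 rb5835 (Nat.ble (nat_lit 5835) i)) (Nat.ble (nat_lit 5834) i)) (@Bool.rec (fun _ => ℕ) (@Bool.rec (fun _ => ℕ) rb5836 rb5837 (Nat.ble (nat_lit 5837) i)) (@Bool.rec (fun _ => ℕ) rb5838 rb5839 (Nat.ble (nat_lit 5839) i)) (Nat.ble (nat_lit 5838) i)) (Nat.ble (nat_lit 5836) i)) (Nat.ble (nat_lit 5832) i)) (@Bool.rec (fun _ => ℕ) (@Bool.rec (fun _ => ℕ) (@Bool.rec (fun _ => ℕ) (@Bool.rec (fun _ => ℕ) rb5840 rb5841 (Nat.ble (nat_lit 5841) i)) (@Bool.rec (fun _ => ℕ) rb5842 rb5843 (Nat.ble (nat_lit 5843) i)) (Nat.ble (nat_lit 5842) i)) (@Bool.rec (fun _ => ℕ) (@Bool.rec (fun _ => ℕ) rb5844 rb5845 (Nat.ble (nat_lit 5845) i)) (@Bool.rec (fun _ => ℕ) rb5846 rb5847 (Nat.ble (nat_lit 5847) i)) (Nat.ble (nat_lit 5846) i)) (Nat.ble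 (nat_lit 5844) i)) (@Bool.rec (fun _ => ℕ) (@Bool.rec (fun _ => ℕ) (@Bool.rec (fun _ => ℕ) rb5848 rb5849 (Nat.ble (nat_lit 5849) i)) (@Bool.rec (fun _ => ℕ) rb5850 rb5851 (Nat.ble (nat_lit 5851) i)) (Nat.ble (nat_lit 5850) i)) (@Bool.rec (fun _ => ℕ) (@Bool.rec (fun _ => ℕ) rb5852 rb5853 (Nat.ble (nat_lit 5853) i)) (@Bool.rec (fun _ => ℕ) rb5854 rb5855 (Nat.ble (nat_lit 5855) i)) (Nat.ble (nat_lit 5854) i)) (Nat.ble (nat_lit 5852) i)) (Nat.ble (nat_lit 5848) i)) (Nat.ble (nat_lit 5840) i))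

def rowBlk_n0_183 (i : ℕ) : ℕ := (@Bool.rec (fun _ => ℕ) (@Bool.rec (fun _ => ℕ) (@Bool.rec (fun _ => ℕ) (@Bool.rec (fun _ => ℕ) rb5856 (@Bool.rec (fun _ => ℕ) rb5857 rb5858 (Nat.ble (nat_lit 5858) i)) (Nat.ble (nat_lit 5857) i)) (@Bool.rec (fun _ => ℕ) (@Bool.rec (fun _ => ℕ) rb5859 rb5860 (Nat.ble (nat_lit 5860) i)) (@Bool.rec (fun _ => ℕ) rb5861 rb5862 (Nat.ble (nat_lit 5862) i)) (Nat.ble (nat_lit 5861) i)) (Nat.ble (nat_lit 5859) i)) (@Bool.rec (fun _ => ℕ) (@Bool.rec (fun _ => ℕ) rb5863 (@Bool.rec (fun _ => ℕ) rb5864 rb5865 (Nat.ble (nat_lit 5865) i)) (Nat.ble (nat_lit 5864) i)) (@Bool.rec (fun _ => ℕ) (@Bool.rec (fun _ => ℕ) rb5866 rb5867 (Nat.ble (nat_lit 5867) i)) (@Bool.rec (fun _ => ℕ) rb5868 rb5869 (Nat.ble (nat_lit 5869) i)) (Nat.ble (nat_lit 5868) i)) (Nat.ble (nat_lit 5866) i)) (Nat.ble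 (nat_lit 5863) i)) (@Bool.rec (fun _ => ℕ) (@Bool.rec (fun _ => ℕ) (@Bool.rec (fun _ => ℕ) rb5870 (@Bool.rec (fun _ => ℕ) rb5871 rb5872 (Nat.ble (nat_lit 5872) i)) (Nat.ble (nat_lit 5871) i)) (@Bool.rec (fun _ => ℕ) (@Bool.rec (fun _ => ℕ) rb5873 rb5874 (Nat.ble (nat_lit 5874) i)) (@Bool.rec (fun _ => ℕ) rb5875 rb5876 (Nat.ble (nat_lit 5876) i)) (Nat.ble (nat_lit 5875) i)) (Nat.ble (nat_lit 5873) i)) (@Bool.rec (fun _ => ℕ) (@Bool.rec (fun _ => ℕ) (@Bool.rec (fun _ => ℕ) rb5877 rb5878 (Nat.ble (nat_lit 5878) i)) (@Bool.rec (fun _ => ℕ) rb5879 rb5880 (Nat.ble (nat_lit 5880) i)) (Nat.ble (nat_lit 5879) i)) (@Bool.rec (fun _ => ℕ) (@Bool.rec (fun _ => ℕ) rb5881 rb5882 (Nat.ble (nat_lit 5882) i)) (@Bool.rec (fun _ => ℕ) rb5883 rb5884 (Nat.ble (nat_lit 5884) i)) (Nat.ble (nat_lit 5883) i)) (Nat.ble (nat_lit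 5881) i)) (Nat.ble (nat_lit 5877) i)) (Nat.ble (nat_lit 5870) i))

def rowBlk_n1_0 (i : ℕ) : ℕ := (@Bool.rec (fun _ => ℕ) (@Bool.rec (fun _ => ℕ) (@Bool.rec (fun _ => ℕ) (@Bool.rec (fun _ => ℕ) (@Bool.rec (fun _ => ℕ) (rowBlk_n0_0 i) (rowBlk_n0_1 i) (Nat.ble (nat_lit 32) i)) (@Bool.rec (fun _ => ℕ) (rowBlk_n0_2 i) (rowBlk_n0_3 i) (Nat.ble (nat_lit 96) i)) (Nat.ble (nat_lit 64) i)) (@Bool.rec (fun _ => ℕ) (@Bool.rec (fun _ => ℕ) (rowBlk_n0_4 i) (rowBlk_n0_5 i) (Nat.ble (nat_lit 160) i)) (@Bool.rec (fun _ => ℕ) (rowBlk_n0_6 i) (rowBlk_n0_7 i) (Nat.ble (nat_lit 224) i)) (Nat.ble (nat_lit 192) i)) (Nat.ble (nat_lit 128) i)) (@Bool.rec (fun _ => ℕ) (@Bool.rec (fun _ => ℕ) (@Bool.rec (fun _ => ℕ) (rowBlk_n0_8 i) (rowBlk_n0_9 i) (Nat.ble (nat_lit 288) i)) (@Bool.rec (fun _ => ℕ) (rowBlk_n0_10 i) (rowBlk_n0_11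 i) (Nat.ble (nat_lit 352) i)) (Nat.ble (nat_lit 320) i)) (@Bool.rec (fun _ => ℕ) (@Bool.rec (fun _ => ℕ) (rowBlk_n0_12 i) (rowBlk_n0_13 i) (Nat.ble (nat_lit 416) i)) (@Bool.rec (fun _ => ℕ) (rowBlk_n0_14 i) (rowBlk_n0_15 i) (Nat.ble (nat_lit 480) i)) (Nat.ble (nat_lit 448) i)) (Nat.ble (nat_lit 384) i)) (Nat.ble (nat_lit 256) i)) (@Bool.rec (fun _ => ℕ) (@Bool.rec (fun _ => ℕ) (@Bool.rec (fun _ => ℕ) (@Bool.rec (fun _ => ℕ) (rowBlk_n0_16 i) (rowBlk_n0_17 i) (Nat.ble (nat_lit 544) i)) (@Bool.rec (fun _ => ℕ) (rowBlk_n0_18 i) (rowBlk_n0_19 i) (Nat.ble (nat_lit 608) i)) (Nat.ble (nat_lit 576) i)) (@Bool.rec (fun _ => ℕ) (@Bool.rec (fun _ => ℕ) (rowBlk_n0_20 i) (rowBlk_n0_21 i) (Nat.ble (nat_lit 672) i)) (@Bool.rec (fun _ => ℕ) (rowBlk_n0_22 i) (rowBlk_n0_23 i) (Nat.ble (nat_lit 736) i)) (Nat.ble (nat_lit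 704) i)) (Nat.ble (nat_lit 640) i)) (@Bool.rec (fun _ => ℕ) (@Bool.rec (fun _ => ℕ) (@Bool.rec (fun _ => ℕ) (rowBlk_n0_24 i) (rowBlk_n0_25 i) (Nat.ble (nat_lit 800) i)) (@Bool.rec (fun _ => ℕ) (rowBlk_n0_26 i) (rowBlk_n0_27 i) (Nat.ble (nat_lit 864) i)) (Nat.ble (nat_lit 832) i)) (@Bool.rec (fun _ => ℕ) (@Bool.rec (fun _ => ℕ) (rowBlk_n0_28 i) (rowBlk_n0_29 i) (Nat.ble (nat_lit 928) i)) (@Bool.rec (fun _ => ℕ) (rowBlk_n0_30 i) (rowBlk_n0_31 i) (Nat.ble (nat_lit 992) i)) (Nat.ble (nat_lit 960) i)) (Nat.ble (nat_lit 896) i)) (Nat.ble (nat_lit 768) i)) (Nat.ble (nat_lit 512) i))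

def rowBlk_n1_1 (i : ℕ) : ℕ := (@Bool.rec (fun _ => ℕ) (@Bool.rec (fun _ => ℕ) (@Bool.rec (fun _ => ℕ) (@Bool.rec (fun _ => ℕ) (@Bool.rec (fun _ => ℕ) (rowBlk_n0_32 i) (rowBlk_n0_33 i) (Nat.ble (nat_lit 1056) i)) (@Bool.rec (fun _ => ℕ) (rowBlk_n0_34 i) (rowBlk_n0_35 i) (Nat.ble (nat_lit 1120) i)) (Nat.ble (nat_lit 1088) i)) (@Bool.rec (fun _ => ℕ) (@Bool.rec (fun _ => ℕ) (rowBlk_n0_36 i) (rowBlk_n0_37 i) (Nat.ble (nat_lit 1184) i)) (@Bool.rec (fun _ => ℕ) (rowBlk_n0_38 i) (rowBlk_n0_39 i) (Nat.ble (nat_lit 1248) i)) (Nat.ble (nat_lit 1216) i)) (Nat.ble (nat_lit 1152) i)) (@Bool.rec (fun _ => ℕ) (@Bool.rec (fun _ => ℕ) (@Bool.rec (fun _ => ℕ) (rowBlk_n0_40 i) (rowBlk_n0_41 i) (Nat.ble (nat_lit 1312) i)) (@Bool.rec (fun _ => ℕ) (rowBlk_n0_42 i) (rowBlk_n0_43 i) (Nat.ble (nat_lit 1376) i)) (Nat.ble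 (nat_lit 1344) i)) (@Bool.rec (fun _ => ℕ) (@Bool.rec (fun _ => ℕ) (rowBlk_n0_44 i) (rowBlk_n0_45 i) (Nat.ble (nat_lit 1440) i)) (@Bool.rec (fun _ => ℕ) (rowBlk_n0_46 i) (rowBlk_n0_47 i) (Nat.ble (nat_lit 1504) i)) (Nat.ble (nat_lit 1472) i)) (Nat.ble (nat_lit 1408) i)) (Nat.ble (nat_lit 1280) i)) (@Bool.rec (fun _ => ℕ) (@Bool.rec (fun _ => ℕ) (@Bool.rec (fun _ => ℕ) (@Bool.rec (fun _ => ℕ) (rowBlk_n0_48 i) (rowBlk_n0_49 i) (Nat.ble (nat_lit 1568) i)) (@Bool.rec (fun _ => ℕ) (rowBlk_n0_50 i) (rowBlk_n0_51 i) (Nat.ble (nat_lit 1632) i)) (Nat.ble (nat_lit 1600) i)) (@Bool.rec (fun _ => ℕ) (@Bool.rec (fun _ => ℕ) (rowBlk_n0_52 i) (rowBlk_n0_53 i) (Nat.ble (nat_lit 1696) i)) (@Bool.rec (fun _ => ℕ) (rowBlk_n0_54 i) (rowBlk_n0_55 i) (Nat.ble (nat_lit 1760) i)) (Nat.ble (nat_lit 1728) i)) (Nat.ble (nat_lit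 1664) i)) (@Bool.rec (fun _ => ℕ) (@Bool.rec (fun _ => ℕ) (@Bool.rec (fun _ => ℕ) (rowBlk_n0_56 i) (rowBlk_n0_57 i) (Nat.ble (nat_lit 1824) i)) (@Bool.rec (fun _ => ℕ) (rowBlk_n0_58 i) (rowBlk_n0_59 i) (Nat.ble (nat_lit 1888) i)) (Nat.ble (nat_lit 1856) i)) (@Bool.rec (fun _ => ℕ) (@Bool.rec (fun _ => ℕ) (rowBlk_n0_60 i) (rowBlk_n0_61 i) (Nat.ble (nat_lit 1952) i)) (@Bool.rec (fun _ => ℕ) (rowBlk_n0_62 i) (rowBlk_n0_63 i) (Nat.ble (nat_lit 2016) i)) (Nat.ble (nat_lit 1984) i)) (Nat.ble (nat_lit 1920) i)) (Nat.ble (nat_lit 1792) i)) (Nat.ble (nat_lit 1536) i))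

def rowBlk_n1_2 (i : ℕ) : ℕ := (@Bool.rec (fun _ => ℕ) (@Bool.rec (fun _ => ℕ) (@Bool.rec (fun _ => ℕ) (@Bool.rec (fun _ => ℕ) (@Bool.rec (fun _ => ℕ) (rowBlk_n0_64 i) (rowBlk_n0_65 i) (Nat.ble (nat_lit 2080) i)) (@Bool.rec (fun _ => ℕ) (rowBlk_n0_66 i) (rowBlk_n0_67 i) (Nat.ble (nat_lit 2144) i)) (Nat.ble (nat_lit 2112) i)) (@Bool.rec (fun _ => ℕ) (@Bool.rec (fun _ => ℕ) (rowBlk_n0_68 i) (rowBlk_n0_69 i) (Nat.ble (nat_lit 2208) i)) (@Bool.rec (fun _ => ℕ) (rowBlk_n0_70 i) (rowBlk_n0_71 i) (Nat.ble (nat_lit 2272) i)) (Nat.ble (nat_lit 2240) i)) (Nat.ble (nat_lit 2176) i)) (@Bool.rec (fun _ => ℕ) (@Bool.rec (fun _ => ℕ) (@Bool.rec (fun _ => ℕ) (rowBlk_n0_72 i) (rowBlk_n0_73 i) (Nat.ble (nat_lit 2336) i)) (@Bool.rec (fun _ => ℕ) (rowBlk_n0_74 i) (rowBlk_n0_75 i) (Nat.ble (nat_lit 2400) i)) (Nat.ble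 (nat_lit 2368) i)) (@Bool.rec (fun _ => ℕ) (@Bool.rec (fun _ => ℕ) (rowBlk_n0_76 i) (rowBlk_n0_77 i) (Nat.ble (nat_lit 2464) i)) (@Bool.rec (fun _ => ℕ) (rowBlk_n0_78 i) (rowBlk_n0_79 i) (Nat.ble (nat_lit 2528) i)) (Nat.ble (nat_lit 2496) i)) (Nat.ble (nat_lit 2432) i)) (Nat.ble (nat_lit 2304) i)) (@Bool.rec (fun _ => ℕ) (@Bool.rec (fun _ => ℕ) (@Bool.rec (fun _ => ℕ) (@Bool.rec (fun _ => ℕ) (rowBlk_n0_80 i) (rowBlk_n0_81 i) (Nat.ble (nat_lit 2592) i)) (@Bool.rec (fun _ => ℕ) (rowBlk_n0_82 i) (rowBlk_n0_83 i) (Nat.ble (nat_lit 2656) i)) (Nat.ble (nat_lit 2624) i)) (@Bool.rec (fun _ => ℕ) (@Bool.rec (fun _ => ℕ) (rowBlk_n0_84 i) (rowBlk_n0_85 i) (Nat.ble (nat_lit 2720) i)) (@Bool.rec (fun _ => ℕ) (rowBlk_n0_86 i) (rowBlk_n0_87 i) (Nat.ble (nat_lit 2784) i)) (Nat.ble (nat_lit 2752) i)) (Nat.ble (nat_lit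 2688) i)) (@Bool.rec (fun _ => ℕ) (@Bool.rec (fun _ => ℕ) (@Bool.rec (fun _ => ℕ) (rowBlk_n0_88 i) (rowBlk_n0_89 i) (Nat.ble (nat_lit 2848) i)) (@Bool.rec (fun _ => ℕ) (rowBlk_n0_90 i) (rowBlk_n0_91 i) (Nat.ble (nat_lit 2912) i)) (Nat.ble (nat_lit 2880) i)) (@Bool.rec (fun _ => ℕ) (@Bool.rec (fun _ => ℕ) (rowBlk_n0_92 i) (rowBlk_n0_93 i) (Nat.ble (nat_lit 2976) i)) (@Bool.rec (fun _ => ℕ) (rowBlk_n0_94 i) (rowBlk_n0_95 i) (Nat.ble (nat_lit 3040) i)) (Nat.ble (nat_lit 3008) i)) (Nat.ble (nat_lit 2944) i)) (Nat.ble (nat_lit 2816) i)) (Nat.ble (nat_lit 2560) i))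

def rowBlk_n1_3 (i : ℕ) : ℕ := (@Bool.rec (fun _ => ℕ) (@Bool.rec (fun _ => ℕ) (@Bool.rec (fun _ => ℕ) (@Bool.rec (fun _ => ℕ) (@Bool.rec (fun _ => ℕ) (rowBlk_n0_96 i) (rowBlk_n0_97 i) (Nat.ble (nat_lit 3104) i)) (@Bool.rec (fun _ => ℕ) (rowBlk_n0_98 i) (rowBlk_n0_99 i) (Nat.ble (nat_lit 3168) i)) (Nat.ble (nat_lit 3136) i)) (@Bool.rec (fun _ => ℕ) (@Bool.rec (fun _ => ℕ) (rowBlk_n0_100 i) (rowBlk_n0_101 i) (Nat.ble (nat_lit 3232) i)) (@Bool.rec (fun _ => ℕ) (rowBlk_n0_102 i) (rowBlk_n0_103 i) (Nat.ble (nat_lit 3296) i)) (Nat.ble (nat_lit 3264) i)) (Nat.ble (nat_lit 3200) i)) (@Bool.rec (fun _ => ℕ) (@Bool.rec (fun _ => ℕ) (@Bool.rec (fun _ => ℕ) (rowBlk_n0_104 i) (rowBlk_n0_105 i) (Nat.ble (nat_lit 3360) i)) (@Bool.rec (fun _ => ℕ) (rowBlk_n0_106 i) (rowBlk_n0_107 i) (Nat.ble (nat_lit 3424) i))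 (Nat.ble (nat_lit 3392) i)) (@Bool.rec (fun _ => ℕ) (@Bool.rec (fun _ => ℕ) (rowBlk_n0_108 i) (rowBlk_n0_109 i) (Nat.ble (nat_lit 3488) i)) (@Bool.rec (fun _ => ℕ) (rowBlk_n0_110 i) (rowBlk_n0_111 i) (Nat.ble (nat_lit 3552) i)) (Nat.ble (nat_lit 3520) i)) (Nat.ble (nat_lit 3456) i)) (Nat.ble (nat_lit 3328) i)) (@Bool.rec (fun _ => ℕ) (@Bool.rec (fun _ => ℕ) (@Bool.rec (fun _ => ℕ) (@Bool.rec (fun _ => ℕ) (rowBlk_n0_112 i) (rowBlk_n0_113 i) (Nat.ble (nat_lit 3616) i)) (@Bool.rec (fun _ => ℕ) (rowBlk_n0_114 i) (rowBlk_n0_115 i) (Nat.ble (nat_lit 3680) i)) (Nat.ble (nat_lit 3648) i)) (@Bool.rec (fun _ => ℕ) (@Bool.rec (fun _ => ℕ) (rowBlk_n0_116 i) (rowBlk_n0_117 i) (Nat.ble (nat_lit 3744) i)) (@Bool.rec (fun _ => ℕ) (rowBlk_n0_118 i) (rowBlk_n0_119 i) (Nat.ble (nat_lit 3808) i)) (Nat.ble (nat_lit 3776)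 i)) (Nat.ble (nat_lit 3712) i)) (@Bool.rec (fun _ => ℕ) (@Bool.rec (fun _ => ℕ) (@Bool.rec (fun _ => ℕ) (rowBlk_n0_120 i) (rowBlk_n0_121 i) (Nat.ble (nat_lit 3872) i)) (@Bool.rec (fun _ => ℕ) (rowBlk_n0_122 i) (rowBlk_n0_123 i) (Nat.ble (nat_lit 3936) i)) (Nat.ble (nat_lit 3904) i)) (@Bool.rec (fun _ => ℕ) (@Bool.rec (fun _ => ℕ) (rowBlk_n0_124 i) (rowBlk_n0_125 i) (Nat.ble (nat_lit 4000) i)) (@Bool.rec (fun _ => ℕ) (rowBlk_n0_126 i) (rowBlk_n0_127 i) (Nat.ble (nat_lit 4064) i)) (Nat.ble (nat_lit 4032) i)) (Nat.ble (nat_lit 3968) i)) (Nat.ble (nat_lit 3840) i)) (Nat.ble (nat_lit 3584) i))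

def rowBlk_n1_4 (i : ℕ) : ℕ := (@Bool.rec (fun _ => ℕ) (@Bool.rec (fun _ => ℕ) (@Bool.rec (fun _ => ℕ) (@Bool.rec (fun _ => ℕ) (@Bool.rec (fun _ => ℕ) (rowBlk_n0_128 i) (rowBlk_n0_129 i) (Nat.ble (nat_lit 4128) i)) (@Bool.rec (fun _ => ℕ) (rowBlk_n0_130 i) (rowBlk_n0_131 i) (Nat.ble (nat_lit 4192) i)) (Nat.ble (nat_lit 4160) i)) (@Bool.rec (fun _ => ℕ) (@Bool.rec (fun _ => ℕ) (rowBlk_n0_132 i) (rowBlk_n0_133 i) (Nat.ble (nat_lit 4256) i)) (@Bool.rec (fun _ => ℕ) (rowBlk_n0_134 i) (rowBlk_n0_135 i) (Nat.ble (nat_lit 4320) i)) (Nat.ble (nat_lit 4288) i)) (Nat.ble (nat_lit 4224) i)) (@Bool.rec (fun _ => ℕ) (@Bool.rec (fun _ => ℕ) (@Bool.rec (fun _ => ℕ) (rowBlk_n0_136 i) (rowBlk_n0_137 i) (Nat.ble (nat_lit 4384) i)) (@Bool.rec (fun _ => ℕ) (rowBlk_n0_138 i) (rowBlk_n0_139 i) (Nat.ble (nat_lit 4448)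 i)) (Nat.ble (nat_lit 4416) i)) (@Bool.rec (fun _ => ℕ) (@Bool.rec (fun _ => ℕ) (rowBlk_n0_140 i) (rowBlk_n0_141 i) (Nat.ble (nat_lit 4512) i)) (@Bool.rec (fun _ => ℕ) (rowBlk_n0_142 i) (rowBlk_n0_143 i) (Nat.ble (nat_lit 4576) i)) (Nat.ble (nat_lit 4544) i)) (Nat.ble (nat_lit 4480) i)) (Nat.ble (nat_lit 4352) i)) (@Bool.rec (fun _ => ℕ) (@Bool.rec (fun _ => ℕ) (@Bool.rec (fun _ => ℕ) (@Bool.rec (fun _ => ℕ) (rowBlk_n0_144 i) (rowBlk_n0_145 i) (Nat.ble (nat_lit 4640) i)) (@Bool.rec (fun _ => ℕ) (rowBlk_n0_146 i) (rowBlk_n0_147 i) (Nat.ble (nat_lit 4704) i)) (Nat.ble (nat_lit 4672) i)) (@Bool.rec (fun _ => ℕ) (@Bool.rec (fun _ => ℕ) (rowBlk_n0_148 i) (rowBlk_n0_149 i) (Nat.ble (nat_lit 4768) i)) (@Bool.rec (fun _ => ℕ) (rowBlk_n0_150 i) (rowBlk_n0_151 i) (Nat.ble (nat_lit 4832) i)) (Nat.ble (nat_lit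 4800) i)) (Nat.ble (nat_lit 4736) i)) (@Bool.rec (fun _ => ℕ) (@Bool.rec (fun _ => ℕ) (@Bool.rec (fun _ => ℕ) (rowBlk_n0_152 i) (rowBlk_n0_153 i) (Nat.ble (nat_lit 4896) i)) (@Bool.rec (fun _ => ℕ) (rowBlk_n0_154 i) (rowBlk_n0_155 i) (Nat.ble (nat_lit 4960) i)) (Nat.ble (nat_lit 4928) i)) (@Bool.rec (fun _ => ℕ) (@Bool.rec (fun _ => ℕ) (rowBlk_n0_156 i) (rowBlk_n0_157 i) (Nat.ble (nat_lit 5024) i)) (@Bool.rec (fun _ => ℕ) (rowBlk_n0_158 i) (rowBlk_n0_159 i) (Nat.ble (nat_lit 5088) i)) (Nat.ble (nat_lit 5056) i)) (Nat.ble (nat_lit 4992) i)) (Nat.ble (nat_lit 4864) i)) (Nat.ble (nat_lit 4608) i))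

def rowBlk_n1_5 (i : ℕ) : ℕ := (@Bool.rec (fun _ => ℕ) (@Bool.rec (fun _ => ℕ) (@Bool.rec (fun _ => ℕ) (@Bool.rec (fun _ => ℕ) (rowBlk_n0_160 i) (@Bool.rec (fun _ => ℕ) (rowBlk_n0_161 i) (rowBlk_n0_162 i) (Nat.ble (nat_lit 5184) i)) (Nat.ble (nat_lit 5152) i)) (@Bool.rec (fun _ => ℕ) (rowBlk_n0_163 i) (@Bool.rec (fun _ => ℕ) (rowBlk_n0_164 i) (rowBlk_n0_165 i) (Nat.ble (nat_lit 5280) i)) (Nat.ble (nat_lit 5248) i)) (Nat.ble (nat_lit 5216) i)) (@Bool.rec (fun _ => ℕ) (@Bool.rec (fun _ => ℕ) (rowBlk_n0_166 i) (@Bool.rec (fun _ => ℕ) (rowBlk_n0_167 i) (rowBlk_n0_168 i) (Nat.ble (nat_lit 5376) i)) (Nat.ble (nat_lit 5344) i)) (@Bool.rec (fun _ => ℕ) (rowBlk_n0_169 i) (@Bool.rec (fun _ => ℕ) (rowBlk_n0_170 i) (rowBlk_n0_171 i) (Nat.ble (nat_lit 5472) i)) (Nat.ble (nat_lit 5440) i)) (Nat.ble (nat_lit 5408)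 i)) (Nat.ble (nat_lit 5312) i)) (@Bool.rec (fun _ => ℕ) (@Bool.rec (fun _ => ℕ) (@Bool.rec (fun _ => ℕ) (rowBlk_n0_172 i) (@Bool.rec (fun _ => ℕ) (rowBlk_n0_173 i) (rowBlk_n0_174 i) (Nat.ble (nat_lit 5568) i)) (Nat.ble (nat_lit 5536) i)) (@Bool.rec (fun _ => ℕ) (rowBlk_n0_175 i) (@Bool.rec (fun _ => ℕ) (rowBlk_n0_176 i) (rowBlk_n0_177 i) (Nat.ble (nat_lit 5664) i)) (Nat.ble (nat_lit 5632) i)) (Nat.ble (nat_lit 5600) i)) (@Bool.rec (fun _ => ℕ) (@Bool.rec (fun _ => ℕ) (rowBlk_n0_178 i) (@Bool.rec (fun _ => ℕ) (rowBlk_n0_179 i) (rowBlk_n0_180 i) (Nat.ble (nat_lit 5760) i)) (Nat.ble (nat_lit 5728) i)) (@Bool.rec (fun _ => ℕ) (rowBlk_n0_181 i) (@Bool.rec (fun _ => ℕ) (rowBlk_n0_182 i) (rowBlk_n0_183 i) (Nat.ble (nat_lit 5856) i)) (Nat.ble (nat_lit 5824) i)) (Nat.ble (nat_lit 5792) i)) (Nat.ble (nat_lit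 5696) i)) (Nat.ble (nat_lit 5504) i))

def rowBlk (i : ℕ) : ℕ := (@Bool.rec (fun _ => ℕ) (@Bool.rec (fun _ => ℕ) (rowBlk_n1_0 i) (@Bool.rec (fun _ => ℕ) (rowBlk_n1_1 i) (rowBlk_n1_2 i) (Nat.ble (nat_lit 2048) i)) (Nat.ble (nat_lit 1024) i)) (@Bool.rec (fun _ => ℕ) (rowBlk_n1_3 i) (@Bool.rec (fun _ => ℕ) (rowBlk_n1_4 i) (rowBlk_n1_5 i) (Nat.ble (nat_lit 5120) i)) (Nat.ble (nat_lit 4096) i)) (Nat.ble (nat_lit 3072) i))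

def word_n0_0 (i : ℕ) : List ℕ := (@Bool.rec (fun _ => List ℕ) (@Bool.rec (fun _ => List ℕ) (@Bool.rec (fun _ => List ℕ) (@Bool.rec (fun _ => List ℕ) (@Bool.rec (fun _ => List ℕ) [0, 0] [0, 2, 0, 2, 0, 2] (Nat.ble (nat_lit 1) i)) (@Bool.rec (fun _ => List ℕ) [0, 4, 0, 4] [0, 6, 0, 6] (Nat.ble (nat_lit 3) i)) (Nat.ble (nat_lit 2) i)) (@Bool.rec (fun _ => List ℕ) (@Bool.rec (fun _ => List ℕ) [0, 8, 0, 8] [0, 10, 0, 10] (Nat.ble (nat_lit 5) i)) (@Bool.rec (fun _ => List ℕ) [0, 12, 0, 12] [0, 20, 0, 20] (Nat.ble (nat_lit 7) i)) (Nat.ble (nat_lit 6) i)) (Nat.ble (nat_lit 4) i)) (@Bool.rec (fun _ => List ℕ) (@Bool.rec (fun _ => List ℕ) (@Bool.rec (fun _ => List ℕ) [0, 14, 0, 14] [0, 22, 0, 22] (Nat.ble (nat_lit 9) i)) (@Bool.rec (fun _ => List ℕ) [2, 2] [2, 4, 2, 4, 2, 4] (Nat.ble (nat_lit 11) i)) (Nat.ble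 (nat_lit 10) i)) (@Bool.rec (fun _ => List ℕ) (@Bool.rec (fun _ => List ℕ) [2, 6, 2, 6] [2, 8, 2, 8] (Nat.ble (nat_lit 13) i)) (@Bool.rec (fun _ => List ℕ) [2, 10, 2, 10] [2, 12, 2, 12] (Nat.ble (nat_lit 15) i)) (Nat.ble (nat_lit 14) i)) (Nat.ble (nat_lit 12) i)) (Nat.ble (nat_lit 8) i)) (@Bool.rec (fun _ => List ℕ) (@Bool.rec (fun _ => List ℕ) (@Bool.rec (fun _ => List ℕ) (@Bool.rec (fun _ => List ℕ) [2, 20, 2, 20] [2, 14, 2, 14] (Nat.ble (nat_lit 17) i)) (@Bool.rec (fun _ => List ℕ) [2, 22, 2, 22] [4, 4] (Nat.ble (nat_lit 19) i)) (Nat.ble (nat_lit 18) i)) (@Bool.rec (fun _ => List ℕ) (@Bool.rec (fun _ => List ℕ) [4, 6, 4, 6, 4, 6] [4, 8, 4, 8] (Nat.ble (nat_lit 21) i)) (@Bool.rec (fun _ => List ℕ) [4, 10, 4, 10] [4, 12, 4, 12] (Nat.ble (nat_lit 23) i)) (Nat.ble (nat_lit 22) i)) (Nat.ble (nat_lit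 20) i)) (@Bool.rec (fun _ => List ℕ) (@Bool.rec (fun _ => List ℕ) (@Bool.rec (fun _ => List ℕ) [4, 20, 4, 20] [4, 14, 4, 14] (Nat.ble (nat_lit 25) i)) (@Bool.rec (fun _ => List ℕ) [4, 22, 4, 22] [6, 6] (Nat.ble (nat_lit 27) i)) (Nat.ble (nat_lit 26) i)) (@Bool.rec (fun _ => List ℕ) (@Bool.rec (fun _ => List ℕ) [6, 8, 6, 8, 6, 8] [6, 10, 6, 10] (Nat.ble (nat_lit 29) i)) (@Bool.rec (fun _ => List ℕ) [6, 12, 6, 12] [6, 20, 6, 20] (Nat.ble (nat_lit 31) i)) (Nat.ble (nat_lit 30) i)) (Nat.ble (nat_lit 28) i)) (Nat.ble (nat_lit 24) i)) (Nat.ble (nat_lit 16) i))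

def word_n0_1 (i : ℕ) : List ℕ := (@Bool.rec (fun _ => List ℕ) (@Bool.rec (fun _ => List ℕ) (@Bool.rec (fun _ => List ℕ) (@Bool.rec (fun _ => List ℕ) (@Bool.rec (fun _ => List ℕ) [6, 14, 6, 14] [6, 22, 6, 22] (Nat.ble (nat_lit 33) i)) (@Bool.rec (fun _ => List ℕ) [8, 8] [8, 10, 8, 10, 8, 10] (Nat.ble (nat_lit 35) i)) (Nat.ble (nat_lit 34) i)) (@Bool.rec (fun _ => List ℕ) (@Bool.rec (fun _ => List ℕ) [8, 12, 8, 12] [8, 20, 8, 20] (Nat.ble (nat_lit 37) i)) (@Bool.rec (fun _ => List ℕ) [8, 14, 8, 14] [8, 22, 8, 22] (Nat.ble (nat_lit 39) i)) (Nat.ble (nat_lit 38) i)) (Nat.ble (nat_lit 36) i)) (@Bool.rec (fun _ => List ℕ) (@Bool.rec (fun _ => List ℕ) (@Bool.rec (fun _ => List ℕ) [10, 10] [10, 12, 10, 12, 10, 12] (Nat.ble (nat_lit 41) i)) (@Bool.rec (fun _ => List ℕ) [10, 20, 10, 20, 10, 20] [10, 14,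 10, 14] (Nat.ble (nat_lit 43) i)) (Nat.ble (nat_lit 42) i)) (@Bool.rec (fun _ => List ℕ) (@Bool.rec (fun _ => List ℕ) [10, 22, 10, 22] [12, 12] (Nat.ble (nat_lit 45) i)) (@Bool.rec (fun _ => List ℕ) [12, 20, 12, 20] [12, 14, 12, 14, 12, 14] (Nat.ble (nat_lit 47) i)) (Nat.ble (nat_lit 46) i)) (Nat.ble (nat_lit 44) i)) (Nat.ble (nat_lit 40) i)) (@Bool.rec (fun _ => List ℕ) (@Bool.rec (fun _ => List ℕ) (@Bool.rec (fun _ => List ℕ) (@Bool.rec (fun _ => List ℕ) [12, 22, 12, 22] [20, 20] (Nat.ble (nat_lit 49) i)) (@Bool.rec (fun _ => List ℕ) [20, 22, 20, 22, 20, 22] [14, 20, 14, 20] (Nat.ble (nat_lit 51) i)) (Nat.ble (nat_lit 50) i)) (@Bool.rec (fun _ => List ℕ) (@Bool.rec (fun _ => List ℕ) [14, 14] [14, 22, 14, 22] (Nat.ble (nat_lit 53) i)) (@Bool.rec (fun _ => List ℕ) [22, 22] [0, 21, 15, 13, 11, 9,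 7, 5, 21, 15, 13, 11, 9, 7, 5, 21, 15, 13, 11, 9, 7, 5, 21, 15, 13, 11, 9, 7, 5, 21, 15, 13, 11, 9, 7, 5, 21, 15, 13, 11, 9, 7, 5, 21, 15, 13, 11, 9, 7, 5, 21, 15, 13, 11, 9, 7, 5, 21, 15, 13, 11, 9, 7, 5] (Nat.ble (nat_lit 55) i)) (Nat.ble (nat_lit 54) i)) (Nat.ble (nat_lit 52) i)) (@Bool.rec (fun _ => List ℕ) (@Bool.rec (fun _ => List ℕ) (@Bool.rec (fun _ => List ℕ) [16] [18] (Nat.ble (nat_lit 57) i)) (@Bool.rec (fun _ => List ℕ) ([] : List ℕ) [0, 1] (Nat.ble (nat_lit 59) i)) (Nat.ble (nat_lit 58) i)) (@Bool.rec (fun _ => List ℕ) (@Bool.rec (fun _ => List ℕ) [1, 0] [2, 3] (Nat.ble (nat_lit 61) i)) (@Bool.rec (fun _ => List ℕ) [3, 2] [4, 5] (Nat.ble (nat_lit 63) i)) (Nat.ble (nat_lit 62) i)) (Nat.ble (nat_lit 60) i)) (Nat.ble (nat_lit 56) i)) (Nat.ble (nat_lit 48) i))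

def word_n0_2 (i : ℕ) : List ℕ := (@Bool.rec (fun _ => List ℕ) (@Bool.rec (fun _ => List ℕ) (@Bool.rec (fun _ => List ℕ) (@Bool.rec (fun _ => List ℕ) [5, 4] (@Bool.rec (fun _ => List ℕ) [6, 7] [7, 6] (Nat.ble (nat_lit 66) i)) (Nat.ble (nat_lit 65) i)) (@Bool.rec (fun _ => List ℕ) (@Bool.rec (fun _ => List ℕ) [8, 9] [9, 8] (Nat.ble (nat_lit 68) i)) (@Bool.rec (fun _ => List ℕ) [10, 11] [11, 10] (Nat.ble (nat_lit 70) i)) (Nat.ble (nat_lit 69) i)) (Nat.ble (nat_lit 67) i)) (@Bool.rec (fun _ => List ℕ) (@Bool.rec (fun _ => List ℕ) [12, 13] (@Bool.rec (fun _ => List ℕ) [13, 12] [14, 15] (Nat.ble (nat_lit 73) i)) (Nat.ble (nat_lit 72) i)) (@Bool.rec (fun _ => List ℕ) (@Bool.rec (fun _ => List ℕ) [15, 14] [16, 17] (Nat.ble (nat_lit 75) i)) (@Bool.rec (fun _ => List ℕ) [17, 16] [18, 19] (Nat.ble (nat_lit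 77) i)) (Nat.ble (nat_lit 76) i)) (Nat.ble (nat_lit 74) i)) (Nat.ble (nat_lit 71) i)) (@Bool.rec (fun _ => List ℕ) (@Bool.rec (fun _ => List ℕ) (@Bool.rec (fun _ => List ℕ) [19, 18] (@Bool.rec (fun _ => List ℕ) [20, 21] [21, 20] (Nat.ble (nat_lit 80) i)) (Nat.ble (nat_lit 79) i)) (@Bool.rec (fun _ => List ℕ) (@Bool.rec (fun _ => List ℕ) [22, 23] [23, 22] (Nat.ble (nat_lit 82) i)) (@Bool.rec (fun _ => List ℕ) [0] [2] (Nat.ble (nat_lit 84) i)) (Nat.ble (nat_lit 83) i)) (Nat.ble (nat_lit 81) i)) (@Bool.rec (fun _ => List ℕ) (@Bool.rec (fun _ => List ℕ) [4] (@Bool.rec (fun _ => List ℕ) [6] [8] (Nat.ble (nat_lit 87) i)) (Nat.ble (nat_lit 86) i)) (@Bool.rec (fun _ => List ℕ) (@Bool.rec (fun _ => List ℕ) [10] [12] (Nat.ble (nat_lit 89) i)) (@Bool.rec (fun _ => List ℕ) [14] [20] (Nat.ble (nat_lit 91) i))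 (Nat.ble (nat_lit 90) i)) (Nat.ble (nat_lit 88) i)) (Nat.ble (nat_lit 85) i)) (Nat.ble (nat_lit 78) i))

def word (i : ℕ) : List ℕ := (@Bool.rec (fun _ => List ℕ) (word_n0_0 i) (@Bool.rec (fun _ => List ℕ) (word_n0_1 i) (word_n0_2 i) (Nat.ble (nat_lit 64) i)) (Nat.ble (nat_lit 32) i))

def fact (k : ℕ) : ℕ := Nat.land (Nat.shiftRight (factBlk (Nat.shiftRight k (nat_lit 8))) (Nat.mul (Nat.land k (nat_lit 255)) (nat_lit 48))) (nat_lit 281474976710655)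

def slot (v : ℕ) : ℕ := Nat.land (Nat.shiftRight (parBlk (Nat.shiftRight v (nat_lit 8))) (Nat.mul (Nat.land v (nat_lit 255)) (nat_lit 32))) (nat_lit 4294967295)

def par (v : ℕ) : ℕ := Nat.land (slot v) (nat_lit 1048575)

def plet (v : ℕ) : ℕ := Nat.shiftRight (slot v) (nat_lit 20)

def isFin (v : ℕ) : Bool := Nat.beq (Nat.land (Nat.shiftRight (finBlk (Nat.shiftRight v (nat_lit 12))) (Nat.land v (nat_lit 4095))) (nat_lit 1)) (nat_lit 1)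

def row (v : ℕ) : ℕ := Nat.land (Nat.shiftRight (rowBlk (Nat.shiftRight v (nat_lit 4))) (Nat.mul (Nat.land v (nat_lit 15)) (nat_lit 576))) (nat_lit 247330401473104534060502521019647190035131349101211839914063056092897225106531867170316401061243044989597671426016139339351365034306751209967546155101893167916606772148699135)

def inv (g : ℕ) : Bool := and (Nat.blt g 12) (Nat.beq (Nat.land (Nat.shiftRight (nat_lit 3327) g) (nat_lit 1)) (nat_lit 1))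

def blockOk (j : ℕ) : Bool := blockF par plet fact inv word (nat_lit 83) (nat_lit 92) (nat_lit 94147) (Nat.mul j (nat_lit 256)) (nat_lit 256) (nat_lit 0) (certBlk j)

def rowOk (v : ℕ) : Bool := rowF fact inv (nat_lit 94147) isFin row (nat_lit 356352) (nat_lit 24) v

def parOk (v : ℕ) : Bool := or (Nat.beq v 0) (Nat.blt (par v) v)

def gname : ℕ → Cfsg.Spor.Fi24.Gen
  | 0 => .l
  | 1 => .k
  | 2 => .a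
  | 3 => .b
  | 4 => .c
  | 5 => .d
  | 6 => .e
  | 7 => .f
  | 8 => .g
  | 9 => .j
  | 10 => .h
  | 11 => .i
  | _ => .l

end Cfsg.Agent.Lib.Helper96_Fi24Tc1.U
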