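import Cfsg.Agent.Lib.Helper28_CosetUpCox
import Cfsg.Agent.Lib.Helper28_CosetPerm
import Cfsg.Agent.Lib.Helper96_Fi24Tc5UTab0
import Cfsg.Agent.Lib.Helper96_Fi24TChain

set_option autoImplicit false
set_option linter.constructorNameAsVariable false
set_option linter.unusedVariables false
set_option Elab.async false

namespace Cfsg.Agent.Lib.Helper96_Fi24Tc5.U

open Cfsg.Spor Cfsg.Agent.Lib.Helper28_CosetUp Cfsg.Agent.Lib.Helper28_CosetUpCox Cfsg.Agent.Lib.Helper96_Fi24Tc5UTab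

def factBlk (i : ℕ) : ℕ := (@Bool.rec (fun _ => ℕ) fb0 fb1 (Nat.ble (nat_lit 1) i))

def certBlk (i : ℕ) : ℕ := (@Bool.rec (fun _ => ℕ) cb0 cb1 (Nat.ble (nat_lit 1) i))

def parBlk (i : ℕ) : ℕ := pb0

def finBlk (i : ℕ) : ℕ := nb0

def rowBlk (i : ℕ) : ℕ := (@Bool.rec (fun _ => ℕ) (@Bool.rec (fun _ => ℕ) (@Bool.rec (fun _ => ℕ) rb0 rb1 (Nat.ble (nat_lit 1) i)) (@Bool.rec (fun _ => ℕ) rb2 rb3 (Nat.ble (nat_lit 3) i)) (Nat.ble (nat_lit 2) i)) (@Bool.rec (fun _ => ℕ) (@Bool.rec (fun _ => ℕ) rb4 rb5 (Nat.ble (nat_lit 5) i)) (@Bool.rec (fun _ => ℕ) rb6 rb7 (Nat.ble (nat_lit 7) i)) (Nat.ble (nat_lit 6) i)) (Nat.ble (nat_lit 4) i))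

def word_n0_0 (i : ℕ) : List ℕ := (@Bool.rec (fun _ => List ℕ) (@Bool.rec (fun _ => List ℕ) (@Bool.rec (fun _ => List ℕ) (@Bool.rec (fun _ => List ℕ) (@Bool.rec (fun _ => List ℕ) [8, 8] [8, 10, 8, 10, 8, 10] (Nat.ble (nat_lit 1) i)) (@Bool.rec (fun _ => List ℕ) [8, 12, 8, 12] [8, 20, 8, 20] (Nat.ble (nat_lit 3) i)) (Nat.ble (nat_lit 2) i)) (@Bool.rec (fun _ => List ℕ) (@Bool.rec (fun _ => List ℕ) [8, 14, 8, 14] [10, 10] (Nat.ble (nat_lit 5) i)) (@Bool.rec (fun _ => List ℕ) [10, 12, 10, 12, 10, 12] [10, 20, 10, 20, 10, 20] (Nat.ble (nat_lit 7) i)) (Nat.ble (nat_lit 6) i)) (Nat.ble (nat_lit 4) i)) (@Bool.rec (fun _ => List ℕ) (@Bool.rec (fun _ => List ℕ) (@Bool.rec (fun _ => List ℕ) [10, 14, 10, 14] [12, 12] (Nat.ble (nat_lit 9) i)) (@Bool.rec (fun _ => List ℕ) [12, 20, 12, 20] [12, 14, 12, 14, 12, 14] (Nat.ble (nat_lit 11) i)) (Nat.ble (nat_lit 10) i)) (@Bool.rec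 (fun _ => List ℕ) (@Bool.rec (fun _ => List ℕ) [20, 20] [14, 20, 14, 20] (Nat.ble (nat_lit 13) i)) (@Bool.rec (fun _ => List ℕ) [14, 14] [0] (Nat.ble (nat_lit 15) i)) (Nat.ble (nat_lit 14) i)) (Nat.ble (nat_lit 12) i)) (Nat.ble (nat_lit 8) i)) (@Bool.rec (fun _ => List ℕ) (@Bool.rec (fun _ => List ℕ) (@Bool.rec (fun _ => List ℕ) (@Bool.rec (fun _ => List ℕ) [2] [4] (Nat.ble (nat_lit 17) i)) (@Bool.rec (fun _ => List ℕ) [6] [16] (Nat.ble (nat_lit 19) i)) (Nat.ble (nat_lit 18) i)) (@Bool.rec (fun _ => List ℕ) (@Bool.rec (fun _ => List ℕ) [18] [22] (Nat.ble (nat_lit 21) i)) (@Bool.rec (fun _ => List ℕ) ([] : List ℕ) [0, 1] (Nat.ble (nat_lit 23) i)) (Nat.ble (nat_lit 22) i)) (Nat.ble (nat_lit 20) i)) (@Bool.rec (fun _ => List ℕ) (@Bool.rec (fun _ => List ℕ) (@Bool.rec (fun _ => List ℕ) [1, 0] [2, 3] (Nat.ble (nat_lit 25) i)) (@Bool.rec (fun _ => List ℕ) [3, 2] [4, 5]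 (Nat.ble (nat_lit 27) i)) (Nat.ble (nat_lit 26) i)) (@Bool.rec (fun _ => List ℕ) (@Bool.rec (fun _ => List ℕ) [5, 4] [6, 7] (Nat.ble (nat_lit 29) i)) (@Bool.rec (fun _ => List ℕ) [7, 6] [8, 9] (Nat.ble (nat_lit 31) i)) (Nat.ble (nat_lit 30) i)) (Nat.ble (nat_lit 28) i)) (Nat.ble (nat_lit 24) i)) (Nat.ble (nat_lit 16) i))

def word_n0_1 (i : ℕ) : List ℕ := (@Bool.rec (fun _ => List ℕ) (@Bool.rec (fun _ => List ℕ) (@Bool.rec (fun _ => List ℕ) (@Bool.rec (fun _ => List ℕ) [9, 8] [10, 11] (Nat.ble (nat_lit 33) i)) (@Bool.rec (fun _ => List ℕ) [11, 10] [12, 13] (Nat.ble (nat_lit 35) i)) (Nat.ble (nat_lit 34) i)) (@Bool.rec (fun _ => List ℕ) (@Bool.rec (fun _ => List ℕ) [13, 12] [14, 15] (Nat.ble (nat_lit 37) i)) (@Bool.rec (fun _ => List ℕ) [15, 14] (@Bool.rec (fun _ => List ℕ) [16, 17] [17, 16] (Nat.ble (nat_lit 40) i)) (Nat.ble (nat_lit 39) i)) (Nat.ble (nat_lit 38)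 i)) (Nat.ble (nat_lit 36) i)) (@Bool.rec (fun _ => List ℕ) (@Bool.rec (fun _ => List ℕ) (@Bool.rec (fun _ => List ℕ) [18, 19] [19, 18] (Nat.ble (nat_lit 42) i)) (@Bool.rec (fun _ => List ℕ) [20, 21] (@Bool.rec (fun _ => List ℕ) [21, 20] [22, 23] (Nat.ble (nat_lit 45) i)) (Nat.ble (nat_lit 44) i)) (Nat.ble (nat_lit 43) i)) (@Bool.rec (fun _ => List ℕ) (@Bool.rec (fun _ => List ℕ) [23, 22] [10] (Nat.ble (nat_lit 47) i)) (@Bool.rec (fun _ => List ℕ) [12] (@Bool.rec (fun _ => List ℕ) [14] [20] (Nat.ble (nat_lit 50) i)) (Nat.ble (nat_lit 49) i)) (Nat.ble (nat_lit 48) i)) (Nat.ble (nat_lit 46) i)) (Nat.ble (nat_lit 41) i))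

def word (i : ℕ) : List ℕ := (@Bool.rec (fun _ => List ℕ) (word_n0_0 i) (word_n0_1 i) (Nat.ble (nat_lit 32) i))

def fact (k : ℕ) : ℕ := Nat.land (Nat.shiftRight (factBlk (Nat.shiftRight k (nat_lit 8))) (Nat.mul (Nat.land k (nat_lit 255)) (nat_lit 48))) (nat_lit 281474976710655)

def slot (v : ℕ) : ℕ := Nat.land (Nat.shiftRight (parBlk (Nat.shiftRight v (nat_lit 8))) (Nat.mul (Nat.land v (nat_lit 255)) (nat_lit 32))) (nat_lit 4294967295)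

def par (v : ℕ) : ℕ := Nat.land (slot v) (nat_lit 1048575)

def plet (v : ℕ) : ℕ := Nat.shiftRight (slot v) (nat_lit 20)

def isFin (v : ℕ) : Bool := Nat.beq (Nat.land (Nat.shiftRight (finBlk (Nat.shiftRight v (nat_lit 12))) (Nat.land v (nat_lit 4095))) (nat_lit 1)) (nat_lit 1)

def row (v : ℕ) : ℕ := Nat.land (Nat.shiftRight (rowBlk (Nat.shiftRight v (nat_lit 4))) (Nat.mul (Nat.land v (nat_lit 15)) (nat_lit 576))) (nat_lit 247330401473104534060502521019647190035131349101211839914063056092897225106531867170316401061243044989597671426016139339351365034306751209967546155101893167916606772148699135)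

def inv (g : ℕ) : Bool := and (Nat.blt g 12) (Nat.beq (Nat.land (Nat.shiftRight (nat_lit 1264) g) (nat_lit 1)) (nat_lit 1))

def blockOk (j : ℕ) : Bool := blockF par plet fact inv word (nat_lit 47) (nat_lit 51) (nat_lit 128) (Nat.mul j (nat_lit 256)) (nat_lit 256) (nat_lit 0) (certBlk j)

def rowOk (v : ℕ) : Bool := rowF fact inv (nat_lit 128) isFin row (nat_lit 512) (nat_lit 24) v

def parOk (v : ℕ) : Bool := or (Nat.beq v 0) (Nat.blt (par v) v)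

def gname : ℕ → Cfsg.Spor.Fi24.Gen
  | 0 => .l
  | 1 => .k
  | 2 => .a
  | 3 => .b
  | 4 => .c
  | 5 => .d
  | 6 => .e
  | 7 => .f
  | 8 => .g
  | 9 => .j
  | 10 => .h
  | 11 => .i
  | _ => .l

end Cfsg.Agent.Lib.Helper96_Fi24Tc5.U
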