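import Cfsg.Agent.Lib.Helper28_CosetUpCox
import Cfsg.Agent.Lib.Helper28_CosetPerm
import Cfsg.Agent.Lib.Helper96_Fi24Tc6UTab0
import Cfsg.Agent.Lib.Helper96_Fi24TChain

set_option autoImplicit false
set_option linter.constructorNameAsVariable false
set_option linter.unusedVariables false
set_option Elab.async false

namespace Cfsg.Agent.Lib.Helper96_Fi24Tc6.U

open Cfsg.Spor Cfsg.Agent.Lib.Helper28_CosetUp Cfsg.Agent.Lib.Helper28_CosetUpCox Cfsg.Agent.Lib.Helper96_Fi24Tc6UTab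

def factBlk (i : ℕ) : ℕ := (@Bool.rec (fun _ => ℕ) (@Bool.rec (fun _ => ℕ) (@Bool.rec (fun _ => ℕ) fb0 (@Bool.rec (fun _ => ℕ) fb1 fb2 (Nat.ble (nat_lit 2) i)) (Nat.ble (nat_lit 1) i)) (@Bool.rec (fun _ => ℕ) fb3 (@Bool.rec (fun _ => ℕ) fb4 fb5 (Nat.ble (nat_lit 5) i)) (Nat.ble (nat_lit 4) i)) (Nat.ble (nat_lit 3) i)) (@Bool.rec (fun _ => ℕ) (@Bool.rec (fun _ => ℕ) fb6 (@Bool.rec (fun _ => ℕ) fb7 fb8 (Nat.ble (nat_lit 8) i)) (Nat.ble (nat_lit 7) i)) (@Bool.rec (fun _ => ℕ) (@Bool.rec (fun _ => ℕ) fb9 fb10 (Nat.ble (nat_lit 10) i)) (@Bool.rec (fun _ => ℕ) fb11 fb12 (Nat.ble (nat_lit 12) i)) (Nat.ble (nat_lit 11) i)) (Nat.ble (nat_lit 9) i)) (Nat.ble (nat_lit 6) i))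

def certBlk (i : ℕ) : ℕ := (@Bool.rec (fun _ => ℕ) (@Bool.rec (fun _ => ℕ) (@Bool.rec (fun _ => ℕ) cb0 (@Bool.rec (fun _ => ℕ) cb1 cb2 (Nat.ble (nat_lit 2) i)) (Nat.ble (nat_lit 1) i)) (@Bool.rec (fun _ => ℕ) cb3 (@Bool.rec (fun _ => ℕ) cb4 cb5 (Nat.ble (nat_lit 5) i)) (Nat.ble (nat_lit 4) i)) (Nat.ble (nat_lit 3) i)) (@Bool.rec (fun _ => ℕ) (@Bool.rec (fun _ => ℕ) cb6 (@Bool.rec (fun _ => ℕ) cb7 cb8 (Nat.ble (nat_lit 8) i)) (Nat.ble (nat_lit 7) i)) (@Bool.rec (fun _ => ℕ) (@Bool.rec (fun _ => ℕ) cb9 cb10 (Nat.ble (nat_lit 10) i)) (@Bool.rec (fun _ => ℕ) cb11 cb12 (Nat.ble (nat_lit 12) i)) (Nat.ble (nat_lit 11) i)) (Nat.ble (nat_lit 9) i)) (Nat.ble (nat_lit 6) i))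

def parBlk (i : ℕ) : ℕ := (@Bool.rec (fun _ => ℕ) (@Bool.rec (fun _ => ℕ) pb0 pb1 (Nat.ble (nat_lit 1) i)) (@Bool.rec (fun _ => ℕ) pb2 (@Bool.rec (fun _ => ℕ) pb3 pb4 (Nat.ble (nat_lit 4) i)) (Nat.ble (nat_lit 3) i)) (Nat.ble (nat_lit 2) i))

def finBlk (i : ℕ) : ℕ := nb0

def rowBlk_n0_0 (i : ℕ) : ℕ := (@Bool.rec (fun _ => ℕ) (@Bool.rec (fun _ => ℕ) (@Bool.rec (fun _ => ℕ) (@Bool.rec (fun _ => ℕ) (@Bool.rec (fun _ => ℕ) rb0 rb1 (Nat.ble (nat_lit 1) i)) (@Bool.rec (fun _ => ℕ) rb2 rb3 (Nat.ble (nat_lit 3) i)) (Nat.ble (nat_lit 2) i)) (@Bool.rec (fun _ => ℕ) (@Bool.rec (fun _ => ℕ) rb4 rb5 (Nat.ble (nat_lit 5) i)) (@Bool.rec (fun _ => ℕ) rb6 rb7 (Nat.ble (nat_lit 7) i)) (Nat.ble (nat_lit 6) i)) (Nat.ble (nat_lit 4) i)) (@Bool.rec (fun _ => ℕ) (@Bool.rec (fun _ => ℕ) (@Bool.rec (fun _ => ℕ) rb8 rb9 (Nat.ble (nat_lit 9)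 i)) (@Bool.rec (fun _ => ℕ) rb10 rb11 (Nat.ble (nat_lit 11) i)) (Nat.ble (nat_lit 10) i)) (@Bool.rec (fun _ => ℕ) (@Bool.rec (fun _ => ℕ) rb12 rb13 (Nat.ble (nat_lit 13) i)) (@Bool.rec (fun _ => ℕ) rb14 rb15 (Nat.ble (nat_lit 15) i)) (Nat.ble (nat_lit 14) i)) (Nat.ble (nat_lit 12) i)) (Nat.ble (nat_lit 8) i)) (@Bool.rec (fun _ => ℕ) (@Bool.rec (fun _ => ℕ) (@Bool.rec (fun _ => ℕ) (@Bool.rec (fun _ => ℕ) rb16 rb17 (Nat.ble (nat_lit 17) i)) (@Bool.rec (fun _ => ℕ) rb18 rb19 (Nat.ble (nat_lit 19) i)) (Nat.ble (nat_lit 18) i)) (@Bool.rec (fun _ => ℕ) (@Bool.rec (fun _ => ℕ) rb20 rb21 (Nat.ble (nat_lit 21) i)) (@Bool.rec (fun _ => ℕ) rb22 rb23 (Nat.ble (nat_lit 23) i)) (Nat.ble (nat_lit 22) i)) (Nat.ble (nat_lit 20) i)) (@Bool.rec (fun _ => ℕ) (@Bool.rec (fun _ => ℕ) (@Bool.rec (fun _ => ℕ) rb24 rb25 (Nat.ble (nat_lit 25)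 i)) (@Bool.rec (fun _ => ℕ) rb26 rb27 (Nat.ble (nat_lit 27) i)) (Nat.ble (nat_lit 26) i)) (@Bool.rec (fun _ => ℕ) (@Bool.rec (fun _ => ℕ) rb28 rb29 (Nat.ble (nat_lit 29) i)) (@Bool.rec (fun _ => ℕ) rb30 rb31 (Nat.ble (nat_lit 31) i)) (Nat.ble (nat_lit 30) i)) (Nat.ble (nat_lit 28) i)) (Nat.ble (nat_lit 24) i)) (Nat.ble (nat_lit 16) i))

def rowBlk_n0_1 (i : ℕ) : ℕ := (@Bool.rec (fun _ => ℕ) (@Bool.rec (fun _ => ℕ) (@Bool.rec (fun _ => ℕ) (@Bool.rec (fun _ => ℕ) (@Bool.rec (fun _ => ℕ) rb32 rb33 (Nat.ble (nat_lit 33) i)) (@Bool.rec (fun _ => ℕ) rb34 rb35 (Nat.ble (nat_lit 35) i)) (Nat.ble (nat_lit 34) i)) (@Bool.rec (fun _ => ℕ) (@Bool.rec (fun _ => ℕ) rb36 rb37 (Nat.ble (nat_lit 37) i)) (@Bool.rec (fun _ => ℕ) rb38 rb39 (Nat.ble (nat_lit 39) i)) (Nat.ble (nat_lit 38) i)) (Nat.ble (nat_lit 36) i)) (@Bool.rec (fun _ =>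 ℕ) (@Bool.rec (fun _ => ℕ) (@Bool.rec (fun _ => ℕ) rb40 rb41 (Nat.ble (nat_lit 41) i)) (@Bool.rec (fun _ => ℕ) rb42 rb43 (Nat.ble (nat_lit 43) i)) (Nat.ble (nat_lit 42) i)) (@Bool.rec (fun _ => ℕ) (@Bool.rec (fun _ => ℕ) rb44 rb45 (Nat.ble (nat_lit 45) i)) (@Bool.rec (fun _ => ℕ) rb46 rb47 (Nat.ble (nat_lit 47) i)) (Nat.ble (nat_lit 46) i)) (Nat.ble (nat_lit 44) i)) (Nat.ble (nat_lit 40) i)) (@Bool.rec (fun _ => ℕ) (@Bool.rec (fun _ => ℕ) (@Bool.rec (fun _ => ℕ) (@Bool.rec (fun _ => ℕ) rb48 rb49 (Nat.ble (nat_lit 49) i)) (@Bool.rec (fun _ => ℕ) rb50 rb51 (Nat.ble (nat_lit 51) i)) (Nat.ble (nat_lit 50) i)) (@Bool.rec (fun _ => ℕ) (@Bool.rec (fun _ => ℕ) rb52 rb53 (Nat.ble (nat_lit 53) i)) (@Bool.rec (fun _ => ℕ) rb54 rb55 (Nat.ble (nat_lit 55) i)) (Nat.ble (nat_lit 54) i)) (Nat.ble (nat_lit 52) i)) (@Bool.rec (fun _ =>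 ℕ) (@Bool.rec (fun _ => ℕ) (@Bool.rec (fun _ => ℕ) rb56 rb57 (Nat.ble (nat_lit 57) i)) (@Bool.rec (fun _ => ℕ) rb58 rb59 (Nat.ble (nat_lit 59) i)) (Nat.ble (nat_lit 58) i)) (@Bool.rec (fun _ => ℕ) (@Bool.rec (fun _ => ℕ) rb60 rb61 (Nat.ble (nat_lit 61) i)) (@Bool.rec (fun _ => ℕ) rb62 rb63 (Nat.ble (nat_lit 63) i)) (Nat.ble (nat_lit 62) i)) (Nat.ble (nat_lit 60) i)) (Nat.ble (nat_lit 56) i)) (Nat.ble (nat_lit 48) i))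

def rowBlk_n0_2 (i : ℕ) : ℕ := (@Bool.rec (fun _ => ℕ) (@Bool.rec (fun _ => ℕ) rb64 rb65 (Nat.ble (nat_lit 65) i)) (@Bool.rec (fun _ => ℕ) rb66 rb67 (Nat.ble (nat_lit 67) i)) (Nat.ble (nat_lit 66) i))

def rowBlk (i : ℕ) : ℕ := (@Bool.rec (fun _ => ℕ) (rowBlk_n0_0 i) (@Bool.rec (fun _ => ℕ) (rowBlk_n0_1 i) (rowBlk_n0_2 i) (Nat.ble (nat_lit 64) i)) (Nat.ble (nat_lit 32) i))

def word_n0_0 (i : ℕ) : List ℕ := (@Bool.rec (fun _ => List ℕ) (@Bool.rec (fun _ => List ℕ) (@Bool.rec (fun _ => List ℕ) (@Bool.rec (fun _ => List ℕ) (@Bool.rec (fun _ => List ℕ) [10, 10] [10, 12, 10, 12, 10, 12] (Nat.ble (nat_lit 1) i)) (@Bool.rec (fun _ => List ℕ) [10, 20, 10, 20, 10, 20] [10, 14, 10, 14] (Nat.ble (nat_lit 3) i)) (Nat.ble (nat_lit 2) i)) (@Bool.rec (fun _ => List ℕ) (@Bool.rec (fun _ => List ℕ) [12, 12] [12, 20, 12, 20] (Nat.ble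 (nat_lit 5) i)) (@Bool.rec (fun _ => List ℕ) [12, 14, 12, 14, 12, 14] [20, 20] (Nat.ble (nat_lit 7) i)) (Nat.ble (nat_lit 6) i)) (Nat.ble (nat_lit 4) i)) (@Bool.rec (fun _ => List ℕ) (@Bool.rec (fun _ => List ℕ) (@Bool.rec (fun _ => List ℕ) [14, 20, 14, 20] [14, 14] (Nat.ble (nat_lit 9) i)) (@Bool.rec (fun _ => List ℕ) [0] [2] (Nat.ble (nat_lit 11) i)) (Nat.ble (nat_lit 10) i)) (@Bool.rec (fun _ => List ℕ) (@Bool.rec (fun _ => List ℕ) [4] [6] (Nat.ble (nat_lit 13) i)) (@Bool.rec (fun _ => List ℕ) [8] [16] (Nat.ble (nat_lit 15) i)) (Nat.ble (nat_lit 14) i)) (Nat.ble (nat_lit 12) i)) (Nat.ble (nat_lit 8) i)) (@Bool.rec (fun _ => List ℕ) (@Bool.rec (fun _ => List ℕ) (@Bool.rec (fun _ => List ℕ) (@Bool.rec (fun _ => List ℕ) [18] [22] (Nat.ble (nat_lit 17) i)) (@Bool.rec (fun _ => List ℕ) ([] : List ℕ) [0, 1] (Nat.ble (nat_lit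 19) i)) (Nat.ble (nat_lit 18) i)) (@Bool.rec (fun _ => List ℕ) (@Bool.rec (fun _ => List ℕ) [1, 0] [2, 3] (Nat.ble (nat_lit 21) i)) (@Bool.rec (fun _ => List ℕ) [3, 2] [4, 5] (Nat.ble (nat_lit 23) i)) (Nat.ble (nat_lit 22) i)) (Nat.ble (nat_lit 20) i)) (@Bool.rec (fun _ => List ℕ) (@Bool.rec (fun _ => List ℕ) (@Bool.rec (fun _ => List ℕ) [5, 4] [6, 7] (Nat.ble (nat_lit 25) i)) (@Bool.rec (fun _ => List ℕ) [7, 6] [8, 9] (Nat.ble (nat_lit 27) i)) (Nat.ble (nat_lit 26) i)) (@Bool.rec (fun _ => List ℕ) (@Bool.rec (fun _ => List ℕ) [9, 8] [10, 11] (Nat.ble (nat_lit 29) i)) (@Bool.rec (fun _ => List ℕ) [11, 10] [12, 13] (Nat.ble (nat_lit 31) i)) (Nat.ble (nat_lit 30) i)) (Nat.ble (nat_lit 28) i)) (Nat.ble (nat_lit 24) i)) (Nat.ble (nat_lit 16) i))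

def word_n0_1 (i : ℕ) : List ℕ := (@Bool.rec (fun _ => List ℕ) (@Bool.rec (fun _ => List ℕ) (@Bool.rec (fun _ => List ℕ) [13, 12] [14, 15] (Nat.ble (nat_lit 33) i)) (@Bool.rec (fun _ => List ℕ) [15, 14] (@Bool.rec (fun _ => List ℕ) [16, 17] [17, 16] (Nat.ble (nat_lit 36) i)) (Nat.ble (nat_lit 35) i)) (Nat.ble (nat_lit 34) i)) (@Bool.rec (fun _ => List ℕ) (@Bool.rec (fun _ => List ℕ) [18, 19] (@Bool.rec (fun _ => List ℕ) [19, 18] [20, 21] (Nat.ble (nat_lit 39) i)) (Nat.ble (nat_lit 38) i)) (@Bool.rec (fun _ => List ℕ) [21, 20] (@Bool.rec (fun _ => List ℕ) [22, 23] [23, 22] (Nat.ble (nat_lit 42) i)) (Nat.ble (nat_lit 41) i)) (Nat.ble (nat_lit 40) i)) (Nat.ble (nat_lit 37) i))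

def word (i : ℕ) : List ℕ := (@Bool.rec (fun _ => List ℕ) (word_n0_0 i) (word_n0_1 i) (Nat.ble (nat_lit 32) i))

def fact (k : ℕ) : ℕ := Nat.land (Nat.shiftRight (factBlk (Nat.shiftRight k (nat_lit 8))) (Nat.mul (Nat.land k (nat_lit 255)) (nat_lit 48))) (nat_lit 281474976710655)

def slot (v : ℕ) : ℕ := Nat.land (Nat.shiftRight (parBlk (Nat.shiftRight v (nat_lit 8))) (Nat.mul (Nat.land v (nat_lit 255)) (nat_lit 32))) (nat_lit 4294967295)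

def par (v : ℕ) : ℕ := Nat.land (slot v) (nat_lit 1048575)

def plet (v : ℕ) : ℕ := Nat.shiftRight (slot v) (nat_lit 20)

def isFin (v : ℕ) : Bool := Nat.beq (Nat.land (Nat.shiftRight (finBlk (Nat.shiftRight v (nat_lit 12))) (Nat.land v (nat_lit 4095))) (nat_lit 1)) (nat_lit 1)

def row (v : ℕ) : ℕ := Nat.land (Nat.shiftRight (rowBlk (Nat.shiftRight v (nat_lit 4))) (Nat.mul (Nat.land v (nat_lit 15)) (nat_lit 576))) (nat_lit 247330401473104534060502521019647190035131349101211839914063056092897225106531867170316401061243044989597671426016139339351365034306751209967546155101893167916606772148699135)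

def inv (g : ℕ) : Bool := and (Nat.blt g 12) (Nat.beq (Nat.land (Nat.shiftRight (nat_lit 1248) g) (nat_lit 1)) (nat_lit 1))

def blockOk (j : ℕ) : Bool := blockF par plet fact inv word (nat_lit 43) (nat_lit 43) (nat_lit 1080) (Nat.mul j (nat_lit 256)) (nat_lit 256) (nat_lit 0) (certBlk j)

def rowOk (v : ℕ) : Bool := rowF fact inv (nat_lit 1080) isFin row (nat_lit 3328) (nat_lit 24) v

def parOk (v : ℕ) : Bool := or (Nat.beq v 0) (Nat.blt (par v) v)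

def gname : ℕ → Cfsg.Spor.Fi24.Gen
  | 0 => .l
  | 1 => .k
  | 2 => .a
  | 3 => .b
  | 4 => .c
  | 5 => .d
  | 6 => .e
  | 7 => .f
  | 8 => .g
  | 9 => .j
  | 10 => .h
  | 11 => .i
  | _ => .l

end Cfsg.Agent.Lib.Helper96_Fi24Tc6.U
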