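import Mathlib
import Cfsg.Agent.Lib.Helper75_MI3MDefs
import Cfsg.Agent.Lib.Helper44_QuadClass

set_option autoImplicit false
set_option linter.unusedVariables false
set_option linter.unusedSectionVars false
set_option linter.style.haveILetI false
set_option linter.unusedSimpArgs false

/-!
MI3M-REGCB (helper75's market for the `q = 3` slice of S2147): the regular case is impossible for `m = 4`
(dimension `8`, minus type): the involution `σ = s * ρ` (`-1` on `{e₃,f₃}^⟂`, `+1` on `span {e₃,f₃}`) has exactly one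
fixed point counted through `e₃` and at least two counted through `e₁`.
-/

namespace Cfsg.Agent.Lib.Helper96_MI3M_REGCB

open Module Cfsg.Agent.Lib.Helper14_OmegaSimple Cfsg.Agent.Lib.Helper22_MI2Defs
  Cfsg.Agent.Lib.Helper44_MI3Defs Cfsg.Agent.Lib.Helper75_MI3MDefs
  Cfsg.Agent.Lib.Helper44_QuadClass Cfsg.Agent.Lib.Helper40_QuadIso
  Cfsg.Agent.Lib.Helper94_OrthSmall

universe u

variable {F V : Type*} [Field F] [AddCommGroup V] [Module F V]

theorem three_eq_zero_of_f3 (f3 : ∀ c : F, c = 0 ∨ c = 1 ∨ c = -1) (h2 : (2 : F) ≠ 0) :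
    (3 : F) = 0 := by
  rcases f3 (2 : F) with h | h | h
  · exact absurd h h2
  · exfalso
    have : (1 : F) = 0 := by linear_combination h
    exact one_ne_zero this
  · linear_combination h

/-- The common kernel of six functionals. -/
def kerSix (Q : QuadraticForm F V) (a : Fin 6 → V) : Submodule F V :=
  LinearMap.ker (LinearMap.pi fun i => QuadraticMap.polarBilin Q (a i))

theorem mem_kerSix (Q : QuadraticForm F V) (a : Fin 6 → V) (x : V) :
    x ∈ kerSix Q a ↔ ∀ i, QuadraticMap.polar (⇑Q) (a i) x = 0 := by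
  unfold kerSix
  rw [LinearMap.mem_ker]
  constructor
  · intro h i
    have := congrFun h i
    simpa using this
  · intro h
    funext i
    simpa using h i

/-- Four pairwise orthogonal hyperbolic pairs in dimension eight: the form is hyperbolic. -/
theorem isHyp_of_hypSys_four [FiniteDimensional F V] (Q : QuadraticForm F V)
    (hdim : finrank F V = 8) (e f : Fin 4 → V) (hsys : HypSys Q e f) : IsHyp Q := by
  classical
  refine ⟨Submodule.span F (Set.range e), ?_, ?_⟩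
  · intro u hu
    obtain ⟨c, rfl⟩ := (Submodule.mem_span_range_iff_exists_fun F).mp hu
    rw [Fin.sum_univ_four]
    simp only [QuadraticMap.map_add (⇑Q), QuadraticMap.map_smul, QuadraticMap.polar_add_left,
      QuadraticMap.polar_smul_left, QuadraticMap.polar_smul_right, hsys.qe, hsys.ee, smul_eq_mul,
      mul_zero, add_zero]
  · have hli : LinearIndependent F e := by
      rw [Fintype.linearIndependent_iff]
      intro c hc j
      have h1 := congrArg (fun z => QuadraticMap.polar (⇑Q) z (f j)) hc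
      simp only [Fin.sum_univ_four, QuadraticMap.polar_add_left, QuadraticMap.polar_smul_left,
        hsys.ef, smul_eq_mul] at h1
      have h0 : QuadraticMap.polar (⇑Q) 0 (f j) = 0 := by simp [QuadraticMap.polar]
      rw [h0] at h1
      fin_cases j <;> simpa using h1
    have := finrank_span_eq_card hli
    rw [this, Fintype.card_fin, hdim]

/-- The common kernel of the six functionals of a hyperbolic system of three pairs has codimension six. -/
theorem finrank_kerSix [FiniteDimensional F V] (Q : QuadraticForm F V) (e f : Fin 3 → V)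
    (hsys : HypSys Q e f) :
    finrank F (kerSix Q ![e 0, f 0, e 1, f 1, e 2, f 2]) + 6 = finrank F V := by
  have P : ∀ a b : V, QuadraticMap.polar (⇑Q) a b = QuadraticMap.polar (⇑Q) b a :=
    fun a b => QuadraticMap.polar_comm _ a b
  have hfe : ∀ i j, QuadraticMap.polar (⇑Q) (f i) (e j) = if j = i then 1 else 0 := by
    intro i j
    rw [P, hsys.ef]
  have hsurj : LinearMap.range
      (LinearMap.pi fun i => QuadraticMap.polarBilin Q (![e 0, f 0, e 1, f 1, e 2, f 2] i) :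
        V →ₗ[F] (Fin 6 → F)) = ⊤ := by
    rw [LinearMap.range_eq_top]
    intro t
    refine ⟨t 1 • e 0 + t 0 • f 0 + t 3 • e 1 + t 2 • f 1 + t 5 • e 2 + t 4 • f 2, ?_⟩
    funext i
    simp only [LinearMap.pi_apply, QuadraticMap.polarBilin_apply_apply,
      QuadraticMap.polar_add_right, QuadraticMap.polar_smul_right, smul_eq_mul]
    fin_cases i <;> simp [hsys.ef, hsys.ee, hsys.ff, hfe]
  have h1 := LinearMap.finrank_range_add_finrank_ker
    (LinearMap.pi fun i => QuadraticMap.polarBilin Q (![e 0, f 0, e 1, f 1, e 2, f 2] i) :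
      V →ₗ[F] (Fin 6 → F))
  rw [hsurj, finrank_top, Module.finrank_pi, Fintype.card_fin] at h1
  have h4 : finrank F (kerSix Q ![e 0, f 0, e 1, f 1, e 2, f 2]) = finrank F (LinearMap.ker
    (LinearMap.pi fun i => QuadraticMap.polarBilin Q (![e 0, f 0, e 1, f 1, e 2, f 2] i) :
      V →ₗ[F] (Fin 6 → F))) := rfl
  omega

theorem pair_linearIndependent (Q : QuadraticForm F V) (h2 : (2 : F) ≠ 0) {x y : V}
    (hxx : QuadraticMap.polar (⇑Q) x x = 2) (hyy : QuadraticMap.polar (⇑Q) y y = 2)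
    (hxy : QuadraticMap.polar (⇑Q) x y = 0) : LinearIndependent F ![x, y] := by
  rw [LinearIndependent.pair_iff]
  intro a b hab
  have h1 := congrArg (fun z => QuadraticMap.polar (⇑Q) x z) hab
  have h2' := congrArg (fun z => QuadraticMap.polar (⇑Q) z y) hab
  have h0 : QuadraticMap.polar (⇑Q) x 0 = 0 := by simp [QuadraticMap.polar]
  have h0' : QuadraticMap.polar (⇑Q) 0 y = 0 := by simp [QuadraticMap.polar]
  simp only [QuadraticMap.polar_add_right, QuadraticMap.polar_smul_right, smul_eq_mul, hxx, hxy,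
    h0] at h1
  simp only [QuadraticMap.polar_add_left, QuadraticMap.polar_smul_left, smul_eq_mul, hyy, hxy,
    h0'] at h2'
  constructor
  · have : a * 2 = 0 := by linear_combination h1
    exact (mul_eq_zero.mp this).resolve_right h2
  · have : b * 2 = 0 := by linear_combination h2'
    exact (mul_eq_zero.mp this).resolve_right h2

section action

variable {X : Type*} [MulAction (V ≃ₗ[F] V) X]

theorem regC_key [Finite F] [FiniteDimensional F V] (Q : QuadraticForm F V)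
    (hS : MinusSetting3 Q 4) (Ω : Set X) (hΩ : IsOrbit Q Ω)
    (hreg : ∀ u : V, u ≠ 0 → Q u = 0 → ∀ ω ∈ Ω, ∀ w : V, QuadraticMap.polar (⇑Q) u w = 0 →
      E Q u w • ω = ω → w ∈ Submodule.span F {u})
    (htr : ∀ u u' : V, Q u = 0 → Q u' = 0 → QuadraticMap.polar (⇑Q) u u' = 1 →
      ∀ ω ∈ Ω, ∀ ω' ∈ Ω, ∃ w ∈ perp2 Q u u', E Q u w • ω = ω')
    (hinv : ∀ e₁ f₁ e₂ f₂ : V, Q e₁ = 0 → Q f₁ = 0 → Q e₂ = 0 → Q f₂ = 0 →
      QuadraticMap.polar (⇑Q) e₁ f₁ = 1 → QuadraticMap.polar (⇑Q) e₂ f₂ = 1 →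
      QuadraticMap.polar (⇑Q) e₁ e₂ = 0 → QuadraticMap.polar (⇑Q) e₁ f₂ = 0 →
      QuadraticMap.polar (⇑Q) f₁ e₂ = 0 → QuadraticMap.polar (⇑Q) f₁ f₂ = 0 →
      ∃ s ∈ T Q, s * s = 1 ∧ s e₁ = -e₁ ∧ s f₁ = -f₁ ∧ s e₂ = -e₂ ∧ s f₂ = -f₂ ∧
        ∀ x : V, QuadraticMap.polar (⇑Q) x e₁ = 0 → QuadraticMap.polar (⇑Q) x f₁ = 0 →
          QuadraticMap.polar (⇑Q) x e₂ = 0 → QuadraticMap.polar (⇑Q) x f₂ = 0 → s x = x)
    (hhalf : ∀ x y f : V, Q x ≠ 0 → Q y = Q x → Q f = -Q x →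
      QuadraticMap.polar (⇑Q) x y = 0 → QuadraticMap.polar (⇑Q) x f = 0 →
      QuadraticMap.polar (⇑Q) y f = 0 →
      ∃ h ∈ T Q, h x = -x ∧ h y = -y ∧
        ∀ t : V, QuadraticMap.polar (⇑Q) t x = 0 → QuadraticMap.polar (⇑Q) t y = 0 → h t = t)
    (hcnt : ∀ (u u' : V), Q u = 0 → Q u' = 0 → QuadraticMap.polar (⇑Q) u u' = 1 →
      ∀ (s : V ≃ₗ[F] V), s ∈ T Q → ∀ c : F, c ≠ 0 → s u = c • u →
      (∀ w ∈ perp2 Q u u', c • s w ∈ perp2 Q u u') →
      ∀ ω₀ ∈ Ω, s • ω₀ = ω₀ →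
      {ω ∈ Ω | s • ω = ω}.ncard = Nat.card {w : ↥(perp2 Q u u') // c • s (w : V) = (w : V)})
    (e₁ f₁ e₂ f₂ e₃ f₃ x y : V)
    (he₁ : Q e₁ = 0) (hf₁ : Q f₁ = 0) (he₂ : Q e₂ = 0) (hf₂ : Q f₂ = 0) (he₃ : Q e₃ = 0)
    (hf₃ : Q f₃ = 0) (h11 : QuadraticMap.polar (⇑Q) e₁ f₁ = 1)
    (h22 : QuadraticMap.polar (⇑Q) e₂ f₂ = 1) (h33 : QuadraticMap.polar (⇑Q) e₃ f₃ = 1)
    (e12 : QuadraticMap.polar (⇑Q) e₁ e₂ = 0) (e13 : QuadraticMap.polar (⇑Q) e₁ e₃ = 0)
    (e23 : QuadraticMap.polar (⇑Q) e₂ e₃ = 0) (f12 : QuadraticMap.polar (⇑Q) f₁ f₂ = 0)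
    (f13 : QuadraticMap.polar (⇑Q) f₁ f₃ = 0) (f23 : QuadraticMap.polar (⇑Q) f₂ f₃ = 0)
    (a12 : QuadraticMap.polar (⇑Q) e₁ f₂ = 0) (a13 : QuadraticMap.polar (⇑Q) e₁ f₃ = 0)
    (a21 : QuadraticMap.polar (⇑Q) e₂ f₁ = 0) (a23 : QuadraticMap.polar (⇑Q) e₂ f₃ = 0)
    (a31 : QuadraticMap.polar (⇑Q) e₃ f₁ = 0) (a32 : QuadraticMap.polar (⇑Q) e₃ f₂ = 0)
    (hx : Q x ≠ 0) (hy : Q y = Q x) (hxy : QuadraticMap.polar (⇑Q) x y = 0)
    (xe₁ : QuadraticMap.polar (⇑Q) x e₁ = 0) (xf₁ : QuadraticMap.polar (⇑Q) x f₁ = 0)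
    (xe₂ : QuadraticMap.polar (⇑Q) x e₂ = 0) (xf₂ : QuadraticMap.polar (⇑Q) x f₂ = 0)
    (xe₃ : QuadraticMap.polar (⇑Q) x e₃ = 0) (xf₃ : QuadraticMap.polar (⇑Q) x f₃ = 0)
    (ye₁ : QuadraticMap.polar (⇑Q) y e₁ = 0) (yf₁ : QuadraticMap.polar (⇑Q) y f₁ = 0)
    (ye₂ : QuadraticMap.polar (⇑Q) y e₂ = 0) (yf₂ : QuadraticMap.polar (⇑Q) y f₂ = 0)
    (ye₃ : QuadraticMap.polar (⇑Q) y e₃ = 0) (yf₃ : QuadraticMap.polar (⇑Q) y f₃ = 0)
    (hker : ∀ w : V, w ∈ kerSix Q ![e₁, f₁, e₂, f₂, e₃, f₃] → ∃ α β : F, w = α • x + β • y) :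
    False := by
  classical
  have hQ := hS.nondeg
  have hdimV : finrank F V = 2 * 4 := hS.dim
  have hdim5 : 5 ≤ finrank F V := by omega
  have h2 : (2 : F) ≠ 0 := hS.two_ne
  have h3 : (3 : F) = 0 := three_eq_zero_of_f3 hS.f3 hS.two_ne
  have P : ∀ a b : V, QuadraticMap.polar (⇑Q) a b = QuadraticMap.polar (⇑Q) b a :=
    fun a b => QuadraticMap.polar_comm _ a b
  -- the other orientations
  have h11' : QuadraticMap.polar (⇑Q) f₁ e₁ = 1 := by rw [P]; exact h11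
  have h22' : QuadraticMap.polar (⇑Q) f₂ e₂ = 1 := by rw [P]; exact h22
  have h33' : QuadraticMap.polar (⇑Q) f₃ e₃ = 1 := by rw [P]; exact h33
  have e21 : QuadraticMap.polar (⇑Q) e₂ e₁ = 0 := by rw [P]; exact e12
  have e31 : QuadraticMap.polar (⇑Q) e₃ e₁ = 0 := by rw [P]; exact e13
  have e32 : QuadraticMap.polar (⇑Q) e₃ e₂ = 0 := by rw [P]; exact e23
  have f21 : QuadraticMap.polar (⇑Q) f₂ f₁ = 0 := by rw [P]; exact f12
  have f31 : QuadraticMap.polar (⇑Q) f₃ f₁ = 0 := by rw [P]; exact f13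
  have f32 : QuadraticMap.polar (⇑Q) f₃ f₂ = 0 := by rw [P]; exact f23
  have b12 : QuadraticMap.polar (⇑Q) f₂ e₁ = 0 := by rw [P]; exact a12
  have b13 : QuadraticMap.polar (⇑Q) f₃ e₁ = 0 := by rw [P]; exact a13
  have b21 : QuadraticMap.polar (⇑Q) f₁ e₂ = 0 := by rw [P]; exact a21
  have b23 : QuadraticMap.polar (⇑Q) f₃ e₂ = 0 := by rw [P]; exact a23
  have b31 : QuadraticMap.polar (⇑Q) f₁ e₃ = 0 := by rw [P]; exact a31
  have b32 : QuadraticMap.polar (⇑Q) f₂ e₃ = 0 := by rw [P]; exact a32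
  have s1 : QuadraticMap.polar (⇑Q) e₁ e₁ = 0 := by rw [polar_self', he₁, mul_zero]
  have s2 : QuadraticMap.polar (⇑Q) f₁ f₁ = 0 := by rw [polar_self', hf₁, mul_zero]
  have s3 : QuadraticMap.polar (⇑Q) e₂ e₂ = 0 := by rw [polar_self', he₂, mul_zero]
  have s4 : QuadraticMap.polar (⇑Q) f₂ f₂ = 0 := by rw [polar_self', hf₂, mul_zero]
  have s5 : QuadraticMap.polar (⇑Q) e₃ e₃ = 0 := by rw [polar_self', he₃, mul_zero]
  have s6 : QuadraticMap.polar (⇑Q) f₃ f₃ = 0 := by rw [polar_self', hf₃, mul_zero]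
  have e₁x : QuadraticMap.polar (⇑Q) e₁ x = 0 := by rw [P]; exact xe₁
  have f₁x : QuadraticMap.polar (⇑Q) f₁ x = 0 := by rw [P]; exact xf₁
  have e₂x : QuadraticMap.polar (⇑Q) e₂ x = 0 := by rw [P]; exact xe₂
  have f₂x : QuadraticMap.polar (⇑Q) f₂ x = 0 := by rw [P]; exact xf₂
  have e₃x : QuadraticMap.polar (⇑Q) e₃ x = 0 := by rw [P]; exact xe₃
  have f₃x : QuadraticMap.polar (⇑Q) f₃ x = 0 := by rw [P]; exact xf₃
  have e₁y : QuadraticMap.polar (⇑Q) e₁ y = 0 := by rw [P]; exact ye₁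
  have f₁y : QuadraticMap.polar (⇑Q) f₁ y = 0 := by rw [P]; exact yf₁
  have e₂y : QuadraticMap.polar (⇑Q) e₂ y = 0 := by rw [P]; exact ye₂
  have f₂y : QuadraticMap.polar (⇑Q) f₂ y = 0 := by rw [P]; exact yf₂
  have e₃y : QuadraticMap.polar (⇑Q) e₃ y = 0 := by rw [P]; exact ye₃
  have f₃y : QuadraticMap.polar (⇑Q) f₃ y = 0 := by rw [P]; exact yf₃
  -- the vector `f`
  set f : V := (-Q x) • f₃ + e₃ with hf
  have hQf : Q f = -Q x := by
    rw [hf, map_smul_add, hf₃, he₃, h33']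
    ring
  have hxf : QuadraticMap.polar (⇑Q) x f = 0 := by
    rw [hf, QuadraticMap.polar_add_right, QuadraticMap.polar_smul_right, xf₃, xe₃]
    simp
  have hyf : QuadraticMap.polar (⇑Q) y f = 0 := by
    rw [hf, QuadraticMap.polar_add_right, QuadraticMap.polar_smul_right, yf₃, ye₃]
    simp
  -- the half-turn and the involution
  obtain ⟨ρ, hρT, hρx, hρy, hρfix⟩ := hhalf x y f hx hy hQf hxy hxf hyf
  obtain ⟨s, hsT, hss, hse₁, hsf₁, hse₂, hsf₂, hsfix⟩ :=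
    hinv e₁ f₁ e₂ f₂ he₁ hf₁ he₂ hf₂ h11 h22 e12 a12 b21 f12
  set σ : V ≃ₗ[F] V := s * ρ with hσ
  have hσT : σ ∈ T Q := (T Q).mul_mem hsT hρT
  have hσO : σ ∈ oG (⇑Q) := T_le_oG Q hσT
  have hσP : ∀ a b : V, QuadraticMap.polar (⇑Q) (σ a) (σ b) = QuadraticMap.polar (⇑Q) a b :=
    fun a b => oG_polar Q hσO a b
  have hσapp : ∀ t : V, σ t = s (ρ t) := fun t => rfl
  have hσe₁ : σ e₁ = -e₁ := by rw [hσapp, hρfix e₁ e₁x e₁y, hse₁]
  have hσf₁ : σ f₁ = -f₁ := by rw [hσapp, hρfix f₁ f₁x f₁y, hsf₁]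
  have hσe₂ : σ e₂ = -e₂ := by rw [hσapp, hρfix e₂ e₂x e₂y, hse₂]
  have hσf₂ : σ f₂ = -f₂ := by rw [hσapp, hρfix f₂ f₂x f₂y, hsf₂]
  have hσe₃ : σ e₃ = e₃ := by rw [hσapp, hρfix e₃ e₃x e₃y, hsfix e₃ e31 a31 e32 a32]
  have hσf₃ : σ f₃ = f₃ := by rw [hσapp, hρfix f₃ f₃x f₃y, hsfix f₃ b13 f31 b23 f32]
  have hσx : σ x = -x := by
    rw [hσapp, hρx, map_neg, hsfix x xe₁ xf₁ xe₂ xf₂]
  have hσy : σ y = -y := by
    rw [hσapp, hρy, map_neg, hsfix y ye₁ yf₁ ye₂ yf₂]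
  -- the six functionals
  have hZmem : ∀ t : V, t ∈ kerSix Q ![e₁, f₁, e₂, f₂, e₃, f₃] ↔
      (QuadraticMap.polar (⇑Q) e₁ t = 0 ∧ QuadraticMap.polar (⇑Q) f₁ t = 0 ∧
        QuadraticMap.polar (⇑Q) e₂ t = 0 ∧ QuadraticMap.polar (⇑Q) f₂ t = 0 ∧
        QuadraticMap.polar (⇑Q) e₃ t = 0 ∧ QuadraticMap.polar (⇑Q) f₃ t = 0) := by
    intro t
    rw [mem_kerSix]
    constructor
    · intro h
      exact ⟨h 0, h 1, h 2, h 3, h 4, h 5⟩
    · rintro ⟨h0, h1, h2', h3', h4, h5⟩ i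
      fin_cases i
      · exact h0
      · exact h1
      · exact h2'
      · exact h3'
      · exact h4
      · exact h5
  -- `σ = -1` on `{e₃, f₃}^⟂`
  have hσneg : ∀ w : V, QuadraticMap.polar (⇑Q) e₃ w = 0 → QuadraticMap.polar (⇑Q) f₃ w = 0 →
      σ w = -w := by
    intro w hw1 hw2
    set w12 : V := QuadraticMap.polar (⇑Q) w f₁ • e₁ + QuadraticMap.polar (⇑Q) w e₁ • f₁ +
      QuadraticMap.polar (⇑Q) w f₂ • e₂ + QuadraticMap.polar (⇑Q) w e₂ • f₂ with hw12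
    have hσw12 : σ w12 = -w12 := by
      rw [hw12]
      simp only [map_add, map_smul, hσe₁, hσf₁, hσe₂, hσf₂]
      module
    have hwA : w - w12 ∈ kerSix Q ![e₁, f₁, e₂, f₂, e₃, f₃] := by
      rw [hZmem]
      refine ⟨?_, ?_, ?_, ?_, ?_, ?_⟩
      · rw [QuadraticMap.polar_sub_right, hw12]
        simp only [QuadraticMap.polar_add_right, QuadraticMap.polar_smul_right, s1, h11, e12, a12,
          smul_eq_mul, mul_zero, mul_one, add_zero, zero_add]
        rw [P e₁ w]; ring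
      · rw [QuadraticMap.polar_sub_right, hw12]
        simp only [QuadraticMap.polar_add_right, QuadraticMap.polar_smul_right, s2, h11', b21, f12,
          smul_eq_mul, mul_zero, mul_one, add_zero, zero_add]
        rw [P f₁ w]; ring
      · rw [QuadraticMap.polar_sub_right, hw12]
        simp only [QuadraticMap.polar_add_right, QuadraticMap.polar_smul_right, s3, h22, e21, a21,
          smul_eq_mul, mul_zero, mul_one, add_zero, zero_add]
        rw [P e₂ w]; ring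
      · rw [QuadraticMap.polar_sub_right, hw12]
        simp only [QuadraticMap.polar_add_right, QuadraticMap.polar_smul_right, s4, h22', b12, f21,
          smul_eq_mul, mul_zero, mul_one, add_zero, zero_add]
        rw [P f₂ w]; ring
      · rw [QuadraticMap.polar_sub_right, hw12]
        simp only [QuadraticMap.polar_add_right, QuadraticMap.polar_smul_right, e31, a31, e32, a32,
          smul_eq_mul, mul_zero, add_zero, hw1, sub_zero]
      · rw [QuadraticMap.polar_sub_right, hw12]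
        simp only [QuadraticMap.polar_add_right, QuadraticMap.polar_smul_right, b13, f31, b23, f32,
          smul_eq_mul, mul_zero, add_zero, hw2, sub_zero]
    obtain ⟨α, β, hαβ⟩ := hker _ hwA
    have hσA : σ (w - w12) = -(w - w12) := by
      rw [hαβ]
      simp only [map_add, map_smul, hσx, hσy]
      module
    have hw : w = (w - w12) + w12 := by abel
    calc σ w = σ ((w - w12) + w12) := by rw [← hw]
      _ = σ (w - w12) + σ w12 := map_add _ _ _
      _ = -(w - w12) + -w12 := by rw [hσA, hσw12]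
      _ = -w := by abel
  have he₃0 : e₃ ≠ 0 := by
    intro h0
    have := h33
    rw [h0] at this
    simp [QuadraticMap.polar] at this
  have he₂0 : e₂ ≠ 0 := by
    intro h0
    have := h22
    rw [h0] at this
    simp [QuadraticMap.polar] at this
  -- `σ` preserves `W₃` and `W₁`
  have hσW₃ : ∀ w ∈ perp2 Q e₃ f₃, σ w ∈ perp2 Q e₃ f₃ := by
    intro w hw
    rw [mem_perp] at hw ⊢
    constructor
    · have := hσP e₃ w
      rw [hσe₃] at this
      rw [this]; exact hw.1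
    · have := hσP f₃ w
      rw [hσf₃] at this
      rw [this]; exact hw.2
  have hσW₁ : ∀ w ∈ perp2 Q e₁ f₁, σ w ∈ perp2 Q e₁ f₁ := by
    intro w hw
    rw [mem_perp] at hw ⊢
    constructor
    · have := hσP e₁ w
      rw [hσe₁, QuadraticMap.polar_neg_left, hw.1] at this
      exact neg_eq_zero.mp this
    · have := hσP f₁ w
      rw [hσf₁, QuadraticMap.polar_neg_left, hw.2] at this
      exact neg_eq_zero.mp this
  -- Step A: `σ` has a fixed point on `Ω`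
  obtain ⟨ω₀, hω₀, hfix⟩ : ∃ ω₀ ∈ Ω, σ • ω₀ = ω₀ := by
    obtain ⟨ω, hω, -⟩ := hΩ.nontriv
    have hsω : σ • ω ∈ Ω := hΩ.inv σ hσT ω hω
    obtain ⟨c, hcW, hc⟩ := htr e₃ f₃ he₃ hf₃ h33 ω hω (σ • ω) hsω
    have hcW' := (mem_perp Q e₃ f₃).mp hcW
    have hconj : ∀ z : V, QuadraticMap.polar (⇑Q) e₃ z = 0 →
        ∀ ω' : X, σ • (E Q e₃ z • ω') = E Q e₃ (σ z) • (σ • ω') := by
      intro z hz ω'
      have := conj_E Q hσO he₃ hz
      rw [hσe₃] at this
      rw [← this, ← mul_smul, ← mul_smul]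
      congr 1
      group
    have hσc : σ c = -c := hσneg c hcW'.1 hcW'.2
    have hnc : QuadraticMap.polar (⇑Q) e₃ (-c) = 0 := by
      rw [QuadraticMap.polar_neg_right, hcW'.1, neg_zero]
    refine ⟨E Q e₃ (-c) • ω, hΩ.inv _ (E_mem_T Q hQ hdim5 he₃ hnc) ω hω, ?_⟩
    rw [hconj (-c) hnc ω, map_neg, hσc, neg_neg, ← hc, ← mul_smul, E_mul Q he₃ hcW'.1 hcW'.1]
    congr 2
    have : c + c + c = 0 := by
      have : (3 : F) • c = 0 := by rw [h3, zero_smul]
      rw [← this]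
      module
    exact eq_neg_of_add_eq_zero_left this
  -- Step B: count with `u = e₃`, `c = 1`
  have hB := hcnt e₃ f₃ he₃ hf₃ h33 σ hσT 1 one_ne_zero (by rw [hσe₃, one_smul])
    (by intro w hw; rw [one_smul]; exact hσW₃ w hw) ω₀ hω₀ hfix
  -- Step C: count with `u = e₁`, `c = -1`
  have hC := hcnt e₁ f₁ he₁ hf₁ h11 σ hσT (-1) (neg_ne_zero.mpr one_ne_zero)
    (by rw [hσe₁, neg_one_smul])
    (by intro w hw; rw [neg_one_smul]; exact Submodule.neg_mem _ (hσW₁ w hw)) ω₀ hω₀ hfix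
  -- Step B count: only `0`
  have hBsub : Subsingleton {w : ↥(perp2 Q e₃ f₃) // (1 : F) • σ (w : V) = (w : V)} := by
    refine ⟨?_⟩
    have hz : ∀ t : {w : ↥(perp2 Q e₃ f₃) // (1 : F) • σ (w : V) = (w : V)},
        ((t : ↥(perp2 Q e₃ f₃)) : V) = 0 := by
      rintro ⟨⟨w, hwW⟩, hw⟩
      simp only [one_smul] at hw
      have hwW' := (mem_perp Q e₃ f₃).mp hwW
      rw [hσneg w hwW'.1 hwW'.2] at hw
      have h2w : (2 : F) • w = 0 := by
        rw [two_smul]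
        calc w + w = w + -w := by rw [hw]
          _ = 0 := by abel
      exact (smul_eq_zero.mp h2w).resolve_left h2
    intro a b
    apply Subtype.ext
    apply Subtype.ext
    rw [hz a, hz b]
  -- Step C count: `0` and `e₂`
  have he₂W : e₂ ∈ perp2 Q e₁ f₁ := by
    rw [mem_perp]
    exact ⟨e12, b21⟩
  have hCsub : ¬ Subsingleton {w : ↥(perp2 Q e₁ f₁) // (-1 : F) • σ (w : V) = (w : V)} := by
    intro hsub
    have h0 : (-1 : F) • σ ((0 : ↥(perp2 Q e₁ f₁)) : V) = ((0 : ↥(perp2 Q e₁ f₁)) : V) := by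
      simp
    have h1 : (-1 : F) • σ ((⟨e₂, he₂W⟩ : ↥(perp2 Q e₁ f₁)) : V) =
        ((⟨e₂, he₂W⟩ : ↥(perp2 Q e₁ f₁)) : V) := by
      simp only [hσe₂, neg_one_smul, neg_neg]
    have := hsub.elim (⟨0, h0⟩ : {w : ↥(perp2 Q e₁ f₁) // (-1 : F) • σ (w : V) = (w : V)})
      ⟨⟨e₂, he₂W⟩, h1⟩
    have h5 := congrArg (fun t : {w : ↥(perp2 Q e₁ f₁) // (-1 : F) • σ (w : V) = (w : V)} =>
      ((t : ↥(perp2 Q e₁ f₁)) : V)) this
    simp only [ZeroMemClass.coe_zero] at h5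
    exact he₂0 h5.symm
  have hBcard : Nat.card {w : ↥(perp2 Q e₃ f₃) // (1 : F) • σ (w : V) = (w : V)} = 1 := by
    haveI := hBsub
    haveI : Nonempty {w : ↥(perp2 Q e₃ f₃) // (1 : F) • σ (w : V) = (w : V)} :=
      ⟨⟨0, by simp⟩⟩
    exact Nat.card_eq_one_iff_unique.mpr ⟨hBsub, inferInstance⟩
  rw [hBcard] at hB
  rw [hB] at hC
  exact hCsub (Nat.card_eq_one_iff_unique.mp hC.symm).1

theorem regC_minus_four [Finite F] [FiniteDimensional F V] (Q : QuadraticForm F V)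
    (hS : MinusSetting3 Q 4) (Ω : Set X) (hΩ : IsOrbit Q Ω)
    (hreg : ∀ u : V, u ≠ 0 → Q u = 0 → ∀ ω ∈ Ω, ∀ w : V, QuadraticMap.polar (⇑Q) u w = 0 →
      E Q u w • ω = ω → w ∈ Submodule.span F {u})
    (htr : ∀ u u' : V, Q u = 0 → Q u' = 0 → QuadraticMap.polar (⇑Q) u u' = 1 →
      ∀ ω ∈ Ω, ∀ ω' ∈ Ω, ∃ w ∈ perp2 Q u u', E Q u w • ω = ω')
    (hinv : ∀ e₁ f₁ e₂ f₂ : V, Q e₁ = 0 → Q f₁ = 0 → Q e₂ = 0 → Q f₂ = 0 →
      QuadraticMap.polar (⇑Q) e₁ f₁ = 1 → QuadraticMap.polar (⇑Q) e₂ f₂ = 1 →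
      QuadraticMap.polar (⇑Q) e₁ e₂ = 0 → QuadraticMap.polar (⇑Q) e₁ f₂ = 0 →
      QuadraticMap.polar (⇑Q) f₁ e₂ = 0 → QuadraticMap.polar (⇑Q) f₁ f₂ = 0 →
      ∃ s ∈ T Q, s * s = 1 ∧ s e₁ = -e₁ ∧ s f₁ = -f₁ ∧ s e₂ = -e₂ ∧ s f₂ = -f₂ ∧
        ∀ x : V, QuadraticMap.polar (⇑Q) x e₁ = 0 → QuadraticMap.polar (⇑Q) x f₁ = 0 →
          QuadraticMap.polar (⇑Q) x e₂ = 0 → QuadraticMap.polar (⇑Q) x f₂ = 0 → s x = x)
    (hhalf : ∀ x y f : V, Q x ≠ 0 → Q y = Q x → Q f = -Q x →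
      QuadraticMap.polar (⇑Q) x y = 0 → QuadraticMap.polar (⇑Q) x f = 0 →
      QuadraticMap.polar (⇑Q) y f = 0 →
      ∃ h ∈ T Q, h x = -x ∧ h y = -y ∧
        ∀ t : V, QuadraticMap.polar (⇑Q) t x = 0 → QuadraticMap.polar (⇑Q) t y = 0 → h t = t)
    (hcnt : ∀ (u u' : V), Q u = 0 → Q u' = 0 → QuadraticMap.polar (⇑Q) u u' = 1 →
      ∀ (s : V ≃ₗ[F] V), s ∈ T Q → ∀ c : F, c ≠ 0 → s u = c • u →
      (∀ w ∈ perp2 Q u u', c • s w ∈ perp2 Q u u') →
      ∀ ω₀ ∈ Ω, s • ω₀ = ω₀ →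
      {ω ∈ Ω | s • ω = ω}.ncard = Nat.card {w : ↥(perp2 Q u u') // c • s (w : V) = (w : V)}) :
    False := by
  classical
  have hQ := hS.nondeg
  have hdimV : finrank F V = 2 * (3 + 1) := hS.dim
  have h2 : (2 : F) ≠ 0 := hS.two_ne
  have h3 : (3 : F) = 0 := three_eq_zero_of_f3 hS.f3 hS.two_ne
  have P : ∀ a b : V, QuadraticMap.polar (⇑Q) a b = QuadraticMap.polar (⇑Q) b a :=
    fun a b => QuadraticMap.polar_comm _ a b
  rcases even_standard 3 V Q hdimV hQ with ⟨e, f, hsys⟩ |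
    ⟨e, f, x, y, ζ, hsys, hirr, hxe, hxf, hye, hyf, hx, hxy, hy⟩
  · exact hS.nothyp (isHyp_of_hypSys_four Q (by omega) e f hsys)
  · have hζ : ζ = -1 := by
      rcases hS.f3 ζ with h | h | h
      · exfalso
        apply hirr 0
        rw [h]; ring
      · exfalso
        apply hirr 1
        rw [h]; linear_combination h3
      · exact h
    have hy'Q : Q (x + y) = 1 := by
      rw [QuadraticMap.map_add (⇑Q) x y, hx, hy, hxy, hζ]; ring
    have hxy' : QuadraticMap.polar (⇑Q) x (x + y) = 0 := by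
      rw [QuadraticMap.polar_add_right, polar_self', hx, hxy]
      linear_combination h3
    have hy'e : ∀ i, QuadraticMap.polar (⇑Q) (x + y) (e i) = 0 := by
      intro i
      rw [QuadraticMap.polar_add_left, hxe, hye, add_zero]
    have hy'f : ∀ i, QuadraticMap.polar (⇑Q) (x + y) (f i) = 0 := by
      intro i
      rw [QuadraticMap.polar_add_left, hxf, hyf, add_zero]
    have hxx : QuadraticMap.polar (⇑Q) x x = 2 := by rw [polar_self', hx, mul_one]
    have hyy : QuadraticMap.polar (⇑Q) (x + y) (x + y) = 2 := by rw [polar_self', hy'Q, mul_one]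
    have hfr := finrank_kerSix Q e f hsys
    have hxK : x ∈ kerSix Q ![e 0, f 0, e 1, f 1, e 2, f 2] := by
      rw [mem_kerSix]
      intro i
      fin_cases i
      · exact (P _ _).trans (hxe 0)
      · exact (P _ _).trans (hxf 0)
      · exact (P _ _).trans (hxe 1)
      · exact (P _ _).trans (hxf 1)
      · exact (P _ _).trans (hxe 2)
      · exact (P _ _).trans (hxf 2)
    have hyK : x + y ∈ kerSix Q ![e 0, f 0, e 1, f 1, e 2, f 2] := by
      rw [mem_kerSix]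
      intro i
      fin_cases i
      · exact (P _ _).trans (hy'e 0)
      · exact (P _ _).trans (hy'f 0)
      · exact (P _ _).trans (hy'e 1)
      · exact (P _ _).trans (hy'f 1)
      · exact (P _ _).trans (hy'e 2)
      · exact (P _ _).trans (hy'f 2)
    have hli : LinearIndependent F ![x, x + y] := pair_linearIndependent Q h2 hxx hyy hxy'
    have hspan_le : Submodule.span F (Set.range ![x, x + y]) ≤
        kerSix Q ![e 0, f 0, e 1, f 1, e 2, f 2] := by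
      rw [Submodule.span_le]
      rintro _ ⟨i, rfl⟩
      fin_cases i
      · exact hxK
      · exact hyK
    have hspan_fr : finrank F (Submodule.span F (Set.range ![x, x + y])) = 2 := by
      rw [finrank_span_eq_card hli, Fintype.card_fin]
    have hspan_eq : Submodule.span F (Set.range ![x, x + y]) =
        kerSix Q ![e 0, f 0, e 1, f 1, e 2, f 2] :=
      Submodule.eq_of_le_of_finrank_eq hspan_le (by omega)
    have hker : ∀ w : V, w ∈ kerSix Q ![e 0, f 0, e 1, f 1, e 2, f 2] →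
        ∃ α β : F, w = α • x + β • (x + y) := by
      intro w hw
      rw [← hspan_eq] at hw
      obtain ⟨c, hc⟩ := (Submodule.mem_span_range_iff_exists_fun F).mp hw
      refine ⟨c 0, c 1, ?_⟩
      rw [← hc, Fin.sum_univ_two]
      rfl
    have hne : ∀ a b : Fin 3, a ≠ b → QuadraticMap.polar (⇑Q) (e a) (f b) = 0 := by
      intro a b hab
      rw [hsys.ef, if_neg hab]
    have hef1 : ∀ i, QuadraticMap.polar (⇑Q) (e i) (f i) = 1 := by
      intro i
      rw [hsys.ef, if_pos rfl]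
    exact regC_key Q hS Ω hΩ hreg htr hinv hhalf hcnt (e 0) (f 0) (e 1) (f 1) (e 2) (f 2) x (x + y)
      (hsys.qe _) (hsys.qf _) (hsys.qe _) (hsys.qf _) (hsys.qe _) (hsys.qf _)
      (hef1 _) (hef1 _) (hef1 _) (hsys.ee _ _) (hsys.ee _ _) (hsys.ee _ _)
      (hsys.ff _ _) (hsys.ff _ _) (hsys.ff _ _)
      (hne 0 1 (by decide)) (hne 0 2 (by decide)) (hne 1 0 (by decide)) (hne 1 2 (by decide))
      (hne 2 0 (by decide)) (hne 2 1 (by decide))
      (by rw [hx]; exact one_ne_zero) (by rw [hy'Q, hx]) hxy'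
      (hxe 0) (hxf 0) (hxe 1) (hxf 1) (hxe 2) (hxf 2)
      (hy'e 0) (hy'f 0) (hy'e 1) (hy'f 1) (hy'e 2) (hy'f 2) hker

end action

end Cfsg.Agent.Lib.Helper96_MI3M_REGCB
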