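import Cfsg.Agent.Lib.Helper96_SubPres
import Cfsg.Prelude.Def_Spor_ON

/-!
# The sub-presentations of the presentation of O'N (helper96)

`K0` on `a, …, f` (a group mapping onto `L₃(7):2`), `K1` on `a, b, c, d, f` (a group of order at most `28 · 24`),
`K2` on `a, b, c` (the symmetric group of degree 4): the relators of each are the relators of the presentation of
`O'N` that involve its generators only.
-/

set_option autoImplicit false

namespace Cfsg.Agent.Lib.Helper96_ONSub

open Cfsg.Spor

namespace K0

/-- The generators a, b, c, d, e, f. -/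
inductive Gen
  | a | b | c | d | e | f
  deriving DecidableEq

/-- the generator a as a word -/ abbrev a : FreeGroup Gen := FreeGroup.of Gen.a
/-- the generator b as a word -/ abbrev b : FreeGroup Gen := FreeGroup.of Gen.b
/-- the generator c as a word -/ abbrev c : FreeGroup Gen := FreeGroup.of Gen.c
/-- the generator d as a word -/ abbrev d : FreeGroup Gen := FreeGroup.of Gen.d
/-- the generator e as a word -/ abbrev e : FreeGroup Gen := FreeGroup.of Gen.e
/-- the generator f as a word -/ abbrev f : FreeGroup Gen := FreeGroup.of Gen.f

/-- the graph -/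
def edges : List (Gen × ℕ × Gen) := [(.a, 3, .b), (.b, 3, .c), (.c, 8, .d), (.d, 3, .e), (.e, 3, .f)]

/-- the further relators -/
def extra : List (FreeGroup Gen) := [
  (a * f) * (((c * d) ^ 4)⁻¹) ]

/-- the inclusion of the generators -/
def ι : Gen → ON.Gen
  | .a => .a | .b => .b | .c => .c | .d => .d | .e => .e | .f => .f

end K0

namespace K1

/-- The generators a, b, c, d, f. -/
inductive Gen
  | a | b | c | d | f
  deriving DecidableEq

/-- the generator a as a word -/ abbrev a : FreeGroup Gen := FreeGroup.of Gen.a
/-- the generator b as a word -/ abbrev b : FreeGroup Gen := FreeGroup.of Gen.b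
/-- the generator c as a word -/ abbrev c : FreeGroup Gen := FreeGroup.of Gen.c
/-- the generator d as a word -/ abbrev d : FreeGroup Gen := FreeGroup.of Gen.d
/-- the generator f as a word -/ abbrev f : FreeGroup Gen := FreeGroup.of Gen.f

/-- the graph; the edge with label 2 makes `f` a node -/
def edges : List (Gen × ℕ × Gen) := [(.a, 3, .b), (.b, 3, .c), (.c, 8, .d), (.a, 2, .f)]

/-- the further relators -/
def extra : List (FreeGroup Gen) := [
  (a * f) * (((c * d) ^ 4)⁻¹) ]

/-- the inclusion of the generators -/
def ι : Gen → K0.Gen
  | .a => .a | .b => .b | .c => .c | .d => .d | .f => .f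

end K1

namespace K2

/-- The generators a, b, c. -/
inductive Gen
  | a | b | c
  deriving DecidableEq

/-- the generator a as a word -/ abbrev a : FreeGroup Gen := FreeGroup.of Gen.a
/-- the generator b as a word -/ abbrev b : FreeGroup Gen := FreeGroup.of Gen.b
/-- the generator c as a word -/ abbrev c : FreeGroup Gen := FreeGroup.of Gen.c

/-- the graph -/
def edges : List (Gen × ℕ × Gen) := [(.a, 3, .b), (.b, 3, .c)]

/-- the further relators -/
def extra : List (FreeGroup Gen) := []

/-- the inclusion of the generators -/
def ι : Gen → K1.Gen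
  | .a => .a | .b => .b | .c => .c

end K2

open Cfsg.Agent.Lib.Helper96_SubPres

theorem ok0 : SubOk K0.ι K0.edges K0.extra ON.edges ON.extra := by
  refine ⟨?_, ?_, ?_⟩
  · intro x _; cases x <;> decide
  · intro x _ y _; cases x <;> cases y <;> decide
  · decide

theorem ok1 : SubOk K1.ι K1.edges K1.extra K0.edges K0.extra := by
  refine ⟨?_, ?_, ?_⟩
  · intro x _; cases x <;> decide
  · intro x _ y _; cases x <;> cases y <;> decide
  · decide

theorem ok2 : SubOk K2.ι K2.edges K2.extra K1.edges K1.extra := by
  refine ⟨?_, ?_, ?_⟩
  · intro x _; cases x <;> decide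
  · intro x _ y _; cases x <;> cases y <;> decide
  · decide

end Cfsg.Agent.Lib.Helper96_ONSub
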