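import Cfsg.Agent.Lib.Helper96_CosetTable

set_option autoImplicit false
set_option maxRecDepth 100000
set_option Elab.async false

namespace Cfsg.Agent.Lib.Helper96_ONK2Data

open Cfsg.Agent.Lib.Helper96_CosetTable

def FA_0 : Nat := 0x259701557014d602455024940239301391022d00028f0220d001cc01189000c5005d400592005500150f004cd0148c0044b0140a023c9003880134702306012c5022840024401203021c2001820214101101020c00108000040
noncomputable def FAget (i : Nat) : Nat := Nat.land (Nat.shiftRight FA_0 (Nat.mul 20 i)) 1048575

def WD_0 : Nat := 0x202000400000000010100040000000000000004020102010201000c0000020002000008010001000100000c000000000202000400000000010100040000000000000004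
noncomputable def WDget (i : Nat) : Nat := Nat.land (Nat.shiftRight WD_0 (Nat.mul 64 i)) 18446744073709551615

def RR_0 : Nat := 0x5d65544d24503ce34c2ca2481c61440c2040
noncomputable def RRget (i : Nat) : Nat := Nat.land (Nat.shiftRight RR_0 (Nat.mul 6 i)) 63

def LI_0 : Nat := 0x61759551349140f38d30b289207185103081
noncomputable def LIget (i : Nat) : Nat := Nat.land (Nat.shiftRight LI_0 (Nat.mul 6 i)) 63

def TJ_0 : Nat := 0x8d116c784ae04552f93ac790d2bf46aa0ba42e0fa83a99b3d766da19485d13272550133cdce3022d479a1a61996622c4945c483900a3978c06284060210100
noncomputable def TJget (i : Nat) : Nat := Nat.land (Nat.shiftRight TJ_0 (Nat.mul 7 i)) 127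

def blocks : List Nat := [
0x1fab8cb000080011404004999b9f5311600020003280600af133329612a00040006480c015f9430140001000220080093c625d1be4c0008000c782802b6a6de2400020004341001268bc79b748000100018b0300569061255c1e000400062814015a6d8e10000100041010012301051ed0c000200030e0a00abac8b0a000100040810011f00062d81000040006100c0152ae1000000400100040046000d
]

def walks : List Nat := unpackAll blocks

noncomputable def D : Data := { w := 6, ncol := 3, invL := fun x => x, nw := 10, wrec := WDget, R := 24, getRec := FAget, NF := 36, walks := walks, n := 24, rr := RRget, li := LIget, tj := TJget }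

set_option maxHeartbeats 4000000 in
theorem D_ok : D.ok = true := by decide +kernel

set_option maxHeartbeats 4000000 in
theorem D_tblOk : D.tblOk = true := by decide +kernel

end Cfsg.Agent.Lib.Helper96_ONK2Data
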