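import Cfsg.Agent.Lib.Helper96_ONSubDefs
import Cfsg.Agent.Lib.Helper96_ONK0Upper
import Cfsg.Agent.Lib.Helper96_ONK1Upper
import Cfsg.Agent.Lib.Helper96_ONK2Upper

/-!
# The group presented on `a, …, f` by the relators of O'N has at most 3753792 elements (helper96)

Chain of coset enumerations over the sub-presentations: `5586 * 28 * 24`.
-/

set_option autoImplicit false

namespace Cfsg.Agent.Lib.Helper96_ONOrderUpper

open Cfsg.Spor Cfsg.Agent.Lib.Helper96_SubPres Cfsg.Agent.Lib.Helper96_ONSub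

theorem range2 : ({K1.a, K1.b, K1.c} : Set (FreeGroup K1.Gen)) = Set.range (fun x : K2.Gen => FreeGroup.of (K2.ι x)) := by
  ext w
  simp only [Set.mem_insert_iff, Set.mem_singleton_iff, Set.mem_range]
  constructor
  · rintro (rfl | rfl | rfl)
    · exact ⟨.a, rfl⟩
    · exact ⟨.b, rfl⟩
    · exact ⟨.c, rfl⟩
  · rintro ⟨x, rfl⟩
    cases x
    · exact Or.inl rfl
    · exact Or.inr (Or.inl rfl)
    · exact Or.inr (Or.inr rfl)

theorem range1 : ({K0.a, K0.b, K0.c, K0.d, K0.f} : Set (FreeGroup K0.Gen)) = Set.range (fun x : K1.Gen => FreeGroup.of (K1.ι x)) := by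
  ext w
  simp only [Set.mem_insert_iff, Set.mem_singleton_iff, Set.mem_range]
  constructor
  · rintro (rfl | rfl | rfl | rfl | rfl)
    · exact ⟨.a, rfl⟩
    · exact ⟨.b, rfl⟩
    · exact ⟨.c, rfl⟩
    · exact ⟨.d, rfl⟩
    · exact ⟨.f, rfl⟩
  · rintro ⟨x, rfl⟩
    cases x
    · exact Or.inl rfl
    · exact Or.inr (Or.inl rfl)
    · exact Or.inr (Or.inr (Or.inl rfl))
    · exact Or.inr (Or.inr (Or.inr (Or.inl rfl)))
    · exact Or.inr (Or.inr (Or.inr (Or.inr rfl)))

theorem range0 : ({ON.a, ON.b, ON.c, ON.d, ON.e, ON.f} : Set (FreeGroup ON.Gen)) = Set.range (fun x : K0.Gen => FreeGroup.of (K0.ι x)) := by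
  ext w
  simp only [Set.mem_insert_iff, Set.mem_singleton_iff, Set.mem_range]
  constructor
  · rintro (rfl | rfl | rfl | rfl | rfl | rfl)
    · exact ⟨.a, rfl⟩
    · exact ⟨.b, rfl⟩
    · exact ⟨.c, rfl⟩
    · exact ⟨.d, rfl⟩
    · exact ⟨.e, rfl⟩
    · exact ⟨.f, rfl⟩
  · rintro ⟨x, rfl⟩
    cases x
    · exact Or.inl rfl
    · exact Or.inr (Or.inl rfl)
    · exact Or.inr (Or.inr (Or.inl rfl))
    · exact Or.inr (Or.inr (Or.inr (Or.inl rfl)))
    · exact Or.inr (Or.inr (Or.inr (Or.inr (Or.inl rfl))))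
    · exact Or.inr (Or.inr (Or.inr (Or.inr (Or.inr rfl))))

theorem card2 : Finite (CoxPresented K2.Gen K2.edges K2.extra) ∧ Nat.card (CoxPresented K2.Gen K2.edges K2.extra) ≤ 24 := by
  have h := Cfsg.Agent.Lib.Helper96_ONK2Upper.upper
  rw [Subgroup.closure_empty, Subgroup.map_bot] at h
  exact card_le_of_bot_index 24 h.1 h.2

theorem card1 : Finite (CoxPresented K1.Gen K1.edges K1.extra) ∧ Nat.card (CoxPresented K1.Gen K1.edges K1.extra) ≤ 28 * 24 := by
  have h := Cfsg.Agent.Lib.Helper96_ONK1Upper.upper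
  exact card_le_of_index _ (subHom ok2) (subHom_range ok2 _ range2) 28 24 h.1 h.2 card2.1 card2.2

/-- the group presented on `a, …, f` is finite with at most 3753792 elements -/
theorem card0 : Finite (CoxPresented K0.Gen K0.edges K0.extra) ∧ Nat.card (CoxPresented K0.Gen K0.edges K0.extra) ≤ 3753792 := by
  have h := Cfsg.Agent.Lib.Helper96_ONK0Upper.upper
  have h2 := card_le_of_index _ (subHom ok1) (subHom_range ok1 _ range1) 5586 _ h.1 h.2 card1.1 card1.2
  exact h2

end Cfsg.Agent.Lib.Helper96_ONOrderUpper
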