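import Cfsg.Agent.Lib.Helper96_ONNormal
import Cfsg.Agent.Lib.Helper96_ONOrderUpper

/-!
# The subgroup `⟨a, …, f⟩` of the presented group O'N is `L₃(7):2` (helper96)

Assembly: the group `K` presented on `a, …, f` has at most `3753792` elements and maps onto `Γ = L₃(7):2` of that
order, so `K ≃ Γ`; the kernel of `K → O'N` is a normal subgroup which does not contain `L₃(7)` as soon as
`a ≠ b` in O'N, hence it is trivial.
-/

set_option autoImplicit false

namespace Cfsg.Agent.Lib.Helper96_ONFinal

open Cfsg.Spor Cfsg.Agent.Lib.Helper96_SubPres Cfsg.Agent.Lib.Helper96_ONSub Cfsg.Agent.Lib.Helper96_ONMat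
open Cfsg.Agent.Lib.Helper96_ONNormal Cfsg.Agent.Lib.Helper96_ONOrderUpper

theorem θ_injective : Function.Injective θ := by
  have hfin : Finite K := card0.1
  have hle : Nat.card K ≤ 3753792 := card0.2
  have hge : Nat.card Γ ≤ Nat.card K := Nat.card_le_card_of_surjective θ θ_surjective
  rw [card_Γ] at hge
  have heq : Nat.card K = Nat.card Γ := by rw [card_Γ]; omega
  exact ((Nat.bijective_iff_surjective_and_card θ).mpr ⟨θ_surjective, heq⟩).1

/-- the homomorphism to the presented group O'N -/
noncomputable abbrev ι : K →* ON := subHom ok0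

theorem ι_of (x : K0.Gen) : ι (PresentedGroup.of x) = PresentedGroup.of (K0.ι x) := subHom_of ok0 x

theorem b_sq : (PresentedGroup.of ON.Gen.b : ON) * PresentedGroup.of ON.Gen.b = 1 := by
  have hrel : (FreeGroup.of ON.Gen.b * FreeGroup.of ON.Gen.b) ^ coxLabel ON.edges ON.Gen.b ON.Gen.b ∈
      coxRelators ON.edges ∪ {r | r ∈ ON.extra} := Or.inl ⟨.b, by decide, .b, by decide, rfl⟩
  have h1 := PresentedGroup.one_of_mem hrel
  have hl : coxLabel ON.edges ON.Gen.b ON.Gen.b = 1 := by decide
  rw [hl, pow_one, map_mul] at h1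
  exact h1

theorem ι_injective (hab : (PresentedGroup.of ON.Gen.a : ON) ≠ PresentedGroup.of ON.Gen.b) :
    Function.Injective ι := by
  rw [← MonoidHom.ker_eq_bot_iff]
  have hM : ι.ker.map θ = ⊥ := by
    apply normal_eq_bot _ (Subgroup.Normal.map inferInstance θ θ_surjective)
    refine ⟨QuotientGroup.mk (gs .a * is .b), ?_⟩
    rw [← fθ_mul, ← θ_of, ← θ_of, ← map_mul]
    rintro ⟨k, hk, hkθ⟩
    have hk' := θ_injective hkθ
    rw [hk'] at hk
    have hk2 : ι (PresentedGroup.of K0.Gen.a * PresentedGroup.of K0.Gen.b) = 1 := hk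
    rw [map_mul, ι_of, ι_of] at hk2
    have hk3 : (PresentedGroup.of ON.Gen.a : ON) * PresentedGroup.of ON.Gen.b = 1 := hk2
    apply hab
    calc (PresentedGroup.of ON.Gen.a : ON)
        = PresentedGroup.of ON.Gen.a * (PresentedGroup.of ON.Gen.b * PresentedGroup.of ON.Gen.b) := by
          rw [b_sq, mul_one]
      _ = (PresentedGroup.of ON.Gen.a * PresentedGroup.of ON.Gen.b) * PresentedGroup.of ON.Gen.b := by
          rw [mul_assoc]
      _ = PresentedGroup.of ON.Gen.b := by rw [hk3, one_mul]
  exact (Subgroup.map_eq_bot_iff_of_injective _ θ_injective).mp hM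

/-- a group isomorphic to `L₃(7):2` has a normal subgroup of index 2 isomorphic to `L₃(7)` -/
theorem exists_normal {H : Type*} [Group H] (e : Γ ≃* H) :
    ∃ N : Subgroup H, N.Normal ∧ N.index = 2 ∧ Nonempty (N ≃* P3) := by
  have hR : (SemidirectProduct.inl : P3 →* Γ).range = (SemidirectProduct.rightHom : Γ →* ℤˣ).ker :=
    SemidirectProduct.range_inl_eq_ker_rightHom
  have hRn : ((SemidirectProduct.inl : P3 →* Γ).range).Normal := by
    rw [hR]; infer_instance
  have hRi : ((SemidirectProduct.inl : P3 →* Γ).range).index = 2 := by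
    rw [hR, Subgroup.index_ker, MonoidHom.range_eq_top.mpr SemidirectProduct.rightHom_surjective,
      Subgroup.card_top, Nat.card_eq_fintype_card, Fintype.card_units_int]
  refine ⟨((SemidirectProduct.inl : P3 →* Γ).range).map (e : Γ →* H), ?_, ?_, ⟨?_⟩⟩
  · exact hRn.map _ e.surjective
  · rw [Subgroup.index_map_equiv]; exact hRi
  · exact ((e.subgroupMap _).symm).trans (MonoidHom.ofInjective SemidirectProduct.inl_injective).symm

/-- the statement, given that `a ≠ b` in the presented group -/
theorem main (hab : (PresentedGroup.of ON.Gen.a : ON) ≠ PresentedGroup.of ON.Gen.b) :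
    ∃ N : Subgroup (((Subgroup.closure ({ON.a, ON.b, ON.c, ON.d, ON.e, ON.f} : Set (FreeGroup ON.Gen))).map
      (PresentedGroup.mk (coxRelators ON.edges ∪ {r | r ∈ ON.extra})))),
      N.Normal ∧ N.index = 2 ∧ Nonempty (N ≃* Matrix.ProjectiveSpecialLinearGroup (Fin 3) (ZMod 7)) := by
  have hinj := ι_injective hab
  have e1 : K ≃* ι.range := MonoidHom.ofInjective hinj
  have e2 : ι.range ≃* ((Subgroup.closure ({ON.a, ON.b, ON.c, ON.d, ON.e, ON.f} : Set (FreeGroup ON.Gen))).map
      (PresentedGroup.mk (coxRelators ON.edges ∪ {r | r ∈ ON.extra}))) :=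
    MulEquiv.subgroupCongr (subHom_range ok0 _ range0)
  have eθ : K ≃* Γ := MulEquiv.ofBijective θ ⟨θ_injective, θ_surjective⟩
  exact exists_normal (eθ.symm.trans (e1.trans e2))

end Cfsg.Agent.Lib.Helper96_ONFinal
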