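import Mathlib
import Cfsg.Agent.Lib.Helper14_PSLAut
import Cfsg.Agent.Lib.Helper5_SLGen
import Cfsg.Agent.Lib.Helper5_PSLCard
import Cfsg.Agent.Lib.Helper96_ONSubDefs

/-!
# The group presented on `a, …, f` by the relators of O'N maps onto `L₃(7):2` (helper96)

`Γ` is the semidirect product of `PSL(3, 7)` with a group of order 2 acting by the inverse-transpose
automorphism.  Each generator goes to `(class of a symmetric matrix, -1)`, so that a product of two generators is
`(class of X Y⁻¹, 1)`.  The relators are checked by computing with 3 by 3 matrices given by nine numbers, and the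
homomorphism is onto because the six elementary transvections are values of explicit words.
-/

set_option autoImplicit false

namespace Cfsg.Agent.Lib.Helper96_ONMat

open Matrix Cfsg.Spor Cfsg.Agent.Lib.Helper96_ONSub

/-- 7 is a prime number -/
instance fact7 : Fact (Nat.Prime 7) := ⟨by norm_num⟩

/-- 3 by 3 matrices over the field with 7 elements -/
abbrev M3 := Matrix (Fin 3) (Fin 3) (ZMod 7)
/-- the special linear group -/
abbrev S3 := Matrix.SpecialLinearGroup (Fin 3) (ZMod 7)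
/-- the projective special linear group -/
abbrev P3 := Matrix.ProjectiveSpecialLinearGroup (Fin 3) (ZMod 7)

/-- a 3 by 3 matrix given by nine numbers -/
structure M9 where
  /-- entry -/ a0 : ℕ
  /-- entry -/ a1 : ℕ
  /-- entry -/ a2 : ℕ
  /-- entry -/ a3 : ℕ
  /-- entry -/ a4 : ℕ
  /-- entry -/ a5 : ℕ
  /-- entry -/ a6 : ℕ
  /-- entry -/ a7 : ℕ
  /-- entry -/ a8 : ℕ
  deriving DecidableEq

namespace M9

/-- the product, reduced mod 7 -/
def mul (A B : M9) : M9 :=
  ⟨(A.a0 * B.a0 + A.a1 * B.a3 + A.a2 * B.a6) % 7, (A.a0 * B.a1 + A.a1 * B.a4 + A.a2 * B.a7) % 7,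
   (A.a0 * B.a2 + A.a1 * B.a5 + A.a2 * B.a8) % 7,
   (A.a3 * B.a0 + A.a4 * B.a3 + A.a5 * B.a6) % 7, (A.a3 * B.a1 + A.a4 * B.a4 + A.a5 * B.a7) % 7,
   (A.a3 * B.a2 + A.a4 * B.a5 + A.a5 * B.a8) % 7,
   (A.a6 * B.a0 + A.a7 * B.a3 + A.a8 * B.a6) % 7, (A.a6 * B.a1 + A.a7 * B.a4 + A.a8 * B.a7) % 7,
   (A.a6 * B.a2 + A.a7 * B.a5 + A.a8 * B.a8) % 7⟩

/-- the matrix -/
def toMat (A : M9) : M3 := !![(A.a0 : ZMod 7), A.a1, A.a2; A.a3, A.a4, A.a5; A.a6, A.a7, A.a8]

theorem toMat_mul (A B : M9) : (A.mul B).toMat = A.toMat * B.toMat := by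
  ext i j
  fin_cases i <;> fin_cases j <;>
    simp [toMat, mul, Matrix.mul_apply, Fin.sum_univ_three]

/-- the identity -/
def one : M9 := ⟨1, 0, 0, 0, 1, 0, 0, 0, 1⟩

theorem toMat_one : one.toMat = 1 := by
  ext i j
  fin_cases i <;> fin_cases j <;> simp [toMat, one]

/-- the product of a list -/
def prod (l : List M9) : M9 := l.foldl mul one

theorem foldl_toMat (l : List M9) (A : M9) : (l.foldl mul A).toMat = A.toMat * (l.map toMat).prod := by
  induction l generalizing A with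
  | nil => simp
  | cons B l ih => rw [List.foldl_cons, ih, toMat_mul, List.map_cons, List.prod_cons, mul_assoc]

theorem toMat_prod (l : List M9) : (prod l).toMat = (l.map toMat).prod := by
  rw [prod, foldl_toMat, toMat_one, one_mul]

/-- powers -/
def pow (A : M9) : ℕ → M9
  | 0 => one
  | n + 1 => (pow A n).mul A

theorem toMat_pow (A : M9) (n : ℕ) : (pow A n).toMat = A.toMat ^ n := by
  induction n with
  | zero => simp [pow, toMat_one]
  | succ n ih => rw [pow, toMat_mul, ih, pow_succ]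

/-- scalar matrices of determinant 1 -/
def IsScal (A : M9) : Prop :=
  A.a1 = 0 ∧ A.a2 = 0 ∧ A.a3 = 0 ∧ A.a5 = 0 ∧ A.a6 = 0 ∧ A.a7 = 0 ∧ A.a4 = A.a0 ∧ A.a8 = A.a0 ∧
    A.a0 ^ 3 % 7 = 1

instance (A : M9) : Decidable (IsScal A) := by unfold IsScal; infer_instance

theorem mem_center_of_isScal (s : S3) (A : M9) (h : (s : M3) = A.toMat) (hA : IsScal A) :
    s ∈ Subgroup.center S3 := by
  rw [Matrix.SpecialLinearGroup.mem_center_iff]
  obtain ⟨h1, h2, h3, h5, h6, h7, h4, h8, h0⟩ := hA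
  refine ⟨(A.a0 : ZMod 7), ?_, ?_⟩
  · rw [Fintype.card_fin]
    have : ((A.a0 ^ 3 % 7 : ℕ) : ZMod 7) = ((1 : ℕ) : ZMod 7) := by rw [h0]
    rw [ZMod.natCast_mod] at this
    simpa using this
  · rw [h, Matrix.scalar_apply]
    ext i j
    fin_cases i <;> fin_cases j <;> simp [toMat, Matrix.diagonal, h1, h2, h3, h5, h6, h7, h4, h8]

end M9

/-! ### the generators -/

/-- the symmetric matrices of the generators -/
def g9 : K0.Gen → M9
  | .a => ⟨1, 1, 4, 1, 3, 6, 4, 6, 1⟩
  | .b => ⟨1, 1, 4, 1, 2, 5, 4, 5, 4⟩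
  | .c => ⟨1, 0, 0, 0, 1, 0, 0, 0, 1⟩
  | .d => ⟨0, 0, 6, 0, 6, 5, 6, 5, 5⟩
  | .e => ⟨0, 6, 6, 6, 5, 2, 6, 2, 5⟩
  | .f => ⟨0, 0, 1, 0, 6, 0, 1, 0, 0⟩

/-- their inverses -/
def i9 : K0.Gen → M9
  | .a => ⟨2, 2, 1, 2, 6, 5, 1, 5, 2⟩
  | .b => ⟨4, 2, 4, 2, 2, 6, 4, 6, 1⟩
  | .c => ⟨1, 0, 0, 0, 1, 0, 0, 0, 1⟩
  | .d => ⟨5, 2, 6, 2, 6, 0, 6, 0, 0⟩
  | .e => ⟨0, 3, 3, 3, 6, 1, 3, 1, 6⟩
  | .f => ⟨0, 0, 1, 0, 6, 0, 1, 0, 0⟩

theorem g9_det (x : K0.Gen) : (g9 x).toMat.det = 1 := by
  cases x <;> (rw [Matrix.det_fin_three]; decide)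

theorem i9_det (x : K0.Gen) : (i9 x).toMat.det = 1 := by
  cases x <;> (rw [Matrix.det_fin_three]; decide)

theorem g9_i9 (x : K0.Gen) : (g9 x).mul (i9 x) = M9.one := by
  cases x <;> decide

theorem i9_g9 (x : K0.Gen) : (i9 x).mul (g9 x) = M9.one := by
  cases x <;> decide

theorem i9_symm (x : K0.Gen) : (i9 x).toMatᵀ = (i9 x).toMat := by
  cases x <;> decide

/-- the generator matrices in the special linear group -/
def gs (x : K0.Gen) : S3 := ⟨(g9 x).toMat, g9_det x⟩

/-- their inverses in the special linear group -/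
def is (x : K0.Gen) : S3 := ⟨(i9 x).toMat, i9_det x⟩

theorem gs_mul_is (x : K0.Gen) : gs x * is x = 1 := by
  apply Subtype.ext
  show (g9 x).toMat * (i9 x).toMat = 1
  rw [← M9.toMat_mul, g9_i9, M9.toMat_one]

theorem is_mul_gs (x : K0.Gen) : is x * gs x = 1 := by
  apply Subtype.ext
  show (i9 x).toMat * (g9 x).toMat = 1
  rw [← M9.toMat_mul, i9_g9, M9.toMat_one]

theorem gs_inv (x : K0.Gen) : (gs x)⁻¹ = is x := inv_eq_of_mul_eq_one_right (gs_mul_is x)

theorem is_inv (x : K0.Gen) : (is x)⁻¹ = gs x := inv_eq_of_mul_eq_one_right (is_mul_gs x)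

/-! ### the group `L₃(7):2` -/

open Cfsg.Agent.Lib.Helper14_PSLAut

section generic

variable {n : ℕ} {F : Type*} [Field F]

theorem itAut_sq :
    (itAut : MulAut (Matrix.ProjectiveSpecialLinearGroup (Fin n) F)) * itAut = 1 := by
  ext p
  induction p using QuotientGroup.induction_on with
  | H s =>
    show itAut (itAut (QuotientGroup.mk s)) = QuotientGroup.mk s
    rw [itAut_mk, itAut_mk]
    congr 1
    exact slIT.symm_apply_apply s

/-- the action of the group of order 2 -/
def phiGen : ℤˣ →* MulAut (Matrix.ProjectiveSpecialLinearGroup (Fin n) F) where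
  toFun u := if u = 1 then 1 else itAut
  map_one' := by simp
  map_mul' u v := by
    have h : (-1 : ℤˣ) ≠ 1 := by decide
    rcases Int.units_eq_one_or u with rfl | rfl <;> rcases Int.units_eq_one_or v with rfl | rfl
    · simp
    · simp [h]
    · simp [h]
    · simp [h, itAut_sq]

theorem phiGen_neg_one :
    (phiGen (-1) : MulAut (Matrix.ProjectiveSpecialLinearGroup (Fin n) F)) = itAut := by
  have h : (-1 : ℤˣ) ≠ 1 := by decide
  simp [phiGen, h]

end generic

/-- the action of the group of order 2 on `L₃(7)` -/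
noncomputable def φ : ℤˣ →* MulAut P3 := phiGen

theorem φ_neg_one : φ (-1) = itAut := phiGen_neg_one

/-- the group `L₃(7):2` -/
abbrev Γ := P3 ⋊[φ] ℤˣ

/-- the images of the generators -/
def fθ (x : K0.Gen) : Γ := ⟨QuotientGroup.mk (gs x), -1⟩

theorem slIT_gs (y : K0.Gen) : slIT (gs y) = is y := by
  show slT (gs y)⁻¹ = is y
  rw [gs_inv]
  apply Subtype.ext
  exact i9_symm y

theorem fθ_mul (x y : K0.Gen) :
    fθ x * fθ y = SemidirectProduct.inl (QuotientGroup.mk (gs x * is y)) := by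
  apply SemidirectProduct.ext
  · rw [SemidirectProduct.mul_left, SemidirectProduct.left_inl]
    show QuotientGroup.mk (gs x) * (φ (-1)) (QuotientGroup.mk (gs y)) = _
    rw [φ_neg_one, itAut_mk, slIT_gs]
    rfl
  · rw [SemidirectProduct.mul_right, SemidirectProduct.right_inl]
    show (-1 : ℤˣ) * (-1) = 1
    decide

/-! ### the relators -/

/-- the elements with a scalar matrix give the identity of `P3` -/
theorem mk_eq_one_of_isScal (s : S3) (A : M9) (h : (s : M3) = A.toMat) (hA : M9.IsScal A) :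
    (QuotientGroup.mk s : P3) = 1 :=
  (QuotientGroup.eq_one_iff s).mpr (M9.mem_center_of_isScal s A h hA)

/-- the matrix of a product of a generator and an inverse -/
theorem coe_gs_is (x y : K0.Gen) : ((gs x * is y : S3) : M3) = ((g9 x).mul (i9 y)).toMat := by
  rw [M9.toMat_mul]
  rfl

theorem pair_scal (x y : K0.Gen) :
    M9.IsScal (M9.pow ((g9 x).mul (i9 y)) (coxLabel K0.edges x y)) := by
  cases x <;> cases y <;> decide

theorem pair_rel (x y : K0.Gen) : (fθ x * fθ y) ^ coxLabel K0.edges x y = 1 := by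
  rw [fθ_mul, ← map_pow, ← QuotientGroup.mk_pow,
    mk_eq_one_of_isScal _ _ ?_ (pair_scal x y), map_one]
  rw [Matrix.SpecialLinearGroup.coe_pow, coe_gs_is, M9.toMat_pow]

theorem extra_scal :
    M9.IsScal (((g9 .a).mul (i9 .f)).mul (M9.pow ((g9 .d).mul (i9 .c)) 4)) := by decide

theorem extra_rel : fθ .a * fθ .f * ((fθ .c * fθ .d) ^ 4)⁻¹ = 1 := by
  have hinv : ((gs .c * is .d) ^ 4)⁻¹ = (gs .d * is .c) ^ 4 := by
    rw [← inv_pow, _root_.mul_inv_rev, is_inv, gs_inv]
  rw [fθ_mul, fθ_mul, ← map_pow, ← map_inv, ← map_mul, ← QuotientGroup.mk_pow, ← QuotientGroup.mk_inv,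
    ← QuotientGroup.mk_mul, hinv, mk_eq_one_of_isScal _ _ ?_ extra_scal, map_one]
  rw [Matrix.SpecialLinearGroup.coe_mul, Matrix.SpecialLinearGroup.coe_pow, coe_gs_is, coe_gs_is,
    M9.toMat_mul (((g9 .a).mul (i9 .f))), M9.toMat_pow]

theorem rels_ok : ∀ r ∈ coxRelators K0.edges ∪ {r | r ∈ K0.extra}, FreeGroup.lift fθ r = 1 := by
  intro r hr
  rcases hr with ⟨x, _, y, _, rfl⟩ | hr
  · rw [map_pow, map_mul, FreeGroup.lift_apply_of, FreeGroup.lift_apply_of]
    exact pair_rel x y
  · have hr' : r ∈ K0.extra := hr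
    simp only [K0.extra, List.mem_cons, List.not_mem_nil, or_false] at hr'
    subst hr'
    simp only [map_mul, map_inv, map_pow, FreeGroup.lift_apply_of]
    exact extra_rel

/-- the group presented on `a, …, f` -/
abbrev K := CoxPresented K0.Gen K0.edges K0.extra

/-- the homomorphism onto `L₃(7):2` -/
noncomputable def θ : K →* Γ := PresentedGroup.toGroup (f := fθ) rels_ok

theorem θ_of (x : K0.Gen) : θ (PresentedGroup.of x) = fθ x := by
  unfold θ
  rw [PresentedGroup.toGroup.of]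

/-! ### the homomorphism is onto -/

/-- the word of a list of pairs of generators, in the presented group -/
noncomputable def wordK (w : List (K0.Gen × K0.Gen)) : K :=
  (w.map fun p => (PresentedGroup.of p.1 * PresentedGroup.of p.2 : K)).prod

/-- the word of a list of pairs of generators, in the special linear group -/
def wordS (w : List (K0.Gen × K0.Gen)) : S3 := (w.map fun p => gs p.1 * is p.2).prod

/-- the word of a list of pairs of generators, with nine numbers -/
def word9 (w : List (K0.Gen × K0.Gen)) : M9 := M9.prod (w.map fun p => (g9 p.1).mul (i9 p.2))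

theorem θ_wordK (w : List (K0.Gen × K0.Gen)) :
    θ (wordK w) = SemidirectProduct.inl (QuotientGroup.mk (wordS w)) := by
  induction w with
  | nil => simp [wordK, wordS]
  | cons p w ih =>
    have h1 : wordK (p :: w) = PresentedGroup.of p.1 * PresentedGroup.of p.2 * wordK w := by
      simp [wordK]
    have h2 : wordS (p :: w) = gs p.1 * is p.2 * wordS w := by
      simp [wordS]
    rw [h1, h2, map_mul, map_mul, ih, θ_of, θ_of, fθ_mul]
    simp only [QuotientGroup.mk_mul, map_mul]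

theorem coe_wordS (w : List (K0.Gen × K0.Gen)) : ((wordS w : S3) : M3) = (word9 w).toMat := by
  induction w with
  | nil =>
    show ((1 : S3) : M3) = (M9.prod []).toMat
    rw [M9.toMat_prod]
    simp
  | cons p w ih =>
    have h2 : wordS (p :: w) = gs p.1 * is p.2 * wordS w := by
      simp [wordS]
    have h3 : (word9 (p :: w)).toMat = ((g9 p.1).mul (i9 p.2)).toMat * (word9 w).toMat := by
      rw [word9, word9, M9.toMat_prod, M9.toMat_prod, List.map_cons, List.map_cons, List.prod_cons]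
    rw [h2, h3, Matrix.SpecialLinearGroup.coe_mul, ih, coe_gs_is]

/-- the inverses of the elementary transvections -/
def T9 (i j : Fin 3) : M9 :=
  ⟨1, if i = 0 ∧ j = 1 then 6 else 0, if i = 0 ∧ j = 2 then 6 else 0,
   if i = 1 ∧ j = 0 then 6 else 0, 1, if i = 1 ∧ j = 2 then 6 else 0,
   if i = 2 ∧ j = 0 then 6 else 0, if i = 2 ∧ j = 1 then 6 else 0, 1⟩

theorem T9_toMat : ∀ i j : Fin 3, i ≠ j → (T9 i j).toMat = 1 + Matrix.single i j (-1 : ZMod 7) := by
  decide

/-- the words for the elementary transvections -/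
def W : Fin 3 → Fin 3 → List (K0.Gen × K0.Gen)
  | 0, 1 => [(.b, .c), (.e, .d), (.c, .b), (.d, .c), (.e, .d), (.c, .b), (.a, .d), (.c, .d), (.e, .d), (.c, .b), (.d, .c), (.b, .a), (.d, .e)]
  | 0, 2 => [(.e, .d), (.c, .b), (.f, .e), (.d, .c), (.b, .d), (.c, .b), (.d, .e), (.d, .c), (.b, .a), (.d, .c), (.e, .d), (.f, .e)]
  | 1, 0 => [(.b, .a), (.d, .c), (.b, .d), (.c, .d), (.c, .e), (.d, .c), (.b, .d), (.c, .d), (.c, .e), (.d, .c), (.b, .a), (.d, .c), (.e, .d)]
  | 1, 2 => [(.d, .c), (.b, .d), (.c, .e), (.d, .c), (.b, .d), (.c, .d), (.e, .d), (.c, .b), (.a, .d), (.c, .b), (.f, .e), (.d, .c), (.b, .d)]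
  | 2, 0 => [(.e, .d), (.c, .d), (.c, .b), (.e, .d), (.c, .b), (.d, .c), (.b, .e), (.d, .c), (.b, .d), (.c, .e), (.d, .c), (.f, .e)]
  | 2, 1 => [(.a, .b), (.a, .d), (.c, .b), (.a, .d), (.c, .d), (.e, .d), (.c, .b), (.d, .c), (.d, .c), (.e, .d), (.c, .b), (.a, .d), (.c, .e), (.d, .f)]
  | _, _ => []

theorem W_scal : ∀ i j : Fin 3, i ≠ j → M9.IsScal ((T9 i j).mul (word9 (W i j))) := by
  decide +kernel

theorem inl_transvection_one (i j : Fin 3) (hij : i ≠ j) :
    (SemidirectProduct.inl (QuotientGroup.mk (SpecialLinearGroup.transvection hij (1 : ZMod 7))) : Γ) ∈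
      θ.range := by
  refine ⟨wordK (W i j), ?_⟩
  rw [θ_wordK]
  congr 1
  symm
  rw [QuotientGroup.eq, SpecialLinearGroup.transvection_inv]
  apply M9.mem_center_of_isScal _ ((T9 i j).mul (word9 (W i j))) _ (W_scal i j hij)
  rw [Matrix.SpecialLinearGroup.coe_mul, SpecialLinearGroup.transvection_coe, M9.toMat_mul,
    T9_toMat i j hij, coe_wordS]

theorem transvection_natCast (i j : Fin 3) (hij : i ≠ j) (n : ℕ) :
    SpecialLinearGroup.transvection hij (n : ZMod 7) = (SpecialLinearGroup.transvection hij 1) ^ n := by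
  induction n with
  | zero => simp
  | succ n ih => rw [Nat.cast_succ, SpecialLinearGroup.transvection_add, ih, pow_succ]

theorem inl_mem (s : S3) : (SemidirectProduct.inl (QuotientGroup.mk s) : Γ) ∈ θ.range := by
  refine Cfsg.Agent.Lib.Helper5_SLGen.transvection_induction
    (fun s => (SemidirectProduct.inl (QuotientGroup.mk s) : Γ) ∈ θ.range) ?_ ?_ s
  · intro i j hij c
    have hc : c = ((c.val : ℕ) : ZMod 7) := (ZMod.natCast_zmod_val c).symm
    rw [hc, transvection_natCast, QuotientGroup.mk_pow, map_pow]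
    exact pow_mem (inl_transvection_one i j hij) _
  · intro A B hA hB
    show (SemidirectProduct.inl (QuotientGroup.mk (A * B)) : Γ) ∈ θ.range
    rw [QuotientGroup.mk_mul, map_mul]
    exact mul_mem hA hB

theorem θ_surjective : Function.Surjective θ := by
  rw [← MonoidHom.range_eq_top, eq_top_iff]
  intro γ _
  obtain ⟨p, u⟩ := γ
  rcases Int.units_eq_one_or u with rfl | rfl
  · obtain ⟨s, rfl⟩ := QuotientGroup.mk_surjective p
    exact inl_mem s
  · have h : (⟨p, -1⟩ : Γ) =
        SemidirectProduct.inl (p * (QuotientGroup.mk (gs .c))⁻¹) * fθ .c := by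
      apply SemidirectProduct.ext
      · rw [SemidirectProduct.mul_left, SemidirectProduct.left_inl, SemidirectProduct.right_inl, map_one]
        simp [fθ]
      · simp [fθ]
    rw [h]
    refine mul_mem ?_ ⟨PresentedGroup.of .c, θ_of .c⟩
    obtain ⟨s, hs⟩ := QuotientGroup.mk_surjective (p * (QuotientGroup.mk (gs .c) : P3)⁻¹)
    rw [← hs]
    exact inl_mem s

/-! ### the orders -/

theorem card_P3 : Nat.card P3 = 1876896 := by
  have h1 := Cfsg.Agent.Lib.Helper5_PSLCard.card_PSL_mul (F := ZMod 7) 3 (by norm_num)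
  have h2 := Cfsg.Agent.Lib.Helper5_SLCard.card_GL_eq_card_SL_mul (F := ZMod 7) 3 (by norm_num)
  rw [Matrix.card_GL_field, ZMod.card 7, Fin.prod_univ_three] at h2
  rw [ZMod.card 7] at h1
  generalize Nat.card P3 = x at h1 ⊢
  generalize Nat.card (Matrix.SpecialLinearGroup (Fin 3) (ZMod 7)) = y at h1 h2
  norm_num at h1 h2
  omega

theorem card_Γ : Nat.card Γ = 3753792 := by
  rw [SemidirectProduct.card, card_P3, Nat.card_eq_fintype_card, Fintype.card_units_int]

end Cfsg.Agent.Lib.Helper96_ONMat
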