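import Cfsg.Agent.Lib.Helper96_ONMat
import Cfsg.Agent.Lib.Helper5_PSLSimple

/-!
# Normal subgroups of `L₃(7):2` (helper96)

A normal subgroup of `Γ = L₃(7):2` that does not contain `L₃(7)` is trivial: it meets the simple group `L₃(7)`
trivially, so it centralises it, and no element outside `L₃(7)` does (compare traces of a matrix of trace 0 whose
inverse has trace 1).
-/

set_option autoImplicit false

namespace Cfsg.Agent.Lib.Helper96_ONNormal

open Matrix Cfsg.Agent.Lib.Helper96_ONMat Cfsg.Agent.Lib.Helper14_PSLAut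

/-- a matrix of trace 0 -/
def y9 : M9 := ⟨0, 0, 1, 1, 0, 6, 0, 1, 0⟩
/-- its inverse, of trace 1 -/
def yi9 : M9 := ⟨1, 1, 0, 0, 0, 1, 1, 0, 0⟩
/-- the transpose of its inverse -/
def yt9 : M9 := ⟨1, 0, 1, 1, 0, 0, 0, 1, 0⟩

theorem y9_det : y9.toMat.det = 1 := by rw [Matrix.det_fin_three]; decide
theorem yi9_det : yi9.toMat.det = 1 := by rw [Matrix.det_fin_three]; decide
theorem yt9_det : yt9.toMat.det = 1 := by rw [Matrix.det_fin_three]; decide

/-- the matrix in the special linear group -/
def ys : S3 := ⟨y9.toMat, y9_det⟩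
/-- its inverse in the special linear group -/
def yis : S3 := ⟨yi9.toMat, yi9_det⟩
/-- the transpose of its inverse in the special linear group -/
def yts : S3 := ⟨yt9.toMat, yt9_det⟩

theorem ys_inv : ys⁻¹ = yis := by
  apply inv_eq_of_mul_eq_one_right
  apply Subtype.ext
  show y9.toMat * yi9.toMat = 1
  rw [← M9.toMat_mul, ← M9.toMat_one]
  congr 1

theorem slIT_ys : slIT ys = yts := by
  show slT ys⁻¹ = yts
  rw [ys_inv]
  apply Subtype.ext
  show yi9.toMatᵀ = yt9.toMat
  decide

theorem trace_ys : Matrix.trace (ys : M3) = 0 := by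
  show Matrix.trace y9.toMat = 0
  rw [Matrix.trace_fin_three]
  decide

theorem trace_yts : Matrix.trace (yts : M3) = 1 := by
  show Matrix.trace yt9.toMat = 1
  rw [Matrix.trace_fin_three]
  decide

/-- no element outside `L₃(7)` centralises `L₃(7)` -/
theorem not_commute (p : P3) :
    ¬ ∀ y : P3, (⟨p, -1⟩ : Γ) * SemidirectProduct.inl y = SemidirectProduct.inl y * ⟨p, -1⟩ := by
  intro h
  obtain ⟨X, rfl⟩ := QuotientGroup.mk_surjective p
  have h1 := congrArg SemidirectProduct.left (h (QuotientGroup.mk ys))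
  rw [SemidirectProduct.mul_left, SemidirectProduct.mul_left, SemidirectProduct.left_inl,
    SemidirectProduct.right_inl, map_one] at h1
  have h2 : (QuotientGroup.mk X : P3) * (φ (-1)) (QuotientGroup.mk ys) = QuotientGroup.mk ys * QuotientGroup.mk X := h1
  rw [φ_neg_one, itAut_mk, slIT_ys, ← QuotientGroup.mk_mul, ← QuotientGroup.mk_mul, QuotientGroup.eq,
    Matrix.SpecialLinearGroup.mem_center_iff] at h2
  obtain ⟨r, hr, hZ⟩ := h2
  rw [Fintype.card_fin] at hr
  -- the matrix identity
  have hmul : (X * yts) * ((X * yts)⁻¹ * (ys * X)) = ys * X := by group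
  have hmulc : (X : M3) * (yts : M3) * (Matrix.scalar (Fin 3) r) = (ys : M3) * (X : M3) := by
    rw [hZ, ← Matrix.SpecialLinearGroup.coe_mul, ← Matrix.SpecialLinearGroup.coe_mul, hmul,
      Matrix.SpecialLinearGroup.coe_mul]
  have hX : (X : M3) * ((X⁻¹ : S3) : M3) = 1 := by
    rw [← Matrix.SpecialLinearGroup.coe_mul, mul_inv_cancel, Matrix.SpecialLinearGroup.coe_one]
  have hX' : ((X⁻¹ : S3) : M3) * (X : M3) = 1 := by
    rw [← Matrix.SpecialLinearGroup.coe_mul, inv_mul_cancel, Matrix.SpecialLinearGroup.coe_one]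
  have ht : Matrix.trace (ys : M3) = r * Matrix.trace (yts : M3) := by
    calc Matrix.trace (ys : M3) = Matrix.trace ((ys : M3) * ((X : M3) * ((X⁻¹ : S3) : M3))) := by
          rw [hX, mul_one]
      _ = Matrix.trace (((ys : M3) * (X : M3)) * ((X⁻¹ : S3) : M3)) := by rw [mul_assoc]
      _ = Matrix.trace (((X : M3) * (yts : M3) * (Matrix.scalar (Fin 3) r)) * ((X⁻¹ : S3) : M3)) := by
          rw [hmulc]
      _ = Matrix.trace (((X⁻¹ : S3) : M3) * ((X : M3) * (yts : M3) * (Matrix.scalar (Fin 3) r))) := by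
          rw [Matrix.trace_mul_comm]
      _ = Matrix.trace ((((X⁻¹ : S3) : M3) * (X : M3)) * ((yts : M3) * (Matrix.scalar (Fin 3) r))) := by
          simp only [mul_assoc]
      _ = Matrix.trace ((yts : M3) * (Matrix.scalar (Fin 3) r)) := by rw [hX', one_mul]
      _ = r * Matrix.trace (yts : M3) := by
          rw [Matrix.scalar_apply, ← Matrix.smul_one_eq_diagonal, Matrix.mul_smul, mul_one,
            Matrix.trace_smul, smul_eq_mul]
  rw [trace_ys, trace_yts, mul_one] at ht
  rw [← ht] at hr
  norm_num at hr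

/-- an element of `Γ` whose second component is 1 comes from `L₃(7)` -/
theorem eq_inl_of_right (γ : Γ) (h : γ.right = 1) : γ = SemidirectProduct.inl γ.left := by
  apply SemidirectProduct.ext
  · rw [SemidirectProduct.left_inl]
  · rw [SemidirectProduct.right_inl, h]

/-- a normal subgroup of `L₃(7):2` that does not contain `L₃(7)` is trivial -/
theorem normal_eq_bot (M : Subgroup Γ) (hn : M.Normal) (hM : ∃ p : P3, SemidirectProduct.inl p ∉ M) :
    M = ⊥ := by
  have hsimple : IsSimpleGroup P3 := Cfsg.Agent.Lib.Helper5_PSLSimple.psl_simple (by simp)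
  have hCn : (M.comap (SemidirectProduct.inl : P3 →* Γ)).Normal := hn.comap _
  have hC : M.comap (SemidirectProduct.inl : P3 →* Γ) = ⊥ := by
    rcases hCn.eq_bot_or_eq_top with h | h
    · exact h
    · exfalso
      obtain ⟨p, hp⟩ := hM
      apply hp
      have : p ∈ M.comap (SemidirectProduct.inl : P3 →* Γ) := by rw [h]; exact Subgroup.mem_top p
      exact this
  have hinl : ∀ p : P3, SemidirectProduct.inl p ∈ M → p = 1 := by
    intro p hp
    have : p ∈ M.comap (SemidirectProduct.inl : P3 →* Γ) := hp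
    rw [hC] at this
    exact this
  rw [eq_bot_iff]
  intro γ hγ
  rw [Subgroup.mem_bot]
  rcases Int.units_eq_one_or γ.right with hu | hu
  · have h1 := eq_inl_of_right γ hu
    rw [h1] at hγ
    rw [h1, hinl _ hγ, map_one]
  · exfalso
    have hγ' : γ = ⟨γ.left, -1⟩ := by
      apply SemidirectProduct.ext
      · rfl
      · exact hu
    apply not_commute γ.left
    intro y
    rw [← hγ']
    -- the commutator lies in `M` and comes from `L₃(7)`
    have hc : γ * SemidirectProduct.inl y * γ⁻¹ * (SemidirectProduct.inl y)⁻¹ ∈ M := by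
      have h2 : SemidirectProduct.inl y * γ⁻¹ * (SemidirectProduct.inl y)⁻¹ ∈ M :=
        hn.conj_mem _ (M.inv_mem hγ) _
      have h3 := M.mul_mem hγ h2
      have e : γ * SemidirectProduct.inl y * γ⁻¹ * (SemidirectProduct.inl y)⁻¹ =
          γ * (SemidirectProduct.inl y * γ⁻¹ * (SemidirectProduct.inl y)⁻¹) := by group
      rw [e]
      exact h3
    have hr : (γ * SemidirectProduct.inl y * γ⁻¹ * (SemidirectProduct.inl y)⁻¹).right = 1 := by
      simp [SemidirectProduct.mul_right, SemidirectProduct.inv_right, SemidirectProduct.right_inl]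
    have h4 := eq_inl_of_right _ hr
    rw [h4] at hc
    have h5 := hinl _ hc
    rw [h5, map_one] at h4
    calc γ * SemidirectProduct.inl y
        = (γ * SemidirectProduct.inl y * γ⁻¹ * (SemidirectProduct.inl y)⁻¹) * (SemidirectProduct.inl y * γ) := by
          group
      _ = SemidirectProduct.inl y * γ := by rw [h4, one_mul]

end Cfsg.Agent.Lib.Helper96_ONNormal
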