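import Cfsg.Agent.Lib.Helper28_CosetPerm

/-!
# Lower bounds for the order of a permutation group from a stabiliser chain (helper96)

Abstract part: one step of the chain (`card_step`).  Concrete part: a reachability certificate over the packed
tables of `Helper28_CosetPerm` (`lchk`), giving for every labelled point a word in the given list of words
that carries the base point to it.
-/

set_option autoImplicit false

namespace Cfsg.Agent.Lib.Helper96_PermLower

open Cfsg.Agent.Lib.Helper28_CosetPerm

section Abstract

variable {P X : Type*} [Group P] [MulAction P X]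

/-- the stabiliser of a point in a subgroup has as many elements as the intersection -/
theorem card_stabilizer_subgroup (K : Subgroup P) (β : X) :
    Nat.card (MulAction.stabilizer K β) = Nat.card ↥(K ⊓ MulAction.stabilizer P β) := by
  have h1 : MulAction.stabilizer K β = (MulAction.stabilizer P β).subgroupOf K := by
    ext g
    simp only [MulAction.mem_stabilizer_iff, Subgroup.mem_subgroupOf]
    rfl
  rw [h1, ← Subgroup.inf_subgroupOf_left]
  exact Nat.card_congr (Subgroup.subgroupOfEquivOfLe inf_le_left).toEquiv

/-- one step of the stabiliser chain bound -/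
theorem card_step [Finite P] (K : Subgroup P) (β : X) (O : Finset X) (m : ℕ)
    (hO : ∀ y ∈ O, ∃ g ∈ K, g • β = y)
    (hm : m ≤ Nat.card ↥(K ⊓ MulAction.stabilizer P β)) :
    O.card * m ≤ Nat.card K := by
  classical
  have hsub : (O : Set X) ⊆ MulAction.orbit K β := by
    intro y hy
    obtain ⟨g, hg, rfl⟩ := hO y hy
    exact ⟨⟨g, hg⟩, rfl⟩
  have hfin : (MulAction.orbit K β).Finite := Set.finite_range _
  have h2 : O.card ≤ Nat.card (MulAction.orbit K β) := by
    rw [_root_.Nat.card_coe_set_eq, ← Set.ncard_coe_finset]
    exact Set.ncard_le_ncard hsub hfin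
  have h1 : Nat.card (MulAction.orbit K β) * Nat.card (MulAction.stabilizer K β) = Nat.card K := by
    rw [← Nat.card_prod]
    exact Nat.card_congr (MulAction.orbitProdStabilizerEquivGroup K β)
  rw [← h1, card_stabilizer_subgroup]
  exact Nat.mul_le_mul h2 hm

end Abstract

section Table

variable {α : Type} {n w mask : ℕ} {col : α → Bool → ℕ} [NeZero n]

/-- Some word of the list leads from `x` to a labelled point of smaller rank. -/
def ldesc (mask : ℕ) (col : α → Bool → ℕ) (oid rnk : ℕ) : List (List (α × Bool)) → ℕ → Bool
  | [], _ => false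
  | u :: us, x =>
    or (and (Nat.beq (nxt mask oid (walk mask col u x)) 1)
        (Nat.blt (nxt mask rnk (walk mask col u x)) (nxt mask rnk x)))
      (ldesc mask col oid rnk us x)

/-- The reachability check at the offset `x`: an unlabelled point, the base point `b`, or a descent. -/
def lchk (mask : ℕ) (col : α → Bool → ℕ) (oid rnk b : ℕ) (cl : List (List (α × Bool))) (x : ℕ) : Bool :=
  or (not (Nat.beq (nxt mask oid x) 1)) (or (Nat.beq x b) (ldesc mask col oid rnk cl x))

theorem ldesc_spec (oid rnk : ℕ) (cl : List (List (α × Bool))) (x : ℕ)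
    (h : ldesc mask col oid rnk cl x = true) :
    ∃ u ∈ cl, nxt mask oid (walk mask col u x) = 1 ∧
      nxt mask rnk (walk mask col u x) < nxt mask rnk x := by
  induction cl with
  | nil => simp [ldesc] at h
  | cons v vs ih =>
    simp only [ldesc, Bool.or_eq_true, Bool.and_eq_true, Nat.blt_eq] at h
    rcases h with ⟨h1, h2⟩ | h
    · exact ⟨v, List.mem_cons_self, Nat.eq_of_beq_eq_true h1, h2⟩
    · obtain ⟨u, hu, h1, h2⟩ := ih h
      exact ⟨u, List.mem_cons_of_mem _ hu, h1, h2⟩

/-- Every labelled point is the image of the base point under a product of the words of the list. -/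
theorem reach_of_lchk (hv : Valid n w mask col) (oid rnk : ℕ) (b : Fin n)
    (cl : List (List (α × Bool)))
    (hchk : ∀ k < n, lchk mask col oid rnk (b * w) cl (k * w) = true)
    (y : Fin n) (hy : nxt mask oid (y * w) = 1) :
    ∃ g ∈ Subgroup.closure {g : FreeGroup α | ∃ u ∈ cl, FreeGroup.mk u = g},
      FreeGroup.lift (perm hv) g b = y := by
  generalize hr : nxt mask rnk (y * w) = r
  induction r using Nat.strong_induction_on generalizing y with
  | _ r ih =>
    have h := hchk y y.2
    simp only [lchk, Bool.or_eq_true, Bool.not_eq_true'] at h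
    rcases h with h | h | h
    · rw [hy] at h
      exact absurd h (by decide)
    · have h' := Nat.eq_of_beq_eq_true h
      have : y = b := Fin.ext (Nat.eq_of_mul_eq_mul_right hv.1 h')
      exact ⟨1, Subgroup.one_mem _, by rw [this]; simp⟩
    · obtain ⟨u, hu, h1, hlt⟩ := ldesc_spec oid rnk cl _ h
      rw [walk_fin hv u y] at h1 hlt
      rw [hr] at hlt
      obtain ⟨g, hg, hgy⟩ := ih _ hlt _ h1 rfl
      refine ⟨FreeGroup.mk u * g, Subgroup.mul_mem _ (Subgroup.subset_closure ⟨u, hu, rfl⟩) hg, ?_⟩
      rw [map_mul, Equiv.Perm.mul_apply, hgy, Equiv.Perm.inv_def, Equiv.apply_symm_apply]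

/-- a word walking from the offset of `k` back to it fixes `k` -/
theorem lift_fix_of_walk (hv : Valid n w mask col) (u : List (α × Bool)) (k : Fin n)
    (h : walk mask col u (k * w) = k * w) : FreeGroup.lift (perm hv) (FreeGroup.mk u) k = k := by
  rw [walk_fin hv u k] at h
  have h2 : (FreeGroup.lift (perm hv) (FreeGroup.mk u))⁻¹ k = k :=
    Fin.ext (Nat.eq_of_mul_eq_mul_right hv.1 h)
  rw [Equiv.Perm.inv_def, Equiv.symm_apply_eq] at h2
  exact h2.symm

end Table

end Cfsg.Agent.Lib.Helper96_PermLower
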