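import Cfsg.Agent.Lib.Helper96_PermLower

/-!
# Words acting on the packed coset tables: powers, and reachability from the orbit certificates (helper96)
-/

set_option autoImplicit false

namespace Cfsg.Agent.Lib.Helper96_PermWord

open Cfsg.Agent.Lib.Helper28_CosetPerm

section Table

variable {α : Type} {n w mask : ℕ} {col : α → Bool → ℕ} [NeZero n]

/-- walk `k` times along the word `u` -/
def wpow (mask : ℕ) (col : α → Bool → ℕ) (u : List (α × Bool)) : ℕ → ℕ → ℕ
  | 0, x => x
  | k + 1, x => wpow mask col u k (walk mask col u x)

omit [NeZero n] in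
theorem wpow_eq (u : List (α × Bool)) (k x : ℕ) :
    wpow mask col u k x = walk mask col (List.replicate k u).flatten x := by
  induction k generalizing x with
  | zero => rfl
  | succ k ih =>
    rw [List.replicate_succ, List.flatten_cons, walk_append, ← ih]
    rfl

omit [NeZero n] in
theorem mk_replicate (u : List (α × Bool)) (k : ℕ) :
    FreeGroup.mk (List.replicate k u).flatten = (FreeGroup.mk u) ^ k := by
  induction k with
  | zero => rfl
  | succ k ih =>
    rw [List.replicate_succ, List.flatten_cons, ← FreeGroup.mul_mk, ih, pow_succ']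

omit [NeZero n] in
/-- a word all of whose `k`-fold walks are closed has `k`-th power one -/
theorem lift_pow_eq_one_of_wpow (hv : Valid n w mask col) (u : List (α × Bool)) (k : ℕ)
    (h : ∀ j < n, wpow mask col u k (j * w) = j * w) :
    (FreeGroup.lift (perm hv) (FreeGroup.mk u)) ^ k = 1 := by
  rw [← map_pow, ← mk_replicate]
  apply lift_eq_one_of_walk hv
  intro j hj
  rw [← wpow_eq]
  exact h j hj

/-- Reachability from the orbit certificate of `Helper28_CosetPerm`: a point with label `j` is the image of the
base point of that label under a product of the words of the list. -/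
theorem reach_of_ochk (hv : Valid n w mask col) (oid rnk : ℕ) (bases : List ℕ)
    (cl : List (List (α × Bool)))
    (hchk : ∀ k < n, ochk mask col oid rnk bases cl (k * w) = true)
    (j : ℕ) (b : Fin n) (hb : bases.getD j 0 = b * w) (y : Fin n) (hy : nxt mask oid (y * w) = j) :
    ∃ g ∈ Subgroup.closure {g : FreeGroup α | ∃ u ∈ cl, FreeGroup.mk u = g},
      FreeGroup.lift (perm hv) g b = y := by
  generalize hr : nxt mask rnk (y * w) = r
  induction r using Nat.strong_induction_on generalizing y with
  | _ r ih =>
    have h := hchk y y.2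
    simp only [ochk, Bool.and_eq_true, Bool.or_eq_true] at h
    rcases h.2 with ⟨_, hbase⟩ | hd
    · have hbase' := Nat.eq_of_beq_eq_true hbase
      rw [hy, hb] at hbase'
      have : y = b := Fin.ext (Nat.eq_of_mul_eq_mul_right hv.1 hbase')
      exact ⟨1, Subgroup.one_mem _, by rw [this]; simp⟩
    · obtain ⟨u, hu, hlt⟩ := odesc_spec rnk cl _ hd
      have hlab := oclosed_spec oid cl _ h.1 u hu
      rw [walk_fin hv u y] at hlt hlab
      rw [hr] at hlt
      rw [hy] at hlab
      obtain ⟨g, hg, hgy⟩ := ih _ hlt _ hlab rfl
      refine ⟨FreeGroup.mk u * g, Subgroup.mul_mem _ (Subgroup.subset_closure ⟨u, hu, rfl⟩) hg, ?_⟩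
      rw [map_mul, Equiv.Perm.mul_apply, hgy, Equiv.Perm.inv_def, Equiv.apply_symm_apply]

end Table

end Cfsg.Agent.Lib.Helper96_PermWord
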