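import Mathlib
import Cfsg.Agent.Lib.Helper76_S2647Defs

set_option autoImplicit false
set_option linter.unusedVariables false

/-!
S2647-D8NORM (helper76's market): `N_{A₇}(D8) = D8`.  Only the normalising condition for `r4 = (0 1 2 3)(4 5)` is
needed: the conjugate of `r4` is `r4` or `r4⁻¹` (the elements of `D8` whose square is not `1`), so the permutation is
determined by the images of `0`, `4`, `6`; this leaves sixteen candidates, eight of them odd.
-/

namespace Cfsg.Agent.Lib.Helper96_S2647_D8NORM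

open Matrix Cfsg.Agent.Lib.Helper76_S2647Defs

/-- the eight elements of `D8` -/
def L8 : List (Equiv.Perm (Fin 7)) :=
  [1, r4, r4 * r4, r4 * r4 * r4, s2, r4 * s2, r4 * r4 * s2, r4 * r4 * r4 * s2]

theorem key_decide : ∀ (t : Bool) (a b c : Fin 7),
    (bif t then r4 else r4 * r4 * r4) c = c →
    (bif t then r4 else r4 * r4 * r4) ((bif t then r4 else r4 * r4 * r4) b) = b →
    b ≠ c → a ≠ b → a ≠ (bif t then r4 else r4 * r4 * r4) b → a ≠ c →
    (∃ d ∈ L8, ∀ j : Fin 7, (![a, (bif t then r4 else r4 * r4 * r4) a,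
      (bif t then r4 else r4 * r4 * r4) ((bif t then r4 else r4 * r4 * r4) a),
      (bif t then r4 else r4 * r4 * r4) ((bif t then r4 else r4 * r4 * r4)
        ((bif t then r4 else r4 * r4 * r4) a)), b, (bif t then r4 else r4 * r4 * r4) b, c] :
        Fin 7 → Fin 7) j = d j) ∨
    (∃ d ∈ L8, ∀ j : Fin 7, (![a, (bif t then r4 else r4 * r4 * r4) a,
      (bif t then r4 else r4 * r4 * r4) ((bif t then r4 else r4 * r4 * r4) a),
      (bif t then r4 else r4 * r4 * r4) ((bif t then r4 else r4 * r4 * r4)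
        ((bif t then r4 else r4 * r4 * r4) a)), b, (bif t then r4 else r4 * r4 * r4) b, c] :
        Fin 7 → Fin 7) j = (d * Equiv.swap (4 : Fin 7) 5 : Equiv.Perm (Fin 7)) j) := by
  decide

theorem r4_eq : r4 = Equiv.swap (0 : Fin 7) 1 * Equiv.swap (1 : Fin 7) 2 * Equiv.swap (2 : Fin 7) 3 *
    Equiv.swap (4 : Fin 7) 5 := by
  apply Equiv.ext
  intro j
  fin_cases j <;> decide

theorem s2_eq : s2 = Equiv.swap (0 : Fin 7) 2 * Equiv.swap (4 : Fin 7) 5 := by
  apply Equiv.ext
  intro j
  fin_cases j <;> decide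

theorem sign_r4 : Equiv.Perm.sign r4 = 1 := by
  rw [r4_eq]
  simp only [Equiv.Perm.sign_mul]
  rw [Equiv.Perm.sign_swap (by decide), Equiv.Perm.sign_swap (by decide),
    Equiv.Perm.sign_swap (by decide), Equiv.Perm.sign_swap (by decide)]
  decide

theorem sign_s2 : Equiv.Perm.sign s2 = 1 := by
  rw [s2_eq]
  simp only [Equiv.Perm.sign_mul]
  rw [Equiv.Perm.sign_swap (by decide), Equiv.Perm.sign_swap (by decide)]
  decide

theorem sign_L8 : ∀ d ∈ L8, Equiv.Perm.sign d = 1 := by
  intro d hd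
  simp only [L8, List.mem_cons, List.not_mem_nil, or_false] at hd
  rcases hd with h | h | h | h | h | h | h | h <;> rw [h] <;>
    simp [Equiv.Perm.sign_mul, sign_r4, sign_s2]

theorem sq_ne : r4 * r4 ≠ 1 := by
  intro h
  have := congrArg (fun f : Equiv.Perm (Fin 7) => f 0) h
  revert this
  decide

theorem sq_L8 : ∀ d ∈ L8, d = r4 ∨ d = r4 * r4 * r4 ∨ d * d = 1 := by
  intro d hd
  simp only [L8, List.mem_cons, List.not_mem_nil, or_false] at hd
  rcases hd with h | h | h | h | h | h | h | h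
  · right; right; rw [h]; simp
  · left; exact h
  · right; right; rw [h]
    apply Equiv.ext
    intro j
    fin_cases j <;> decide
  · right; left; exact h
  · right; right; rw [h]
    apply Equiv.ext
    intro j
    fin_cases j <;> decide
  · right; right; rw [h]
    apply Equiv.ext
    intro j
    fin_cases j <;> decide
  · right; right; rw [h]
    apply Equiv.ext
    intro j
    fin_cases j <;> decide
  · right; right; rw [h]
    apply Equiv.ext
    intro j
    fin_cases j <;> decide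

theorem d8norm
    (hmem : ∀ π : Equiv.Perm (Fin 7), π ∈ D8 ↔ π = 1 ∨ π = r4 ∨ π = r4 * r4 ∨ π = r4 * r4 * r4 ∨
      π = s2 ∨ π = r4 * s2 ∨ π = r4 * r4 * s2 ∨ π = r4 * r4 * r4 * s2)
    (π : Equiv.Perm (Fin 7)) (hπ : Equiv.Perm.sign π = 1) (hn : ∀ d ∈ D8, π * d * π⁻¹ ∈ D8) :
    π ∈ D8 := by
  have hL : ∀ d : Equiv.Perm (Fin 7), d ∈ D8 ↔ d ∈ L8 := by
    intro d
    rw [hmem d]
    simp only [L8, List.mem_cons, List.not_mem_nil, or_false]
  have hr4 : r4 ∈ D8 := (hmem r4).mpr (Or.inr (Or.inl rfl))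
  have h1 := (hL _).mp (hn r4 hr4)
  -- the conjugate of `r4` is `r4` or its inverse
  have hsq : (π * r4 * π⁻¹) * (π * r4 * π⁻¹) = π * (r4 * r4) * π⁻¹ := by group
  have hcases : π * r4 * π⁻¹ = r4 ∨ π * r4 * π⁻¹ = r4 * r4 * r4 := by
    rcases sq_L8 _ h1 with h | h | h
    · exact Or.inl h
    · exact Or.inr h
    · exfalso
      rw [hsq] at h
      apply sq_ne
      have : r4 * r4 = π⁻¹ * (π * (r4 * r4) * π⁻¹) * π := by group
      rw [this, h]
      group
  obtain ⟨t, ht⟩ : ∃ t : Bool, π * r4 * π⁻¹ = (bif t then r4 else r4 * r4 * r4) := by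
    rcases hcases with h | h
    · exact ⟨true, h⟩
    · exact ⟨false, h⟩
  set d1 : Equiv.Perm (Fin 7) := (bif t then r4 else r4 * r4 * r4) with hd1
  have hrel : ∀ j : Fin 7, π (r4 j) = d1 (π j) := by
    intro j
    have h2 : π * r4 = d1 * π := by
      rw [← ht]
      group
    have := congrArg (fun f : Equiv.Perm (Fin 7) => f j) h2
    simpa using this
  have e0 : r4 0 = 1 := by decide
  have e1 : r4 1 = 2 := by decide
  have e2 : r4 2 = 3 := by decide
  have e4 : r4 4 = 5 := by decide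
  have e5 : r4 5 = 4 := by decide
  have e6 : r4 6 = 6 := by decide
  have p1 : π 1 = d1 (π 0) := by rw [← hrel, e0]
  have p2 : π 2 = d1 (d1 (π 0)) := by rw [← p1, ← hrel, e1]
  have p3 : π 3 = d1 (d1 (d1 (π 0))) := by rw [← p2, ← hrel, e2]
  have p5 : π 5 = d1 (π 4) := by rw [← hrel, e4]
  have p4 : d1 (d1 (π 4)) = π 4 := by rw [← p5, ← hrel, e5]
  have p6 : d1 (π 6) = π 6 := by rw [← hrel, e6]
  have n46 : π 4 ≠ π 6 := π.injective.ne (by decide)
  have n04 : π 0 ≠ π 4 := π.injective.ne (by decide)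
  have n05 : π 0 ≠ d1 (π 4) := by
    rw [← p5]
    exact π.injective.ne (by decide)
  have n06 : π 0 ≠ π 6 := π.injective.ne (by decide)
  have hkey := key_decide t (π 0) (π 4) (π 6) p6 p4 n46 n04 n05 n06
  have hvec : ∀ j : Fin 7, (![π 0, d1 (π 0), d1 (d1 (π 0)), d1 (d1 (d1 (π 0))), π 4, d1 (π 4), π 6] :
      Fin 7 → Fin 7) j = π j := by
    intro j
    fin_cases j
    · rfl
    · exact p1.symm
    · exact p2.symm
    · exact p3.symm
    · rfl
    · exact p5.symm
    · rfl
  rcases hkey with ⟨d, hd, hj⟩ | ⟨d, hd, hj⟩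
  · have : π = d := by
      apply Equiv.ext
      intro j
      rw [← hvec j]
      exact hj j
    rw [this]
    exact (hL d).mpr hd
  · exfalso
    have : π = d * Equiv.swap (4 : Fin 7) 5 := by
      apply Equiv.ext
      intro j
      rw [← hvec j]
      exact hj j
    rw [this, Equiv.Perm.sign_mul, sign_L8 d hd, Equiv.Perm.sign_swap (by decide)] at hπ
    exact absurd hπ (by decide)

end Cfsg.Agent.Lib.Helper96_S2647_D8NORM
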