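import Mathlib
import Cfsg.Agent.Lib.Helper96_S94_TLaux
import Cfsg.Agent.Lib.Helper9_S94_T1S
import Cfsg.Agent.Lib.Helper74_S94_RANKS
import Cfsg.Agent.Lib.Helper88_S94_EVALA
import Cfsg.Agent.Lib.Helper55_S94_EVALB

set_option autoImplicit false
set_option linter.unusedVariables false
set_option linter.unusedSectionVars false

/-!
Package `B_TL` of helper74's market `s94_packages` (S2094 / S2099), helper96: `torus_fixB` VERBATIM, from
`torus_fixB_aux` (Helper96_S94_TLaux) and the packages `B_T1S`, `B_RANKS`, `B_EVAL_A`, `B_EVAL_B`.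
-/

namespace Cfsg.Agent.Lib.Helper74_S94

open Cfsg.Agent.Lib.Helper5_SteinbergA Cfsg.Agent.Lib.Helper5_SLPresA Cfsg.Agent.Lib.Helper66_StCalc
  Cfsg.Agent.Lib.Helper66_S92 Cfsg.Agent.Lib.Helper66_S96

section field

variable {ι : Type*} [DecidableEq ι] {K : Type*} [Field K] {L : Type*} [Field L] [Algebra K L]
  {G : Type*} [Group G] {Q0 : QuadraticForm K L} {σ : L → L}
  {X : ι ⊕ ι → ι ⊕ ι → K → G} {XS : ι ⊕ ι → L → G}

/-! ## B_TL : a torus element fixing `b_o` lies in `GsB X XS o` (two indices suffice, by `t1S`) -/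

theorem torus_fixB [Fintype ι] [Finite K] [Finite L] (h : BSt Q0 σ X XS) (hN : IsNrm Q0 σ)
    (ρ : G →* Module.End K ((ι ⊕ ι → K) × L)) (hρ : IsActB Q0 X XS ρ)
    (h2 : 2 ≤ Fintype.card ι) (o : ι ⊕ ι) {t : G} (ht : t ∈ Ts X)
    (hfix : ρ t (bB o) = bB o) : t ∈ GsB X XS o := by
  exact torus_fixB_aux h ρ (fun o j h1 h2 s hs => t1S h hN o j h1 h2 s hs)
    (fun o a w ha ha' => HS_mem_LsB o a w ha ha')
    (fun o g hg => act_GsB ρ hρ o hg)
    (fun a c h1 h2 s hs d => act_HDB ρ hρ a c h1 h2 s hs d) h2 o ht hfix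

end field

end Cfsg.Agent.Lib.Helper74_S94
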