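import Mathlib
import Cfsg.Prelude.Def_SporCoxeter

/-!
# Sub-presentations of Coxeter-style presentations and order bounds (helper96)

If the generators `β` of a second presentation are sent by `ι` to generators of `CoxPresented α edges extra` in
such a way that every relator goes to a relator, there is a homomorphism between the presented groups whose
range is the subgroup generated by the `ι`-images.  With an index bound for that subgroup and an order bound
for the smaller group this bounds the order of the larger group.
-/

set_option autoImplicit false

namespace Cfsg.Agent.Lib.Helper96_SubPres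

open Cfsg.Spor

section

variable {α β : Type} [DecidableEq α] [DecidableEq β]

omit [DecidableEq α] [DecidableEq β] in
/-- the lift of the map of generators is the image of `FreeGroup.map` -/
theorem lift_of_comp (rels : Set (FreeGroup α)) (ι : β → α) (r : FreeGroup β) :
    FreeGroup.lift (fun x => (PresentedGroup.of (ι x) : PresentedGroup rels)) r =
      PresentedGroup.mk rels (FreeGroup.map ι r) := by
  have h : FreeGroup.lift (fun x => (PresentedGroup.of (ι x) : PresentedGroup rels)) =
      (PresentedGroup.mk rels).comp (FreeGroup.map ι) := by
    ext x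
    simp [PresentedGroup.of]
  rw [h]
  rfl

/-- The hypothesis on the map of generators: relators go to relators. -/
structure SubOk (ι : β → α) (edges' : List (β × ℕ × β)) (extra' : List (FreeGroup β))
    (edges : List (α × ℕ × α)) (extra : List (FreeGroup α)) : Prop where
  nodes : ∀ x ∈ coxNodes edges', ι x ∈ coxNodes edges
  label : ∀ x ∈ coxNodes edges', ∀ y ∈ coxNodes edges', coxLabel edges (ι x) (ι y) = coxLabel edges' x y
  extra : ∀ r ∈ extra', FreeGroup.map ι r ∈ extra

/-- the homomorphism from the group of the sub-presentation -/
noncomputable def subHom {ι : β → α} {edges' : List (β × ℕ × β)} {extra' : List (FreeGroup β)}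
    {edges : List (α × ℕ × α)} {extra : List (FreeGroup α)} (h : SubOk ι edges' extra' edges extra) :
    CoxPresented β edges' extra' →* CoxPresented α edges extra :=
  PresentedGroup.toGroup (f := fun x => (PresentedGroup.of (ι x) : CoxPresented α edges extra)) (by
    intro r hr
    rw [lift_of_comp]
    rcases hr with ⟨x, hx, y, hy, rfl⟩ | hr
    · apply PresentedGroup.one_of_mem
      refine Or.inl ⟨ι x, h.nodes x hx, ι y, h.nodes y hy, ?_⟩
      rw [h.label x hx y hy, map_pow, map_mul, FreeGroup.map.of, FreeGroup.map.of]
    · exact PresentedGroup.one_of_mem (Or.inr (h.extra r hr)))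

theorem subHom_of {ι : β → α} {edges' : List (β × ℕ × β)} {extra' : List (FreeGroup β)}
    {edges : List (α × ℕ × α)} {extra : List (FreeGroup α)} (h : SubOk ι edges' extra' edges extra) (x : β) :
    subHom h (PresentedGroup.of x) = PresentedGroup.of (ι x) := by
  unfold subHom
  rw [PresentedGroup.toGroup.of]

/-- the range of the homomorphism is the subgroup generated by the images of the generators -/
theorem subHom_range {ι : β → α} {edges' : List (β × ℕ × β)} {extra' : List (FreeGroup β)}
    {edges : List (α × ℕ × α)} {extra : List (FreeGroup α)} (h : SubOk ι edges' extra' edges extra)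
    (S : Set (FreeGroup α)) (hS : S = Set.range (fun x : β => FreeGroup.of (ι x))) :
    (subHom h).range =
      (Subgroup.closure S).map (PresentedGroup.mk (coxRelators edges ∪ {r | r ∈ extra})) := by
  rw [MonoidHom.range_eq_map, ← PresentedGroup.closure_range_of, MonoidHom.map_closure,
    MonoidHom.map_closure, hS]
  congr 1
  ext g
  constructor
  · rintro ⟨_, ⟨x, rfl⟩, rfl⟩
    exact ⟨_, ⟨x, rfl⟩, (subHom_of h x).symm⟩
  · rintro ⟨_, ⟨x, rfl⟩, rfl⟩
    exact ⟨_, ⟨x, rfl⟩, subHom_of h x⟩

end

section

variable {G K : Type*} [Group G] [Group K]

/-- order bound from an index bound and an order bound for a group mapping onto the subgroup -/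
theorem card_le_of_index (H : Subgroup G) (φ : K →* G) (hH : φ.range = H) (n m : ℕ)
    (hidx : H.index ≠ 0) (hle : H.index ≤ n) (hK : Finite K) (hm : Nat.card K ≤ m) :
    Finite G ∧ Nat.card G ≤ n * m := by
  have hfinH : Finite H := by
    rw [← hH]
    exact Finite.of_surjective φ.rangeRestrict φ.rangeRestrict_surjective
  have hcardH : Nat.card H ≤ m := by
    refine le_trans ?_ hm
    rw [← hH]
    exact Nat.card_le_card_of_surjective φ.rangeRestrict φ.rangeRestrict_surjective
  have hfinQ : Finite (G ⧸ H) := by
    apply Nat.finite_of_card_ne_zero
    exact hidx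
  have hfinG : Finite G := by
    have e := Subgroup.groupEquivQuotientProdSubgroup (s := H)
    exact Finite.of_equiv _ e.symm
  refine ⟨hfinG, ?_⟩
  rw [← H.index_mul_card]
  exact Nat.mul_le_mul hle hcardH

/-- order bound for a group in which the trivial subgroup has bounded index -/
theorem card_le_of_bot_index (n : ℕ) (hidx : (⊥ : Subgroup G).index ≠ 0) (hle : (⊥ : Subgroup G).index ≤ n) :
    Finite G ∧ Nat.card G ≤ n := by
  rw [Subgroup.index_bot] at hidx hle
  exact ⟨Nat.finite_of_card_ne_zero hidx, hle⟩

end

end Cfsg.Agent.Lib.Helper96_SubPres
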