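import Cfsg.Agent.Lib.Helper96_SuzSimple

/-!
# The stabiliser chain of Suz on 1782 points: exact orders and orbits (helper96)

From the lower bounds of `Helper96_SuzLower` and the order of the group: the stabilisers of
`b1`, `b1 b2`, … have exactly `251596800`, `604800`, `576`, `3`, `1` elements, and the orbits of
`b2` and `b3` under the stabilisers of `b1` and `b1 b2` are exactly the labelled sets of
`Helper96_SuzChain`.
-/

set_option autoImplicit false

namespace Cfsg.Agent.Lib.Helper96_SuzExact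

open Cfsg.Spor Cfsg.Agent.Lib.Helper28_CosetPerm Cfsg.Agent.Lib.Helper96_PermLower
open Cfsg.Agent.Lib.Helper28_S1680 Cfsg.Agent.Lib.Helper96_SuzChain
open Cfsg.Agent.Lib.Helper96_SuzLower Cfsg.Agent.Lib.Helper96_SuzSimple

section Abstract

variable {P X : Type*} [Group P] [MulAction P X]

/-- orbit times stabiliser -/
theorem card_orbit_mul [Finite P] (K : Subgroup P) (β : X) :
    Nat.card (MulAction.orbit K β) * Nat.card ↥(K ⊓ MulAction.stabilizer P β) = Nat.card K := by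
  rw [← card_stabilizer_subgroup, ← Nat.card_prod]
  exact Nat.card_congr (MulAction.orbitProdStabilizerEquivGroup K β)

/-- a set of reached points is not larger than the orbit -/
theorem card_le_orbit [Finite P] (K : Subgroup P) (β : X) (O : Finset X)
    (hO : ∀ y ∈ O, ∃ g ∈ K, g • β = y) : O.card ≤ Nat.card (MulAction.orbit K β) := by
  classical
  have hsub : (O : Set X) ⊆ MulAction.orbit K β := by
    intro y hy
    obtain ⟨g, hg, rfl⟩ := hO y hy
    exact ⟨⟨g, hg⟩, rfl⟩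
  have hfin : (MulAction.orbit K β).Finite := Set.finite_range _
  rw [_root_.Nat.card_coe_set_eq, ← Set.ncard_coe_finset]
  exact Set.ncard_le_ncard hsub hfin

/-- a set of reached points of the size of the orbit is the orbit -/
theorem mem_of_card_orbit [Finite P] (K : Subgroup P) (β : X) (O : Finset X)
    (hO : ∀ y ∈ O, ∃ g ∈ K, g • β = y) (hc : Nat.card (MulAction.orbit K β) = O.card)
    (g : P) (hg : g ∈ K) : g • β ∈ O := by
  classical
  have hsub : (O : Set X) ⊆ MulAction.orbit K β := by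
    intro y hy
    obtain ⟨g, hg, rfl⟩ := hO y hy
    exact ⟨⟨g, hg⟩, rfl⟩
  have hfin : (MulAction.orbit K β).Finite := Set.finite_range _
  have heq : (O : Set X) = MulAction.orbit K β := by
    apply Set.eq_of_subset_of_ncard_le hsub _ hfin
    rw [Set.ncard_coe_finset, ← _root_.Nat.card_coe_set_eq, hc]
  have : g • β ∈ MulAction.orbit K β := ⟨⟨g, hg⟩, rfl⟩
  rw [← heq] at this
  exact this

theorem tight {a b a0 b0 : ℕ} (h : a * b = a0 * b0) (ha : a0 ≤ a) (hb : b0 ≤ b)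
    (h0 : 0 < a0 * b0) : a = a0 ∧ b = b0 := by
  have ha0 : 0 < a0 := Nat.pos_of_mul_pos_right h0
  have hb0 : 0 < b0 := Nat.pos_of_mul_pos_left h0
  constructor
  · by_contra hne
    have hlt : a0 + 1 ≤ a := by omega
    have : (a0 + 1) * b0 ≤ a * b := Nat.mul_le_mul hlt hb
    rw [h] at this
    nlinarith
  · by_contra hne
    have hlt : b0 + 1 ≤ b := by omega
    have : a0 * (b0 + 1) ≤ a * b := Nat.mul_le_mul ha hlt
    rw [h] at this
    nlinarith

end Abstract

instance : Finite Suz := suz_finite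

/-- the next stabiliser -/
noncomputable def K6 : Subgroup (Equiv.Perm (Fin 1782)) :=
  K5 ⊓ MulAction.stabilizer (Equiv.Perm (Fin 1782)) b5

theorem card_K1 : Nat.card K1 = 448345497600 := by
  have h1 : Nat.card ψ.range ≤ Nat.card Suz :=
    Nat.card_le_card_of_surjective ψ.rangeRestrict ψ.rangeRestrict_surjective
  rw [card_suz] at h1
  exact le_antisymm h1 range_card_ge

theorem reach1 : ∀ y ∈ orbSet 1782 15 32767 oid1 1, ∃ g ∈ K1, g • b1 = y :=
  level_reach oid1 rnk1 b1 cl1 K1 (fun u _ => mem_range u) chk1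

theorem reach2 : ∀ y ∈ orbSet 1782 15 32767 oid2 1, ∃ g ∈ K2, g • b2 = y :=
  level_reach oid2 rnk2 b2 cl2 K2 (fun u hu =>
    ⟨mem_range u, fix_of_all cl2 b1 fix2_1 u hu⟩) chk2

theorem reach3 : ∀ y ∈ orbSet 1782 15 32767 oid3 1, ∃ g ∈ K3, g • b3 = y :=
  level_reach oid3 rnk3 b3 cl3 K3 (fun u hu =>
    ⟨⟨mem_range u, fix_of_all cl3 b1 fix3_1 u hu⟩, fix_of_all cl3 b2 fix3_2 u hu⟩) chk3

theorem reach4 : ∀ y ∈ orbSet 1782 15 32767 oid4 1, ∃ g ∈ K4, g • b4 = y :=
  level_reach oid4 rnk4 b4 cl4 K4 (fun u hu =>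
    ⟨⟨⟨mem_range u, fix_of_all cl4 b1 fix4_1 u hu⟩, fix_of_all cl4 b2 fix4_2 u hu⟩,
      fix_of_all cl4 b3 fix4_3 u hu⟩) chk4

theorem reach5 : ∀ y ∈ orbSet 1782 15 32767 oid5 1, ∃ g ∈ K5, g • b5 = y :=
  level_reach oid5 rnk5 b5 cl5 K5 (fun u hu =>
    ⟨⟨⟨⟨mem_range u, fix_of_all cl5 b1 fix5_1 u hu⟩, fix_of_all cl5 b2 fix5_2 u hu⟩,
      fix_of_all cl5 b3 fix5_3 u hu⟩, fix_of_all cl5 b4 fix5_4 u hu⟩) chk5

theorem exact1 : Nat.card (MulAction.orbit K1 b1) = 1782 ∧ Nat.card K2 = 251596800 := by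
  have h : Nat.card (MulAction.orbit K1 b1) * Nat.card K2 = Nat.card K1 := card_orbit_mul K1 b1
  have ho := card_le_orbit K1 b1 _ reach1
  rw [card_orb oid1 1782 Cfsg.Agent.Lib.Helper96_SuzChain.cnt1] at ho
  have hs : 251596800 ≤ Nat.card K2 := le_trans (by norm_num) card2
  rw [card_K1] at h
  exact tight (a0 := 1782) (b0 := 251596800) (by rw [h]) ho hs (by norm_num)

theorem exact2 : Nat.card (MulAction.orbit K2 b2) = 416 ∧ Nat.card K3 = 604800 := by
  have h : Nat.card (MulAction.orbit K2 b2) * Nat.card K3 = Nat.card K2 := card_orbit_mul K2 b2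
  have ho := card_le_orbit K2 b2 _ reach2
  rw [card_orb oid2 416 Cfsg.Agent.Lib.Helper96_SuzChain.cnt2] at ho
  have hs : 604800 ≤ Nat.card K3 := le_trans (by norm_num) card3
  rw [exact1.2] at h
  exact tight (a0 := 416) (b0 := 604800) (by rw [h]) ho hs (by norm_num)

theorem exact3 : Nat.card (MulAction.orbit K3 b3) = 1050 ∧ Nat.card K4 = 576 := by
  have h : Nat.card (MulAction.orbit K3 b3) * Nat.card K4 = Nat.card K3 := card_orbit_mul K3 b3
  have ho := card_le_orbit K3 b3 _ reach3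
  rw [card_orb oid3 1050 Cfsg.Agent.Lib.Helper96_SuzChain.cnt3] at ho
  have hs : 576 ≤ Nat.card K4 := le_trans (by norm_num) card4
  rw [exact2.2] at h
  exact tight (a0 := 1050) (b0 := 576) (by rw [h]) ho hs (by norm_num)

theorem exact4 : Nat.card (MulAction.orbit K4 b4) = 192 ∧ Nat.card K5 = 3 := by
  have h : Nat.card (MulAction.orbit K4 b4) * Nat.card K5 = Nat.card K4 := card_orbit_mul K4 b4
  have ho := card_le_orbit K4 b4 _ reach4
  rw [card_orb oid4 192 Cfsg.Agent.Lib.Helper96_SuzChain.cnt4] at ho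
  have hs : 3 ≤ Nat.card K5 := card5
  rw [exact3.2] at h
  exact tight (a0 := 192) (b0 := 3) (by rw [h]) ho hs (by norm_num)

theorem exact5 : Nat.card (MulAction.orbit K5 b5) = 3 ∧ Nat.card K6 = 1 := by
  have h : Nat.card (MulAction.orbit K5 b5) * Nat.card K6 = Nat.card K5 := card_orbit_mul K5 b5
  have ho := card_le_orbit K5 b5 _ reach5
  rw [card_orb oid5 3 Cfsg.Agent.Lib.Helper96_SuzChain.cnt5] at ho
  have hs : 1 ≤ Nat.card K6 := Nat.card_pos
  rw [exact4.2] at h
  exact tight (a0 := 3) (b0 := 1) (by rw [h]) ho hs (by norm_num)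

/-- an element of the permutation group fixing the five base points is trivial -/
theorem perm_eq_one (g : Equiv.Perm (Fin 1782)) (hg : g ∈ ψ.range) (h1 : g b1 = b1)
    (h2 : g b2 = b2) (h3 : g b3 = b3) (h4 : g b4 = b4) (h5 : g b5 = b5) : g = 1 := by
  have hm : g ∈ K6 :=
    Subgroup.mem_inf.mpr ⟨Subgroup.mem_inf.mpr ⟨Subgroup.mem_inf.mpr ⟨Subgroup.mem_inf.mpr
      ⟨Subgroup.mem_inf.mpr ⟨hg, MulAction.mem_stabilizer_iff.mpr h1⟩,
      MulAction.mem_stabilizer_iff.mpr h2⟩, MulAction.mem_stabilizer_iff.mpr h3⟩,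
      MulAction.mem_stabilizer_iff.mpr h4⟩, MulAction.mem_stabilizer_iff.mpr h5⟩
  have hb : K6 = ⊥ := Subgroup.eq_bot_of_card_eq _ exact5.2
  rw [hb, Subgroup.mem_bot] at hm
  exact hm

/-- an element of the group fixing the five base points is trivial -/
theorem eq_one_of_fix (z : Suz) (h1 : ψ z b1 = b1) (h2 : ψ z b2 = b2) (h3 : ψ z b3 = b3)
    (h4 : ψ z b4 = b4) (h5 : ψ z b5 = b5) : z = 1 := by
  apply ψ_injective
  rw [map_one]
  exact perm_eq_one (ψ z) ⟨z, rfl⟩ h1 h2 h3 h4 h5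

/-- the orbit of `b2` under the stabiliser of `b1` -/
theorem orb2 (z : Suz) (h1 : ψ z b1 = b1) :
    nxt 32767 oid2 (((ψ z b2 : Fin 1782) : ℕ) * 15) = 1 := by
  have hm : ψ z ∈ K2 :=
    Subgroup.mem_inf.mpr ⟨⟨z, rfl⟩, MulAction.mem_stabilizer_iff.mpr h1⟩
  have h := mem_of_card_orbit K2 b2 _ reach2
    (by rw [exact2.1, card_orb oid2 416 Cfsg.Agent.Lib.Helper96_SuzChain.cnt2]) (ψ z) hm
  simp only [orbSet, Finset.mem_filter, Finset.mem_univ, true_and] at h
  exact h

/-- the orbit of `b3` under the stabiliser of `b1` and `b2` -/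
theorem orb3 (z : Suz) (h1 : ψ z b1 = b1) (h2 : ψ z b2 = b2) :
    nxt 32767 oid3 (((ψ z b3 : Fin 1782) : ℕ) * 15) = 1 := by
  have hm : ψ z ∈ K3 :=
    Subgroup.mem_inf.mpr ⟨Subgroup.mem_inf.mpr ⟨⟨z, rfl⟩, MulAction.mem_stabilizer_iff.mpr h1⟩,
      MulAction.mem_stabilizer_iff.mpr h2⟩
  have h := mem_of_card_orbit K3 b3 _ reach3
    (by rw [exact3.1, card_orb oid3 1050 Cfsg.Agent.Lib.Helper96_SuzChain.cnt3]) (ψ z) hm
  simp only [orbSet, Finset.mem_filter, Finset.mem_univ, true_and] at h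
  exact h

/-- the stabiliser of the first three base points in the group -/
noncomputable def stab3 : Subgroup Suz := K4.comap ψ

theorem mem_stab3 (z : Suz) : z ∈ stab3 ↔ ψ z b1 = b1 ∧ ψ z b2 = b2 ∧ ψ z b3 = b3 := by
  unfold stab3 K4 K3 K2 K1
  simp only [Subgroup.mem_comap, Subgroup.mem_inf, MonoidHom.mem_range, exists_apply_eq_apply,
    true_and, MulAction.mem_stabilizer_iff, and_assoc]
  rfl

theorem card_stab3 : Nat.card stab3 = 576 := by
  rw [← exact3.2]
  have hle : K4 ≤ ψ.range := fun g hg => hg.1.1.1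
  refine Nat.card_congr (Equiv.ofBijective
    (fun z : stab3 => (⟨ψ z.1, z.2⟩ : K4)) ⟨?_, ?_⟩)
  · intro x y hxy
    exact Subtype.ext (ψ_injective (congrArg Subtype.val hxy))
  · rintro ⟨g, hg⟩
    obtain ⟨z, rfl⟩ := hle hg
    exact ⟨⟨z, hg⟩, rfl⟩

end Cfsg.Agent.Lib.Helper96_SuzExact
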