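import Cfsg.Agent.Lib.Helper96_CosetCox
import Cfsg.Agent.Lib.Helper96_SuzK3Data
import Cfsg.Agent.Lib.Helper96_SuzSubDefs

set_option autoImplicit false
set_option maxRecDepth 100000

namespace Cfsg.Agent.Lib.Helper96_SuzK3Upper

open Cfsg.Agent.Lib.Helper96_CosetTable Cfsg.Agent.Lib.Helper96_CosetCox Cfsg.Agent.Lib.Helper96_SuzK3Data

/-- the generator of a letter -/
def gen : Nat → Cfsg.Agent.Lib.Helper96_SuzSub.K3.Gen
  | 0 => .a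
  | 1 => .b
  | 2 => .c
  | _ => .d

/-- the letter of a generator -/
def idx : Cfsg.Agent.Lib.Helper96_SuzSub.K3.Gen → Nat
  | .a => 0
  | .b => 1
  | .c => 2
  | .d => 3

/-- the generators of the subgroup -/
def subs : List (FreeGroup Cfsg.Agent.Lib.Helper96_SuzSub.K3.Gen) := [Cfsg.Agent.Lib.Helper96_SuzSub.K3.a, Cfsg.Agent.Lib.Helper96_SuzSub.K3.b]

/-- the words of the certificate -/
def ws : List (FreeGroup Cfsg.Agent.Lib.Helper96_SuzSub.K3.Gen × Bool) := [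
  (FreeGroup.of Cfsg.Agent.Lib.Helper96_SuzSub.K3.Gen.a * FreeGroup.of Cfsg.Agent.Lib.Helper96_SuzSub.K3.Gen.a, false),
  (FreeGroup.of Cfsg.Agent.Lib.Helper96_SuzSub.K3.Gen.b * FreeGroup.of Cfsg.Agent.Lib.Helper96_SuzSub.K3.Gen.b, false),
  (FreeGroup.of Cfsg.Agent.Lib.Helper96_SuzSub.K3.Gen.c * FreeGroup.of Cfsg.Agent.Lib.Helper96_SuzSub.K3.Gen.c, false),
  (FreeGroup.of Cfsg.Agent.Lib.Helper96_SuzSub.K3.Gen.d * FreeGroup.of Cfsg.Agent.Lib.Helper96_SuzSub.K3.Gen.d, false),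
  ((FreeGroup.of Cfsg.Agent.Lib.Helper96_SuzSub.K3.Gen.a * FreeGroup.of Cfsg.Agent.Lib.Helper96_SuzSub.K3.Gen.b) ^ 5, false),
  ((FreeGroup.of Cfsg.Agent.Lib.Helper96_SuzSub.K3.Gen.a * FreeGroup.of Cfsg.Agent.Lib.Helper96_SuzSub.K3.Gen.c) ^ 2, false),
  ((FreeGroup.of Cfsg.Agent.Lib.Helper96_SuzSub.K3.Gen.a * FreeGroup.of Cfsg.Agent.Lib.Helper96_SuzSub.K3.Gen.d) ^ 2, false),
  ((FreeGroup.of Cfsg.Agent.Lib.Helper96_SuzSub.K3.Gen.b * FreeGroup.of Cfsg.Agent.Lib.Helper96_SuzSub.K3.Gen.c) ^ 3, false),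
  ((FreeGroup.of Cfsg.Agent.Lib.Helper96_SuzSub.K3.Gen.b * FreeGroup.of Cfsg.Agent.Lib.Helper96_SuzSub.K3.Gen.d) ^ 2, false),
  ((FreeGroup.of Cfsg.Agent.Lib.Helper96_SuzSub.K3.Gen.c * FreeGroup.of Cfsg.Agent.Lib.Helper96_SuzSub.K3.Gen.d) ^ 8, false),
  (Cfsg.Agent.Lib.Helper96_SuzSub.K3.extra.getD 0 1, false),
  (Cfsg.Agent.Lib.Helper96_SuzSub.K3.a, true),
  (Cfsg.Agent.Lib.Helper96_SuzSub.K3.b, true),
  (FreeGroup.of Cfsg.Agent.Lib.Helper96_SuzSub.K3.Gen.a * FreeGroup.of Cfsg.Agent.Lib.Helper96_SuzSub.K3.Gen.a, false),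
  (FreeGroup.of Cfsg.Agent.Lib.Helper96_SuzSub.K3.Gen.b * FreeGroup.of Cfsg.Agent.Lib.Helper96_SuzSub.K3.Gen.b, false),
  (FreeGroup.of Cfsg.Agent.Lib.Helper96_SuzSub.K3.Gen.c * FreeGroup.of Cfsg.Agent.Lib.Helper96_SuzSub.K3.Gen.c, false),
  (FreeGroup.of Cfsg.Agent.Lib.Helper96_SuzSub.K3.Gen.d * FreeGroup.of Cfsg.Agent.Lib.Helper96_SuzSub.K3.Gen.d, false),
  (1, false)
]

theorem hgi : ∀ y : Cfsg.Agent.Lib.Helper96_SuzSub.K3.Gen, gen (idx y) = y ∧ idx y < D.ncol ∧ y ∈ Cfsg.Spor.coxNodes Cfsg.Agent.Lib.Helper96_SuzSub.K3.edges := by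
  intro y; cases y <;> decide

theorem hS : ∀ s ∈ subs, s ∈ ({Cfsg.Agent.Lib.Helper96_SuzSub.K3.a, Cfsg.Agent.Lib.Helper96_SuzSub.K3.b} : Set (FreeGroup Cfsg.Agent.Lib.Helper96_SuzSub.K3.Gen)) := by
  intro s hs
  simp only [subs, List.mem_cons, List.not_mem_nil, or_false] at hs
  simp only [Set.mem_insert_iff, Set.mem_singleton_iff]
  tauto

set_option maxHeartbeats 4000000 in
theorem hletters : ∀ k, k < D.nw →
    letters (D.wLetters k) (D.wLen k) = ((ws.getD k (1, false)).1.toWord.map (fun p => idx p.1)) ∧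
    D.wSub k = (if (ws.getD k (1, false)).2 = true then 1 else 0) ∧ k < ws.length := by
  decide +kernel

set_option maxHeartbeats 4000000 in
theorem hws : ∀ p ∈ ws, if p.2 = true then p.1 ∈ subs else
    (p.1 = 1 ∨ p.1 ∈ Cfsg.Agent.Lib.Helper96_SuzSub.K3.extra ∨ ∃ x ∈ Cfsg.Spor.coxNodes Cfsg.Agent.Lib.Helper96_SuzSub.K3.edges, ∃ y ∈ Cfsg.Spor.coxNodes Cfsg.Agent.Lib.Helper96_SuzSub.K3.edges,
      p.1 = (FreeGroup.of x * FreeGroup.of y) ^ Cfsg.Spor.coxLabel Cfsg.Agent.Lib.Helper96_SuzSub.K3.edges x y) := by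
  decide +kernel

/-- the upper bound for the index -/
theorem upper : ((Subgroup.closure ({Cfsg.Agent.Lib.Helper96_SuzSub.K3.a, Cfsg.Agent.Lib.Helper96_SuzSub.K3.b} : Set (FreeGroup Cfsg.Agent.Lib.Helper96_SuzSub.K3.Gen))).map (PresentedGroup.mk (Cfsg.Spor.coxRelators Cfsg.Agent.Lib.Helper96_SuzSub.K3.edges ∪ {r | r ∈ Cfsg.Agent.Lib.Helper96_SuzSub.K3.extra}))).index ≠ 0 ∧ ((Subgroup.closure ({Cfsg.Agent.Lib.Helper96_SuzSub.K3.a, Cfsg.Agent.Lib.Helper96_SuzSub.K3.b} : Set (FreeGroup Cfsg.Agent.Lib.Helper96_SuzSub.K3.Gen))).map (PresentedGroup.mk (Cfsg.Spor.coxRelators Cfsg.Agent.Lib.Helper96_SuzSub.K3.edges ∪ {r | r ∈ Cfsg.Agent.Lib.Helper96_SuzSub.K3.extra}))).index ≤ 216 :=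
  cox_index_le Cfsg.Agent.Lib.Helper96_SuzSub.K3.edges Cfsg.Agent.Lib.Helper96_SuzSub.K3.extra _ subs hS gen idx D ws hgi (fun _ _ => rfl) hletters hws D_ok D_tblOk

end Cfsg.Agent.Lib.Helper96_SuzK3Upper
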