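import Cfsg.Agent.Lib.Helper96_CosetTable

set_option autoImplicit false
set_option maxRecDepth 100000
set_option Elab.async false

namespace Cfsg.Agent.Lib.Helper96_SuzK4Data

open Cfsg.Agent.Lib.Helper96_CosetTable

def FA_0 : Nat := 0x189009700860175016400530042013101200010
noncomputable def FAget (i : Nat) : Nat := Nat.land (Nat.shiftRight FA_0 (Nat.mul 16 i)) 65535

def WD_0 : Nat := 0x1010004000000000000000000000004010001000100010001000014000000000000000001010004000000000000000000000004
noncomputable def WDget (i : Nat) : Nat := Nat.land (Nat.shiftRight WD_0 (Nat.mul 96 i)) 79228162514264337593543950335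

def RR_0 : Nat := 0x9876543210
noncomputable def RRget (i : Nat) : Nat := Nat.land (Nat.shiftRight RR_0 (Nat.mul 4 i)) 15

def LI_0 : Nat := 0xa987654321
noncomputable def LIget (i : Nat) : Nat := Nat.land (Nat.shiftRight LI_0 (Nat.mul 4 i)) 15

def TJ_0 : Nat := 0x9466f6c16e625472a06620440
noncomputable def TJget (i : Nat) : Nat := Nat.land (Nat.shiftRight TJ_0 (Nat.mul 5 i)) 31

def blocks : List Nat := [
0x188200675be500008000a702005d0001
]

def walks : List Nat := unpackAll blocks

noncomputable def D : Data := { w := 4, ncol := 2, invL := fun x => x, nw := 6, wrec := WDget, R := 10, getRec := FAget, NF := 10, walks := walks, n := 10, rr := RRget, li := LIget, tj := TJget }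

set_option maxHeartbeats 4000000 in
theorem D_ok : D.ok = true := by decide +kernel

set_option maxHeartbeats 4000000 in
theorem D_tblOk : D.tblOk = true := by decide +kernel

end Cfsg.Agent.Lib.Helper96_SuzK4Data
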