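import Cfsg.Agent.Lib.Helper96_SuzNormTab

set_option autoImplicit false

/-!
# The certificate for conjugating elements in the Suzuki group (helper96, for S2074)

See `Helper96_SuzNorm.cert_sound`.  A port of `Helper56_HeNormCert` (helper56) with two levels.
-/

namespace Cfsg.Agent.Lib.Helper96_SuzNormCert

open Cfsg.Spor Cfsg.Agent.Lib.Helper28_CosetPerm Cfsg.Agent.Lib.Helper28_S1680
  Cfsg.Agent.Lib.Helper96_SuzNormDef Cfsg.Agent.Lib.Helper96_SuzNormData
  Cfsg.Agent.Lib.Helper96_SuzNormTab

/-- evaluate the number first (the kernel then shares the value) -/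
def forceN (q : ℕ) (f : ℕ → Bool) : Bool :=
  Nat.rec (motive := fun _ => Bool) (f 0) (fun q' _ => f (Nat.succ q')) q

theorem forceN_eq (q : ℕ) (f : ℕ → Bool) : forceN q f = f q := by
  cases q <;> rfl

/-- walk `k` times along a word -/
def iterW (wk : Wk) (A : Wd) (k : ℕ) : ℕ → ℕ :=
  Nat.rec (motive := fun _ => ℕ → ℕ) (fun x => x) (fun _ ih x => ih (wk A x)) k

theorem iterW_zero (wk : Wk) (A : Wd) (x : ℕ) : iterW wk A 0 x = x := rfl

theorem iterW_succ (wk : Wk) (A : Wd) (k x : ℕ) :
    iterW wk A (k + 1) x = iterW wk A k (wk A x) := rfl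

/-- the test on the labels of the orbits of `J` -/
def sepM2 (wk : Wk) (A B : Wd) (y : ℕ) : ℕ → ℕ → ℕ → Bool
  | 0, _, _ => false
  | n + 1, p, r => !(Nat.beq (mu2 (walkP2 wk 20 y p)) (mu2 r)) ||
      sepM2 wk A B y n (wk A p) (wk B r)

/-- the test on the labels of the orbits of `K` -/
def sepM3 (wk : Wk) (A B : Wd) (y y' : ℕ) : ℕ → ℕ → ℕ → Bool
  | 0, _, _ => false
  | n + 1, p, r => !(Nat.beq (mu3 (walkP3 wk 16 y' (walkP2 wk 20 y p))) (mu3 r)) ||
      sepM3 wk A B y y' n (wk A p) (wk B r)

/-- the test of a single element -/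
def sepL (wk : Wk) (A B T K : Wd) : ℕ → ℕ → ℕ → Bool
  | 0, _, _ => false
  | n + 1, p, r => !(Nat.beq (wk K (wk T p)) r) ||
      sepL wk A B T K n (wk A p) (wk B r)

/-- the certificate for the points `y`, `y'`, the word `T` and the `j`-th element of `K` -/
def certJ (wk : Wk) (A B : Wd) (S : List Wd) (n : ℕ) (T : Wd) (p1 r1 q2 j : ℕ) : Bool :=
  !(Nat.beq (walkK wk 6 (lle j) q2) r1) ||
    (sepL wk A B T (kw j) n p1 r1 ||
      (!(eqL wk [T, kw j, B] [A, T, kw j]) || S.any (fun s => eqL wk [T, kw j] [s])))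

/-- the certificate for the points `y` and `y'`: the tests on the labels of the orbits of `K` along
the three sequences starting at `y`, at the point `0` and at the point which is mapped to `141`,
then the elements of `K` -/
def certY3 (wk : Wk) (A B : Wd) (S : List Wd) (n m y p1 r1 q1 y' : ℕ) : Bool :=
  forceN (walkP3 wk 16 y' q1) (fun q2 =>
    !(Nat.beq (mu3 q2) (mu3 r1)) ||
      (sepM3 wk A B y y' n p1 r1 ||
        (sepM3 wk A B y y' n (iterW wk A m 0) (iterW wk B m 0) ||
          (sepM3 wk A B y y' n (iterW wk A m (wk (FreeGroup.invRev (path2 20 y)) y'))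
              (iterW wk B m 2115) ||
            allFold (certJ wk A B S n (path2 20 y ++ path3 16 y') p1 r1 q2) 576))))

/-- the certificate for the point `y`; the sequences are tested from the `m`-th point on -/
def certY2 (wk : Wk) (A B : Wd) (S : List Wd) (n m y : ℕ) : Bool :=
  forceN (iterW wk A m y) (fun p1 => forceN (iterW wk B m 14925) (fun r1 =>
    sepM2 wk A B y n p1 r1 ||
      (sepM2 wk A B y n (iterW wk A m 0) (iterW wk B m 0) ||
        forceN (walkP2 wk 20 y p1) (fun q1 =>
          allFold (fun k => !(inY3 (k * 15)) || certY3 wk A B S n m y p1 r1 q1 (k * 15)) 1782))))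

/-- the certificate: `n` is the number of the points of the sequences which are tested, beginning
with the `m`-th point -/
def cert (wk : Wk) (A B : Wd) (S : List Wd) (n m : ℕ) : Bool :=
  allFold (fun k => !(inY2 (k * 15)) || certY2 wk A B S n m (k * 15)) 1782

end Cfsg.Agent.Lib.Helper96_SuzNormCert
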