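import Cfsg.Agent.Lib.Helper96_SuzNormChk
import Cfsg.Agent.Lib.Helper96_SuzNormCert

set_option autoImplicit false
set_option linter.constructorNameAsVariable false

/-!
# Conjugating elements in the Suzuki group: soundness of the certificate (helper96, for S2074)

`cert_sound`: if `cert wk1 A B S n = true` (a Boolean evaluated by the kernel on the table of the
action on 1782 points), then every element `z` of the stabiliser of the point `0` with
`z * B = A * z` (`A`, `B` words) is one of the words of the list `S`.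
A port of `Helper56_HeNorm` (helper56, for the Held group) with two levels of paths.
-/

namespace Cfsg.Agent.Lib.Helper96_SuzNorm

open Cfsg.Spor Cfsg.Agent.Lib.Helper28_CosetPerm Cfsg.Agent.Lib.Helper28_S1680
  Cfsg.Agent.Lib.Helper96_SuzLower Cfsg.Agent.Lib.Helper96_SuzChain
  Cfsg.Agent.Lib.Helper96_SuzExact
  Cfsg.Agent.Lib.Helper96_SuzNormDef Cfsg.Agent.Lib.Helper96_SuzNormData
  Cfsg.Agent.Lib.Helper96_SuzNormTab Cfsg.Agent.Lib.Helper96_SuzNormChk
  Cfsg.Agent.Lib.Helper96_SuzNormCert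

/-- a word whose walk fixes the code of a point fixes the point -/
theorem fix_of_wk0 {u : Wd} {b : Fin 1782} (h : wk0 u (cd b) = cd b) : rho (mkW u) b = b := by
  rw [wk0_cd] at h
  have h1 := cd_inj h
  have := congrArg (rho (mkW u)) h1
  rw [perm_apply_inv_self] at this
  exact this.symm

/-- the inverse image of a point from the walk -/
theorem inv_of_wk0 {u : Wd} {b c : Fin 1782} (h : wk0 u (cd b) = cd c) :
    (rho (mkW u))⁻¹ b = c := by
  rw [wk0_cd] at h
  exact cd_inj h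

/-! ### the elements of `K` -/

theorem kgw_lt (g : ℕ) (hg : g < 8) : Inv mu3 (kgw g) ∧ Inv mu2 (kgw g) ∧ Fx (kgw g) := by
  have c1 := chk_mu3
  have c2 := chk_mu2k
  have c3 := chk_kfix
  rw [wk1_eq] at c1 c2 c3
  have h1 : allFold (fun k => Nat.beq (mu3 (wk0 (kgw g) (k * 15))) (mu3 (k * 15))) 1782
      = true := (allFold_eq_true _ _).mp c1 g hg
  have h2 : allFold (fun k => Nat.beq (mu2 (wk0 (kgw g) (k * 15))) (mu2 (k * 15))) 1782
      = true := (allFold_eq_true _ _).mp c2 g hg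
  have h3 : (Nat.beq (wk0 (kgw g) 0) 0 &&
      (Nat.beq (wk0 (kgw g) 14925) 14925 && Nat.beq (wk0 (kgw g) 2115) 2115))
      = true := (allFold_eq_true _ _).mp c3 g hg
  refine ⟨fun k => ?_, fun k => ?_, ?_⟩
  · have h4 : Nat.beq (mu3 (wk0 (kgw g) (cd k))) (mu3 (cd k)) = true :=
      (allFold_eq_true _ _).mp h1 k.val k.isLt
    exact Nat.eq_of_beq_eq_true h4
  · have h4 : Nat.beq (mu2 (wk0 (kgw g) (cd k))) (mu2 (cd k)) = true :=
      (allFold_eq_true _ _).mp h2 k.val k.isLt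
    exact Nat.eq_of_beq_eq_true h4
  · simp only [Bool.and_eq_true] at h3
    exact ⟨Nat.eq_of_beq_eq_true h3.1, Nat.eq_of_beq_eq_true h3.2.1,
      Nat.eq_of_beq_eq_true h3.2.2⟩

theorem kwd_prop (f c : ℕ) : Inv mu3 (kwd f c) ∧ Inv mu2 (kwd f c) ∧ Fx (kwd f c) := by
  induction f generalizing c with
  | zero => exact ⟨Inv.nil _, Inv.nil _, Fx.nil⟩
  | succ f ih =>
    have h := kgw_lt (c % 8) (Nat.mod_lt _ (by norm_num))
    show Inv mu3 (kgw (c % 8) ++ kwd f (c / 8)) ∧ Inv mu2 (kgw (c % 8) ++ kwd f (c / 8)) ∧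
      Fx (kgw (c % 8) ++ kwd f (c / 8))
    exact ⟨Inv.append h.1 (ih _).1, Inv.append h.2.1 (ih _).2.1, Fx.append h.2.2 (ih _).2.2⟩

theorem kw_mem (j : ℕ) : mkW (kw j) ∈ stab3 := by
  have hf := (kwd_prop 6 (lle j)).2.2
  rw [mem_stab3]
  exact ⟨fix_of_wk0 hf.1, fix_of_wk0 hf.2.1, fix_of_wk0 hf.2.2⟩

theorem sig_step (j : ℕ) (hj : j < 575) : sig wk0 j < sig wk0 (j + 1) := by
  have c := chk_sig
  rw [wk1_eq] at c
  have h : Nat.blt (sig wk0 j) (sig wk0 (j + 1)) = true := (allFold_eq_true _ _).mp c j hj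
  rw [Nat.blt_eq] at h
  exact h

theorem sig_lt : ∀ d i : ℕ, i + d + 1 < 576 → sig wk0 i < sig wk0 (i + d + 1) := by
  intro d
  induction d with
  | zero => intro i h; exact sig_step i (by omega)
  | succ d ih =>
    intro i h
    exact lt_trans (ih i (by omega)) (sig_step (i + d + 1) (by omega))

theorem sig_eq_of_eq {i j : ℕ} (h : mkW (kw i) = mkW (kw j)) : sig wk0 i = sig wk0 j := by
  have e4 : wk0 (kw i) (cd b4) = wk0 (kw j) (cd b4) := by
    rw [wk0_cd, wk0_cd, h]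
  have e5 : wk0 (kw i) (cd b5) = wk0 (kw j) (cd b5) := by
    rw [wk0_cd, wk0_cd, h]
  unfold sig
  rw [walkK_eq, walkK_eq, walkK_eq, walkK_eq]
  show wk0 (kw i) (cd b4) * 65536 + wk0 (kw i) (cd b5) =
    wk0 (kw j) (cd b4) * 65536 + wk0 (kw j) (cd b5)
  rw [e4, e5]

theorem kw_inj {i j : ℕ} (hi : i < 576) (hj : j < 576) (h : mkW (kw i) = mkW (kw j)) :
    i = j := by
  have hs := sig_eq_of_eq h
  rcases lt_trichotomy i j with hl | he | hg
  · exfalso
    have h1 := sig_lt (j - i - 1) i (by omega)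
    rw [show i + (j - i - 1) + 1 = j by omega] at h1
    omega
  · exact he
  · exfalso
    have h1 := sig_lt (i - j - 1) j (by omega)
    rw [show j + (i - j - 1) + 1 = i by omega] at h1
    omega

theorem K_list (l : G) (hl : l ∈ stab3) : ∃ j, j < 576 ∧ l = mkW (kw j) := by
  let f : Fin 576 → stab3 := fun j => ⟨mkW (kw j.val), kw_mem j.val⟩
  have hinj : Function.Injective f := by
    intro i j hij
    have h : mkW (kw i.val) = mkW (kw j.val) := congrArg Subtype.val hij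
    exact Fin.ext (kw_inj i.isLt j.isLt h)
  have hbij := hinj.bijective_of_nat_card_le (by rw [card_stab3, Nat.card_fin])
  obtain ⟨j, hj⟩ := hbij.2 ⟨l, hl⟩
  exact ⟨j.val, j.isLt, (congrArg Subtype.val hj).symm⟩

/-! ### the paths -/

theorem jgw_lt (g : ℕ) (hg : g < 8) : Inv mu2 (jgw g) := by
  have c := chk_mu2j
  rw [wk1_eq] at c
  have h1 : allFold (fun k => Nat.beq (mu2 (wk0 (jgw g) (k * 15))) (mu2 (k * 15))) 1782
      = true := (allFold_eq_true _ _).mp c g hg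
  intro k
  have h3 : Nat.beq (mu2 (wk0 (jgw g) (cd k))) (mu2 (cd k)) = true :=
    (allFold_eq_true _ _).mp h1 k.val k.isLt
  exact Nat.eq_of_beq_eq_true h3

theorem jgw_inv (g : ℕ) : Inv mu2 (jgw g) := by
  by_cases hg : g < 8
  · exact jgw_lt g hg
  · have : jgw g = [] := by
      unfold jgw
      rw [List.getD_eq_default]
      simp only [jgl, List.length_cons, List.length_nil]
      omega
    rw [this]
    exact Inv.nil _

theorem path3_inv (f x : ℕ) : Inv mu2 (path3 f x) := by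
  induction f generalizing x with
  | zero => exact Inv.nil _
  | succ f ih =>
    show Inv mu2 (cond (Nat.beq x 2115) [] (jgw (stp3 x) ++ path3 f (wk0 (jgw (stp3 x)) x)))
    cases Nat.beq x 2115 with
    | true => exact Inv.nil _
    | false => exact Inv.append (jgw_inv _) (ih _)

theorem path2_spec (k : Fin 1782) (h : inY2 (cd k) = true) :
    wk0 (path2 20 (cd k)) (cd k) = 14925 ∧ wk0 (path2 20 (cd k)) 0 = 0 := by
  have c := chk_path2
  rw [wk1_eq] at c
  have h1 : (!(inY2 (cd k)) || (Nat.beq (walkP2 wk0 20 (cd k) (cd k)) 14925 &&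
      Nat.beq (walkP2 wk0 20 (cd k) 0) 0)) = true :=
    (allFold_eq_true _ _).mp c k.val k.isLt
  rw [h, walkP2_eq, walkP2_eq] at h1
  simp only [Bool.not_true, Bool.false_or, Bool.and_eq_true] at h1
  exact ⟨Nat.eq_of_beq_eq_true h1.1, Nat.eq_of_beq_eq_true h1.2⟩

theorem path3_spec (k : Fin 1782) (h : inY3 (cd k) = true) :
    wk0 (path3 16 (cd k)) (cd k) = 2115 ∧ wk0 (path3 16 (cd k)) 14925 = 14925 ∧
      wk0 (path3 16 (cd k)) 0 = 0 := by
  have c := chk_path3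
  rw [wk1_eq] at c
  have h1 : (!(inY3 (cd k)) || (Nat.beq (walkP3 wk0 16 (cd k) (cd k)) 2115 &&
      (Nat.beq (walkP3 wk0 16 (cd k) 14925) 14925 &&
        Nat.beq (walkP3 wk0 16 (cd k) 0) 0))) = true :=
    (allFold_eq_true _ _).mp c k.val k.isLt
  rw [h, walkP3_eq, walkP3_eq, walkP3_eq] at h1
  simp only [Bool.not_true, Bool.false_or, Bool.and_eq_true] at h1
  exact ⟨Nat.eq_of_beq_eq_true h1.1, Nat.eq_of_beq_eq_true h1.2.1,
    Nat.eq_of_beq_eq_true h1.2.2⟩

/-! ### soundness -/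

theorem step_inv {A B : Wd} {z : G} (hrel : z * mkW B = mkW A * z) {p r : Fin 1782}
    (h : (rho z)⁻¹ p = r) : (rho z)⁻¹ ((rho (mkW A))⁻¹ p) = (rho (mkW B))⁻¹ r := by
  rw [← h]
  have e : (rho z)⁻¹ * (rho (mkW A))⁻¹ = (rho (mkW B))⁻¹ * (rho z)⁻¹ := by
    rw [← mul_inv_rev, ← mul_inv_rev, ← map_mul, ← map_mul, hrel]
  exact congrArg (fun f : Equiv.Perm (Fin 1782) => f p) e

theorem iter_inv {A B : Wd} {z : G} (hrel : z * mkW B = mkW A * z) (m : ℕ) :
    ∀ p r : Fin 1782, (rho z)⁻¹ p = r → ∃ p' r' : Fin 1782,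
      iterW wk0 A m (cd p) = cd p' ∧ iterW wk0 B m (cd r) = cd r' ∧ (rho z)⁻¹ p' = r' := by
  induction m with
  | zero => intro p r h; exact ⟨p, r, rfl, rfl, h⟩
  | succ m ih =>
    intro p r h
    obtain ⟨p', r', h1, h2, h3⟩ := ih _ _ (step_inv hrel h)
    refine ⟨p', r', ?_, ?_, h3⟩
    · rw [iterW_succ, wk0_cd]; exact h1
    · rw [iterW_succ, wk0_cd]; exact h2

theorem sepL_false {A B T K : Wd} (hrel : mkW (T ++ K) * mkW B = mkW A * mkW (T ++ K)) :
    ∀ (n : ℕ) (p r : Fin 1782), (rho (mkW (T ++ K)))⁻¹ p = r →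
      sepL wk0 A B T K n (cd p) (cd r) = false := by
  intro n
  induction n with
  | zero => intro p r _; rfl
  | succ n ih =>
    intro p r h
    show (!(Nat.beq (wk0 K (wk0 T (cd p))) (cd r)) ||
      sepL wk0 A B T K n (wk0 A (cd p)) (wk0 B (cd r))) = false
    rw [← wk0_append, wk0_cd (T ++ K) p, h, Nat.beq_refl, wk0_cd A p, wk0_cd B r,
      ih _ _ (step_inv hrel h)]
    rfl

theorem sepM2_false {A B : Wd} {yc : ℕ} {z l : G} (hz : z = mkW (path2 20 yc) * l)
    (hl : ∀ k : Fin 1782, mu2 (cd ((rho l)⁻¹ k)) = mu2 (cd k))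
    (hrel : z * mkW B = mkW A * z) :
    ∀ (n : ℕ) (p r : Fin 1782), (rho z)⁻¹ p = r → sepM2 wk0 A B yc n (cd p) (cd r) = false := by
  intro n
  induction n with
  | zero => intro p r _; rfl
  | succ n ih =>
    intro p r h
    show (!(Nat.beq (mu2 (walkP2 wk0 20 yc (cd p))) (mu2 (cd r))) ||
      sepM2 wk0 A B yc n (wk0 A (cd p)) (wk0 B (cd r))) = false
    have e : mu2 (cd r) = mu2 (walkP2 wk0 20 yc (cd p)) := by
      rw [walkP2_eq, wk0_cd _ p, ← h, hz, map_mul, mul_inv_rev, Equiv.Perm.mul_apply, hl]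
    rw [e, Nat.beq_refl, wk0_cd A p, wk0_cd B r, ih _ _ (step_inv hrel h)]
    rfl

theorem sepM3_false {A B : Wd} {yc yc' : ℕ} {z l : G}
    (hz : z = mkW (path2 20 yc ++ path3 16 yc') * l)
    (hl : ∀ k : Fin 1782, mu3 (cd ((rho l)⁻¹ k)) = mu3 (cd k))
    (hrel : z * mkW B = mkW A * z) :
    ∀ (n : ℕ) (p r : Fin 1782), (rho z)⁻¹ p = r →
      sepM3 wk0 A B yc yc' n (cd p) (cd r) = false := by
  intro n
  induction n with
  | zero => intro p r _; rfl
  | succ n ih =>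
    intro p r h
    show (!(Nat.beq (mu3 (walkP3 wk0 16 yc' (walkP2 wk0 20 yc (cd p)))) (mu3 (cd r))) ||
      sepM3 wk0 A B yc yc' n (wk0 A (cd p)) (wk0 B (cd r))) = false
    have e : mu3 (cd r) = mu3 (walkP3 wk0 16 yc' (walkP2 wk0 20 yc (cd p))) := by
      rw [walkP3_eq, walkP2_eq, ← wk0_append, wk0_cd _ p, ← h, hz, map_mul, mul_inv_rev,
        Equiv.Perm.mul_apply, hl]
    rw [e, Nat.beq_refl, wk0_cd A p, wk0_cd B r, ih _ _ (step_inv hrel h)]
    rfl

/-- Soundness of the certificate. -/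
theorem cert_sound {A B : Wd} {S : List Wd} {n m : ℕ} (hc1 : cert wk1 A B S n m = true) (z : G)
    (hz0 : rho z b1 = b1) (hrel : z * mkW B = mkW A * z) : ∃ s ∈ S, z = mkW s := by
  have hc : cert wk0 A B S n m = true := by rw [← wk1_eq]; exact hc1
  -- the second level
  set y : Fin 1782 := rho z b2 with hy
  have hyY : inY2 (cd y) = true := by
    have h := orb2 z hz0
    unfold inY2
    show Nat.beq (nxt 32767 oid2 (((rho z b2 : Fin 1782) : ℕ) * 15)) 1 = true
    rw [h]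
    rfl
  have hcy : (!(inY2 (cd y)) || certY2 wk0 A B S n m (cd y)) = true :=
    (allFold_eq_true _ _).mp hc y.val y.isLt
  rw [hyY] at hcy
  simp only [Bool.not_true, Bool.false_or, certY2, forceN_eq] at hcy
  obtain ⟨hT1, hT0⟩ := path2_spec y hyY
  set T2 : Wd := path2 20 (cd y) with hT2
  have hT2y : (rho (mkW T2))⁻¹ y = b2 := inv_of_wk0 (by rw [hT1]; rfl)
  have hT2b : (rho (mkW T2))⁻¹ b1 = b1 := inv_of_wk0 (by rw [cd_b1]; exact hT0)
  set l : G := (mkW T2)⁻¹ * z with hl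
  have hzl : z = mkW T2 * l := by rw [hl]; group
  have hl1 : rho l b1 = b1 := by
    rw [hl, map_mul, map_inv, Equiv.Perm.mul_apply, hz0, hT2b]
  have hl2 : rho l b2 = b2 := by
    rw [hl, map_mul, map_inv, Equiv.Perm.mul_apply, ← hy, hT2y]
  -- the third level
  set y' : Fin 1782 := rho l b3 with hy'
  have hy'Y : inY3 (cd y') = true := by
    have h := orb3 l hl1 hl2
    unfold inY3
    show Nat.beq (nxt 32767 oid3 (((rho l b3 : Fin 1782) : ℕ) * 15)) 1 = true
    rw [h]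
    rfl
  obtain ⟨hU1, hU2, hU0⟩ := path3_spec y' hy'Y
  set T3 : Wd := path3 16 (cd y') with hT3
  have hT3y : (rho (mkW T3))⁻¹ y' = b3 := inv_of_wk0 (by rw [hU1]; rfl)
  have hT3b2 : (rho (mkW T3))⁻¹ b2 = b2 := inv_of_wk0 (by rw [cd_b2]; exact hU2)
  have hT3b1 : (rho (mkW T3))⁻¹ b1 = b1 := inv_of_wk0 (by rw [cd_b1]; exact hU0)
  have hl' : (mkW T3)⁻¹ * l ∈ stab3 := by
    rw [mem_stab3]
    refine ⟨?_, ?_, ?_⟩
    · rw [map_mul, map_inv, Equiv.Perm.mul_apply, hl1, hT3b1]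
    · rw [map_mul, map_inv, Equiv.Perm.mul_apply, hl2, hT3b2]
    · rw [map_mul, map_inv, Equiv.Perm.mul_apply, ← hy', hT3y]
  obtain ⟨j, hj, hlj⟩ := K_list _ hl'
  have hlk : l = mkW (T3 ++ kw j) := by
    rw [mkW_append, ← hlj]
    group
  have hzj : z = mkW ((T2 ++ T3) ++ kw j) := by
    rw [mkW_append, mkW_append, ← hlj, hl]
    group
  have hzj' : z = mkW (T2 ++ T3) * mkW (kw j) := by
    rw [← mkW_append]
    exact hzj
  -- the three sequences
  have hinit : (rho z)⁻¹ y = b2 := by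
    rw [hy, perm_inv_apply_self]
  obtain ⟨P1, R1, hp1, hr1, hPR1⟩ := iter_inv hrel m _ _ hinit
  have hz1 : (rho z)⁻¹ b1 = b1 := by
    conv_lhs => rw [← hz0]
    exact perm_inv_apply_self _ _
  obtain ⟨P0, R0, hp0, hr0, hPR0⟩ := iter_inv hrel m _ _ hz1
  have hz3 : (rho z)⁻¹ (rho (mkW T2) y') = b3 := by
    rw [hzl, map_mul, mul_inv_rev, Equiv.Perm.mul_apply, perm_inv_apply_self, hy',
      perm_inv_apply_self]
  obtain ⟨P3, R3, hp3, hr3, hPR3⟩ := iter_inv hrel m _ _ hz3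
  rw [cd_b2] at hr1
  rw [cd_b1] at hp0 hr0
  rw [cd_b3] at hr3
  rw [hp1, hr1, hp0, hr0] at hcy
  -- the tests of the second level
  have hlinv : ∀ k : Fin 1782, mu2 (cd ((rho l)⁻¹ k)) = mu2 (cd k) := by
    intro k
    rw [hlk, ← wk0_cd]
    exact Inv.append (path3_inv _ _) (kwd_prop 6 (lle j)).2.1 k
  have hM2 : sepM2 wk0 A B (cd y) n (cd P1) (cd R1) = false :=
    sepM2_false hzl hlinv hrel n _ _ hPR1
  have hM2' : sepM2 wk0 A B (cd y) n (cd P0) (cd R0) = false :=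
    sepM2_false hzl hlinv hrel n _ _ hPR0
  rw [hM2, hM2', Bool.false_or, Bool.false_or] at hcy
  have hY3 : (!(inY3 (cd y')) || certY3 wk0 A B S n m (cd y) (cd P1) (cd R1)
      (walkP2 wk0 20 (cd y) (cd P1)) (cd y')) = true :=
    (allFold_eq_true _ _).mp hcy y'.val y'.isLt
  rw [hy'Y] at hY3
  simp only [Bool.not_true, Bool.false_or, certY3, forceN_eq] at hY3
  -- the tests of the third level
  have hkinv : ∀ k : Fin 1782, mu3 (cd ((rho (mkW (kw j)))⁻¹ k)) = mu3 (cd k) := by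
    intro k
    rw [← wk0_cd]
    exact (kwd_prop 6 (lle j)).1 k
  have hq2 : walkP3 wk0 16 (cd y') (walkP2 wk0 20 (cd y) (cd P1)) =
      cd ((rho (mkW (T2 ++ T3)))⁻¹ P1) := by
    rw [walkP3_eq, walkP2_eq, ← wk0_append, wk0_cd]
  have hzinv : (rho (mkW (kw j)))⁻¹ ((rho (mkW (T2 ++ T3)))⁻¹ P1) = R1 := by
    rw [← hPR1, hzj', map_mul, mul_inv_rev, Equiv.Perm.mul_apply]
  have hfirst : mu3 (cd ((rho (mkW (T2 ++ T3)))⁻¹ P1)) = mu3 (cd R1) := by
    rw [← hzinv, hkinv]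
  have hP' : wk0 (FreeGroup.invRev (path2 20 (cd y))) (cd y') = cd (rho (mkW T2) y') := by
    show wk0 (FreeGroup.invRev T2) (cd y') = cd (rho (mkW T2) y')
    rw [wk0_cd, ← mkW_inv, map_inv, inv_inv]
  rw [hq2, hfirst, Nat.beq_refl, hp0, hr0, hP', hp3, hr3] at hY3
  have hM3 : sepM3 wk0 A B (cd y) (cd y') n (cd P1) (cd R1) = false :=
    sepM3_false hzj' hkinv hrel n _ _ hPR1
  have hM3' : sepM3 wk0 A B (cd y) (cd y') n (cd P0) (cd R0) = false :=
    sepM3_false hzj' hkinv hrel n _ _ hPR0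
  have hM3'' : sepM3 wk0 A B (cd y) (cd y') n (cd P3) (cd R3) = false :=
    sepM3_false hzj' hkinv hrel n _ _ hPR3
  rw [hM3, hM3', hM3''] at hY3
  simp only [Bool.not_true, Bool.false_or] at hY3
  have hJ := (allFold_eq_true _ _).mp hY3 j hj
  have hrel' : mkW ((T2 ++ T3) ++ kw j) * mkW B = mkW A * mkW ((T2 ++ T3) ++ kw j) := by
    rw [← hzj]; exact hrel
  have hF : Nat.beq (walkK wk0 6 (lle j) (cd ((rho (mkW (T2 ++ T3)))⁻¹ P1))) (cd R1) = true := by
    rw [walkK_eq]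
    show Nat.beq (wk0 (kw j) (cd ((rho (mkW (T2 ++ T3)))⁻¹ P1))) _ = true
    rw [wk0_cd, hzinv]
    exact Nat.beq_refl _
  have hL : sepL wk0 A B (T2 ++ T3) (kw j) n (cd P1) (cd R1) = false := by
    apply sepL_false hrel'
    rw [← hzj]
    exact hPR1
  have hE : eqL wk0 [T2 ++ T3, kw j, B] [A, T2 ++ T3, kw j] = true := by
    apply eqL_of_eq
    simp only [List.flatten_cons, List.flatten_nil, List.append_nil]
    rw [← List.append_assoc, mkW_append, mkW_append A]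
    exact hrel'
  unfold certJ at hJ
  rw [hF, hL, hE] at hJ
  simp only [Bool.not_true, Bool.false_or] at hJ
  rw [List.any_eq_true] at hJ
  obtain ⟨s, hs, hse⟩ := hJ
  refine ⟨s, hs, ?_⟩
  have h2 := eq_of_eqL hse
  simp only [List.flatten_cons, List.flatten_nil, List.append_nil] at h2
  rw [hzj]
  exact h2

end Cfsg.Agent.Lib.Helper96_SuzNorm
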