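import Cfsg.Agent.Lib.Helper96_SuzNormTab

set_option autoImplicit false

/-!
# The checks of the tables of `Helper96_SuzNormData` (helper96, for S2074)
-/

namespace Cfsg.Agent.Lib.Helper96_SuzNormChk

open Cfsg.Spor Cfsg.Agent.Lib.Helper28_CosetPerm Cfsg.Agent.Lib.Helper28_S1680
  Cfsg.Agent.Lib.Helper96_SuzNormDef Cfsg.Agent.Lib.Helper96_SuzNormData
  Cfsg.Agent.Lib.Helper96_SuzNormTab

theorem chk_mu3 : allFold (fun g => allFold (fun k =>
    Nat.beq (mu3 (wk1 (kgw g) (k * 15))) (mu3 (k * 15))) 1782) 8 = true := by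
  decide +kernel

theorem chk_mu2k : allFold (fun g => allFold (fun k =>
    Nat.beq (mu2 (wk1 (kgw g) (k * 15))) (mu2 (k * 15))) 1782) 8 = true := by
  decide +kernel

theorem chk_mu2j : allFold (fun g => allFold (fun k =>
    Nat.beq (mu2 (wk1 (jgw g) (k * 15))) (mu2 (k * 15))) 1782) 8 = true := by
  decide +kernel

theorem chk_kfix : allFold (fun g => Nat.beq (wk1 (kgw g) 0) 0 &&
    (Nat.beq (wk1 (kgw g) 14925) 14925 && Nat.beq (wk1 (kgw g) 2115) 2115)) 8 = true := by
  decide +kernel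

theorem chk_sig : allFold (fun j => Nat.blt (sig wk1 j) (sig wk1 (j + 1))) 575 = true := by
  decide +kernel

theorem chk_path2 : allFold (fun k => !(inY2 (k * 15)) ||
    (Nat.beq (walkP2 wk1 20 (k * 15) (k * 15)) 14925 &&
      Nat.beq (walkP2 wk1 20 (k * 15) 0) 0)) 1782 = true := by
  decide +kernel

theorem chk_path3 : allFold (fun k => !(inY3 (k * 15)) ||
    (Nat.beq (walkP3 wk1 16 (k * 15) (k * 15)) 2115 &&
      (Nat.beq (walkP3 wk1 16 (k * 15) 14925) 14925 &&
        Nat.beq (walkP3 wk1 16 (k * 15) 0) 0))) 1782 = true := by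
  decide +kernel

end Cfsg.Agent.Lib.Helper96_SuzNormChk
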