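import Cfsg.Agent.Lib.Helper96_SuzExact

set_option autoImplicit false
set_option linter.constructorNameAsVariable false

/-!
# Words of the Suzuki group and their comparison on 1782 points (helper96, for S2074)

A port of the basic part of `Helper56_HeNormDef` (helper56, for the Held group) to the sporadic
Suzuki group: elements are words in the seven generators, two words are compared by walking the
five base points `0, 995, 141, 3, 14` through the table of the action on 1782 points (faithful
by `Helper96_SuzSimple`, with trivial stabiliser of the five points by `Helper96_SuzExact`).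
-/

namespace Cfsg.Agent.Lib.Helper96_SuzNormDef

open Cfsg.Spor Cfsg.Agent.Lib.Helper28_CosetPerm Cfsg.Agent.Lib.Helper28_S1680
  Cfsg.Agent.Lib.Helper96_SuzLower Cfsg.Agent.Lib.Helper96_SuzSimple
  Cfsg.Agent.Lib.Helper96_SuzExact

/-- the relators of the Suzuki group -/
abbrev RELS : Set (FreeGroup Suz.Gen) := coxRelators Suz.edges ∪ {r | r ∈ Suz.extra}

/-- the Suzuki group -/
abbrev G : Type := Suz

instance finG : Finite G := suz_finite

/-- the action on 1782 points -/
noncomputable abbrev rho : G →* Equiv.Perm (Fin 1782) := ψ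

/-- the generators by number -/
def gn : ℕ → Suz.Gen
  | 0 => .a
  | 1 => .b
  | 2 => .c
  | 3 => .d
  | 4 => .e
  | 5 => .f
  | _ => .g

/-- words -/
abbrev Wd : Type := List (Suz.Gen × Bool)

/-- a positive word from the numbers of its letters -/
def lw (l : List ℕ) : Wd := l.map (fun i => (gn i, true))

/-- the element of a word -/
noncomputable def mkW (u : Wd) : G := PresentedGroup.mk RELS (FreeGroup.mk u)

theorem mkW_nil : mkW [] = 1 := rfl

theorem mkW_append (u v : Wd) : mkW (u ++ v) = mkW u * mkW v := by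
  unfold mkW
  rw [← map_mul]
  rfl

theorem mkW_inv (u : Wd) : (mkW u)⁻¹ = mkW (FreeGroup.invRev u) := by
  unfold mkW
  rw [← map_inv, FreeGroup.inv_mk]

theorem mkW_of (x : Suz.Gen) : mkW [(x, true)] = PresentedGroup.of x := rfl

/-- a kernel-friendly conjunction over `0, …, n - 1` -/
def allFold (f : ℕ → Bool) (n : ℕ) : Bool :=
  Nat.rec (motive := fun _ => Bool) true (fun k acc => f k && acc) n

theorem allFold_succ (f : ℕ → Bool) (n : ℕ) : allFold f (n + 1) = (f n && allFold f n) := rfl

theorem allFold_eq_true (f : ℕ → Bool) (n : ℕ) :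
    allFold f n = true ↔ ∀ k < n, f k = true := by
  induction n with
  | zero => simp [allFold]
  | succ n ih =>
    rw [allFold_succ, Bool.and_eq_true, ih]
    constructor
    · rintro ⟨h1, h2⟩ k hk
      by_cases hkn : k = n
      · subst hkn; exact h1
      · exact h2 k (by omega)
    · intro h
      exact ⟨h n (by omega), fun k hk => h k (by omega)⟩

theorem perm_inv_apply_self (f : Equiv.Perm (Fin 1782)) (x : Fin 1782) : f⁻¹ (f x) = x := by
  rw [Equiv.Perm.inv_def, Equiv.symm_apply_apply]

theorem perm_apply_inv_self (f : Equiv.Perm (Fin 1782)) (x : Fin 1782) : f (f⁻¹ x) = x := by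
  rw [Equiv.Perm.inv_def, Equiv.apply_symm_apply]

/-- the code of a point -/
def cd (k : Fin 1782) : ℕ := (k : ℕ) * 15

theorem cd_inj {k l : Fin 1782} (h : cd k = cd l) : k = l := by
  unfold cd at h
  exact Fin.ext (by omega)

theorem cd_b1 : cd b1 = 0 := rfl
theorem cd_b2 : cd b2 = 14925 := rfl
theorem cd_b3 : cd b3 = 2115 := rfl
theorem cd_b4 : cd b4 = 45 := rfl
theorem cd_b5 : cd b5 = 210 := rfl

/-- the walk computes the inverse of the action -/
theorem walk_rho (u : Wd) (k : Fin 1782) :
    walk 32767 col u (cd k) = cd ((rho (mkW u))⁻¹ k) :=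
  walk_fin verified.hv u k

/-! ### walkers -/

/-- a walk which the kernel evaluates faster -/
def walkR (cl : Suz.Gen → Bool → ℕ) (l : Wd) : ℕ → ℕ :=
  List.rec (motive := fun _ => ℕ → ℕ) (fun x => x)
    (fun p _ ih x => ih (nxt 32767 (cl p.1 p.2) x)) l

theorem walkR_eq (l : Wd) (x : ℕ) : walkR col l x = walk 32767 col l x := by
  induction l generalizing x with
  | nil => rfl
  | cons p l ih =>
    obtain ⟨a, b⟩ := p
    exact ih _

/-- walkers -/
abbrev Wk : Type := Wd → ℕ → ℕ

/-- the walker of the theory -/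
def wk0 : Wk := walk 32767 col

/-- the walker of the checks -/
def wk1 : Wk := walkR col

theorem wk1_eq : wk1 = wk0 := by
  funext l x
  exact walkR_eq l x

theorem wk0_nil (x : ℕ) : wk0 [] x = x := rfl

theorem wk0_append (u v : Wd) (x : ℕ) : wk0 (u ++ v) x = wk0 v (wk0 u x) :=
  walk_append 32767 col u v x

theorem wk0_cd (u : Wd) (k : Fin 1782) : wk0 u (cd k) = cd ((rho (mkW u))⁻¹ k) := walk_rho u k

/-- walk along a list of words -/
def walkL (wk : Wk) (ws : List Wd) (x : ℕ) : ℕ := ws.foldl (fun x w => wk w x) x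

theorem walkL_eq (ws : List Wd) (x : ℕ) : walkL wk0 ws x = wk0 ws.flatten x := by
  induction ws generalizing x with
  | nil => rfl
  | cons w ws ih =>
    show walkL wk0 ws (wk0 w x) = wk0 (w ++ ws.flatten) x
    rw [ih, wk0_append]

/-- the check that two lists of words describe the same element: the walks from the five base
points end at the same points -/
def eqL (wk : Wk) (u v : List Wd) : Bool :=
  Nat.beq (walkL wk u 210) (walkL wk v 210) && (Nat.beq (walkL wk u 45) (walkL wk v 45) &&
    (Nat.beq (walkL wk u 2115) (walkL wk v 2115) &&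
      (Nat.beq (walkL wk u 14925) (walkL wk v 14925) && Nat.beq (walkL wk u 0) (walkL wk v 0))))

theorem eqL_of_eq {u v : List Wd} (h : mkW u.flatten = mkW v.flatten) : eqL wk0 u v = true := by
  have e : ∀ k : Fin 1782, walkL wk0 u (cd k) = walkL wk0 v (cd k) := by
    intro k
    rw [walkL_eq, walkL_eq, wk0_cd, wk0_cd, h]
  unfold eqL
  rw [← cd_b5, ← cd_b4, ← cd_b3, ← cd_b2, ← cd_b1, e, e, e, e, e]
  simp [Nat.beq_refl]

/-- a word fixing the five base points is trivial -/
theorem mkW_eq_one_of_fix (u : Wd) (h1 : wk0 u (cd b1) = cd b1) (h2 : wk0 u (cd b2) = cd b2)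
    (h3 : wk0 u (cd b3) = cd b3) (h4 : wk0 u (cd b4) = cd b4) (h5 : wk0 u (cd b5) = cd b5) :
    mkW u = 1 := by
  have key : ∀ b : Fin 1782, wk0 u (cd b) = cd b → rho (mkW u) b = b := by
    intro b hb
    rw [wk0_cd] at hb
    have h := cd_inj hb
    have := congrArg (rho (mkW u)) h
    rw [perm_apply_inv_self] at this
    exact this.symm
  exact eq_one_of_fix (mkW u) (key b1 h1) (key b2 h2) (key b3 h3) (key b4 h4) (key b5 h5)

theorem eq_of_eqL {u v : List Wd} (h : eqL wk0 u v = true) : mkW u.flatten = mkW v.flatten := by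
  unfold eqL at h
  simp only [Bool.and_eq_true] at h
  obtain ⟨h5, h4, h3, h2, h1⟩ := h
  have key : ∀ k : Fin 1782, walkL wk0 u (cd k) = walkL wk0 v (cd k) →
      wk0 (u.flatten ++ FreeGroup.invRev v.flatten) (cd k) = cd k := by
    intro k hk
    rw [walkL_eq, walkL_eq] at hk
    rw [wk0_append, hk, ← wk0_append, wk0_cd, mkW_append, ← mkW_inv, mul_inv_cancel, map_one,
      inv_one]
    rfl
  have h1' := key b1 (Nat.eq_of_beq_eq_true h1)
  have h2' := key b2 (Nat.eq_of_beq_eq_true h2)
  have h3' := key b3 (Nat.eq_of_beq_eq_true h3)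
  have h4' := key b4 (Nat.eq_of_beq_eq_true h4)
  have h5' := key b5 (Nat.eq_of_beq_eq_true h5)
  have h0 := mkW_eq_one_of_fix _ h1' h2' h3' h4' h5'
  rw [mkW_append, ← mkW_inv] at h0
  exact mul_inv_eq_one.mp h0

/-- the same with the walker of the checks -/
theorem eqL1 {u v : List Wd} (h : eqL wk1 u v = true) : mkW u.flatten = mkW v.flatten := by
  rw [wk1_eq] at h
  exact eq_of_eqL h

theorem neL1 {u v : List Wd} (h : eqL wk1 u v = false) : mkW u.flatten ≠ mkW v.flatten := by
  intro he
  rw [wk1_eq, eqL_of_eq he] at h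
  exact Bool.noConfusion h

end Cfsg.Agent.Lib.Helper96_SuzNormDef
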