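import Cfsg.Agent.Lib.Helper96_SuzNormData

set_option autoImplicit false
set_option linter.constructorNameAsVariable false

/-!
# Conjugating elements in the Suzuki group: paths and the list of `K` (helper96, for S2074)

A port of the second part of `Helper56_HeNormDef` (helper56), with two levels of paths: a point
`y` of the orbit of `995` under the stabiliser `H` of `0` is led back to `995` by the word
`path2`, a point of the orbit of `141` under the stabiliser `J` of `0, 995` is led back to `141`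
by the word `path3`, and the stabiliser `K` of `0, 995, 141` has 576 elements `kw j`.
-/

namespace Cfsg.Agent.Lib.Helper96_SuzNormTab

open Cfsg.Spor Cfsg.Agent.Lib.Helper28_CosetPerm Cfsg.Agent.Lib.Helper28_S1680
  Cfsg.Agent.Lib.Helper96_SuzLower Cfsg.Agent.Lib.Helper96_SuzChain
  Cfsg.Agent.Lib.Helper96_SuzNormDef Cfsg.Agent.Lib.Helper96_SuzNormData

/-- the step table of the second level -/
def stp2 (x : ℕ) : ℕ := nxt 32767 STEP2 x

/-- the step table of the third level -/
def stp3 (x : ℕ) : ℕ := nxt 32767 STEP3 x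

/-- the orbit labels of `J` -/
def mu2 (x : ℕ) : ℕ := nxt 32767 MU2 x

/-- the orbit labels of `K` -/
def mu3 (x : ℕ) : ℕ := nxt 32767 MU3 x

/-- the generators of `H` -/
def hgw (i : ℕ) : Wd := hgl.getD i []

/-- the generators of `J` -/
def jgw (i : ℕ) : Wd := jgl.getD i []

/-- the generators of `K` -/
def kgw (i : ℕ) : Wd := kgl.getD i []

/-- the code of the `j`-th element of `K` -/
def lle (j : ℕ) : ℕ := Nat.land (Nat.shiftRight LL (Nat.mul j 32)) 4294967295

/-- the word of a code -/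
def kwd : ℕ → ℕ → Wd
  | 0, _ => []
  | f + 1, c => kgw (c % 8) ++ kwd f (c / 8)

/-- the word of the `j`-th element of `K` -/
def kw (j : ℕ) : Wd := kwd 6 (lle j)

/-- walk along the word of a code without building it -/
def walkK (wk : Wk) (f : ℕ) : ℕ → ℕ → ℕ :=
  Nat.rec (motive := fun _ => ℕ → ℕ → ℕ) (fun _ x => x)
    (fun _ ih c x => ih (c / 8) (wk (kgw (c % 8)) x)) f

theorem walkK_eq (f c x : ℕ) : walkK wk0 f c x = wk0 (kwd f c) x := by
  induction f generalizing c x with
  | zero => rfl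
  | succ f ih =>
    show walkK wk0 f (c / 8) (wk0 (kgw (c % 8)) x) = wk0 (kgw (c % 8) ++ kwd f (c / 8)) x
    rw [ih, wk0_append]

/-- the orbit of the point `995` under `H` -/
def inY2 (x : ℕ) : Bool := Nat.beq (nxt 32767 oid2 x) 1

/-- the orbit of the point `141` under `J` -/
def inY3 (x : ℕ) : Bool := Nat.beq (nxt 32767 oid3 x) 1

/-- the word leading back to the point `995` -/
def path2 : ℕ → ℕ → Wd
  | 0, _ => []
  | f + 1, x => cond (Nat.beq x 14925) [] (hgw (stp2 x) ++ path2 f (wk0 (hgw (stp2 x)) x))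

/-- the word leading back to the point `141` -/
def path3 : ℕ → ℕ → Wd
  | 0, _ => []
  | f + 1, x => cond (Nat.beq x 2115) [] (jgw (stp3 x) ++ path3 f (wk0 (jgw (stp3 x)) x))

/-- walk along the path without building it -/
def walkP2 (wk : Wk) (f : ℕ) : ℕ → ℕ → ℕ :=
  Nat.rec (motive := fun _ => ℕ → ℕ → ℕ) (fun _ p => p)
    (fun _ ih x p => cond (Nat.beq x 14925) p
      (ih (wk (hgw (stp2 x)) x) (wk (hgw (stp2 x)) p))) f

/-- walk along the path without building it -/
def walkP3 (wk : Wk) (f : ℕ) : ℕ → ℕ → ℕ :=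
  Nat.rec (motive := fun _ => ℕ → ℕ → ℕ) (fun _ p => p)
    (fun _ ih x p => cond (Nat.beq x 2115) p
      (ih (wk (jgw (stp3 x)) x) (wk (jgw (stp3 x)) p))) f

theorem walkP2_eq (f x p : ℕ) : walkP2 wk0 f x p = wk0 (path2 f x) p := by
  induction f generalizing x p with
  | zero => rfl
  | succ f ih =>
    show cond (Nat.beq x 14925) p (walkP2 wk0 f (wk0 (hgw (stp2 x)) x) (wk0 (hgw (stp2 x)) p)) =
      wk0 (cond (Nat.beq x 14925) [] (hgw (stp2 x) ++ path2 f (wk0 (hgw (stp2 x)) x))) p
    cases Nat.beq x 14925 with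
    | true => rfl
    | false =>
      show walkP2 wk0 f (wk0 (hgw (stp2 x)) x) (wk0 (hgw (stp2 x)) p) =
        wk0 (hgw (stp2 x) ++ path2 f (wk0 (hgw (stp2 x)) x)) p
      rw [ih, wk0_append]

theorem walkP3_eq (f x p : ℕ) : walkP3 wk0 f x p = wk0 (path3 f x) p := by
  induction f generalizing x p with
  | zero => rfl
  | succ f ih =>
    show cond (Nat.beq x 2115) p (walkP3 wk0 f (wk0 (jgw (stp3 x)) x) (wk0 (jgw (stp3 x)) p)) =
      wk0 (cond (Nat.beq x 2115) [] (jgw (stp3 x) ++ path3 f (wk0 (jgw (stp3 x)) x))) p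
    cases Nat.beq x 2115 with
    | true => rfl
    | false =>
      show walkP3 wk0 f (wk0 (jgw (stp3 x)) x) (wk0 (jgw (stp3 x)) p) =
        wk0 (jgw (stp3 x) ++ path3 f (wk0 (jgw (stp3 x)) x)) p
      rw [ih, wk0_append]

/-! ### invariance of labels -/

/-- a function on the codes of the points is invariant under a word -/
def Inv {α : Type} (φ : ℕ → α) (u : Wd) : Prop :=
  ∀ k : Fin 1782, φ (wk0 u (cd k)) = φ (cd k)

theorem Inv.nil {α : Type} (φ : ℕ → α) : Inv φ [] := fun _ => rfl

theorem Inv.append {α : Type} {φ : ℕ → α} {u v : Wd} (hu : Inv φ u) (hv : Inv φ v) :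
    Inv φ (u ++ v) := by
  intro k
  rw [wk0_append, wk0_cd u k, hv, ← wk0_cd, hu]

/-- a word fixes the points `0`, `995` and `141` -/
def Fx (u : Wd) : Prop := wk0 u 0 = 0 ∧ wk0 u 14925 = 14925 ∧ wk0 u 2115 = 2115

theorem Fx.nil : Fx [] := ⟨rfl, rfl, rfl⟩

theorem Fx.append {u v : Wd} (hu : Fx u) (hv : Fx v) : Fx (u ++ v) := by
  refine ⟨?_, ?_, ?_⟩
  · rw [wk0_append, hu.1, hv.1]
  · rw [wk0_append, hu.2.1, hv.2.1]
  · rw [wk0_append, hu.2.2, hv.2.2]

/-- the signature of the `j`-th element of `K` -/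
def sig (wk : Wk) (j : ℕ) : ℕ := walkK wk 6 (lle j) 45 * 65536 + walkK wk 6 (lle j) 210

end Cfsg.Agent.Lib.Helper96_SuzNormTab
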