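import Cfsg.Agent.Lib.Helper96_SuzSubDefs
import Cfsg.Agent.Lib.Helper96_SuzK1Upper
import Cfsg.Agent.Lib.Helper96_SuzK2Upper
import Cfsg.Agent.Lib.Helper96_SuzK3Upper
import Cfsg.Agent.Lib.Helper96_SuzK4Upper
import Cfsg.Agent.Lib.Helper96_S1680Upper

/-!
# The presented group Suz has at most 448345497600 elements (helper96)

Chain of coset enumerations over the sub-presentations: `1782 * 416 * 280 * 216 * 10`.
-/

set_option autoImplicit false

namespace Cfsg.Agent.Lib.Helper96_SuzOrderUpper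

open Cfsg.Spor Cfsg.Agent.Lib.Helper96_SubPres Cfsg.Agent.Lib.Helper96_SuzSub

theorem range4 : ({K3.a, K3.b} : Set (FreeGroup K3.Gen)) = Set.range (fun x : K4.Gen => FreeGroup.of (K4.ι x)) := by
  ext w
  simp only [Set.mem_insert_iff, Set.mem_singleton_iff, Set.mem_range]
  constructor
  · rintro (rfl | rfl)
    · exact ⟨.a, rfl⟩
    · exact ⟨.b, rfl⟩
  · rintro ⟨x, rfl⟩
    cases x
    · exact Or.inl rfl
    · exact Or.inr rfl

theorem range3 : ({K2.a, K2.b, K2.c, K2.d} : Set (FreeGroup K2.Gen)) = Set.range (fun x : K3.Gen => FreeGroup.of (K3.ι x)) := by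
  ext w
  simp only [Set.mem_insert_iff, Set.mem_singleton_iff, Set.mem_range]
  constructor
  · rintro (rfl | rfl | rfl | rfl)
    · exact ⟨.a, rfl⟩
    · exact ⟨.b, rfl⟩
    · exact ⟨.c, rfl⟩
    · exact ⟨.d, rfl⟩
  · rintro ⟨x, rfl⟩
    cases x
    · exact Or.inl rfl
    · exact Or.inr (Or.inl rfl)
    · exact Or.inr (Or.inr (Or.inl rfl))
    · exact Or.inr (Or.inr (Or.inr rfl))

theorem range2 : ({K1.a, K1.b, K1.c, K1.d, K1.e} : Set (FreeGroup K1.Gen)) = Set.range (fun x : K2.Gen => FreeGroup.of (K2.ι x)) := by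
  ext w
  simp only [Set.mem_insert_iff, Set.mem_singleton_iff, Set.mem_range]
  constructor
  · rintro (rfl | rfl | rfl | rfl | rfl)
    · exact ⟨.a, rfl⟩
    · exact ⟨.b, rfl⟩
    · exact ⟨.c, rfl⟩
    · exact ⟨.d, rfl⟩
    · exact ⟨.e, rfl⟩
  · rintro ⟨x, rfl⟩
    cases x
    · exact Or.inl rfl
    · exact Or.inr (Or.inl rfl)
    · exact Or.inr (Or.inr (Or.inl rfl))
    · exact Or.inr (Or.inr (Or.inr (Or.inl rfl)))
    · exact Or.inr (Or.inr (Or.inr (Or.inr rfl)))

theorem range1 : ({Suz.a, Suz.b, Suz.c, Suz.d, Suz.e, Suz.f} : Set (FreeGroup Suz.Gen)) = Set.range (fun x : K1.Gen => FreeGroup.of (K1.ι x)) := by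
  ext w
  simp only [Set.mem_insert_iff, Set.mem_singleton_iff, Set.mem_range]
  constructor
  · rintro (rfl | rfl | rfl | rfl | rfl | rfl)
    · exact ⟨.a, rfl⟩
    · exact ⟨.b, rfl⟩
    · exact ⟨.c, rfl⟩
    · exact ⟨.d, rfl⟩
    · exact ⟨.e, rfl⟩
    · exact ⟨.f, rfl⟩
  · rintro ⟨x, rfl⟩
    cases x
    · exact Or.inl rfl
    · exact Or.inr (Or.inl rfl)
    · exact Or.inr (Or.inr (Or.inl rfl))
    · exact Or.inr (Or.inr (Or.inr (Or.inl rfl)))
    · exact Or.inr (Or.inr (Or.inr (Or.inr (Or.inl rfl))))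
    · exact Or.inr (Or.inr (Or.inr (Or.inr (Or.inr rfl))))

theorem card4 : Finite (CoxPresented K4.Gen K4.edges K4.extra) ∧ Nat.card (CoxPresented K4.Gen K4.edges K4.extra) ≤ 10 := by
  have h := Cfsg.Agent.Lib.Helper96_SuzK4Upper.upper
  rw [Subgroup.closure_empty, Subgroup.map_bot] at h
  exact card_le_of_bot_index 10 h.1 h.2

theorem card3 : Finite (CoxPresented K3.Gen K3.edges K3.extra) ∧ Nat.card (CoxPresented K3.Gen K3.edges K3.extra) ≤ 216 * 10 := by
  have h := Cfsg.Agent.Lib.Helper96_SuzK3Upper.upper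
  exact card_le_of_index _ (subHom ok4) (subHom_range ok4 _ range4) 216 10 h.1 h.2 card4.1 card4.2

theorem card2 : Finite (CoxPresented K2.Gen K2.edges K2.extra) ∧ Nat.card (CoxPresented K2.Gen K2.edges K2.extra) ≤ 280 * (216 * 10) := by
  have h := Cfsg.Agent.Lib.Helper96_SuzK2Upper.upper
  exact card_le_of_index _ (subHom ok3) (subHom_range ok3 _ range3) 280 _ h.1 h.2 card3.1 card3.2

theorem card1 : Finite (CoxPresented K1.Gen K1.edges K1.extra) ∧ Nat.card (CoxPresented K1.Gen K1.edges K1.extra) ≤ 416 * (280 * (216 * 10)) := by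
  have h := Cfsg.Agent.Lib.Helper96_SuzK1Upper.upper
  exact card_le_of_index _ (subHom ok2) (subHom_range ok2 _ range2) 416 _ h.1 h.2 card2.1 card2.2

/-- the presented group Suz is finite with at most 448345497600 elements -/
theorem suz_card_le : Finite Suz ∧ Nat.card Suz ≤ 448345497600 := by
  have h := Cfsg.Agent.Lib.Helper96_S1680Upper.upper
  have h2 := card_le_of_index _ (subHom ok1) (subHom_range ok1 _ range1) 1782 _ h.1 h.2 card1.1 card1.2
  exact h2

end Cfsg.Agent.Lib.Helper96_SuzOrderUpper
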