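import Mathlib
import Cfsg.Agent.Lib.Helper98_AschDefs
import Cfsg.Agent.Lib.Helper98_AschMain
import Cfsg.Agent.Lib.Helper23_FormDefs
import Cfsg.Agent.Lib.Helper97_SUDefs
import Cfsg.Agent.Lib.Helper52_Form_F4
import Cfsg.Agent.Lib.Helper10_AschSU_UP4F
import Cfsg.Agent.Lib.Helper87_AschSU_UPH
import Cfsg.Agent.Lib.Helper49_AschSU_UP4e
import Cfsg.Agent.Lib.Helper87_AschSU_UP4fB
import Cfsg.Agent.Lib.Helper97_AschSU_UP4fC
import Cfsg.Agent.Lib.Helper97_AschSU_UP4fE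

/-!
# S5663, package UP4f (helper97's parallel assembly): the tensor algebra `M_3 ⊗ 1` in dimension 9 over
the field with 4 elements puts `H` into class 6 (or 2, 3).

`C₁ := GU ⊓ C(C(A))`, `C₂ := GU ⊓ C(A)`; minimal normalized non-scalar subgroups `X_i ≤ C_i`
(`exists_factor`), both of class two and exponent 3 (`UP4fB`), commuting; `UP4fE` finishes.
-/

set_option autoImplicit false
set_option linter.unusedVariables false
set_option linter.unusedSectionVars false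
set_option linter.style.haveILetI false

namespace Cfsg.Agent.Lib.Helper97_AschSU_UP4fG

open Cfsg Cfsg.Geo Matrix Cfsg.Agent.Lib.Helper98_AschDefs Cfsg.Agent.Lib.Helper23_FormDefs
open Cfsg.Agent.Lib.Helper97_SUDefs Cfsg.Agent.Lib Cfsg.Agent.Lib.Helper98_AschMain
open Cfsg.Agent.Lib.Helper49_AschSU_UP4e
open scoped Kronecker

variable {F : Type*} [Field F]

section cent

variable {ι : Type} [Fintype ι] [DecidableEq ι]

/-- the matrices commuting with all of `S` -/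
def commSet (S : Set (Matrix ι ι F)) : Set (Matrix ι ι F) := {b | ∀ a ∈ S, b * a = a * b}

/-- the invertible matrices commuting with all of `S` -/
def centGrp (S : Set (Matrix ι ι F)) : Subgroup (GL ι F) where
  carrier := {g | ∀ a ∈ S, (g : Matrix ι ι F) * a = a * (g : Matrix ι ι F)}
  one_mem' := by
    intro a _
    rw [Units.val_one, Matrix.one_mul, Matrix.mul_one]
  mul_mem' := by
    intro g h hg hh a ha
    rw [Units.val_mul, Matrix.mul_assoc, hh a ha, ← Matrix.mul_assoc, hg a ha, Matrix.mul_assoc]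
  inv_mem' := by
    intro g hg a ha
    have h1 : ((g⁻¹ : GL ι F) : Matrix ι ι F) * (g : Matrix ι ι F) = 1 := by
      rw [← Units.val_mul, inv_mul_cancel, Units.val_one]
    have h2 : (g : Matrix ι ι F) * ((g⁻¹ : GL ι F) : Matrix ι ι F) = 1 := by
      rw [← Units.val_mul, mul_inv_cancel, Units.val_one]
    calc ((g⁻¹ : GL ι F) : Matrix ι ι F) * a
        = ((g⁻¹ : GL ι F) : Matrix ι ι F) * a * ((g : Matrix ι ι F) * ((g⁻¹ : GL ι F) : Matrix ι ι F)) := by
          rw [h2, Matrix.mul_one]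
      _ = ((g⁻¹ : GL ι F) : Matrix ι ι F) * (a * (g : Matrix ι ι F)) * ((g⁻¹ : GL ι F) : Matrix ι ι F) := by
          simp only [Matrix.mul_assoc]
      _ = ((g⁻¹ : GL ι F) : Matrix ι ι F) * ((g : Matrix ι ι F) * a) * ((g⁻¹ : GL ι F) : Matrix ι ι F) := by
          rw [hg a ha]
      _ = (((g⁻¹ : GL ι F) : Matrix ι ι F) * (g : Matrix ι ι F)) * a * ((g⁻¹ : GL ι F) : Matrix ι ι F) := by
          simp only [Matrix.mul_assoc]
      _ = a * ((g⁻¹ : GL ι F) : Matrix ι ι F) := by rw [h1, Matrix.one_mul]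

lemma mem_centGrp {S : Set (Matrix ι ι F)} {g : GL ι F} :
    g ∈ centGrp S ↔ ∀ a ∈ S, (g : Matrix ι ι F) * a = a * (g : Matrix ι ι F) := Iff.rfl

/-- `H` normalizes the set `S` of matrices -/
def NormSet (H : Subgroup (GL ι F)) (S : Set (Matrix ι ι F)) : Prop :=
  ∀ h ∈ H, ∀ a ∈ S, (h : Matrix ι ι F) * a * ((h⁻¹ : GL ι F) : Matrix ι ι F) ∈ S

lemma conj_comm_iff (h : GL ι F) (a b : Matrix ι ι F)
    (hab : b * (((h⁻¹ : GL ι F) : Matrix ι ι F) * a * (h : Matrix ι ι F)) =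
      (((h⁻¹ : GL ι F) : Matrix ι ι F) * a * (h : Matrix ι ι F)) * b) :
    ((h : Matrix ι ι F) * b * ((h⁻¹ : GL ι F) : Matrix ι ι F)) * a =
      a * ((h : Matrix ι ι F) * b * ((h⁻¹ : GL ι F) : Matrix ι ι F)) := by
  have h1 : ((h⁻¹ : GL ι F) : Matrix ι ι F) * (h : Matrix ι ι F) = 1 := by
    rw [← Units.val_mul, inv_mul_cancel, Units.val_one]
  have h2 : (h : Matrix ι ι F) * ((h⁻¹ : GL ι F) : Matrix ι ι F) = 1 := by
    rw [← Units.val_mul, mul_inv_cancel, Units.val_one]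
  calc ((h : Matrix ι ι F) * b * ((h⁻¹ : GL ι F) : Matrix ι ι F)) * a
      = (h : Matrix ι ι F) * b * ((h⁻¹ : GL ι F) : Matrix ι ι F) * a *
          ((h : Matrix ι ι F) * ((h⁻¹ : GL ι F) : Matrix ι ι F)) := by rw [h2, Matrix.mul_one]
    _ = (h : Matrix ι ι F) * (b * (((h⁻¹ : GL ι F) : Matrix ι ι F) * a * (h : Matrix ι ι F))) *
          ((h⁻¹ : GL ι F) : Matrix ι ι F) := by simp only [Matrix.mul_assoc]
    _ = (h : Matrix ι ι F) * ((((h⁻¹ : GL ι F) : Matrix ι ι F) * a * (h : Matrix ι ι F)) * b) *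
          ((h⁻¹ : GL ι F) : Matrix ι ι F) := by rw [hab]
    _ = ((h : Matrix ι ι F) * ((h⁻¹ : GL ι F) : Matrix ι ι F)) * a *
          ((h : Matrix ι ι F) * b * ((h⁻¹ : GL ι F) : Matrix ι ι F)) := by simp only [Matrix.mul_assoc]
    _ = a * ((h : Matrix ι ι F) * b * ((h⁻¹ : GL ι F) : Matrix ι ι F)) := by rw [h2, Matrix.one_mul]

lemma normSet_inv {H : Subgroup (GL ι F)} {S : Set (Matrix ι ι F)} (hS : NormSet H S)
    {h : GL ι F} (hh : h ∈ H) {a : Matrix ι ι F} (ha : a ∈ S) :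
    ((h⁻¹ : GL ι F) : Matrix ι ι F) * a * (h : Matrix ι ι F) ∈ S := by
  have := hS h⁻¹ (H.inv_mem hh) a ha
  rwa [inv_inv] at this

lemma normSet_commSet {H : Subgroup (GL ι F)} {S : Set (Matrix ι ι F)} (hS : NormSet H S) :
    NormSet H (commSet S) := by
  intro h hh b hb a ha
  exact conj_comm_iff h a b (hb _ (normSet_inv hS hh ha))

lemma normalizesGrp_centGrp {H : Subgroup (GL ι F)} {S : Set (Matrix ι ι F)} (hS : NormSet H S) :
    NormalizesGrp H (centGrp S) := by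
  intro h hh g hg a ha
  rw [Units.val_mul, Units.val_mul]
  exact conj_comm_iff h a g (hg _ (normSet_inv hS hh ha))

lemma normalizesGrp_inf {H K L : Subgroup (GL ι F)} (hK : NormalizesGrp H K) (hL : NormalizesGrp H L) :
    NormalizesGrp H (K ⊓ L) := by
  intro h hh x hx
  exact ⟨hK h hh x hx.1, hL h hh x hx.2⟩

lemma normalizesGrp_of_le {H K : Subgroup (GL ι F)} (hHK : H ≤ K) : NormalizesGrp H K := by
  intro h hh x hx
  exact K.mul_mem (K.mul_mem (hHK hh) hx) (K.inv_mem (hHK hh))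

end cent

section theta

variable {n d s : ℕ} (e : Fin n ≃ Fin d × Fin s) (P : GL (Fin n) F)

lemma Xi_inj {M M' : Matrix (Fin d × Fin s) (Fin d × Fin s) F} (h : Xi e P M = Xi e P M') : M = M' := by
  rw [Xi_apply, Xi_apply] at h
  have h1 : ((P⁻¹ : GL (Fin n) F) : Matrix (Fin n) (Fin n) F) * (P : Matrix (Fin n) (Fin n) F) = 1 := by
    rw [← Units.val_mul, inv_mul_cancel, Units.val_one]
  have h2 : ∀ X : Matrix (Fin n) (Fin n) F,
      ((P⁻¹ : GL (Fin n) F) : Matrix (Fin n) (Fin n) F) *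
        ((P : Matrix (Fin n) (Fin n) F) * X * ((P⁻¹ : GL (Fin n) F) : Matrix (Fin n) (Fin n) F)) *
        (P : Matrix (Fin n) (Fin n) F) = X := by
    intro X
    calc _ = (((P⁻¹ : GL (Fin n) F) : Matrix (Fin n) (Fin n) F) * (P : Matrix (Fin n) (Fin n) F)) * X *
          (((P⁻¹ : GL (Fin n) F) : Matrix (Fin n) (Fin n) F) * (P : Matrix (Fin n) (Fin n) F)) := by
          simp only [Matrix.mul_assoc]
      _ = X := by rw [h1, Matrix.one_mul, Matrix.mul_one]
  have h3 := congrArg (fun X => ((P⁻¹ : GL (Fin n) F) : Matrix (Fin n) (Fin n) F) * X *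
    (P : Matrix (Fin n) (Fin n) F)) h
  simp only [h2] at h3
  exact (Matrix.reindex e.symm e.symm).injective h3

lemma Xi_one : Xi e P (1 : Matrix (Fin d × Fin s) (Fin d × Fin s) F) = 1 := by
  rw [Xi_apply]
  have : Matrix.reindex e.symm e.symm (1 : Matrix (Fin d × Fin s) (Fin d × Fin s) F) = 1 := by
    ext i j
    simp [Matrix.one_apply]
  rw [this, Matrix.mul_one, ← Units.val_mul, mul_inv_cancel, Units.val_one]

lemma Xi_mul (M M' : Matrix (Fin d × Fin s) (Fin d × Fin s) F) :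
    Xi e P (M * M') = Xi e P M * Xi e P M' := by
  rw [Xi_apply, Xi_apply, Xi_apply]
  have h1 : ((P⁻¹ : GL (Fin n) F) : Matrix (Fin n) (Fin n) F) * (P : Matrix (Fin n) (Fin n) F) = 1 := by
    rw [← Units.val_mul, inv_mul_cancel, Units.val_one]
  have h2 : Matrix.reindex e.symm e.symm (M * M') =
      Matrix.reindex e.symm e.symm M * Matrix.reindex e.symm e.symm M' := by
    simp only [Matrix.reindex_apply]
    rw [Matrix.submatrix_mul_equiv]
  rw [h2]
  calc (P : Matrix (Fin n) (Fin n) F) * (Matrix.reindex e.symm e.symm M * Matrix.reindex e.symm e.symm M') *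
        ((P⁻¹ : GL (Fin n) F) : Matrix (Fin n) (Fin n) F)
      = (P : Matrix (Fin n) (Fin n) F) * Matrix.reindex e.symm e.symm M * 1 *
        Matrix.reindex e.symm e.symm M' * ((P⁻¹ : GL (Fin n) F) : Matrix (Fin n) (Fin n) F) := by
        rw [Matrix.mul_one]
        simp only [Matrix.mul_assoc]
    _ = _ := by
        rw [← h1]
        simp only [Matrix.mul_assoc]

/-- membership in a tensor algebra through `Xi` -/
lemma mem_tensorAlg_iff {A : Subalgebra F (Matrix (Fin n) (Fin n) F)} (hT : IsTensorAlg A d s e P)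
    (a : Matrix (Fin n) (Fin n) F) :
    a ∈ A ↔ ∃ M : Matrix (Fin d) (Fin d) F, a = Xi e P (M ⊗ₖ (1 : Matrix (Fin s) (Fin s) F)) :=
  hT a

/-- `P (1 ⊗ b) P⁻¹` commutes with the tensor algebra -/
lemma Xi_one_kron_comm {A : Subalgebra F (Matrix (Fin n) (Fin n) F)} (hT : IsTensorAlg A d s e P)
    (b : Matrix (Fin s) (Fin s) F) :
    Xi e P ((1 : Matrix (Fin d) (Fin d) F) ⊗ₖ b) ∈ commSet (A : Set (Matrix (Fin n) (Fin n) F)) := by
  intro a ha
  obtain ⟨M, rfl⟩ := (mem_tensorAlg_iff e P hT a).1 ha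
  rw [← Xi_mul, ← Xi_mul, ← Matrix.mul_kronecker_mul, ← Matrix.mul_kronecker_mul, Matrix.one_mul,
    Matrix.mul_one, Matrix.one_mul, Matrix.mul_one]

/-- a non-scalar first factor gives a non-scalar matrix -/
lemma Xi_kron_one_ne (hs : 0 < s) (a : Matrix (Fin d) (Fin d) F)
    (ha : ∀ c : F, a ≠ c • (1 : Matrix (Fin d) (Fin d) F)) (c : F) :
    Xi e P (a ⊗ₖ (1 : Matrix (Fin s) (Fin s) F)) ≠ c • (1 : Matrix (Fin n) (Fin n) F) := by
  intro h
  have h1 : Xi e P (a ⊗ₖ (1 : Matrix (Fin s) (Fin s) F)) =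
      Xi e P (c • (1 : Matrix (Fin d × Fin s) (Fin d × Fin s) F)) := by
    rw [h, map_smul, Xi_one]
  have h2 := Xi_inj e P h1
  apply ha c
  ext i j
  have h3 := congrFun (congrFun h2 (i, ⟨0, hs⟩)) (j, ⟨0, hs⟩)
  simp only [Matrix.kroneckerMap_apply, Matrix.one_apply_eq, mul_one, Matrix.smul_apply,
    Matrix.one_apply, Prod.mk.injEq, and_true, smul_eq_mul] at h3
  rw [h3]
  simp [Matrix.one_apply]

/-- a non-scalar second factor gives a non-scalar matrix -/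
lemma Xi_one_kron_ne (hd : 0 < d) (b : Matrix (Fin s) (Fin s) F)
    (hb : ∀ c : F, b ≠ c • (1 : Matrix (Fin s) (Fin s) F)) (c : F) :
    Xi e P ((1 : Matrix (Fin d) (Fin d) F) ⊗ₖ b) ≠ c • (1 : Matrix (Fin n) (Fin n) F) := by
  intro h
  have h1 : Xi e P ((1 : Matrix (Fin d) (Fin d) F) ⊗ₖ b) =
      Xi e P (c • (1 : Matrix (Fin d × Fin s) (Fin d × Fin s) F)) := by
    rw [h, map_smul, Xi_one]
  have h2 := Xi_inj e P h1
  apply hb c
  ext i j
  have h3 := congrFun (congrFun h2 (⟨0, hd⟩, i)) (⟨0, hd⟩, j)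
  simp only [Matrix.kroneckerMap_apply, Matrix.one_apply_eq, one_mul, Matrix.smul_apply,
    Matrix.one_apply, Prod.mk.injEq, true_and, smul_eq_mul] at h3
  rw [h3]
  simp [Matrix.one_apply]

end theta

section isom

variable [Fintype F] {q : ℕ}

/-- the coordinate swap is an isometry of the standard hermitian form -/
lemma swap_isom (d : ℕ) (i j : Fin d) (u v : Fin d → F) :
    hermForm d F q ((Equiv.swap i j).toPEquiv.toMatrix *ᵥ u) ((Equiv.swap i j).toPEquiv.toMatrix *ᵥ v) =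
      hermForm d F q u v := by
  unfold hermForm
  rw [PEquiv.toMatrix_toPEquiv_mulVec, PEquiv.toMatrix_toPEquiv_mulVec]
  exact Equiv.sum_comp (Equiv.swap i j) (fun k => u k * v k ^ q)

/-- a non-scalar isometry of a unitary form in dimension at least 2 -/
lemma exists_nonscalar_isom (hF : Fintype.card F = q ^ 2) (d : ℕ) (hd : 2 ≤ d)
    (f₁ : (Fin d → F) → (Fin d → F) → F) (hf₁ : IsUnitaryFormPow q f₁) :
    ∃ a : GL (Fin d) F,
      (∀ u v, f₁ ((a : Matrix (Fin d) (Fin d) F) *ᵥ u) ((a : Matrix (Fin d) (Fin d) F) *ᵥ v) = f₁ u v) ∧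
      ∀ c : F, (a : Matrix (Fin d) (Fin d) F) ≠ c • (1 : Matrix (Fin d) (Fin d) F) := by
  obtain ⟨B, hB⟩ := Cfsg.Agent.Lib.Helper87_AschSU_UPH.UPH q hF d f₁ hf₁
  set i0 : Fin d := ⟨0, by omega⟩ with hi0
  set i1 : Fin d := ⟨1, by omega⟩ with hi1
  have h01 : i0 ≠ i1 := by
    intro h
    have := congrArg Fin.val h
    simp [hi0, hi1] at this
  set S : Matrix (Fin d) (Fin d) F := (Equiv.swap i0 i1).toPEquiv.toMatrix with hS
  have hSS : S * S = 1 := by
    rw [hS, ← PEquiv.toMatrix_trans, ← Equiv.toPEquiv_trans]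
    have : (Equiv.swap i0 i1).trans (Equiv.swap i0 i1) = Equiv.refl _ := by
      ext x
      simp
    rw [this, Equiv.toPEquiv_refl, PEquiv.toMatrix_refl]
  set σ : GL (Fin d) F := ⟨S, S, hSS, hSS⟩ with hσ
  have hmul : (B : Matrix (Fin d) (Fin d) F) * ((B⁻¹ : GL (Fin d) F) : Matrix (Fin d) (Fin d) F) = 1 := by
    rw [← Units.val_mul, mul_inv_cancel, Units.val_one]
  have hmul' : ((B⁻¹ : GL (Fin d) F) : Matrix (Fin d) (Fin d) F) * (B : Matrix (Fin d) (Fin d) F) = 1 := by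
    rw [← Units.val_mul, inv_mul_cancel, Units.val_one]
  refine ⟨B * σ * B⁻¹, fun u v => ?_, fun c h => ?_⟩
  · rw [Units.val_mul, Units.val_mul, ← Matrix.mulVec_mulVec, ← Matrix.mulVec_mulVec,
      ← Matrix.mulVec_mulVec, ← Matrix.mulVec_mulVec, hB]
    change hermForm d F q (S *ᵥ _) (S *ᵥ _) = _
    rw [hS, swap_isom, ← hB, Matrix.mulVec_mulVec,
      Matrix.mulVec_mulVec, hmul, Matrix.one_mulVec, Matrix.one_mulVec]
  · rw [Units.val_mul, Units.val_mul] at h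
    have h1 : S = c • (1 : Matrix (Fin d) (Fin d) F) := by
      have h2 := congrArg (fun X => ((B⁻¹ : GL (Fin d) F) : Matrix (Fin d) (Fin d) F) * X *
        (B : Matrix (Fin d) (Fin d) F)) h
      beta_reduce at h2
      have h3 : ((B⁻¹ : GL (Fin d) F) : Matrix (Fin d) (Fin d) F) *
          ((B : Matrix (Fin d) (Fin d) F) * (σ : Matrix (Fin d) (Fin d) F) *
            ((B⁻¹ : GL (Fin d) F) : Matrix (Fin d) (Fin d) F)) * (B : Matrix (Fin d) (Fin d) F) = S := by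
        calc _ = (((B⁻¹ : GL (Fin d) F) : Matrix (Fin d) (Fin d) F) * (B : Matrix (Fin d) (Fin d) F)) *
              (σ : Matrix (Fin d) (Fin d) F) *
              (((B⁻¹ : GL (Fin d) F) : Matrix (Fin d) (Fin d) F) * (B : Matrix (Fin d) (Fin d) F)) := by
              simp only [Matrix.mul_assoc]
          _ = S := by rw [hmul', Matrix.one_mul, Matrix.mul_one]
      rw [h3, Matrix.mul_smul, Matrix.smul_mul, Matrix.mul_one, hmul'] at h2
      exact h2
    have e1 := congrFun (congrFun h1 i0) i0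
    have e2 := congrFun (congrFun h1 i0) i1
    rw [hS] at e1 e2
    simp only [PEquiv.toMatrix_apply, Equiv.toPEquiv_apply, Equiv.swap_apply_left,
      Matrix.smul_apply, Matrix.one_apply_eq, smul_eq_mul, mul_one, Matrix.one_apply_ne h01,
      mul_zero, Option.mem_def, Option.some.injEq] at e1 e2
    simp [h01.symm] at e1
    simp at e2

end isom

section main

open Cfsg.Agent.Lib.Helper34_OrthOdd_OP4b

/-- **UP4f**: the tensor algebra `M_3 ⊗ 1` in dimension 9 over the field with 4 elements: class 6 (or 2, 3) -/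
theorem UP4f [Fintype F] (n : ℕ) (hF : Fintype.card F = 2 ^ 2) (hn : 3 ≤ n)
    (H : Subgroup (GL (Fin n) F)) (hH : H ≤ GU n F 2) (hirr : ActsIrreducibly (matrixSet H))
    (A : Subalgebra F (Matrix (Fin n) (Fin n) F)) (hA : NormalizesAlg H A)
    (hadj : IsAdjointClosedFor (hermForm n F 2) A)
    (e : Fin n ≃ Fin 3 × Fin 3) (P : GL (Fin n) F) (hT : IsTensorAlg A 3 3 e P) :
    InSUClass n 2 H := by
  classical
  obtain ⟨G₁, G₂, hG₁, hG₂, hG⟩ := Cfsg.Agent.Lib.Helper52_Form_F4.F4 (sigmaQ hF) (hermForm n F 2)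
    (isSesq_hermForm n hF) (hermForm_nondegenerate n hF) A hadj 3 3 e P hT
  obtain ⟨f₁, f₂, hf₁, hf₂, hten⟩ := Cfsg.Agent.Lib.Helper10_AschSU_UP4F.UP4F n 2 hF 3 3
    (by norm_num) (by norm_num) e P G₁ G₂ hG₁ hG₂ hG
  obtain ⟨a, ha, hans⟩ := exists_nonscalar_isom hF 3 (by norm_num) f₁ hf₁
  obtain ⟨b, hb, hbns⟩ := exists_nonscalar_isom hF 3 (by norm_num) f₂ hf₂
  -- the two elements
  have hone : ∀ (k : ℕ) (f : (Fin k → F) → (Fin k → F) → F) (u v : Fin k → F),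
      f (((1 : GL (Fin k) F) : Matrix (Fin k) (Fin k) F) *ᵥ u)
        (((1 : GL (Fin k) F) : Matrix (Fin k) (Fin k) F) *ᵥ v) = 1 * f u v := by
    intro k f u v
    rw [Units.val_one, Matrix.one_mulVec, Matrix.one_mulVec, one_mul]
  have hg₁GU : Theta e P a 1 ∈ GU n F 2 := by
    rw [Theta_mem_GU_iff e P f₁ f₂ hten]
    intro x y
    rw [Phi_simil hF f₁ f₂ hf₁ hf₂ _ _ 1 1 (fun u v => by rw [one_mul]; exact ha u v)
      (hone 3 f₂), mul_one, one_mul]
  have hg₂GU : Theta e P 1 b ∈ GU n F 2 := by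
    rw [Theta_mem_GU_iff e P f₁ f₂ hten]
    intro x y
    rw [Phi_simil hF f₁ f₂ hf₁ hf₂ _ _ 1 1 (hone 3 f₁)
      (fun u v => by rw [one_mul]; exact hb u v), mul_one, one_mul]
  have hg₁A : ((Theta e P a 1 : GL (Fin n) F) : Matrix (Fin n) (Fin n) F) ∈ A := by
    rw [Theta_val, Units.val_one]
    exact (mem_tensorAlg_iff e P hT _).2 ⟨_, rfl⟩
  have hg₂C : ((Theta e P 1 b : GL (Fin n) F) : Matrix (Fin n) (Fin n) F) ∈
      commSet (A : Set (Matrix (Fin n) (Fin n) F)) := by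
    rw [Theta_val, Units.val_one]
    exact Xi_one_kron_comm e P hT _
  have hg₁ns : ∀ c : F, ((Theta e P a 1 : GL (Fin n) F) : Matrix (Fin n) (Fin n) F) ≠
      c • (1 : Matrix (Fin n) (Fin n) F) := by
    intro c
    rw [Theta_val, Units.val_one]
    exact Xi_kron_one_ne e P (by norm_num) _ hans c
  have hg₂ns : ∀ c : F, ((Theta e P 1 b : GL (Fin n) F) : Matrix (Fin n) (Fin n) F) ≠
      c • (1 : Matrix (Fin n) (Fin n) F) := by
    intro c
    rw [Theta_val, Units.val_one]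
    exact Xi_one_kron_ne e P (by norm_num) _ hbns c
  -- the two groups
  have hAS : NormSet H (A : Set (Matrix (Fin n) (Fin n) F)) := hA
  set C₁ : Subgroup (GL (Fin n) F) :=
    GU n F 2 ⊓ centGrp (commSet (A : Set (Matrix (Fin n) (Fin n) F))) with hC₁
  set C₂ : Subgroup (GL (Fin n) F) := GU n F 2 ⊓ centGrp (A : Set (Matrix (Fin n) (Fin n) F)) with hC₂
  have hC₁n : NormalizesGrp H C₁ :=
    normalizesGrp_inf (normalizesGrp_of_le hH) (normalizesGrp_centGrp (normSet_commSet hAS))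
  have hC₂n : NormalizesGrp H C₂ :=
    normalizesGrp_inf (normalizesGrp_of_le hH) (normalizesGrp_centGrp hAS)
  have hg₁C₁ : Theta e P a 1 ∈ C₁ := by
    refine ⟨hg₁GU, ?_⟩
    intro c hc
    exact (hc _ hg₁A).symm
  have hg₂C₂ : Theta e P 1 b ∈ C₂ := by
    refine ⟨hg₂GU, ?_⟩
    intro c hc
    exact hg₂C c hc
  have hC₁Z : ¬ C₁ ≤ scalars (Fin n) F := by
    intro h
    obtain ⟨c, hc⟩ := (mem_scalars_iff _).1 (h hg₁C₁)
    exact hg₁ns c hc
  have hC₂Z : ¬ C₂ ≤ scalars (Fin n) F := by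
    intro h
    obtain ⟨c, hc⟩ := (mem_scalars_iff _).1 (h hg₂C₂)
    exact hg₂ns c hc
  rcases Helper97_AschSU_UP4fC.exists_factor n hF hn H hH hirr C₁ inf_le_left hC₁n hC₁Z e
    ⟨_, fun c hc => hc.2 _ hg₂C, fun x => hg₂ns x⟩ with h | ⟨X₁, e₁, P₁, hX₁C, hX₁n, hX₁Z, hX₁min, hT₁⟩
  · exact h
  rcases Helper97_AschSU_UP4fC.exists_factor n hF hn H hH hirr C₂ inf_le_left hC₂n hC₂Z e
    ⟨_, fun c hc => hc.2 _ hg₁A, fun x => hg₁ns x⟩ with h | ⟨X₂, e₂, P₂, hX₂C, hX₂n, hX₂Z, hX₂min, hT₂⟩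
  · exact h
  obtain ⟨hc₁, hexp₁⟩ := Cfsg.Agent.Lib.Helper87_AschSU_UP4fB.UP4fB n hF H X₁ (hX₁C.trans inf_le_left)
    hX₁n hX₁Z hX₁min e₁ P₁ hT₁
  obtain ⟨hc₂, hexp₂⟩ := Cfsg.Agent.Lib.Helper87_AschSU_UP4fB.UP4fB n hF H X₂ (hX₂C.trans inf_le_left)
    hX₂n hX₂Z hX₂min e₂ P₂ hT₂
  have hcomm : ∀ x ∈ X₁, ∀ y ∈ X₂, x * y = y * x := by
    intro x hx y hy
    have hyc : (y : Matrix (Fin n) (Fin n) F) ∈ commSet (A : Set (Matrix (Fin n) (Fin n) F)) :=
      fun c hc => (hX₂C hy).2 c hc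
    apply Units.ext
    rw [Units.val_mul, Units.val_mul]
    exact (hX₁C hx).2 _ hyc
  exact Helper97_AschSU_UP4fE.UP4fE n hF hn H hH X₁ X₂ (hX₁C.trans inf_le_left) (hX₂C.trans inf_le_left)
    hX₁n hX₂n hX₁Z e₁ P₁ hT₁ e₂ P₂ hT₂ hcomm hc₁ hc₂ hexp₁ hexp₂

end main

end Cfsg.Agent.Lib.Helper97_AschSU_UP4fG
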