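import Mathlib
import Cfsg.Prelude.Def_OddOrderLocal
import Cfsg.Agent.Lib.Helper1_FPF
import Cfsg.Agent.Lib.Helper88_SmallEssential
import Cfsg.Agent.Lib.Helper22_BGTrans
import Cfsg.Agent.Lib.Helper62_EStarCent

/-!
# Pure group theory for Bender–Glauberman 12.7 (helper97)

* `commute_pow_of_central_comm`: if `c = [u, r]` commutes with `u` and `r` and `u ^ p = 1` then `u` commutes
  with `r ^ p`;
* lines of an elementary abelian group `A` of order `p ^ 2`: two distinct lines generate `A`;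
* `exists_pow_cj_line`: a `p`-element `t` normalizing `A`, centralizing the line `Z` but not `A`, permutes the
  lines of `A` other than `Z` transitively.
-/

set_option autoImplicit false

namespace Cfsg.Agent.Lib.Helper97_BG127a

open Subgroup Cfsg Cfsg.Agent.Lib.Helper22_BGTrans Cfsg.Agent.Lib.Helper22_Radical

variable {G : Type*} [Group G]

/-- if `c = u r u⁻¹ r⁻¹` commutes with `u` and `r`, then `u ^ m r u ^ (-m) = c ^ m r` -/
theorem pow_conj_of_central_comm {u r : G} (hcu : Commute (u * r * u⁻¹ * r⁻¹) u)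
    (m : ℕ) : u ^ m * r * (u ^ m)⁻¹ = (u * r * u⁻¹ * r⁻¹) ^ m * r := by
  set c := u * r * u⁻¹ * r⁻¹ with hc
  have h1 : u * r * u⁻¹ = c * r := by rw [hc]; group
  induction m with
  | zero => simp
  | succ m ih =>
    have hcm : Commute (c ^ m) u := hcu.pow_left m
    calc u ^ (m + 1) * r * (u ^ (m + 1))⁻¹ = u * (u ^ m * r * (u ^ m)⁻¹) * u⁻¹ := by
          rw [pow_succ']; group
      _ = u * (c ^ m * r) * u⁻¹ := by rw [ih]
      _ = (u * c ^ m) * r * u⁻¹ := by group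
      _ = (c ^ m * u) * r * u⁻¹ := by rw [hcm.eq]
      _ = c ^ m * (u * r * u⁻¹) := by group
      _ = c ^ m * (c * r) := by rw [h1]
      _ = c ^ (m + 1) * r := by rw [pow_succ]; group

/-- if `c = [u, r]` commutes with `u` and `r` and `u ^ p = 1`, then `u` commutes with `r ^ p` -/
theorem commute_pow_of_central_comm {u r : G} {p : ℕ} (hup : u ^ p = 1)
    (hcu : Commute (u * r * u⁻¹ * r⁻¹) u) (hcr : Commute (u * r * u⁻¹ * r⁻¹) r) :
    Commute u (r ^ p) := by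
  set c := u * r * u⁻¹ * r⁻¹ with hc
  have h1 : u * r * u⁻¹ = c * r := by rw [hc]; group
  have h2 := pow_conj_of_central_comm hcu p
  rw [hup, one_mul, inv_one, mul_one] at h2
  have hcp : c ^ p = 1 := by
    have : c ^ p * r = 1 * r := by rw [one_mul]; exact h2.symm
    exact mul_right_cancel this
  have h3 : u * r ^ p * u⁻¹ = (c * r) ^ p := by
    rw [← h1, conj_pow]
  rw [hcr.mul_pow, hcp, one_mul] at h3
  show u * r ^ p = r ^ p * u
  calc u * r ^ p = (u * r ^ p * u⁻¹) * u := by group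
    _ = r ^ p * u := by rw [h3]

variable [Finite G] {p : ℕ} [hp : Fact p.Prime]

/-- two distinct subgroups of order `p` of a group of order `p ^ 2` generate it -/
theorem sup_eq_of_lines {A X Y : Subgroup G} (hAc : ∀ a ∈ A, ∀ b ∈ A, a * b = b * a)
    (hA2 : Nat.card A = p ^ 2) (hXA : X ≤ A) (hX : Nat.card X = p) (hYA : Y ≤ A)
    (hY : Nat.card Y = p) (hne : X ≠ Y) : X ⊔ Y = A := by
  have hbot : X ⊓ Y = ⊥ := by
    by_contra hbot
    obtain ⟨x', hx'⟩ := (Subgroup.ne_bot_iff_exists_ne_one).mp hbot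
    obtain ⟨x, hx, hx1⟩ : ∃ x ∈ X ⊓ Y, x ≠ 1 := ⟨(x' : G), x'.2, fun h => hx' (Subtype.ext h)⟩
    obtain ⟨hxX, hxY⟩ := Subgroup.mem_inf.mp hx
    have e1 := Cfsg.Agent.Lib.Helper88_SmallEssential.zpowers_eq_of_card_prime hp.out hX hxX hx1
    have e2 := Cfsg.Agent.Lib.Helper88_SmallEssential.zpowers_eq_of_card_prime hp.out hY hxY hx1
    exact hne (e1.symm.trans e2)
  have hXN : X ≤ normalizer (Y : Set G) := by
    refine le_trans ?_ (Subgroup.centralizer_le_normalizer _)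
    intro x hx
    rw [Subgroup.mem_centralizer_iff]
    intro y hy
    exact hAc y (hYA hy) x (hXA hx)
  have hcard := Cfsg.Agent.Lib.Helper1_FPF.card_sup_of_le_normalizer X Y hXN hbot
  rw [hX, hY, ← sq] at hcard
  exact Subgroup.eq_of_le_of_card_ge (sup_le hXA hYA) (by rw [hcard, hA2])

/-- a `p`-element `t` normalizing `A` (commutative of exponent `p`) and centralizing the subgroup `Z` of `A`
of order `p`: `t a t⁻¹ a⁻¹ ∈ Z` for all `a ∈ A`, when `|A| = p ^ 2`. -/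
theorem conj_mul_inv_mem_line {A Z : Subgroup G} (hAc : ∀ a ∈ A, ∀ b ∈ A, a * b = b * a)
    (hAe : ∀ a ∈ A, a ^ p = 1) (hA2 : Nat.card A = p ^ 2) (hZA : Z ≤ A) (hZ : Nat.card Z = p)
    {t : G} (htA : t ∈ normalizer (A : Set G)) (htZ : ∀ z ∈ Z, t * z = z * t)
    (htp : ∃ k : ℕ, t ^ (p ^ k) = 1) {a : G} (ha : a ∈ A) : t * a * t⁻¹ * a⁻¹ ∈ Z := by
  have hpp : p.Prime := hp.out
  by_cases haZ : a ∈ Z
  · have : t * a * t⁻¹ * a⁻¹ = 1 := by rw [htZ a haZ]; group
    rw [this]; exact Z.one_mem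
  have ha1 : a ≠ 1 := fun h => haZ (h ▸ Z.one_mem)
  have hord : orderOf a = p := orderOf_eq_prime (hAe a ha) ha1
  have hXcard : Nat.card (zpowers a) = p := by rw [Nat.card_zpowers, hord]
  have hXA : zpowers a ≤ A := by rwa [Subgroup.zpowers_le]
  have hXZ : zpowers a ≠ Z := fun h => haZ (h ▸ Subgroup.mem_zpowers a)
  have hsup : zpowers a ⊔ Z = A := sup_eq_of_lines hAc hA2 hXA hXcard hZA hZ hXZ
  have hcomm : ∀ u ∈ zpowers a, ∀ v ∈ Z, u * v = v * u := fun u hu v hv =>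
    hAc u (hXA hu) v (hZA hv)
  -- `t a t⁻¹ = a ^ m z`
  have hta : t * a * t⁻¹ ∈ zpowers a ⊔ Z := by
    rw [hsup]; exact (Subgroup.mem_normalizer_iff.mp htA a).mp ha
  obtain ⟨u, hu, z, hz, huz⟩ :=
    Cfsg.Agent.Lib.Helper62_EStarCent.exists_mul_of_mem_sup_of_commute hcomm hta
  obtain ⟨m, rfl⟩ : ∃ m : ℕ, a ^ m = u := by
    have := (mem_powers_iff_mem_zpowers).mpr hu
    exact (Submonoid.mem_powers_iff _ _).mp this
  -- iterate
  have hconjZ : ∀ w ∈ Z, t * w * t⁻¹ = w := fun w hw => by rw [htZ w hw]; group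
  have key : ∀ i : ℕ, ∃ zi ∈ Z, t ^ i * a * (t ^ i)⁻¹ = a ^ (m ^ i) * zi := by
    intro i
    induction i with
    | zero => exact ⟨1, Z.one_mem, by simp⟩
    | succ i ih =>
      obtain ⟨zi, hzi, hi⟩ := ih
      refine ⟨z ^ (m ^ i) * zi, Z.mul_mem (Z.pow_mem hz _) hzi, ?_⟩
      have hcz : Commute (a ^ m) z := hcomm _ (Subgroup.pow_mem _ (Subgroup.mem_zpowers a) m) z hz
      calc t ^ (i + 1) * a * (t ^ (i + 1))⁻¹ = t * (t ^ i * a * (t ^ i)⁻¹) * t⁻¹ := by
            rw [pow_succ']; group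
        _ = t * (a ^ (m ^ i) * zi) * t⁻¹ := by rw [hi]
        _ = (t * a * t⁻¹) ^ (m ^ i) * (t * zi * t⁻¹) := by rw [conj_pow]; group
        _ = (a ^ m * z) ^ (m ^ i) * zi := by rw [huz, hconjZ zi hzi]
        _ = a ^ (m ^ (i + 1)) * (z ^ (m ^ i) * zi) := by
            rw [hcz.mul_pow, ← pow_mul, pow_succ', mul_assoc]
  obtain ⟨k, hk⟩ := htp
  obtain ⟨zk, hzk, hk2⟩ := key (p ^ k)
  rw [hk, one_mul, inv_one, mul_one] at hk2
  -- `a ^ (m ^ p ^ k) = a ^ m`
  have hmod : m ^ p ^ k ≡ m [MOD p] := by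
    rw [← ZMod.natCast_eq_natCast_iff]
    push_cast
    exact ZMod.pow_card_pow (m : ZMod p)
  have hpow : a ^ (m ^ p ^ k) = a ^ m := by
    rw [pow_eq_pow_iff_modEq, hord]; exact hmod
  rw [hpow] at hk2
  -- conclude
  have h1 : a ^ m = a * zk⁻¹ := by
    calc a ^ m = a ^ m * zk * zk⁻¹ := by group
      _ = a * zk⁻¹ := by rw [← hk2]
  have h2 : t * a * t⁻¹ * a⁻¹ = zk⁻¹ * z := by
    rw [huz, h1]
    have hc1 : a * zk⁻¹ = zk⁻¹ * a := hAc a ha _ (hZA (Z.inv_mem hzk))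
    have hc2 : a * z = z * a := hAc a ha _ (hZA hz)
    calc a * zk⁻¹ * z * a⁻¹ = zk⁻¹ * (a * z) * a⁻¹ := by rw [hc1]; group
      _ = zk⁻¹ * z := by rw [hc2]; group
  rw [h2]
  exact Z.mul_mem (Z.inv_mem hzk) hz

/-- a `p`-element `t` normalizing `A` (elementary abelian of order `p ^ 2`), centralizing the line `Z` of `A` but
not `A`, permutes the lines of `A` other than `Z` transitively. -/
theorem exists_pow_cj_line {A Z X Y : Subgroup G} (hAc : ∀ a ∈ A, ∀ b ∈ A, a * b = b * a)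
    (hAe : ∀ a ∈ A, a ^ p = 1) (hA2 : Nat.card A = p ^ 2) (hZA : Z ≤ A) (hZ : Nat.card Z = p)
    (hXA : X ≤ A) (hX : Nat.card X = p) (hYA : Y ≤ A) (hY : Nat.card Y = p) (hXZ : X ≠ Z)
    (hYZ : Y ≠ Z) {t : G} (htA : t ∈ normalizer (A : Set G)) (htZ : ∀ z ∈ Z, t * z = z * t)
    (htp : ∃ k : ℕ, t ^ (p ^ k) = 1) (htC : t ∉ centralizer (A : Set G)) :
    ∃ i : ℕ, cj (t ^ i) X = Y := by
  have hpp : p.Prime := hp.out
  -- a generator of `X`
  have hX1 : X ≠ ⊥ := by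
    rintro rfl
    rw [Subgroup.card_bot] at hX
    exact hpp.one_lt.ne hX
  obtain ⟨x', hx'⟩ := (Subgroup.ne_bot_iff_exists_ne_one).mp hX1
  obtain ⟨x, hx, hx1⟩ : ∃ x ∈ X, x ≠ 1 := ⟨(x' : G), x'.2, fun h => hx' (Subtype.ext h)⟩
  have hXx : zpowers x = X :=
    Cfsg.Agent.Lib.Helper88_SmallEssential.zpowers_eq_of_card_prime hpp hX hx hx1
  set w := t * x * t⁻¹ * x⁻¹ with hw
  have hwZ : w ∈ Z := conj_mul_inv_mem_line hAc hAe hA2 hZA hZ htA htZ htp (hXA hx)
  have hxZ : x ∉ Z := by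
    intro h
    have := Cfsg.Agent.Lib.Helper88_SmallEssential.zpowers_eq_of_card_prime hpp hZ h hx1
    exact hXZ (hXx.symm.trans this)
  -- `w ≠ 1`
  have hw1 : w ≠ 1 := by
    intro h1
    apply htC
    have htx : t * x = x * t := by
      have : t * x * t⁻¹ * x⁻¹ = 1 := h1
      calc t * x = (t * x * t⁻¹ * x⁻¹) * x * t := by group
        _ = x * t := by rw [this, one_mul]
    have hsup : X ⊔ Z = A := sup_eq_of_lines hAc hA2 hXA hX hZA hZ hXZ
    rw [Subgroup.mem_centralizer_iff]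
    intro a ha
    rw [← hsup] at ha
    have hcomm : ∀ u ∈ X, ∀ v ∈ Z, u * v = v * u := fun u hu v hv => hAc u (hXA hu) v (hZA hv)
    obtain ⟨u, hu, v, hv, rfl⟩ :=
      Cfsg.Agent.Lib.Helper62_EStarCent.exists_mul_of_mem_sup_of_commute hcomm ha
    have htu : t * u = u * t := by
      rw [← hXx] at hu
      obtain ⟨n, rfl⟩ := Subgroup.mem_zpowers_iff.mp hu
      exact ((Commute.zpow_right (show Commute t x from htx) n)).eq
    have htv : t * v = v * t := htZ v hv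
    calc u * v * t = u * (v * t) := by group
      _ = u * (t * v) := by rw [htv]
      _ = (u * t) * v := by group
      _ = t * u * v := by rw [← htu]
      _ = t * (u * v) := by group
  have hZw : zpowers w = Z :=
    Cfsg.Agent.Lib.Helper88_SmallEssential.zpowers_eq_of_card_prime hpp hZ hwZ hw1
  -- write `x = y z'`
  have hsupY : Y ⊔ Z = A := sup_eq_of_lines hAc hA2 hYA hY hZA hZ hYZ
  have hxYZ : x ∈ Y ⊔ Z := by rw [hsupY]; exact hXA hx
  have hcommY : ∀ u ∈ Y, ∀ v ∈ Z, u * v = v * u := fun u hu v hv => hAc u (hYA hu) v (hZA hv)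
  obtain ⟨y, hy, z', hz', hxyz⟩ :=
    Cfsg.Agent.Lib.Helper62_EStarCent.exists_mul_of_mem_sup_of_commute hcommY hxYZ
  have hy1 : y ≠ 1 := by
    rintro rfl
    rw [one_mul] at hxyz
    exact hxZ (hxyz ▸ hz')
  obtain ⟨i, hi⟩ : ∃ i : ℕ, w ^ i = z'⁻¹ := by
    have h1 : z'⁻¹ ∈ zpowers w := by rw [hZw]; exact Z.inv_mem hz'
    have := (mem_powers_iff_mem_zpowers).mpr h1
    exact (Submonoid.mem_powers_iff _ _).mp this
  refine ⟨i, ?_⟩
  have hcu : Commute (t * x * t⁻¹ * x⁻¹) t := (htZ w hwZ).symm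
  have h2 := pow_conj_of_central_comm (u := t) (r := x) hcu i
  rw [← hw, hi] at h2
  have hyx : t ^ i * x * (t ^ i)⁻¹ = y := by
    rw [h2, hxyz]
    have hc : y * z' = z' * y := hcommY y hy z' hz'
    rw [hc]; group
  have hmem : y ∈ cj (t ^ i) X := by
    rw [mem_cj, ← hyx]
    have : (t ^ i)⁻¹ * (t ^ i * x * (t ^ i)⁻¹) * t ^ i = x := by group
    rw [this]; exact hx
  have hcard : Nat.card (cj (t ^ i) X) = p := by rw [card_cj, hX]
  have e1 := Cfsg.Agent.Lib.Helper88_SmallEssential.zpowers_eq_of_card_prime hpp hcard hmem hy1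
  have e2 := Cfsg.Agent.Lib.Helper88_SmallEssential.zpowers_eq_of_card_prime hpp hY hy hy1
  exact e1.symm.trans e2

end Cfsg.Agent.Lib.Helper97_BG127a
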