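import Cfsg.Agent.Lib.Helper97_BG127a
import Cfsg.Agent.Lib.Helper62_EStarCent
import Cfsg.Agent.S1453

/-!
# A `p`-group lemma for Bender–Glauberman 12.7 (helper97)

Let `p` be odd, `S` a `p`-subgroup which, when of rank at most two, has the shape given by S1412, and `A ≤ S`
a maximal elementary abelian subgroup of order `p ^ 2`.  If for some `r ∈ S` every element `u ∈ S` of order
dividing `p` commuting with `r ^ p` lies in `A`, then `S` is abelian.
-/

set_option autoImplicit false

namespace Cfsg.Agent.Lib.Helper97_BG127b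

open Subgroup Cfsg Cfsg.Agent.Lib.Helper97_BG127a Cfsg.Agent.Lib.Helper62_EStarCent

theorem comm_of_forall_mem {G : Type*} [Group G] [Finite G] (p : ℕ) [Fact p.Prime]
    (hp : p ≠ 2) (S : Subgroup G) (hS : IsPGroup p S)
    (h1412 : Cfsg.PRankLE p 2 S → IsMulCommutative S ∨ ∃ P₁ P₂ : Subgroup G, P₁ ⊔ P₂ = S ∧
        (∀ a ∈ P₁, ∀ b ∈ P₂, a * b = b * a) ∧
        ¬ IsMulCommutative P₁ ∧ Nat.card P₁ = p ^ 3 ∧ Monoid.exponent P₁ = p ∧ IsCyclic P₂ ∧
        Subgroup.closure {x : G | x ∈ P₂ ∧ x ^ p = 1} = P₁ ⊓ Subgroup.centralizer (P₁ : Set G))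
    (A : Subgroup G) (hAS : A ≤ S) (hA : Cfsg.IsElementaryAbelian p A) (hA2 : Nat.card A = p ^ 2)
    (hAmax : ∀ B : Subgroup G, B ≤ S → Cfsg.IsElementaryAbelian p B → A ≤ B → B = A)
    (r : G) (hrS : r ∈ S)
    (hr : ∀ u ∈ S, u ^ p = 1 → u * r ^ p = r ^ p * u → u ∈ A) : IsMulCommutative S := by
  have hAc := comm_of_isElementaryAbelian hA
  by_cases hrk : Cfsg.PRankLE p 2 S
  · rcases h1412 hrk with hab | ⟨P₁, P₂, hsup, hcomm, hP₁na, -, hexp, -, -⟩
    · exact hab
    · exfalso
      apply hP₁na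
      -- `r = a b`
      have hr' : r ∈ P₁ ⊔ P₂ := by rw [hsup]; exact hrS
      obtain ⟨a, ha, b, hb, rfl⟩ := exists_mul_of_mem_sup_of_commute hcomm hr'
      have hP₁S : P₁ ≤ S := hsup ▸ le_sup_left
      have hexp' : ∀ u ∈ P₁, u ^ p = 1 := by
        intro u hu
        have := Monoid.pow_exponent_eq_one (⟨u, hu⟩ : P₁)
        rw [hexp] at this
        exact congrArg Subtype.val this
      have hrp : (a * b) ^ p = b ^ p := by
        rw [(show Commute a b from hcomm a ha b hb).mul_pow, hexp' a ha, one_mul]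
      have hP₁A : P₁ ≤ A := by
        intro u hu
        apply hr u (hP₁S hu) (hexp' u hu)
        rw [hrp]
        exact ((show Commute u b from hcomm u hu b hb).pow_right p).eq
      exact isMulCommutative_of_le hP₁A hAc
  · exfalso
    have hA' : Cfsg.IsElementaryAbelian p (A.subgroupOf S) := isElementaryAbelian_subgroupOf hA S
    have hA2' : Nat.card (A.subgroupOf S) = p ^ 2 := by
      rw [Cfsg.Agent.Lib.Helper24_CoprimeAction.card_subgroupOf_of_le hAS, hA2]
    have hmax' : ∀ B : Subgroup S, Cfsg.IsElementaryAbelian p B → A.subgroupOf S ≤ B →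
        B = A.subgroupOf S := by
      intro B hB hEB
      have h1 : B.map S.subtype = A := by
        apply hAmax _ (Subgroup.map_subtype_le B) (isElementaryAbelian_map_subtype hB)
        intro e he
        exact ⟨⟨e, hAS he⟩, hEB (Subgroup.mem_subgroupOf.mpr he), rfl⟩
      rw [← h1]
      ext x
      rw [Subgroup.mem_subgroupOf]
      constructor
      · intro hx
        exact ⟨x, hx, rfl⟩
      · rintro ⟨y, hy, hyx⟩
        have : y = x := Subtype.ext hyx
        rwa [← this]
    obtain ⟨hnot, -, ⟨-, hT2⟩, -, -⟩ :=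
      Cfsg.Agent.S1453.result p hp hS hrk (A.subgroupOf S) hA' hA2' hmax'
    set T : Subgroup S := Subgroup.closure
      {x : S | x ∈ Subgroup.upperCentralSeries S 2 ∧ x ^ p = 1} with hT
    -- the generators of `T` lie in `A`
    have hTA : T ≤ A.subgroupOf S := by
      rw [hT, Subgroup.closure_le]
      rintro u ⟨huZ, hup⟩
      rw [SetLike.mem_coe, Subgroup.mem_subgroupOf]
      apply hr _ u.2 (by simpa using congrArg Subtype.val hup)
      -- the commutator `[u, r]` is central in `S`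
      have hc : u * ⟨r, hrS⟩ * u⁻¹ * (⟨r, hrS⟩ : S)⁻¹ ∈ Subgroup.center S := by
        have h2 := (Subgroup.mem_upperCentralSeries_succ_iff (n := 1)).mp huZ ⟨r, hrS⟩
        rwa [Subgroup.upperCentralSeries_one] at h2
      have hcu : Commute (u * ⟨r, hrS⟩ * u⁻¹ * (⟨r, hrS⟩ : S)⁻¹) u :=
        (Subgroup.mem_center_iff.mp hc u).symm
      have hcr : Commute (u * ⟨r, hrS⟩ * u⁻¹ * (⟨r, hrS⟩ : S)⁻¹) ⟨r, hrS⟩ :=
        (Subgroup.mem_center_iff.mp hc ⟨r, hrS⟩).symm
      have h3 := commute_pow_of_central_comm hup hcu hcr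
      have h4 := congrArg Subtype.val h3.eq
      simpa using h4
    have hTeq : T = A.subgroupOf S :=
      Subgroup.eq_of_le_of_card_ge hTA (by rw [hA2', hT2])
    apply hnot
    rw [hTeq]
    intro x hx
    rw [Subgroup.mem_centralizer_iff]
    intro y hy
    apply Subtype.ext
    exact hAc y (Subgroup.mem_subgroupOf.mp hy) x (Subgroup.mem_subgroupOf.mp hx)

end Cfsg.Agent.Lib.Helper97_BG127b
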