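import Mathlib
import Cfsg.Agent.Lib.Helper57_BrauerFeit
import Cfsg.Agent.S0874

set_option autoImplicit false
set_option linter.unusedSectionVars false

namespace Cfsg.Agent.Lib.Helper97_DefectTwo

open Cfsg
open Cfsg.Agent.Lib.Helper57_PRegInt
  Cfsg.Agent.Lib.Helper57_HeightZero Cfsg.Agent.Lib.Helper57_BrauerFeit
  Cfsg.Agent.Lib.Helper78_LocalRing

theorem odd_sq_emod_eight {m : ℤ} (hm : ¬ (2 : ℤ) ∣ m) : m ^ 2 % 8 = 1 := by
  have h : m % 8 = 1 ∨ m % 8 = 3 ∨ m % 8 = 5 ∨ m % 8 = 7 := by omega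
  rcases h with h | h | h | h <;> simp [pow_two, Int.mul_emod, h]

/-- **A `2`-block of defect two has exactly four irreducible characters** (Brauer–Feit count). -/
theorem card_eq_four_of_defect_two {G : Type*} [Group G] [Fintype G] {M : Ideal AlgInt}
    (hM : IsPModular 2 M) {B : Set (IrrCharacter G)} (hB : IsPBlock M B)
    (hd : blockDefect 2 B = 2) : Nat.card B = 4 := by
  classical
  have hp : (2 : ℕ).Prime := Nat.prime_two
  have hMp := isPrime_of_isPModular hM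
  have hI : RegInt G 2 := regInt_of_brauerLocal hp (fun q hq _ => Cfsg.Agent.S0874.result q hq)
  obtain ⟨χ, hχ, h0χ⟩ := exists_height_zero_mem (p := 2) (isPBlock_nonempty hMp hB)
  -- all heights are zero
  have hall : ∀ ξ ∈ B, blockHeight 2 B (ξ : G → ℂ) = 0 := by
    intro ξ hξ
    by_contra hpos
    have := height_add_two_le hp hM hB hI hξ hpos
    omega
  have hval : ∀ ξ ∈ B, (charDegree (ξ : G → ℂ)).factorization 2 = h0 2 B := by
    intro ξ hξ
    rw [val_eq_h0_add hξ, hall ξ hξ, add_zero]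
  have hdiv : ∀ ξ, ((2 : ℕ) : ℤ) ^ h0 2 B ∣ NN hI χ ξ := fun ξ => by
    rw [← hval χ hχ]; exact pow_dvd_NN hp hI χ ξ
  choose f hf using hdiv
  have hha := h0_add_defect (p := 2) hχ
  have hrow := row_identity hp hM hB hI hχ (v := h0 2 B) (by omega) f hf
  have hexp : (Nat.card G).factorization 2 - h0 2 B = 2 := by omega
  rw [hexp] at hrow
  -- oddness
  have hodd : ∀ ξ ∈ B, ¬ (2 : ℤ) ∣ f ξ := by
    intro ξ hξ hdvd
    obtain ⟨hne, hv⟩ := NN_val_of_height_zero hp hM hB hI hχ hξ h0χ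
    rw [hval ξ hξ] at hv
    have h1 : ((2 : ℕ) : ℤ) ^ (h0 2 B + 1) ∣ NN hI χ ξ := by
      rw [hf ξ, pow_succ]
      exact mul_dvd_mul_left _ (by exact_mod_cast hdvd)
    rw [padicValInt_dvd_iff] at h1
    rcases h1 with h1 | h1
    · exact hne h1
    · omega
  -- counting modulo 8
  have h1 : (∑ ξ ∈ bset B, f ξ ^ 2) % 8 = ((Nat.card B : ℕ) : ℤ) % 8 := by
    rw [Finset.sum_int_mod]
    have : ∀ ξ ∈ bset B, f ξ ^ 2 % 8 = 1 := fun ξ hξ => odd_sq_emod_eight (hodd ξ (mem_bset.mp hξ))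
    rw [Finset.sum_congr rfl this, Finset.sum_const, card_bset]
    simp
  have h2 : (((2 : ℕ) : ℤ) ^ 2 * f χ) % 8 = 4 := by
    have := hodd χ hχ
    push_cast
    omega
  rw [hrow, h2] at h1
  have h3 := four_mul_card_le hp hM hB hI
  rw [hd] at h3
  have h4 : 2 ^ (2 * 2) + 4 = 20 := by norm_num
  rw [h4] at h3
  omega

end Cfsg.Agent.Lib.Helper97_DefectTwo
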