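import Mathlib

set_option autoImplicit false

namespace Cfsg.Agent.Lib.Helper97_KleinAut

theorem perm3_fix : ∀ τ : Equiv.Perm (Fin 3), τ ^ 3 = 1 → ∀ i, τ i = i → τ = 1 := by decide

theorem perm3_trans : ∀ τ : Equiv.Perm (Fin 3), τ ^ 3 = 1 → τ ≠ 1 → ∀ i j,
    ∃ k : Fin 3, (τ ^ (k : ℕ)) i = j := by decide

/-- The inertial quotient of a Klein four subgroup: a subgroup `T` of `N_G(P)` containing
`C_G(P)` with odd index `e = |T : C_G(P)|` has `e ∈ {1, 3}`, acts freely on `P ∖ {1}`, and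
transitively when `e = 3`. -/
theorem klein_aut {G : Type*} [Group G] [Finite G] (P : Subgroup G) (hV : IsKleinFour P)
    (T : Subgroup G) (hTN : T ≤ Subgroup.normalizer (P : Set G))
    (hodd : ¬ 2 ∣ (Subgroup.centralizer (P : Set G)).relIndex T) :
    ((Subgroup.centralizer (P : Set G)).relIndex T = 1 ∨
      (Subgroup.centralizer (P : Set G)).relIndex T = 3) ∧
    (∀ g ∈ T, ∀ x ∈ P, x ≠ 1 → g * x * g⁻¹ = x → g ∈ Subgroup.centralizer (P : Set G)) ∧
    ((Subgroup.centralizer (P : Set G)).relIndex T = 3 →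
      ∀ u ∈ P, u ≠ 1 → ∀ v ∈ P, v ≠ 1 → ∃ t ∈ T, t * u * t⁻¹ = v) := by
  classical
  -- the hom to `MulAut P`
  obtain ⟨φ, hφ_apply⟩ : ∃ φ : T →* MulAut P,
      ∀ (t : T) (y : P), ((φ t y : P) : G) = (t : G) * y * (t : G)⁻¹ :=
    ⟨(Subgroup.normalizerMonoidHom P).comp (Subgroup.inclusion hTN), fun t y => rfl⟩
  -- the three non-identity elements
  have hcardX : Nat.card {x : P // x ≠ 1} = 3 := by
    have h1 : Nat.card P = 4 := hV.card_four
    have : Fintype P := Fintype.ofFinite P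
    rw [Nat.card_eq_fintype_card, Fintype.card_subtype_compl, Fintype.card_subtype_eq,
      ← Nat.card_eq_fintype_card, h1]
  obtain ⟨ε⟩ : Nonempty ({x : P // x ≠ 1} ≃ Fin 3) := ⟨Finite.equivFinOfCardEq hcardX⟩
  -- the hom to `Perm (Fin 3)`
  let ψ : MulAut P →* Equiv.Perm {x : P // x ≠ 1} :=
    { toFun := fun σ => (MulAut.toPerm P σ).subtypePerm (fun x => by
        show σ x ≠ 1 ↔ x ≠ 1
        rw [Ne, Ne, map_eq_one_iff σ σ.injective])
      map_one' := rfl
      map_mul' := fun σ τ => rfl }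
  have hψ_apply : ∀ (σ : MulAut P) (x : {x : P // x ≠ 1}), ((ψ σ x : {x : P // x ≠ 1}) : P) = σ x :=
    fun σ x => rfl
  let Θ : T →* Equiv.Perm (Fin 3) := ((ε.permCongrHom).toMonoidHom.comp ψ).comp φ
  have hΘ_apply : ∀ (t : T) (x : {x : P // x ≠ 1}),
      (((ε.symm (Θ t (ε x)) : {x : P // x ≠ 1}) : P) : G) = (t : G) * (x : P) * (t : G)⁻¹ := by
    intro t x
    have h1 : Θ t (ε x) = ε (ψ (φ t) x) := by
      show ε.permCongr (ψ (φ t)) (ε x) = _
      rw [Equiv.permCongr_apply, Equiv.symm_apply_apply]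
    rw [h1, Equiv.symm_apply_apply, hψ_apply, hφ_apply]
  have hker : (Subgroup.centralizer (P : Set G)).subgroupOf T = Θ.ker := by
    ext t
    rw [MonoidHom.mem_ker, Subgroup.mem_subgroupOf, Subgroup.mem_centralizer_iff]
    constructor
    · intro h
      ext i
      obtain ⟨x, rfl⟩ := ε.surjective i
      have h1 := hΘ_apply t x
      have h2 := h ((x : P) : G) (x : P).2
      have h3 : (((ε.symm (Θ t (ε x)) : {x : P // x ≠ 1}) : P) : G) = ((x : P) : G) := by
        rw [h1, ← h2, mul_inv_cancel_right]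
      have h4 : ε.symm (Θ t (ε x)) = x := Subtype.ext (Subtype.ext h3)
      have h5 := congrArg ε h4
      rw [Equiv.apply_symm_apply] at h5
      rw [Equiv.Perm.one_apply]
      exact congrArg Fin.val h5
    · intro h y hy
      by_cases hy1 : y = 1
      · rw [hy1, one_mul, mul_one]
      · have hy1' : (⟨y, hy⟩ : P) ≠ 1 := fun h0 => hy1 (congrArg Subtype.val h0)
        have h1 := hΘ_apply t ⟨⟨y, hy⟩, hy1'⟩
        rw [h, Equiv.Perm.one_apply, Equiv.symm_apply_apply] at h1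
        calc y * (t : G) = ((t : G) * y * (t : G)⁻¹) * (t : G) := by rw [← h1]
          _ = (t : G) * y := by group
  -- index
  have hnorm : ((Subgroup.centralizer (P : Set G)).subgroupOf T).Normal := by
    rw [hker]; infer_instance
  obtain ⟨eq⟩ : Nonempty (T ⧸ (Subgroup.centralizer (P : Set G)).subgroupOf T ≃* Θ.range) :=
    ⟨(QuotientGroup.quotientMulEquivOfEq hker).trans (QuotientGroup.quotientKerEquivRange Θ)⟩
  have hcardQ : Nat.card (T ⧸ (Subgroup.centralizer (P : Set G)).subgroupOf T) =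
      (Subgroup.centralizer (P : Set G)).relIndex T := rfl
  have hdvd : (Subgroup.centralizer (P : Set G)).relIndex T ∣ 6 := by
    have h1 : Nat.card (Equiv.Perm (Fin 3)) = 6 := by
      rw [Nat.card_eq_fintype_card, Fintype.card_perm, Fintype.card_fin]
      rfl
    rw [← h1, ← hcardQ, Nat.card_congr eq.toEquiv]
    exact Subgroup.card_subgroup_dvd_card _
  have he : (Subgroup.centralizer (P : Set G)).relIndex T = 1 ∨
      (Subgroup.centralizer (P : Set G)).relIndex T = 3 := by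
    have hle : (Subgroup.centralizer (P : Set G)).relIndex T ≤ 6 := Nat.le_of_dvd (by norm_num) hdvd
    interval_cases h : (Subgroup.centralizer (P : Set G)).relIndex T <;> simp_all
  -- cubes die
  have hcube : ∀ t : T, Θ t ^ 3 = 1 := by
    intro t
    have h1 : t ^ ((Subgroup.centralizer (P : Set G)).relIndex T) ∈
        (Subgroup.centralizer (P : Set G)).subgroupOf T := by
      rw [← QuotientGroup.eq_one_iff, QuotientGroup.mk_pow, ← hcardQ]
      exact pow_card_eq_one'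
    rw [hker, MonoidHom.mem_ker, map_pow] at h1
    rcases he with h | h
    · rw [h, pow_one] at h1
      rw [h1, one_pow]
    · rw [h] at h1
      exact h1
  refine ⟨he, ?_, ?_⟩
  · intro g hg x hx hx1 hgx
    have hx1' : (⟨x, hx⟩ : P) ≠ 1 := fun h0 => hx1 (congrArg Subtype.val h0)
    have h1 := hΘ_apply ⟨g, hg⟩ ⟨⟨x, hx⟩, hx1'⟩
    have h2 : ε.symm (Θ ⟨g, hg⟩ (ε ⟨⟨x, hx⟩, hx1'⟩)) = ⟨⟨x, hx⟩, hx1'⟩ :=
      Subtype.ext (Subtype.ext (h1.trans hgx))
    have h3 : Θ ⟨g, hg⟩ (ε ⟨⟨x, hx⟩, hx1'⟩) = ε ⟨⟨x, hx⟩, hx1'⟩ := by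
      have h6 := congrArg ε h2
      rw [Equiv.apply_symm_apply] at h6
      exact h6
    have h4 := perm3_fix _ (hcube ⟨g, hg⟩) _ h3
    have h5 : (⟨g, hg⟩ : T) ∈ (Subgroup.centralizer (P : Set G)).subgroupOf T := by
      rw [hker, MonoidHom.mem_ker, h4]
    exact Subgroup.mem_subgroupOf.mp h5
  · intro h3 u hu hu1 v hv hv1
    -- an element outside the centralizer
    have hex : ∃ t : T, Θ t ≠ 1 := by
      by_contra hall
      have hall : ∀ t : T, Θ t = 1 := fun t => by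
        by_contra h0
        exact hall ⟨t, h0⟩
      have h1 : (Subgroup.centralizer (P : Set G)).subgroupOf T = ⊤ := by
        rw [hker, eq_top_iff]
        intro t _
        exact MonoidHom.mem_ker.mpr (hall t)
      have h2 : (Subgroup.centralizer (P : Set G)).relIndex T = 1 := by
        show ((Subgroup.centralizer (P : Set G)).subgroupOf T).index = 1
        rw [h1, Subgroup.index_top]
      omega
    obtain ⟨t, ht⟩ := hex
    have hu1' : (⟨u, hu⟩ : P) ≠ 1 := fun h0 => hu1 (congrArg Subtype.val h0)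
    have hv1' : (⟨v, hv⟩ : P) ≠ 1 := fun h0 => hv1 (congrArg Subtype.val h0)
    obtain ⟨k, hk⟩ := perm3_trans _ (hcube t) ht (ε ⟨⟨u, hu⟩, hu1'⟩) (ε ⟨⟨v, hv⟩, hv1'⟩)
    refine ⟨((t ^ (k : ℕ) : T) : G), (t ^ (k : ℕ)).2, ?_⟩
    have h1 := hΘ_apply (t ^ (k : ℕ)) ⟨⟨u, hu⟩, hu1'⟩
    rw [map_pow, hk, Equiv.symm_apply_apply] at h1
    exact h1.symm

end Cfsg.Agent.Lib.Helper97_KleinAut
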