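import Mathlib
import Cfsg.Prelude.Def_Blocks
import Cfsg.Prelude.Def_BlockRank
import Cfsg.Prelude.Def_BlockLocal
import Cfsg.Prelude.Def_BrauerPairs
import Cfsg.Agent.Lib.Helper97_NilRank
import Cfsg.Agent.S4511
import Cfsg.Agent.S4669

set_option autoImplicit false
set_option linter.unusedSectionVars false

namespace Cfsg.Agent.Lib.Helper97_KleinFour

open Cfsg Cfsg.Agent.Lib.Helper78_LocalRing Cfsg.Agent.Lib.Helper78_CentralChar
  Cfsg.Agent.Lib.Helper78_Osima Cfsg.Agent.Lib.Helper78_CharFacts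
  Cfsg.Agent.Lib.Helper78_ExtConv
  Cfsg.Agent.Lib.Helper78_BrauerPairs Cfsg.Agent.Lib.Helper78_Transport
  Cfsg.Agent.Lib.Helper78_TransportBlocks Cfsg.Agent.Lib.Helper78_NilpotentPrincipal
  Cfsg.Agent.Lib.Helper78_PrincipalFusion
  Cfsg.Agent.Lib.Helper78_BrauerCorr
  Cfsg.Agent.Lib.Helper78_InducedTrans
  Cfsg.Agent.Lib.Helper78_SubpairBasic Cfsg.Agent.Lib.Helper78_SubpairNormal
  Cfsg.Agent.Lib.Helper78_SubpairTrans Cfsg.Agent.Lib.Helper78_SubpairUnique
  Cfsg.Agent.Lib.Helper78_FirstMainGT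
  Cfsg.Agent.Lib.Helper78_FirstMain Cfsg.Agent.Lib.Helper78_MaxPair
  Cfsg.Agent.Lib.Helper78_PairConj Cfsg.Agent.Lib.Helper78_PairCent
  Cfsg.Agent.Lib.Helper78_PairStab
  Cfsg.Agent.Lib.Helper78_BlockFusion Cfsg.Agent.Lib.Helper78_BlockFusion2
  Cfsg.Agent.Lib.Helper78_BlockFusionSys
  Cfsg.Agent.Lib.Helper78_Automized Cfsg.Agent.Lib.Helper78_Receptive
  Cfsg.Agent.Lib.Helper78_Saturated Cfsg.Agent.Lib.Helper78_FongKnorrSub
  Cfsg.Agent.Lib.Helper78_AbelianDefect
  Cfsg.Agent.Lib.Helper97_InducedPair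
  Cfsg.Agent.Lib.Helper97_InducedPair2
  Cfsg.Agent.Lib.Helper97_InducedPair3
  Cfsg.Agent.Lib.Helper97_NilRank


universe u

variable {G : Type u} [Group G] {M : Ideal AlgInt} {p : ℕ}

section Main

variable [Fintype G] [Fact p.Prime]

/-- Two Brauer pairs on the same subgroup that are carried below the maximal pair `(P, c)` by
`g`, `g'`, the images being conjugate under an element `t` of the stabilizer of `(P, c)`, with
`g'⁻¹ t g` centralizing the subgroup, are equal. -/
theorem pair_eq_of_conj_into (hM : IsPModular p M) {P : Subgroup G}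
    {c : Set (IrrCharacter (Subgroup.centralizer (P : Set G)))} (hc : IsPBlock M c)
    {Q : Subgroup G} {f f' : Set (IrrCharacter (Subgroup.centralizer (Q : Set G)))}
    (hf : IsPBlock M f) {g g' t : G}
    (hle : Relation.ReflTransGen (NormalSubpairRel p M)
      (conjPair g (⟨Q, f⟩ : BrauerPairIdx G)) ⟨P, c⟩)
    (hle' : Relation.ReflTransGen (NormalSubpairRel p M)
      (conjPair g' (⟨Q, f'⟩ : BrauerPairIdx G)) ⟨P, c⟩)
    (htN : t ∈ Subgroup.normalizer (P : Set G))
    (hst : StabilizesBlock (Subgroup.centralizer (P : Set G)) c t)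
    (h1 : (conjPair t (conjPair g (⟨Q, f⟩ : BrauerPairIdx G))).1 =
      (conjPair g' (⟨Q, f'⟩ : BrauerPairIdx G)).1)
    (hcent : g'⁻¹ * t * g ∈ Subgroup.centralizer (Q : Set G)) : f = f' := by
  have hMp := isPrime_of_isPModular hM
  have h2 : Relation.ReflTransGen (NormalSubpairRel p M)
      (conjPair t (conjPair g (⟨Q, f⟩ : BrauerPairIdx G))) ⟨P, c⟩ := by
    have := chain_conj t hle
    rwa [conjPair_eq_of_stab hMp hc htN hst] at this
  have h3 : conjPair t (conjPair g (⟨Q, f⟩ : BrauerPairIdx G)) =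
      conjPair g' (⟨Q, f'⟩ : BrauerPairIdx G) := pair_unique hM h2 hle' h1
  have h4 : conjPair (g'⁻¹ * t * g) (⟨Q, f⟩ : BrauerPairIdx G) = ⟨Q, f'⟩ := by
    rw [conjPair_mul, conjPair_mul, h3, conjPair_inv_conjPair]
  have hN : g'⁻¹ * t * g ∈ Subgroup.normalizer (Q : Set G) :=
    Cfsg.Agent.Lib.Helper78_FirstMain.centralizer_le_normalizer Q hcent
  have hstab : StabilizesBlock (Subgroup.centralizer (Q : Set G)) f (g'⁻¹ * t * g) := by
    have hx' : g'⁻¹ * t * g ∈ stabPair Q f :=
      centralizer_le_stab (mem_stabPair_iff hMp hf) hcent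
    exact ((mem_stabPair_iff hMp hf _).mp hx').2
  rw [conjPair_eq_of_stab hMp hf hN hstab] at h4
  exact eq_of_heq (Sigma.mk.inj h4).2

theorem blockRank_subBlock (g u x : G) (hx : g * u * g⁻¹ = x)
    (f : Set (IrrCharacter (Subgroup.centralizer ((Subgroup.zpowers u : Subgroup G) : Set G)))) :
    blockRank p (subBlock g u x hx f) = blockRank p f := by
  unfold subBlock
  rw [blockRank_castIrr, conjBlock_eq_mapBlock, blockRank_mapBlock]

theorem map_conj_zpowers (g x : G) :
    (Subgroup.zpowers x).map (MulAut.conj g).toMonoidHom = Subgroup.zpowers (g * x * g⁻¹) := by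
  rw [MonoidHom.map_zpowers]
  rfl

/-- **Brauer's formula with a single nontrivial subsection class**: for a block `B` with abelian
defect group `P ≠ 1` and root `c` whose stabilizer is transitive on `P ∖ {1}`, and such that the
local blocks `f_u = c^{C_G(u)}` have `l(f_u) = 1`: `k(B) = l(B) + 1`. -/
theorem card_eq_rank_add_one (hM : IsPModular p M) {B : Set (IrrCharacter G)}
    {P : Subgroup G} {c : Set (IrrCharacter (Subgroup.centralizer (P : Set G)))}
    (hPD : IsDefectGroup p M B P) (hab : ∀ x ∈ P, ∀ y ∈ P, x * y = y * x) (hP1 : P ≠ ⊥)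
    (hc : IsInducedBlock M (Subgroup.centralizer (P : Set G)) c B)
    (htrans : ∀ u ∈ P, u ≠ 1 → ∀ v ∈ P, v ≠ 1 → ∃ t ∈ Subgroup.normalizer (P : Set G),
      StabilizesBlock (Subgroup.centralizer (P : Set G)) c t ∧ t * u * t⁻¹ = v)
    (hl : ∀ u ∈ P, u ≠ 1 → ∀ f : Set (IrrCharacter (Subgroup.centralizer
      ((Subgroup.zpowers u : Subgroup G) : Set G))),
      IsInducedBlockIn M (Subgroup.centralizer ((Subgroup.zpowers u : Subgroup G) : Set G))
        (Subgroup.centralizer (P : Set G)) c f → blockRank p f = 1) :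
    Nat.card B = blockRank p B + 1 := by
  classical
  have hMp := isPrime_of_isPModular hM
  have hB := hc.2.1
  have hPp : IsPGroup p P := isDefectGroup_isPGroup hPD
  have hmax := isMaximalBrauerPair_of_isInducedBlock hM hPD hc
  obtain ⟨X, hX, hXrep⟩ := exists_reps (G := G) p
  have hcount := Cfsg.Agent.S4511.result p M hM B hB X hX hXrep
  have hfin : ∀ x : G, {b : Set (IrrCharacter (Subgroup.centralizer ({x} : Set G))) |
      IsInducedBlock M (Subgroup.centralizer ({x} : Set G)) b B}.Finite := by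
    intro x
    have : Fintype (Subgroup.centralizer ({x} : Set G)) := Fintype.ofFinite _
    have : Finite (IrrCharacter (Subgroup.centralizer ({x} : Set G))) := charFacts.finite
    exact Set.toFinite _
  set F : G → ℕ := fun x => ∑ᶠ b ∈ {b : Set (IrrCharacter (Subgroup.centralizer
    ({x} : Set G))) | IsInducedBlock M (Subgroup.centralizer ({x} : Set G)) b B},
      blockRank p b with hF
  have hFsum : ∀ x : G, F x = ∑ b ∈ (hfin x).toFinset, blockRank p b := fun x =>
    finsum_mem_eq_finite_toFinset_sum _ (hfin x)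
  -- the stabilizer contains `1`
  have hst1 : StabilizesBlock (Subgroup.centralizer (P : Set G)) c 1 :=
    ((mem_stabPair_iff hMp hc.1 1).mp (Subgroup.one_mem _)).2
  -- data attached to a member of `I(x)`
  have hdata : ∀ x ∈ X, ∀ b : Set (IrrCharacter (Subgroup.centralizer ({x} : Set G))),
      IsInducedBlock M (Subgroup.centralizer ({x} : Set G)) b B →
      ∃ g : G, g * x * g⁻¹ ∈ P ∧ Relation.ReflTransGen (NormalSubpairRel p M)
        (conjPair g (⟨Subgroup.zpowers x, castIrr (centralizer_zpowers_eq x).symm b⟩ :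
          BrauerPairIdx G)) ⟨P, c⟩ := by
    intro x hx b hb
    have hb' : IsInducedBlock M (Subgroup.centralizer ((Subgroup.zpowers x : Subgroup G) : Set G))
        (castIrr (centralizer_zpowers_eq x).symm b) B :=
      (isInducedBlock_castIrr _ _ _).mpr hb
    have hxp : IsPGroup p (Subgroup.zpowers x) := by
      obtain ⟨k, hk⟩ := hX x hx
      refine IsPGroup.of_card (n := k) ?_
      rw [Nat.card_zpowers, hk]
    have hpair := isBrauerPairOf_of_isInducedBlock hM hxp hb'
    obtain ⟨g, hg⟩ := exists_conj_subpairLE hM hmax hpair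
    refine ⟨g, ?_, hg⟩
    have h1 : (Subgroup.zpowers x).map (MulAut.conj g).toMonoidHom ≤ P := le_of_chain hg
    exact h1 ⟨x, Subgroup.mem_zpowers x, rfl⟩
  -- uniqueness
  have huniq : ∀ x ∈ X, ∀ b b' : Set (IrrCharacter (Subgroup.centralizer ({x} : Set G))),
      IsInducedBlock M (Subgroup.centralizer ({x} : Set G)) b B →
      IsInducedBlock M (Subgroup.centralizer ({x} : Set G)) b' B → b = b' := by
    intro x hx b b' hb hb'
    obtain ⟨g, hgP, hle⟩ := hdata x hx b hb
    obtain ⟨g', hgP', hle'⟩ := hdata x hx b' hb'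
    have ht : ∃ t ∈ Subgroup.normalizer (P : Set G),
        StabilizesBlock (Subgroup.centralizer (P : Set G)) c t ∧
          t * (g * x * g⁻¹) * t⁻¹ = g' * x * g'⁻¹ := by
      by_cases hx1 : x = 1
      · refine ⟨1, Subgroup.one_mem _, hst1, ?_⟩
        rw [hx1]
        group
      · refine htrans _ hgP ?_ _ hgP' ?_
        · intro h0
          apply hx1
          calc x = g⁻¹ * (g * x * g⁻¹) * g := by group
            _ = 1 := by rw [h0]; group
        · intro h0
          apply hx1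
          calc x = g'⁻¹ * (g' * x * g'⁻¹) * g' := by group
            _ = 1 := by rw [h0]; group
    obtain ⟨t, htN, hst, htu⟩ := ht
    have hbb : IsPBlock M (castIrr (centralizer_zpowers_eq x).symm b) :=
      (isPBlock_castIrr _ _).mpr hb.1
    have h1 : (conjPair t (conjPair g (⟨Subgroup.zpowers x,
        castIrr (centralizer_zpowers_eq x).symm b⟩ : BrauerPairIdx G))).1 =
        (conjPair g' (⟨Subgroup.zpowers x,
          castIrr (centralizer_zpowers_eq x).symm b'⟩ : BrauerPairIdx G)).1 := by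
      show ((Subgroup.zpowers x).map (MulAut.conj g).toMonoidHom).map
        (MulAut.conj t).toMonoidHom = (Subgroup.zpowers x).map (MulAut.conj g').toMonoidHom
      rw [map_conj_zpowers, map_conj_zpowers, map_conj_zpowers, htu]
    have hcent : g'⁻¹ * t * g ∈
        Subgroup.centralizer ((Subgroup.zpowers x : Subgroup G) : Set G) := by
      rw [centralizer_zpowers_eq, Subgroup.mem_centralizer_iff]
      intro y hy
      rw [Set.mem_singleton_iff.mp hy]
      symm
      calc g'⁻¹ * t * g * x = g'⁻¹ * (t * (g * x * g⁻¹) * t⁻¹) * t * g := by group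
        _ = g'⁻¹ * (g' * x * g'⁻¹) * t * g := by rw [htu]
        _ = x * (g'⁻¹ * t * g) := by group
    have h2 := pair_eq_of_conj_into hM hc.1 hbb hle hle' htN hst h1 hcent
    exact castIrr_injective _ h2
  -- the trivial subsection
  have h1X : (1 : G) ∈ X := by
    obtain ⟨x, ⟨hx, hx1⟩, -⟩ := hXrep 1 ⟨0, by simp⟩
    have : x = 1 := isConj_one_right.mp hx1
    rwa [this] at hx
  have hF1 : F 1 = blockRank p B := by
    obtain ⟨b₁, hb₁, hbr₁⟩ := exists_trivial_subsection hM hB
    rw [hFsum]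
    have hs : (hfin 1).toFinset = {b₁} := by
      ext b
      rw [Set.Finite.mem_toFinset, Finset.mem_singleton]
      exact ⟨fun hb => huniq 1 h1X b b₁ hb hb₁, fun h => h ▸ hb₁⟩
    rw [hs, Finset.sum_singleton, hbr₁]
  -- the nontrivial subsection
  obtain ⟨u₀, hu₀1⟩ := (Subgroup.ne_bot_iff_exists_ne_one).mp hP1
  have hu₀1' : (u₀ : G) ≠ 1 := fun h1 => hu₀1 (Subtype.ext h1)
  have hu₀p : ∃ k : ℕ, orderOf (u₀ : G) = p ^ k := by
    obtain ⟨k, hk⟩ := (IsPGroup.iff_orderOf.mp hPp) u₀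
    exact ⟨k, by rw [Subgroup.orderOf_coe, hk]⟩
  obtain ⟨x₀, ⟨hx₀X, hx₀c⟩, -⟩ := hXrep (u₀ : G) hu₀p
  obtain ⟨g₀, hg₀⟩ := _root_.isConj_iff.mp hx₀c
  have hx₀1 : x₀ ≠ 1 := by
    intro h0
    rw [h0, isConj_one_left] at hx₀c
    exact hu₀1' hx₀c
  have hzP : Subgroup.zpowers (u₀ : G) ≤ P := Subgroup.zpowers_le.mpr u₀.2
  obtain ⟨f₀, hf₀⟩ := exists_isInducedBlockIn hM hPp hab hzP hc.1
  have hpair₀ : IsBrauerPairOf p M B (Subgroup.zpowers (u₀ : G)) f₀ :=
    isBrauerPairOf_of_isInducedBlock hM (hPp.to_le hzP)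
      (isDefectGroup_of_isInducedBlockIn hM hPD hab hzP hc hf₀).2
  have hb₀ := isInducedBlock_subBlock hM g₀ (u₀ : G) x₀ hg₀ hpair₀
  have hFx₀ : F x₀ = 1 := by
    rw [hFsum]
    have hs : (hfin x₀).toFinset = {subBlock g₀ (u₀ : G) x₀ hg₀ f₀} := by
      ext b
      rw [Set.Finite.mem_toFinset, Finset.mem_singleton]
      exact ⟨fun hb => huniq x₀ hx₀X b _ hb hb₀, fun h => h ▸ hb₀⟩
    rw [hs, Finset.sum_singleton, blockRank_subBlock, hl (u₀ : G) u₀.2 hu₀1' f₀ hf₀]
  -- the other representatives contribute nothing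
  have hF0 : ∀ x ∈ X, x ≠ 1 ∧ x ≠ x₀ → F x = 0 := by
    rintro x hx ⟨hx1, hxx₀⟩
    rw [hFsum]
    have hs : (hfin x).toFinset = ∅ := by
      ext b
      rw [Set.Finite.mem_toFinset]
      simp only [Finset.notMem_empty, iff_false]
      intro hb
      obtain ⟨g, hgP, -⟩ := hdata x hx b hb
      have hgx1 : g * x * g⁻¹ ≠ 1 := by
        intro h0
        apply hx1
        calc x = g⁻¹ * (g * x * g⁻¹) * g := by group
          _ = 1 := by rw [h0]; group
      obtain ⟨t, -, -, htu⟩ := htrans _ hgP hgx1 (u₀ : G) u₀.2 hu₀1'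
      have hconj : IsConj x x₀ := by
        rw [_root_.isConj_iff]
        refine ⟨g₀ * t * g, ?_⟩
        rw [← hg₀, ← htu]
        group
      have h2 := (hXrep x (hX x hx)).unique ⟨hx, IsConj.refl x⟩ ⟨hx₀X, hconj⟩
      exact hxx₀ h2
    rw [hs, Finset.sum_empty]
  rw [hcount]
  have hsum : ∑ x ∈ X, F x = F 1 + F x₀ :=
    Finset.sum_eq_add_of_mem 1 x₀ h1X hx₀X (Ne.symm hx₀1) hF0
  rw [show (∑ x ∈ X, ∑ᶠ b ∈ {b : Set (IrrCharacter (Subgroup.centralizer ({x} : Set G))) |
      IsInducedBlock M (Subgroup.centralizer ({x} : Set G)) b B}, blockRank p b) =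
      ∑ x ∈ X, F x from rfl, hsum, hF1, hFx₀]

end Main

end Cfsg.Agent.Lib.Helper97_KleinFour
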