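import Mathlib
import Cfsg.Agent.Lib.Helper97_OX3Defs
import Cfsg.Agent.Lib.Helper94_OrthVec

set_option autoImplicit false
set_option linter.unusedSectionVars false
set_option linter.unusedVariables false

/-!
# OEXT3 package TS_PERP (architect helper97, formaliser helper9)

A totally singular `F`-subspace of dimension six of the twelve-dimensional space `(V, τ ∘ QK)` is
its own orthogonal (dimension count, `trB τ BK` nondegenerate).
-/

namespace Cfsg.Agent.Lib.Helper9_OX3_TS_PERP

open Module Cfsg.Agent.Lib.Helper94_OrthSmall Cfsg.Agent.Lib.Helper94_OrthSiegel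
  Cfsg.Agent.Lib.Helper98_ExtDefs Cfsg.Agent.Lib.Helper97_OX2Defs
  Cfsg.Agent.Lib.Helper97_OX3Defs
open scoped commutatorElement

variable {F K V : Type*} [Field F] [Field K] [Algebra F K] [AddCommGroup V] [Module F V]
  [Module K V] [IsScalarTower F K V]
variable {τ : K →ₗ[F] F} {QK : V → K} {BK : LinearMap.BilinForm K V}
variable [Finite F] [Finite K] [Module.Finite F V] [Module.Finite K V]

/-- TS_PERP: a totally singular `F`-subspace of dimension six is its own orthogonal -/
theorem ts_perp (C : Ctx3 τ QK BK) (t : Submodule F V) (ht6 : finrank F t = 6)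
    (hts : ∀ x ∈ t, trQ τ QK x = 0) {x : V} (hx : ∀ z ∈ t, trB τ BK x z = 0) : x ∈ t := by
  have hle : t ≤ (trB τ BK).orthogonal t := by
    intro y hy
    rw [LinearMap.BilinForm.mem_orthogonal_iff]
    intro n hn
    change trB τ BK n y = 0
    have h1 := C.trQ_add n y
    rw [hts n hn, hts y hy, hts (n + y) (t.add_mem hn hy)] at h1
    simpa using h1.symm
  have hfr : finrank F ((trB τ BK).orthogonal t) = 6 := by
    rw [LinearMap.BilinForm.finrank_orthogonal C.trB_nondeg t, C.finrank_FV, ht6]
  have heq : t = (trB τ BK).orthogonal t :=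
    Submodule.eq_of_le_of_finrank_eq hle (by rw [hfr, ht6])
  rw [heq, LinearMap.BilinForm.mem_orthogonal_iff]
  intro n hn
  change trB τ BK n x = 0
  rw [C.trB_symm]
  exact hx n hn

end Cfsg.Agent.Lib.Helper9_OX3_TS_PERP
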