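import Mathlib
import Cfsg.Agent.Lib.Helper97_OX3Defs
import Cfsg.Agent.Lib.Helper94_OrthVec
import Cfsg.Agent.Lib.Helper10_OX3_K1
import Cfsg.Agent.Lib.Helper10_OX3_PAR_T
import Cfsg.Agent.Lib.Helper21_OX3_G4_PAIR
import Cfsg.Agent.Lib.Helper24_OX3_KLIN
import Cfsg.Agent.Lib.Helper24_OX3_LA1
import Cfsg.Agent.Lib.Helper34_OX3_LINE6
import Cfsg.Agent.Lib.Helper3_OX3_DUALB
import Cfsg.Agent.Lib.Helper3_OX3_NMAP3
import Cfsg.Agent.Lib.Helper44_OX3_G4_THRU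
import Cfsg.Agent.Lib.Helper47_OX3_LA2
import Cfsg.Agent.Lib.Helper49_OX3_ALT3
import Cfsg.Agent.Lib.Helper4_OX3_RIG
import Cfsg.Agent.Lib.Helper51_OX3_IRR_DER
import Cfsg.Agent.Lib.Helper57_OX3_SEMIFIX
import Cfsg.Agent.Lib.Helper57_OX3_S_SCAL3
import Cfsg.Agent.Lib.Helper58_OX3_G4_T2
import Cfsg.Agent.Lib.Helper59_OX3_BAL
import Cfsg.Agent.Lib.Helper59_OX3_PAR_ALT
import Cfsg.Agent.Lib.Helper5_OX3_PT3
import Cfsg.Agent.Lib.Helper61_OX3_D2b
import Cfsg.Agent.Lib.Helper61_OX3_PAR_D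
import Cfsg.Agent.Lib.Helper78_OX3_ALLSIEG
import Cfsg.Agent.Lib.Helper78_OX3_ROOTALL
import Cfsg.Agent.Lib.Helper80_OX3_CROSS
import Cfsg.Agent.Lib.Helper82_OX3_IRR1
import Cfsg.Agent.Lib.Helper82_OX3_IRR3
import Cfsg.Agent.Lib.Helper83_OX3_G4_TRIPLE
import Cfsg.Agent.Lib.Helper8_OX3_PAR_PROJ
import Cfsg.Agent.Lib.Helper90_OX3_FULLPERP
import Cfsg.Agent.Lib.Helper93_OX3_IRR2
import Cfsg.Agent.Lib.Helper94_OX3_D2a
import Cfsg.Agent.Lib.Helper94_OX3_LINEALL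
import Cfsg.Agent.Lib.Helper94_OX3_PERPALL
import Cfsg.Agent.Lib.Helper94_OX3_TRANS3
import Cfsg.Agent.Lib.Helper99_OX3_G4_DECOMP
import Cfsg.Agent.Lib.Helper9_OX3_NKL
import Cfsg.Agent.Lib.Helper9_OX3_TS_PERP

set_option autoImplicit false
set_option linter.unusedSectionVars false
set_option linter.unusedVariables false

/-!
# OEXT3: the package theorems, collected under uniform names (helper97)
Notation in comments: `Q = trQ τ QK`, `B = trB τ BK`, `L = kln F u w = K u + K w`.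
-/

namespace Cfsg.Agent.Lib.Helper97_OX3Deps

open Module Cfsg.Agent.Lib.Helper94_OrthSmall Cfsg.Agent.Lib.Helper94_OrthSiegel
  Cfsg.Agent.Lib.Helper98_ExtDefs Cfsg.Agent.Lib.Helper97_OX2Defs
  Cfsg.Agent.Lib.Helper97_OX3Defs
open scoped commutatorElement

/-! ## GEO4: a nondegenerate quadratic space `(Q, B)` of dimension four and Witt index two over a
field `K` (no subfield) -/

section GEO

variable {K V : Type*} [Field K] [AddCommGroup V] [Module K V]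
  (Q : V → K) (B : LinearMap.BilinForm K V)
  (hQs : ∀ (c : K) (v : V), Q (c • v) = c * c * Q v)
  (hQp : ∀ u v : V, Q (u + v) = Q u + Q v + B u v)

include hQs hQp

/-- G4_PAIR: a totally singular pair `u, w` extends to a frame `(u, u', w, w')` -/
theorem frame_of_pair [FiniteDimensional K V] (hN : B.Nondegenerate) {u w : V}
    (h : TSPair Q B u w) : ∃ u' w' : V, Frame Q B u u' w w' :=
  Cfsg.Agent.Lib.Helper21_OX3_G4_PAIR.frame_of_pair Q B hQs hQp hN h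

/-- G4_THRU: in a space of Witt index two every nonzero singular vector lies on a totally
singular line -/
theorem exists_pair_through [FiniteDimensional K V] (hN : B.Nondegenerate) (hs : Split3 Q B)
    {p : V} (hp0 : p ≠ 0) (hp : Q p = 0) : ∃ a : V, TSPair Q B p a :=
  Cfsg.Agent.Lib.Helper44_OX3_G4_THRU.exists_pair_through Q B hQs hQp hN hs hp0 hp

/-- G4_TRIPLE: a singular `p ≠ 0` orthogonal to a hyperbolic pair `a, b` completes to a frame -/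
theorem frame_of_triple [FiniteDimensional K V] (hN : B.Nondegenerate) {p a b : V}
    (hp0 : p ≠ 0) (hp : Q p = 0) (ha : Q a = 0) (hb : Q b = 0) (hab : B a b = 1)
    (hpa : B p a = 0) (hpb : B p b = 0) : ∃ p' : V, Frame Q B p p' a b :=
  Cfsg.Agent.Lib.Helper83_OX3_G4_TRIPLE.frame_of_triple Q B hQs hQp hN hp0 hp ha hb hab hpa hpb

/-- G4_DECOMP: coordinates with respect to a frame of a four-dimensional space -/
theorem frame_decomp [FiniteDimensional K V] (hN : B.Nondegenerate) (hm : finrank K V = 4)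
    {p p' a b : V} (fr : Frame Q B p p' a b) (v : V) :
    v = B v p' • p + B v p • p' + B v b • a + B v a • b :=
  Cfsg.Agent.Lib.Helper99_OX3_G4_DECOMP.frame_decomp Q B hQs hQp hN hm fr v

/-- G4_T2: a singular vector orthogonal to neither of two given nonzero singular vectors -/
theorem exists_common4 [FiniteDimensional K V] (hN : B.Nondegenerate) (hm : finrank K V = 4)
    (hs : Split3 Q B) {p v : V} (hp0 : p ≠ 0) (hv0 : v ≠ 0) (hp : Q p = 0) (hv : Q v = 0) :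
    ∃ u : V, Q u = 0 ∧ B p u ≠ 0 ∧ B v u ≠ 0 :=
  Cfsg.Agent.Lib.Helper58_OX3_G4_T2.exists_common4 Q B hQs hQp hN hm hs hp0 hv0 hp hv



end GEO

/-! ## Pure linear algebra over `F` -/

section LINALG

/-- ALT3: the radical of an alternating form on a three-dimensional space has dimension 1 or 3 -/
theorem alt3_radical {F W : Type*} [Field F] [AddCommGroup W] [Module F W]
    (hW : finrank F W = 3) (c : LinearMap.BilinForm F W) (hc : ∀ x, c x x = 0) :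
    finrank F ↥(LinearMap.ker c) = 1 ∨ finrank F ↥(LinearMap.ker c) = 3 :=
  Cfsg.Agent.Lib.Helper49_OX3_ALT3.alt3_radical hW c hc

/-- IRR_DER: for a nonzero alternating `F`-bilinear form `γ` on a cubic extension `K` (`2 ≠ 0`),
every alternating form is `(k, k') ↦ γ (c k) k' + γ k (c k')` for some `c : K` -/
theorem der_surj {F K : Type*} [Field F] [Field K] [Algebra F K] (h2 : (2 : F) ≠ 0)
    (hdim : finrank F K = 3) (γ γ' : K →ₗ[F] K →ₗ[F] F) (hγ : ∀ k, γ k k = 0)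
    (hγ' : ∀ k, γ' k k = 0) (hne : ∃ k k' : K, γ k k' ≠ 0) :
    ∃ c : K, ∀ k k' : K, γ' k k' = γ (c * k) k' + γ k (c * k') :=
  Cfsg.Agent.Lib.Helper51_OX3_IRR_DER.der_surj h2 hdim γ γ' hγ hγ' hne





end LINALG

/-! ## The extension setting -/

variable {F K V : Type*} [Field F] [Field K] [Algebra F K] [AddCommGroup V] [Module F V]
  [Module K V] [IsScalarTower F K V]
variable {τ : K →ₗ[F] F} {QK : V → K} {BK : LinearMap.BilinForm K V}
variable [Finite F] [Finite K] [Module.Finite F V] [Module.Finite K V]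

/-! ### Basic dimensions and duality -/

/-- LINE6 -/
theorem finrank_kln (C : Ctx3 τ QK BK) {u w : V}
    (hind : ∀ a b : K, a • u + b • w = 0 → a = 0 ∧ b = 0) :
    finrank F ↥(kln F (K := K) u w) = 6 :=
  Cfsg.Agent.Lib.Helper34_OX3_LINE6.finrank_kln C hind

/-- PT3 -/
theorem finrank_kpt (C : Ctx3 τ QK BK) {p : V} (hp0 : p ≠ 0) :
    finrank F ↥(kpt F (K := K) p) = 3 :=
  Cfsg.Agent.Lib.Helper5_OX3_PT3.finrank_kpt C hp0

/-- TS_PERP: a totally singular `F`-subspace of dimension six is its own orthogonal -/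
theorem ts_perp (C : Ctx3 τ QK BK) (t : Submodule F V) (ht6 : finrank F t = 6)
    (hts : ∀ x ∈ t, trQ τ QK x = 0) {x : V} (hx : ∀ z ∈ t, trB τ BK x z = 0) : x ∈ t :=
  Cfsg.Agent.Lib.Helper9_OX3_TS_PERP.ts_perp C t ht6 hts hx

/-- DUALB: trace-dual bases of `K` over `F`, with `∑ bᵢ b'ᵢ = 1` -/
theorem exists_dual_bases (C : Ctx3 τ QK BK) :
    ∃ b b' : Fin 3 → K, (∀ i j, τ (b i * b' j) = if i = j then 1 else 0) ∧
      (∀ k : K, k = ∑ i, τ (k * b' i) • b i) ∧ (∀ k : K, k = ∑ i, τ (k * b i) • b' i) ∧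
      ∑ i, b i * b' i = 1 :=
  Cfsg.Agent.Lib.Helper3_OX3_DUALB.exists_dual_bases C

/-- NMAP3: the nilpotent part `N_κ = nmap F BK κ u w` of the `K`-Siegel elements of the totally
singular `K`-line `L = K u + K w` -/
theorem nmap_props3 (C : Ctx3 τ QK BK) {u w : V} (h : TSPair QK BK u w) (κ : K) :
    (∀ x y, trB τ BK (nmap F BK κ u w x) y = -trB τ BK x (nmap F BK κ u w y)) ∧
    (∀ x, nmap F BK κ u w x ∈ kln F (K := K) u w) ∧
    (∀ x ∈ kln F (K := K) u w, nmap F BK κ u w x = 0) ∧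
    (κ ≠ 0 → ∀ x, nmap F BK κ u w x = 0 → x ∈ kln F (K := K) u w) ∧
    (κ ≠ 0 → ∀ z ∈ kln F (K := K) u w, ∃ x, nmap F BK κ u w x = z) :=
  Cfsg.Agent.Lib.Helper3_OX3_NMAP3.nmap_props3 C h κ

/-! ### Part S: the semilinearity criterion (S_PLANE, S_FIN, S_POINT are reused from OEXT2) -/

/-- S_SCAL3: the conjugate scalar action is again scalar -/
theorem scalar_of_points3 (C : Ctx3 τ QK BK) (hs : Split3 QK BK) (g : V ≃ₗ[F] V)
    (h : ∀ p : V, QK p = 0 → ∀ k : K, ∃ c : K, k • g p = g (c • p)) :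
    ∀ k : K, ∃ c : K, ∀ v : V, k • g v = g (c • v) :=
  Cfsg.Agent.Lib.Helper57_OX3_S_SCAL3.scalar_of_points3 C hs g h

/-! ### Part K: a `K`-singular point and the local parity -/

/-- K1 (Chevalley–Warning): a totally singular `F`-subspace of dimension at least five contains a
nonzero `K`-singular vector -/
theorem exists_ksing (C : Ctx3 τ QK BK) (t : Submodule F V) (ht : 5 ≤ finrank F t)
    (hts : ∀ x ∈ t, trQ τ QK x = 0) : ∃ p ∈ t, p ≠ 0 ∧ QK p = 0 :=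
  Cfsg.Agent.Lib.Helper10_OX3_K1.exists_ksing C t ht hts

/-- PAR_T: `dim (t ∩ p^{⊥_K}) = 3 + dim (t ∩ K p)` -/
theorem finrank_inf_kperp (C : Ctx3 τ QK BK) (t : Submodule F V) (ht6 : finrank F t = 6)
    (hts : ∀ x ∈ t, trQ τ QK x = 0)
    (hperp : ∀ x : V, (∀ z ∈ t, trB τ BK x z = 0) → x ∈ t) {p : V} (hp0 : p ≠ 0) :
    finrank F ↥(t ⊓ kperp F BK p) = 3 + finrank F ↥(t ⊓ kpt F (K := K) p) :=
  Cfsg.Agent.Lib.Helper10_OX3_PAR_T.finrank_inf_kperp C t ht6 hts hperp hp0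

/-- PAR_PROJ: the image `T'` of `t ∩ p^{⊥_K}` in `{p, p'}^{⊥_K}` -/
theorem proj_props (C : Ctx3 τ QK BK) (t : Submodule F V) (ht6 : finrank F t = 6)
    (hts : ∀ x ∈ t, trQ τ QK x = 0)
    (hperp : ∀ x : V, (∀ z ∈ t, trB τ BK x z = 0) → x ∈ t) {p p' : V}
    (hp : QK p = 0) (hp' : QK p' = 0) (hpp' : BK p p' = 1) :
    ∃ T' : Submodule F V, finrank F T' = 3 ∧
      (∀ y ∈ T', BK y p = 0 ∧ BK y p' = 0 ∧ trQ τ QK y = 0) ∧
      (∀ y ∈ T', ∃ k : K, y + k • p ∈ t) ∧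
      (∀ x ∈ t, BK x p = 0 → x - BK x p' • p ∈ T') :=
  Cfsg.Agent.Lib.Helper8_OX3_PAR_PROJ.proj_props C t ht6 hts hperp hp hp' hpp'

/-- PAR_D: `dim (t ∩ (K p + K a)) = dim (t ∩ K p) + dim (T' ∩ K a)` -/
theorem finrank_inf_line (C : Ctx3 τ QK BK) (t : Submodule F V) {p p' a : V}
    (hp : QK p = 0) (hp' : QK p' = 0) (hpp' : BK p p' = 1) (ha0 : a ≠ 0) (hpa : BK p a = 0)
    (hp'a : BK p' a = 0) (T' : Submodule F V)
    (hT1 : ∀ y ∈ T', BK y p = 0 ∧ BK y p' = 0)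
    (hT2 : ∀ y ∈ T', ∃ k : K, y + k • p ∈ t)
    (hT3 : ∀ x ∈ t, BK x p = 0 → x - BK x p' • p ∈ T') :
    finrank F ↥(t ⊓ kln F (K := K) p a) =
      finrank F ↥(t ⊓ kpt F (K := K) p) + finrank F ↥(T' ⊓ kpt F (K := K) a) :=
  Cfsg.Agent.Lib.Helper61_OX3_PAR_D.finrank_inf_line C t hp hp' hpp' ha0 hpa hp'a T' hT1 hT2 hT3

/-- PAR_ALT: a totally singular `F`-3-space `T'` of a hyperbolic `K`-plane `K a + K b` meets the
two singular `K`-points in subspaces of dimensions adding up to an odd number -/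
theorem parity_plane (C : Ctx3 τ QK BK) {a b : V} (ha : QK a = 0) (hb : QK b = 0)
    (hab : BK a b = 1) (T' : Submodule F V) (h3 : finrank F T' = 3)
    (hle : T' ≤ kln F (K := K) a b) (hts : ∀ y ∈ T', trQ τ QK y = 0) :
    Odd (finrank F ↥(T' ⊓ kpt F (K := K) a) + finrank F ↥(T' ⊓ kpt F (K := K) b)) :=
  Cfsg.Agent.Lib.Helper59_OX3_PAR_ALT.parity_plane C ha hb hab T' h3 hle hts

/-! ### Part D2: from a 2-dimensional to a 4-dimensional intersection -/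

/-- D2a -/
theorem exists_kappa_cover (C : Ctx3 τ QK BK) (t : Submodule F V) (ht6 : finrank F t = 6)
    (hts : ∀ x ∈ t, trQ τ QK x = 0)
    (hperp : ∀ x : V, (∀ z ∈ t, trB τ BK x z = 0) → x ∈ t) {u w : V} (h : TSPair QK BK u w)
    (hd : finrank F ↥(t ⊓ kln F (K := K) u w) = 2) :
    ∃ κ : K, κ ≠ 0 ∧ ∀ d ∈ t ⊓ kln F (K := K) u w, ∃ x ∈ t, nmap F BK κ u w x = d :=
  Cfsg.Agent.Lib.Helper94_OX3_D2a.exists_kappa_cover C t ht6 hts hperp h hd

/-- D2b -/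
theorem finrank_meet_of_cover (C : Ctx3 τ QK BK) (t : Submodule F V) (ht6 : finrank F t = 6)
    {u w : V} (h : TSPair QK BK u w) (hd : finrank F ↥(t ⊓ kln F (K := K) u w) = 2) {κ : K}
    (hκ : κ ≠ 0)
    (hcov : ∀ d ∈ t ⊓ kln F (K := K) u w, ∃ x ∈ t, nmap F BK κ u w x = d) :
    finrank F ↥(t ⊓ t.map (ksieg F QK BK (κ • u) w).toLinearMap) = 4 :=
  Cfsg.Agent.Lib.Helper61_OX3_D2b.finrank_meet_of_cover C t ht6 h hd hκ hcov

/-! ### Part A: two members of the orbit meeting in dimension four -/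

/-- KLIN: a `K`-linear element of `U_L` is a `K`-Siegel element -/
theorem klin_eq (C : Ctx3 τ QK BK) {u w : V} (h : TSPair QK BK u w) {y : V ≃ₗ[F] V}
    (hU : InU (trQ τ QK) (kln F (K := K) u w) y) (hK : Klin K y) :
    ∃ κ : K, ∀ x, y x = x + nmap F BK κ u w x :=
  Cfsg.Agent.Lib.Helper24_OX3_KLIN.klin_eq C h hU hK

/-- NKL: a nontrivial element of `U_L` of rank less than six is not `K`-linear -/
theorem not_klin_of_rank (C : Ctx3 τ QK BK) {u w : V} (h : TSPair QK BK u w) {y : V ≃ₗ[F] V}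
    (hU : InU (trQ τ QK) (kln F (K := K) u w) y) {x₀ : V} (hne : y x₀ ≠ x₀)
    (S : Submodule F V) (hS : finrank F S < 6) (hr : ∀ x, y x - x ∈ S) : ¬ Klin K y :=
  Cfsg.Agent.Lib.Helper9_OX3_NKL.not_klin_of_rank C h hU hne S hS hr

/-- LA1: some nonzero `N' = g N_κ' g⁻¹` maps `L` into itself -/
theorem exists_kappa_stab (C : Ctx3 τ QK BK) {g : V ≃ₗ[F] V} (hg : g ∈ oG (trQ τ QK))
    {u' w' u w : V} (h' : TSPair QK BK u' w') (h : TSPair QK BK u w)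
    (hd : finrank F ↥((kln F (K := K) u' w').map g.toLinearMap ⊓ kln F (K := K) u w) = 4) :
    ∃ κ' : K, κ' ≠ 0 ∧ ∀ z ∈ kln F (K := K) u w,
      g (nmap F BK κ' u' w' (g⁻¹ z)) ∈ kln F (K := K) u w :=
  Cfsg.Agent.Lib.Helper24_OX3_LA1.exists_kappa_stab C hg h' h hd

/-- LA2: the commutator branch -/
theorem key_of_comm (C : Ctx3 τ QK BK) (M : Subgroup (V ≃ₗ[F] V)) (hM : HypO3 τ QK BK M)
    {g : V ≃ₗ[F] V} (hg : g ∈ M) {u' w' u w : V} (h' : TSPair QK BK u' w')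
    (h : TSPair QK BK u w)
    (hd : finrank F ↥((kln F (K := K) u' w').map g.toLinearMap ⊓ kln F (K := K) u w) = 4)
    {κ' : K} (hκ' : κ' ≠ 0)
    (hstab : ∀ z ∈ kln F (K := K) u w, g (nmap F BK κ' u' w' (g⁻¹ z)) ∈ kln F (K := K) u w)
    {κ : K} {x₀ : V} (hx₀ : x₀ ∈ kln F (K := K) u' w')
    (hout : nmap F BK κ u w (g x₀) ∉ (kln F (K := K) u' w').map g.toLinearMap) :
    Key τ QK BK M :=
  Cfsg.Agent.Lib.Helper47_OX3_LA2.key_of_comm C M hM hg h' h hd hκ' hstab hx₀ hout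

/-- RIG: an element of `M` stabilising `L'` and not semilinear on `L'` -/
theorem rig (C : Ctx3 τ QK BK) (M : Subgroup (V ≃ₗ[F] V)) (hM : HypO3 τ QK BK M)
    {u' w' : V} (h' : TSPair QK BK u' w') {y : V ≃ₗ[F] V} (hy : y ∈ M)
    (hst : ∀ x ∈ kln F (K := K) u' w', y x ∈ kln F (K := K) u' w')
    (hns : ¬ ∃ σ : K →+* K, ∀ k : K, ∀ x ∈ kln F (K := K) u' w', y (k • x) = σ k • y x) :
    Key τ QK BK M :=
  Cfsg.Agent.Lib.Helper4_OX3_RIG.rig C M hM h' hy hst hns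

/-- SEMIFIX: a map semilinear on `L'` fixing a 4-dimensional `F`-subspace of `L'` pointwise is the
identity on `L'` -/
theorem semifix (C : Ctx3 τ QK BK) {u' w' : V} (h' : TSPair QK BK u' w') (y : V ≃ₗ[F] V)
    (σ : K →+* K) (hσ : ∀ k : K, ∀ x ∈ kln F (K := K) u' w', y (k • x) = σ k • y x)
    (D₀ : Submodule F V) (hD : D₀ ≤ kln F (K := K) u' w') (h4 : 4 ≤ finrank F D₀)
    (hfix : ∀ x ∈ D₀, y x = x) : ∀ x ∈ kln F (K := K) u' w', y x = x :=
  Cfsg.Agent.Lib.Helper57_OX3_SEMIFIX.semifix C h' y σ hσ D₀ hD h4 hfix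

/-! ### Part IRR: from a non-`K`-linear element of `U_L` to a full root group `U_{Kp}` -/

/-- IRR1 -/
theorem frame_of_nonlin (C : Ctx3 τ QK BK) {u w : V} (h : TSPair QK BK u w) {y : V ≃ₗ[F] V}
    (hU : InU (trQ τ QK) (kln F (K := K) u w) y) (hK : ¬ Klin K y) :
    ∃ p p' a b : V, Frame QK BK p p' a b ∧ p ≠ 0 ∧
      kln F (K := K) p a = kln F (K := K) u w ∧
      ∃ k k' : K, trB τ BK (y (k • b) - k • b) (k' • b) ≠ 0 :=
  Cfsg.Agent.Lib.Helper82_OX3_IRR1.frame_of_nonlin C h hU hK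

/-- IRR2: the double commutator with the `K`-transvections `ksieg (s • p) b` -/
theorem double_comm (C : Ctx3 τ QK BK) (M : Subgroup (V ≃ₗ[F] V)) (hM : HypO3 τ QK BK M)
    {p p' a b : V} (fr : Frame QK BK p p' a b) {y : V ≃ₗ[F] V} (hy : y ∈ M)
    (hU : InU (trQ τ QK) (kln F (K := K) p a) y) (c : K) :
    ∃ y₂ ∈ M, InU (trQ τ QK) (kpt F (K := K) p) y₂ ∧ ∀ k k' : K,
      trB τ BK (y₂ (k • p') - k • p') (k' • p') =
        trB τ BK (y ((c * k) • b) - (c * k) • b) (k' • b) +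
        trB τ BK (y (k • b) - k • b) ((c * k') • b) :=
  Cfsg.Agent.Lib.Helper93_OX3_IRR2.double_comm C M hM fr hy hU c

/-- IRR3 -/
theorem root_of_forms (C : Ctx3 τ QK BK) (M : Subgroup (V ≃ₗ[F] V)) (hM : HypO3 τ QK BK M)
    {p p' : V} (hp : QK p = 0) (hp' : QK p' = 0) (hpp' : BK p p' = 1)
    (hall : ∀ γ' : K →ₗ[F] K →ₗ[F] F, (∀ k, γ' k k = 0) →
      ∃ y₂ ∈ M, InU (trQ τ QK) (kpt F (K := K) p) y₂ ∧
        ∀ k k' : K, trB τ BK (y₂ (k • p') - k • p') (k' • p') = γ' k k') :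
    Root τ QK BK M p :=
  Cfsg.Agent.Lib.Helper82_OX3_IRR3.root_of_forms C M hM hp hp' hpp' hall

/-! ### Part ALL -/

/-- TRANS3: the group generated by the `K`-Siegel elements is transitive on singular `K`-points -/
theorem ks_trans3 (C : Ctx3 τ QK BK) (hs : Split3 QK BK) {p v : V}
    (hp0 : p ≠ 0) (hv0 : v ≠ 0) (hp : QK p = 0) (hv : QK v = 0) :
    ∃ h ∈ KS F QK BK, ∃ c : K, c ≠ 0 ∧ h p = c • v :=
  Cfsg.Agent.Lib.Helper94_OX3_TRANS3.ks_trans3 C hs hp0 hv0 hp hv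

/-- ROOTALL -/
theorem root_all3 (C : Ctx3 τ QK BK) (hs : Split3 QK BK)
    (M : Subgroup (V ≃ₗ[F] V)) (hM : HypO3 τ QK BK M) {p₁ : V} (hp0 : p₁ ≠ 0) (hp : QK p₁ = 0)
    (hroot : Root τ QK BK M p₁) : ∀ v : V, QK v = 0 → Root τ QK BK M v :=
  Cfsg.Agent.Lib.Helper78_OX3_ROOTALL.root_all3 C hs M hM hp0 hp hroot

/-- BAL: the `K`-balanced relation modulo `M` -/
theorem balanced (C : Ctx3 τ QK BK) (M : Subgroup (V ≃ₗ[F] V)) (hM : HypO3 τ QK BK M)
    (hroot : ∀ v : V, QK v = 0 → Root τ QK BK M v) {x y : V} (h : TSPair QK BK x y) (α β : K) :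
    sieg (trQ τ QK) (trB τ BK) (α • x) (β • y) *
      (sieg (trQ τ QK) (trB τ BK) (β • x) (α • y))⁻¹ ∈ M :=
  Cfsg.Agent.Lib.Helper59_OX3_BAL.balanced C M hM hroot h α β

/-- CROSS -/
theorem cross_mem (C : Ctx3 τ QK BK) (M : Subgroup (V ≃ₗ[F] V)) (hM : HypO3 τ QK BK M)
    (hroot : ∀ v : V, QK v = 0 → Root τ QK BK M v) {x y : V} (h : TSPair QK BK x y) (κ : K) :
    sieg (trQ τ QK) (trB τ BK) (κ • x) y ∈ M :=
  Cfsg.Agent.Lib.Helper80_OX3_CROSS.cross_mem C M hM hroot h κ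

/-- LINEALL -/
theorem line_all3 (C : Ctx3 τ QK BK) (M : Subgroup (V ≃ₗ[F] V)) (hM : HypO3 τ QK BK M)
    (hroot : ∀ v : V, QK v = 0 → Root τ QK BK M v) {x y : V} (h : TSPair QK BK x y) :
    ∀ z ∈ kln F (K := K) x y, ∀ z' ∈ kln F (K := K) x y,
      sieg (trQ τ QK) (trB τ BK) z z' ∈ M :=
  Cfsg.Agent.Lib.Helper94_OX3_LINEALL.line_all3 C M hM hroot h

/-- PERPALL -/
theorem perp_all3 (C : Ctx3 τ QK BK) (hs : Split3 QK BK)
    (M : Subgroup (V ≃ₗ[F] V)) (hM : HypO3 τ QK BK M)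
    (hline : ∀ x y : V, TSPair QK BK x y → ∀ z ∈ kln F (K := K) x y,
      ∀ z' ∈ kln F (K := K) x y, sieg (trQ τ QK) (trB τ BK) z z' ∈ M)
    {a f : V} (ha : QK a = 0) (hf : BK a f = 0) : sieg (trQ τ QK) (trB τ BK) a f ∈ M :=
  Cfsg.Agent.Lib.Helper94_OX3_PERPALL.perp_all3 C hs M hM hline ha hf

/-- FULLPERP -/
theorem full_perp3 (C : Ctx3 τ QK BK) (hs : Split3 QK BK)
    (M : Subgroup (V ≃ₗ[F] V)) (hM : HypO3 τ QK BK M)
    (hperp : ∀ a f : V, QK a = 0 → BK a f = 0 → sieg (trQ τ QK) (trB τ BK) a f ∈ M)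
    {a f : V} (ha : QK a = 0) (hf : trB τ BK a f = 0) :
    sieg (trQ τ QK) (trB τ BK) a f ∈ M :=
  Cfsg.Agent.Lib.Helper90_OX3_FULLPERP.full_perp3 C hs M hM hperp ha hf

/-- ALLSIEG -/
theorem all_sieg3 (C : Ctx3 τ QK BK) (hs : Split3 QK BK)
    (M : Subgroup (V ≃ₗ[F] V)) (hM : HypO3 τ QK BK M)
    (hfull : ∀ a f : V, QK a = 0 → trB τ BK a f = 0 → sieg (trQ τ QK) (trB τ BK) a f ∈ M) :
    AllSieg (trQ τ QK) (trB τ BK) M :=
  Cfsg.Agent.Lib.Helper78_OX3_ALLSIEG.all_sieg3 C hs M hM hfull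

/-! ### Part TT: the type transfer -/



end Cfsg.Agent.Lib.Helper97_OX3Deps
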