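import Mathlib
import Cfsg.Agent.Lib.Helper97_OX3Defs
import Cfsg.Agent.Lib.Helper97_OX3Deps
import Cfsg.Agent.Lib.Helper78_OX2_S_POINTaux
import Cfsg.Agent.Lib.Helper61_OX2_S_FIN
import Cfsg.Agent.Lib.Helper82_OX2_G_HYP

set_option autoImplicit false
set_option linter.unusedSectionVars false
set_option linter.unusedVariables false

/-!
# OEXT3: assembly of the abstract theorem (helper97)

`main_abstract3`: `Ctx3`, `Split3`, `HypO3 M` ⟹ every `g ∈ M` is `K`-semilinear or `M` contains all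
Siegel elements of `(Q, B) = (τ ∘ QK, τ ∘ BK)`.
(The type transfer "`Q` of plus type ⟹ `Split3`" is `Helper59_OX3Type.split_of_plus`.)
Proof: `pending/helper97/OEXT3_proof.md`.
-/

namespace Cfsg.Agent.Lib.Helper97_OX3Main

open Module Cfsg.Agent.Lib.Helper94_OrthSmall Cfsg.Agent.Lib.Helper94_OrthSiegel
  Cfsg.Agent.Lib.Helper98_ExtDefs Cfsg.Agent.Lib.Helper97_OX2Defs
  Cfsg.Agent.Lib.Helper97_OX3Defs Cfsg.Agent.Lib.Helper97_OX3Deps
open scoped commutatorElement

variable {F K V : Type*} [Field F] [Field K] [Algebra F K] [AddCommGroup V] [Module F V]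
  [Module K V] [IsScalarTower F K V]
variable {τ : K →ₗ[F] F} {QK : V → K} {BK : LinearMap.BilinForm K V}
variable [Finite F] [Finite K] [Module.Finite F V] [Module.Finite K V]

/-- a frame through a given nonzero singular vector -/
theorem exists_frame (C : Ctx3 τ QK BK) (hs : Split3 QK BK) {p : V} (hp0 : p ≠ 0)
    (hp : QK p = 0) : ∃ p' a b : V, Frame QK BK p p' a b := by
  obtain ⟨a, ha⟩ := exists_pair_through QK BK C.hQs C.hQp C.hN hs hp0 hp
  obtain ⟨p', b, fr⟩ := frame_of_pair QK BK C.hQs C.hQp C.hN ha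
  exact ⟨p', a, b, fr⟩

theorem Frame.pair_pa (C : Ctx3 τ QK BK) {p p' a b : V} (fr : Frame QK BK p p' a b) :
    TSPair QK BK p a := by
  refine ⟨fr.hp, fr.ha, fr.hpa, ?_⟩
  intro x y hxy
  have h1 : BK (x • p + y • a) p' = 0 := by rw [hxy, map_zero, LinearMap.zero_apply]
  have h2 : BK (x • p + y • a) b = 0 := by rw [hxy, map_zero, LinearMap.zero_apply]
  rw [map_add, map_smul, map_smul, LinearMap.add_apply, LinearMap.smul_apply,
    LinearMap.smul_apply, fr.hpp', C.BK_symm a p', fr.hp'a, smul_eq_mul, smul_eq_mul, mul_one,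
    mul_zero, add_zero] at h1
  rw [map_add, map_smul, map_smul, LinearMap.add_apply, LinearMap.smul_apply,
    LinearMap.smul_apply, fr.hpb, fr.hab, smul_eq_mul, smul_eq_mul, mul_one,
    mul_zero, zero_add] at h2
  exact ⟨h1, h2⟩

theorem Frame.pair_pb (C : Ctx3 τ QK BK) {p p' a b : V} (fr : Frame QK BK p p' a b) :
    TSPair QK BK p b := by
  refine ⟨fr.hp, fr.hb, fr.hpb, ?_⟩
  intro x y hxy
  have h1 : BK (x • p + y • b) p' = 0 := by rw [hxy, map_zero, LinearMap.zero_apply]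
  have h2 : BK (x • p + y • b) a = 0 := by rw [hxy, map_zero, LinearMap.zero_apply]
  rw [map_add, map_smul, map_smul, LinearMap.add_apply, LinearMap.smul_apply,
    LinearMap.smul_apply, fr.hpp', C.BK_symm b p', fr.hp'b, smul_eq_mul, smul_eq_mul, mul_one,
    mul_zero, add_zero] at h1
  rw [map_add, map_smul, map_smul, LinearMap.add_apply, LinearMap.smul_apply,
    LinearMap.smul_apply, fr.hpa, C.BK_symm b a, fr.hab, smul_eq_mul, smul_eq_mul, mul_one,
    mul_zero, zero_add] at h2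
  exact ⟨h1, h2⟩

/-- two totally singular lines through a singular point -/
theorem two_lines (C : Ctx3 τ QK BK) (hs : Split3 QK BK) (p : V) (hp0 : p ≠ 0) (hp : QK p = 0) :
    ∃ a b : V, QK a = 0 ∧ QK b = 0 ∧ BK p a = 0 ∧ BK p b = 0 ∧
      ∀ x y z : K, x • p + y • a + z • b = 0 → x = 0 ∧ y = 0 ∧ z = 0 := by
  obtain ⟨p', a, b, fr⟩ := exists_frame C hs hp0 hp
  refine ⟨a, b, fr.ha, fr.hb, fr.hpa, fr.hpb, ?_⟩
  intro x y z hxyz
  have h1 : BK (x • p + y • a + z • b) p' = 0 := by rw [hxyz, map_zero, LinearMap.zero_apply]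
  have h2 : BK (x • p + y • a + z • b) b = 0 := by rw [hxyz, map_zero, LinearMap.zero_apply]
  have h3 : BK (x • p + y • a + z • b) a = 0 := by rw [hxyz, map_zero, LinearMap.zero_apply]
  have hbb : BK b b = 0 := by rw [C.BK_self, fr.hb, mul_zero]
  have haa : BK a a = 0 := by rw [C.BK_self, fr.ha, mul_zero]
  simp only [map_add, map_smul, LinearMap.add_apply, LinearMap.smul_apply, smul_eq_mul] at h1 h2 h3
  rw [fr.hpp', C.BK_symm a p', fr.hp'a, C.BK_symm b p', fr.hp'b] at h1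
  rw [fr.hpb, fr.hab, hbb] at h2
  rw [fr.hpa, haa, C.BK_symm b a, fr.hab] at h3
  refine ⟨by simpa using h1, by simpa using h2, by simpa using h3⟩

/-- `QK` vanishes on a totally singular `K`-line -/
theorem QK_line (C : Ctx3 τ QK BK) {u w : V} (h : TSPair QK BK u w) (a b : K) :
    QK (a • u + b • w) = 0 := by
  rw [C.hQp, C.hQs, C.hQs, h.1, h.2.1, map_smul, map_smul, LinearMap.smul_apply, h.2.2.1]
  simp

theorem QK_kln (C : Ctx3 τ QK BK) {u w : V} (h : TSPair QK BK u w) {x : V}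
    (hx : x ∈ kln F (K := K) u w) : QK x = 0 := by
  obtain ⟨a, b, rfl⟩ := mem_kln.mp hx
  exact QK_line C h a b

/-- Part S' -/
theorem partS (C : Ctx3 τ QK BK) (hs : Split3 QK BK) (M : Subgroup (V ≃ₗ[F] V))
    (hall : ∀ g ∈ M, ∀ u w : V, QK u = 0 → QK w = 0 → BK u w = 0 →
      (∀ x y : K, x • u + y • w = 0 → x = 0 ∧ y = 0) → ∀ k a b : K,
      ∃ a' b' : K, k • g (a • u + b • w) = g (a' • u + b' • w)) :
    ∀ g ∈ M, IsSemilin F K V g := by
  intro g hg
  have hV : ∃ v : V, v ≠ 0 := by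
    have hpos : 0 < finrank K V := by rw [C.hm]; norm_num
    have : Nontrivial V := Module.nontrivial_of_finrank_pos (R := K) hpos
    exact exists_ne 0
  have h1 := Cfsg.Agent.Lib.Helper78_OX2_S_POINTaux.point_of_lines_of (F := F) (K := K)
    (QK := QK) (BK := BK) (two_lines C hs) g (hall g hg)
  exact Cfsg.Agent.Lib.Helper61_OX2_S_FIN.semilin_of_scalar hV g (scalar_of_points3 C hs g h1)

/-- **Lemma A**: two members `g L'`, `L` of the orbit meeting in dimension four give `Key` -/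
theorem key_of_meet4 (C : Ctx3 τ QK BK) (M : Subgroup (V ≃ₗ[F] V)) (hM : HypO3 τ QK BK M)
    {g : V ≃ₗ[F] V} (hg : g ∈ M) {u' w' u w : V} (h' : TSPair QK BK u' w')
    (h : TSPair QK BK u w)
    (hd : finrank F ↥((kln F (K := K) u' w').map g.toLinearMap ⊓ kln F (K := K) u w) = 4) :
    Key τ QK BK M := by
  classical
  have hgO := hM.le hg
  obtain ⟨κ', hκ', hstab⟩ := exists_kappa_stab C hgO h' h hd
  by_cases hbr : ∃ κ : K, ∃ x₀ ∈ kln F (K := K) u' w',
      nmap F BK κ u w (g x₀) ∉ (kln F (K := K) u' w').map g.toLinearMap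
  · obtain ⟨κ, x₀, hx₀, hout⟩ := hbr
    exact key_of_comm C M hM hg h' h hd hκ' hstab hx₀ hout
  · push Not at hbr
    set s : V ≃ₗ[F] V := ksieg F QK BK ((1 : K) • u) w with hs
    have hsM : s ∈ M := hM.sieg_mem _ _ (by rw [C.hQs, h.1, mul_zero])
      (by rw [map_smul, LinearMap.smul_apply, h.2.2.1, smul_zero])
    have hsx : ∀ x, s x = x + nmap F BK 1 u w x := C.ksieg_eq_nmap h.1 h.2.1 h.2.2.1 1
    set y : V ≃ₗ[F] V := g⁻¹ * s * g with hy
    have hyM : y ∈ M := M.mul_mem (M.mul_mem (M.inv_mem hg) hsM) hg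
    have hyx : ∀ x, y x = x + g⁻¹ (nmap F BK 1 u w (g x)) := by
      intro x
      rw [hy, LinearEquiv.mul_apply, LinearEquiv.mul_apply, hsx, map_add,
        Cfsg.Agent.Lib.Helper94_Symp.inv_apply_apply']
    have hst : ∀ x ∈ kln F (K := K) u' w', y x ∈ kln F (K := K) u' w' := by
      intro x hx
      rw [hyx]
      obtain ⟨z, hz, hzeq⟩ := Submodule.mem_map.mp (hbr 1 x hx)
      have hz' : g z = nmap F BK 1 u w (g x) := hzeq
      rw [← hz', Cfsg.Agent.Lib.Helper94_Symp.inv_apply_apply']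
      exact Submodule.add_mem _ hx hz
    obtain ⟨hskew, hin, hkill, hker, hrange⟩ := nmap_props3 C h (1 : K)
    by_cases hsl : ∃ σ : K →+* K, ∀ k : K, ∀ x ∈ kln F (K := K) u' w', y (k • x) = σ k • y x
    · exfalso
      obtain ⟨σ, hσ⟩ := hsl
      set D : Submodule F V := (kln F (K := K) u' w').map g.toLinearMap ⊓ kln F (K := K) u w
        with hD
      set D₀ : Submodule F V := D.map (g⁻¹).toLinearMap with hD₀
      have hD₀le : D₀ ≤ kln F (K := K) u' w' := by
        rintro x ⟨z, hz, rfl⟩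
        obtain ⟨x', hx', hx'z⟩ := Submodule.mem_map.mp hz.1
        have : g x' = z := hx'z
        rw [← this]
        show g⁻¹ (g x') ∈ _
        rw [Cfsg.Agent.Lib.Helper94_Symp.inv_apply_apply']
        exact hx'
      have hD₀4 : 4 ≤ finrank F D₀ := by
        rw [hD₀, LinearEquiv.finrank_map_eq, hd]
      have hfix : ∀ x ∈ D₀, y x = x := by
        rintro x ⟨z, hz, rfl⟩
        show y (g⁻¹ z) = g⁻¹ z
        rw [hyx, Cfsg.Agent.Lib.Helper94_Symp.apply_inv_apply', hkill z hz.2, map_zero, add_zero]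
      have hid := semifix C h' y σ hσ D₀ hD₀le hD₀4 hfix
      -- `g L' ≤ L`
      have hle : (kln F (K := K) u' w').map g.toLinearMap ≤ kln F (K := K) u w := by
        rintro z ⟨x, hx, rfl⟩
        have h1 := hid x hx
        rw [hyx] at h1
        have h2 : g⁻¹ (nmap F BK 1 u w (g x)) = 0 := by
          have := congrArg (fun v => v - x) h1
          simpa using this
        have h3 : nmap F BK 1 u w (g x) = 0 := by
          have := congrArg g h2
          rwa [Cfsg.Agent.Lib.Helper94_Symp.apply_inv_apply', map_zero] at this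
        exact hker one_ne_zero (g x) h3
      have h6 : finrank F ↥((kln F (K := K) u' w').map g.toLinearMap) = 6 := by
        rw [LinearEquiv.finrank_map_eq, finrank_kln C h'.2.2.2]
      rw [hD, inf_eq_left.mpr hle, h6] at hd
      omega
    · exact rig C M hM h' hyM hst hsl

/-- the local parity at a `K`-singular point -/
theorem parity (C : Ctx3 τ QK BK) (t : Submodule F V) (ht6 : finrank F t = 6)
    (hts : ∀ x ∈ t, trQ τ QK x = 0)
    (hperp : ∀ x : V, (∀ z ∈ t, trB τ BK x z = 0) → x ∈ t) {p p' a b : V}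
    (fr : Frame QK BK p p' a b) :
    Odd (finrank F ↥(t ⊓ kln F (K := K) p a) + finrank F ↥(t ⊓ kln F (K := K) p b)) := by
  obtain ⟨T', hT3, hT1, hT2, hT3'⟩ := proj_props C t ht6 hts hperp fr.hp fr.hp' fr.hpp'
  have hle : T' ≤ kln F (K := K) a b := by
    intro y hy
    obtain ⟨h1, h2, _⟩ := hT1 y hy
    have := frame_decomp QK BK C.hQs C.hQp C.hN C.hm fr y
    rw [h2, h1, zero_smul, zero_smul, zero_add, zero_add] at this
    exact mem_kln.mpr ⟨BK y b, BK y a, this⟩
  have hodd := parity_plane C fr.ha fr.hb fr.hab T' hT3 hle (fun y hy => (hT1 y hy).2.2)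
  have ha0 : a ≠ 0 := by
    intro h
    have := fr.hab
    rw [h, map_zero, LinearMap.zero_apply] at this
    exact zero_ne_one this
  have hb0 : b ≠ 0 := by
    intro h
    have := fr.hab
    rw [h, map_zero] at this
    exact zero_ne_one this
  have hd1 := finrank_inf_line C t fr.hp fr.hp' fr.hpp' ha0 fr.hpa fr.hp'a T'
    (fun y hy => ⟨(hT1 y hy).1, (hT1 y hy).2.1⟩) hT2 hT3'
  have hd2 := finrank_inf_line C t fr.hp fr.hp' fr.hpp' hb0 fr.hpb fr.hp'b T'
    (fun y hy => ⟨(hT1 y hy).1, (hT1 y hy).2.1⟩) hT2 hT3'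
  rw [hd1, hd2]
  obtain ⟨m, hm⟩ := hodd
  exact ⟨finrank F ↥(t ⊓ kpt F (K := K) p) + m, by omega⟩

/-- **KEY**: a member of the orbit of totally singular `K`-lines that is not `K`-invariant -/
theorem key_of_noninv (C : Ctx3 τ QK BK) (hs : Split3 QK BK) (M : Subgroup (V ≃ₗ[F] V))
    (hM : HypO3 τ QK BK M) {g : V ≃ₗ[F] V} (hg : g ∈ M) {u₀ w₀ : V} (h₀ : TSPair QK BK u₀ w₀)
    (hnK : ¬ IsKinv K ((kln F (K := K) u₀ w₀).map g.toLinearMap)) : Key τ QK BK M := by
  classical
  have hgO := hM.le hg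
  set t : Submodule F V := (kln F (K := K) u₀ w₀).map g.toLinearMap with ht
  have ht6 : finrank F t = 6 := by
    rw [ht, LinearEquiv.finrank_map_eq, finrank_kln C h₀.2.2.2]
  have hts : ∀ x ∈ t, trQ τ QK x = 0 := by
    rintro x ⟨z, hz, rfl⟩
    show trQ τ QK (g z) = 0
    rw [hgO z]
    exact trQ_eq_zero (QK_kln C h₀ hz)
  have hperp : ∀ x : V, (∀ z ∈ t, trB τ BK x z = 0) → x ∈ t :=
    fun x hx => ts_perp C t ht6 hts hx
  obtain ⟨p, hpt, hp0, hp⟩ := exists_ksing C t (by omega) hts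
  obtain ⟨p', a, b, fr⟩ := exists_frame C hs hp0 hp
  have hodd := parity C t ht6 hts hperp fr
  have hcase : ∀ a' : V, TSPair QK BK p a' →
      Even (finrank F ↥(t ⊓ kln F (K := K) p a')) → Key τ QK BK M := by
    intro a' hpa' hev
    have hL6 : finrank F ↥(kln F (K := K) p a') = 6 := finrank_kln C hpa'.2.2.2
    have hle6 : finrank F ↥(t ⊓ kln F (K := K) p a') ≤ 6 := by
      have := Submodule.finrank_mono (inf_le_left : t ⊓ kln F (K := K) p a' ≤ t)
      omega
    have hpos : 0 < finrank F ↥(t ⊓ kln F (K := K) p a') := by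
      apply Module.finrank_pos_iff_exists_ne_zero.mpr
      refine ⟨⟨p, hpt, mem_kln.mpr ⟨1, 0, by simp⟩⟩, ?_⟩
      intro h
      exact hp0 (congrArg Subtype.val h)
    have hne6 : finrank F ↥(t ⊓ kln F (K := K) p a') ≠ 6 := by
      intro h6
      have h1 : t ⊓ kln F (K := K) p a' = t :=
        Submodule.eq_of_le_of_finrank_eq inf_le_left (by rw [h6, ht6])
      have h2 : t ⊓ kln F (K := K) p a' = kln F (K := K) p a' :=
        Submodule.eq_of_le_of_finrank_eq inf_le_right (by rw [h6, hL6])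
      apply hnK
      rw [← h1, h2]
      exact Ctx3.isKinv_kln p a'
    obtain ⟨m, hm⟩ := hev
    have hd : finrank F ↥(t ⊓ kln F (K := K) p a') = 2 ∨
        finrank F ↥(t ⊓ kln F (K := K) p a') = 4 := by omega
    rcases hd with hd | hd
    · obtain ⟨κ, hκ, hcov⟩ := exists_kappa_cover C t ht6 hts hperp hpa' hd
      have h4 := finrank_meet_of_cover C t ht6 hpa' hd hκ hcov
      set s : V ≃ₗ[F] V := ksieg F QK BK (κ • p) a' with hsdef
      have hsM : s ∈ M := hM.sieg_mem _ _ (by rw [C.hQs, hpa'.1, mul_zero])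
        (by rw [map_smul, LinearMap.smul_apply, hpa'.2.2.1, smul_zero])
      have hg'M : g⁻¹ * s * g ∈ M := M.mul_mem (M.mul_mem (M.inv_mem hg) hsM) hg
      apply key_of_meet4 C M hM hg'M h₀ h₀
      have heq : (kln F (K := K) u₀ w₀).map (g⁻¹ * s * g).toLinearMap ⊓ kln F (K := K) u₀ w₀ =
          (t ⊓ t.map s.toLinearMap).map (g⁻¹).toLinearMap := by
        ext x
        constructor
        · rintro ⟨⟨z, hz, rfl⟩, hx2⟩
          refine ⟨g ((g⁻¹ * s * g) z), ⟨⟨_, hx2, rfl⟩, ⟨g z, ⟨z, hz, rfl⟩, ?_⟩⟩, ?_⟩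
          · show s (g z) = g ((g⁻¹ * s * g) z)
            rw [LinearEquiv.mul_apply, LinearEquiv.mul_apply,
              Cfsg.Agent.Lib.Helper94_Symp.apply_inv_apply']
          · show g⁻¹ (g ((g⁻¹ * s * g) z)) = _
            rw [Cfsg.Agent.Lib.Helper94_Symp.inv_apply_apply']
            rfl
        · rintro ⟨v, ⟨⟨z₂, hz₂, hz₂v⟩, ⟨v', ⟨z, hz, hzv'⟩, hv'v⟩⟩, rfl⟩
          have e1 : g z₂ = v := hz₂v
          have e2 : g z = v' := hzv'
          have e3 : s v' = v := hv'v
          refine ⟨⟨z, hz, ?_⟩, ?_⟩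
          · show (g⁻¹ * s * g) z = g⁻¹ v
            rw [LinearEquiv.mul_apply, LinearEquiv.mul_apply, e2, e3]
          · show g⁻¹ v ∈ _
            rw [← e1, Cfsg.Agent.Lib.Helper94_Symp.inv_apply_apply']
            exact hz₂
      rw [heq, LinearEquiv.finrank_map_eq, h4]
    · exact key_of_meet4 C M hM hg h₀ hpa' hd
  rcases Nat.even_or_odd (finrank F ↥(t ⊓ kln F (K := K) p a)) with he | ho
  · exact hcase a (Frame.pair_pa C fr) he
  · have hev : Even (finrank F ↥(t ⊓ kln F (K := K) p b)) := by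
      rcases hodd with ⟨m, hm⟩
      rcases ho with ⟨n, hn⟩
      exact ⟨m - n, by omega⟩
    exact hcase b (Frame.pair_pb C fr) hev

/-- the alternating form `(k, k') ↦ B (y (k b) - k b) (k' b)` attached to `y ∈ U_L` and `b` -/
noncomputable def gam (τ : K →ₗ[F] F) (BK : LinearMap.BilinForm K V) (y : V ≃ₗ[F] V) (b : V) :
    K →ₗ[F] K →ₗ[F] F :=
  LinearMap.mk₂ F (fun k k' => trB τ BK (y (k • b) - k • b) (k' • b))
    (by intro k₁ k₂ k'; simp only [add_smul, map_add, add_sub_add_comm, LinearMap.add_apply])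
    (by
      intro c k k'
      simp only [smul_assoc, map_smul, ← smul_sub, LinearMap.smul_apply])
    (by intro k k₁ k₂; simp only [add_smul, map_add])
    (by intro c k k'; simp only [smul_assoc, map_smul])

theorem gam_apply (y : V ≃ₗ[F] V) (b : V) (k k' : K) :
    gam τ BK y b k k' = trB τ BK (y (k • b) - k • b) (k' • b) := rfl

/-- **IRR**: from `Key` to a full root group -/
theorem root_of_key (C : Ctx3 τ QK BK) (hs : Split3 QK BK) (M : Subgroup (V ≃ₗ[F] V))
    (hM : HypO3 τ QK BK M) (hK : Key τ QK BK M) :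
    ∃ p : V, p ≠ 0 ∧ QK p = 0 ∧ Root τ QK BK M p := by
  obtain ⟨u, w, huw, y, hyM, hU, hnl⟩ := hK
  obtain ⟨p, p', a, b, fr, hp0, hline, k₀, k₀', hne⟩ := frame_of_nonlin C huw hU hnl
  have hU' : InU (trQ τ QK) (kln F (K := K) p a) y := by rw [hline]; exact hU
  refine ⟨p, hp0, fr.hp, ?_⟩
  -- `γ` is alternating
  have hγ : ∀ k : K, gam τ BK y b k k = 0 := by
    intro k
    rw [gam_apply]
    set x : V := k • b with hx
    have h1 : trQ τ QK (y x) = trQ τ QK x := hU'.1 x
    have h2 : y x = x + (y x - x) := by abel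
    have h3 : trQ τ QK (y x - x) = 0 := trQ_eq_zero (QK_kln C (Frame.pair_pa C fr) (hU'.2.1 x))
    rw [h2, C.trQ_add, h3, add_zero] at h1
    have h4 : trB τ BK x (y x - x) = 0 := by
      have := congrArg (fun v => v - trQ τ QK x) h1
      simpa using this
    rw [C.trB_symm]
    exact h4
  apply root_of_forms C M hM fr.hp fr.hp' fr.hpp'
  intro γ' hγ'
  obtain ⟨c, hc⟩ := der_surj C.h2 C.hdim (gam τ BK y b) γ' hγ hγ' ⟨k₀, k₀', hne⟩
  obtain ⟨y₂, hy₂M, hy₂U, hform⟩ := double_comm C M hM fr hyM hU' c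
  refine ⟨y₂, hy₂M, hy₂U, ?_⟩
  intro k k'
  rw [hform, hc, gam_apply, gam_apply]

/-- **ALL**: a full root group gives all Siegel elements -/
theorem all_of_root (C : Ctx3 τ QK BK) (hs : Split3 QK BK) (M : Subgroup (V ≃ₗ[F] V))
    (hM : HypO3 τ QK BK M) {p : V} (hp0 : p ≠ 0) (hp : QK p = 0) (hroot : Root τ QK BK M p) :
    AllSieg (trQ τ QK) (trB τ BK) M := by
  have hrall := root_all3 C hs M hM hp0 hp hroot
  have hline : ∀ x y : V, TSPair QK BK x y → ∀ z ∈ kln F (K := K) x y,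
      ∀ z' ∈ kln F (K := K) x y, sieg (trQ τ QK) (trB τ BK) z z' ∈ M :=
    fun x y hxy => line_all3 C M hM hrall hxy
  have hperp : ∀ a f : V, QK a = 0 → BK a f = 0 → sieg (trQ τ QK) (trB τ BK) a f ∈ M :=
    fun a f ha hf => perp_all3 C hs M hM hline ha hf
  have hfull : ∀ a f : V, QK a = 0 → trB τ BK a f = 0 →
      sieg (trQ τ QK) (trB τ BK) a f ∈ M :=
    fun a f ha hf => full_perp3 C hs M hM hperp ha hf
  exact all_sieg3 C hs M hM hfull

/-- **OEXT3, abstract form** -/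
theorem main_abstract3 (C : Ctx3 τ QK BK) (hs : Split3 QK BK) (M : Subgroup (V ≃ₗ[F] V))
    (hM : HypO3 τ QK BK M) :
    (∀ g ∈ M, IsSemilin F K V g) ∨ AllSieg (trQ τ QK) (trB τ BK) M := by
  classical
  by_cases hall : ∀ g ∈ M, ∀ u w : V, QK u = 0 → QK w = 0 → BK u w = 0 →
      (∀ x y : K, x • u + y • w = 0 → x = 0 ∧ y = 0) → ∀ k a b : K,
      ∃ a' b' : K, k • g (a • u + b • w) = g (a' • u + b' • w)
  · left
    exact partS C hs M hall
  · right
    push Not at hall
    obtain ⟨g, hg, u, w, hu, hw, huw, hind, k, a, b, hbad⟩ := hall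
    have h₀ : TSPair QK BK u w := ⟨hu, hw, huw, hind⟩
    have hnK : ¬ IsKinv K ((kln F (K := K) u w).map g.toLinearMap) := by
      intro hK
      have h1 := hK k (g (a • u + b • w)) ⟨a • u + b • w, mem_kln.mpr ⟨a, b, rfl⟩, rfl⟩
      obtain ⟨z, hz, hzeq⟩ := h1
      obtain ⟨a', b', rfl⟩ := mem_kln.mp hz
      exact hbad a' b' hzeq.symm
    have hkey := key_of_noninv C hs M hM hg h₀ hnK
    obtain ⟨p, hp0, hp, hroot⟩ := root_of_key C hs M hM hkey
    exact all_of_root C hs M hM hp0 hp hroot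

end Cfsg.Agent.Lib.Helper97_OX3Main
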