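import Mathlib
import Cfsg.Agent.Lib.Helper97_OX3Defs
import Cfsg.Agent.Lib.Helper97_OX3Main
import Cfsg.Agent.Lib.Helper80_OX2_BR_SIEG

set_option autoImplicit false
set_option linter.unusedSectionVars false
set_option linter.unusedVariables false

/-!
# OEXT3: the abstract theorem in the form used by the Geo bridge `Helper59_OX3Bridge.bridge_orth3`
(helper97)

`F ⊆ K` finite fields of odd characteristic, `[K : F] = 3`, `V` a `K`-space of dimension four with
a nondegenerate `K`-quadratic form `QK` of Witt index two (hyperbolic basis `e1, f1, e2, f2`),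
`Q = Tr_{K/F} ∘ QK`.  A subgroup `M` of `O(V, Q)` containing all `K`-semilinear elements of
`Ω(V, Q) = ⁅oG Q, oG Q⁆` either consists of `K`-semilinear maps or contains all Siegel elements
of `Q`.
-/

namespace Cfsg.Agent.Lib.Helper97_OX3Final

open Module Cfsg.Agent.Lib.Helper94_OrthSmall Cfsg.Agent.Lib.Helper94_OrthSiegel
  Cfsg.Agent.Lib.Helper98_ExtDefs Cfsg.Agent.Lib.Helper97_OX2Defs
  Cfsg.Agent.Lib.Helper97_OX3Defs
open scoped commutatorElement

variable {F K V : Type*} [Field F] [Field K] [Algebra F K] [AddCommGroup V] [Module F V]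
  [Module K V] [IsScalarTower F K V]
variable {τ : K →ₗ[F] F} {QK : V → K} {BK : LinearMap.BilinForm K V}

/-- BR_SIEG3: the `K`-Siegel elements are commutators of isometries of `Q = τ ∘ QK` -/
theorem ksieg_mem_commutator3 (C : Ctx3 τ QK BK) {u w : V} (hu : QK u = 0) (huw : BK u w = 0) :
    ksieg F QK BK u w ∈ ⁅oG (trQ τ QK), oG (trQ τ QK)⁆ := by
  have h2K : (2 : K) ≠ 0 := C.two_ne_zero_K
  have hl0 : (-1 : K) ≠ 0 := neg_ne_zero.mpr one_ne_zero
  have hl1 : (-1 : K) ≠ 1 := by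
    intro h
    apply h2K
    have : (2 : K) = 1 - (-1) := by ring
    rw [this, h, sub_self]
  have h1 : sieg QK BK u w ∈ ⁅oG QK, oG QK⁆ :=
    sieg_mem_commutator QK BK C.hQs C.hQp C.hN hl0 hl1 hu huw
  have h3 : Cfsg.Agent.Lib.Helper80_OX2_BR_SIEG.rsHom F K V (sieg QK BK u w) ∈
      (⁅oG QK, oG QK⁆).map (Cfsg.Agent.Lib.Helper80_OX2_BR_SIEG.rsHom F K V) :=
    Subgroup.mem_map_of_mem _ h1
  rw [Subgroup.map_commutator] at h3
  exact Subgroup.commutator_mono (Cfsg.Agent.Lib.Helper80_OX2_BR_SIEG.map_oG_le τ QK)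
    (Cfsg.Agent.Lib.Helper80_OX2_BR_SIEG.map_oG_le τ QK) h3

theorem oext3_abstract [Finite F] [Finite K] [Module.Finite F V] (h2 : (2 : F) ≠ 0)
    (hr : finrank F K = 3)
    (QK : V → K) (BK : LinearMap.BilinForm K V)
    (hQKs : ∀ (c : K) (v : V), QK (c • v) = c * c * QK v)
    (hQKp : ∀ u v : V, QK (u + v) = QK u + QK v + BK u v) (hNK : BK.Nondegenerate)
    (Q : V → F) (B : LinearMap.BilinForm F V)
    (hQs : ∀ (c : F) (v : V), Q (c • v) = c * c * Q v)
    (hQp : ∀ u v : V, Q (u + v) = Q u + Q v + B u v)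
    (htr : ∀ v : V, Algebra.trace F K (QK v) = Q v) (hm : finrank K V = 4)
    (hbasis : ∃ e1 f1 e2 f2 : V, QK e1 = 0 ∧ QK f1 = 0 ∧ QK e2 = 0 ∧ QK f2 = 0 ∧
      BK e1 f1 = 1 ∧ BK e2 f2 = 1 ∧ BK e1 e2 = 0 ∧ BK e1 f2 = 0 ∧ BK f1 e2 = 0 ∧
      BK f1 f2 = 0 ∧
      ∀ v : V, v = BK v f1 • e1 + BK v e1 • f1 + BK v f2 • e2 + BK v e2 • f2)
    (M : Subgroup (V ≃ₗ[F] V)) (hM : M ≤ oG Q)
    (hsl : ∀ g ∈ ⁅oG Q, oG Q⁆, IsSemilin F K V g → g ∈ M) :
    (∀ g ∈ M, IsSemilin F K V g) ∨ AllSieg Q B M := by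
  haveI : Module.Finite K V := Module.Finite.of_restrictScalars_finite F K V
  set τ : K →ₗ[F] F := Algebra.trace F K with hτ
  have hQeq : trQ τ QK = Q := by
    funext v
    rw [trQ_apply, hτ, htr]
  have hBtr : ∀ u v : V, Algebra.trace F K (BK u v) = B u v := by
    intro u v
    have h1 := hQp u v
    rw [← htr, ← htr, ← htr, hQKp, map_add, map_add] at h1
    exact add_left_cancel h1
  have hBeq : trB τ BK = B := by
    apply LinearMap.ext
    intro u
    apply LinearMap.ext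
    intro v
    rw [trB_apply, hτ, hBtr]
  have C : Ctx3 τ QK BK := ⟨h2, fun k => rfl, hr, hQKs, hQKp, hNK, hm⟩
  have hs : Split3 QK BK := by
    obtain ⟨e1, f1, e2, f2, h1, h2', h3, h4, h5, h6, h7, h8, h9, h10, -⟩ := hbasis
    refine ⟨e1, e2, h1, h3, h7, ?_⟩
    intro a b hab
    have hsymm := C.BK_symm
    have ha : BK (a • e1 + b • e2) f1 = 0 := by rw [hab, map_zero, LinearMap.zero_apply]
    have hb : BK (a • e1 + b • e2) f2 = 0 := by rw [hab, map_zero, LinearMap.zero_apply]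
    rw [map_add, map_smul, map_smul, LinearMap.add_apply, LinearMap.smul_apply,
      LinearMap.smul_apply, h5, hsymm e2 f1, h9, smul_eq_mul, smul_eq_mul, mul_one, mul_zero,
      add_zero] at ha
    rw [map_add, map_smul, map_smul, LinearMap.add_apply, LinearMap.smul_apply,
      LinearMap.smul_apply, h8, h6, smul_eq_mul, smul_eq_mul, mul_one, mul_zero,
      zero_add] at hb
    exact ⟨ha, hb⟩
  have hlin : ∀ g : V ≃ₗ[F] V, (∀ (k : K) (x : V), g (k • x) = k • g x) → IsSemilin F K V g :=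
    fun g hg => ⟨RingEquiv.refl K, fun k v => by rw [hg]; rfl⟩
  have hH : HypO3 τ QK BK M := by
    refine ⟨?_, ?_⟩
    · rw [hQeq]; exact hM
    · intro u w hu huw
      apply hsl
      · have := ksieg_mem_commutator3 C hu huw
        rw [hQeq] at this
        exact this
      · exact hlin _ (fun k x => ksieg_smul QK BK u w k x)
  rcases Cfsg.Agent.Lib.Helper97_OX3Main.main_abstract3 C hs M hH with h | h
  · exact Or.inl h
  · right
    rw [hQeq, hBeq] at h
    exact h

end Cfsg.Agent.Lib.Helper97_OX3Final
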