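import Mathlib
import Cfsg.Prelude.Def_GeometricClasses
import Cfsg.Agent.Lib.Helper59_OX3Bridge
import Cfsg.Agent.Lib.Helper97_OX3Final

set_option autoImplicit false
set_option linter.unusedSectionVars false
set_option linter.unusedVariables false

/-!
# OEXT3: conjunct (15) of S5870 (`Ω₁₂⁺(q)`), verbatim (helper97)

The normaliser of a self-adjoint field subalgebra of degree three is maximal in `Ω₁₂⁺(q)`, `q` odd:
helper59's bridge `Helper59_OX3Bridge.bridge_orth3` (incl. the type transfer) applied to the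
abstract theorem `Helper97_OX3Final.oext3_abstract`.
-/

open Cfsg.Geo

namespace Cfsg.Agent.Lib.Helper97_OX3Conj

universe u

/-- conjunct (15) of `S5870` -/
theorem omega12_ext3 {F : Type u} [Field F] [Fintype F] (Q : (Fin 12 → F) → F)
    (hQ : Cfsg.Geo.IsNondegenerateQuadraticForm Q) (hplus : Cfsg.Geo.IsPlusTypeOn Q ⊤) :
    Odd (Fintype.card F) → ∀ K : Subalgebra F (Matrix (Fin 12) (Fin 12) F),
      Cfsg.Geo.IsFieldSubalgebra 3 K → Cfsg.Geo.IsSelfAdjointFor (QuadraticMap.polar Q) K →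
      Cfsg.Geo.IsMaximalIn (Cfsg.Geo.omegaGL Q)
        (Cfsg.Geo.subalgebraNormalizer K ⊓ Cfsg.Geo.omegaGL Q) := by
  intro hodd K hK hsa
  refine Cfsg.Agent.Lib.Helper59_OX3Bridge.bridge_orth3 Q hQ hplus hodd K hK hsa ?_
  intro L _ _ _ V _ _ _ _ _ QK BK hQKs hQKp hNK Q' B' hQs hQp htr hfr hm hbasis M hM hsl
  have h2 : (2 : F) ≠ 0 := Cfsg.Agent.Lib.Helper29_OX2_Bridge.two_ne_zero_of_odd' hodd
  exact Cfsg.Agent.Lib.Helper97_OX3Final.oext3_abstract h2 hfr QK BK hQKs hQKp hNK Q' B'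
    hQs hQp htr hm hbasis M hM hsl

end Cfsg.Agent.Lib.Helper97_OX3Conj
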