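import Mathlib
import Cfsg.Prelude.Def_Blocks
import Cfsg.Prelude.Def_Transfer
import Cfsg.Agent.Lib.Helper59_Thompson
import Cfsg.Agent.Lib.Helper16_Cover
import Cfsg.Agent.Lib.Helper16_PCongr
import Cfsg.Agent.Lib.Helper57_BlockDim
import Cfsg.Agent.Lib.Helper82_LinkingGalois
import Cfsg.Agent.Lib.Helper75_CanonExt
import Cfsg.Agent.Lib.Helper78_LocalRing
import Cfsg.Agent.S4736
import Cfsg.Agent.Lib.Helper77_QuotBlocks
import Cfsg.Agent.Lib.Helper77_BlockBasics

/-!
# Thompson's theorem for the principal block (helper97)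

* `not_dvd_card_pResidual_principal`: if every irreducible character of degree prime to `p` in the
  principal `p`-block of `G` that is fixed by the `k`-th power map (`k` coprime to `|G|`, the power
  map of `p`-power order; `k = 1` allowed) is linear, then `O^p(G)` has order prime to `p`.
* `exists_fixed_extension`: an invariant character of `O^p(G)` of degree prime to `p` fixed by the
  `k`-th power map has an extension fixed by the `k`-th power map.
* `charDegree_eq_one_of_npc`: in a group with a normal `p`-complement the characters of degree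
  prime to `p` in the principal block are linear.
* `dvd_sum_sq_principal`, `sameBlock_lin_mul`, `sameBlock_conjFun`, `fixedHoms`.
-/

set_option autoImplicit false
set_option linter.style.haveILetI false
set_option linter.unusedSectionVars false

namespace Cfsg.Agent.Lib.Helper97_PrincipalThompson

open Cfsg Cfsg.Agent.Lib.Helper78_LocalRing Cfsg.Agent.Lib.Helper75_LinChar
  Cfsg.Agent.Lib.Helper3_CharBridge

open scoped ComplexConjugate

section Dim

variable {H : Type*} [Group H] [Fintype H]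

open Cfsg.Agent.Lib.Helper57_BrauerFeit in
/-- The dimension of the principal block of a group of order divisible by `p` is divisible by
`p`. -/
theorem dvd_sum_sq_principal {p : ℕ} [Fact p.Prime] {M : Ideal AlgInt} (hM : IsPModular p M)
    (hp : p ∣ Nat.card H) :
    p ∣ ∑ ψ ∈ bset (principalBlock M H), charDegree (ψ : H → ℂ) ^ 2 := by
  classical
  have hMp : M.IsPrime := isPrime_of_isPModular hM
  obtain ⟨y, hy⟩ := exists_prime_orderOf_dvd_card' p hp
  have hB : IsPBlock M (principalBlock M H) := ⟨Cfsg.Agent.Lib.Helper80_CharBasic.oneIrr H, rfl⟩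
  have h0 := Cfsg.Agent.Lib.Helper57_BlockDim.sum_deg_mul_eq_zero hM hB y (by rw [hy])
  rw [← memLocalIdeal_natCast_iff hM]
  have h1 : ((∑ ψ ∈ bset (principalBlock M H), charDegree (ψ : H → ℂ) ^ 2 : ℕ) : ℂ) =
      ∑ ψ ∈ bset (principalBlock M H),
        (charDegree (ψ : H → ℂ) : ℂ) * ((ψ : H → ℂ) 1 - (ψ : H → ℂ) (y * 1)) := by
    rw [← sub_zero (((∑ ψ ∈ bset (principalBlock M H), charDegree (ψ : H → ℂ) ^ 2 : ℕ) : ℂ)), ← h0]
    push_cast
    rw [← Finset.sum_sub_distrib]
    refine Finset.sum_congr rfl (fun ψ _ => ?_)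
    rw [Cfsg.Agent.Lib.Helper77_BlockBasics.apply_one_eq_charDegree ψ, mul_one]
    ring
  rw [h1]
  refine memLocalIdeal_sum hMp _ _ (fun ψ _ => ?_)
  apply memLocalIdeal_mul_left hMp (memLocalRing_natCast hMp _)
  have h2 := Cfsg.Agent.Lib.Helper16_PCongr.memLocalIdeal_irr_mul_sub hM ψ (x := y) (c := 1)
    (by rw [mul_one, one_mul]) (k := 1) (by rw [hy, pow_one])
  have h3 := memLocalIdeal_neg h2
  rwa [neg_sub] at h3

end Dim

section LinMul

variable {H : Type*} [Group H] [Finite H]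

theorem memLocalRing_lin {M : Ideal AlgInt} (hM : M.IsPrime) {μ : H → ℂ} (hμ : IsLin H μ)
    (g : H) : MemLocalRing M (μ g) := by
  have h1 : μ g ^ Nat.card H = 1 := hμ.pow_card_eq_one g
  have hint : IsIntegral ℤ (μ g) :=
    IsIntegral.of_pow (n := Nat.card H) Nat.card_pos (by rw [h1]; exact isIntegral_one)
  exact memLocalRing_algInt hM ⟨μ g, hint⟩

theorem centralChar_lin_mul {μ : H → ℂ} (hμ : IsLin H μ) (χ : H → ℂ) (g : H) :
    centralChar (μ * χ) g = μ g * centralChar χ g := by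
  unfold centralChar
  rw [Pi.mul_apply, Pi.mul_apply, hμ.2, one_mul]
  ring

/-- Multiplication by a linear character preserves the block relation. -/
theorem sameBlock_lin_mul {M : Ideal AlgInt} (hM : M.IsPrime) {μ : H → ℂ} (hμ : IsLin H μ)
    {χ ψ : H → ℂ} (h : SameBlock M χ ψ) : SameBlock M (μ * χ) (μ * ψ) := by
  intro g
  rw [centralChar_lin_mul hμ, centralChar_lin_mul hμ, ← mul_sub]
  exact memLocalIdeal_mul_left hM (memLocalRing_lin hM hμ g) (h g)

/-- The linear characters in the principal block are closed under multiplication. -/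
theorem sameBlock_one_lin_mul {M : Ideal AlgInt} (hM : M.IsPrime) {μ ν : H → ℂ} (hμ : IsLin H μ)
    (h1 : SameBlock M (fun _ : H => (1 : ℂ)) μ) (h2 : SameBlock M (fun _ : H => (1 : ℂ)) ν) :
    SameBlock M (fun _ : H => (1 : ℂ)) (μ * ν) := by
  have h3 := sameBlock_lin_mul hM hμ h2
  have h4 : μ * (fun _ : H => (1 : ℂ)) = μ := by
    funext g
    simp
  rw [h4] at h3
  exact sameBlock_trans hM h1 h3

/-- The linear characters in the principal block are closed under inversion. -/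
theorem sameBlock_one_lin_inv {M : Ideal AlgInt} (hM : M.IsPrime) {μ : H → ℂ} (hμ : IsLin H μ)
    (h1 : SameBlock M (fun _ : H => (1 : ℂ)) μ) :
    SameBlock M (fun _ : H => (1 : ℂ)) (fun g => (μ g)⁻¹) := by
  have h3 := sameBlock_lin_mul hM hμ.inv h1
  have h4 : (fun g => (μ g)⁻¹) * (fun _ : H => (1 : ℂ)) = fun g => (μ g)⁻¹ := by
    funext g
    simp
  have h5 : (fun g => (μ g)⁻¹) * μ = fun _ : H => (1 : ℂ) := by
    funext g
    simp [inv_mul_cancel₀ (hμ.ne_zero g)]
  rw [h4, h5] at h3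
  exact sameBlock_symm h3

end LinMul

section Ext

open Cfsg.Agent.Lib.Helper59_Thompson Cfsg.Agent.Lib.Helper75_DetChar
  Cfsg.Agent.Lib.Helper75_Gallagher Cfsg.Agent.Lib.Helper75_GalConj
  Cfsg.Agent.Lib.Helper75_CanonExt Cfsg.Agent.Lib.Helper2_PResidual

universe u

variable {G : Type u} [Group G] [Finite G] (p : ℕ) [Fact p.Prime]

/-- powers of a root of unity depend only on the exponent modulo its order -/
theorem pow_eq_pow_of_modEq_of_pow_eq_one {x : ℂ} {q a b : ℕ} (hx : x ^ q = 1)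
    (hab : a ≡ b [MOD q]) : x ^ a = x ^ b := by
  have h : ∀ m : ℕ, x ^ m = x ^ (m % q) := by
    intro m
    conv_lhs => rw [← Nat.mod_add_div m q]
    rw [pow_add, pow_mul, hx, one_pow, mul_one]
  rw [h a, h b, hab]

/-- An invariant irreducible character of `O^p(G)` of degree prime to `p` that is fixed by the
`k`-th power map has an extension to `G` fixed by the `k`-th power map. -/
theorem exists_fixed_extension (k : ℕ) (hk0 : k ≠ 0) (hk : k.Coprime (Nat.card G))
    (θ : ↥(Cfsg.pResidual p G) → ℂ) (hθ : Cfsg.IsIrrCharacter ↥(Cfsg.pResidual p G) θ)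
    (hinv : InvFun p θ) (d : ℕ) (hd : θ 1 = d) (hpd : ¬ p ∣ d)
    (hfix : ∀ n : ↥(Cfsg.pResidual p G), θ (n ^ k) = θ n) :
    ∃ χ : G → ℂ, Cfsg.IsIrrCharacter G χ ∧ (∀ n : ↥(Cfsg.pResidual p G), χ n = θ n) ∧
      ∀ g : G, χ (g ^ k) = χ g := by
  classical
  letI : Fintype G := Fintype.ofFinite G
  have hp : p.Prime := Fact.out
  have hN : (Cfsg.pResidual p G).Normal := pResidual_normal
  obtain ⟨χ, hχ, hχN⟩ := exists_extension p θ hθ hinv d hd hpd
  have hχc : Cfsg.IsCharacter G χ := isCharacter_of_isIrrCharacter hχ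
  have hχ1 : χ 1 = d := by
    rw [← hd]
    exact hχN 1
  have hσ : Cfsg.IsIrrCharacter G (fun g => χ (g ^ k)) := isIrrCharacter_powMap hχ k hk
  have hres : ∀ n : ↥(Cfsg.pResidual p G), (fun g => χ (g ^ k)) n = χ n := by
    intro n
    show χ ((n : G) ^ k) = χ n
    have h1 : ((n ^ k : ↥(Cfsg.pResidual p G)) : G) = (n : G) ^ k := rfl
    rw [← h1, hχN, hfix, ← hχN]
  have hχNirr : Cfsg.IsIrrCharacter ↥(Cfsg.pResidual p G)
      (fun n : ↥(Cfsg.pResidual p G) => χ n) := by
    have h1 : (fun n : ↥(Cfsg.pResidual p G) => χ n) = θ := funext hχN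
    rw [h1]
    exact hθ
  obtain ⟨β, hβ, hβN, hβeq⟩ := exists_lin_of_extensions (Cfsg.pResidual p G) hχ hσ hχNirr hres
  set δ : G → ℂ := Cfsg.detChar χ with hδdef
  have hδ : IsLin G δ := isCharacter_detChar hχc
  have hdet1 : Cfsg.detChar (fun g => χ (g ^ k)) = δ ^ k := detChar_powMap hχ k hk
  have hdet2 : Cfsg.detChar (β * χ) = β ^ d * δ := detChar_linear_mul hβ.1 hβ.2 hχc d hχ1
  have hkey : ∀ g, δ g ^ k = β g ^ d * δ g := by
    intro g
    have h1 := congrFun hdet1 g
    rw [hβeq, hdet2] at h1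
    simpa using h1.symm
  have hkey' : ∀ g, δ g ^ (k - 1) = β g ^ d := by
    intro g
    have h1 := hkey g
    have hne := hδ.ne_zero g
    have h2 : δ g ^ k = δ g ^ (k - 1) * δ g := by
      rw [← pow_succ, Nat.sub_add_cancel (Nat.one_le_iff_ne_zero.2 hk0)]
    rw [h2] at h1
    exact mul_right_cancel₀ hne h1
  obtain ⟨c, hc⟩ := index_pResidual (G := G) p
  set q : ℕ := p ^ c with hq
  have hq0 : 0 < q := pow_pos hp.pos c
  have hβq : ∀ g, β g ^ q = 1 := by
    intro g
    rw [← hc]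
    exact hβ.pow_index_eq_one (Cfsg.pResidual p G) hβN g
  have hε : IsLin ↥(Cfsg.pResidual p G) (fun n : ↥(Cfsg.pResidual p G) => δ n) :=
    hδ.res (Cfsg.pResidual p G)
  set o : ℕ := orderOf (fun n : ↥(Cfsg.pResidual p G) => δ n) with ho
  have hpo : ¬ p ∣ o := not_dvd_orderOf_lin p hε
  have hεo : ∀ n : ↥(Cfsg.pResidual p G), δ n ^ o = 1 := by
    intro n
    have h1 := congrFun (pow_orderOf_eq_one (fun n : ↥(Cfsg.pResidual p G) => δ n)) n
    rwa [Pi.pow_apply, Pi.one_apply] at h1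
  have hcop : Nat.Coprime o q := by
    rw [hq]
    exact Nat.Coprime.pow_right c ((Nat.Prime.coprime_iff_not_dvd hp).2 hpo).symm
  have hdq : Nat.Coprime d q := by
    rw [hq]
    exact Nat.Coprime.pow_right c ((Nat.Prime.coprime_iff_not_dvd hp).2 hpd).symm
  set t : ℕ := Nat.totient q with ht
  have ht0 : 0 < t := Nat.totient_pos.2 hq0
  set u : ℕ := o ^ t with hu
  have hu1 : u ≡ 1 [MOD q] := Nat.ModEq.pow_totient hcop
  have hou : o ∣ u := dvd_pow_self o ht0.ne'
  set e' : ℕ := d ^ (t - 1) with he'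
  have hde : d * e' ≡ 1 [MOD q] := by
    have h1 : d * e' = d ^ t := by
      rw [he', ← pow_succ', Nat.sub_add_cancel ht0]
    rw [h1]
    exact Nat.ModEq.pow_totient hdq
  set w : ℕ := u * e' * (q - 1) with hw
  set lam : G → ℂ := δ ^ w with hlam
  have hlamlin : IsLin G lam := hδ.pow w
  have hlamN : ∀ n : ↥(Cfsg.pResidual p G), lam n = 1 := by
    intro n
    have h1 : δ n ^ u = 1 := by
      obtain ⟨j, hj⟩ := hou
      rw [hj, pow_mul, hεo, one_pow]
    rw [hlam, Pi.pow_apply, hw, mul_assoc, pow_mul, h1, one_pow]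
  have hlamk : ∀ g, lam g ^ (k - 1) * β g = 1 := by
    intro g
    have h1 : lam g ^ (k - 1) = β g ^ (d * (u * e' * (q - 1))) := by
      rw [hlam, Pi.pow_apply, ← pow_mul, mul_comm w (k - 1), pow_mul, hkey', ← pow_mul]
    have h2 : d * (u * e' * (q - 1)) ≡ q - 1 [MOD q] := by
      have h3 : d * (u * e' * (q - 1)) = (d * e') * u * (q - 1) := by ring
      rw [h3]
      have h4 : (d * e') * u * (q - 1) ≡ 1 * 1 * (q - 1) [MOD q] :=
        (hde.mul hu1).mul_right _
      rwa [one_mul, one_mul] at h4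
    rw [h1, pow_eq_pow_of_modEq_of_pow_eq_one (hβq g) h2, ← pow_succ, Nat.sub_add_cancel hq0]
    exact hβq g
  refine ⟨lam * χ, hlamlin.mul_irr hχ, ?_, ?_⟩
  · intro n
    rw [Pi.mul_apply, hlamN, one_mul, hχN]
  · intro g
    rw [Pi.mul_apply, Pi.mul_apply, hlamlin.map_pow]
    have h1 : χ (g ^ k) = β g * χ g := congrFun hβeq g
    rw [h1]
    have h2 : lam g ^ k = lam g * lam g ^ (k - 1) := by
      rw [← pow_succ', Nat.sub_add_cancel (Nat.one_le_iff_ne_zero.2 hk0)]
    rw [h2]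
    calc lam g * lam g ^ (k - 1) * (β g * χ g) = lam g * (lam g ^ (k - 1) * β g) * χ g := by ring
      _ = lam g * χ g := by rw [hlamk g, mul_one]

/-- The complex-valued function attached to a homomorphism to `ℂˣ`. -/
def homFun {N : Type*} [Group N] (f : N →* ℂˣ) : N → ℂ := fun n => ((f n : ℂˣ) : ℂ)

theorem isLin_homFun {N : Type*} [Group N] (f : N →* ℂˣ) : IsLin N (homFun f) :=
  isLin_of_hom ((Units.coeHom ℂ).comp f)

theorem homFun_mul {N : Type*} [Group N] (a b : N →* ℂˣ) :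
    homFun (a * b) = homFun a * homFun b := by
  funext n
  simp [homFun]

theorem homFun_inv {N : Type*} [Group N] (a : N →* ℂˣ) :
    homFun a⁻¹ = fun n => (homFun a n)⁻¹ := by
  funext n
  simp [homFun]

theorem homFun_one {N : Type*} [Group N] : homFun (1 : N →* ℂˣ) = fun _ => (1 : ℂ) := by
  funext n
  simp [homFun]

/-- The group of `G`-invariant homomorphisms `O^p(G) → ℂˣ` lying in the principal block and fixed
by the `k`-th power map. -/
def fixedHoms {M : Ideal AlgInt} (hM : M.IsPrime) (k : ℕ) :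
    Subgroup (↥(Cfsg.pResidual p G) →* ℂˣ) where
  carrier := {f | f ∈ invHoms (G := G) p ∧
    SameBlock M (fun _ : ↥(Cfsg.pResidual p G) => (1 : ℂ)) (homFun f) ∧
    ∀ n : ↥(Cfsg.pResidual p G), f (n ^ k) = f n}
  one_mem' := by
    refine ⟨one_mem _, ?_, fun _ => rfl⟩
    rw [homFun_one]
    exact sameBlock_refl hM _
  mul_mem' := by
    rintro a b ⟨ha1, ha2, ha3⟩ ⟨hb1, hb2, hb3⟩
    refine ⟨mul_mem ha1 hb1, ?_, ?_⟩
    · rw [homFun_mul]
      exact sameBlock_one_lin_mul hM (isLin_homFun a) ha2 hb2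
    · intro n
      rw [MonoidHom.mul_apply, MonoidHom.mul_apply, ha3, hb3]
  inv_mem' := by
    rintro a ⟨ha1, ha2, ha3⟩
    refine ⟨inv_mem ha1, ?_, ?_⟩
    · rw [homFun_inv]
      exact sameBlock_one_lin_inv hM (isLin_homFun a) ha2
    · intro n
      rw [MonoidHom.inv_apply, MonoidHom.inv_apply, ha3]

/-- The order of `fixedHoms` is prime to `p`. -/
theorem not_dvd_card_fixedHoms {M : Ideal AlgInt} (hM : M.IsPrime) (k : ℕ) :
    ¬ p ∣ Nat.card ↥(fixedHoms (G := G) p hM k) := by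
  intro hdvd
  obtain ⟨f, hf⟩ := exists_prime_orderOf_dvd_card' (G := ↥(fixedHoms (G := G) p hM k)) p hdvd
  have h1 : f ^ p = 1 := by
    have := pow_orderOf_eq_one f
    rwa [hf] at this
  have h2 : ∀ n, (f : ↥(Cfsg.pResidual p G) →* ℂˣ) n ^ p = 1 := by
    intro n
    have := congrArg (fun x : ↥(fixedHoms (G := G) p hM k) =>
      (x : ↥(Cfsg.pResidual p G) →* ℂˣ) n) h1
    simpa using this
  have h3 := hom_eq_one_of_pow p _ h2
  have h4 : f = 1 := by
    apply Subtype.ext
    ext n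
    rw [h3 n]
    rfl
  rw [h4, orderOf_one] at hf
  exact (Fact.out : p.Prime).one_lt.ne hf

/-- The invariant fixed linear characters in the principal block correspond to `fixedHoms`. -/
theorem card_fixedHoms {M : Ideal AlgInt} (hM : M.IsPrime) (k : ℕ)
    [Fintype ↥(Cfsg.pResidual p G)]
    [DecidablePred fun θ : Cfsg.IrrCharacter ↥(Cfsg.pResidual p G) =>
      (InvFun p θ.1 ∧ θ ∈ principalBlock M ↥(Cfsg.pResidual p G) ∧
        ∀ n : ↥(Cfsg.pResidual p G), θ.1 (n ^ k) = θ.1 n) ∧ Cfsg.charDegree θ.1 = 1] :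
    Nat.card ↥(fixedHoms (G := G) p hM k) =
      (Finset.univ.filter (fun θ : Cfsg.IrrCharacter ↥(Cfsg.pResidual p G) =>
        (InvFun p θ.1 ∧ θ ∈ principalBlock M ↥(Cfsg.pResidual p G) ∧
          ∀ n : ↥(Cfsg.pResidual p G), θ.1 (n ^ k) = θ.1 n) ∧ Cfsg.charDegree θ.1 = 1)).card := by
  rw [← Fintype.card_subtype, ← Nat.card_eq_fintype_card]
  apply Nat.card_congr
  refine Equiv.ofBijective (fun f => ⟨⟨homFun f.1, (isLin_homFun f.1).irr⟩, ⟨?_, ?_, ?_⟩, ?_⟩)
    ⟨?_, ?_⟩
  · intro g n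
    exact congrArg (fun u : ℂˣ => (u : ℂ)) (f.2.1 g n)
  · exact f.2.2.1
  · intro n
    exact congrArg (fun u : ℂˣ => (u : ℂ)) (f.2.2.2 n)
  · apply charDegree_eq
    simp [homFun]
  · intro f f' hff'
    apply Subtype.ext
    ext n
    have h1 := congrArg (fun x => x.1.1 n) hff'
    exact h1
  · rintro ⟨θ, ⟨hinv, hB, hfix⟩, hdeg⟩
    have hθ1 : θ.1 1 = 1 := by
      rw [← charDegree_cast θ.2, hdeg, Nat.cast_one]
    have hlin : IsLin ↥(Cfsg.pResidual p G) θ.1 := ⟨isCharacter_of_isIrrCharacter θ.2, hθ1⟩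
    refine ⟨⟨linHom hlin, ⟨?_, ?_, ?_⟩⟩, ?_⟩
    · intro g n
      apply Units.ext
      rw [linHom_apply, linHom_apply]
      exact hinv g n
    · exact hB
    · intro n
      apply Units.ext
      rw [linHom_apply, linHom_apply]
      exact hfix n
    · apply Subtype.ext
      apply Subtype.ext
      funext n
      rfl

/-- conjugation by `G` preserves the block relation on a normal subgroup -/
theorem sameBlock_conjFun {M : Ideal AlgInt} (N : Subgroup G) (hN : N.Normal) {φ φ' : N → ℂ}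
    (h : SameBlock M φ φ') (g : G) :
    SameBlock M (Cfsg.Agent.Lib.Helper75_Clifford.conjFun N hN φ g)
      (Cfsg.Agent.Lib.Helper75_Clifford.conjFun N hN φ' g) := by
  have key : ∀ (ψ : N → ℂ) (n : N),
      centralChar (Cfsg.Agent.Lib.Helper75_Clifford.conjFun N hN ψ g) n =
        centralChar ψ ((MulAut.conjNormal (H := N) g) n) := by
    intro ψ n
    rw [Cfsg.Agent.Lib.Helper75_Clifford.conjFun_eq_comp]
    unfold centralChar
    rw [Cfsg.Agent.Lib.Helper16_Cover.index_centralizer_equiv (MulAut.conjNormal (H := N) g) n]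
    simp only [map_one]
  intro n
  rw [key, key]
  exact h _

/-- An invariant, fixed character of degree prime to `p` in the principal block of `O^p(G)` is
linear, under the hypothesis of the main theorem. -/
theorem charDegree_eq_one_of_fixed {M : Ideal AlgInt} (hM : IsPModular p M)
    (k : ℕ) (hk0 : k ≠ 0) (hk : k.Coprime (Nat.card G))
    (hdeg : ∀ χ : IrrCharacter G, χ ∈ principalBlock M G → ¬ p ∣ charDegree (χ : G → ℂ) →
      (∀ g : G, (χ : G → ℂ) (g ^ k) = (χ : G → ℂ) g) → charDegree (χ : G → ℂ) = 1)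
    (θ : Cfsg.IrrCharacter ↥(Cfsg.pResidual p G)) (hinv : InvFun p θ.1)
    (hB : θ ∈ principalBlock M ↥(Cfsg.pResidual p G))
    (hfix : ∀ n : ↥(Cfsg.pResidual p G), θ.1 (n ^ k) = θ.1 n)
    (hnd : ¬ p ∣ Cfsg.charDegree θ.1) : Cfsg.charDegree θ.1 = 1 := by
  classical
  have hMp : M.IsPrime := isPrime_of_isPModular hM
  letI : Fintype G := Fintype.ofFinite G
  letI : Fintype ↥(Cfsg.pResidual p G) := Fintype.ofFinite _
  obtain ⟨d, -, hd⟩ := Cfsg.Agent.Lib.Helper3_CharColumn.irr_one_eq_natCast θ.2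
  have hcd := charDegree_eq hd
  rw [hcd] at hnd
  obtain ⟨χ, hχ, hχN, hχk⟩ := exists_fixed_extension p k hk0 hk θ.1 θ.2 hinv d hd hnd hfix
  have hχ1 : χ 1 = d := by
    rw [← hd]
    exact hχN 1
  have hχdeg : Cfsg.charDegree χ = d := charDegree_eq hχ1
  obtain ⟨c, hc⟩ := index_pResidual (G := G) p
  have hB0 : IsPBlock M (principalBlock M G) :=
    ⟨Cfsg.Agent.Lib.Helper80_CharBasic.oneIrr G, rfl⟩
  have hone : Cfsg.Agent.Lib.Helper80_CharBasic.oneIrr G ∈ principalBlock M G :=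
    sameBlock_refl hMp _
  have hin1 : Cfsg.classInner (fun n : ↥(Cfsg.pResidual p G) =>
      ((Cfsg.Agent.Lib.Helper80_CharBasic.oneIrr G : IrrCharacter G) : G → ℂ) n)
      ((Cfsg.Agent.Lib.Helper80_CharBasic.oneIrr ↥(Cfsg.pResidual p G) :
        IrrCharacter ↥(Cfsg.pResidual p G)) : ↥(Cfsg.pResidual p G) → ℂ) ≠ 0 := by
    have h1 := Cfsg.Agent.Lib.Helper3_CharOrtho.classInner_self_of_isIrrCharacter
      (Cfsg.Agent.Lib.Helper80_CharBasic.oneIrr ↥(Cfsg.pResidual p G)).2
    have h2 : (fun n : ↥(Cfsg.pResidual p G) =>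
      ((Cfsg.Agent.Lib.Helper80_CharBasic.oneIrr G : IrrCharacter G) : G → ℂ) n) =
      ((Cfsg.Agent.Lib.Helper80_CharBasic.oneIrr ↥(Cfsg.pResidual p G) :
        IrrCharacter ↥(Cfsg.pResidual p G)) : ↥(Cfsg.pResidual p G) → ℂ) := rfl
    rw [h2, h1]
    exact one_ne_zero
  have hin2 : Cfsg.classInner (fun n : ↥(Cfsg.pResidual p G) =>
      ((⟨χ, hχ⟩ : IrrCharacter G) : G → ℂ) n) (θ : ↥(Cfsg.pResidual p G) → ℂ) ≠ 0 := by
    have h1 := Cfsg.Agent.Lib.Helper3_CharOrtho.classInner_self_of_isIrrCharacter θ.2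
    have h2 : (fun n : ↥(Cfsg.pResidual p G) =>
      ((⟨χ, hχ⟩ : IrrCharacter G) : G → ℂ) n) = (θ : ↥(Cfsg.pResidual p G) → ℂ) :=
      funext hχN
    rw [h2, h1]
    exact one_ne_zero
  have hχB : (⟨χ, hχ⟩ : IrrCharacter G) ∈ principalBlock M G :=
    Cfsg.Agent.Lib.Helper16_Cover.mem_of_cover (Cfsg.pResidual p G) hM hc hB0
      (χ := Cfsg.Agent.Lib.Helper80_CharBasic.oneIrr G) (χ' := ⟨χ, hχ⟩) hone
      (θ := Cfsg.Agent.Lib.Helper80_CharBasic.oneIrr ↥(Cfsg.pResidual p G)) (θ' := θ) hB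
      hin1 hin2
  have h1 := hdeg ⟨χ, hχ⟩ hχB (by rw [hχdeg]; exact hnd) hχk
  rw [hcd, ← hχdeg]
  exact h1

open Cfsg.Agent.Lib.Helper57_BrauerFeit Cfsg.Agent.Lib.Helper82_LinkingGalois
  Cfsg.Agent.Lib.Helper75_Clifford in
/-- **Thompson's theorem for the principal block, with a Galois twist.**  Let `k` be coprime to
`|G|` such that the `k`-th power map has `p`-power order on `G`.  If every irreducible character
of degree prime to `p` in the principal `p`-block of `G` that is fixed by the `k`-th power map is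
linear, then `O^p(G)` has order prime to `p`. -/
theorem not_dvd_card_pResidual_principal {M : Ideal AlgInt} (hM : IsPModular p M)
    (k : ℕ) (hk0 : k ≠ 0) (hk : k.Coprime (Nat.card G)) (e : ℕ)
    (hke : ∀ g : G, g ^ (k ^ (p ^ e)) = g)
    (hdeg : ∀ χ : IrrCharacter G, χ ∈ principalBlock M G → ¬ p ∣ charDegree (χ : G → ℂ) →
      (∀ g : G, (χ : G → ℂ) (g ^ k) = (χ : G → ℂ) g) → charDegree (χ : G → ℂ) = 1) :
    ¬ p ∣ Nat.card ↥(Cfsg.pResidual p G) := by
  classical
  have hp : p.Prime := Fact.out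
  have hMp : M.IsPrime := isPrime_of_isPModular hM
  letI : Fintype G := Fintype.ofFinite G
  letI : Fintype ↥(Cfsg.pResidual p G) := Fintype.ofFinite _
  let _ : MulAction G (Cfsg.IrrCharacter ↥(Cfsg.pResidual p G)) := irrAction p
  have hN : (Cfsg.pResidual p G).Normal := pResidual_normal
  have hsmul : ∀ (g : G) (θ : Cfsg.IrrCharacter ↥(Cfsg.pResidual p G)),
      (g • θ).1 = Cfsg.Agent.Lib.Helper75_Clifford.conjFun (Cfsg.pResidual p G) pResidual_normal θ.1 g⁻¹ := fun g θ => rfl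
  have hfixed : ∀ θ : Cfsg.IrrCharacter ↥(Cfsg.pResidual p G),
      (∀ g : G, g • θ = θ) ↔ InvFun p θ.1 := by
    intro θ
    constructor
    · intro h g n
      have h1 := congrArg Subtype.val (h g⁻¹)
      rw [hsmul, inv_inv] at h1
      exact congrFun h1 n
    · intro h g
      apply Subtype.ext
      rw [hsmul]
      funext n
      exact h g⁻¹ n
  -- the principal block of `O^p(G)` is `G`-stable
  have hBG : ∀ (g : G) (θ : Cfsg.IrrCharacter ↥(Cfsg.pResidual p G)),
      θ ∈ principalBlock M ↥(Cfsg.pResidual p G) →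
      g • θ ∈ principalBlock M ↥(Cfsg.pResidual p G) := by
    intro g θ hθ
    have h1 := sameBlock_conjFun (Cfsg.pResidual p G) pResidual_normal hθ g⁻¹
    exact h1
  have hBG' : ∀ (g : G) (θ : Cfsg.IrrCharacter ↥(Cfsg.pResidual p G)),
      g • θ ∈ principalBlock M ↥(Cfsg.pResidual p G) ↔
      θ ∈ principalBlock M ↥(Cfsg.pResidual p G) := by
    intro g θ
    constructor
    · intro h
      have h1 := hBG g⁻¹ _ h
      rwa [inv_smul_smul] at h1
    · exact hBG g θ
  have hdegG : ∀ (g : G) (θ : Cfsg.IrrCharacter ↥(Cfsg.pResidual p G)),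
      Cfsg.charDegree (g • θ).1 = Cfsg.charDegree θ.1 := by
    intro g θ
    have h1 : (g • θ).1 1 = θ.1 1 := by
      rw [hsmul, Cfsg.Agent.Lib.Helper75_Clifford.conjFun_apply]
      exact congrArg θ.1 (Subtype.ext (by simp))
    unfold Cfsg.charDegree
    rw [h1]
  -- the Galois action
  have hkN : k.Coprime (Nat.card ↥(Cfsg.pResidual p G)) :=
    Nat.Coprime.coprime_dvd_right (Subgroup.card_subgroup_dvd_card _) hk
  set τ : Cfsg.IrrCharacter ↥(Cfsg.pResidual p G) → Cfsg.IrrCharacter ↥(Cfsg.pResidual p G) :=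
    powIrr k hkN with hτ
  have hτval : ∀ (θ : Cfsg.IrrCharacter ↥(Cfsg.pResidual p G)) (n : ↥(Cfsg.pResidual p G)),
      (τ θ).1 n = θ.1 (n ^ k) := fun _ _ => rfl
  have hτiter : ∀ (i : ℕ) (θ : Cfsg.IrrCharacter ↥(Cfsg.pResidual p G))
      (n : ↥(Cfsg.pResidual p G)), (τ^[i] θ).1 n = θ.1 (n ^ (k ^ i)) := by
    intro i
    induction i with
    | zero => intro θ n; simp
    | succ i ih =>
      intro θ n
      rw [Function.iterate_succ_apply', hτval, ih, ← pow_mul, ← pow_succ']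
  have hτper : ∀ θ : Cfsg.IrrCharacter ↥(Cfsg.pResidual p G), τ^[p ^ e] θ = θ := by
    intro θ
    apply Subtype.ext
    funext n
    rw [hτiter]
    refine congrArg θ.1 ?_
    apply Subtype.ext
    rw [Subgroup.coe_pow]
    exact hke n
  have hτinj : Function.Injective τ := powIrr_injective k hkN
  have hτB : ∀ θ : Cfsg.IrrCharacter ↥(Cfsg.pResidual p G),
      θ ∈ principalBlock M ↥(Cfsg.pResidual p G) →
      τ θ ∈ principalBlock M ↥(Cfsg.pResidual p G) := by
    intro θ hθ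
    have h1 := sameBlock_powIrr hM k hkN
      (Cfsg.Agent.Lib.Helper80_CharBasic.oneIrr ↥(Cfsg.pResidual p G)) θ hθ
    rw [powIrr_oneIrr] at h1
    exact h1
  have hτBiter : ∀ (i : ℕ) (θ : Cfsg.IrrCharacter ↥(Cfsg.pResidual p G)),
      θ ∈ principalBlock M ↥(Cfsg.pResidual p G) →
      τ^[i] θ ∈ principalBlock M ↥(Cfsg.pResidual p G) := by
    intro i
    induction i with
    | zero => intro θ hθ; exact hθ
    | succ i ih =>
      intro θ hθ
      rw [Function.iterate_succ_apply']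
      exact hτB _ (ih θ hθ)
  have hτB' : ∀ θ : Cfsg.IrrCharacter ↥(Cfsg.pResidual p G),
      τ θ ∈ principalBlock M ↥(Cfsg.pResidual p G) ↔
      θ ∈ principalBlock M ↥(Cfsg.pResidual p G) := by
    intro θ
    constructor
    · intro h
      have h1 := hτBiter (p ^ e - 1) _ h
      rw [← Function.iterate_succ_apply, Nat.succ_eq_add_one,
        Nat.sub_add_cancel (Nat.one_le_pow e p hp.pos), hτper] at h1
      exact h1
    · exact hτB θ
  have hτG : ∀ (g : G) (θ : Cfsg.IrrCharacter ↥(Cfsg.pResidual p G)), g • τ θ = τ (g • θ) := by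
    intro g θ
    apply Subtype.ext
    rw [hsmul]
    funext n
    rw [Cfsg.Agent.Lib.Helper75_Clifford.conjFun_apply, hτval, hτval, hsmul,
      Cfsg.Agent.Lib.Helper75_Clifford.conjFun_apply]
    refine congrArg θ.1 ?_
    apply Subtype.ext
    show (g⁻¹ * (n : G) * g⁻¹⁻¹) ^ k = g⁻¹ * (n : G) ^ k * g⁻¹⁻¹
    exact conj_pow
  have hτinv : ∀ θ : Cfsg.IrrCharacter ↥(Cfsg.pResidual p G),
      InvFun p (τ θ).1 ↔ InvFun p θ.1 := by
    intro θ
    rw [← hfixed, ← hfixed]
    constructor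
    · intro h g
      have h1 := h g
      rw [hτG] at h1
      exact hτinj h1
    · intro h g
      rw [hτG, h g]
  have hτdeg : ∀ θ : Cfsg.IrrCharacter ↥(Cfsg.pResidual p G),
      Cfsg.charDegree (τ θ).1 = Cfsg.charDegree θ.1 := by
    intro θ
    unfold Cfsg.charDegree
    rw [hτval, one_pow]
  -- stage 1: the action of `G`
  let f₁ : Cfsg.IrrCharacter ↥(Cfsg.pResidual p G) → ℕ := fun θ =>
    if θ ∈ principalBlock M ↥(Cfsg.pResidual p G) then (Cfsg.charDegree θ.1) ^ 2 else 0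
  have hf₁ : ∀ (g : G) (θ : Cfsg.IrrCharacter ↥(Cfsg.pResidual p G)), f₁ (g • θ) = f₁ θ := by
    intro g θ
    show (if g • θ ∈ principalBlock M ↥(Cfsg.pResidual p G) then
      (Cfsg.charDegree (g • θ).1) ^ 2 else 0) =
      if θ ∈ principalBlock M ↥(Cfsg.pResidual p G) then (Cfsg.charDegree θ.1) ^ 2 else 0
    rw [hdegG]
    by_cases h : θ ∈ principalBlock M ↥(Cfsg.pResidual p G)
    · rw [if_pos h, if_pos ((hBG' g θ).2 h)]
    · rw [if_neg h, if_neg (fun h' => h ((hBG' g θ).1 h'))]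
  have hsum : ∑ θ : Cfsg.IrrCharacter ↥(Cfsg.pResidual p G), f₁ θ =
      ∑ ψ ∈ bset (principalBlock M ↥(Cfsg.pResidual p G)),
        Cfsg.charDegree (ψ : ↥(Cfsg.pResidual p G) → ℂ) ^ 2 := by
    unfold bset
    rw [Finset.sum_filter]
  have horb : ∀ θ : Cfsg.IrrCharacter ↥(Cfsg.pResidual p G),
      (∀ g : G, g • θ = θ) ∨ p ∣ (MulAction.orbit G θ).ncard := by
    intro θ
    have hle : Cfsg.pResidual p G ≤ MulAction.stabilizer G θ := by
      intro m hm
      rw [MulAction.mem_stabilizer_iff]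
      apply Subtype.ext
      rw [hsmul]
      exact Cfsg.Agent.Lib.Helper75_Clifford.conjFun_of_mem (Cfsg.pResidual p G) pResidual_normal
        (isClassFunction_of_isIrrCharacter θ.2) ⟨m⁻¹, (Cfsg.pResidual p G).inv_mem hm⟩
    have hdvd : (MulAction.stabilizer G θ).index ∣ (Cfsg.pResidual p G).index :=
      Subgroup.index_dvd_of_le hle
    obtain ⟨j', hj'⟩ := index_pResidual (G := G) p
    rw [hj'] at hdvd
    obtain ⟨j, -, hj⟩ := (Nat.dvd_prime_pow hp).1 hdvd
    rw [← MulAction.index_stabilizer, hj]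
    rcases Nat.eq_zero_or_pos j with rfl | hjpos
    · left
      rw [pow_zero, Subgroup.index_eq_one] at hj
      intro g
      have : g ∈ MulAction.stabilizer G θ := by rw [hj]; trivial
      exact this
    · right
      exact dvd_pow_self p hjpos.ne'
  have hcong₁ := sum_modEq_sum_fixed (H := G) f₁ hf₁ p horb
  rw [hsum] at hcong₁
  -- stage 2: the action of the power map
  let τe : Equiv.Perm (Cfsg.IrrCharacter ↥(Cfsg.pResidual p G)) :=
    Equiv.ofBijective τ (Finite.injective_iff_bijective.1 hτinj)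
  have hτe : ∀ θ, τe θ = τ θ := fun _ => rfl
  let f₂ : Cfsg.IrrCharacter ↥(Cfsg.pResidual p G) → ℕ := fun θ =>
    if InvFun p θ.1 then f₁ θ else 0
  have hf₂τ : ∀ θ, f₂ (τ θ) = f₂ θ := by
    intro θ
    show (if InvFun p (τ θ).1 then
      (if τ θ ∈ principalBlock M ↥(Cfsg.pResidual p G) then
        (Cfsg.charDegree (τ θ).1) ^ 2 else 0) else 0) =
      if InvFun p θ.1 then
      (if θ ∈ principalBlock M ↥(Cfsg.pResidual p G) then
        (Cfsg.charDegree θ.1) ^ 2 else 0) else 0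
    rw [hτdeg]
    simp only [hτinv, hτB']
  let C : Subgroup (Equiv.Perm (Cfsg.IrrCharacter ↥(Cfsg.pResidual p G))) := Subgroup.zpowers τe
  have hf₂ : ∀ (h : C) (θ : Cfsg.IrrCharacter ↥(Cfsg.pResidual p G)), f₂ (h • θ) = f₂ θ := by
    intro h
    let S : Subgroup (Equiv.Perm (Cfsg.IrrCharacter ↥(Cfsg.pResidual p G))) :=
      { carrier := {s | ∀ θ, f₂ (s θ) = f₂ θ}
        one_mem' := fun θ => rfl
        mul_mem' := fun {a b} ha hb θ => by
          rw [Equiv.Perm.mul_apply, ha, hb]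
        inv_mem' := fun {a} ha θ => by
          have := ha (a⁻¹ θ)
          rw [Equiv.Perm.inv_def, Equiv.apply_symm_apply] at this
          rw [Equiv.Perm.inv_def]
          exact this.symm }
    have hle : C ≤ S := by
      apply Subgroup.zpowers_le_of_mem
      intro θ
      exact hf₂τ θ
    exact hle h.2
  have hτeper : τe ^ (p ^ e) = 1 := by
    apply Equiv.ext
    intro θ
    rw [Equiv.Perm.coe_pow, Equiv.Perm.coe_one, id_eq]
    exact hτper θ
  have hCp : IsPGroup p C := by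
    intro h
    refine ⟨e, ?_⟩
    obtain ⟨h, hh⟩ := h
    obtain ⟨i, rfl⟩ := Subgroup.mem_zpowers_iff.1 hh
    apply Subtype.ext
    show (τe ^ i) ^ (p ^ e) = 1
    rw [← zpow_natCast, ← zpow_mul, mul_comm, zpow_mul, zpow_natCast, hτeper, one_zpow]
  have horb₂ : ∀ θ : Cfsg.IrrCharacter ↥(Cfsg.pResidual p G),
      (∀ h : C, h • θ = θ) ∨ p ∣ (MulAction.orbit C θ).ncard := by
    intro θ
    obtain ⟨j, hj⟩ := hCp.card_orbit θ
    rw [Nat.card_coe_set_eq] at hj
    rcases Nat.eq_zero_or_pos j with rfl | hjpos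
    · left
      rw [pow_zero, Set.ncard_eq_one] at hj
      obtain ⟨a, ha⟩ := hj
      intro h
      have h1 : h • θ ∈ MulAction.orbit C θ := MulAction.mem_orbit θ h
      have h2 : θ ∈ MulAction.orbit C θ := MulAction.mem_orbit_self θ
      rw [ha] at h1 h2
      rw [Set.mem_singleton_iff] at h1 h2
      rw [h1, h2]
    · right
      rw [hj]
      exact dvd_pow_self p hjpos.ne'
  have hcong₂ := sum_modEq_sum_fixed (H := C) f₂ hf₂ p horb₂
  -- identify the sums
  have hfixC : ∀ θ : Cfsg.IrrCharacter ↥(Cfsg.pResidual p G),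
      (∀ h : C, h • θ = θ) ↔ τ θ = θ := by
    intro θ
    constructor
    · intro h
      exact h ⟨τe, Subgroup.mem_zpowers τe⟩
    · intro h s
      have hle : C ≤ MulAction.stabilizer (Equiv.Perm _) θ := by
        apply Subgroup.zpowers_le_of_mem
        rw [MulAction.mem_stabilizer_iff]
        exact h
      exact hle s.2
  have hτfix : ∀ θ : Cfsg.IrrCharacter ↥(Cfsg.pResidual p G),
      τ θ = θ ↔ ∀ n : ↥(Cfsg.pResidual p G), θ.1 (n ^ k) = θ.1 n := by
    intro θ
    constructor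
    · intro h n
      have h1 := congrFun (congrArg Subtype.val h) n
      rwa [hτval] at h1
    · intro h
      apply Subtype.ext
      funext n
      rw [hτval, h]
  have hs12 : ∑ θ ∈ Finset.univ.filter
      (fun θ : Cfsg.IrrCharacter ↥(Cfsg.pResidual p G) => ∀ g : G, g • θ = θ), f₁ θ =
      ∑ θ : Cfsg.IrrCharacter ↥(Cfsg.pResidual p G), f₂ θ := by
    rw [Finset.sum_filter]
    refine Finset.sum_congr rfl (fun θ _ => ?_)
    show (if ∀ g : G, g • θ = θ then f₁ θ else 0) = if InvFun p θ.1 then f₁ θ else 0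
    simp only [hfixed]
  rw [hs12] at hcong₁
  have hcong := hcong₁.trans hcong₂
  -- the fixed points
  let Pr : Cfsg.IrrCharacter ↥(Cfsg.pResidual p G) → Prop := fun θ =>
    InvFun p θ.1 ∧ θ ∈ principalBlock M ↥(Cfsg.pResidual p G) ∧
      ∀ n : ↥(Cfsg.pResidual p G), θ.1 (n ^ k) = θ.1 n
  have hs3 : ∑ θ ∈ Finset.univ.filter
      (fun θ : Cfsg.IrrCharacter ↥(Cfsg.pResidual p G) => ∀ h : C, h • θ = θ), f₂ θ =
      ∑ θ ∈ Finset.univ.filter Pr, (Cfsg.charDegree θ.1) ^ 2 := by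
    rw [Finset.sum_filter, Finset.sum_filter]
    refine Finset.sum_congr rfl (fun θ _ => ?_)
    show (if ∀ h : C, h • θ = θ then (if InvFun p θ.1 then
      (if θ ∈ principalBlock M ↥(Cfsg.pResidual p G) then
        (Cfsg.charDegree θ.1) ^ 2 else 0) else 0) else 0) =
      if (InvFun p θ.1 ∧ θ ∈ principalBlock M ↥(Cfsg.pResidual p G) ∧
        ∀ n : ↥(Cfsg.pResidual p G), θ.1 (n ^ k) = θ.1 n) then (Cfsg.charDegree θ.1) ^ 2 else 0
    simp only [hfixC, hτfix]
    by_cases h1 : ∀ n : ↥(Cfsg.pResidual p G), θ.1 (n ^ k) = θ.1 n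
    · by_cases h2 : InvFun p θ.1
      · by_cases h3 : θ ∈ principalBlock M ↥(Cfsg.pResidual p G)
        · rw [if_pos h1, if_pos h2, if_pos h3, if_pos ⟨h2, h3, h1⟩]
        · rw [if_pos h1, if_pos h2, if_neg h3, if_neg (fun h => h3 h.2.1)]
      · rw [if_pos h1, if_neg h2, if_neg (fun h => h2 h.1)]
    · rw [if_neg h1, if_neg (fun h => h1 h.2.2)]
  rw [hs3] at hcong
  -- split according to the degree
  rw [← Finset.sum_filter_add_sum_filter_not (Finset.univ.filter Pr)
    (fun θ => Cfsg.charDegree θ.1 = 1) (fun θ => (Cfsg.charDegree θ.1) ^ 2),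
    Finset.filter_filter, Finset.filter_filter] at hcong
  have e1 : ∑ θ ∈ Finset.univ.filter (fun θ : Cfsg.IrrCharacter ↥(Cfsg.pResidual p G) =>
      Pr θ ∧ Cfsg.charDegree θ.1 = 1), (Cfsg.charDegree θ.1) ^ 2 =
      (Finset.univ.filter (fun θ : Cfsg.IrrCharacter ↥(Cfsg.pResidual p G) =>
        Pr θ ∧ Cfsg.charDegree θ.1 = 1)).card := by
    rw [Finset.card_eq_sum_ones]
    apply Finset.sum_congr rfl
    intro θ hθ
    rw [Finset.mem_filter] at hθ
    rw [hθ.2.2, one_pow]
  have e2 : p ∣ ∑ θ ∈ Finset.univ.filter (fun θ : Cfsg.IrrCharacter ↥(Cfsg.pResidual p G) =>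
      Pr θ ∧ ¬ Cfsg.charDegree θ.1 = 1), (Cfsg.charDegree θ.1) ^ 2 := by
    apply Finset.dvd_sum
    intro θ hθ
    rw [Finset.mem_filter] at hθ
    obtain ⟨-, ⟨hinv, hB, hfix⟩, hne⟩ := hθ
    have hpd : p ∣ Cfsg.charDegree θ.1 := by
      by_contra hnd
      exact hne (charDegree_eq_one_of_fixed p hM k hk0 hk hdeg θ hinv hB hfix hnd)
    exact Dvd.dvd.pow hpd two_ne_zero
  have hcard := card_fixedHoms (G := G) p hMp k
  have e1' : (Finset.univ.filter (fun θ : Cfsg.IrrCharacter ↥(Cfsg.pResidual p G) =>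
      Pr θ ∧ Cfsg.charDegree θ.1 = 1)).card = Nat.card ↥(fixedHoms (G := G) p hMp k) := by
    rw [hcard]
  rw [e1, e1'] at hcong
  intro hdvd
  apply not_dvd_card_fixedHoms (G := G) p hMp k
  have hD : p ∣ ∑ ψ ∈ bset (principalBlock M ↥(Cfsg.pResidual p G)),
      Cfsg.charDegree (ψ : ↥(Cfsg.pResidual p G) → ℂ) ^ 2 := dvd_sum_sq_principal hM hdvd
  obtain ⟨c, hc⟩ := e2
  rw [hc] at hcong
  have h1 : Nat.card ↥(fixedHoms (G := G) p hMp k) + p * c ≡
      Nat.card ↥(fixedHoms (G := G) p hMp k) [MOD p] := by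
    have := (Nat.modEq_zero_iff_dvd.2 (Dvd.intro c rfl : p ∣ p * c))
    exact Nat.ModEq.add_left (Nat.card ↥(fixedHoms (G := G) p hMp k)) this
  have h2 := hcong.trans h1
  exact (Nat.modEq_zero_iff_dvd.1 (h2.symm.trans (Nat.modEq_zero_iff_dvd.2 hD)))

end Ext

section NPC

/-- In a group with a normal `p`-complement, the characters of degree prime to `p` in the
principal block are linear. -/
theorem charDegree_eq_one_of_npc {G : Type*} [Group G] [Finite G] (p : ℕ) [Fact p.Prime]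
    (M : Ideal Cfsg.AlgInt) (hM : Cfsg.IsPModular p M) (h : Cfsg.HasNormalPComplement p G)
    (χ : Cfsg.IrrCharacter G) (hχ : χ ∈ Cfsg.principalBlock M G)
    (hnd : ¬ p ∣ Cfsg.charDegree (χ : G → ℂ)) : Cfsg.charDegree (χ : G → ℂ) = 1 := by
  have hp : p.Prime := Fact.out
  obtain ⟨P, N, hN, hc⟩ := h
  have hcard : Nat.card N * Nat.card (P : Subgroup G) = Nat.card G := hc.card_mul_card
  have hP : Nat.card (P : Subgroup G) = p ^ (Nat.card G).factorization p := P.card_eq_multiplicity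
  have hnot : ¬ p ^ ((Nat.card G).factorization p + 1) ∣ Nat.card G :=
    Nat.pow_succ_factorization_not_dvd Nat.card_pos.ne' hp
  set a : ℕ := (Nat.card G).factorization p with ha
  have hNp : (Nat.card N).Coprime p := by
    rw [Nat.coprime_comm, Nat.Prime.coprime_iff_not_dvd hp]
    intro hd
    apply hnot
    obtain ⟨m, hm⟩ := hd
    refine ⟨m, ?_⟩
    rw [← hcard, hP, hm, pow_succ]
    ring
  have hker := Cfsg.Agent.S4736.ker_of_principal p M hM N hNp χ hχ
  obtain ⟨χ', hχ'⟩ := Cfsg.Agent.Lib.Helper77_QuotBlocks.exists_quot_char N χ hker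
  have hdeg : Cfsg.charDegree (χ : G → ℂ) = Cfsg.charDegree (χ' : G ⧸ N → ℂ) := by
    unfold Cfsg.charDegree
    rw [hχ']
    rfl
  have hdvd : Cfsg.charDegree (χ' : G ⧸ N → ℂ) ∣ Nat.card (G ⧸ N) :=
    Cfsg.Agent.Lib.Helper77_BlockBasics.charDegree_dvd_card χ'
  have hQ : Nat.card (G ⧸ N) = p ^ a := by
    have h1 := Subgroup.card_eq_card_quotient_mul_card_subgroup N
    rw [← hcard, hP, mul_comm] at h1
    exact (Nat.eq_of_mul_eq_mul_right Nat.card_pos h1).symm
  rw [hQ, ← hdeg] at hdvd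
  obtain ⟨j, -, hj⟩ := (Nat.dvd_prime_pow hp).1 hdvd
  rcases Nat.eq_zero_or_pos j with rfl | hjpos
  · rw [hj, pow_zero]
  · exfalso
    apply hnd
    rw [hj]
    exact dvd_pow_self p hjpos.ne'

end NPC

end Cfsg.Agent.Lib.Helper97_PrincipalThompson
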