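import Mathlib
import Cfsg.Agent.Lib.Helper97_SpTensBasic

set_option autoImplicit false
set_option linter.unusedSectionVars false
set_option linter.unusedVariables false

/-!
# SP3 package QRADII: `Ψ Ψ* = c'`
-/

namespace Cfsg.Agent.Lib.Helper97_SP3_QRADII

open Matrix Module
open Cfsg.Agent.Lib.Helper98_ExtDefs Cfsg.Agent.Lib.Helper97_TensDefs
  Cfsg.Agent.Lib.Helper97_SpTensDefs Cfsg.Agent.Lib.Helper97_SpTensBasic
  Cfsg.Agent.Lib.Helper13_Symp Cfsg.Agent.Lib.Helper13_SympTrans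
  Cfsg.Agent.Lib.Helper97_TensBasic

variable {F : Type*} [Field F] [Fintype F] {m : ℕ}

local notation "V" => Matrix (Fin m ⊕ Fin m) (Fin 3) F

/-- `S0 Ψᵀ S0` is the `be`-adjoint of `Ψ` -/
theorem be_adj (Ψ : Matrix (Fin 3) (Fin 3) F) (u v : Fin 3 → F) :
    be ((S0 F * Ψᵀ * S0 F) *ᵥ u) v = be u (Ψ *ᵥ v) := by
  simp only [be, S0, Matrix.mulVec, dotProduct, Fin.sum_univ_three, Matrix.mul_apply,
    Matrix.transpose_apply, Matrix.of_apply, Matrix.cons_val', Matrix.cons_val_zero,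
    Matrix.cons_val_one, Matrix.cons_val_two, Matrix.empty_val', Matrix.cons_val_fin_one,
    Matrix.head_cons, Matrix.tail_cons, Matrix.head_fin_const]
  simp
  ring

theorem exists_partner {x : Fin m ⊕ Fin m → F} (hx : x ≠ 0) :
    ∃ x' : Fin m ⊕ Fin m → F, Cfsg.sympForm m F x' x = 1 := by
  obtain ⟨w, hw⟩ := exists_sympForm_ne_zero m hx
  refine ⟨(-(Cfsg.sympForm m F x w)⁻¹) • w, ?_⟩
  rw [sympForm_smul_left, sympForm_swap m w x]
  field_simp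

/-- `(x^⊥)^⊥ = ⟨x⟩` -/
theorem mem_span_of_perp {x w : Fin m ⊕ Fin m → F} (hx : x ≠ 0)
    (h : ∀ u, Cfsg.sympForm m F u x = 0 → Cfsg.sympForm m F u w = 0) : ∃ l : F, w = l • x := by
  obtain ⟨a, ha⟩ := exists_partner hx
  refine ⟨Cfsg.sympForm m F a w, ?_⟩
  by_contra hne
  have hne' : w - Cfsg.sympForm m F a w • x ≠ 0 := fun h0 => hne (sub_eq_zero.mp h0)
  obtain ⟨v, hv⟩ := exists_sympForm_ne_zero m hne'
  apply hv
  rw [sympForm_swap]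
  have h1 : Cfsg.sympForm m F (v - Cfsg.sympForm m F v x • a) x = 0 := by
    rw [sympForm_sub_left, sympForm_smul_left, ha]; ring
  have h2 := h _ h1
  rw [sympForm_sub_left, sympForm_smul_left] at h2
  rw [sympForm_sub_right, sympForm_smul_right]
  linear_combination (-1 : F) * h2

theorem inv_apply_eq (g : V ≃ₗ[F] V) (X : V) : g (g⁻¹ X) = X := by
  show g (g.symm X) = X
  exact g.apply_symm_apply X

/-- the element `k' = h⁻¹ g h g⁻¹`, `h = t_w(1) ⊗ 1` -/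
theorem kprime (M : Subgroup (V ≃ₗ[F] V)) (hSp : MSp m M) (hK : KronSp m M)
    (x w : Fin m ⊕ Fin m → F) (hw : Cfsg.sympForm m F w x = 0)
    (g : V ≃ₗ[F] V) (hg : g ∈ M) (Ψ : Matrix (Fin 3) (Fin 3) F)
    (hΨ : ∀ b : Fin 3 → F, g (vecMulVec w b) = vecMulVec w b + vecMulVec x (Ψ *ᵥ b)) :
    HasMap M (fun X => X + vecMulVec w ((S0 F * Ψᵀ * S0 F) *ᵥ ctr m x X)
      + vecMulVec x (Ψ *ᵥ ctr m w X)
      + vecMulVec x ((Ψ * (S0 F * Ψᵀ * S0 F)) *ᵥ ctr m x X)) := by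
  obtain ⟨h, hh, hhx0⟩ := hasMap_root hK w (1 : F)
  obtain ⟨h', hh', hhx0'⟩ := hasMap_root hK w (-1 : F)
  have hhx : ∀ X, h X = X + (1 : F) • nA m w X := fun X => hhx0 X
  have hhx' : ∀ X, h' X = X + (-1 : F) • nA m w X := fun X => hhx0' X
  refine ⟨h' * g * h * g⁻¹, M.mul_mem (M.mul_mem (M.mul_mem hh' hg) hh) (M.inv_mem hg), fun X => ?_⟩
  show (h' * g * h * g⁻¹) X = X + vecMulVec w ((S0 F * Ψᵀ * S0 F) *ᵥ ctr m x X)
      + vecMulVec x (Ψ *ᵥ ctr m w X)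
      + vecMulVec x ((Ψ * (S0 F * Ψᵀ * S0 F)) *ᵥ ctr m x X)
  have hxw : Cfsg.sympForm m F x w = 0 := by rw [sympForm_swap, hw, neg_zero]
  set Y := g⁻¹ X with hY
  have hgY : g Y = X := inv_apply_eq g X
  set c := ctr m w Y with hc
  have hcval : c = ctr m w X + (S0 F * Ψᵀ * S0 F) *ᵥ ctr m x X := by
    rw [← sub_eq_zero]
    apply eq_zero_of_be
    intro b'
    rw [be_sub_left, be_add_left, be_adj, hc, ← tf_vecMulVec_right, ← tf_vecMulVec_right,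
      ← tf_vecMulVec_right, ← hSp g hg Y (vecMulVec w b'), hgY, hΨ, tf_add_right]
    ring
  have e1 : (h' * g * h * g⁻¹) X = h' (g (h Y)) := rfl
  rw [e1, hhx, one_smul, map_add, hgY, nA_apply, ← hc, hΨ, hhx']
  have e2 : ctr m w (X + (vecMulVec w c + vecMulVec x (Ψ *ᵥ c))) = ctr m w X := by
    rw [ctr_add, ctr_add, ctr_vecMulVec, ctr_vecMulVec, sympForm_self, hxw, zero_smul, zero_smul,
      add_zero, add_zero]
  rw [nA_apply, e2, hcval, Matrix.mulVec_add, vecMulVec_add, vecMulVec_add, Matrix.mulVec_mulVec]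
  rw [neg_smul, one_smul]
  abel

theorem qrad_norm (h2 : (2 : F) ≠ 0) (M : Subgroup (V ≃ₗ[F] V)) (hSp : MSp m M) (hK : KronSp m M)
    (x : Fin m ⊕ Fin m → F) (hx : x ≠ 0) (hrs : RadStd m M x)
    (g : V ≃ₗ[F] V) (hg : g ∈ M) (hg1 : ∀ y : Fin 3 → F, g (vecMulVec x y) = vecMulVec x y)
    (hg2 : ∀ X : V, ctr m x X = 0 → g X - X ∈ bfib x)
    (w : Fin m ⊕ Fin m → F) (hw : Cfsg.sympForm m F w x = 0) (Ψ : Matrix (Fin 3) (Fin 3) F)
    (hΨ : ∀ b : Fin 3 → F, g (vecMulVec w b) = vecMulVec w b + vecMulVec x (Ψ *ᵥ b)) :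
    ∃ c : F, Ψ * (S0 F * Ψᵀ * S0 F) = c • 1 := by
  by_cases hex : ∃ w₂, Cfsg.sympForm m F w₂ x = 0 ∧ Cfsg.sympForm m F w₂ w ≠ 0
  swap
  · -- `w ∈ ⟨x⟩`, `Ψ = 0`
    push Not at hex
    obtain ⟨l, rfl⟩ := mem_span_of_perp hx hex
    have hΨ0 : Ψ = 0 := by
      apply Matrix.toLin'.injective
      apply LinearMap.ext
      intro b
      have h1 := hΨ b
      rw [smul_vecMulVec, map_smul, hg1] at h1
      have h3 : vecMulVec x (Ψ *ᵥ b) = 0 := by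
        have := h1
        rw [left_eq_add] at this
        exact this
      have := vecMulVec_eq_zero_left hx h3
      simpa using this
    exact ⟨0, by rw [hΨ0, Matrix.zero_mul, zero_smul]⟩
  obtain ⟨w₂, hw₂x, hw₂w⟩ := hex
  set Ψs := S0 F * Ψᵀ * S0 F with hΨs
  have hxw : Cfsg.sympForm m F x w = 0 := by rw [sympForm_swap, hw, neg_zero]
  have hxw₂ : Cfsg.sympForm m F x w₂ = 0 := by rw [sympForm_swap, hw₂x, neg_zero]
  -- the conjugate `g₂ = s g s⁻¹`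
  have hww₂ : Cfsg.sympForm m F w w₂ ≠ 0 := by
    rw [sympForm_swap]; exact neg_ne_zero.mpr hw₂w
  obtain ⟨A, _, hAx, hAw⟩ := exists_transv_fix_map_of_ne_zero m x w w₂ (hxw.trans hxw₂.symm) hww₂
  have hQ1 : (1 : Matrix (Fin 3) (Fin 3) F)ᵀ * S0 F * 1 = S0 F := by
    rw [transpose_one, Matrix.one_mul, Matrix.mul_one]
  obtain ⟨s, hs, hsx0⟩ := hK (A : Matrix (Fin m ⊕ Fin m) (Fin m ⊕ Fin m) F) 1 A.2 hQ1
  have hsx : ∀ X, s X = (A : Matrix (Fin m ⊕ Fin m) (Fin m ⊕ Fin m) F) * X * (1 : Matrix (Fin 3) (Fin 3) F)ᵀ :=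
    fun X => hsx0 X
  have hs_v : ∀ (v : Fin m ⊕ Fin m → F) (b : Fin 3 → F),
      s (vecMulVec v b) = vecMulVec ((A : Matrix (Fin m ⊕ Fin m) (Fin m ⊕ Fin m) F) *ᵥ v) b := by
    intro v b
    rw [hsx, kron_vecMulVec, Matrix.one_mulVec]
  have hsinv : ∀ b : Fin 3 → F, s⁻¹ (vecMulVec w₂ b) = vecMulVec w b := by
    intro b
    have : s (vecMulVec w b) = vecMulVec w₂ b := by rw [hs_v, hAw]
    rw [← this]
    show s.symm (s _) = _
    exact s.symm_apply_apply _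
  have hg₂ : s * g * s⁻¹ ∈ M := M.mul_mem (M.mul_mem hs hg) (M.inv_mem hs)
  have hΨ₂ : ∀ b : Fin 3 → F,
      (s * g * s⁻¹) (vecMulVec w₂ b) = vecMulVec w₂ b + vecMulVec x (Ψ *ᵥ b) := by
    intro b
    have e : (s * g * s⁻¹) (vecMulVec w₂ b) = s (g (s⁻¹ (vecMulVec w₂ b))) := rfl
    rw [e, hsinv, hΨ, map_add, hs_v, hs_v, hAw, hAx]
  obtain ⟨k₁, hk₁, hk₁x0⟩ := kprime M hSp hK x w hw g hg Ψ hΨ
  obtain ⟨k₂, hk₂, hk₂x0⟩ := kprime M hSp hK x w₂ hw₂x (s * g * s⁻¹) hg₂ Ψ hΨ₂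
  have hk₁x : ∀ X, k₁ X = X + vecMulVec w (Ψs *ᵥ ctr m x X) + vecMulVec x (Ψ *ᵥ ctr m w X)
      + vecMulVec x ((Ψ * Ψs) *ᵥ ctr m x X) := fun X => hk₁x0 X
  have hk₂x : ∀ X, k₂ X = X + vecMulVec w₂ (Ψs *ᵥ ctr m x X) + vecMulVec x (Ψ *ᵥ ctr m w₂ X)
      + vecMulVec x ((Ψ * Ψs) *ᵥ ctr m x X) := fun X => hk₂x0 X
  -- contraction with `x` is unchanged by `k₁`, `k₂`
  have hcx : ∀ (k : V ≃ₗ[F] V) (u : Fin m ⊕ Fin m → F), Cfsg.sympForm m F u x = 0 →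
      (∀ X, k X = X + vecMulVec u (Ψs *ᵥ ctr m x X) + vecMulVec x (Ψ *ᵥ ctr m u X)
        + vecMulVec x ((Ψ * Ψs) *ᵥ ctr m x X)) → ∀ X, ctr m x (k X) = ctr m x X := by
    intro k u hu hk X
    rw [hk, ctr_add, ctr_add, ctr_add, ctr_vecMulVec, ctr_vecMulVec, ctr_vecMulVec, hu,
      sympForm_self]
    simp only [zero_smul, add_zero]
  have hc1 := hcx k₁ w hw hk₁x
  have hc2 := hcx k₂ w₂ hw₂x hk₂x
  -- the commutator
  have hcomm : ∀ X, (k₁ * k₂) X = (k₂ * k₁) X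
      + (2 * Cfsg.sympForm m F w₂ w) • zT m x (Ψ * Ψs) X := by
    intro X
    have e1 : (k₁ * k₂) X = k₁ (k₂ X) := rfl
    have e2 : (k₂ * k₁) X = k₂ (k₁ X) := rfl
    have hw1 : ctr m w (k₂ X) = ctr m w X + Cfsg.sympForm m F w₂ w • (Ψs *ᵥ ctr m x X) := by
      rw [hk₂x, ctr_add, ctr_add, ctr_add, ctr_vecMulVec, ctr_vecMulVec, ctr_vecMulVec, hxw]
      simp only [zero_smul, add_zero]
    have hw2 : ctr m w₂ (k₁ X) = ctr m w₂ X + Cfsg.sympForm m F w w₂ • (Ψs *ᵥ ctr m x X) := by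
      rw [hk₁x, ctr_add, ctr_add, ctr_add, ctr_vecMulVec, ctr_vecMulVec, ctr_vecMulVec, hxw₂]
      simp only [zero_smul, add_zero]
    rw [e1, e2, hk₁x (k₂ X), hk₂x (k₁ X), hc1, hc2, hw1, hw2, hk₁x X, hk₂x X, zT_apply,
      sympForm_swap m w w₂]
    simp only [Matrix.mulVec_add, Matrix.mulVec_smul, vecMulVec_add, vecMulVec_smul,
      Matrix.mulVec_mulVec]
    module
  have hZ : HasMap M (fun X => X + ((2 * Cfsg.sympForm m F w₂ w) • zT m x (Ψ * Ψs)) X) := by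
    refine ⟨(k₁ * k₂) * (k₂ * k₁)⁻¹,
      M.mul_mem (M.mul_mem hk₁ hk₂) (M.inv_mem (M.mul_mem hk₂ hk₁)), fun X => ?_⟩
    show ((k₁ * k₂) * (k₂ * k₁)⁻¹) X = X + ((2 * Cfsg.sympForm m F w₂ w) • zT m x (Ψ * Ψs)) X
    set X₀ := (k₂ * k₁)⁻¹ X with hX₀
    have hX : (k₂ * k₁) X₀ = X := inv_apply_eq _ X
    have e : ((k₁ * k₂) * (k₂ * k₁)⁻¹) X = (k₁ * k₂) X₀ := rfl
    have hctr : ctr m x X₀ = ctr m x X := by
      rw [← hX]
      have e2 : (k₂ * k₁) X₀ = k₂ (k₁ X₀) := rfl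
      rw [e2, hc2, hc1]
    rw [e, hcomm, hX, LinearMap.smul_apply, zT_apply, zT_apply, hctr]
  -- apply `RadStd`
  have hmem : (2 * Cfsg.sympForm m F w₂ w) • zT m x (Ψ * Ψs) ∈ ZRad m M x := by
    refine ⟨fun X => ?_, fun X hX => ?_, hZ⟩
    · rw [LinearMap.smul_apply, zT_apply, ← vecMulVec_smul]
      exact vecMulVec_mem_bfib _ _
    · rw [LinearMap.smul_apply, zT_apply, hX, Matrix.mulVec_zero]
      ext i k; simp [vecMulVec_apply]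
  obtain ⟨c, hc⟩ := hrs _ hmem
  obtain ⟨x', hx'⟩ := exists_partner hx
  have h2s : (2 * Cfsg.sympForm m F w₂ w) ≠ 0 := mul_ne_zero h2 hw₂w
  refine ⟨c / (2 * Cfsg.sympForm m F w₂ w), ?_⟩
  apply Matrix.toLin'.injective
  apply LinearMap.ext
  intro b
  have h3 := congrArg (fun N : V →ₗ[F] V => N (vecMulVec x' b)) hc
  simp only [LinearMap.smul_apply, zT_apply, nA_apply, ctr_vecMulVec, hx', one_smul] at h3
  rw [← vecMulVec_smul, ← vecMulVec_smul, ← sub_eq_zero, ← vecMulVec_sub] at h3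
  have h4 := vecMulVec_eq_zero_left hx h3
  rw [sub_eq_zero] at h4
  rw [Matrix.toLin'_apply, Matrix.toLin'_apply, Matrix.smul_mulVec, Matrix.one_mulVec,
    div_eq_inv_mul, mul_smul, ← h4, smul_smul, inv_mul_cancel₀ h2s, one_smul]

end Cfsg.Agent.Lib.Helper97_SP3_QRADII
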