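import Mathlib
import Cfsg.Agent.Lib.Helper97_SpTensBasic

set_option autoImplicit false
set_option linter.unusedSectionVars false
set_option linter.unusedVariables false

/-!
# SP3 package SYM3 (polynomial interpolation + weight argument)
-/

namespace Cfsg.Agent.Lib.Helper97_SP3_SYM3

open Matrix Module
open Cfsg.Agent.Lib.Helper98_ExtDefs Cfsg.Agent.Lib.Helper97_TensDefs
  Cfsg.Agent.Lib.Helper97_SpTensDefs Cfsg.Agent.Lib.Helper97_SpTensBasic

variable {F : Type*} [Field F] [Fintype F] {m : ℕ}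

/-- interpolation: a polynomial curve of degree `≤ 4` inside a subspace has its coefficients in the
subspace, when the field has at least `5` elements -/
theorem interp {W : Type*} [AddCommGroup W] [Module F W] (U : Submodule F W)
    (hq : 5 ≤ Fintype.card F) (w0 w1 w2 w3 w4 : W)
    (h : ∀ c : F, w0 + c • w1 + c ^ 2 • w2 + c ^ 3 • w3 + c ^ 4 • w4 ∈ U) :
    w0 ∈ U ∧ w1 ∈ U ∧ w2 ∈ U ∧ w3 ∈ U ∧ w4 ∈ U := by
  classical
  have key : ∀ φ : Module.Dual F W, (∀ u ∈ U, φ u = 0) →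
      φ w0 = 0 ∧ φ w1 = 0 ∧ φ w2 = 0 ∧ φ w3 = 0 ∧ φ w4 = 0 := by
    intro φ hφU
    set p : Polynomial F := Polynomial.C (φ w0) + Polynomial.C (φ w1) * Polynomial.X
      + Polynomial.C (φ w2) * Polynomial.X ^ 2 + Polynomial.C (φ w3) * Polynomial.X ^ 3
      + Polynomial.C (φ w4) * Polynomial.X ^ 4 with hp
    have heval : ∀ c ∈ (Finset.univ : Finset F), p.eval c = 0 := by
      intro c _
      have := hφU _ (h c)
      simp only [map_add, map_smul, smul_eq_mul] at this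
      rw [hp]
      simp only [Polynomial.eval_add, Polynomial.eval_mul, Polynomial.eval_C, Polynomial.eval_X,
        Polynomial.eval_pow]
      linear_combination this
    have hdeg : p.natDegree < (Finset.univ : Finset F).card := by
      have h4 : p.natDegree ≤ 4 := by
        rw [hp]
        compute_degree
      rw [Finset.card_univ]
      omega
    have hp0 : p = 0 := Polynomial.eq_zero_of_natDegree_lt_card_of_eval_eq_zero' p _ heval hdeg
    have hc : ∀ k, p.coeff k = 0 := fun k => by rw [hp0, Polynomial.coeff_zero]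
    have c0 := hc 0
    have c1 := hc 1
    have c2 := hc 2
    have c3 := hc 3
    have c4 := hc 4
    rw [hp] at c0 c1 c2 c3 c4
    simp [Polynomial.coeff_X, Polynomial.coeff_C, Polynomial.coeff_X_pow] at c0 c1 c2 c3 c4
    exact ⟨c0, c1, c2, c3, c4⟩
  have mem_of : ∀ w : W, (∀ φ : Module.Dual F W, (∀ u ∈ U, φ u = 0) → φ w = 0) → w ∈ U := by
    intro w hw
    by_contra hcon
    obtain ⟨f, hf, hf'⟩ := Submodule.exists_dual_map_eq_bot_of_notMem hcon inferInstance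
    apply hf
    apply hw f
    intro u hu
    have hmem : f u ∈ U.map f := Submodule.mem_map_of_mem hu
    rw [hf'] at hmem
    exact (Submodule.mem_bot F).mp hmem
  refine ⟨mem_of _ fun φ hφ => (key φ hφ).1, mem_of _ fun φ hφ => (key φ hφ).2.1,
    mem_of _ fun φ hφ => (key φ hφ).2.2.1, mem_of _ fun φ hφ => (key φ hφ).2.2.2.1,
    mem_of _ fun φ hφ => (key φ hφ).2.2.2.2⟩

/-- the upper unipotent element of `O(S0)` -/
def Rc (c : F) : Matrix (Fin 3) (Fin 3) F := !![1, c, -(c ^ 2 / 2); 0, 1, -c; 0, 0, 1]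

theorem Rc_orth (h2 : (2 : F) ≠ 0) (c : F) : (Rc c)ᵀ * S0 F * Rc c = S0 F := by
  ext i j
  simp only [Matrix.mul_apply, Fin.sum_univ_three, Matrix.transpose_apply]
  fin_cases i <;> fin_cases j <;> simp [Rc, S0] <;> field_simp <;> ring

theorem Rc_inv (c : F) : S0 F * (Rc c)ᵀ * S0 F = Rc (-c) := by
  ext i j
  simp only [Matrix.mul_apply, Fin.sum_univ_three, Matrix.transpose_apply]
  fin_cases i <;> fin_cases j <;> simp [Rc, S0]

def D1 (T : Matrix (Fin 3) (Fin 3) F) : Matrix (Fin 3) (Fin 3) F :=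
  !![T 1 0, -T 0 0 + T 1 1, T 0 1 + T 1 2; -T 2 0, -T 1 0 - T 2 1, T 1 1 - T 2 2; 0, -T 2 0, T 2 1]

def D2 (T : Matrix (Fin 3) (Fin 3) F) : Matrix (Fin 3) (Fin 3) F :=
  !![-(T 2 0 / 2), -T 1 0 - T 2 1 / 2, -(T 0 0 / 2) + T 1 1 - T 2 2 / 2;
     0, T 2 0, -(T 1 0 / 2) - T 2 1;
     0, 0, -(T 2 0 / 2)]

def D3 (T : Matrix (Fin 3) (Fin 3) F) : Matrix (Fin 3) (Fin 3) F :=
  !![0, T 2 0 / 2, -(T 1 0 / 2) - T 2 1 / 2; 0, 0, T 2 0 / 2; 0, 0, 0]

def D4 (T : Matrix (Fin 3) (Fin 3) F) : Matrix (Fin 3) (Fin 3) F :=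
  !![0, 0, T 2 0 / 4; 0, 0, 0; 0, 0, 0]

theorem conj_poly (h2 : (2 : F) ≠ 0) (T : Matrix (Fin 3) (Fin 3) F) (c : F) :
    Rc c * T * Rc (-c) = T + c • D1 T + c ^ 2 • D2 T + c ^ 3 • D3 T + c ^ 4 • D4 T := by
  have h4 : (4 : F) ≠ 0 := by
    have : (4 : F) = 2 * 2 := by norm_num
    rw [this]; exact mul_ne_zero h2 h2
  ext i j
  simp only [Matrix.mul_apply, Fin.sum_univ_three, Matrix.add_apply, Matrix.smul_apply, smul_eq_mul]
  fin_cases i <;> fin_cases j <;> simp [Rc, D1, D2, D3, D4] <;> field_simp <;> ring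

theorem S0_orth : (S0 F)ᵀ * S0 F * S0 F = S0 F := by
  ext i j
  simp only [Matrix.mul_apply, Fin.sum_univ_three, Matrix.transpose_apply]
  fin_cases i <;> fin_cases j <;> simp [S0]

theorem S0_conj (T : Matrix (Fin 3) (Fin 3) F) (i j : Fin 3) :
    (S0 F * T * (S0 F * (S0 F)ᵀ * S0 F)) i j = T (2 - i) (2 - j) := by
  simp only [Matrix.mul_apply, Fin.sum_univ_three, Matrix.transpose_apply]
  fin_cases i <;> fin_cases j <;> simp [S0]

theorem sym3 (h2 : (2 : F) ≠ 0) (hq : 5 ≤ Fintype.card F)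
    (U : Submodule F (Matrix (Fin 3) (Fin 3) F))
    (hsa : ∀ T ∈ U, (S0 F * T)ᵀ = S0 F * T)
    (h1 : (1 : Matrix (Fin 3) (Fin 3) F) ∈ U)
    (hconj : ∀ Q : Matrix (Fin 3) (Fin 3) F, Qᵀ * S0 F * Q = S0 F → ∀ T ∈ U,
      Q * T * (S0 F * Qᵀ * S0 F) ∈ U)
    (T₀ : Matrix (Fin 3) (Fin 3) F) (hT₀ : T₀ ∈ U) (hns : ∀ c : F, T₀ ≠ c • 1) :
    Matrix.single (0 : Fin 3) (2 : Fin 3) (1 : F) ∈ U := by
  by_contra hE
  have h4 : (4 : F) ≠ 0 := by
    have : (4 : F) = 2 * 2 := by norm_num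
    rw [this]; exact mul_ne_zero h2 h2
  -- a multiple of `E02` in `U` vanishes
  have hEz : ∀ a : F, a • Matrix.single (0 : Fin 3) (2 : Fin 3) (1 : F) ∈ U → a = 0 := by
    intro a ha
    by_contra ha0
    apply hE
    have := U.smul_mem a⁻¹ ha
    rwa [smul_smul, inv_mul_cancel₀ ha0, one_smul] at this
  -- the coefficients
  have hD : ∀ T ∈ U, D2 T ∈ U ∧ D3 T ∈ U ∧ D4 T ∈ U := by
    intro T hT
    have hmem : ∀ c : F, T + c • D1 T + c ^ 2 • D2 T + c ^ 3 • D3 T + c ^ 4 • D4 T ∈ U := by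
      intro c
      rw [← conj_poly h2, ← Rc_inv]
      exact hconj (Rc c) (Rc_orth h2 c) T hT
    obtain ⟨_, _, h2', h3', h4'⟩ := interp U hq _ _ _ _ _ hmem
    exact ⟨h2', h3', h4'⟩
  have hswap : ∀ T ∈ U, ∃ T' ∈ U, ∀ i j, T' i j = T (2 - i) (2 - j) := by
    intro T hT
    exact ⟨_, hconj (S0 F) S0_orth T hT, S0_conj T⟩
  -- self-adjointness entrywise
  have hsa' : ∀ T ∈ U, T 1 0 = T 2 1 ∧ T 0 0 = T 2 2 ∧ T 0 1 = T 1 2 := by
    intro T hT
    have h := hsa T hT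
    have e10 := congrFun (congrFun h 1) 0
    have e20 := congrFun (congrFun h 2) 0
    have e21 := congrFun (congrFun h 2) 1
    simp only [Matrix.mul_apply, Fin.sum_univ_three, Matrix.transpose_apply] at e10 e20 e21
    simp [S0] at e10 e20 e21
    exact ⟨e10.symm, e20.symm, e21.symm⟩
  -- (a) `t20 = 0`
  have ha : ∀ T ∈ U, T 2 0 = 0 := by
    intro T hT
    have h := (hD T hT).2.2
    have e : D4 T = (T 2 0 / 4) • Matrix.single (0 : Fin 3) (2 : Fin 3) (1 : F) := by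
      ext i j
      fin_cases i <;> fin_cases j <;> simp [D4, Matrix.single_apply]
    rw [e] at h
    have := hEz _ h
    have h' : T 2 0 = 4 * (T 2 0 / 4) := by field_simp
    rw [h', this, mul_zero]
  -- (b) `t02 = 0`
  have hb : ∀ T ∈ U, T 0 2 = 0 := by
    intro T hT
    obtain ⟨T', hT', hT'e⟩ := hswap T hT
    have := ha T' hT'
    rw [hT'e] at this
    simpa using this
  -- (c) `t10 = t21 = 0`
  have hc : ∀ T ∈ U, T 1 0 = 0 ∧ T 2 1 = 0 := by
    intro T hT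
    have h := (hD T hT).2.1
    have e : D3 T = (-(T 1 0 / 2) - T 2 1 / 2) • Matrix.single (0 : Fin 3) (2 : Fin 3) (1 : F) := by
      ext i j
      fin_cases i <;> fin_cases j <;> simp [D3, Matrix.single_apply, ha T hT]
    rw [e] at h
    have h0 := hEz _ h
    have hs := (hsa' T hT).1
    rw [← hs] at h0
    have : T 1 0 = 0 := by
      have h' : T 1 0 = -(-(T 1 0 / 2) - T 1 0 / 2) := by field_simp; ring
      rw [h', h0, neg_zero]
    exact ⟨this, hs ▸ this⟩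
  -- (d) `t12 = t01 = 0`
  have hd : ∀ T ∈ U, T 1 2 = 0 ∧ T 0 1 = 0 := by
    intro T hT
    obtain ⟨T', hT', hT'e⟩ := hswap T hT
    have := hc T' hT'
    rw [hT'e, hT'e] at this
    simpa using this
  -- (e) `t11 = t00`
  have he : ∀ T ∈ U, T 1 1 = T 0 0 := by
    intro T hT
    have h := (hD T hT).1
    have e : D2 T = (-(T 0 0 / 2) + T 1 1 - T 2 2 / 2) • Matrix.single (0 : Fin 3) (2 : Fin 3) (1 : F) := by
      ext i j
      fin_cases i <;> fin_cases j <;>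
        simp [D2, Matrix.single_apply, ha T hT, (hc T hT).1, (hc T hT).2]
    rw [e] at h
    have h0 := hEz _ h
    have hs := (hsa' T hT).2.1
    rw [← hs] at h0
    have : T 1 1 - T 0 0 = -(T 0 0 / 2) + T 1 1 - T 0 0 / 2 := by field_simp; ring
    exact sub_eq_zero.mp (this.trans h0)
  -- conclusion
  apply hns (T₀ 0 0)
  ext i j
  have e22 := (hsa' T₀ hT₀).2.1
  fin_cases i <;> fin_cases j <;>
    simp [ha T₀ hT₀, hb T₀ hT₀, (hc T₀ hT₀).1, (hc T₀ hT₀).2, (hd T₀ hT₀).1, (hd T₀ hT₀).2,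
      he T₀ hT₀, ← e22]

end Cfsg.Agent.Lib.Helper97_SP3_SYM3
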