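import Mathlib
import Cfsg.Agent.Lib.Helper54_SU36_X5

/-!
# SU36-E5c, brute force part (helper27's market for S5778): the 120 matrices of `SO_3(F_5)` preserve helper27's set `Σ`
(checked in helper54's computable model of the field with 25 elements; about four minutes of kernel time).
-/

set_option autoImplicit false

namespace Cfsg.Agent.Lib.Helper97_SU36_E5cB

open Cfsg.Agent.Lib.Helper54_F25 Cfsg.Agent.Lib.Helper54_SU36_X5 F25

/-- the prime field inside the model -/
def ri (a : ZMod 5) : F25 := mk a 0

set_option maxRecDepth 1000000 in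
set_option synthInstance.maxSize 4000 in
set_option synthInstance.maxHeartbeats 0 in
theorem so3_chk : ∀ a d g : ZMod 5, a * a + d * d + g * g = 1 → ∀ b e h : ZMod 5,
    b * b + e * e + h * h = 1 → a * b + d * e + g * h = 0 → ∀ c f i : ZMod 5,
    c * c + f * f + i * i = 1 → a * c + d * f + g * i = 0 → b * c + e * f + h * i = 0 →
    a * e * i - a * f * h - b * d * i + b * f * g + c * d * h - c * e * g = 1 →
    chk (ri a) (ri b) (ri c) (ri d) (ri e) (ri f) (ri g) (ri h) (ri i) := by
  decide +kernel

end Cfsg.Agent.Lib.Helper97_SU36_E5cB
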