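import Mathlib
import Cfsg.Agent.Lib.Helper54_SU36_X5
import Cfsg.Agent.Lib.Helper97_SU36_E5cB

/-!
# SU36-E5c, model part: real similitudes of the standard form preserve `Σ`
-/

set_option autoImplicit false
set_option linter.unusedVariables false
set_option linter.unusedSectionVars false

namespace Cfsg.Agent.Lib.Helper97_SU36_E5cM

open Cfsg Cfsg.Geo Matrix
open Cfsg.Agent.Lib.Helper54_F25 Cfsg.Agent.Lib.Helper54_SU36_X5 Cfsg.Agent.Lib.Helper54_SUTransfer F25
open Cfsg.Agent.Lib.Helper97_SU36_E5cB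

instance fact_five : Fact (Nat.Prime 5) := ⟨by norm_num⟩

/-- the prime field embedding as a ring homomorphism -/
def riHom : ZMod 5 →+* F25 where
  toFun := ri
  map_one' := rfl
  map_mul' := by decide
  map_zero' := rfl
  map_add' := by decide

lemma riHom_apply (a : ZMod 5) : riHom a = ri a := rfl

lemma ri_injective : Function.Injective ri := by decide

lemma ri_ne_zero {a : ZMod 5} (ha : a ≠ 0) : ri a ≠ 0 := by
  intro h
  exact ha (ri_injective (h.trans rfl))

lemma eq_ri_of_pow_five : ∀ x : F25, x ^ 5 = x → x = ri x.re := by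
  intro x hx
  rw [F25.pow_five] at hx
  revert x
  decide

/-- the 120 matrices of `SO_3(F_5)` preserve `Σ` -/
lemma so3_model (r : Matrix (Fin 3) (Fin 3) (ZMod 5)) (hr : rᵀ * r = 1) (hd : r.det = 1)
    (v : Fin 3 → F25) (hv : SigmaP v) : SigmaP ((r.map ri) *ᵥ v) := by
  have hmat : r.map ri = mat (ri (r 0 0)) (ri (r 0 1)) (ri (r 0 2)) (ri (r 1 0)) (ri (r 1 1))
      (ri (r 1 2)) (ri (r 2 0)) (ri (r 2 1)) (ri (r 2 2)) := by
    refine Matrix.ext fun i j => ?_
    fin_cases i <;> fin_cases j <;> rfl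
  rw [hmat]
  have e : ∀ i j, (rᵀ * r) i j = r 0 i * r 0 j + r 1 i * r 1 j + r 2 i * r 2 j := by
    intro i j
    rw [Matrix.mul_apply, Fin.sum_univ_three]
    rfl
  have h00 := e 0 0
  have h11 := e 1 1
  have h22 := e 2 2
  have h01 := e 0 1
  have h02 := e 0 2
  have h12 := e 1 2
  rw [hr] at h00 h11 h22 h01 h02 h12
  rw [Matrix.det_fin_three] at hd
  refine sigmaP_of_chk (so3_chk _ _ _ ?_ _ _ _ ?_ ?_ _ _ _ ?_ ?_ ?_ ?_) v hv
  · exact h00.symm
  · exact h11.symm
  · exact h01.symm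
  · exact h22.symm
  · exact h02.symm
  · exact h12.symm
  · rw [← hd]

/-- real similitudes preserve `Σ` -/
lemma simil_model (r : Matrix (Fin 3) (Fin 3) (ZMod 5)) (ν : ZMod 5) (hν : ν ≠ 0)
    (hr : rᵀ * r = ν • (1 : Matrix (Fin 3) (Fin 3) (ZMod 5)))
    (v : Fin 3 → F25) (hv : SigmaP v) : SigmaP ((r.map ri) *ᵥ v) := by
  have hdet : r.det * r.det = ν * ν * ν := by
    have h1 := congrArg Matrix.det hr
    rw [Matrix.det_mul, Matrix.det_transpose, Matrix.det_smul, Matrix.det_one, Fintype.card_fin] at h1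
    rw [h1]
    ring
  have hsq : ∀ ν d : ZMod 5, ν ≠ 0 → d * d = ν * ν * ν → ∃ κ : ZMod 5, κ ≠ 0 ∧ κ * κ = ν := by decide
  obtain ⟨κ, hκ0, hκ⟩ := hsq ν r.det hν hdet
  -- the orthogonal matrix `κ⁻¹ r`
  set r' : Matrix (Fin 3) (Fin 3) (ZMod 5) := κ⁻¹ • r with hr'def
  have hr' : r'ᵀ * r' = 1 := by
    rw [hr'def, Matrix.transpose_smul, Matrix.smul_mul, Matrix.mul_smul, hr, smul_smul, smul_smul, ← hκ]
    have : κ⁻¹ * κ⁻¹ * (κ * κ) = 1 := by
      field_simp
    rw [this, one_smul]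
  have hd' : r'.det * r'.det = 1 := by
    have h1 := congrArg Matrix.det hr'
    rwa [Matrix.det_mul, Matrix.det_transpose, Matrix.det_one] at h1
  set s : ZMod 5 := r'.det with hs
  have hs0 : s ≠ 0 := by
    intro h
    rw [h, mul_zero] at hd'
    exact zero_ne_one hd'
  set r'' : Matrix (Fin 3) (Fin 3) (ZMod 5) := s • r' with hr''def
  have hr'' : r''ᵀ * r'' = 1 := by
    rw [hr''def, Matrix.transpose_smul, Matrix.smul_mul, Matrix.mul_smul, hr', smul_smul, hd', one_smul]
  have hd'' : r''.det = 1 := by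
    rw [hr''def, Matrix.det_smul, Fintype.card_fin, ← hs]
    calc s ^ 3 * s = (s * s) * (s * s) := by ring
      _ = 1 := by rw [hd', one_mul]
  have h1 := so3_model r'' hr'' hd'' v hv
  have hrr : r = (κ * s) • r'' := by
    rw [hr''def, hr'def, smul_smul, smul_smul]
    have : κ * s * s * κ⁻¹ = 1 := by
      have : κ * s * s * κ⁻¹ = (s * s) * (κ * κ⁻¹) := by ring
      rw [this, hd', one_mul, mul_inv_cancel₀ hκ0]
    rw [this, one_smul]
  have hmap : r.map ri = ri (κ * s) • r''.map ri := by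
    rw [hrr]
    refine Matrix.ext fun i j => ?_
    simp only [Matrix.map_apply, Matrix.smul_apply, smul_eq_mul]
    exact riHom.map_mul _ _
  rw [hmap, Matrix.smul_mulVec, sigmaP_smul (by rw [F25.card]) (ri_ne_zero (mul_ne_zero hκ0 hs0))]
  exact h1

/-- matrices over a field with 25 elements with Frobenius-fixed entries, similitudes of the standard symmetric form,
preserve `Σ` -/
theorem real_simil_preserves {F : Type*} [Field F] [Fintype F] (hF : Fintype.card F = 25)
    (R : Matrix (Fin 3) (Fin 3) F) (hreal : ∀ i j, (R i j) ^ 5 = R i j) (ν : F) (hν : ν ≠ 0)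
    (hR : Rᵀ * R = ν • (1 : Matrix (Fin 3) (Fin 3) F)) (v : Fin 3 → F) (hv : SigmaP v) :
    SigmaP (R *ᵥ v) := by
  set e : F ≃+* F25 := ringEquivF25 hF with he
  set r : Matrix (Fin 3) (Fin 3) (ZMod 5) := fun i j => (e (R i j)).re with hrdef
  have hre : ∀ i j, e (R i j) = ri (r i j) := by
    intro i j
    have h1 : (e (R i j)) ^ 5 = e (R i j) := by rw [← map_pow, hreal]
    exact eq_ri_of_pow_five _ h1
  have hmap : R.map e = r.map riHom := by
    refine Matrix.ext fun i j => ?_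
    exact hre i j
  have hνR : ν = R 0 0 * R 0 0 + R 1 0 * R 1 0 + R 2 0 * R 2 0 := by
    have h1 := congrFun (congrFun hR 0) 0
    rw [Matrix.mul_apply, Fin.sum_univ_three] at h1
    simp only [Matrix.transpose_apply, Matrix.smul_apply, Matrix.one_apply_eq, smul_eq_mul, mul_one] at h1
    exact h1.symm
  set ν₀ : ZMod 5 := r 0 0 * r 0 0 + r 1 0 * r 1 0 + r 2 0 * r 2 0 with hν₀def
  have heν : e ν = riHom ν₀ := by
    rw [hνR, hν₀def]
    simp only [map_add, map_mul, hre, riHom_apply]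
  have hr : rᵀ * r = ν₀ • (1 : Matrix (Fin 3) (Fin 3) (ZMod 5)) := by
    have hinj : Function.Injective (fun M : Matrix (Fin 3) (Fin 3) (ZMod 5) => M.map riHom) :=
      Matrix.map_injective ri_injective
    apply hinj
    show (rᵀ * r).map riHom = (ν₀ • (1 : Matrix (Fin 3) (Fin 3) (ZMod 5))).map riHom
    rw [Matrix.map_mul, Matrix.transpose_map, ← hmap, ← Matrix.transpose_map, ← Matrix.map_mul, hR]
    refine Matrix.ext fun i j => ?_
    simp only [Matrix.map_apply, Matrix.smul_apply, smul_eq_mul, map_mul, heν]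
    by_cases hij : i = j
    · subst hij
      simp
    · simp [Matrix.one_apply_ne hij]
  have hν₀ : ν₀ ≠ 0 := by
    intro h
    rw [h, map_zero] at heν
    exact hν ((map_eq_zero_iff e e.injective).1 heν)
  have h1 := simil_model r ν₀ hν₀ hr (fun i => e (v i)) ((sigmaP_map e v).2 hv)
  have h2 : (r.map ri) *ᵥ (fun i => e (v i)) = fun i => e ((R *ᵥ v) i) := by
    funext i
    have h3 := RingHom.map_mulVec (e : F →+* F25) R v i
    have h4 : r.map ri = R.map (e : F →+* F25) := hmap.symm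
    rw [h4]
    exact h3.symm
  rw [h2] at h1
  exact (sigmaP_map e _).1 h1

end Cfsg.Agent.Lib.Helper97_SU36_E5cM
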