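import Mathlib
import Cfsg.Prelude.Def_GeometricClasses
import Cfsg.Prelude.Def_LieClassical
import Cfsg.Agent.Lib.Helper13_Herm
import Cfsg.Agent.Lib.Helper13_GU
import Cfsg.Agent.Lib.Helper13_HermBridge
import Cfsg.Agent.Lib.Helper13_SU3Graph
import Cfsg.Agent.Lib.Helper34_OrthOdd_OP4b
import Cfsg.Agent.Lib.Helper98_Decomp
import Cfsg.Agent.Lib.Helper54_SU36_X5
import Cfsg.Agent.Lib.Helper97_SU36_E5cM

/-!
# SU36-E5c (helper27's market for S5778): `3 × SO_3(5)` is not maximal in `SU_3(5)`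

The subfield group of a rational structure carrying the form lies in a conjugate of helper54's `X5 ≅ 3.A_7`.
-/

set_option autoImplicit false
set_option linter.unusedVariables false
set_option linter.unusedSectionVars false
set_option linter.style.haveILetI false

namespace Cfsg.Agent.Lib.Helper97_SU36_E5c

open Cfsg Cfsg.Geo Matrix Cfsg.Agent.Lib.Helper13_Herm
open Cfsg.Agent.Lib.Helper54_SU36_X5 Cfsg.Agent.Lib.Helper97_SU36_E5cM

/-! ## congruence of symmetric matrices to scalar matrices -/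

section congr

variable {K : Type*} [Field K]

lemma eq_zero_of_quad_eq_zero (h2 : (2 : K) ≠ 0) {A : Matrix (Fin 3) (Fin 3) K} (hA : Aᵀ = A)
    (h : ∀ v : Fin 3 → K, v ⬝ᵥ A *ᵥ v = 0) : A = 0 := by
  have hd : ∀ i, A i i = 0 := by
    intro i
    have h1 := h (Pi.single i 1)
    rwa [Matrix.mulVec_single_one, single_one_dotProduct, Matrix.col_apply] at h1
  have hs : ∀ i j, A j i = A i j := by
    intro i j
    have := congrFun (congrFun hA i) j
    rwa [Matrix.transpose_apply] at this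
  ext i j
  have h1 := h (Pi.single i 1 + Pi.single j 1)
  rw [Matrix.mulVec_add, add_dotProduct, dotProduct_add, dotProduct_add, Matrix.mulVec_single_one,
    Matrix.mulVec_single_one, single_one_dotProduct, single_one_dotProduct, single_one_dotProduct,
    single_one_dotProduct, Matrix.col_apply, Matrix.col_apply, Matrix.col_apply, Matrix.col_apply, hd, hd,
    hs i j] at h1
  have h3 : (2 : K) * A i j = 0 := by linear_combination h1
  rcases mul_eq_zero.1 h3 with h4 | h4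
  · exact absurd h4 h2
  · rw [h4]
    rfl

/-- a symmetric invertible `3 × 3` matrix over a finite field of odd order is congruent to a scalar matrix -/
lemma exists_congr_scalar [Finite K] (h2 : (2 : K) ≠ 0) (G : Matrix (Fin 3) (Fin 3) K) (hG : Gᵀ = G)
    (hdet : IsUnit G.det) :
    ∃ (A : Matrix (Fin 3) (Fin 3) K) (l : K), IsUnit A.det ∧ l ≠ 0 ∧ Aᵀ * G * A = l • 1 := by
  obtain ⟨φ, μ, hμ, hφ⟩ := Cfsg.Agent.Lib.Helper34_OrthOdd_OP4b.exists_simil_std h2 (d := 3) (m' := 1) rfl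
    G hG hdet
  obtain ⟨φ', μ', hμ', hφ'⟩ := Cfsg.Agent.Lib.Helper34_OrthOdd_OP4b.exists_simil_std h2 (d := 3) (m' := 1) rfl
    (1 : Matrix (Fin 3) (Fin 3) K) Matrix.transpose_one (by rw [Matrix.det_one]; exact isUnit_one)
  set ψ : (Fin 3 → K) ≃ₗ[K] (Fin 3 → K) := φ'.trans φ.symm with hψ
  set A : Matrix (Fin 3) (Fin 3) K := LinearMap.toMatrix' (ψ : (Fin 3 → K) →ₗ[K] (Fin 3 → K)) with hAdef
  have hA : ∀ w, A *ᵥ w = ψ w := fun w => LinearMap.toMatrix'_mulVec _ _
  refine ⟨A, μ * μ'⁻¹, ?_, mul_ne_zero hμ (inv_ne_zero hμ'), ?_⟩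
  · have h1 : A * LinearMap.toMatrix' (ψ.symm : (Fin 3 → K) →ₗ[K] (Fin 3 → K)) = 1 := by
      rw [hAdef, ← LinearMap.toMatrix'_comp]
      have : (ψ : (Fin 3 → K) →ₗ[K] (Fin 3 → K)) ∘ₗ (ψ.symm : (Fin 3 → K) →ₗ[K] (Fin 3 → K)) =
          LinearMap.id := by
        ext x : 1
        simp
      rw [this, LinearMap.toMatrix'_id]
    exact Matrix.isUnit_det_of_right_inverse h1
  · have key : ∀ w : Fin 3 → K, w ⬝ᵥ (Aᵀ * G * A - (μ * μ'⁻¹) • (1 : Matrix (Fin 3) (Fin 3) K)) *ᵥ w = 0 := by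
      intro w
      rw [Matrix.sub_mulVec, dotProduct_sub, sub_eq_zero]
      have e1 : w ⬝ᵥ (Aᵀ * G * A) *ᵥ w = (A *ᵥ w) ⬝ᵥ G *ᵥ (A *ᵥ w) := by
        rw [← Matrix.mulVec_mulVec, ← Matrix.mulVec_mulVec, Matrix.dotProduct_mulVec,
          Matrix.vecMul_transpose]
      rw [e1, hA, hφ (ψ w)]
      have e2 : φ (ψ w) = φ' w := by
        rw [hψ]
        simp
      rw [e2]
      have h1 := hφ' w
      rw [Matrix.one_mulVec] at h1
      rw [Matrix.smul_mulVec, Matrix.one_mulVec, dotProduct_smul, smul_eq_mul, h1]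
      field_simp
    have hsymm : (Aᵀ * G * A - (μ * μ'⁻¹) • (1 : Matrix (Fin 3) (Fin 3) K))ᵀ =
        Aᵀ * G * A - (μ * μ'⁻¹) • (1 : Matrix (Fin 3) (Fin 3) K) := by
      rw [Matrix.transpose_sub, Matrix.transpose_mul, Matrix.transpose_mul, Matrix.transpose_transpose, hG,
        Matrix.transpose_smul, Matrix.transpose_one, Matrix.mul_assoc]
    exact sub_eq_zero.1 (eq_zero_of_quad_eq_zero h2 hsymm key)

end congr

/-! ## the field with 25 elements and its subfield with 5 elements -/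

section setup

open Cfsg.Agent.Lib.Helper13_HermBridge

variable {F : Type*} [Field F] [Fintype F]

lemma card_sub (F₀ : Subfield F) (hF : Fintype.card F = 5 ^ 2)
    (hcard : Fintype.card F = Nat.card F₀ ^ 2) : Nat.card F₀ = 5 := by
  rw [hF] at hcard
  have h1 : Nat.card F₀ ^ 2 = 5 ^ 2 := hcard.symm
  exact Nat.pow_left_injective (by norm_num : 2 ≠ 0) h1

lemma pow_five_of_mem (F₀ : Subfield F) (h5 : Nat.card F₀ = 5) {x : F} (hx : x ∈ F₀) : x ^ 5 = x := by
  haveI : Fintype F₀ := Fintype.ofFinite F₀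
  have h1 : (⟨x, hx⟩ : F₀) ^ Fintype.card F₀ = ⟨x, hx⟩ := FiniteField.pow_card _
  rw [← Nat.card_eq_fintype_card, h5] at h1
  exact congrArg Subtype.val h1

/-- the Gram matrix of the columns of `P` -/
def gram (P : Matrix (Fin 3) (Fin 3) F) : Matrix (Fin 3) (Fin 3) F := Pᵀ * P.map (fun x => x ^ 5)

lemma gram_apply (P : Matrix (Fin 3) (Fin 3) F) (i j : Fin 3) :
    gram P i j = Cfsg.hermForm 3 F 5 (P *ᵥ Pi.single i 1) (P *ᵥ Pi.single j 1) := by
  rw [Matrix.mulVec_single_one, Matrix.mulVec_single_one]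
  unfold gram Cfsg.hermForm
  rw [Matrix.mul_apply]
  rfl

lemma gram_mem (F₀ : Subfield F) (P : GL (Fin 3) F)
    (hfrs : IsFormRationalStructure (Cfsg.hermForm 3 F 5) F₀ 1 P) (i j : Fin 3) :
    gram (P : Matrix (Fin 3) (Fin 3) F) i j ∈ F₀ := by
  rw [gram_apply]
  have hs : ∀ k : Fin 3, ∀ l, (Pi.single k (1 : F) : Fin 3 → F) l ∈ F₀ := by
    intro k l
    by_cases hl : l = k
    · rw [hl, Pi.single_eq_same]
      exact F₀.one_mem
    · rw [Pi.single_eq_of_ne hl]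
      exact F₀.zero_mem
  have := hfrs (Pi.single i 1) (Pi.single j 1) (hs i) (hs j)
  rwa [one_mul] at this

lemma gram_symm (hF : Fintype.card F = 5 ^ 2) (F₀ : Subfield F) (h5 : Nat.card F₀ = 5) (P : GL (Fin 3) F)
    (hfrs : IsFormRationalStructure (Cfsg.hermForm 3 F 5) F₀ 1 P) :
    (gram (P : Matrix (Fin 3) (Fin 3) F))ᵀ = gram (P : Matrix (Fin 3) (Fin 3) F) := by
  ext i j
  rw [Matrix.transpose_apply, gram_apply, ← hermForm_pow_q 3 hF, ← gram_apply,
    pow_five_of_mem F₀ h5 (gram_mem F₀ P hfrs i j)]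

lemma map_pow_eq (hF : Fintype.card F = 5 ^ 2) (M : Matrix (Fin 3) (Fin 3) F) :
    M.map (fun x => x ^ 5) = M.map (frobQ hF) := rfl

lemma gram_det_ne (hF : Fintype.card F = 5 ^ 2) (P : GL (Fin 3) F) :
    (gram (P : Matrix (Fin 3) (Fin 3) F)).det ≠ 0 := by
  have hP : (P : Matrix (Fin 3) (Fin 3) F).det ≠ 0 :=
    ((Matrix.isUnit_iff_isUnit_det _).mp (Units.isUnit P)).ne_zero
  unfold gram
  rw [Matrix.det_mul, Matrix.det_transpose, map_pow_eq hF, ← RingHom.mapMatrix_apply, ← RingHom.map_det]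
  refine mul_ne_zero hP ?_
  rw [frobQ_apply]
  exact pow_ne_zero _ hP

/-- the normalization: a real matrix `M` and a scalar bringing `P` into `GU` -/
lemma exists_normalization (hF : Fintype.card F = 5 ^ 2) (F₀ : Subfield F) (h5 : Nat.card F₀ = 5)
    (P : GL (Fin 3) F) (hfrs : IsFormRationalStructure (Cfsg.hermForm 3 F 5) F₀ 1 P) :
    ∃ (A Ai : Matrix (Fin 3) (Fin 3) F₀) (μ₁ : F), A * Ai = 1 ∧ μ₁ ≠ 0 ∧
      (μ₁ • ((P : Matrix (Fin 3) (Fin 3) F) * A.map F₀.subtype))ᵀ *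
        (μ₁ • ((P : Matrix (Fin 3) (Fin 3) F) * A.map F₀.subtype)).map (fun x => x ^ 5) = 1 := by
  haveI : Finite F₀ := inferInstance
  set G := gram (P : Matrix (Fin 3) (Fin 3) F) with hG
  set G₀ : Matrix (Fin 3) (Fin 3) F₀ := fun i j => ⟨G i j, gram_mem F₀ P hfrs i j⟩ with hG₀
  have hmap : G₀.map F₀.subtype = G := by
    ext i j
    rfl
  have hsymm : G₀ᵀ = G₀ := by
    ext i j
    have := congrFun (congrFun (gram_symm hF F₀ h5 P hfrs) i) j
    exact this
  have hdet : IsUnit G₀.det := by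
    rw [isUnit_iff_ne_zero]
    intro h0
    apply gram_det_ne hF P
    rw [← hG, ← hmap, ← RingHom.mapMatrix_apply, ← RingHom.map_det, h0, map_zero]
  have h2 : (2 : F₀) ≠ 0 := by
    intro h
    have h3 : (2 : F) = 0 := by
      have := congrArg F₀.subtype h
      simpa [map_ofNat] using this
    have hch : ((5 : ℕ) : F) = 0 := by
      have := FiniteField.cast_card_eq_zero F
      rw [hF] at this
      have h25 : ((5 ^ 2 : ℕ) : F) = (5 : F) * 5 := by norm_num
      rw [h25] at this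
      have := mul_self_eq_zero.1 this
      exact_mod_cast this
    have h3' : (2 : F) = 0 := h3
    have h1 : (1 : F) = 0 := by
      have : (1 : F) = (5 : F) - 2 * 2 := by norm_num
      rw [this, h3']
      have : (5 : F) = 0 := by exact_mod_cast hch
      rw [this]
      ring
    exact one_ne_zero h1
  obtain ⟨A, l, hA, hl, hAG⟩ := exists_congr_scalar h2 G₀ hsymm hdet
  -- the scalar
  have hlF : ((l : F₀) : F) ≠ 0 := fun h => hl (Subtype.ext h)
  have hlinv : ((l : F))⁻¹ ^ 5 = (l : F)⁻¹ := by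
    rw [inv_pow, pow_five_of_mem F₀ h5 l.2]
  obtain ⟨μ₁, hμ₁⟩ := Cfsg.Agent.Lib.Helper13_SU3Graph.exists_norm_eq hF (inv_ne_zero hlF) hlinv
  have hμ0 : μ₁ ≠ 0 := by
    intro h
    rw [h, zero_mul] at hμ₁
    exact inv_ne_zero hlF hμ₁.symm
  refine ⟨A, A⁻¹, μ₁, Matrix.mul_nonsing_inv A hA, hμ0, ?_⟩
  set M : Matrix (Fin 3) (Fin 3) F := A.map F₀.subtype with hM
  have hMreal : M.map (fun x => x ^ 5) = M := by
    ext i j
    exact pow_five_of_mem F₀ h5 (A i j).2
  have hMG : Mᵀ * G * M = (l : F) • (1 : Matrix (Fin 3) (Fin 3) F) := by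
    have h1 := congrArg (fun X : Matrix (Fin 3) (Fin 3) F₀ => X.map F₀.subtype) hAG
    simp only [Matrix.map_mul, Matrix.transpose_map] at h1
    rw [hmap] at h1
    rw [hM, h1]
    ext i j
    by_cases hij : i = j
    · subst hij
      simp
    · simp [Matrix.one_apply_ne hij]
  have hmapmul : ((P : Matrix (Fin 3) (Fin 3) F) * M).map (fun x => x ^ 5) =
      (P : Matrix (Fin 3) (Fin 3) F).map (fun x => x ^ 5) * M := by
    rw [map_pow_eq hF, Matrix.map_mul, ← map_pow_eq hF, ← map_pow_eq hF, hMreal]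
  have hsmulmap : (μ₁ • ((P : Matrix (Fin 3) (Fin 3) F) * M)).map (fun x => x ^ 5) =
      μ₁ ^ 5 • ((P : Matrix (Fin 3) (Fin 3) F) * M).map (fun x => x ^ 5) := by
    ext i j
    simp only [Matrix.map_apply, Matrix.smul_apply, smul_eq_mul, mul_pow]
  rw [hsmulmap, hmapmul, Matrix.transpose_smul, Matrix.transpose_mul, Matrix.smul_mul, Matrix.mul_smul,
    smul_smul]
  have hassoc : Mᵀ * (P : Matrix (Fin 3) (Fin 3) F)ᵀ *
      ((P : Matrix (Fin 3) (Fin 3) F).map (fun x => x ^ 5) * M) = Mᵀ * G * M := by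
    rw [hG, gram]
    simp only [Matrix.mul_assoc]
  rw [hassoc, hMG, smul_smul, hμ₁, inv_mul_cancel₀ hlF, one_smul]

end setup

/-! ## the theorem -/

section main

open Cfsg.Agent.Lib.Helper13_HermBridge Cfsg.Agent.Lib.Helper13_GU

variable {F : Type*} [Field F] [Fintype F]

omit [Fintype F] in
lemma conj_mem_SUg {g h : GL (Fin 3) F} (hg : g ∈ Cfsg.GU 3 F 5) (hh : h ∈ SUg F) :
    g * h * g⁻¹ ∈ SUg F := by
  refine ⟨Subgroup.mul_mem _ (Subgroup.mul_mem _ hg hh.1) (Subgroup.inv_mem _ hg), ?_⟩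
  change g * h * g⁻¹ ∈ specialLinear (Fin 3) F
  rw [Cfsg.Agent.Lib.Helper98_Decomp.mem_specialLinear_iff]
  have h1 := (Cfsg.Agent.Lib.Helper98_Decomp.mem_specialLinear_iff h).1 hh.2
  rw [Units.val_mul, Units.val_mul, Matrix.det_mul, Matrix.det_mul, h1, mul_one, ← Matrix.det_mul,
    ← Units.val_mul, mul_inv_cancel, Units.val_one, Matrix.det_one]

/-- a diagonal element of `X5` that is not a scalar multiple of a matrix over the subfield -/
lemma exists_diag (hF : Fintype.card F = 5 ^ 2) (F₀ : Subfield F) (h5 : Nat.card F₀ = 5) :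
    ∃ m ∈ X5 F, ∀ (c : F) (R₀ : Matrix (Fin 3) (Fin 3) F₀),
      (m : Matrix (Fin 3) (Fin 3) F) ≠ c • R₀.map F₀.subtype := by
  classical
  have hcardU : Fintype.card Fˣ = 24 := by
    rw [Fintype.card_units, hF]
    norm_num
  haveI : Fact (Nat.Prime 3) := ⟨by norm_num⟩
  obtain ⟨ω, hω⟩ := exists_prime_orderOf_dvd_card (G := Fˣ) 3 (by rw [hcardU]; norm_num)
  have hω3 : ω ^ 3 = 1 := by rw [← hω]; exact pow_orderOf_eq_one ω
  have hω1 : ω ≠ 1 := by
    intro h
    rw [h, orderOf_one] at hω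
    norm_num at hω
  set d : Fin 3 → Fˣ := ![ω, ω⁻¹, 1] with hd
  have hd6 : ∀ i, d i ^ (5 + 1) = 1 := by
    intro i
    fin_cases i
    · show ω ^ 6 = 1
      calc ω ^ 6 = (ω ^ 3) ^ 2 := by rw [← pow_mul]
        _ = 1 := by rw [hω3, one_pow]
    · show ω⁻¹ ^ 6 = 1
      rw [inv_pow]
      have : ω ^ 6 = 1 := by
        calc ω ^ 6 = (ω ^ 3) ^ 2 := by rw [← pow_mul]
          _ = 1 := by rw [hω3, one_pow]
      rw [this, inv_one]
    · show (1 : Fˣ) ^ 6 = 1
      exact one_pow _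
  refine ⟨diagGL d, mon_le_X5 ⟨?_, diagGL_mem d hd6, ?_⟩, ?_⟩
  · refine ⟨1, fun i => ?_⟩
    rw [Equiv.Perm.one_apply]
    unfold stdFrame
    rw [Submodule.map_span, Set.image_singleton, Matrix.toLin'_apply, diagGL_val]
    have h1 : Matrix.diagonal (fun i => (d i : F)) *ᵥ (Pi.single i 1 : Fin 3 → F) =
        (d i : F) • (Pi.single i 1 : Fin 3 → F) := by
      funext k
      rw [Matrix.mulVec_diagonal, Pi.smul_apply, smul_eq_mul]
      by_cases hk : k = i
      · rw [hk]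
      · rw [Pi.single_eq_of_ne hk, mul_zero, mul_zero]
    rw [h1]
    exact Submodule.span_singleton_smul_eq (d i).isUnit _
  · change diagGL d ∈ specialLinear (Fin 3) F
    unfold specialLinear
    rw [MonoidHom.mem_ker, det_diagGL, Fin.prod_univ_three]
    show ω * ω⁻¹ * 1 = 1
    rw [mul_inv_cancel, one_mul]
  · intro c R₀ h
    have e00 := congrFun (congrFun h 0) 0
    have e22 := congrFun (congrFun h 2) 2
    rw [diagGL_val] at e00 e22
    simp only [Matrix.diagonal_apply_eq, Matrix.smul_apply, Matrix.map_apply, smul_eq_mul] at e00 e22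
    have hd0 : (d 0 : F) = (ω : F) := rfl
    have hd2 : (d 2 : F) = 1 := rfl
    rw [hd0] at e00
    rw [hd2] at e22
    have hc0 : c ≠ 0 := by
      intro hc
      rw [hc, zero_mul] at e22
      exact one_ne_zero e22
    have hr0 : (F₀.subtype (R₀ 2 2)) ≠ 0 := by
      intro hr
      rw [hr, mul_zero] at e22
      exact one_ne_zero e22
    have hcmem : c ∈ F₀ := by
      have : c = (F₀.subtype (R₀ 2 2))⁻¹ := by
        field_simp
        exact e22.symm
      rw [this]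
      exact F₀.inv_mem (R₀ 2 2).2
    have hωmem : (ω : F) ∈ F₀ := by
      rw [e00]
      exact F₀.mul_mem hcmem (R₀ 0 0).2
    have h5' := pow_five_of_mem F₀ h5 hωmem
    have hω3F : (ω : F) ^ 3 = 1 := by
      rw [← Units.val_pow_eq_pow_val, hω3, Units.val_one]
    have hω0 : (ω : F) ≠ 0 := ω.ne_zero
    have : (ω : F) = 1 := by
      have h4 : (ω : F) ^ 3 * (ω : F) ^ 2 = (ω : F) := by rw [← pow_add]; exact h5'
      rw [hω3F, one_mul] at h4
      -- ω ^ 2 = ω, so ω = 1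
      have h6 : (ω : F) * ((ω : F) - 1) = 0 := by linear_combination h4
      rcases mul_eq_zero.1 h6 with h7 | h7
      · exact absurd h7 hω0
      · linear_combination h7
    exact hω1 (Units.ext this)

/-- **SU36-E5c** -/
theorem E5c (hF : Fintype.card F = 5 ^ 2) (F₀ : Subfield F) (P : GL (Fin 3) F)
    (hcard : Fintype.card F = Nat.card F₀ ^ 2)
    (hfrs : IsFormRationalStructure (Cfsg.hermForm 3 F 5) F₀ 1 P) :
    ¬ IsMaximalIn (Cfsg.GU 3 F 5 ⊓ specialLinear (Fin 3) F)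
      (subfieldSubgroup F₀ P ⊓ (Cfsg.GU 3 F 5 ⊓ specialLinear (Fin 3) F)) := by
  classical
  have hF25 : Fintype.card F = 25 := by rw [hF]; norm_num
  have h5 := card_sub F₀ hF hcard
  obtain ⟨A, Ai, μ₁, hAAi, hμ0, hgram⟩ := exists_normalization hF F₀ h5 P hfrs
  set M : Matrix (Fin 3) (Fin 3) F := A.map F₀.subtype with hM
  set Mi : Matrix (Fin 3) (Fin 3) F := Ai.map F₀.subtype with hMi
  have hMMi : M * Mi = 1 := by
    rw [hM, hMi, ← Matrix.map_mul, hAAi]
    ext i j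
    by_cases hij : i = j
    · subst hij
      simp
    · simp [Matrix.one_apply_ne hij]
  set P' : Matrix (Fin 3) (Fin 3) F := μ₁ • ((P : Matrix (Fin 3) (Fin 3) F) * M) with hP'
  set g : GL (Fin 3) F := gramGL P' hgram with hg
  have hgv : (g : Matrix (Fin 3) (Fin 3) F) = P' := rfl
  have hgGU : g ∈ Cfsg.GU 3 F 5 := gramGL_mem hF P' hgram
  have hgiGU : g⁻¹ ∈ Cfsg.GU 3 F 5 := Subgroup.inv_mem _ hgGU
  have hPiP : ((P⁻¹ : GL (Fin 3) F) : Matrix (Fin 3) (Fin 3) F) * (P : Matrix (Fin 3) (Fin 3) F) = 1 := by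
    rw [← Units.val_mul, inv_mul_cancel, Units.val_one]
  -- the structure of the conjugates of the subfield group
  have key : ∀ h ∈ subfieldSubgroup F₀ P, ∃ (c : F) (R₀ : Matrix (Fin 3) (Fin 3) F₀), c ≠ 0 ∧
      ((g⁻¹ * h * g : GL (Fin 3) F) : Matrix (Fin 3) (Fin 3) F) = c • R₀.map F₀.subtype := by
    rintro h ⟨X, hX, rfl⟩
    obtain ⟨Y, ⟨Y₀, rfl⟩, Z, hZ, rfl⟩ := Subgroup.mem_sup_of_normal_right.mp hX
    obtain ⟨c, hc⟩ := (mem_scalars_iff Z).mp hZ
    refine ⟨c, Ai * (Y₀ : Matrix (Fin 3) (Fin 3) F₀) * A, c.ne_zero, ?_⟩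
    set Yr : Matrix (Fin 3) (Fin 3) F := (Y₀ : Matrix (Fin 3) (Fin 3) F₀).map F₀.subtype with hYr
    have hYv : ((Matrix.GeneralLinearGroup.map F₀.subtype Y₀ : GL (Fin 3) F) :
        Matrix (Fin 3) (Fin 3) F) = Yr := rfl
    have hRmap : (Ai * (Y₀ : Matrix (Fin 3) (Fin 3) F₀) * A).map F₀.subtype = Mi * Yr * M := by
      rw [Matrix.map_mul, Matrix.map_mul]
    have hcomp : (((MulAut.conj P).toMonoidHom (Matrix.GeneralLinearGroup.map F₀.subtype Y₀ * Z) :
        GL (Fin 3) F) : Matrix (Fin 3) (Fin 3) F) * P' = P' * ((c : F) • (Mi * Yr * M)) := by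
      simp only [MulEquiv.toMonoidHom_eq_coe, MonoidHom.coe_coe, MulAut.conj_apply]
      rw [Units.val_mul, Units.val_mul, Units.val_mul, hYv, hc, hP']
      calc (P : Matrix (Fin 3) (Fin 3) F) * (Yr * ((c : F) • (1 : Matrix (Fin 3) (Fin 3) F))) *
            ((P⁻¹ : GL (Fin 3) F) : Matrix (Fin 3) (Fin 3) F) * (μ₁ • ((P : Matrix (Fin 3) (Fin 3) F) * M))
          = (μ₁ * (c : F)) • ((P : Matrix (Fin 3) (Fin 3) F) * Yr *
              (((P⁻¹ : GL (Fin 3) F) : Matrix (Fin 3) (Fin 3) F) * (P : Matrix (Fin 3) (Fin 3) F)) * M) := by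
            simp only [Matrix.mul_smul, Matrix.smul_mul, Matrix.mul_one, Matrix.mul_assoc, smul_smul]
        _ = (μ₁ * (c : F)) • ((P : Matrix (Fin 3) (Fin 3) F) * (M * Mi) * Yr * M) := by
            rw [hPiP, hMMi, Matrix.mul_one, Matrix.mul_one]
        _ = μ₁ • ((P : Matrix (Fin 3) (Fin 3) F) * M) * ((c : F) • (Mi * Yr * M)) := by
            simp only [Matrix.mul_smul, Matrix.smul_mul, Matrix.mul_assoc, smul_smul]
            rw [mul_comm (c : F) μ₁]
    rw [hRmap, mul_assoc, Units.val_mul, Units.val_mul, hgv, hcomp, ← Matrix.mul_assoc, ← hgv,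
      ← Units.val_mul, inv_mul_cancel, Units.val_one, Matrix.one_mul]
  -- the conjugates lie in `X5`
  have hX5 : ∀ h ∈ subfieldSubgroup F₀ P ⊓ (Cfsg.GU 3 F 5 ⊓ specialLinear (Fin 3) F),
      g⁻¹ * h * g ∈ X5 F := by
    intro h hh
    obtain ⟨c, R₀, hc0, hcR⟩ := key h hh.1
    set R : Matrix (Fin 3) (Fin 3) F := R₀.map F₀.subtype with hR
    have hS : g⁻¹ * h * g ∈ SUg F := by
      have := conj_mem_SUg hgiGU hh.2
      rwa [inv_inv] at this
    have hreal : ∀ i j, (R i j) ^ 5 = R i j := fun i j => pow_five_of_mem F₀ h5 (R₀ i j).2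
    have hRmap : R.map (fun x => x ^ 5) = R := by
      ext i j
      exact hreal i j
    have hgr := (mem_GU_iff_gram hF (g⁻¹ * h * g)).1 hS.1
    have hval : (g⁻¹ * h * g : GL (Fin 3) F).1 = c • R := hcR
    rw [hval] at hgr
    have hsm : (c • R).map (fun x => x ^ 5) = c ^ 5 • R := by
      ext i j
      simp only [Matrix.map_apply, Matrix.smul_apply, smul_eq_mul, mul_pow, hreal]
    rw [hsm, Matrix.transpose_smul, Matrix.smul_mul, Matrix.mul_smul, smul_smul] at hgr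
    have hcc : c * c ^ 5 ≠ 0 := mul_ne_zero hc0 (pow_ne_zero _ hc0)
    have hRR : Rᵀ * R = (c * c ^ 5)⁻¹ • (1 : Matrix (Fin 3) (Fin 3) F) := by
      rw [← hgr, smul_smul, inv_mul_cancel₀ hcc, one_smul]
    refine mem_X5_of_forall hS (fun v hv => ?_)
    have h1 := real_simil_preserves hF25 R hreal _ (inv_ne_zero hcc) hRR v hv
    have h2 : ((g⁻¹ * h * g : GL (Fin 3) F) : Matrix (Fin 3) (Fin 3) F) *ᵥ v = c • (R *ᵥ v) := by
      rw [hcR, Matrix.smul_mulVec]
    rw [h2, sigmaP_smul hF25 hc0]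
    exact h1
  -- the overgroup
  set X : Subgroup (GL (Fin 3) F) := (X5 F).comap (MulAut.conj g⁻¹).toMonoidHom with hX
  have hmemX : ∀ h : GL (Fin 3) F, h ∈ X ↔ g⁻¹ * h * g ∈ X5 F := by
    intro h
    rw [hX, Subgroup.mem_comap, MulEquiv.coe_toMonoidHom, MulAut.conj_apply, inv_inv]
  have hback : ∀ h : GL (Fin 3) F, g⁻¹ * (g * h * g⁻¹) * g = h := by
    intro h
    group
  have hHX : subfieldSubgroup F₀ P ⊓ (Cfsg.GU 3 F 5 ⊓ specialLinear (Fin 3) F) ≤ X := by
    intro h hh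
    rw [hmemX]
    exact hX5 h hh
  have hXS : X ≤ Cfsg.GU 3 F 5 ⊓ specialLinear (Fin 3) F := by
    intro h hh
    rw [hmemX] at hh
    have h1 := conj_mem_SUg hgGU (X5_le hh)
    have h2 : g * (g⁻¹ * h * g) * g⁻¹ = h := by group
    rwa [h2] at h1
  intro hm
  rcases hm.2 X hHX hXS with h | h
  · -- `X = H`
    obtain ⟨m, hmX5, hmne⟩ := exists_diag hF F₀ h5
    have h1 : g * m * g⁻¹ ∈ X := by
      rw [hmemX, hback]
      exact hmX5
    rw [h] at h1
    obtain ⟨c, R₀, hc0, hcR⟩ := key _ h1.1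
    rw [hback] at hcR
    exact hmne c R₀ hcR
  · -- `X = S`
    obtain ⟨g₀, hg₀S, hg₀X⟩ := exists_not_mem_X5 (F := F) hF25
    have h1 : g * g₀ * g⁻¹ ∈ Cfsg.GU 3 F 5 ⊓ specialLinear (Fin 3) F := conj_mem_SUg hgGU hg₀S
    rw [← h, hmemX, hback] at h1
    exact hg₀X h1

end main

end Cfsg.Agent.Lib.Helper97_SU36_E5c
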