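import Mathlib
import Cfsg.Prelude.Def_GeometricClasses
import Cfsg.Prelude.Def_LieClassical
import Cfsg.Agent.Lib.Helper61_F4
import Cfsg.Agent.Lib.Helper4_SUFrameTwo
import Cfsg.Agent.Lib.Helper27_SUAschMax

/-!
# SU36-E6a, brute force part (helper27's market for S5802): the frame stabilizer `3^5 : S_6` is not maximal in `SU_6(2)`

It lies in the stabilizer of the 378 root vectors of the Mitchell group `3.U_4(3).2`: the vectors of weight 2 and the
vectors of weight 6 with coordinate product 1 (in the coordinates of an orthonormal frame).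
-/

set_option autoImplicit false
set_option linter.unusedVariables false
set_option linter.unusedSectionVars false
set_option linter.style.haveILetI false

namespace Cfsg.Agent.Lib.Helper97_SU36_E6aB

open Matrix Cfsg.Geo Cfsg.Agent.Lib.Helper13_Herm Cfsg.Agent.Lib.Helper61_F4
open Cfsg.Agent.Lib.Helper27_SUAschMax Cfsg.Agent.Lib.Helper4_SUFrameTwo

/-! ## brute force over the model of the field with four elements -/

/-- weight of one coordinate -/
def w1 (a : F4) : ℕ := if a = 0 then 0 else 1

/-- the root vector predicate on coordinates -/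
def sigB (a b c d e g : F4) : Bool :=
  (w1 a + w1 b + w1 c + w1 d + w1 e + w1 g == 2) ||
  ((w1 a + w1 b + w1 c + w1 d + w1 e + w1 g == 6) && (a * b * c * d * e * g == 1))

set_option maxRecDepth 1000000 in
theorem brute : ∀ a b c d e g : F4, sigB a b c d e g = true →
    sigB (a + (a + b + c + d + e + g)) (b + (a + b + c + d + e + g)) (c + (a + b + c + d + e + g))
      (d + (a + b + c + d + e + g)) (e + (a + b + c + d + e + g)) (g + (a + b + c + d + e + g)) = true := by
  decide

/-! ## the root vectors -/

section sig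

variable {K : Type*} [Field K] [DecidableEq K]

/-- the weight of a vector -/
def wt (v : Fin 6 → K) : ℕ := ∑ i, if v i = 0 then 0 else 1

/-- the root vectors: weight 2, or weight 6 with product 1 -/
def InSig (v : Fin 6 → K) : Prop := wt v = 2 ∨ (wt v = 6 ∧ ∏ i, v i = 1)

lemma inSig_iff_sigB (φ : K ≃+* F4) (v : Fin 6 → K) :
    InSig v ↔ sigB (φ (v 0)) (φ (v 1)) (φ (v 2)) (φ (v 3)) (φ (v 4)) (φ (v 5)) = true := by
  have hw : ∀ a : K, w1 (φ a) = if a = 0 then 0 else 1 := by
    intro a
    unfold w1
    by_cases h : a = 0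
    · rw [if_pos h, if_pos]
      rw [h, map_zero]
    · rw [if_neg h, if_neg]
      exact (map_ne_zero_iff φ φ.injective).2 h
  have hp : (φ (v 0) * φ (v 1) * φ (v 2) * φ (v 3) * φ (v 4) * φ (v 5) = 1) ↔ ∏ i, v i = 1 := by
    rw [Fin.prod_univ_six, ← map_mul, ← map_mul, ← map_mul, ← map_mul, ← map_mul]
    exact map_eq_one_iff φ φ.injective
  unfold InSig sigB wt
  rw [Fin.sum_univ_six, hw, hw, hw, hw, hw, hw, Bool.or_eq_true, Bool.and_eq_true, beq_iff_eq, beq_iff_eq,
    beq_iff_eq, hp]

end sig

section main

variable {F : Type*} [Field F] [Fintype F] [DecidableEq F]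

/-- the reflection in `(1,…,1)` preserves the root vectors -/
lemma inSig_add_sum (hF : Fintype.card F = 2 ^ 2) (v : Fin 6 → F) (hv : InSig v) :
    InSig (fun i => v i + ∑ j, v j) := by
  have hF4 : Fintype.card F = 4 := by rw [hF]; norm_num
  set φ : F ≃+* F4 := ringEquivF4 hF4 with hφ
  rw [inSig_iff_sigB φ] at hv ⊢
  have h := brute _ _ _ _ _ _ hv
  simp only [Fin.sum_univ_six, map_add]
  exact h

end main

end Cfsg.Agent.Lib.Helper97_SU36_E6aB
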