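import Mathlib
import Cfsg.Prelude.Def_GeometricClasses
import Cfsg.Prelude.Def_LieClassical
import Cfsg.Agent.Lib.Helper4_SUFrameTwo
import Cfsg.Agent.Lib.Helper27_SUAschMax
import Cfsg.Agent.Lib.Helper98_Decomp
import Cfsg.Agent.Lib.Helper97_SU36_E6aB

/-!
# SU36-E6a (helper27's market for S5802): the frame stabilizer `3^5 : S_6` is not maximal in `SU_6(2)`

It lies in the stabilizer of the 378 root vectors of the Mitchell group `3.U_4(3).2`: the vectors of weight 2 and the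
vectors of weight 6 with coordinate product 1 (in the coordinates of an orthonormal frame).
-/

set_option autoImplicit false
set_option linter.unusedVariables false
set_option linter.unusedSectionVars false
set_option linter.style.haveILetI false

namespace Cfsg.Agent.Lib.Helper97_SU36_E6a

open Matrix Cfsg.Geo Cfsg.Agent.Lib.Helper13_Herm
open Cfsg.Agent.Lib.Helper27_SUAschMax Cfsg.Agent.Lib.Helper4_SUFrameTwo Cfsg.Agent.Lib.Helper97_SU36_E6aB

variable {F : Type*} [Field F] [Fintype F] [DecidableEq F]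

/-! ## monomial matrices -/

section mono

variable {h : Matrix (Fin 6) (Fin 6) F} {σ : Equiv.Perm (Fin 6)} {l : Fin 6 → F}

lemma mulVec_monomial (hm : ∀ i j, h j i = if j = σ i then l i else 0) (v : Fin 6 → F) (i : Fin 6) :
    (h *ᵥ v) (σ i) = l i * v i := by
  rw [Matrix.mulVec, dotProduct, Finset.sum_eq_single i]
  · rw [hm, if_pos rfl]
  · intro k _ hk
    rw [hm, if_neg (fun e => hk (σ.injective e).symm), zero_mul]
  · intro hi
    exact absurd (Finset.mem_univ i) hi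

lemma det_monomial (h2 : (2 : F) = 0) (hm : ∀ i j, h j i = if j = σ i then l i else 0) :
    h.det = ∏ i, l i := by
  rw [Matrix.det_apply, Finset.sum_eq_single σ]
  · have h1 : ∏ i, h (σ i) i = ∏ i, l i := Finset.prod_congr rfl (fun i _ => by rw [hm, if_pos rfl])
    rw [h1]
    rcases Int.units_eq_one_or (Equiv.Perm.sign σ) with e | e <;> rw [e]
    · rw [one_smul]
    · rw [Units.neg_smul, one_smul, neg_eq_iff_add_eq_zero]
      have : ∏ i, l i + ∏ i, l i = 2 * ∏ i, l i := by ring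
      rw [this, h2, zero_mul]
  · intro τ _ hτ
    obtain ⟨i, hi⟩ : ∃ i, τ i ≠ σ i := by
      by_contra hcon
      push Not at hcon
      exact hτ (Equiv.ext hcon)
    have h1 : ∏ i, h (τ i) i = 0 := Finset.prod_eq_zero (Finset.mem_univ i) (by rw [hm, if_neg hi])
    rw [h1, smul_zero]
  · intro hi
    exact absurd (Finset.mem_univ σ) hi

lemma wt_monomial (hm : ∀ i j, h j i = if j = σ i then l i else 0) (hl : ∀ i, l i ≠ 0) (v : Fin 6 → F) :
    wt (h *ᵥ v) = wt v := by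
  unfold wt
  rw [← Equiv.sum_comp σ]
  apply Finset.sum_congr rfl
  intro i _
  rw [mulVec_monomial hm]
  by_cases hv : v i = 0
  · rw [if_pos hv, if_pos (by rw [hv, mul_zero])]
  · rw [if_neg hv, if_neg (mul_ne_zero (hl i) hv)]

lemma prod_monomial (hm : ∀ i j, h j i = if j = σ i then l i else 0) (v : Fin 6 → F) :
    ∏ j, (h *ᵥ v) j = (∏ i, l i) * ∏ i, v i := by
  rw [← Equiv.prod_comp σ, ← Finset.prod_mul_distrib]
  exact Finset.prod_congr rfl (fun i _ => mulVec_monomial hm v i)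

lemma inSig_monomial (h2 : (2 : F) = 0) (hm : ∀ i j, h j i = if j = σ i then l i else 0) (hdet : h.det = 1)
    (v : Fin 6 → F) : InSig v ↔ InSig (h *ᵥ v) := by
  have hp : ∏ i, l i = 1 := by rw [← det_monomial h2 hm, hdet]
  have hl : ∀ i, l i ≠ 0 := by
    intro i hi
    have : ∏ i, l i = 0 := Finset.prod_eq_zero (Finset.mem_univ i) hi
    rw [hp] at this
    exact one_ne_zero this
  unfold InSig
  rw [wt_monomial hm hl, prod_monomial hm, hp, one_mul]

end mono

/-! ## the standard frame -/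

/-- the standard frame -/
def D0 (i : Fin 6) : Submodule F (Fin 6 → F) := Submodule.span F {Pi.single i 1}

lemma monomial_of_mem_stab {h : GL (Fin 6) F} (hh : h ∈ decompositionStabilizer (D0 (F := F))) :
    ∃ (σ : Equiv.Perm (Fin 6)) (l : Fin 6 → F),
      ∀ i j, (h : Matrix (Fin 6) (Fin 6) F) j i = if j = σ i then l i else 0 := by
  obtain ⟨σ, hσ⟩ := hh
  have h1 : ∀ i, ∃ c : F, c • (Pi.single (σ i) 1 : Fin 6 → F) =
      (h : Matrix (Fin 6) (Fin 6) F) *ᵥ Pi.single i 1 := by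
    intro i
    have h2 : (h : Matrix (Fin 6) (Fin 6) F) *ᵥ Pi.single i 1 ∈ D0 (F := F) (σ i) := by
      rw [← hσ i]
      refine ⟨Pi.single i 1, Submodule.subset_span rfl, ?_⟩
      rw [Matrix.toLin'_apply]
    exact Submodule.mem_span_singleton.1 h2
  choose l hl using h1
  refine ⟨σ, l, fun i j => ?_⟩
  have h3 := congrFun (hl i) j
  rw [Matrix.mulVec_single_one, Matrix.col_apply, Pi.smul_apply, Pi.single_apply, smul_eq_mul] at h3
  rw [← h3]
  by_cases hj : j = σ i
  · rw [if_pos hj, if_pos hj, mul_one]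
  · rw [if_neg hj, if_neg hj, mul_zero]

/-- the stabilizer of the root vectors in `SU_6(2)` -/
def X0 : Subgroup (GL (Fin 6) F) where
  carrier := {h | h ∈ SUm 6 F 2 ∧
    ∀ v : Fin 6 → F, InSig v ↔ InSig ((h : Matrix (Fin 6) (Fin 6) F) *ᵥ v)}
  one_mem' := ⟨Subgroup.one_mem _, fun v => by rw [Units.val_one, Matrix.one_mulVec]⟩
  mul_mem' := by
    intro a b ha hb
    refine ⟨Subgroup.mul_mem _ ha.1 hb.1, fun v => ?_⟩
    rw [Units.val_mul, ← Matrix.mulVec_mulVec]
    exact (hb.2 v).trans (ha.2 _)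
  inv_mem' := by
    intro a ha
    refine ⟨Subgroup.inv_mem _ ha.1, fun v => ?_⟩
    have h1 := ha.2 (((a⁻¹ : GL (Fin 6) F) : Matrix (Fin 6) (Fin 6) F) *ᵥ v)
    rw [Matrix.mulVec_mulVec, ← Units.val_mul, mul_inv_cancel, Units.val_one, Matrix.one_mulVec] at h1
    exact h1.symm

lemma stab_le_X0 (hF : Fintype.card F = 2 ^ 2) :
    decompositionStabilizer (D0 (F := F)) ⊓ SUm 6 F 2 ≤ X0 := by
  intro h hh
  obtain ⟨σ, l, hm⟩ := monomial_of_mem_stab hh.1
  refine ⟨hh.2, fun v => ?_⟩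
  exact inSig_monomial (two_eq_zero hF) hm
    ((Cfsg.Agent.Lib.Helper98_Decomp.mem_specialLinear_iff h).1 hh.2.2) v

/-! ## the two transvections -/

section tv

lemma four_eq_zero (hF : Fintype.card F = 2 ^ 2) : (4 : F) = 0 := by
  have := two_eq_zero hF
  have h4 : (4 : F) = 2 * 2 := by norm_num
  rw [h4, this, zero_mul]

/-- the all-ones vector -/
def r0 : Fin 6 → F := fun _ => 1

lemma r0_iso (hF : Fintype.card F = 2 ^ 2) : Cfsg.hermForm 6 F 2 (r0 (F := F)) r0 = 0 := by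
  unfold Cfsg.hermForm r0
  simp only [one_pow, mul_one, Finset.sum_const, Finset.card_univ, Fintype.card_fin, nsmul_eq_mul]
  have := two_eq_zero hF
  have h6 : ((6 : ℕ) : F) = 2 * 3 := by norm_num
  rw [h6, this, zero_mul]

/-- the vector `(1,0,1,1,1,0)` -/
def r1 : Fin 6 → F := ![1, 0, 1, 1, 1, 0]

lemma r1_iso (hF : Fintype.card F = 2 ^ 2) : Cfsg.hermForm 6 F 2 (r1 (F := F)) r1 = 0 := by
  unfold Cfsg.hermForm r1
  simp only [Fin.sum_univ_six]
  simp
  have := four_eq_zero hF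
  linear_combination this

lemma one_sq_neg (hF : Fintype.card F = 2 ^ 2) : (1 : F) ^ 2 = -1 := by
  have := two_eq_zero hF
  linear_combination this

lemma t0_mem (hF : Fintype.card F = 2 ^ 2) : T (q := 2) (r0 (F := F)) 1 (r0_iso hF) ∈ SUm 6 F 2 := by
  obtain ⟨σ, hσq, hσ⟩ := Cfsg.Agent.Lib.Helper94_HermBridge.exists_frob hF
  exact T_mem σ hσq hσ _ _ _ (one_sq_neg hF)

lemma t1_mem (hF : Fintype.card F = 2 ^ 2) : T (q := 2) (r1 (F := F)) 1 (r1_iso hF) ∈ SUm 6 F 2 := by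
  obtain ⟨σ, hσq, hσ⟩ := Cfsg.Agent.Lib.Helper94_HermBridge.exists_frob hF
  exact T_mem σ hσq hσ _ _ _ (one_sq_neg hF)

lemma t0_mulVec (hF : Fintype.card F = 2 ^ 2) (v : Fin 6 → F) :
    ((T (q := 2) (r0 (F := F)) 1 (r0_iso hF) : GL (Fin 6) F) : Matrix (Fin 6) (Fin 6) F) *ᵥ v =
      fun i => v i + ∑ j, v j := by
  rw [T_mulVec]
  funext i
  unfold Cfsg.hermForm r0
  simp

lemma t0_invol (hF : Fintype.card F = 2 ^ 2) (v : Fin 6 → F) :
    ((T (q := 2) (r0 (F := F)) 1 (r0_iso hF) : GL (Fin 6) F) : Matrix (Fin 6) (Fin 6) F) *ᵥ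
      (((T (q := 2) (r0 (F := F)) 1 (r0_iso hF) : GL (Fin 6) F) : Matrix (Fin 6) (Fin 6) F) *ᵥ v) = v := by
  rw [t0_mulVec hF, t0_mulVec hF]
  funext i
  simp only [Finset.sum_add_distrib, Finset.sum_const, Finset.card_univ, Fintype.card_fin, nsmul_eq_mul]
  have := two_eq_zero hF
  have h6 : ((6 : ℕ) : F) = 2 * 3 := by norm_num
  rw [h6, this]
  ring_nf
  have h8 : (∑ j, v j) * 2 = 0 := by rw [this, mul_zero]
  linear_combination h8

lemma t0_mem_X0 (hF : Fintype.card F = 2 ^ 2) : T (q := 2) (r0 (F := F)) 1 (r0_iso hF) ∈ X0 := by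
  have key : ∀ v : Fin 6 → F, InSig v →
      InSig (((T (q := 2) (r0 (F := F)) 1 (r0_iso hF) : GL (Fin 6) F) : Matrix (Fin 6) (Fin 6) F) *ᵥ v) := by
    intro v hv
    rw [t0_mulVec hF]
    exact inSig_add_sum hF v hv
  refine ⟨t0_mem hF, fun v => ⟨key v, fun hv => ?_⟩⟩
  have := key _ hv
  rwa [t0_invol hF] at this

lemma t0_not_mem_stab (hF : Fintype.card F = 2 ^ 2) :
    T (q := 2) (r0 (F := F)) 1 (r0_iso hF) ∉ decompositionStabilizer (D0 (F := F)) := by
  intro hh
  obtain ⟨σ, l, hm⟩ := monomial_of_mem_stab hh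
  -- the column 0 of `t0` is `(0,1,1,1,1,1)`
  have hcol : ∀ j, ((T (q := 2) (r0 (F := F)) 1 (r0_iso hF) : GL (Fin 6) F) : Matrix (Fin 6) (Fin 6) F) j 0 =
      (Pi.single 0 1 : Fin 6 → F) j + 1 := by
    intro j
    have h1 := congrFun (t0_mulVec hF (Pi.single 0 1)) j
    rw [Matrix.mulVec_single_one, Matrix.col_apply] at h1
    rw [h1, Finset.sum_pi_single']
    simp
  have e1 := hm 0 1
  have e2 := hm 0 2
  rw [hcol] at e1 e2
  have h10 : (Pi.single 0 1 : Fin 6 → F) 1 = 0 := by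
    rw [Pi.single_apply, if_neg (by decide)]
  have h20 : (Pi.single 0 1 : Fin 6 → F) 2 = 0 := by
    rw [Pi.single_apply, if_neg (by decide)]
  rw [h10, zero_add] at e1
  rw [h20, zero_add] at e2
  by_cases c1 : (1 : Fin 6) = σ 0
  · have c2 : ¬ (2 : Fin 6) = σ 0 := by
      rw [← c1]
      decide
    rw [if_neg c2] at e2
    exact one_ne_zero e2
  · rw [if_neg c1] at e1
    exact one_ne_zero e1

lemma t1_not_mem_X0 (hF : Fintype.card F = 2 ^ 2) : T (q := 2) (r1 (F := F)) 1 (r1_iso hF) ∉ X0 := by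
  intro hh
  have h2 := two_eq_zero hF
  have h1 := (hh.2 ![1, 1, 0, 0, 0, 0]).1 (by
    left
    unfold wt
    simp [Fin.sum_univ_six])
  rw [T_mulVec] at h1
  have hf : Cfsg.hermForm 6 F 2 ![1, 1, 0, 0, 0, 0] (r1 (F := F)) = 1 := by
    unfold Cfsg.hermForm r1
    simp [Fin.sum_univ_six]
  rw [hf, mul_one, one_smul] at h1
  have hv : (![1, 1, 0, 0, 0, 0] + r1 : Fin 6 → F) = ![0, 1, 1, 1, 1, 0] := by
    unfold r1
    funext i
    fin_cases i <;> simp
    linear_combination h2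
  rw [hv] at h1
  have hw : wt (![0, 1, 1, 1, 1, 0] : Fin 6 → F) = 4 := by
    unfold wt
    simp [Fin.sum_univ_six]
  rcases h1 with h | h
  · rw [hw] at h
    omega
  · rw [hw] at h
    omega

end tv

/-! ## an orthonormal frame as an element of `GU` -/

section frame

lemma herm_sum_right (hF : Fintype.card F = 2 ^ 2) {ι : Type*} (s : Finset ι) (c : ι → F)
    (v : ι → Fin 6 → F) (w : Fin 6 → F) :
    Cfsg.hermForm 6 F 2 w (∑ p ∈ s, c p • v p) = ∑ p ∈ s, c p ^ 2 * Cfsg.hermForm 6 F 2 w (v p) := by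
  classical
  induction s using Finset.induction_on with
  | empty =>
    rw [Finset.sum_empty, Finset.sum_empty]
    exact hermForm_zero_right 6 (q := 2) (by norm_num) w
  | insert a s ha ih =>
    rw [Finset.sum_insert ha, Finset.sum_insert ha, hermForm_add_right 6 hF, hermForm_smul_right, ih]

/-- the matrix with columns `U i` -/
def colMat (U : Fin 6 → Fin 6 → F) : Matrix (Fin 6) (Fin 6) F := Matrix.of fun a i => U i a

lemma colMat_mulVec (U : Fin 6 → Fin 6 → F) (x : Fin 6 → F) :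
    colMat U *ᵥ x = ∑ i, x i • U i := by
  funext a
  rw [Finset.sum_apply]
  simp only [colMat, Matrix.mulVec, dotProduct, Matrix.of_apply, Pi.smul_apply, smul_eq_mul]
  exact Finset.sum_congr rfl fun i _ => mul_comm _ _

lemma colMat_isom (hF : Fintype.card F = 2 ^ 2) (U : Fin 6 → Fin 6 → F)
    (h1 : ∀ i, Cfsg.hermForm 6 F 2 (U i) (U i) = 1)
    (h0 : ∀ i j, i ≠ j → Cfsg.hermForm 6 F 2 (U i) (U j) = 0) (x y : Fin 6 → F) :
    Cfsg.hermForm 6 F 2 (colMat U *ᵥ x) (colMat U *ᵥ y) = Cfsg.hermForm 6 F 2 x y := by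
  rw [colMat_mulVec, colMat_mulVec, herm_sum_left]
  unfold Cfsg.hermForm
  apply Finset.sum_congr rfl
  intro i _
  congr 1
  have := herm_sum_right hF Finset.univ y U (U i)
  unfold Cfsg.hermForm at this
  rw [this, Finset.sum_eq_single i]
  · have h := h1 i
    unfold Cfsg.hermForm at h
    rw [h, mul_one]
  · intro j _ hj
    have h := h0 i j (Ne.symm hj)
    unfold Cfsg.hermForm at h
    rw [h, mul_zero]
  · intro hi
    exact absurd (Finset.mem_univ i) hi

lemma colMat_isUnit (hF : Fintype.card F = 2 ^ 2) (U : Fin 6 → Fin 6 → F)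
    (h1 : ∀ i, Cfsg.hermForm 6 F 2 (U i) (U i) = 1)
    (h0 : ∀ i j, i ≠ j → Cfsg.hermForm 6 F 2 (U i) (U j) = 0) : IsUnit (colMat U) := by
  rw [← Matrix.mulVec_injective_iff_isUnit]
  intro x y hxy
  have hsub : colMat U *ᵥ (x - y) = 0 := by
    rw [Matrix.mulVec_sub, hxy, sub_self]
  have hz : x - y = 0 := by
    funext i
    have h2 := colMat_isom hF U h1 h0 (x - y) (Pi.single i 1)
    rw [hsub, hermForm_zero_left] at h2
    unfold Cfsg.hermForm at h2
    rw [Finset.sum_eq_single i] at h2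
    · rw [Pi.single_eq_same, one_pow, mul_one] at h2
      exact h2.symm
    · intro j _ hj
      rw [Pi.single_eq_of_ne hj, zero_pow (by norm_num), mul_zero]
    · intro hi
      exact absurd (Finset.mem_univ i) hi
  exact sub_eq_zero.1 hz

/-- the frame vectors -/
lemma exists_frame (hF : Fintype.card F = 2 ^ 2) (D : Fin 6 → Submodule F (Fin 6 → F))
    (hD : IsNondegenerateMDecomposition (Cfsg.hermForm 6 F 2) 1 D) :
    ∃ U : Fin 6 → Fin 6 → F, (∀ i, D i = Submodule.span F {U i}) ∧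
      (∀ i, Cfsg.hermForm 6 F 2 (U i) (U i) = 1) ∧
      ∀ i j, i ≠ j → Cfsg.hermForm 6 F 2 (U i) (U j) = 0 := by
  have h1 : ∀ i, ∃ u : Fin 6 → F, D i = Submodule.span F {u} ∧ Cfsg.hermForm 6 F 2 u u = 1 := by
    intro i
    obtain ⟨⟨u, hu⟩, hu0, hspan⟩ := finrank_eq_one_iff'.1 (hD.decomp.finrank_eq i)
    have hu0' : u ≠ 0 := fun h => hu0 (Subtype.ext h)
    have hDi : D i = Submodule.span F {u} := by
      apply le_antisymm
      · intro w hw
        obtain ⟨c, hc⟩ := hspan ⟨w, hw⟩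
        rw [Submodule.mem_span_singleton]
        exact ⟨c, congrArg Subtype.val hc⟩
      · rw [Submodule.span_singleton_le_iff_mem]
        exact hu
    refine ⟨u, hDi, ?_⟩
    obtain ⟨⟨x, hx, hxu⟩, -⟩ := hD.nondegenerate i u hu hu0'
    rw [hDi, Submodule.mem_span_singleton] at hx
    obtain ⟨c, rfl⟩ := hx
    rw [hermForm_smul_left] at hxu
    have hnm : nm u ≠ 0 := fun h => hxu (by unfold nm at h; rw [h, mul_zero])
    exact nm_eq_one hF hnm
  choose U hU1 hU2 using h1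
  refine ⟨U, hU1, hU2, fun i j hij => ?_⟩
  refine hD.orthogonal i j hij (U i) ?_ (U j) ?_
  · rw [hU1 i]
    exact Submodule.subset_span rfl
  · rw [hU1 j]
    exact Submodule.subset_span rfl

end frame

/-! ## conjugation -/

section conj

omit [Fintype F] [DecidableEq F] in
lemma conj_mem_stab (D : Fin 6 → Submodule F (Fin 6 → F)) (P h : GL (Fin 6) F)
    (hh : h ∈ decompositionStabilizer
      (fun i => (D i).map (Matrix.toLin' (P : Matrix (Fin 6) (Fin 6) F)))) :
    P⁻¹ * h * P ∈ decompositionStabilizer D := by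
  obtain ⟨σ, hσ⟩ := hh
  refine ⟨σ, fun i => ?_⟩
  have h1 := hσ i
  simp only at h1
  rw [Units.val_mul, Units.val_mul, Matrix.toLin'_mul, Matrix.toLin'_mul, Submodule.map_comp,
    Submodule.map_comp, h1, ← Submodule.map_comp, ← Matrix.toLin'_mul, ← Units.val_mul, inv_mul_cancel,
    Units.val_one, Matrix.toLin'_one, Submodule.map_id]

omit [Fintype F] [DecidableEq F] in
lemma conj_mem_SUm {g h : GL (Fin 6) F} (hg : g ∈ Cfsg.GU 6 F 2) (hh : h ∈ SUm 6 F 2) :
    g * h * g⁻¹ ∈ SUm 6 F 2 := by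
  refine ⟨Subgroup.mul_mem _ (Subgroup.mul_mem _ hg hh.1) (Subgroup.inv_mem _ hg), ?_⟩
  change g * h * g⁻¹ ∈ specialLinear (Fin 6) F
  rw [Cfsg.Agent.Lib.Helper98_Decomp.mem_specialLinear_iff]
  have h1 := (Cfsg.Agent.Lib.Helper98_Decomp.mem_specialLinear_iff h).1 hh.2
  rw [Units.val_mul, Units.val_mul, Matrix.det_mul, Matrix.det_mul, h1, mul_one, ← Matrix.det_mul,
    ← Units.val_mul, mul_inv_cancel, Units.val_one, Matrix.det_one]

end conj

/-! ## the theorem -/

omit [DecidableEq F] in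
/-- **SU36-E6a** -/
theorem E6a (hF : Fintype.card F = 2 ^ 2) (D : Fin 6 → Submodule F (Fin 6 → F))
    (hD : IsNondegenerateMDecomposition (Cfsg.hermForm 6 F 2) 1 D) :
    ¬ IsMaximalIn (Cfsg.GU 6 F 2 ⊓ specialLinear (Fin 6) F)
      (decompositionStabilizer D ⊓ (Cfsg.GU 6 F 2 ⊓ specialLinear (Fin 6) F)) := by
  classical
  obtain ⟨U, hU, hU1, hU0⟩ := exists_frame hF D hD
  set g : GL (Fin 6) F := (colMat_isUnit hF U hU1 hU0).unit with hg
  have hgv : (g : Matrix (Fin 6) (Fin 6) F) = colMat U := rfl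
  have hgGU : g ∈ Cfsg.GU 6 F 2 := by
    rw [Cfsg.Agent.Lib.Helper13_GU.mem_GU_iff]
    intro u v
    exact colMat_isom hF U hU1 hU0 u v
  have hgiGU : g⁻¹ ∈ Cfsg.GU 6 F 2 := Subgroup.inv_mem _ hgGU
  have hDg : D = fun i => (D0 (F := F) i).map (Matrix.toLin' (g : Matrix (Fin 6) (Fin 6) F)) := by
    funext i
    rw [hU i, D0, Submodule.map_span, Set.image_singleton, Matrix.toLin'_apply, hgv, colMat_mulVec]
    congr 2
    rw [Finset.sum_eq_single i]
    · rw [Pi.single_eq_same, one_smul]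
    · intro j _ hj
      rw [Pi.single_eq_of_ne hj, zero_smul]
    · intro hi
      exact absurd (Finset.mem_univ i) hi
  -- the overgroup
  set X : Subgroup (GL (Fin 6) F) := (X0 (F := F)).comap (MulAut.conj g⁻¹).toMonoidHom with hX
  have hmemX : ∀ h : GL (Fin 6) F, h ∈ X ↔ g⁻¹ * h * g ∈ X0 (F := F) := by
    intro h
    rw [hX, Subgroup.mem_comap, MulEquiv.coe_toMonoidHom, MulAut.conj_apply, inv_inv]
  have hback : ∀ h : GL (Fin 6) F, g⁻¹ * (g * h * g⁻¹) * g = h := by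
    intro h
    group
  have hHX : decompositionStabilizer D ⊓ (Cfsg.GU 6 F 2 ⊓ specialLinear (Fin 6) F) ≤ X := by
    intro h hh
    rw [hmemX]
    apply stab_le_X0 hF
    refine ⟨?_, ?_⟩
    · apply conj_mem_stab
      rw [← hDg]
      exact hh.1
    · have := conj_mem_SUm hgiGU hh.2
      rwa [inv_inv] at this
  have hXS : X ≤ Cfsg.GU 6 F 2 ⊓ specialLinear (Fin 6) F := by
    intro h hh
    rw [hmemX] at hh
    have h1 := conj_mem_SUm hgGU hh.1
    have h2 : g * (g⁻¹ * h * g) * g⁻¹ = h := by group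
    rwa [h2] at h1
  intro hm
  rcases hm.2 X hHX hXS with h | h
  · -- `X = H`
    have h1 : g * T (q := 2) (r0 (F := F)) 1 (r0_iso hF) * g⁻¹ ∈ X := by
      rw [hmemX, hback]
      exact t0_mem_X0 hF
    rw [h] at h1
    have h2 := h1.1
    rw [hDg] at h2
    have h3 := conj_mem_stab _ _ _ h2
    rw [hback] at h3
    exact t0_not_mem_stab hF h3
  · -- `X = S`
    have h1 : g * T (q := 2) (r1 (F := F)) 1 (r1_iso hF) * g⁻¹ ∈
        Cfsg.GU 6 F 2 ⊓ specialLinear (Fin 6) F := conj_mem_SUm hgGU (t1_mem hF)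
    rw [← h, hmemX, hback] at h1
    exact t1_not_mem_X0 hF h1

end Cfsg.Agent.Lib.Helper97_SU36_E6a
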