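import Mathlib
import Cfsg.Agent.Lib.Helper98_AschDefs
import Cfsg.Agent.Lib.Helper98_AschCliff
import Cfsg.Agent.Lib.Helper98_AschMain
import Cfsg.Agent.Lib.Helper98_Decomp
import Cfsg.Agent.Lib.Helper23_FormDefs
import Cfsg.Agent.Lib.Helper97_SUDefs
import Cfsg.Agent.Lib.Helper70_Form_F1
import Cfsg.Agent.Lib.Helper98_Form_F2
import Cfsg.Agent.Lib.Helper71_Form_F3
import Cfsg.Agent.Lib.Helper52_Form_F4
import Cfsg.Agent.Lib.Helper50_Asch_PKN2
import Cfsg.Agent.Lib.Helper71_AschSp_FU
import Cfsg.Agent.Lib.Helper31_AschSU_UP3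
import Cfsg.Agent.Lib.Helper10_AschSU_UP4F
import Cfsg.Agent.Lib.Helper4_AschSU_UP4G
import Cfsg.Agent.Lib.Helper49_AschSU_UP4e
import Cfsg.Agent.Lib.Helper97_AschSU_UP4fG
import Cfsg.Agent.Lib.Helper54_AschSU_UP6
import Cfsg.Agent.Lib.Helper23_AschSU_UP7a

/-!
# Aschbacher's theorem for subgroups of the unitary groups `GU_n(q)`, `n ≥ 3` (S5663; helper97, with helper23)

Assembly of the form packages `F1`-`F4`, `FU` (helper23's market: helper70, helper98, helper71, helper52) and of the unitary
packages `UP3`, `UP4F`, `UP4G`, `UP4e`, `UP4f`, `UP6`, `UP7a` (helper31, helper10, helper4, helper49, helper2, helper54, helper23;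
with `UPH` helper87, `SU2Q` helper89, `GU32` helper59, `F7u` helper31 behind them) on top of helper98's skeleton for `GL_n`.
-/

set_option autoImplicit false
set_option linter.unusedVariables false
set_option linter.unusedSectionVars false
set_option linter.style.haveILetI false

namespace Cfsg.Agent.Lib.Helper97_SUMain

open Cfsg Cfsg.Geo Matrix Cfsg.Agent.Lib.Helper98_AschDefs Cfsg.Agent.Lib.Helper23_FormDefs
open Cfsg.Agent.Lib.Helper97_SUDefs Cfsg.Agent.Lib
open scoped Kronecker

variable {F : Type*} [Field F]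

/-! ## glue -/

section glue

variable [Fintype F]

/-- membership in a subspace stabilizer from invariance under the group -/
lemma le_subspaceStabilizer_of_inv {n : ℕ} {H : Subgroup (GL (Fin n) F)} {W : Submodule F (Fin n → F)}
    (hW : ∀ h ∈ H, W.map (Matrix.toLin' (h : Matrix (Fin n) (Fin n) F)) ≤ W) : H ≤ subspaceStabilizer W := by
  intro g hg v
  change v ∈ (W : Set _) ↔ (g : Matrix (Fin n) (Fin n) F) *ᵥ v ∈ (W : Set _)
  constructor
  · intro hv
    have := hW g hg ⟨v, hv, rfl⟩
    rwa [Matrix.toLin'_apply] at this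
  · intro hv
    have := hW _ (H.inv_mem hg) ⟨_, hv, rfl⟩
    rw [Matrix.toLin'_apply, Matrix.mulVec_mulVec, ← Units.val_mul, inv_mul_cancel, Units.val_one,
      Matrix.one_mulVec] at this
    exact this

lemma map_eq_of_mem_subspaceStabilizer {n : ℕ} {g : GL (Fin n) F} {W : Submodule F (Fin n → F)}
    (hg : g ∈ subspaceStabilizer W) : W.map (Matrix.toLin' (g : Matrix (Fin n) (Fin n) F)) = W := by
  apply le_antisymm
  · rintro _ ⟨v, hv, rfl⟩
    rw [Matrix.toLin'_apply]
    exact (hg v).1 hv
  · intro v hv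
    have hg' : g⁻¹ ∈ subspaceStabilizer W := (subspaceStabilizer W).inv_mem hg
    refine ⟨((g⁻¹ : GL (Fin n) F) : Matrix (Fin n) (Fin n) F) *ᵥ v, (hg' v).1 hv, ?_⟩
    rw [Matrix.toLin'_apply, Matrix.mulVec_mulVec, ← Units.val_mul, mul_inv_cancel, Units.val_one,
      Matrix.one_mulVec]

/-- the reducible case: classes 1 and 2 -/
theorem inSUClass_of_reducible (n q : ℕ) (hF : Fintype.card F = q ^ 2) (H : Subgroup (GL (Fin n) F))
    (hH : H ≤ GU n F q) (hred : ¬ ActsIrreducibly (matrixSet H)) : InSUClass n q H := by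
  unfold ActsIrreducibly at hred
  simp only [not_forall] at hred
  obtain ⟨W, hW, hW2⟩ := hred
  rw [not_or] at hW2
  have hinv : ∀ h ∈ H, W.map (Matrix.toLin' (h : Matrix (Fin n) (Fin n) F)) ≤ W :=
    fun h hh => hW _ (coe_mem_matrixSet hh)
  rcases Helper70_Form_F1.F1 (sigmaQ hF) (hermForm n F q) (isSesq_hermForm n hF)
      (hermForm_nondegenerate n hF) (isRefl_hermForm n hF) H (fixesForm_of_le_GU hH) W hW2.1 hW2.2 hinv with
    ⟨U, hU0, hUts, hle⟩ | ⟨U, U', hU0, hU'0, hinf, hsup, ho, ho', hnd, hnd', hfr, hle, hle'⟩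
  · exact ⟨subspaceStabilizer U ⊓ GU n F q, Or.inl (Or.inl ⟨U, hU0, hUts, rfl⟩), le_inf hle hH⟩
  · have hsum : Module.finrank F U + Module.finrank F U' = n := by
      have h1 := Submodule.finrank_sup_add_finrank_inf_eq U U'
      rw [hsup, hinf, finrank_bot, finrank_top, Module.finrank_fintype_fun_eq_card, Fintype.card_fin] at h1
      omega
    by_cases hlt : 2 * Module.finrank F U < n
    · exact ⟨subspaceStabilizer U ⊓ GU n F q, Or.inl (Or.inr (Or.inl ⟨U, hU0, hnd, hlt, rfl⟩)),
        le_inf hle hH⟩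
    · have hk : Module.finrank F U' = Module.finrank F U := by omega
      set k := Module.finrank F U with hkdef
      have hk0 : 0 < k := by
        rw [hkdef]
        exact Module.finrank_pos_iff.2 (Submodule.nontrivial_iff_ne_bot.2 hU0)
      set D : Fin 2 → Submodule F (Fin n → F) := ![U, U'] with hD
      have hDec : IsNondegenerateMDecomposition (hermForm n F q) k D := by
        refine ⟨⟨le_rfl, hk0, ?_, ?_, ?_⟩, ?_, ?_⟩
        · intro i
          fin_cases i
          · rfl
          · exact hk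
        · rw [iSupIndep_def]
          intro i
          fin_cases i
          · have : (⨆ j, ⨆ (_ : j ≠ (0 : Fin 2)), D j) ≤ U' := by
              apply iSup_le
              intro j
              apply iSup_le
              intro hj
              fin_cases j
              · exact absurd rfl hj
              · exact le_rfl
            exact disjoint_iff.2 (le_bot_iff.1 (hinf ▸ inf_le_inf_left U this))
          · have : (⨆ j, ⨆ (_ : j ≠ (1 : Fin 2)), D j) ≤ U := by
              apply iSup_le
              intro j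
              apply iSup_le
              intro hj
              fin_cases j
              · exact le_rfl
              · exact absurd rfl hj
            refine disjoint_iff.2 (le_bot_iff.1 ?_)
            have h1 : U' ⊓ (⨆ j, ⨆ (_ : j ≠ (1 : Fin 2)), D j) ≤ U' ⊓ U := inf_le_inf_left U' this
            rw [inf_comm U' U, hinf] at h1
            exact h1
        · rw [eq_top_iff, ← hsup]
          apply sup_le
          · exact le_iSup D 0
          · exact le_iSup D 1
        · intro i
          fin_cases i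
          · exact hnd
          · exact hnd'
        · intro i j hij
          fin_cases i <;> fin_cases j
          · exact absurd rfl hij
          · exact ho
          · exact ho'
          · exact absurd rfl hij
      refine ⟨decompositionStabilizer D ⊓ GU n F q,
        Or.inl (Or.inr (Or.inr (Or.inl ⟨2, k, D, hDec, rfl⟩))), le_inf ?_ hH⟩
      intro g hg
      refine ⟨1, fun i => ?_⟩
      fin_cases i
      · exact map_eq_of_mem_subspaceStabilizer (hle hg)
      · exact map_eq_of_mem_subspaceStabilizer (hle' hg)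

end glue

/-! ## the nilpotent case -/

section nilp

variable [Fintype F]

open Cfsg.Agent.Lib.Helper50_Asch_PKN2 Cfsg.Agent.Lib.Helper52_Asch_PK7 in
/-- the unitary variant of `PKN2`: the class-6 data, with no condition on the parity of `e` -/
theorem PKN2U (n : ℕ) (hn : 3 ≤ n) (H R : Subgroup (GL (Fin n) F)) (hnorm : NormalizesGrp H R)
    (hmin : ∀ N' : Subgroup (GL (Fin n) F), N' ≤ R → NormalizesGrp H N' → N' = R ∨ N' ≤ scalars (Fin n) F)
    (hspan : spanAlg R = ⊤) (hcomm : ⁅R, R⁆ ≤ scalars (Fin n) F)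
    (r : ℕ) (hr : r.Prime) (hpg : IsPGroup r R) (p e : ℕ)
    (hmf : IsMinimalFieldFor (Nat.card (R ⊓ scalars (Fin n) F : Subgroup (GL (Fin n) F))) p e F)
    (hcase : (r ≠ 2 ∧ (∀ x ∈ R, x ^ r = 1)) ∨
      (r = 2 ∧ (∀ x ∈ R, x ^ 4 = 1) ∧
        Nat.card (R ⊓ scalars (Fin n) F : Subgroup (GL (Fin n) F)) = 4)) :
    IsSymplecticTypeGroup r R ∧ ActsAbsolutelyIrreducibly (matrixSet R) ∧ r ≠ p ∧
      IsMinimalFieldFor (Nat.card (Subgroup.center R)) p e F ∧
      ((Odd r ∧ Nat.card (Subgroup.center R) = r ∧ ∃ k : ℕ, 1 ≤ k ∧ Nat.card R = r ^ (1 + 2 * k)) ∨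
       (r = 2 ∧ Nat.card (Subgroup.center R) = 4 ∧ ∃ k : ℕ, Nat.card R = 2 ^ (2 + 2 * k))) := by
  classical
  have : NeZero n := ⟨by omega⟩
  have hrF : Fact r.Prime := ⟨hr⟩
  have hFin : Finite (GL (Fin n) F) := inferInstance
  have hPK7 := PK7 R hspan hcomm
  rw [Fintype.card_fin] at hPK7
  have hRZ : ¬ R ≤ scalars (Fin n) F := by
    intro hle
    rw [inf_eq_left.mpr hle] at hPK7
    have hpos : 0 < Nat.card R := Nat.card_pos
    have h1 : n ^ 2 = 1 := by
      have : Nat.card R * n ^ 2 = Nat.card R * 1 := by rw [← hPK7, mul_one]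
      exact Nat.eq_of_mul_eq_mul_left hpos this
    have : 3 ^ 2 ≤ n ^ 2 := Nat.pow_le_pow_left hn 2
    omega
  have hcyc : IsCyclic (scalars (Fin n) F) := scalars_isCyclic
  have hcycRZ : IsCyclic (R ⊓ scalars (Fin n) F : Subgroup (GL (Fin n) F)) := by
    let f : (R ⊓ scalars (Fin n) F : Subgroup (GL (Fin n) F)) →* scalars (Fin n) F :=
      Subgroup.inclusion inf_le_right
    exact isCyclic_of_injective f (Subgroup.inclusion_injective _)
  have hnt : Nontrivial R := by
    by_contra hcon
    rw [not_nontrivial_iff_subsingleton] at hcon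
    apply hRZ
    intro x hx
    have : (⟨x, hx⟩ : R) = 1 := Subsingleton.elim _ _
    have hx1 : x = 1 := congrArg Subtype.val this
    rw [hx1]; exact Subgroup.one_mem _
  have hcen : Nontrivial (Subgroup.center R) := hpg.center_nontrivial
  set z := Nat.card (R ⊓ scalars (Fin n) F : Subgroup (GL (Fin n) F)) with hz
  have hzc : Nat.card (Subgroup.center R) = z := card_center_eq R hspan
  have hz1 : 1 < z := by
    rw [← hzc]; exact Finite.one_lt_card
  have hpgc : IsPGroup r (Subgroup.center R) := hpg.to_subgroup _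
  have hrz : r ∣ z := by
    rcases hpgc.card_eq_or_dvd with h | h
    · rw [hzc] at h; omega
    · rwa [hzc] at h
  obtain ⟨hp, hchar, hcardF, hzdvd, hzmin⟩ := hmf
  obtain ⟨k, hk⟩ := hpg.exists_card_eq
  refine ⟨⟨hr, hpg, ?_, ?_⟩, actsAbsIrr_of_span R hspan, ?_, ?_, ?_⟩
  · -- characteristic commutative subgroups are cyclic
    intro A hAchar hAcomm
    let A' : Subgroup (GL (Fin n) F) := A.map R.subtype
    have hA'R : A' ≤ R := by
      rintro _ ⟨a, _, rfl⟩
      exact a.2
    have hA'n : NormalizesGrp H A' := by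
      rintro h hh _ ⟨a, ha, rfl⟩
      have h1 : ∀ x ∈ R, h * x * h⁻¹ ∈ R := hnorm h hh
      have h2 : ∀ x ∈ R, h⁻¹ * x * h⁻¹⁻¹ ∈ R := hnorm h⁻¹ (H.inv_mem hh)
      have h3 := Subgroup.characteristic_iff_map_le.mp hAchar (conjAut R h h1 h2)
      have h4 : conjAut R h h1 h2 a ∈ A := h3 (Subgroup.mem_map_of_mem _ ha)
      exact ⟨_, h4, rfl⟩
    rcases hmin A' hA'R hA'n with h | h
    · exfalso
      apply hRZ
      apply le_scalars_of_comm R hspan
      intro x hx y hy
      rw [← h] at hx hy
      obtain ⟨a, ha, rfl⟩ := hx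
      obtain ⟨b, hb, rfl⟩ := hy
      have hab : (⟨a, ha⟩ : A) * ⟨b, hb⟩ = ⟨b, hb⟩ * ⟨a, ha⟩ := mul_comm' _ _
      have := congrArg (fun t : A => ((t : R) : GL (Fin n) F)) hab
      simpa using this
    · let f : A →* scalars (Fin n) F :=
        { toFun := fun a => ⟨((a : R) : GL (Fin n) F), h (Subgroup.mem_map_of_mem _ a.2)⟩
          map_one' := rfl
          map_mul' := fun a b => rfl }
      apply isCyclic_of_injective f
      intro a b hab
      have := congrArg Subtype.val hab
      exact Subtype.ext (Subtype.ext this)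
  · -- the exponent
    rcases hcase with ⟨hr2, hexp⟩ | ⟨hr2, hexp, hz4⟩
    · have hg : Nat.gcd 2 r = 1 := by
        rw [Nat.coprime_primes Nat.prime_two hr |>.mpr (Ne.symm hr2)]
      rw [hg, mul_one]
      have h1 : Monoid.exponent R ∣ r := by
        apply Monoid.exponent_dvd_of_forall_pow_eq_one
        intro g
        apply Subtype.ext
        simpa using hexp g g.2
      rcases (Nat.dvd_prime hr).mp h1 with h | h
      · exfalso
        rw [Monoid.exp_eq_one_iff] at h
        exact not_subsingleton R h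
      · exact h
    · subst hr2
      have hg : Nat.gcd 2 2 = 2 := rfl
      rw [hg]
      have h1 : Monoid.exponent R ∣ 4 := by
        apply Monoid.exponent_dvd_of_forall_pow_eq_one
        intro g
        apply Subtype.ext
        simpa using hexp g g.2
      obtain ⟨g, hg⟩ := IsCyclic.exists_ofOrder_eq_natCard
        (α := (R ⊓ scalars (Fin n) F : Subgroup (GL (Fin n) F)))
      rw [← hz, hz4] at hg
      have h2 : orderOf (⟨g.1, g.2.1⟩ : R) = 4 := by
        rw [Subgroup.orderOf_mk, Subgroup.orderOf_coe, hg]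
      have h3 : 4 ∣ Monoid.exponent R := by
        rw [← h2]; exact Monoid.order_dvd_exponent _
      exact Nat.dvd_antisymm h1 h3
  · -- `r ≠ p`
    intro hrp
    subst hrp
    have he0 : e ≠ 0 := by
      intro he
      rw [he, pow_zero] at hcardF
      have : 1 < Fintype.card F := Fintype.one_lt_card
      omega
    have h1 : r ∣ r ^ e - 1 := hrz.trans hzdvd
    have h2 : r ∣ r ^ e := dvd_pow_self r he0
    have h3 : 1 ≤ r ^ e := Nat.one_le_pow _ _ hr.pos
    have h4 : r ∣ 1 := by
      have h5 : r ^ e - (r ^ e - 1) = 1 := by omega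
      rw [← h5]
      exact Nat.dvd_sub h2 h1
    exact hr.one_lt.ne' (Nat.dvd_one.mp h4)
  · rw [hzc]
    exact ⟨hp, hchar, hcardF, hzdvd, hzmin⟩
  · rcases hcase with ⟨hr2, hexp⟩ | ⟨hr2, hexp, hz4⟩
    · left
      have hzr : z = r := by
        have h1 : Monoid.exponent (R ⊓ scalars (Fin n) F : Subgroup (GL (Fin n) F)) ∣ r := by
          apply Monoid.exponent_dvd_of_forall_pow_eq_one
          intro g
          apply Subtype.ext
          simpa using hexp g g.2.1
        rw [IsCyclic.exponent_eq_card] at h1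
        rcases (Nat.dvd_prime hr).mp h1 with h | h
        · omega
        · exact h
      refine ⟨hr.odd_of_ne_two hr2, by rw [hzc, hzr], ?_⟩
      rw [hzr, hk] at hPK7
      have hk0 : k ≠ 0 := by
        intro h0
        rw [h0, pow_zero] at hk
        have : 1 < Nat.card R := Finite.one_lt_card
        omega
      obtain ⟨k', rfl⟩ := Nat.exists_eq_succ_of_ne_zero hk0
      rw [pow_succ, mul_comm] at hPK7
      have hn2 : r ^ k' = n ^ 2 := Nat.eq_of_mul_eq_mul_left hr.pos hPK7
      have hnd : n ∣ r ^ k' := by rw [hn2]; exact dvd_pow_self n two_ne_zero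
      obtain ⟨m, _, hm⟩ := (Nat.dvd_prime_pow hr).mp hnd
      refine ⟨m, ?_, ?_⟩
      · by_contra hcon
        have : m = 0 := by omega
        rw [this, pow_zero] at hm
        omega
      · rw [hk, pow_succ, hn2, hm, ← pow_mul, mul_comm (r ^ _), ← pow_succ']
        congr 1
        ring
    · right
      subst hr2
      rw [hz4, hk] at hPK7
      have hnd : n ∣ 2 ^ k := by
        rw [hPK7]
        exact Dvd.dvd.mul_left (dvd_pow_self n two_ne_zero) 4
      obtain ⟨m, _, hm⟩ := (Nat.dvd_prime_pow Nat.prime_two).mp hnd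
      refine ⟨rfl, by rw [hzc, hz4], m, ?_⟩
      rw [hk, hPK7, hm, ← pow_mul]
      have : (4 : ℕ) = 2 ^ 2 := rfl
      rw [this, ← pow_add]
      congr 1
      ring

end nilp

section main

variable [Fintype F]

open Cfsg.Agent.Lib.Helper98_AschMain in
/-- **the nilpotent case** for the unitary groups: class 5 or class 6 -/
theorem nilpotent_caseSU (n q : ℕ) (hF : Fintype.card F = q ^ 2) (hn : 3 ≤ n)
    (H N : Subgroup (GL (Fin n) F)) (hH : H ≤ GU n F q) (hNH : N ≤ H)
    (hnorm : NormalizesGrp H N) (hNZ : ¬ N ≤ scalars (Fin n) F)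
    (hmin : ∀ N' : Subgroup (GL (Fin n) F), N' ≤ N → NormalizesGrp H N' → N' = N ∨ N' ≤ scalars (Fin n) F)
    (hspan : spanAlg N = ⊤) (hcomm : ⁅N, N⁆ ≤ scalars (Fin n) F) : InSUClass n q H := by
  haveI : Nonempty (Fin n) := ⟨⟨0, by omega⟩⟩
  have hNGU : N ≤ GU n F q := hNH.trans hH
  obtain ⟨r, hr, hpg, hexp⟩ := Helper27_Asch_PKN1.PKN1 H N hnorm hNZ hmin hspan hcomm (by simpa using hn)
  set z := Nat.card (N ⊓ scalars (Fin n) F : Subgroup (GL (Fin n) F)) with hz
  have hz1 : z ≠ 1 := by
    intro h1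
    apply inf_scalars_ne_bot hNZ hspan hcomm
    exact (Subgroup.card_eq_one).1 h1
  obtain ⟨p, e, e₀, hp, hchar, hcardF, he₀, hdvd, hzd, hmin₀, F₀, hF₀card, hF₀mem⟩ :=
    Helper60_Asch_PK13.PK13a z (card_inf_scalars_dvd_card N)
  have hscal : ∀ g ∈ N, ∀ c : F, (g : Matrix (Fin n) (Fin n) F) = c • (1 : Matrix (Fin n) (Fin n) F) →
      c ^ z = 1 := fun g hg c hc => scalar_pow_card hg hc
  have he : 0 < e := by
    rcases Nat.eq_zero_or_pos e with h0 | h0
    · subst h0
      have : 1 < Fintype.card F := Fintype.one_lt_card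
      rw [hcardF] at this
      simp at this
    · exact h0
  have hle : e₀ ≤ e := Nat.le_of_dvd he hdvd
  -- `e` is even
  have heven : 2 ∣ e := by
    have h1 : q ^ 2 = p ^ e := by rw [← hF, hcardF]
    have hdvd' : q ∣ p ^ e := by rw [← h1]; exact dvd_pow_self q two_ne_zero
    obtain ⟨j, _, hj⟩ := (Nat.dvd_prime_pow hp).mp hdvd'
    rw [hj, ← pow_mul] at h1
    have := Nat.pow_right_injective hp.two_le h1
    exact ⟨j, by omega⟩
  rcases Nat.lt_or_ge e₀ e with hlt | hge
  · -- descent to a proper subfield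
    have hF₀top : F₀ ≠ ⊤ := by
      intro htop
      have h1 : Nat.card F₀ = Nat.card F := by
        rw [htop]
        exact Nat.card_congr (Subfield.topEquiv (K := F)).toEquiv
      rw [hF₀card, Nat.card_eq_fintype_card, hcardF] at h1
      have := Nat.pow_right_injective hp.two_le h1
      omega
    have hreal := Helper49_Asch_PK12.PK12 N hspan hcomm F₀
      (fun g hg c hc => hF₀mem c (hscal g hg c hc))
    exact Helper23_AschSU_UP7a.UP7a n q hF hn H N hH hNGU hnorm hspan F₀ hF₀top hreal
  · have hee : e₀ = e := le_antisymm hle hge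
    subst hee
    have hmf : IsMinimalFieldFor z p e₀ F := ⟨hp, hchar, hcardF, hzd, hmin₀⟩
    have hHM : H ≤ subgroupNormalizer N ⊓ GU n F q := le_inf (le_subgroupNormalizer hnorm) hH
    have hsim : N ≤ similarityGroup (hermForm n F q) := hNGU.trans GU_le_similarityGroup
    rcases hexp with ⟨hr2, hexp⟩ | ⟨hr2, hexp⟩
    · -- r odd
      obtain ⟨hst, habs, hrp, hmf', hdata⟩ := PKN2U n hn H N hnorm hmin hspan hcomm r hr hpg p e₀ hmf
        (Or.inl ⟨hr2, hexp⟩)
      rcases hdata with ⟨hodd, hcen, k, hk1, hcard⟩ | ⟨h2, _⟩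
      · exact ⟨subgroupNormalizer N ⊓ GU n F q,
          Or.inl (Or.inr (Or.inr (Or.inr (Or.inr (Or.inr (Or.inr (Or.inr
            ⟨r, N, p, e₀, k, hst, habs, hsim, hrp, hmf', Or.inl ⟨hodd, hcen, hk1, hcard⟩, rfl⟩))))))),
          hHM⟩
      · exact absurd h2 hr2
    · -- r = 2
      subst hr2
      have hz4 : z ∣ 4 := card_inf_scalars_dvd N 4 hexp
      have hz24 : z = 2 ∨ z = 4 := by
        have h1 : z ∈ Nat.divisors 4 := Nat.mem_divisors.2 ⟨hz4, by norm_num⟩
        have h2 : Nat.divisors 4 = {1, 2, 4} := by decide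
        rw [h2] at h1
        simp only [Finset.mem_insert, Finset.mem_singleton] at h1
        rcases h1 with h | h | h
        · exact absurd h hz1
        · exact Or.inl h
        · exact Or.inr h
      have hp2 : p ≠ 2 := by
        apply prime_ne_two_of_even_dvd he hzd _ hp
        rcases hz24 with h | h
        · exact ⟨1, by rw [h]⟩
        · exact ⟨2, by rw [h]⟩
      have hpodd : Odd p := hp.odd_of_ne_two hp2
      have hp1 : 1 ≤ p := hp.pos
      have he2 : 2 ≤ e₀ := by
        obtain ⟨j, hj⟩ := heven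
        omega
      rcases hz24 with h2 | h4
      · exfalso
        have h21 : ¬ 2 ∣ p ^ 1 - 1 := h2 ▸ hmin₀ 1 (by norm_num) (by omega)
        rw [pow_one] at h21
        obtain ⟨m, hm⟩ := hpodd
        omega
      · have he22 : e₀ = 2 := by
          by_contra hne
          have h42 : 4 ∣ p ^ 2 - 1 := by
            obtain ⟨m, hm⟩ := hpodd
            have h5 : p ^ 2 % 4 = 1 := by
              rw [pow_two, Nat.mul_mod]
              have : p % 4 = 1 ∨ p % 4 = 3 := by omega
              rcases this with h | h <;> rw [h]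
            have h6 : 1 ≤ p ^ 2 := Nat.one_le_pow _ _ hp.pos
            omega
          exact (h4 ▸ hmin₀ 2 (by norm_num) (by omega)) h42
        obtain ⟨hst, habs, hrp, hmf', hdata⟩ := PKN2U n hn H N hnorm hmin hspan hcomm 2 hr hpg p e₀ hmf
          (Or.inr ⟨rfl, hexp, h4⟩)
        rcases hdata with ⟨hodd, _⟩ | ⟨_, hcen, k, hcard⟩
        · exact absurd hodd (by decide)
        · exact ⟨subgroupNormalizer N ⊓ GU n F q,
            Or.inl (Or.inr (Or.inr (Or.inr (Or.inr (Or.inr (Or.inr (Or.inr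
              ⟨2, N, p, e₀, k, hst, habs, hsim, hrp, hmf', Or.inr ⟨rfl, he22, hcen, hcard⟩, rfl⟩))))))),
            hHM⟩

open Cfsg.Agent.Lib.Helper98_AschMain in
/-- **Aschbacher's theorem for subgroups of the unitary groups `GU_n(q)`, `n ≥ 3`.** -/
theorem mainSU (n q : ℕ) (hF : Fintype.card F = q ^ 2) (hn : 3 ≤ n) (H : Subgroup (GL (Fin n) F))
    (hH : H ≤ GU n F q) : InSUClass n q H ∨ InUnitaryResidualClass H := by
  classical
  haveI : Nonempty (Fin n) := ⟨⟨0, by omega⟩⟩
  by_cases hirr : ActsIrreducibly (matrixSet H)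
  swap
  · exact Or.inl (inSUClass_of_reducible n q hF H hH hirr)
  have hHZ := not_le_scalars_of_irr n (by omega) H hirr
  obtain ⟨N, hNH, hnorm, hNZ, hmin⟩ := Helper29_Asch_PKG0.PKG0 H hHZ
  have hNGU : N ≤ GU n F q := hNH.trans hH
  have hA : NormalizesAlg H (spanAlg N) := normalizesAlg_spanAlg hnorm
  have hadj := adjointClosed_spanAlg hF hNGU
  have hfU := isUnitaryForm_hermForm n hF
  rcases Helper98_Form_F2.F2 (sigmaQ hF) (hermForm n F q) (isSesq_hermForm n hF) (hermForm_nondegenerate n hF)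
      (isRefl_hermForm n hF) H (fixesForm_of_le_GU hH) hirr (spanAlg N) hA hadj with
    ⟨t, k, D, hD, hle⟩ | ⟨k, D, hD, hts, hle⟩ | ⟨hz, hinv⟩ | ⟨d, s, e, P, hT⟩
  · -- a non-degenerate decomposition
    exact Or.inl ⟨decompositionStabilizer D ⊓ GU n F q,
      Or.inl (Or.inr (Or.inr (Or.inl ⟨t, k, D, hD, rfl⟩))), le_inf hle hH⟩
  · -- a pair of totally singular subspaces
    have h2k : 2 * k = n := Helper98_Decomp.card_eq hD
    exact Or.inl ⟨decompositionStabilizer D ⊓ GU n F q,
      Or.inl (Or.inr (Or.inr (Or.inr (Or.inl ⟨k, D, h2k, hD, hts, rfl⟩)))), le_inf hle hH⟩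
  · -- an extension field
    obtain ⟨r, K, hr, hK, hleK, hKadj⟩ := Helper71_Form_F3.F3 (sigmaQ hF) (hermForm n F q)
      (isSesq_hermForm n hF) (hermForm_nondegenerate n hF) H (spanAlg N) hA hadj hz hinv
    rcases hr.eq_two_or_odd' with h2 | hodd
    · subst h2
      exact (Helper31_AschSU_UP3.UP3 (sigmaQ hF) (hermForm n F q) hfU K hK hKadj).elim
    · exact Or.inl ⟨subalgebraNormalizer K ⊓ GU n F q,
        Or.inr (Or.inl ⟨r, K, hr, hodd, hK, hKadj, rfl⟩), le_inf hleK hH⟩
  · -- a tensor algebra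
    have hcard : n = d * s := by
      have := Fintype.card_congr e
      simpa using this
    by_cases hd : d ≤ 1
    · -- `N` would be scalar
      exfalso
      apply hNZ
      have hd1 : d = 1 := by
        rcases Nat.le_one_iff_eq_zero_or_eq_one.1 hd with h0 | h1
        · subst h0; omega
        · exact h1
      subst hd1
      intro g hg
      obtain ⟨M, hM⟩ := (hT _).1 (coe_mem_spanAlg hg)
      have h1 : Matrix.reindex e.symm e.symm
          ((M 0 0) • (1 : Matrix (Fin 1 × Fin s) (Fin 1 × Fin s) F)) = (M 0 0) • 1 := by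
        ext i j
        simp [Matrix.one_apply, Matrix.smul_apply]
      rw [kron_one_of_d_one, h1, Matrix.mul_smul, Matrix.smul_mul, mul_one, ← Units.val_mul,
        mul_inv_cancel, Units.val_one] at hM
      have hc : M 0 0 ≠ 0 := by
        intro h0
        rw [h0, zero_smul] at hM
        have h2 : (g : Matrix (Fin n) (Fin n) F) * ((g⁻¹ : GL (Fin n) F) : Matrix (Fin n) (Fin n) F) = 1 := by
          rw [← Units.val_mul, mul_inv_cancel, Units.val_one]
        rw [hM, zero_mul] at h2
        exact zero_ne_one h2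
      rw [mem_scalars_iff]
      exact ⟨Units.mk0 _ hc, hM⟩
    by_cases hs : s ≤ 1
    swap
    · -- a proper tensor decomposition
      left
      have hd' : 1 < d := by omega
      have hs' : 1 < s := by omega
      by_cases h22 : d = 2 ∧ s = 2
      · obtain ⟨rfl, rfl⟩ := h22
        exact Helper49_AschSU_UP4e.UP4e n q hF hn H hH (spanAlg N) hA hadj e P hT
      by_cases h33 : q = 2 ∧ d = 3 ∧ s = 3
      · obtain ⟨rfl, rfl, rfl⟩ := h33
        exact Helper97_AschSU_UP4fG.UP4f n hF hn H hH hirr (spanAlg N) hA hadj e P hT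
      obtain ⟨G₁, G₂, hG₁, hG₂, hG⟩ := Helper52_Form_F4.F4 (sigmaQ hF) (hermForm n F q)
        (isSesq_hermForm n hF) (hermForm_nondegenerate n hF) (spanAlg N) hadj d s e P hT
      obtain ⟨f₁, f₂, hf₁, hf₂, hten⟩ := Helper10_AschSU_UP4F.UP4F n q hF d s (by omega) (by omega) e P G₁ G₂ hG₁ hG₂ hG
      exact Helper4_AschSU_UP4G.UP4G n q hF hn H hH (spanAlg N) hA d s e P hT hd' hs' f₁ f₂ hf₁ hf₂ hten h22 h33
    -- `N` spans the matrix algebra
    have hspan : spanAlg N = ⊤ := by
      have hs1 : s = 1 := by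
        rcases Nat.le_one_iff_eq_zero_or_eq_one.1 hs with h0 | h1
        · subst h0; omega
        · exact h1
      subst hs1
      rw [eq_top_iff]
      intro a _
      rw [hT]
      obtain ⟨M, hM⟩ := exists_kron_of_s_one
        (Matrix.reindex e e (((P⁻¹ : GL (Fin n) F) : Matrix (Fin n) (Fin n) F) * a * (P : Matrix (Fin n) (Fin n) F)))
      refine ⟨M, ?_⟩
      rw [← hM, ← Matrix.reindex_symm, Equiv.symm_apply_apply]
      have e1 : (P : Matrix (Fin n) (Fin n) F) * ((P⁻¹ : GL (Fin n) F) : Matrix (Fin n) (Fin n) F) = 1 := by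
        rw [← Units.val_mul, mul_inv_cancel, Units.val_one]
      calc a = ((P : Matrix (Fin n) (Fin n) F) * ((P⁻¹ : GL (Fin n) F) : Matrix (Fin n) (Fin n) F)) * a *
            ((P : Matrix (Fin n) (Fin n) F) * ((P⁻¹ : GL (Fin n) F) : Matrix (Fin n) (Fin n) F)) := by
            rw [e1, one_mul, mul_one]
        _ = _ := by simp only [mul_assoc]
    have hcle : ⁅N, N⁆ ≤ N := by
      rw [Subgroup.commutator_le]
      intro x hx y hy
      rw [commutatorElement_def]
      exact N.mul_mem (N.mul_mem (N.mul_mem hx hy) (N.inv_mem hx)) (N.inv_mem hy)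
    rcases hmin ⁅N, N⁆ hcle (normalizesGrp_commutator hnorm) with hperf | hcomm
    swap
    · exact Or.inl (nilpotent_caseSU n q hF hn H N hH hNH hnorm hNZ hmin hspan hcomm)
    obtain ⟨k, S, hk, hSN, hSnorm, hSZ, hScomm, hsup, hperm, htrans, hSmin⟩ :=
      Helper29_Asch_PKP1.PKP1 H N hNH hnorm hNZ hmin hperf
    by_cases hk2 : 2 ≤ k
    · exact Or.inl (Helper54_AschSU_UP6.UP6 n q hF hn H N hH hNH hnorm hperf hspan k hk2 S hSN hSnorm hSZ hScomm hsup
        hperm htrans hSmin)
    have hk1 : k = 1 := by omega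
    subst hk1
    have hS0 : S 0 = N := by
      rw [← hsup]
      apply le_antisymm
      · exact le_iSup S 0
      · apply iSup_le
        intro i
        rw [Subsingleton.elim i 0]
    have hsimple : ∀ T : Subgroup (GL (Fin n) F), T ≤ N → NormalizesGrp N T →
        T = N ∨ T ≤ scalars (Fin n) F := by
      intro T hT hTn
      have := hSmin 0 T (hS0 ▸ hT) hTn
      rwa [hS0] at this
    by_cases hreal : ∃ F₀ : Subfield F, F₀ ≠ ⊤ ∧ RealisableOver F₀ (matrixSet N)
    · obtain ⟨F₀, hF₀, hr⟩ := hreal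
      exact Or.inl (Helper23_AschSU_UP7a.UP7a n q hF hn H N hH hNGU hnorm hspan F₀ hF₀ hr)
    right
    have hNf : FixesForm (matrixSet N) (hermForm n F q) := fixesForm_of_le_GU hNGU
    refine ⟨N, ⟨hNH, hnorm, hperf, Helper3_Asch_PKP3.simple_quot N hNZ hsimple,
      Helper3_Asch_PKP3.nonabelian_quot N hNZ hperf,
      fun h _ hh => Helper3_Asch_PKP3.centralizer_scalar N hperf hspan h hh,
      Helper3_Asch_PKP3.absIrred_of_span N hspan,
      fun F₀ hF₀ hr => hreal ⟨F₀, hF₀, hr⟩⟩, ?_, ?_⟩
    · rintro ⟨Q, hQ, hNQ⟩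
      apply hreal
      refine Helper71_AschSp_FU.FU N hspan (QuadraticMap.polar Q) hQ.polar_bilinear hQ.nondegenerate ?_
        (sigmaQ hF) (hermForm n F q) hfU hNf
      intro x hx u v
      unfold QuadraticMap.polar
      rw [← Matrix.mulVec_add, hNQ x hx, hNQ x hx, hNQ x hx]
    · rintro ⟨b, hb, hNb⟩
      exact hreal (Helper71_AschSp_FU.FU N hspan b hb.bilinear hb.nondegenerate hNb (sigmaQ hF) (hermForm n F q) hfU hNf)

end main

end Cfsg.Agent.Lib.Helper97_SUMain
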