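import Mathlib
import Cfsg.Agent.Lib.Helper97_SpTensBasic
import Cfsg.Agent.Lib.Helper99_SP3_QCommon

set_option autoImplicit false
set_option linter.unusedSectionVars false
set_option linter.unusedVariables false

/-!
# SP3 market (architect helper97): package QRADFIN
-/

namespace Cfsg.Agent.Lib.Helper99_SP3_QRADFIN

open Matrix Module
open Cfsg.Agent.Lib.Helper98_ExtDefs Cfsg.Agent.Lib.Helper97_TensDefs
  Cfsg.Agent.Lib.Helper97_SpTensDefs Cfsg.Agent.Lib.Helper97_SpTensBasic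

open Cfsg.Agent.Lib.Helper13_Symp Cfsg.Agent.Lib.Helper13_SympTrans Cfsg.Agent.Lib.Helper97_TensBasic
  Cfsg.Agent.Lib.Helper99_SP3_QCommon

variable {F : Type*} [Field F] [Fintype F] {m : ℕ}

local notation "V" => Matrix (Fin m ⊕ Fin m) (Fin 3) F

/-- every linear functional on `A` is `sympForm · u₀` -/
theorem exists_sympForm_repr (ℓ : (Fin m ⊕ Fin m → F) →ₗ[F] F) :
    ∃ u₀ : Fin m ⊕ Fin m → F, ∀ w, ℓ w = Cfsg.sympForm m F w u₀ := by
  refine ⟨-(Matrix.J (Fin m) F *ᵥ (fun i => ℓ (Pi.single i 1))), fun w => ?_⟩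
  unfold Cfsg.sympForm
  rw [Matrix.mulVec_neg, Matrix.mulVec_mulVec, Matrix.J_squared, Matrix.neg_mulVec, neg_neg,
    Matrix.one_mulVec]
  rw [LinearMap.pi_apply_eq_sum_univ ℓ w, dotProduct]
  apply Finset.sum_congr rfl
  intro i _
  rw [smul_eq_mul]
  congr 2
  funext j
  simp [Pi.single_apply, eq_comm]

/-- `w ↦ w ⊗ e1` -/
def tens1 : (Fin m ⊕ Fin m → F) →ₗ[F] V where
  toFun w := vecMulVec w e1
  map_add' w w' := add_vecMulVec w w' e1
  map_smul' c w := by rw [smul_vecMulVec, RingHom.id_apply]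

/-- evaluation at an entry -/
def evalAt (i : Fin m ⊕ Fin m) (k : Fin 3) : V →ₗ[F] F where
  toFun X := X i k
  map_add' X Y := rfl
  map_smul' c X := rfl

theorem tens1_apply (w : Fin m ⊕ Fin m → F) : (tens1 w : V) = vecMulVec w e1 := rfl

theorem evalAt_apply (i : Fin m ⊕ Fin m) (k : Fin 3) (X : V) : evalAt i k X = X i k := rfl

theorem qrad_finish (h2 : (2 : F) ≠ 0) (M : Subgroup (V ≃ₗ[F] V)) (hSp : MSp m M) (hK : KronSp m M)
    (x : Fin m ⊕ Fin m → F) (hx : x ≠ 0) (hrs : RadStd m M x)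
    (g : V ≃ₗ[F] V) (hg : g ∈ M) (hg1 : ∀ y : Fin 3 → F, g (vecMulVec x y) = vecMulVec x y)
    (hg2 : ∀ X : V, ctr m x X = 0 → g X - X ∈ bfib x)
    (hscal : ∀ w : Fin m ⊕ Fin m → F, Cfsg.sympForm m F w x = 0 → ∃ l : F, ∀ b : Fin 3 → F,
      g (vecMulVec w b) = vecMulVec w b + l • vecMulVec x b) : IsKron g := by
  obtain ⟨i₀, hi₀⟩ : ∃ i, x i ≠ 0 := by
    by_contra hcon
    push Not at hcon
    exact hx (funext hcon)
  -- the functional `ℓ`
  obtain ⟨ℓ, hℓ⟩ : ∃ ℓ : (Fin m ⊕ Fin m → F) →ₗ[F] F, ℓ =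
      (x i₀)⁻¹ • ((evalAt i₀ 1) ∘ₗ (g.toLinearMap - LinearMap.id) ∘ₗ tens1) := ⟨_, rfl⟩
  have hℓw : ∀ (w : Fin m ⊕ Fin m → F) (l : F),
      (∀ b : Fin 3 → F, g (vecMulVec w b) = vecMulVec w b + l • vecMulVec x b) → ℓ w = l := by
    intro w l hl
    have he1 : (e1 : Fin 3 → F) 1 = 1 := by simp [e1]
    rw [hℓ, LinearMap.smul_apply, LinearMap.comp_apply, LinearMap.comp_apply, tens1_apply,
      LinearMap.sub_apply, LinearMap.id_apply, LinearEquiv.coe_coe, hl e1, add_sub_cancel_left,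
      evalAt_apply, Matrix.smul_apply, vecMulVec_apply, smul_eq_mul, smul_eq_mul, he1]
    field_simp
  obtain ⟨u₀, hu₀⟩ := exists_sympForm_repr ℓ
  -- `u₀ ⊥ x`
  have hℓx : ℓ x = 0 := by
    apply hℓw x 0
    intro b
    rw [hg1, zero_smul, add_zero]
  have hu₀x : Cfsg.sympForm m F u₀ x = 0 := by
    rw [sympForm_swap, ← hu₀, hℓx, neg_zero]
  obtain ⟨q, hqM, hqK, hq⟩ := exists_q hK x u₀ hu₀x
  -- `q` agrees with `g` on `l_x^⊥`
  have hagree : ∀ X : V, ctr m x X = 0 → g X = q X := by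
    intro X hX
    have hcol : ∀ k, Cfsg.sympForm m F (colv X k) x = 0 := fun k => congrFun hX k
    have key : ∀ (w : Fin m ⊕ Fin m → F) (b : Fin 3 → F), Cfsg.sympForm m F w x = 0 →
        g (vecMulVec w b) = q (vecMulVec w b) := by
      intro w b hw
      obtain ⟨l, hl⟩ := hscal w hw
      have hlw : l = Cfsg.sympForm m F w u₀ := by rw [← hu₀, hℓw w l hl]
      rw [hl, hq, ctr_vecMulVec, ctr_vecMulVec, hw, zero_smul, vecMulVec_zero_right, add_zero,
        vecMulVec_smul, hlw]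
    rw [eq_sum_cols X]
    simp only [map_add]
    rw [key _ _ (hcol 0), key _ _ (hcol 1), key _ _ (hcol 2)]
  -- `g' = q⁻¹ g`
  have hg'M : q⁻¹ * g ∈ M := M.mul_mem (M.inv_mem hqM) hg
  have hfix : ∀ X : V, ctr m x X = 0 → (q⁻¹ * g) X = X := by
    intro X hX
    rw [LinearEquiv.mul_apply, hagree X hX]
    exact q.symm_apply_apply X
  -- the image of `g' - 1` lies in `l_x`
  have himg : ∀ X : V, (q⁻¹ * g) X - X ∈ bfib x := by
    intro X
    have hperp : ∀ Z : V, ctr m x Z = 0 → tf m ((q⁻¹ * g) X - X) Z = 0 := by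
      intro Z hZ
      rw [tf_sub_left]
      have := hSp _ hg'M X Z
      rw [hfix Z hZ] at this
      rw [this, sub_self]
    have hcols : ∀ k, ∃ c : F, colv ((q⁻¹ * g) X - X) k = c • x := by
      intro k
      apply mem_span_of_perp hx
      intro w hw
      have hb : ∀ b : Fin 3 → F, be (ctr m w ((q⁻¹ * g) X - X)) b = 0 := by
        intro b
        rw [← tf_vecMulVec_right]
        apply hperp
        rw [ctr_vecMulVec, hw, zero_smul]
      have := eq_zero_of_be _ hb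
      exact congrFun this k
    obtain ⟨c0, hc0⟩ := hcols 0
    obtain ⟨c1, hc1⟩ := hcols 1
    obtain ⟨c2, hc2⟩ := hcols 2
    refine ⟨c0 • e0 + c1 • e1 + c2 • e2, ?_⟩
    rw [eq_sum_cols ((q⁻¹ * g) X - X), hc0, hc1, hc2]
    simp only [vecMulVec_add, smul_vecMulVec, vecMulVec_smul]
  -- `N = g' - 1 ∈ ZRad`
  obtain ⟨N, hN⟩ : ∃ N : V →ₗ[F] V, N = (q⁻¹ * g).toLinearMap - LinearMap.id := ⟨_, rfl⟩
  have hNX : ∀ X, N X = (q⁻¹ * g) X - X := by
    intro X
    rw [hN]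
    rfl
  have hNZ : N ∈ ZRad m M x := by
    refine ⟨fun X => ?_, fun X hX => ?_, ⟨q⁻¹ * g, hg'M, fun X => ?_⟩⟩
    · rw [hNX]; exact himg X
    · rw [hNX, hfix X hX, sub_self]
    · show (q⁻¹ * g) X = X + N X
      rw [hNX]; abel
  obtain ⟨c, hc⟩ := hrs N hNZ
  have hg'K : IsKron (q⁻¹ * g) := by
    refine ⟨Cfsg.sympTransvection m x c, 1, fun X => ?_⟩
    rw [root_kron, ← LinearMap.smul_apply, ← hc, hNX]
    abel
  have : g = q * (q⁻¹ * g) := by group
  rw [this]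
  exact isKron_mul hqK hg'K

end Cfsg.Agent.Lib.Helper99_SP3_QRADFIN
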