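import Mathlib
import Cfsg.Agent.Lib.Helper97_SpTensBasic
import Cfsg.Agent.Lib.Helper99_SP3_QCommon

set_option autoImplicit false
set_option linter.unusedSectionVars false
set_option linter.unusedVariables false

/-!
# SP3 market (architect helper97): package QRADI
-/

namespace Cfsg.Agent.Lib.Helper99_SP3_QRADI

open Matrix Module
open Cfsg.Agent.Lib.Helper98_ExtDefs Cfsg.Agent.Lib.Helper97_TensDefs
  Cfsg.Agent.Lib.Helper97_SpTensDefs Cfsg.Agent.Lib.Helper97_SpTensBasic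

open Cfsg.Agent.Lib.Helper13_Symp Cfsg.Agent.Lib.Helper13_SympTrans Cfsg.Agent.Lib.Helper97_TensBasic
  Cfsg.Agent.Lib.Helper99_SP3_QCommon

variable {F : Type*} [Field F] [Fintype F] {m : ℕ}

local notation "V" => Matrix (Fin m ⊕ Fin m) (Fin 3) F

theorem qrad_sym (h2 : (2 : F) ≠ 0) (M : Subgroup (V ≃ₗ[F] V)) (hSp : MSp m M) (hK : KronSp m M)
    (x : Fin m ⊕ Fin m → F) (hx : x ≠ 0) (hrs : RadStd m M x)
    (g : V ≃ₗ[F] V) (hg : g ∈ M) (hg1 : ∀ y : Fin 3 → F, g (vecMulVec x y) = vecMulVec x y)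
    (hg2 : ∀ X : V, ctr m x X = 0 → g X - X ∈ bfib x)
    (w : Fin m ⊕ Fin m → F) (hw : Cfsg.sympForm m F w x = 0) (Ψ : Matrix (Fin 3) (Fin 3) F)
    (hΨ : ∀ b : Fin 3 → F, g (vecMulVec w b) = vecMulVec w b + vecMulVec x (Ψ *ᵥ b)) :
    ∃ c : F, Ψ + S0 F * Ψᵀ * S0 F = c • 1 := by
  have hxw : Cfsg.sympForm m F x w = 0 := by rw [sympForm_swap, hw, neg_zero]
  obtain ⟨q, hqM, hqK, hq⟩ := exists_q hK x w hw
  -- the two nilpotent parts
  obtain ⟨D₁, hD₁⟩ : ∃ D : V →ₗ[F] V, D = g.toLinearMap - LinearMap.id := ⟨_, rfl⟩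
  obtain ⟨D₂, hD₂⟩ : ∃ D : V →ₗ[F] V, D = q.toLinearMap - LinearMap.id := ⟨_, rfl⟩
  have hD₁X : ∀ X, D₁ X = g X - X := fun X => by rw [hD₁]; rfl
  have hD₂X : ∀ X, D₂ X = vecMulVec w (ctr m x X) + vecMulVec x (ctr m w X) := by
    intro X
    have : D₂ X = q X - X := by rw [hD₂]; rfl
    rw [this, hq]
    abel
  have hgX : ∀ X, g X = X + D₁ X := fun X => by rw [hD₁X]; abel
  have hqX : ∀ X, q X = X + D₂ X := fun X => by rw [hD₂X, hq]; abel
  -- (F1)
  have F1 : ∀ X, ctr m x (D₁ X) = 0 := by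
    intro X
    apply ctr_eq_zero_of_tf
    intro b
    rw [hD₁X, tf_sub_left]
    have := hSp g hg X (vecMulVec x b)
    rw [hg1] at this
    rw [this, sub_self]
  -- (F2)
  have F2 : ∀ X, ctr m x (D₂ X) = 0 := by
    intro X
    rw [hD₂X, ctr_add, ctr_vecMulVec, ctr_self, hw, zero_smul, add_zero]
  -- (F4)
  have F4₁ : ∀ b : Fin 3 → F, D₁ (vecMulVec x b) = 0 := fun b => by rw [hD₁X, hg1, sub_self]
  have F4₂ : ∀ b : Fin 3 → F, D₂ (vecMulVec x b) = 0 := by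
    intro b
    rw [hD₂X, ctr_self, ctr_vecMulVec, hxw, zero_smul, vecMulVec_zero_right, vecMulVec_zero_right,
      add_zero]
  -- (F3)
  have F3₂ : ∀ X, ctr m x X = 0 → D₂ X = vecMulVec x (ctr m w X) := by
    intro X hX
    rw [hD₂X, hX, vecMulVec_zero_right, zero_add]
  -- the commutator
  obtain ⟨N, hN⟩ : ∃ N : V →ₗ[F] V, N = D₁ ∘ₗ D₂ - D₂ ∘ₗ D₁ := ⟨_, rfl⟩
  have hNX : ∀ X, N X = D₁ (D₂ X) - D₂ (D₁ X) := fun X => by rw [hN]; rfl
  have hN0 : ∀ X, ctr m x X = 0 → N X = 0 := by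
    intro X hX
    rw [hNX, F3₂ X hX, F4₁, zero_sub, neg_eq_zero]
    obtain ⟨y, hy⟩ := hg2 X hX
    rw [hD₁X, hy, F4₂]
  have hNZ : N ∈ ZRad m M x := by
    refine ⟨fun X => ?_, hN0, ⟨g * q * g⁻¹ * q⁻¹,
      M.mul_mem (M.mul_mem (M.mul_mem hg hqM) (M.inv_mem hg)) (M.inv_mem hqM), fun Y => ?_⟩⟩
    · rw [hNX]
      apply Submodule.sub_mem
      · rw [hD₁X]
        exact hg2 _ (F2 X)
      · rw [F3₂ _ (F1 X)]
        exact vecMulVec_mem_bfib _ _
    · show (g * q * g⁻¹ * q⁻¹) Y = Y + N Y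
      obtain ⟨X, hX⟩ : ∃ X, Y = q (g X) := ⟨g.symm (q.symm Y), by simp⟩
      have e1 : (g * q * g⁻¹ * q⁻¹) Y = g (q X) := by
        rw [hX]
        simp only [LinearEquiv.mul_apply]
        have h1 : q⁻¹ (q (g X)) = g X := q.symm_apply_apply _
        have h2 : g⁻¹ (g X) = X := g.symm_apply_apply _
        rw [h1, h2]
      rw [e1, hX]
      have e2 : g (q X) = X + D₂ X + D₁ X + D₁ (D₂ X) := by
        rw [hgX (q X), hqX X, map_add]
        abel
      have e3 : q (g X) = X + D₁ X + D₂ X + D₂ (D₁ X) := by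
        rw [hqX (g X), hgX X, map_add]
        abel
      have e4 : N (q (g X)) = N X := by
        rw [e3, map_add, map_add, map_add, hN0 _ (F1 X), hN0 _ (F2 X), hN0 _ (F2 (D₁ X))]
        simp
      rw [e4, e2, e3, hNX]
      abel
  obtain ⟨c, hc⟩ := hrs N hNZ
  refine ⟨c, ?_⟩
  obtain ⟨x', hx'⟩ := exists_dual hx
  -- evaluate at `x' ⊗ b`
  have key : ∀ b : Fin 3 → F, (Ψ + S0 F * Ψᵀ * S0 F) *ᵥ b = c • b := by
    intro b
    have hY1 : ctr m x (D₁ (vecMulVec x' b)) = 0 := F1 _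
    have e1 : D₁ (D₂ (vecMulVec x' b)) = vecMulVec x (Ψ *ᵥ b) := by
      rw [hD₂X, ctr_vecMulVec, ctr_vecMulVec, hx', one_smul, map_add, vecMulVec_smul, map_smul, F4₁,
        smul_zero, add_zero, hD₁X, hΨ]
      abel
    have e2 : D₂ (D₁ (vecMulVec x' b)) = vecMulVec x (ctr m w (D₁ (vecMulVec x' b))) := F3₂ _ hY1
    have e3 : N (vecMulVec x' b) = vecMulVec x (c • b) := by
      rw [hc, LinearMap.smul_apply, nA_vecMulVec, hx', one_smul, vecMulVec_smul]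
    have e4 : vecMulVec x (Ψ *ᵥ b - ctr m w (D₁ (vecMulVec x' b)) - c • b) = 0 := by
      rw [vecMulVec_sub_right, vecMulVec_sub_right, ← e1, ← e2, ← e3, hNX]
      abel
    have e5 := vecMulVec_eq_zero_left hx e4
    -- the contraction with `w`
    have e6 : ctr m w (D₁ (vecMulVec x' b)) + (S0 F * Ψᵀ * S0 F) *ᵥ b = 0 := by
      apply eq_zero_of_be
      intro b'
      rw [be_add_left, be_adj, ← tf_vecMulVec_right, hD₁X, tf_sub_left]
      have h1 : vecMulVec w b' = g (vecMulVec w b' - vecMulVec x (Ψ *ᵥ b')) := by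
        rw [map_sub, hΨ, hg1]
        abel
      have h2 : tf m (g (vecMulVec x' b)) (vecMulVec w b') =
          tf m (vecMulVec x' b) (vecMulVec w b' - vecMulVec x (Ψ *ᵥ b')) := by
        conv_lhs => rw [h1]
        exact hSp g hg _ _
      rw [h2, tf_sub_right, tf_vecMulVec x' x, hx', one_mul]
      ring
    rw [Matrix.add_mulVec]
    have e7 : (S0 F * Ψᵀ * S0 F) *ᵥ b = - ctr m w (D₁ (vecMulVec x' b)) := by
      rw [eq_neg_iff_add_eq_zero, add_comm]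
      exact e6
    rw [e7]
    have e8 : Ψ *ᵥ b - ctr m w (D₁ (vecMulVec x' b)) = c • b := by
      rw [sub_eq_zero] at e5
      exact e5
    rw [← e8]
    abel
  ext i j
  have := congrFun (key (Pi.single j 1)) i
  rw [Matrix.mulVec_single_one] at this
  simpa [Matrix.smul_apply, Matrix.one_apply, Pi.single_apply, eq_comm] using this

end Cfsg.Agent.Lib.Helper99_SP3_QRADI
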