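import Mathlib
import Cfsg.Agent.Lib.Helper97_SpTensBasic
import Cfsg.Agent.Lib.Helper46_SP3_ALG3
import Cfsg.Agent.Lib.Helper41_SP3_CW
import Cfsg.Agent.Lib.Helper91_SP3_DIM2
import Cfsg.Agent.Lib.Helper32_SP3_FPFASM
import Cfsg.Agent.Lib.Helper46_SP3_INVOL
import Cfsg.Agent.Lib.Helper63_SP3_IRR2
import Cfsg.Agent.Lib.Helper10_SP3_K1SC
import Cfsg.Agent.Lib.Helper48_SP3_LEVI1
import Cfsg.Agent.Lib.Helper46_SP3_LEVI2
import Cfsg.Agent.Lib.Helper67_SP3_NOEX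
import Cfsg.Agent.Lib.Helper93_SP3_PAIR
import Cfsg.Agent.Lib.Helper91_SP3_PGEOM
import Cfsg.Agent.Lib.Helper78_SP3_QGEN
import Cfsg.Agent.Lib.Helper10_SP3_QRAD0
import Cfsg.Agent.Lib.Helper99_SP3_QRADFIN
import Cfsg.Agent.Lib.Helper99_SP3_QRADI
import Cfsg.Agent.Lib.Helper97_SP3_QRADII
import Cfsg.Agent.Lib.Helper32_SP3_SL2W
import Cfsg.Agent.Lib.Helper78_SP3_STABNORM
import Cfsg.Agent.Lib.Helper10_SP3_SWAPT
import Cfsg.Agent.Lib.Helper97_SP3_SYM3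
import Cfsg.Agent.Lib.Helper41_SP3_TP1B
import Cfsg.Agent.Lib.Helper89_SP3_TVALLA
import Cfsg.Agent.Lib.Helper89_SP3_TVALLB
import Cfsg.Agent.Lib.Helper89_SP3_TVPURE
import Cfsg.Agent.Lib.Helper91_SP3_USUB
import Cfsg.Agent.Lib.Helper91_SP3_ZFORM

set_option autoImplicit false
set_option linter.unusedSectionVars false
set_option linter.unusedVariables false

/-!
# `Sp_{2m}(q) ⊗ O_3(q)` is maximal in `Sp_{6m}(q)`: the abstract main theorem (assembly)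
-/

namespace Cfsg.Agent.Lib.Helper97_SpTens3Main

open Matrix Module
open Cfsg.Agent.Lib.Helper98_ExtDefs
open Cfsg.Agent.Lib.Helper97_TensDefs (IsKron)
open Cfsg.Agent.Lib.Helper97_SpTensDefs Cfsg.Agent.Lib.Helper97_SpTensBasic
open Cfsg.Agent.Lib.Helper97_TensBasic (hasMap_congr)

variable {F : Type*} [Field F] [Fintype F] {m : ℕ}

local notation "V" => Matrix (Fin m ⊕ Fin m) (Fin 3) F

/-- Case 1: a non-standard radical gives all transvections. -/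
theorem allSpTv_of_not_radStd (h2 : (2 : F) ≠ 0) (hq : 5 ≤ Fintype.card F)
    (M : Subgroup (V ≃ₗ[F] V)) (hSp : MSp m M) (hK : KronSp m M)
    (x : Fin m ⊕ Fin m → F) (hx : x ≠ 0) (hrs : ¬ RadStd m M x) : AllSpTv m M := by
  unfold RadStd at hrs
  push Not at hrs
  obtain ⟨N, hN, hNc⟩ := hrs
  obtain ⟨T, hTs, rfl⟩ := Cfsg.Agent.Lib.Helper91_SP3_ZFORM.zrad_form h2 M hSp x hx N hN
  obtain ⟨U, hU, hU1, hUc⟩ := Cfsg.Agent.Lib.Helper91_SP3_USUB.zset_submodule h2 M hK x hx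
  have hTU : T ∈ U := (hU T).2 ⟨hTs, hN.2.2⟩
  have hTns : ∀ c : F, T ≠ c • 1 := by
    rintro c rfl
    exact hNc c (by rw [zT_smul, zT_one])
  have hE := Cfsg.Agent.Lib.Helper97_SP3_SYM3.sym3 h2 hq U (fun T hT => ((hU T).1 hT).1) hU1 hUc T hTU hTns
  have hmap := ((hU _).1 hE).2
  have htv : HasMap M (fun X => X + (tf m X (vecMulVec x e0)) • vecMulVec x e0) :=
    hasMap_congr (fun X => by rw [zT_single]) hmap
  exact Cfsg.Agent.Lib.Helper89_SP3_TVALLB.allSpTv_of_tensor h2 hq M hSp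
    (Cfsg.Agent.Lib.Helper89_SP3_TVALLA.all_tensor_tv h2 hq M hSp (Cfsg.Agent.Lib.Helper89_SP3_TVPURE.all_pure_tv h2 M hSp hK x hx htv))

/-- `M ∩ Q(l_x)` is Kronecker under `RadStd`. -/
theorem qrad_kron (h2 : (2 : F) ≠ 0) (M : Subgroup (V ≃ₗ[F] V)) (hSp : MSp m M) (hK : KronSp m M)
    (x : Fin m ⊕ Fin m → F) (hx : x ≠ 0) (hrs : RadStd m M x)
    (g : V ≃ₗ[F] V) (hg : g ∈ M) (hg1 : ∀ y : Fin 3 → F, g (vecMulVec x y) = vecMulVec x y)
    (hg2 : ∀ X : V, ctr m x X = 0 → g X - X ∈ bfib x) : IsKron g := by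
  refine Cfsg.Agent.Lib.Helper99_SP3_QRADFIN.qrad_finish h2 M hSp hK x hx hrs g hg hg1 hg2 ?_
  intro w hw
  obtain ⟨Ψ, hΨ⟩ := Cfsg.Agent.Lib.Helper10_SP3_QRAD0.qrad_psi x hx g hg2 w hw
  obtain ⟨c, hc⟩ := Cfsg.Agent.Lib.Helper99_SP3_QRADI.qrad_sym h2 M hSp hK x hx hrs g hg hg1 hg2 w hw Ψ hΨ
  obtain ⟨c', hc'⟩ := Cfsg.Agent.Lib.Helper97_SP3_QRADII.qrad_norm h2 M hSp hK x hx hrs g hg hg1 hg2 w hw Ψ hΨ
  obtain ⟨l, rfl⟩ := Cfsg.Agent.Lib.Helper46_SP3_ALG3.scalar_of_sym_norm h2 Ψ c c' hc hc'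
  refine ⟨l, fun b => ?_⟩
  rw [hΨ b, smul_mulVec, one_mulVec, vecMulVec_smul]

/-- the Levi part of the stabiliser of a fibre -/
theorem levi_kron (h2 : (2 : F) ≠ 0) (M : Subgroup (V ≃ₗ[F] V)) (hSp : MSp m M) (hK : KronSp m M)
    (x : Fin m ⊕ Fin m → F) (hx : x ≠ 0)
    (hqrad : ∀ g' ∈ M, (∀ y : Fin 3 → F, g' (vecMulVec x y) = vecMulVec x y) →
      (∀ X : V, ctr m x X = 0 → g' X - X ∈ bfib x) → IsKron g')
    (g : V ≃ₗ[F] V) (hg : g ∈ M) (hg1 : ∀ y : Fin 3 → F, g (vecMulVec x y) = vecMulVec x y) :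
    ∃ h ∈ M, IsKron h ∧ (∀ y : Fin 3 → F, h (vecMulVec x y) = vecMulVec x y) ∧
      ∀ X : V, ctr m x X = 0 → g X - h X ∈ bfib x :=
  Cfsg.Agent.Lib.Helper46_SP3_LEVI2.levi_finish h2 M hSp hK x hx g hg hg1
    (Cfsg.Agent.Lib.Helper48_SP3_LEVI1.levi_tensor h2 M hSp hK x hx hqrad g hg hg1)

/-- Under `RadStd`, the stabiliser of a fibre is Kronecker. -/
theorem stab_isKron (h2 : (2 : F) ≠ 0) (M : Subgroup (V ≃ₗ[F] V)) (hSp : MSp m M) (hK : KronSp m M)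
    (x : Fin m ⊕ Fin m → F) (hx : x ≠ 0) (hrs : RadStd m M x)
    (g : V ≃ₗ[F] V) (hg : g ∈ M) (hgx : (bfib x).map g.toLinearMap = bfib x) : IsKron g := by
  obtain ⟨h₁, hh₁, hk₁, hgh₁⟩ := Cfsg.Agent.Lib.Helper78_SP3_STABNORM.stab_norm h2 M hSp hK x hx hrs g hg hgx
  set g' : V ≃ₗ[F] V := h₁⁻¹ * g with hg'def
  have hg' : g' ∈ M := M.mul_mem (M.inv_mem hh₁) hg
  have hg'1 : ∀ y : Fin 3 → F, g' (vecMulVec x y) = vecMulVec x y := by
    intro y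
    rw [hg'def, LinearEquiv.mul_apply, hgh₁ y]
    change (h₁⁻¹ * h₁) (vecMulVec x y) = _
    rw [inv_mul_cancel]
    rfl
  have hqrad := qrad_kron h2 M hSp hK x hx hrs
  obtain ⟨h₂, hh₂, hk₂, hh₂1, hgh₂⟩ := levi_kron h2 M hSp hK x hx hqrad g' hg' hg'1
  set g'' : V ≃ₗ[F] V := h₂⁻¹ * g' with hg''def
  have hg'' : g'' ∈ M := M.mul_mem (M.inv_mem hh₂) hg'
  have hinv₂ : ∀ Z : V, h₂⁻¹ (h₂ Z) = Z := fun Z => by
    change (h₂⁻¹ * h₂) Z = Z
    rw [inv_mul_cancel]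
    rfl
  have hh₂inv1 : ∀ y : Fin 3 → F, h₂⁻¹ (vecMulVec x y) = vecMulVec x y := by
    intro y
    have := hinv₂ (vecMulVec x y)
    rwa [hh₂1 y] at this
  have hg''1 : ∀ y : Fin 3 → F, g'' (vecMulVec x y) = vecMulVec x y := by
    intro y
    rw [hg''def, LinearEquiv.mul_apply, hg'1 y, hh₂inv1 y]
  have hg''2 : ∀ X : V, ctr m x X = 0 → g'' X - X ∈ bfib x := by
    intro X hX
    obtain ⟨y, hy⟩ := hgh₂ X hX
    refine ⟨y, ?_⟩
    rw [hg''def, LinearEquiv.mul_apply]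
    have h3 : g' X = h₂ X + vecMulVec x y := by rw [← hy]; abel
    rw [h3, map_add, hinv₂, hh₂inv1 y]
    abel
  have hk'' : IsKron g'' := hqrad g'' hg'' hg''1 hg''2
  have hgeq : g = h₁ * (h₂ * g'') := by
    rw [hg''def, hg'def]
    group
  rw [hgeq]
  exact isKron_mul hk₁ (isKron_mul hk₂ hk'')

/-- the element `1 ⊗ refl y` of `M` -/
theorem exists_reflM (h2 : (2 : F) ≠ 0) (M : Subgroup (V ≃ₗ[F] V)) (hK : KronSp m M)
    (y : Fin 3 → F) (hy : be y y ≠ 0) :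
    ∃ R ∈ M, (∀ X, R X = X * (refl y)ᵀ) ∧ ∀ X, R (R X) = X := by
  obtain ⟨R, hR, hRX⟩ := hK 1 (refl y) (Submonoid.one_mem _) (Cfsg.Agent.Lib.Helper46_SP3_INVOL.refl_orth h2 y hy)
  have hRX' : ∀ X, R X = X * (refl y)ᵀ := fun X => by
    have := hRX X
    simp only [Matrix.one_mul] at this
    exact this
  refine ⟨R, hR, hRX', fun X => ?_⟩
  rw [hRX', hRX', Matrix.mul_assoc, ← transpose_mul,
    Cfsg.Agent.Lib.Helper46_SP3_INVOL.refl_sq h2 y hy, transpose_one, Matrix.mul_one]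

/-- the element `rA x x' ⊗ 1` of `M` -/
theorem exists_rAM (M : Subgroup (V ≃ₗ[F] V)) (hK : KronSp m M)
    (x x' : Fin m ⊕ Fin m → F) (h : Cfsg.sympForm m F x x' = 1) :
    ∃ R ∈ M, (∀ X, R X = rA m x x' * X) ∧ ∀ X, R (R X) = X := by
  have hQ : (1 : Matrix (Fin 3) (Fin 3) F)ᵀ * S0 F * 1 = S0 F := by
    rw [transpose_one, Matrix.one_mul, Matrix.mul_one]
  obtain ⟨R, hR, hRX⟩ := hK (rA m x x') 1 (Cfsg.Agent.Lib.Helper46_SP3_INVOL.rA_mem x x' h) hQ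
  have hRX' : ∀ X, R X = rA m x x' * X := fun X => by
    have := hRX X
    simp only [transpose_one, Matrix.mul_one] at this
    exact this
  refine ⟨R, hR, hRX', fun X => ?_⟩
  rw [hRX', hRX', ← Matrix.mul_assoc, Cfsg.Agent.Lib.Helper46_SP3_INVOL.rA_sq x x' h, Matrix.one_mul]

/-- Case 2 is impossible. -/
theorem false_of_radStd (h2 : (2 : F) ≠ 0) (hq : 5 ≤ Fintype.card F) (hm : 0 < m)
    (M : Subgroup (V ≃ₗ[F] V)) (hSp : MSp m M) (hK : KronSp m M)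
    (hall : ∀ x : Fin m ⊕ Fin m → F, x ≠ 0 → RadStd m M x)
    (g₀ : V ≃ₗ[F] V) (hg₀ : g₀ ∈ M) (hns : ¬ IsKron g₀) : False := by
  have hstab : ∀ x : Fin m ⊕ Fin m → F, x ≠ 0 → ∀ g ∈ M,
      (bfib x).map g.toLinearMap = bfib x → IsKron g :=
    fun x hx g hg hgx => stab_isKron h2 M hSp hK x hx (hall x hx) g hg hgx
  have hfpf : FPF m M := Cfsg.Agent.Lib.Helper32_SP3_FPFASM.fpf_of_stab h2 M hSp hK hstab (fun t g₀ => Cfsg.Agent.Lib.Helper67_SP3_NOEX.noex h2 t g₀)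
  -- a non-fibre member
  obtain ⟨x₀, hx₀, hnf⟩ : ∃ x₀ : Fin m ⊕ Fin m → F, x₀ ≠ 0 ∧
      ¬ IsBFib ((bfib x₀).map g₀.toLinearMap) := by
    by_contra hcon
    push Not at hcon
    exact hns (Cfsg.Agent.Lib.Helper41_SP3_TP1B.isKron_of_bfibs g₀ hcon)
  -- the contradiction from a maximal pair with scalar `T`
  have hpair : ∀ (g₁ g₂ : V ≃ₗ[F] V), g₁ ∈ M → g₂ ∈ M → ∀ (x₁ x₂ : Fin m ⊕ Fin m → F),
      x₁ ≠ 0 → x₂ ≠ 0 →
      (bfib x₁).map g₁.toLinearMap ≠ (bfib x₂).map g₂.toLinearMap →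
      (bfib x₁).map g₁.toLinearMap ⊓ (bfib x₂).map g₂.toLinearMap ≠ ⊥ →
      (∀ t ∈ BOrb M, ∀ t' ∈ BOrb M, t ≠ t' → finrank F ↥(t ⊓ t') ≤
        finrank F ↥((bfib x₁).map g₁.toLinearMap ⊓ (bfib x₂).map g₂.toLinearMap)) →
      ((∀ X ∈ (bfib x₂).map g₂.toLinearMap, cN m g₁ x₁ X ∈ (bfib x₂).map g₂.toLinearMap →
          X ∈ (bfib x₁).map g₁.toLinearMap) →
        (∀ X ∈ (bfib x₁).map g₁.toLinearMap, cN m g₂ x₂ X ∈ (bfib x₁).map g₁.toLinearMap →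
          X ∈ (bfib x₂).map g₂.toLinearMap) →
        ∃ τ : F, ∀ X ∈ (bfib x₂).map g₂.toLinearMap,
          cN m g₁ x₁ (cN m g₂ x₂ (cN m g₁ x₁ X)) = τ • cN m g₁ x₁ X) → False := by
    intro g₁ g₂ hg₁ hg₂ x₁ x₂ hx₁ hx₂ hne hmeet hmax hτ
    obtain ⟨hb, hb'⟩ := Cfsg.Agent.Lib.Helper91_SP3_PGEOM.pair_geom h2 M hSp hK hfpf g₁ g₂ hg₁ hg₂ x₁ x₂ hx₁ hx₂ hne hmeet hmax
    obtain ⟨τ, hτ'⟩ := hτ hb hb'
    exact Cfsg.Agent.Lib.Helper93_SP3_PAIR.pair_contra h2 hq M hSp hK hall g₁ g₂ hg₁ hg₂ x₁ x₂ hx₁ hx₂ hne hmeet hb hb' τ hτ'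
  have hle2 : ∀ t ∈ BOrb M, ∀ t' ∈ BOrb M, t ≠ t' → finrank F ↥(t ⊓ t') ≤ 2 :=
    fun t ht t' ht' hne => finrank_inf_le_two (finrank_of_mem_BOrb ht) (finrank_of_mem_BOrb ht') hne
  by_cases h2pair : ∃ t ∈ BOrb M, ∃ t' ∈ BOrb M, t ≠ t' ∧ finrank F ↥(t ⊓ t') = 2
  · -- a pair meeting in a plane
    obtain ⟨t, ⟨g₁, hg₁, x₁, hx₁, rfl⟩, t', ⟨g₂, hg₂, x₂, hx₂, rfl⟩, hne, hfr⟩ := h2pair
    refine hpair g₁ g₂ hg₁ hg₂ x₁ x₂ hx₁ hx₂ hne ?_ ?_ ?_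
    · intro h0
      rw [h0, finrank_bot] at hfr
      omega
    · intro s hs s' hs' hss'
      rw [hfr]
      exact hle2 s hs s' hs' hss'
    · intro _ _
      exact Cfsg.Agent.Lib.Helper10_SP3_K1SC.k1_scalar g₁ g₂ x₁ x₂ hx₁ hx₂ hfr
  · -- all pairs meet in dimension at most one
    have hle1 : ∀ t ∈ BOrb M, ∀ t' ∈ BOrb M, t ≠ t' → finrank F ↥(t ⊓ t') ≤ 1 := by
      intro t ht t' ht' hne
      have h1 := hle2 t ht t' ht' hne
      have h3 : finrank F ↥(t ⊓ t') ≠ 2 := fun h => h2pair ⟨t, ht, t', ht', hne, h⟩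
      omega
    -- the swap argument
    have hswap : ∀ (g₁ R : V ≃ₗ[F] V), g₁ ∈ M → R ∈ M → (∀ X, R (R X) = X) →
        ∀ x₁ : Fin m ⊕ Fin m → F, x₁ ≠ 0 →
        (bfib x₁).map g₁.toLinearMap ≠ (bfib x₁).map (R * g₁).toLinearMap →
        (bfib x₁).map g₁.toLinearMap ⊓ (bfib x₁).map (R * g₁).toLinearMap ≠ ⊥ → False := by
      intro g₁ R hg₁ hR hRR x₁ hx₁ hne hmeet
      have hRg : R * g₁ ∈ M := M.mul_mem hR hg₁
      have hfr : finrank F ↥((bfib x₁).map g₁.toLinearMap ⊓ (bfib x₁).map (R * g₁).toLinearMap) = 1 := by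
        have h1 := hle1 _ (map_mem_BOrb hg₁ hx₁) _ (map_mem_BOrb hRg hx₁) hne
        have h0 : 0 < finrank F ↥((bfib x₁).map g₁.toLinearMap ⊓ (bfib x₁).map (R * g₁).toLinearMap) := by
          rw [Module.finrank_pos_iff_exists_ne_zero]
          obtain ⟨Z, hZ, hZ0⟩ := (Submodule.ne_bot_iff _).1 hmeet
          exact ⟨⟨Z, hZ⟩, fun h => hZ0 (congrArg Subtype.val h)⟩
        omega
      refine hpair g₁ (R * g₁) hg₁ hRg x₁ x₁ hx₁ hx₁ hne hmeet ?_ ?_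
      · intro s hs s' hs' hss'
        rw [hfr]
        exact hle1 s hs s' hs' hss'
      · intro hb hb'
        exact Cfsg.Agent.Lib.Helper10_SP3_SWAPT.swap_scalar h2 M hSp g₁ R hg₁ hR hRR x₁ hx₁ hfr hb hb'
    rcases Nat.lt_or_ge m 2 with hm1 | hm2
    · -- `m = 1`: reflections
      have hm1' : m = 1 := by omega
      have hL : finrank F ↥((bfib x₀).map g₀.toLinearMap) = 3 := finrank_map_bfib g₀ hx₀
      obtain ⟨y, hy, X₁, hX₁, hX₁n⟩ : ∃ y : Fin 3 → F, be y y ≠ 0 ∧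
          ∃ X ∈ (bfib x₀).map g₀.toLinearMap, X * (refl y)ᵀ ∉ (bfib x₀).map g₀.toLinearMap := by
        by_contra hcon
        push Not at hcon
        exact hnf (Cfsg.Agent.Lib.Helper63_SP3_IRR2.isBFib_of_refl_invariant h2 hq _ hL hcon)
      obtain ⟨R, hR, hRX, hRR⟩ := exists_reflM h2 M hK y hy
      have hmapR : (bfib x₀).map (R * g₀).toLinearMap
          = ((bfib x₀).map g₀.toLinearMap).map R.toLinearMap := map_mul_bfib R g₀ _
      refine hswap g₀ R hg₀ hR hRR x₀ hx₀ ?_ ?_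
      · intro heq
        apply hX₁n
        have : R X₁ ∈ ((bfib x₀).map g₀.toLinearMap).map R.toLinearMap :=
          Submodule.mem_map_of_mem hX₁
        rw [← hmapR, ← heq, hRX] at this
        exact this
      · obtain ⟨Z, hZ, hZ0, hZfix⟩ := Cfsg.Agent.Lib.Helper91_SP3_DIM2.exists_fixed_of_refl h2 hm1' _ hL y hy
        intro hbot
        apply hZ0
        have hZ2 : Z ∈ (bfib x₀).map (R * g₀).toLinearMap := by
          rw [hmapR]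
          refine ⟨Z, hZ, ?_⟩
          change R Z = Z
          rw [hRX, hZfix]
        have : Z ∈ (bfib x₀).map g₀.toLinearMap ⊓ (bfib x₀).map (R * g₀).toLinearMap := ⟨hZ, hZ2⟩
        rw [hbot] at this
        exact (Submodule.mem_bot F).1 this
    · -- `m ≥ 2`: Chevalley-Warning and the involutions `rA x x' ⊗ 1`
      obtain ⟨t, ⟨g₁, hg₁, x₁, hx₁, rfl⟩, t', ⟨g₂, hg₂, x₂, hx₂, rfl⟩, hne, hmeet⟩ :=
        Cfsg.Agent.Lib.Helper41_SP3_CW.exists_meet h2 hm2 M hSp hK hfpf g₀ hg₀ x₀ hx₀ hnf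
      -- move `g₁` to the identity
      set g' : V ≃ₗ[F] V := g₁⁻¹ * g₂ with hg'def
      have hg' : g' ∈ M := M.mul_mem (M.inv_mem hg₁) hg₂
      set L : Submodule F V := (bfib x₂).map g'.toLinearMap with hLdef
      have hg₂eq : g₂ = g₁ * g' := by rw [hg'def]; group
      have hLmap : (bfib x₂).map g₂.toLinearMap = L.map g₁.toLinearMap := by
        rw [hg₂eq, map_mul_bfib]
      -- `bfib x₁ ⊓ L ≠ ⊥`, `bfib x₁ ≠ L`
      have hneL : bfib x₁ ≠ L := by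
        intro h
        apply hne
        rw [hLmap, h]
      have hmeetL : bfib x₁ ⊓ L ≠ ⊥ := by
        intro h
        apply hmeet
        rw [hLmap, ← Submodule.map_inf _ g₁.injective, h, Submodule.map_bot]
      -- some involution moves `L`
      obtain ⟨x', hx', X₁, hX₁, hX₁n⟩ : ∃ x' : Fin m ⊕ Fin m → F, Cfsg.sympForm m F x₁ x' = 1 ∧
          ∃ X ∈ L, rA m x₁ x' * X ∉ L := by
        by_contra hcon
        push Not at hcon
        have hroot := Cfsg.Agent.Lib.Helper78_SP3_QGEN.root_of_invol_invariant h2 hm2 x₁ hx₁ L hcon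
        have hfix : ∀ X ∈ (bfib x₂).map g'.toLinearMap,
            X + (1 : F) • cN m (1 : V ≃ₗ[F] V) x₁ X ∈ (bfib x₂).map g'.toLinearMap := by
          intro X hX
          have := hroot 1 X hX
          rw [cN_one]
          exact this
        obtain ⟨x'', hx'', hL''⟩ := hfpf 1 M.one_mem g' hg' x₁ x₂ hx₁ hx₂ 1 one_ne_zero hfix
        have hL3 : L = bfib x'' := by
          rw [hLdef, hL'', map_one_eq]
        rw [hL3] at hneL hmeetL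
        exact hmeetL (bfib_inf_bfib hx₁ hneL)
      obtain ⟨R, hR, hRX, hRR⟩ := exists_rAM M hK x₁ x' hx'
      have hmapR : (bfib x₂).map (R * g').toLinearMap = L.map R.toLinearMap := map_mul_bfib R g' _
      refine hswap g' R hg' hR hRR x₂ hx₂ ?_ ?_
      · intro heq
        apply hX₁n
        have : R X₁ ∈ L.map R.toLinearMap := Submodule.mem_map_of_mem hX₁
        rw [← hmapR, ← heq, hRX] at this
        exact this
      · obtain ⟨Z, hZ, hZ0⟩ := (Submodule.ne_bot_iff _).1 hmeetL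
        obtain ⟨⟨y, rfl⟩, hZL⟩ := hZ
        intro hbot
        apply hZ0
        have hRZ : R (vecMulVec x₁ y) = - vecMulVec x₁ y := by
          rw [hRX, mul_vecMulVec, Cfsg.Agent.Lib.Helper46_SP3_INVOL.rA_mulVec_self x₁ x' hx', neg_vecMulVec]
        have hZ2 : vecMulVec x₁ y ∈ (bfib x₂).map (R * g').toLinearMap := by
          rw [hmapR]
          refine ⟨- vecMulVec x₁ y, L.neg_mem hZL, ?_⟩
          change R (- vecMulVec x₁ y) = _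
          rw [map_neg, hRZ, neg_neg]
        have : vecMulVec x₁ y ∈ (bfib x₂).map g'.toLinearMap ⊓ (bfib x₂).map (R * g').toLinearMap :=
          ⟨hZL, hZ2⟩
        rw [hbot] at this
        exact (Submodule.mem_bot F).1 this

/-- **Main abstract theorem**: an overgroup in `Sp(A ⊗ B)` of `Sp(A) ⊗ O(B)` (`dim B = 3`, `q` odd,
`q ≥ 5`) containing a non-Kronecker element contains all symplectic transvections. -/
theorem main_abstract (h2 : (2 : F) ≠ 0) (hq : 5 ≤ Fintype.card F)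
    (M : Subgroup (V ≃ₗ[F] V)) (hSp : MSp m M) (hK : KronSp m M)
    (g₀ : V ≃ₗ[F] V) (hg₀ : g₀ ∈ M) (hns : ¬ IsKron g₀) : AllSpTv m M := by
  rcases Nat.eq_zero_or_pos m with hm | hm
  · subst hm
    exact absurd ⟨0, 0, fun X => Subsingleton.elim _ _⟩ hns
  by_cases hall : ∀ x : Fin m ⊕ Fin m → F, x ≠ 0 → RadStd m M x
  · exact (false_of_radStd h2 hq hm M hSp hK hall g₀ hg₀ hns).elim
  · push Not at hall
    obtain ⟨x, hx, hrs⟩ := hall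
    exact allSpTv_of_not_radStd h2 hq M hSp hK x hx hrs

end Cfsg.Agent.Lib.Helper97_SpTens3Main
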