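import Mathlib
import Cfsg.Prelude.Def_GeometricClasses
import Cfsg.Agent.Lib.Helper97_SpTensBasic
import Cfsg.Agent.Lib.Helper70_Tens_TP10b
import Cfsg.Agent.Lib.Helper94_Bridge
import Cfsg.Agent.Lib.Helper94_TensorVec
import Cfsg.Agent.Lib.Helper29_SpExtBridge
import Cfsg.Agent.Lib.Helper98_SP3_BRDefs
import Cfsg.Agent.Lib.Helper8_SP3BR_KEQUIV
import Cfsg.Agent.Lib.Helper8_SP3BR_NONKRON
import Cfsg.Agent.Lib.Helper70_SP3BR_KRONI
import Cfsg.Agent.Lib.Helper70_SP3BR_AFORM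
import Cfsg.Agent.Lib.Helper41_SP3BR_SFORM

set_option autoImplicit false
set_option linter.unusedSectionVars false
set_option linter.unusedVariables false

/-!
# SP3 bridge block (helper98 for helper97): from the abstract theorem on `Matrix (Fin m ⊕ Fin m) (Fin 3) F`
to `IsMaximalIn (spGL m' F) (tensorProductSubgroup n₁ 3 e P ⊓ spGL m' F)`.
-/

namespace Cfsg.Agent.Lib.Helper98_SP3_BR

open Matrix Cfsg.Geo
open scoped Kronecker
open Cfsg.Agent.Lib.Helper98_ExtDefs Cfsg.Agent.Lib.Helper97_TensDefs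
  Cfsg.Agent.Lib.Helper97_SpTensDefs Cfsg.Agent.Lib.Helper97_SpTensBasic
  Cfsg.Agent.Lib.Helper70_Tens_TP10b Cfsg.Agent.Lib.Helper94_Bridge
  Cfsg.Agent.Lib.Helper98_SP3_BRDefs

variable {F : Type*} [Field F]

/-! ### the form identity -/

/-- `tf` as a trace -/
theorem tf_eq_trace {m : ℕ} (X Y : Matrix (Fin m ⊕ Fin m) (Fin 3) F) :
    tf m X Y = Matrix.trace (S0 F * Xᵀ * Matrix.J (Fin m) F * Y) := by
  have h : ∀ s t : Fin 3, (Xᵀ * Matrix.J (Fin m) F * Y) s t =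
      Cfsg.sympForm m F (colv X s) (colv Y t) := by
    intro s t
    rw [Matrix.mul_assoc, Matrix.mul_apply, Cfsg.sympForm, dotProduct]
    apply Finset.sum_congr rfl
    intro i _
    rw [Matrix.transpose_apply, Matrix.mul_apply]
    rfl
  rw [Matrix.mul_assoc, Matrix.mul_assoc, ← Matrix.mul_assoc Xᵀ, Matrix.trace]
  simp only [Matrix.diag_apply, Matrix.mul_apply, h, Fin.sum_univ_three, S0]
  simp [tf]
  ring

/-- the Gram form of a Kronecker product as a trace -/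
theorem formOfGram_eq_trace {n₁ n₂ : ℕ} (G₁ : Matrix (Fin n₁) (Fin n₁) F)
    (G₂ : Matrix (Fin n₂) (Fin n₂) F) (x y : Fin n₁ × Fin n₂ → F) :
    formOfGram id (G₁ ⊗ₖ G₂) x y =
      Matrix.trace (G₂ᵀ * (Matrix.of fun i k => x (i, k))ᵀ * G₁ * (Matrix.of fun i k => y (i, k))) := by
  have hR : Matrix.trace (G₂ᵀ * (Matrix.of fun i k => x (i, k))ᵀ * G₁ *
      (Matrix.of fun i k => y (i, k))) =
      ∑ l, ∑ j, ∑ i, ∑ k, x (i, k) * (G₁ i j * G₂ k l) * y (j, l) := by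
    simp only [Matrix.trace, Matrix.diag_apply, Matrix.mul_apply, Matrix.transpose_apply,
      Matrix.of_apply, Finset.sum_mul]
    refine Finset.sum_congr rfl fun l _ => Finset.sum_congr rfl fun j _ =>
      Finset.sum_congr rfl fun i _ => Finset.sum_congr rfl fun k _ => ?_
    ring
  have hL : formOfGram id (G₁ ⊗ₖ G₂) x y =
      ∑ i, ∑ k, ∑ j, ∑ l, x (i, k) * (G₁ i j * G₂ k l) * y (j, l) := by
    unfold formOfGram
    simp only [Fintype.sum_prod_type, Matrix.kroneckerMap_apply, id]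
  rw [hL, hR]
  -- reorder the sums
  have h1 : ∀ i, (∑ k, ∑ j, ∑ l, x (i, k) * (G₁ i j * G₂ k l) * y (j, l)) =
      ∑ j, ∑ l, ∑ k, x (i, k) * (G₁ i j * G₂ k l) * y (j, l) := by
    intro i
    rw [Finset.sum_comm]
    refine Finset.sum_congr rfl fun j _ => ?_
    rw [Finset.sum_comm]
  rw [Finset.sum_congr rfl (fun i _ => h1 i), Finset.sum_comm]
  have h2 : ∀ j, (∑ i, ∑ l, ∑ k, x (i, k) * (G₁ i j * G₂ k l) * y (j, l)) =
      ∑ l, ∑ i, ∑ k, x (i, k) * (G₁ i j * G₂ k l) * y (j, l) := by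
    intro j
    rw [Finset.sum_comm]
  rw [Finset.sum_congr rfl (fun j _ => h2 j), Finset.sum_comm]

/-- the Gram matrix of `f₁` in the coordinates `A` -/
theorem gram_f1 {n₁ m : ℕ} (f₁ : (Fin n₁ → F) → (Fin n₁ → F) → F)
    (A : Matrix (Fin m ⊕ Fin m) (Fin n₁) F)
    (hA : ∀ u v : Fin n₁ → F, f₁ u v = Cfsg.sympForm m F (A *ᵥ u) (A *ᵥ v)) :
    gramMatrix f₁ = Aᵀ * Matrix.J (Fin m) F * A := by
  ext i j
  rw [gramMatrix, hA, Cfsg.sympForm, Matrix.mulVec_single_one, Matrix.mulVec_single_one,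
    Matrix.mul_assoc, Matrix.mul_apply, dotProduct]
  apply Finset.sum_congr rfl
  intro r _
  rw [Matrix.transpose_apply, Matrix.mul_apply]
  rfl

/-- the Gram matrix of `f₂` in the coordinates `B` -/
theorem gram_f2 (f₂ : (Fin 3 → F) → (Fin 3 → F) → F) (d : F)
    (B : Matrix (Fin 3) (Fin 3) F)
    (hB : ∀ y y' : Fin 3 → F, be (B *ᵥ y) (B *ᵥ y') = d * f₂ y y') :
    d • gramMatrix f₂ = Bᵀ * S0 F * B := by
  ext k l
  rw [Matrix.smul_apply, smul_eq_mul, gramMatrix, ← hB, be_eq_dotProduct, Matrix.mulVec_single_one,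
    Matrix.mulVec_single_one, Matrix.mul_assoc, Matrix.mul_apply, dotProduct]
  apply Finset.sum_congr rfl
  intro r _
  rw [Matrix.transpose_apply, Matrix.mul_apply]
  rfl

/-- **FORMID**: the form identity -/
theorem formid {n₁ m : ℕ} (f₁ : (Fin n₁ → F) → (Fin n₁ → F) → F)
    (f₂ : (Fin 3 → F) → (Fin 3 → F) → F) (hf₂s : ∀ u v, f₂ u v = f₂ v u)
    (A : Matrix (Fin m ⊕ Fin m) (Fin n₁) F)
    (hA : ∀ u v : Fin n₁ → F, f₁ u v = Cfsg.sympForm m F (A *ᵥ u) (A *ᵥ v))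
    (d : F) (B : Matrix (Fin 3) (Fin 3) F)
    (hB : ∀ y y' : Fin 3 → F, be (B *ᵥ y) (B *ᵥ y') = d * f₂ y y')
    (x y : Fin n₁ × Fin 3 → F) :
    tf m (A * (Matrix.of fun i k => x (i, k)) * Bᵀ) (A * (Matrix.of fun i k => y (i, k)) * Bᵀ) =
      d * formOfGram id (gramMatrix f₁ ⊗ₖ gramMatrix f₂) x y := by
  have hG2 : (gramMatrix f₂)ᵀ = gramMatrix f₂ := by
    ext k l
    rw [Matrix.transpose_apply, gramMatrix, gramMatrix, hf₂s]
  rw [tf_eq_trace, formOfGram_eq_trace, hG2]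
  set X : Matrix (Fin n₁) (Fin 3) F := Matrix.of fun i k => x (i, k) with hX
  set Y : Matrix (Fin n₁) (Fin 3) F := Matrix.of fun i k => y (i, k) with hY
  have e1 : S0 F * (A * X * Bᵀ)ᵀ * Matrix.J (Fin m) F * (A * Y * Bᵀ) =
      (S0 F * B * Xᵀ * (Aᵀ * Matrix.J (Fin m) F * A) * Y) * Bᵀ := by
    rw [Matrix.transpose_mul, Matrix.transpose_mul, Matrix.transpose_transpose]
    simp only [Matrix.mul_assoc]
  rw [e1, Matrix.trace_mul_comm, ← gram_f1 f₁ A hA]
  have e2 : Bᵀ * (S0 F * B * Xᵀ * gramMatrix f₁ * Y) =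
      (Bᵀ * S0 F * B) * Xᵀ * gramMatrix f₁ * Y := by
    simp only [Matrix.mul_assoc]
  rw [e2, ← gram_f2 f₂ d B hB]
  simp only [Matrix.smul_mul, Matrix.trace_smul, smul_eq_mul]

/-! ### the bridge -/

theorem two_ne_zero_of_odd_card [Fintype F] (hodd : Odd (Fintype.card F)) : (2 : F) ≠ 0 := by
  intro h2
  have hchar : ringChar F = 2 := by
    have hdvd : ringChar F ∣ 2 := (ringChar.spec F 2).mp (by exact_mod_cast h2)
    rcases (Nat.dvd_prime Nat.prime_two).mp hdvd with h | h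
    · exact absurd h (CharP.ringChar_ne_one)
    · exact h
  have := FiniteField.even_card_of_char_two hchar
  exact (Nat.not_even_iff_odd.mpr hodd) (Nat.even_iff.mpr this)

/-- **the bridge** (with the normal form of `f₂`, package SFORM, as a hypothesis): from the abstract main
theorem to the prelude statement -/
theorem mem_spGL_iff {m' : ℕ} (g : GL (Fin m' ⊕ Fin m') F) :
    g ∈ Cfsg.spGL m' F ↔ ∀ u v : Fin m' ⊕ Fin m' → F,
      Bsymp m' F ((g : Matrix (Fin m' ⊕ Fin m') (Fin m' ⊕ Fin m') F) *ᵥ u)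
        ((g : Matrix (Fin m' ⊕ Fin m') (Fin m' ⊕ Fin m') F) *ᵥ v) = Bsymp m' F u v := by
  rw [spGL_eq, Subgroup.mem_comap]
  constructor
  · intro h u v
    have := h u v
    simpa using this
  · intro h u v
    have := h u v
    simpa using this

theorem maximal_tens3_of_main_aux [Fintype F] (m' : ℕ) (hm' : 0 < m') (hodd : Odd (Fintype.card F))
    (hq : 5 ≤ Fintype.card F) (n₁ : ℕ)
    (e : (Fin m' ⊕ Fin m') ≃ Fin n₁ × Fin 3) (P : GL (Fin m' ⊕ Fin m') F)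
    (f₁ : (Fin n₁ → F) → (Fin n₁ → F) → F) (f₂ : (Fin 3 → F) → (Fin 3 → F) → F)
    (hf₁ : IsSymplecticForm f₁) (hf₂ : IsSymmetricForm f₂)
    (hT : IsTensorFormStructure id (Cfsg.sympForm m' F) f₁ f₂ e P)
    (hS : ∃ (d : F) (B B' : Matrix (Fin 3) (Fin 3) F), d ≠ 0 ∧ B * B' = 1 ∧ B' * B = 1 ∧
      ∀ y y' : Fin 3 → F, be (B *ᵥ y) (B *ᵥ y') = d * f₂ y y')
    (hmain : ∀ (m : ℕ)
      (M : Subgroup (Matrix (Fin m ⊕ Fin m) (Fin 3) F ≃ₗ[F] Matrix (Fin m ⊕ Fin m) (Fin 3) F)),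
      MSp m M → KronSp m M → (∃ g₀ ∈ M, ¬ IsKron g₀) → AllSpTv m M) :
    IsMaximalIn (Cfsg.spGL m' F) (tensorProductSubgroup n₁ 3 e P ⊓ Cfsg.spGL m' F) := by
  classical
  have h2 : (2 : F) ≠ 0 := two_ne_zero_of_odd_card hodd
  obtain ⟨c, hc0, hc⟩ := hT
  obtain ⟨m, A, A', hAA', hA'A, hA⟩ := Cfsg.Agent.Lib.Helper70_SP3BR_AFORM.aform n₁ f₁ hf₁
  obtain ⟨d, B, B', hd, hBB', hB'B, hB⟩ := hS
  -- the coordinate isomorphism
  set Ψ := psi A A' B B' hAA' hA'A hBB' hB'B with hΨ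
  set Θ : ((Fin m' ⊕ Fin m') → F) ≃ₗ[F] Matrix (Fin m ⊕ Fin m) (Fin 3) F := (thetaI e P).trans Ψ with hΘ
  have hΘapp : ∀ v, Θ v = A * thetaI e P v * Bᵀ := fun v => rfl
  set κ : F := c * d⁻¹ with hκdef
  have hκ : κ ≠ 0 := mul_ne_zero hc0 (inv_ne_zero hd)
  -- the form identity
  have hform : ∀ v w : (Fin m' ⊕ Fin m') → F, Bsymp m' F v w = κ * tf m (Θ v) (Θ w) := by
    intro v w
    rw [Bsymp_apply]
    set x : Fin n₁ × Fin 3 → F := fun a => thetaI e P v a.1 a.2 with hx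
    set y : Fin n₁ × Fin 3 → F := fun a => thetaI e P w a.1 a.2 with hy
    have hxv : (P : Matrix (Fin m' ⊕ Fin m') (Fin m' ⊕ Fin m') F) *ᵥ (x ∘ e) = v := by
      have : (P : Matrix (Fin m' ⊕ Fin m') (Fin m' ⊕ Fin m') F) *ᵥ (x ∘ e) = (thetaI e P).symm (thetaI e P v) := rfl
      rw [this, LinearEquiv.symm_apply_apply]
    have hyw : (P : Matrix (Fin m' ⊕ Fin m') (Fin m' ⊕ Fin m') F) *ᵥ (y ∘ e) = w := by
      have : (P : Matrix (Fin m' ⊕ Fin m') (Fin m' ⊕ Fin m') F) *ᵥ (y ∘ e) = (thetaI e P).symm (thetaI e P w) := rfl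
      rw [this, LinearEquiv.symm_apply_apply]
    have h := hc x y
    rw [hxv, hyw] at h
    have hf := formid f₁ f₂ hf₂.symm A hA d B hB x y
    have hX : (Matrix.of fun i k => x (i, k)) = thetaI e P v := rfl
    have hY : (Matrix.of fun i k => y (i, k)) = thetaI e P w := rfl
    rw [hX, hY] at hf
    rw [h, hΘapp, hΘapp, hf, hκdef]
    field_simp
  -- positivity
  have hn₁ : 0 < n₁ := by
    have hcard := Fintype.card_congr e
    simp only [Fintype.card_sum, Fintype.card_fin, Fintype.card_prod] at hcard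
    rcases Nat.eq_zero_or_pos n₁ with h | h
    · rw [h] at hcard
      omega
    · exact h
  have hm : 0 < m := by
    rcases Nat.eq_zero_or_pos m with h | h
    · exfalso
      subst h
      have h00 := congrFun (congrFun hA'A ⟨0, hn₁⟩) ⟨0, hn₁⟩
      rw [Matrix.mul_apply, Matrix.one_apply_eq] at h00
      have : (∑ j : Fin 0 ⊕ Fin 0, A' ⟨0, hn₁⟩ j * A j ⟨0, hn₁⟩) = 0 :=
        Finset.sum_eq_zero (fun j _ => by rcases j with j | j <;> exact j.elim0)
      rw [this] at h00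
      exact zero_ne_one h00
    · exact h
  -- the isomorphism
  set Φ : GL (Fin m' ⊕ Fin m') F ≃*
      (Matrix (Fin m ⊕ Fin m) (Fin 3) F ≃ₗ[F] Matrix (Fin m ⊕ Fin m) (Fin 3) F) :=
    (glEquiv (Fin m' ⊕ Fin m') F).trans (conjE Θ) with hΦ
  have hΦapp : ∀ (g : GL (Fin m' ⊕ Fin m') F) (X : Matrix (Fin m ⊕ Fin m) (Fin 3) F),
      Φ g X = Θ ((g : Matrix (Fin m' ⊕ Fin m') (Fin m' ⊕ Fin m') F) *ᵥ Θ.symm X) := by
    intro g X
    show conjE Θ (glEquiv (Fin m' ⊕ Fin m') F g) X = _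
    rw [conjE_apply, glEquiv_apply]
  have hΦΘ : ∀ (g : GL (Fin m' ⊕ Fin m') F) (v : Fin m' ⊕ Fin m' → F),
      Φ g (Θ v) = Θ ((g : Matrix (Fin m' ⊕ Fin m') (Fin m' ⊕ Fin m') F) *ᵥ v) := by
    intro g v
    rw [hΦapp, LinearEquiv.symm_apply_apply]
  have hΦΨ : ∀ g : GL (Fin m' ⊕ Fin m') F, Φ g = conjE Ψ (PhiI e P g) := by
    intro g
    apply LinearEquiv.ext
    intro X
    rw [hΦapp, conjE_apply, PhiI_apply]
    rfl
  -- the symplectic groups correspond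
  have hK : Cfsg.spGL m' F = (spV m F).comap Φ.toMonoidHom := by
    ext g
    rw [mem_spGL_iff, Subgroup.mem_comap]
    show _ ↔ Φ g ∈ spV m F
    rw [mem_spV]
    constructor
    · intro h X Y
      have h1 := h (Θ.symm X) (Θ.symm Y)
      rw [hform, hform, LinearEquiv.apply_symm_apply, LinearEquiv.apply_symm_apply,
        ← hΦapp, ← hΦapp] at h1
      exact mul_left_cancel₀ hκ h1
    · intro h u v
      rw [hform, hform, ← hΦΘ, ← hΦΘ, h]
  -- Kronecker elements correspond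
  have hkron : ∀ g : GL (Fin m' ⊕ Fin m') F,
      g ∈ tensorProductSubgroup n₁ 3 e P ↔ IsKron (Φ g) := by
    intro g
    rw [hΦΨ, Cfsg.Agent.Lib.Helper8_SP3BR_KEQUIV.isKron_conjE_psi]
    exact Cfsg.Agent.Lib.Helper70_SP3BR_KRONI.mem_tps_iff hn₁ (by norm_num) e P g
  set H' : Subgroup (Matrix (Fin m ⊕ Fin m) (Fin 3) F ≃ₗ[F] Matrix (Fin m ⊕ Fin m) (Fin 3) F) :=
    (tensorProductSubgroup n₁ 3 e P ⊓ Cfsg.spGL m' F).map Φ.toMonoidHom with hH'
  have hmemH : ∀ x, x ∈ H' ↔ x ∈ spV m F ∧ IsKron x := by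
    intro x
    constructor
    · rintro ⟨g, ⟨hgT, hgS⟩, rfl⟩
      refine ⟨?_, (hkron g).mp hgT⟩
      rw [hK] at hgS
      exact hgS
    · rintro ⟨hx1, hx2⟩
      refine ⟨Φ.symm x, ⟨?_, ?_⟩, Φ.apply_symm_apply x⟩
      · show Φ.symm x ∈ tensorProductSubgroup n₁ 3 e P
        rw [hkron, MulEquiv.apply_symm_apply]
        exact hx2
      · show Φ.symm x ∈ Cfsg.spGL m' F
        rw [hK, Subgroup.mem_comap]
        show Φ (Φ.symm x) ∈ spV m F
        rw [MulEquiv.apply_symm_apply]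
        exact hx1
  have hmax : H' < spV m F ∧ ∀ M' : Subgroup _, H' ≤ M' → M' ≤ spV m F →
      M' = H' ∨ M' = spV m F := by
    constructor
    · refine lt_of_le_of_ne (fun x hx => ((hmemH x).mp hx).1) ?_
      intro heq
      -- the transvection at `x₀ ⊗ e0`
      set Y₀ : Matrix (Fin m ⊕ Fin m) (Fin 3) F :=
        vecMulVec (Pi.single (Sum.inl ⟨0, hm⟩) 1) e0 with hY₀
      set t := Φ (Cfsg.Agent.Lib.Helper67_SpAschMax.tvSp (Θ.symm Y₀) κ⁻¹) with ht
      have htX : ∀ X, t X = X + tf m X Y₀ • Y₀ := by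
        intro X
        rw [ht, hΦapp, Cfsg.Agent.Lib.Helper67_SpAschMax.tvSp_mulVec, map_add, map_smul,
          LinearEquiv.apply_symm_apply, LinearEquiv.apply_symm_apply, ← Bsymp_apply, hform,
          LinearEquiv.apply_symm_apply, LinearEquiv.apply_symm_apply, ← mul_assoc,
          inv_mul_cancel₀ hκ, one_mul]
      have htmem : t ∈ spV m F := by
        have := Cfsg.Agent.Lib.Helper67_SpAschMax.tvSp_mem (Θ.symm Y₀) κ⁻¹
        rw [hK] at this
        exact this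
      rw [← heq] at htmem
      exact Cfsg.Agent.Lib.Helper8_SP3BR_NONKRON.nonkron hm t htX ((hmemH t).mp htmem).2
    · intro M' hHM hMK
      have hSp : MSp m M' := fun g hg => hMK hg
      have hKr : KronSp m M' := by
        intro P₀ Q hP₀ hQ
        obtain ⟨g, hg⟩ := Cfsg.Agent.Lib.Helper8_SP3BR_KEQUIV.exists_kronEquiv P₀ Q hP₀ hQ
        refine ⟨g, hHM ((hmemH g).mpr ⟨?_, P₀, Q, hg⟩), hg⟩
        intro X Y
        rw [hg, hg]
        exact tf_kron hP₀ hQ X Y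
      by_cases hall : ∀ g ∈ M', IsKron g
      · left
        apply le_antisymm _ hHM
        intro x hx
        exact (hmemH x).mpr ⟨hMK hx, hall x hx⟩
      · right
        push Not at hall
        obtain ⟨g₀, hg₀, hns⟩ := hall
        have htv := hmain m M' hSp hKr ⟨g₀, hg₀, hns⟩
        apply le_antisymm hMK
        have hle : Cfsg.spGL m' F ≤ M'.comap Φ.toMonoidHom := by
          apply Cfsg.Agent.Lib.Helper29_SpExtBridge.spGL_le_of_tv
          intro a v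
          obtain ⟨t, htM, htX⟩ := htv (a * κ) (Θ v)
          refine ⟨Φ.symm t, ?_, fun x => ?_⟩
          · show Φ (Φ.symm t) ∈ M'
            rw [MulEquiv.apply_symm_apply]
            exact htM
          · apply Θ.injective
            rw [← hΦΘ, MulEquiv.apply_symm_apply, htX, map_add, map_smul, ← Bsymp_apply, hform]
            beta_reduce
            rw [mul_assoc a κ]
        intro x hx
        have h1 : Φ.symm x ∈ Cfsg.spGL m' F := by
          rw [hK, Subgroup.mem_comap]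
          show Φ (Φ.symm x) ∈ spV m F
          rw [MulEquiv.apply_symm_apply]
          exact hx
        have h2 := hle h1
        rw [Subgroup.mem_comap] at h2
        have h3 : Φ (Φ.symm x) ∈ M' := h2
        rwa [MulEquiv.apply_symm_apply] at h3
  have hfin := isMaximalIn_comap Φ (spV m F) H' hmax
  rw [← hK, hH', Subgroup.comap_map_eq_self_of_injective Φ.injective] at hfin
  exact hfin

/-- **the bridge**: from the abstract main theorem (helper97's `main_abstract`) to the prelude statement: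
`Sp_{n₁}(q) ⊗ O_3(q)` is maximal in `Sp_{3 n₁}(q)`, `q` odd, `q ≥ 5`. -/
theorem maximal_tens3_of_main [Fintype F] (m' : ℕ) (hm' : 0 < m') (hodd : Odd (Fintype.card F))
    (hq : 5 ≤ Fintype.card F) (n₁ : ℕ)
    (e : (Fin m' ⊕ Fin m') ≃ Fin n₁ × Fin 3) (P : GL (Fin m' ⊕ Fin m') F)
    (f₁ : (Fin n₁ → F) → (Fin n₁ → F) → F) (f₂ : (Fin 3 → F) → (Fin 3 → F) → F)
    (hf₁ : IsSymplecticForm f₁) (hf₂ : IsSymmetricForm f₂)
    (hT : IsTensorFormStructure id (Cfsg.sympForm m' F) f₁ f₂ e P)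
    (hmain : ∀ (m : ℕ)
      (M : Subgroup (Matrix (Fin m ⊕ Fin m) (Fin 3) F ≃ₗ[F] Matrix (Fin m ⊕ Fin m) (Fin 3) F)),
      MSp m M → KronSp m M → (∃ g₀ ∈ M, ¬ IsKron g₀) → AllSpTv m M) :
    IsMaximalIn (Cfsg.spGL m' F) (tensorProductSubgroup n₁ 3 e P ⊓ Cfsg.spGL m' F) :=
  maximal_tens3_of_main_aux m' hm' hodd hq n₁ e P f₁ f₂ hf₁ hf₂ hT
    (Cfsg.Agent.Lib.Helper41_SP3BR_SFORM.sform (two_ne_zero_of_odd_card hodd) f₂ hf₂) hmain

end Cfsg.Agent.Lib.Helper98_SP3_BR
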