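import Mathlib
import Cfsg.Prelude.Def_GeometricClasses
import Cfsg.Agent.Lib.Helper97_SpTens3Main
import Cfsg.Agent.Lib.Helper98_SP3_BR

set_option autoImplicit false
set_option linter.unusedSectionVars false

/-!
# `Sp_{n₁}(q) ⊗ O_3(q)` is maximal in `Sp_{3 n₁}(q)`, `q` odd, `q ≥ 5`

The `n₂ = 3` slice of S5666 in the prelude form (clause (7) of S5804, clause (11) of S5867):
`Helper97_SpTens3Main.main_abstract` (the abstract theorem, assembled from the SP3 package market)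
fed into `Helper98_SP3_BR.maximal_tens3_of_main` (helper98's bridge to the prelude statement).
-/

namespace Cfsg.Agent.Lib.Helper97_SpTens3Final

open Cfsg.Geo

theorem maximal_tens3 {F : Type*} [Field F] [Fintype F] (m' : ℕ) (hm' : 0 < m')
    (hodd : Odd (Fintype.card F)) (hq : 5 ≤ Fintype.card F) (n₁ : ℕ)
    (e : (Fin m' ⊕ Fin m') ≃ Fin n₁ × Fin 3) (P : Matrix.GeneralLinearGroup (Fin m' ⊕ Fin m') F)
    (f₁ : (Fin n₁ → F) → (Fin n₁ → F) → F) (f₂ : (Fin 3 → F) → (Fin 3 → F) → F)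
    (hf₁ : IsSymplecticForm f₁) (hf₂ : IsSymmetricForm f₂)
    (hT : IsTensorFormStructure id (Cfsg.sympForm m' F) f₁ f₂ e P) :
    IsMaximalIn (Cfsg.spGL m' F) (tensorProductSubgroup n₁ 3 e P ⊓ Cfsg.spGL m' F) := by
  have h2 : (2 : F) ≠ 0 := Cfsg.Agent.Lib.Helper98_SP3_BR.two_ne_zero_of_odd_card hodd
  exact Cfsg.Agent.Lib.Helper98_SP3_BR.maximal_tens3_of_main m' hm' hodd hq n₁ e P f₁ f₂ hf₁ hf₂ hT
    (fun m M hSp hK ⟨g₀, hg₀, hns⟩ =>
      Cfsg.Agent.Lib.Helper97_SpTens3Main.main_abstract h2 hq M hSp hK g₀ hg₀ hns)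

end Cfsg.Agent.Lib.Helper97_SpTens3Final
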