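import Cfsg.Agent.S1401
import Cfsg.Agent.S1400
import Cfsg.Agent.S1399
import Cfsg.Agent.Lib.Helper22_U1402a
import Cfsg.Agent.Lib.Helper29_U1402L2
import Cfsg.Agent.Lib.Helper22_Hyperplane
import Cfsg.Agent.Lib.Helper49_Alpha2
import Cfsg.Agent.Lib.Helper54_BGElemAb

/-!
# Bender--Glauberman Lemma 9.5, step (L1): Lemma alpha (helper97)

In a counterexample `A ∉ 𝓤` to BG 9.5, let `H ≥ A` be a maximal subgroup with `r_s(F(H)) ≥ 3`.

* `nonuniq`: a noncyclic `s`-subgroup `Y` with `r_s(C_G(Y)) ≥ 3` has `C_A(Y)` of `p`-rank at most one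
  (else `A ∈ 𝓤` by BG 9.3 and 9.2);
* `lines_of_elemAb`: from an `A`-invariant noncyclic elementary abelian `V ≤ O_s(H)` with
  `r(C_{O_s(H)}(V)) ≥ 3` one gets two lines for `H` generating a uniqueness subgroup.
-/

set_option autoImplicit false

namespace Cfsg.Agent.Lib.Helper97_U1402L1

open Subgroup Cfsg Cfsg.Agent.Lib.Helper22_U1402 Cfsg.Agent.Lib.Helper22_Uniq
  Cfsg.Agent.Lib.Helper29_U1402L2

variable {G : Type*} [Group G] [Finite G]

omit [Finite G] in
/-- monotonicity of "rank at least three" -/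
theorem not_pRankLE_mono {s k : ℕ} {X Y : Subgroup G} (hXY : X ≤ Y) (h : ¬ PRankLE s k ↥X) :
    ¬ PRankLE s k ↥Y := by
  obtain ⟨E, hE, hEc, hEe, hE3⟩ := exists_elemAb_of_not_pRankLE h
  exact not_pRankLE_of_elemAb (hE.trans hXY) hEc hEe hE3

omit [Finite G] in
/-- the subgroups of `V` are `s`-groups when `V` has exponent `s` -/
theorem isPGroup_of_exp {s : ℕ} {Y V : Subgroup G} (hYV : Y ≤ V) (hVe : ∀ a ∈ V, a ^ s = 1) :
    IsPGroup s ↥Y := by
  intro a
  refine ⟨1, ?_⟩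
  apply Subtype.ext
  rw [pow_one, Subgroup.coe_pow]
  exact hVe a.1 (hYV a.2)

section Alpha

variable (hG : IsMinSimpleOddOrder G) (p : ℕ) [Fact p.Prime]
  (A : Subgroup G) (hAU : ¬ InUniqueMaximal A) (hAtop : A ≠ ⊤)
  (H : Subgroup G) (hH : IsCoatom H) (s : ℕ) [Fact s.Prime]
  (hF : ¬ PRankLE s 2 ↥(fittingOf H))

include hG hH hF in
/-- a noncyclic `s`-subgroup with `r_s(C_G(Y)) ≥ 3` is a uniqueness subgroup -/
theorem inUniqueMaximal_of_centralizer (Y : Subgroup G) (hYs : IsPGroup s Y) (hYnc : ¬ IsCyclic ↥Y)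
    (hYr : ¬ PRankLE s 2 ↥(centralizer (Y : Set G))) : InUniqueMaximal Y := by
  obtain ⟨E, hE, hEc, hEe, hE3⟩ := exists_elemAb_of_not_pRankLE (not_pRankLE_pCoreOf hF)
  have hEs : IsPGroup s ↥E := isPGroup_of_exp le_rfl hEe
  have hEcomm : IsMulCommutative ↥E := ⟨⟨fun a b => Subtype.ext (hEc a.1 a.2 b.1 b.2)⟩⟩
  have hE3' : ¬ PRankLE s 2 ↥E := not_pRankLE_of_elemAb le_rfl hEc hEe hE3
  have hEU : InUniqueMaximal E := Cfsg.Agent.S1401.result hG H hH s hF E hEs hEcomm hE3'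
  exact Cfsg.Agent.S1400.result hG s E Y hEs hEcomm hE3' hEU hYs hYnc hYr

include hG hAU hAtop hH hF in
/-- the non-uniqueness hypothesis: in a counterexample the centralizer in `A` of a noncyclic
`s`-subgroup with `r_s(C_G(Y)) ≥ 3` has `p`-rank at most one -/
theorem nonuniq (Y : Subgroup G) (hYs : IsPGroup s Y) (hYnc : ¬ IsCyclic ↥Y)
    (hYr : ¬ PRankLE s 2 ↥(centralizer (Y : Set G))) :
    PRankLE p 1 ↥(A ⊓ centralizer (Y : Set G)) := by
  by_contra hrk
  apply hAU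
  have hYU := inUniqueMaximal_of_centralizer hG H hH s hF Y hYs hYnc hYr
  have hKU : InUniqueMaximal (A ⊓ centralizer (Y : Set G)) := by
    apply Cfsg.Agent.S1399.result hG Y _ hYU inf_le_right
    intro h
    exact hrk (h p Fact.out)
  exact Cfsg.Agent.Lib.Helper49_Alpha2.inUniqueMaximal_mono inf_le_left hAtop hKU

include hG hH hF in
/-- a coatom containing a subgroup of `O_s(H)` of rank at least three is `H` -/
theorem eq_of_rank_three_le {X M : Subgroup G} (hXS : X ≤ pCoreOf s H) (hXr : ¬ PRankLE s 2 ↥X)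
    (hM : IsCoatom M) (hXM : X ≤ M) : M = H := by
  obtain ⟨E, hE, hEc, hEe, hE3⟩ := exists_elemAb_of_not_pRankLE hXr
  have hEs : IsPGroup s ↥E := isPGroup_of_exp le_rfl hEe
  have hEcomm : IsMulCommutative ↥E := ⟨⟨fun a b => Subtype.ext (hEc a.1 a.2 b.1 b.2)⟩⟩
  have hE3' : ¬ PRankLE s 2 ↥E := not_pRankLE_of_elemAb le_rfl hEc hEe hE3
  obtain ⟨M₀, -, hM₀⟩ := Cfsg.Agent.S1401.result hG H hH s hF E hEs hEcomm hE3'
  have hEH : E ≤ H := (hE.trans hXS).trans (Cfsg.Agent.Lib.Helper47_SubAPI.pCoreOf_le H)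
  rw [hM₀ M ⟨hM, hE.trans hXM⟩, hM₀ H ⟨hH, hEH⟩]

end Alpha

/-- **Lemma alpha, generic step.** From an `A`-invariant noncyclic elementary abelian `V ≤ O_s(H)` with
`r(C_{O_s(H)}(V)) ≥ 3` one gets two lines for `H` generating a uniqueness subgroup. -/
theorem lines_of_elemAb (hG : IsMinSimpleOddOrder G) (p : ℕ) [Fact p.Prime]
    (A : Subgroup G) (hAc : IsMulCommutative A)
    (B : Subgroup G) (hBA : B ≤ A) (hBe : IsElementaryAbelian p B) (hB3 : Nat.card B = p ^ 3)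
    (hAU : ¬ InUniqueMaximal A)
    (H : Subgroup G) (hH : IsCoatom H) (hAH : A ≤ H) (s : ℕ) [Fact s.Prime] (hsp : s ≠ p)
    (hF : ¬ PRankLE s 2 ↥(fittingOf H))
    (V : Subgroup G) (hVS : V ≤ pCoreOf s H) (hAV : A ≤ normalizer (V : Set G))
    (hVc : ∀ a ∈ V, ∀ b ∈ V, a * b = b * a) (hVe : ∀ a ∈ V, a ^ s = 1) (hVnc : ¬ IsCyclic ↥V)
    (hVr : ¬ PRankLE s 2 ↥(pCoreOf s H ⊓ centralizer (V : Set G))) :
    ∃ E₁ E₂ : Subgroup G, IsLine A B H s E₁ ∧ IsLine A B H s E₂ ∧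
      ∀ M : Subgroup G, IsCoatom M → E₁ ≤ M → E₂ ≤ M → M = H := by
  classical
  have hpp : p.Prime := Fact.out
  have hsP : s.Prime := Fact.out
  have hAtop : A ≠ ⊤ := ne_top_of_le_ne_top hH.1 hAH
  have hAcomm : ∀ a ∈ A, ∀ b ∈ A, a * b = b * a := fun a ha b hb =>
    congrArg Subtype.val (isMulCommutative_iff.mp hAc ⟨a, ha⟩ ⟨b, hb⟩)
  have hBc : ∀ a ∈ B, ∀ b ∈ B, a * b = b * a := fun a ha b hb => hAcomm a (hBA ha) b (hBA hb)
  have hBp : ∀ a ∈ B, a ^ p = 1 := hBe.2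
  have hVs : IsPGroup s ↥V := isPGroup_of_exp le_rfl hVe
  -- `p` does not divide the order of `V`
  have hVp' : ¬ p ∣ Nat.card ↥V := by
    intro h
    obtain ⟨k, hk⟩ := IsPGroup.iff_card.mp hVs
    rw [hk] at h
    exact hsp ((Nat.prime_dvd_prime_iff_eq hpp hsP).mp (hpp.dvd_of_dvd_pow h)).symm
  -- every subgroup of `V` has a centralizer of rank at least three
  have hcent : ∀ Y : Subgroup G, Y ≤ V → ¬ PRankLE s 2 ↥(centralizer (Y : Set G)) := by
    intro Y hYV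
    refine not_pRankLE_mono ?_ hVr
    exact inf_le_right.trans (Subgroup.centralizer_le hYV)
  -- the centralizer of a nontrivial subgroup of `V` lies in `H`
  have hcentH : ∀ Y : Subgroup G, Y ≤ V → Y ≠ ⊥ → centralizer (Y : Set G) ≤ H := by
    intro Y hYV hY1
    have hne := Cfsg.Agent.Lib.Helper22_BGTransUp.centralizer_ne_top hG hY1
    obtain ⟨M, hM, hCM⟩ := exists_isCoatom_ge hne
    have hXM : pCoreOf s H ⊓ centralizer (V : Set G) ≤ M :=
      (inf_le_right.trans (Subgroup.centralizer_le hYV)).trans hCM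
    have := eq_of_rank_three_le hG H hH s hF inf_le_left hVr hM hXM
    rwa [this] at hCM
  -- the hyperplane fixed points
  have hline : ∀ B₀ : Subgroup G, B₀ ≤ B → B₀.relIndex B ≤ p →
      V ⊓ centralizer (B₀ : Set G) ≠ ⊥ → Nat.card ↥(V ⊓ centralizer (B₀ : Set G) : Subgroup G) = s := by
    intro B₀ hB₀ hidx hne
    set Y := V ⊓ centralizer (B₀ : Set G) with hY
    have hYV : Y ≤ V := inf_le_left
    have hYs : IsPGroup s ↥Y := isPGroup_of_exp hYV hVe
    have hcyc : IsCyclic ↥Y := by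
      by_contra hnc
      have h1 := nonuniq hG p A hAU hAtop H hH s hF Y hYs hnc (hcent Y hYV)
      -- `B₀` is elementary abelian of order at least `p ^ 2` inside `C_A(Y)`
      have hB₀le : B₀ ≤ A ⊓ centralizer (Y : Set G) := by
        intro b hb
        refine ⟨hBA (hB₀ hb), ?_⟩
        show b ∈ centralizer (Y : Set G)
        rw [Subgroup.mem_centralizer_iff]
        intro y hy
        have hy2 : y ∈ centralizer (B₀ : Set G) := (Subgroup.mem_inf.mp hy).2
        exact (Subgroup.mem_centralizer_iff.mp hy2 b hb).symm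
      have hmul := Cfsg.Agent.Lib.Helper22_Hyperplane.card_mul_relIndex hB₀
      have hcard : p ^ 1 < Nat.card ↥B₀ := by
        rw [pow_one]
        by_contra hle
        push Not at hle
        have h2 : Nat.card ↥B₀ * B₀.relIndex B ≤ p * p := Nat.mul_le_mul hle hidx
        rw [hmul, hB3] at h2
        have h3 : p * p < p ^ 3 := by
          have : 1 < p := hpp.one_lt
          calc p * p = p * p * 1 := by ring
            _ < p * p * p := by
              apply Nat.mul_lt_mul_of_pos_left this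
              positivity
            _ = p ^ 3 := by ring
        omega
      exact not_pRankLE_of_elemAb hB₀le (fun a ha b hb => hBc a (hB₀ ha) b (hB₀ hb))
        (fun a ha => hBp a (hB₀ ha)) hcard h1
    have hle : Nat.card ↥Y ≤ s := card_le_of_isCyclic hcyc (fun x => by
      apply Subtype.ext
      rw [Subgroup.coe_pow]
      exact hVe x.1 (hYV x.2))
    obtain ⟨k, hk⟩ := IsPGroup.iff_card.mp hYs
    have hk0 : k ≠ 0 := by
      rintro rfl
      rw [pow_zero] at hk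
      exact hne (Subgroup.card_eq_one.mp hk)
    have hge : s ≤ Nat.card ↥Y := by
      rw [hk]
      calc s = s ^ 1 := (pow_one s).symm
        _ ≤ s ^ k := Nat.pow_le_pow_right hsP.pos (Nat.one_le_iff_ne_zero.mpr hk0)
    omega
  -- generation by hyperplane fixed points
  have hgen := Cfsg.Agent.Lib.Helper22_Hyperplane.le_iSup_centralizer_hyperplanes p B V hBc hBp hVp'
    (hBA.trans hAV)
  have hV1 : V ≠ ⊥ := by
    rintro rfl
    exact hVnc inferInstance
  -- a first hyperplane with nontrivial fixed points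
  have hex1 : ∃ B₁ : {B₀ : Subgroup G // B₀ ≤ B ∧ B₀.relIndex B ≤ p},
      V ⊓ centralizer ((B₁ : Subgroup G) : Set G) ≠ ⊥ := by
    by_contra hno
    push Not at hno
    apply hV1
    rw [eq_bot_iff]
    refine hgen.trans ?_
    apply iSup_le
    intro B₀
    rw [hno B₀]
  obtain ⟨⟨B₁, hB₁, hidx₁⟩, hne₁⟩ := hex1
  set E₁ := V ⊓ centralizer (B₁ : Set G) with hE₁
  have hE₁card : Nat.card ↥E₁ = s := hline B₁ hB₁ hidx₁ hne₁
  -- a second hyperplane with different nontrivial fixed points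
  have hex2 : ∃ B₂ : {B₀ : Subgroup G // B₀ ≤ B ∧ B₀.relIndex B ≤ p},
      V ⊓ centralizer ((B₂ : Subgroup G) : Set G) ≠ ⊥ ∧
        V ⊓ centralizer ((B₂ : Subgroup G) : Set G) ≠ E₁ := by
    by_contra hno
    push Not at hno
    apply hVnc
    have hVE : V ≤ E₁ := by
      refine hgen.trans ?_
      apply iSup_le
      intro B₀
      by_cases h0 : V ⊓ centralizer ((B₀ : Subgroup G) : Set G) = ⊥
      · rw [h0]; exact bot_le
      · rw [hno B₀ h0]
    have hEV : E₁ = V := le_antisymm inf_le_left hVE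
    have : IsCyclic ↥E₁ := isCyclic_of_prime_card (p := s) hE₁card
    rwa [hEV] at this
  obtain ⟨⟨B₂, hB₂, hidx₂⟩, hne₂, hneq⟩ := hex2
  set E₂ := V ⊓ centralizer (B₂ : Set G) with hE₂
  have hE₂card : Nat.card ↥E₂ = s := hline B₂ hB₂ hidx₂ hne₂
  -- invariance under `A`
  have hAE : ∀ B₀ : Subgroup G, B₀ ≤ B → A ≤ normalizer ((V ⊓ centralizer (B₀ : Set G) : Subgroup G) : Set G) := by
    intro B₀ hB₀ a ha
    exact Cfsg.Agent.Lib.Helper22_Hyperplane.mem_normalizer_inf_centralizer (hAV ha)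
      (fun d hd => hAcomm a ha d (hBA (hB₀ hd)))
  -- `B` does not centralize the lines
  have hnot : ∀ (X Y : Subgroup G) (B₀ : Subgroup G), B₀ ≤ B → Y = V ⊓ centralizer (B₀ : Set G) →
      X ≤ V → Nat.card ↥X = s → Nat.card ↥Y = s → Y ≠ X → ¬ B ≤ centralizer (X : Set G) := by
    intro X Y B₀ hB₀ hYdef hXV hXc hYc hYX hB
    apply hYX
    have hXY : X ≤ Y := by
      rw [hYdef]
      refine le_inf hXV ?_
      intro x hx
      rw [Subgroup.mem_centralizer_iff]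
      intro b hb
      exact (Subgroup.mem_centralizer_iff.mp (hB (hB₀ hb)) x hx).symm
    exact (Subgroup.eq_of_le_of_card_ge hXY (by rw [hXc, hYc])).symm
  have hE₁V : E₁ ≤ V := inf_le_left
  have hE₂V : E₂ ≤ V := inf_le_left
  refine ⟨E₁, E₂, ⟨hE₁V.trans hVS, hE₁card, hAE B₁ hB₁, ?_, hcentH E₁ hE₁V hne₁⟩,
    ⟨hE₂V.trans hVS, hE₂card, hAE B₂ hB₂, ?_, hcentH E₂ hE₂V hne₂⟩, ?_⟩
  · exact hnot E₁ E₂ B₂ hB₂ hE₂ hE₁V hE₁card hE₂card hneq
  · exact hnot E₂ E₁ B₁ hB₁ hE₁ hE₂V hE₂card hE₁card (Ne.symm hneq)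
  · intro M hM h₁ h₂
    set Y := E₁ ⊔ E₂ with hY
    have hYV : Y ≤ V := sup_le hE₁V hE₂V
    have hYs : IsPGroup s ↥Y := isPGroup_of_exp hYV hVe
    have hYnc : ¬ IsCyclic ↥Y := by
      intro hc
      have hle : Nat.card ↥Y ≤ s := card_le_of_isCyclic hc (fun x => by
        apply Subtype.ext
        rw [Subgroup.coe_pow]
        exact hVe x.1 (hYV x.2))
      have h1 : E₁ = Y := Subgroup.eq_of_le_of_card_ge le_sup_left (by rw [hE₁card]; exact hle)
      have h2 : E₂ = Y := Subgroup.eq_of_le_of_card_ge le_sup_right (by rw [hE₂card]; exact hle)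
      exact hneq (h2.trans h1.symm)
    have hYU := inUniqueMaximal_of_centralizer hG H hH s hF Y hYs hYnc (hcent Y hYV)
    obtain ⟨M₀, -, hM₀⟩ := hYU
    have hYH : Y ≤ H := (hYV.trans hVS).trans (Cfsg.Agent.Lib.Helper47_SubAPI.pCoreOf_le H)
    rw [hM₀ M ⟨hM, sup_le h₁ h₂⟩, hM₀ H ⟨hH, hYH⟩]

/-- **(L1) Lemma alpha** of the proof of Bender--Glauberman 9.5, in the shape of helper22's specification:
in a counterexample, a maximal subgroup `H ≥ A` with `r_s(F(H)) ≥ 3` has two lines generating a uniqueness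
subgroup. -/
theorem L1 (hG : IsMinSimpleOddOrder G) (p : ℕ) [Fact p.Prime]
    (A : Subgroup G) (hAp : IsPGroup p A) (hAc : IsMulCommutative A)
    (B : Subgroup G) (hBA : B ≤ A) (hBe : IsElementaryAbelian p B) (hB3 : Nat.card B = p ^ 3)
    (hAU : ¬ InUniqueMaximal A)
    (H : Subgroup G) (hH : IsCoatom H) (hAH : A ≤ H) (s : ℕ) [Fact s.Prime] (hsp : s ≠ p)
    (hF : ¬ PRankLE s 2 ↥(fittingOf H)) :
    ∃ E₁ E₂ : Subgroup G, IsLine A B H s E₁ ∧ IsLine A B H s E₂ ∧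
      ∀ M : Subgroup G, IsCoatom M → E₁ ≤ M → E₂ ≤ M → M = H := by
  have hpp : p.Prime := Fact.out
  have hAtop : A ≠ ⊤ := ne_top_of_le_ne_top hH.1 hAH
  have hAcomm : ∀ a ∈ A, ∀ b ∈ A, a * b = b * a := fun a ha b hb =>
    congrArg Subtype.val (isMulCommutative_iff.mp hAc ⟨a, ha⟩ ⟨b, hb⟩)
  have hBc : ∀ a ∈ B, ∀ b ∈ B, a * b = b * a := fun a ha b hb => hAcomm a (hBA ha) b (hBA hb)
  have hA3 : ¬ PRankLE p 2 ↥A := by
    apply not_pRankLE_of_elemAb hBA hBc hBe.2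
    rw [hB3]
    exact Nat.pow_lt_pow_right hpp.one_lt (by norm_num)
  have hS : IsPGroup s ↥(pCoreOf s H) := Cfsg.Agent.Lib.Helper47_SubAPI.isPGroup_pCoreOf H
  have hS3 : ¬ PRankLE s 2 ↥(pCoreOf s H) := not_pRankLE_pCoreOf hF
  have hS1 : pCoreOf s H ≠ ⊥ := by
    intro h
    apply hS3
    rw [h]
    intro E _ _
    have : E = ⊥ := Subsingleton.elim _ _
    rw [this, Subgroup.card_bot]
    exact Nat.one_le_pow _ _ (Fact.out : s.Prime).pos
  have hs2 : s ≠ 2 := two_ne_of_dvd_card hG (dvd_card_of_ne_bot hS hS1)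
  have hAS : A ≤ normalizer ((pCoreOf s H : Subgroup G) : Set G) :=
    hAH.trans (Cfsg.Agent.Lib.Helper47_SubAPI.le_normalizer_pCoreOf H)
  obtain ⟨V, hVS, hAV, hVc, hVe, hVnc, hVr⟩ :=
    Cfsg.Agent.Lib.Helper54_BGElemAb.exists_invariant_elemAb hs2 (Ne.symm hsp) A (pCoreOf s H) hAcomm hAp hA3
      hS hS3 hAS (by
        intro Y hYS hYnc hYr
        exact nonuniq hG p A hAU hAtop H hH s hF Y (hS.to_le hYS) hYnc
          (not_pRankLE_mono inf_le_right hYr))
  exact lines_of_elemAb hG p A hAc B hBA hBe hB3 hAU H hH hAH s hsp hF V hVS hAV hVc hVe hVnc hVr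

end Cfsg.Agent.Lib.Helper97_U1402L1
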