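import Mathlib

/-!
# Fixed points of an element on a central product (helper98)

Let `A`, `A'` be commuting subgroups of `G`, both normalized by `r`.  A perfect subgroup `J ≤ A A'`
centralized by `r` lies in `C_A(r) C_{A'}(r)`.  (No finiteness, no coprimeness.)
-/

set_option autoImplicit false

namespace Cfsg.Agent.Lib.Helper98_CentProd

open scoped commutatorElement

variable {G : Type*} [Group G]

/-- If `A` and `A'` commute elementwise, every element of `A ⊔ A'` is a product `a * a'`. -/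
theorem exists_mul_of_mem_sup_of_commute {A A' : Subgroup G}
    (hcomm : ∀ a ∈ A, ∀ a' ∈ A', a * a' = a' * a) {c : G} (hc : c ∈ A ⊔ A') :
    ∃ a ∈ A, ∃ a' ∈ A', c = a * a' := by
  let S : Subgroup G :=
    { carrier := {g | ∃ a ∈ A, ∃ a' ∈ A', g = a * a'}
      one_mem' := ⟨1, one_mem _, 1, one_mem _, by simp⟩
      mul_mem' := by
        rintro _ _ ⟨a, ha, a', ha', rfl⟩ ⟨b, hb, b', hb', rfl⟩
        refine ⟨a * b, mul_mem ha hb, a' * b', mul_mem ha' hb', ?_⟩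
        calc a * a' * (b * b') = a * (a' * b) * b' := by group
          _ = a * (b * a') * b' := by rw [hcomm b hb a' ha']
          _ = a * b * (a' * b') := by group
      inv_mem' := by
        rintro _ ⟨a, ha, a', ha', rfl⟩
        refine ⟨a⁻¹, inv_mem ha, a'⁻¹, inv_mem ha', ?_⟩
        rw [mul_inv_rev]
        exact (hcomm a⁻¹ (inv_mem ha) a'⁻¹ (inv_mem ha')).symm }
  have hle : A ⊔ A' ≤ S := by
    apply sup_le
    · intro a ha
      exact ⟨a, ha, 1, one_mem _, by simp⟩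
    · intro a' ha'
      exact ⟨1, one_mem _, a', ha', by simp⟩
  exact hle hc

/-- A commutator of elements that are `r`-fixed modulo central elements is `r`-fixed. -/
theorem conj_commutator_eq {a b z w r : G} (ha : r * a * r⁻¹ = a * z) (hb : r * b * r⁻¹ = b * w)
    (hza : z * a = a * z) (hzb : z * b = b * z) (hwa : w * a = a * w) (hwb : w * b = b * w)
    (hzw : z * w = w * z) : r * ⁅a, b⁆ * r⁻¹ = ⁅a, b⁆ := by
  have h1 : r * ⁅a, b⁆ * r⁻¹ = ⁅r * a * r⁻¹, r * b * r⁻¹⁆ := by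
    simp only [commutatorElement_def]; group
  rw [h1, ha, hb]
  have cz_a : Commute z a := hza
  have cz_b : Commute z b := hzb
  have cw_a : Commute w a := hwa
  have cw_b : Commute w b := hwb
  have cz_w : Commute z w := hzw
  rw [commutatorElement_def, commutatorElement_def]
  have e1 : (a * z)⁻¹ = a⁻¹ * z⁻¹ := by
    rw [mul_inv_rev]; exact (cz_a.inv_inv).eq
  have e2 : (b * w)⁻¹ = b⁻¹ * w⁻¹ := by
    rw [mul_inv_rev]; exact (cw_b.inv_inv).eq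
  rw [e1, e2]
  calc a * z * (b * w) * (a⁻¹ * z⁻¹) * (b⁻¹ * w⁻¹)
      = a * (z * b) * (w * a⁻¹) * (z⁻¹ * b⁻¹) * w⁻¹ := by group
    _ = a * (b * z) * (a⁻¹ * w) * (b⁻¹ * z⁻¹) * w⁻¹ := by
        rw [cz_b.eq, (cw_a.inv_right).eq, (cz_b.inv_inv).eq]
    _ = a * b * (z * a⁻¹) * (w * b⁻¹) * z⁻¹ * w⁻¹ := by group
    _ = a * b * (a⁻¹ * z) * (b⁻¹ * w) * z⁻¹ * w⁻¹ := by
        rw [(cz_a.inv_right).eq, (cw_b.inv_right).eq]
    _ = a * b * a⁻¹ * (z * b⁻¹) * (w * z⁻¹) * w⁻¹ := by group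
    _ = a * b * a⁻¹ * (b⁻¹ * z) * (z⁻¹ * w) * w⁻¹ := by
        rw [(cz_b.inv_right).eq, (cz_w.symm.inv_right).eq]
    _ = a * b * a⁻¹ * b⁻¹ := by group

/-- **Lemma D.** `A`, `A'` commuting subgroups normalized by `r`; a perfect subgroup `J ≤ A ⊔ A'`
centralized by `r` lies in `C_A(r) ⊔ C_{A'}(r)`. -/
theorem perfect_le_sup_centralizer {A A' J : Subgroup G} {r : G}
    (hcomm : ∀ a ∈ A, ∀ a' ∈ A', a * a' = a' * a)
    (hrA : ∀ a ∈ A, r * a * r⁻¹ ∈ A) (hrA' : ∀ a' ∈ A', r * a' * r⁻¹ ∈ A')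
    (hJ : ⁅J, J⁆ = J) (hJle : J ≤ A ⊔ A') (hJr : ∀ j ∈ J, r * j * r⁻¹ = j) :
    J ≤ (A ⊓ Subgroup.centralizer {r}) ⊔ (A' ⊓ Subgroup.centralizer {r}) := by
  -- decomposition of `r`-fixed elements
  have dec : ∀ c ∈ J, ∃ a ∈ A, ∃ a' ∈ A', c = a * a' ∧ ∃ z ∈ A ⊓ A', r * a * r⁻¹ = a * z ∧
      r * a' * r⁻¹ = a' * z⁻¹ := by
    intro c hc
    obtain ⟨a, ha, a', ha', rfl⟩ := exists_mul_of_mem_sup_of_commute hcomm (hJle hc)
    refine ⟨a, ha, a', ha', rfl, a⁻¹ * (r * a * r⁻¹), ?_, by group, ?_⟩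
    · have h := hJr _ hc
      have h2 : (r * a * r⁻¹) * (r * a' * r⁻¹) = a * a' := by
        rw [← h]; group
      have h3 : a⁻¹ * (r * a * r⁻¹) = a' * (r * a' * r⁻¹)⁻¹ := by
        have : a⁻¹ * ((r * a * r⁻¹) * (r * a' * r⁻¹)) * (r * a' * r⁻¹)⁻¹ =
            a⁻¹ * (a * a') * (r * a' * r⁻¹)⁻¹ := by rw [h2]
        calc a⁻¹ * (r * a * r⁻¹) = a⁻¹ * ((r * a * r⁻¹) * (r * a' * r⁻¹)) * (r * a' * r⁻¹)⁻¹ := by
              group
          _ = a⁻¹ * (a * a') * (r * a' * r⁻¹)⁻¹ := this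
          _ = a' * (r * a' * r⁻¹)⁻¹ := by group
      refine Subgroup.mem_inf.mpr ⟨mul_mem (inv_mem ha) (hrA a ha), ?_⟩
      rw [h3]
      exact mul_mem ha' (inv_mem (hrA' a' ha'))
    · have h := hJr _ hc
      have h2 : (r * a * r⁻¹) * (r * a' * r⁻¹) = a * a' := by
        rw [← h]; group
      have h3 : r * a' * r⁻¹ = (r * a * r⁻¹)⁻¹ * (a * a') := by
        rw [← h2]; group
      rw [h3]
      -- `a'` commutes with `a⁻¹ * (r a r⁻¹) ∈ A`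
      have hz : a⁻¹ * (r * a * r⁻¹) ∈ A := mul_mem (inv_mem ha) (hrA a ha)
      have hc1 := hcomm _ (inv_mem hz) a' ha'
      calc (r * a * r⁻¹)⁻¹ * (a * a') = (a⁻¹ * (r * a * r⁻¹))⁻¹ * a' := by group
        _ = a' * (a⁻¹ * (r * a * r⁻¹))⁻¹ := hc1
  rw [← hJ, Subgroup.commutator_le]
  intro c hc d hd
  obtain ⟨a, ha, a', ha', rfl, z, hz, hza, hza'⟩ := dec c hc
  obtain ⟨b, hb, b', hb', rfl, w, hw, hwb, hwb'⟩ := dec d hd
  -- `⁅a a', b b'⁆ = ⁅a, b⁆ ⁅a', b'⁆`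
  have hsplit : ⁅a * a', b * b'⁆ = ⁅a, b⁆ * ⁅a', b'⁆ := by
    have c1 : Commute a' b := (hcomm b hb a' ha').symm
    have c2 : Commute a' a := (hcomm a ha a' ha').symm
    have c3 : Commute b' a := (hcomm a ha b' hb').symm
    have c4 : Commute b' b := (hcomm b hb b' hb').symm
    rw [commutatorElement_def, commutatorElement_def, commutatorElement_def]
    have e1 : (a * a')⁻¹ = a⁻¹ * a'⁻¹ := by
      rw [mul_inv_rev]; exact (c2.inv_inv).eq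
    have e2 : (b * b')⁻¹ = b⁻¹ * b'⁻¹ := by
      rw [mul_inv_rev]; exact (c4.inv_inv).eq
    rw [e1, e2]
    calc a * a' * (b * b') * (a⁻¹ * a'⁻¹) * (b⁻¹ * b'⁻¹)
        = a * (a' * b) * (b' * a⁻¹) * (a'⁻¹ * b⁻¹) * b'⁻¹ := by group
      _ = a * (b * a') * (a⁻¹ * b') * (b⁻¹ * a'⁻¹) * b'⁻¹ := by
          rw [c1.eq, (c3.inv_right).eq, (c1.inv_inv).eq]
      _ = a * b * (a' * a⁻¹) * (b' * b⁻¹) * a'⁻¹ * b'⁻¹ := by group
      _ = a * b * (a⁻¹ * a') * (b⁻¹ * b') * a'⁻¹ * b'⁻¹ := by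
          rw [(c2.inv_right).eq, (c4.inv_right).eq]
      _ = a * b * a⁻¹ * (a' * b⁻¹) * b' * a'⁻¹ * b'⁻¹ := by group
      _ = a * b * a⁻¹ * (b⁻¹ * a') * b' * a'⁻¹ * b'⁻¹ := by rw [(c1.inv_right).eq]
      _ = a * b * a⁻¹ * b⁻¹ * (a' * b' * a'⁻¹ * b'⁻¹) := by group
  rw [hsplit]
  -- central elements
  have hzA' : ∀ x ∈ A ⊓ A', ∀ y ∈ A, x * y = y * x :=
    fun x hx y hy => (hcomm y hy x (Subgroup.mem_inf.mp hx).2).symm
  have hzA : ∀ x ∈ A ⊓ A', ∀ y ∈ A', x * y = y * x :=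
    fun x hx y hy => hcomm x (Subgroup.mem_inf.mp hx).1 y hy
  have hzz : ∀ x ∈ A ⊓ A', ∀ y ∈ A ⊓ A', x * y = y * x :=
    fun x hx y hy => hcomm x (Subgroup.mem_inf.mp hx).1 y (Subgroup.mem_inf.mp hy).2
  have h1 : ⁅a, b⁆ ∈ A ⊓ Subgroup.centralizer {r} := by
    refine Subgroup.mem_inf.mpr ⟨?_, ?_⟩
    · exact mul_mem (mul_mem (mul_mem ha hb) (inv_mem ha)) (inv_mem hb)
    · rw [Subgroup.mem_centralizer_singleton_iff]
      have := conj_commutator_eq hza hwb (hzA' z hz a ha) (hzA' z hz b hb) (hzA' w hw a ha)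
        (hzA' w hw b hb) (hzz z hz w hw)
      calc ⁅a, b⁆ * r = (r * ⁅a, b⁆ * r⁻¹) * r := by rw [this]
        _ = r * ⁅a, b⁆ := by group
  have h2 : ⁅a', b'⁆ ∈ A' ⊓ Subgroup.centralizer {r} := by
    refine Subgroup.mem_inf.mpr ⟨?_, ?_⟩
    · exact mul_mem (mul_mem (mul_mem ha' hb') (inv_mem ha')) (inv_mem hb')
    · rw [Subgroup.mem_centralizer_singleton_iff]
      have hz' : z⁻¹ ∈ A ⊓ A' := inv_mem hz
      have hw' : w⁻¹ ∈ A ⊓ A' := inv_mem hw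
      have := conj_commutator_eq hza' hwb' (hzA z⁻¹ hz' a' ha') (hzA z⁻¹ hz' b' hb')
        (hzA w⁻¹ hw' a' ha') (hzA w⁻¹ hw' b' hb') (hzz z⁻¹ hz' w⁻¹ hw')
      calc ⁅a', b'⁆ * r = (r * ⁅a', b'⁆ * r⁻¹) * r := by rw [this]
        _ = r * ⁅a', b'⁆ := by group
  exact mul_mem (Subgroup.mem_sup_left h1) (Subgroup.mem_sup_right h2)

end Cfsg.Agent.Lib.Helper98_CentProd
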