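import Mathlib
import Cfsg.Prelude.Def_Characters
import Cfsg.Agent.Lib.Helper80_CharBasic
import Cfsg.Agent.Lib.Helper17_H9Defs
import Cfsg.Agent.Lib.Helper17_Sylow
import Cfsg.Agent.Lib.Helper91_H9_BASIC

/-!
# S3805 package SYL (helper98 for helper17): `n_3 ≡ 1 mod 9` when `T` is a TI Sylow 3-subgroup
(control of fusion in `T` by `N_G(T)`).

`card_sylow_modEq_aux` takes the statement `fusion` of the package BASIC as an explicit hypothesis.
-/

set_option autoImplicit false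
set_option linter.unusedSectionVars false

namespace Cfsg.Agent.Lib.Helper98_H9_SYL

open Cfsg Cfsg.Agent.Lib.Helper17_H9Defs

section grp
variable {G : Type*} [Group G] [Finite G] {T : Subgroup G} {x y i j : G}

theorem card_sylow_modEq_aux (h : Hyp G T x y i j)
    (hfus : ∀ {t g : G}, t ∈ T → t ≠ 1 → g * t * g⁻¹ ∈ T →
      g ∈ Subgroup.normalizer (T : Set G))
    (P : Sylow 3 G) (hP : (P : Subgroup G) = T) :
    Nat.card (Sylow 3 G) ≡ 1 [MOD 9] := by
  classical
  have : Fact (Nat.Prime 3) := ⟨Nat.prime_three⟩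
  by_contra hcon
  have hcon' : ¬ Nat.card (Sylow 3 G) ≡ 1 [MOD 3 ^ 2] := by
    norm_num
    exact hcon
  obtain ⟨R, hRP, hle⟩ := Cfsg.Agent.Lib.Helper17_Sylow.exists_sylow_relIndex_le 3 2 hcon' P
  -- `|P ∩ R| ≥ 3`
  have hcardP : Nat.card (P : Subgroup G) = 9 := by rw [hP]; exact h.card
  have hmul : Nat.card ((R : Subgroup G) ⊓ (P : Subgroup G) : Subgroup G) *
      (R : Subgroup G).relIndex (P : Subgroup G) = 9 := by
    rw [← hcardP, ← Subgroup.inf_relIndex_right]
    exact Cfsg.Agent.Lib.Helper17_Sylow.card_mul_relIndex_of_le inf_le_right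
  have hne : Nat.card ((R : Subgroup G) ⊓ (P : Subgroup G) : Subgroup G) ≠ 1 := by
    intro e
    rw [e, one_mul] at hmul
    rw [hmul] at hle
    norm_num at hle
  obtain ⟨t, htm, ht1⟩ : ∃ t ∈ ((R : Subgroup G) ⊓ (P : Subgroup G) : Subgroup G), t ≠ 1 := by
    by_contra hno
    push Not at hno
    apply hne
    have : ((R : Subgroup G) ⊓ (P : Subgroup G) : Subgroup G) = ⊥ := by
      rw [eq_bot_iff]
      intro u hu
      exact Subgroup.mem_bot.mpr (hno u hu)
    rw [this, Subgroup.card_bot]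
  have htR : t ∈ (R : Subgroup G) := (Subgroup.mem_inf.mp htm).1
  have htT : t ∈ T := by rw [← hP]; exact (Subgroup.mem_inf.mp htm).2
  -- `R = c • P`
  obtain ⟨c, hc⟩ := MulAction.exists_smul_eq G P R
  have htR' : t ∈ ((c • P : Sylow 3 G) : Subgroup G) := by rw [hc]; exact htR
  rw [Cfsg.Agent.Lib.Helper17_Sylow.mem_smul_sylow] at htR'
  have h1 : c⁻¹ * t * c⁻¹⁻¹ ∈ T := by
    rw [← hP, inv_inv]
    exact htR'
  have hcN : c⁻¹ ∈ Subgroup.normalizer (T : Set G) := hfus htT ht1 h1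
  have hcN' : c ∈ Subgroup.normalizer ((P : Subgroup G) : Set G) := by
    rw [hP]
    simpa using Subgroup.inv_mem _ hcN
  apply hRP
  rw [← hc]
  exact Sylow.smul_eq_iff_mem_normalizer.mpr hcN'

/-- package SYL, verbatim -/
theorem card_sylow_modEq (h : Hyp G T x y i j) (P : Sylow 3 G) (hP : (P : Subgroup G) = T) :
    Nat.card (Sylow 3 G) ≡ 1 [MOD 9] :=
  card_sylow_modEq_aux h (fun ht ht1 hg => Cfsg.Agent.Lib.Helper91_H9_BASIC.fusion h ht ht1 hg) P hP

end grp

end Cfsg.Agent.Lib.Helper98_H9_SYL
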