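import Mathlib

set_option autoImplicit false

namespace Cfsg.Agent.Lib.Helper98_Imprim

open scoped Pointwise
open MulAction Equiv

variable {Ω ι : Type*}

/-- the stabilizer of the partition of `Ω` into the fibres of `f` -/
def partStab (f : Ω → ι) : Subgroup (Perm Ω) where
  carrier := {g | ∀ x y : Ω, f x = f y ↔ f (g x) = f (g y)}
  one_mem' := fun _ _ => Iff.rfl
  mul_mem' := fun {g h} hg hh x y => (hh x y).trans (hg (h x) (h y))
  inv_mem' := fun {g} hg x y => by
    have := hg (g⁻¹ x) (g⁻¹ y)
    have h1 : g (g⁻¹ x) = x := by simp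
    have h2 : g (g⁻¹ y) = y := by simp
    rw [h1, h2] at this
    exact this.symm

theorem mem_partStab (f : Ω → ι) (g : Perm Ω) :
    g ∈ partStab f ↔ ∀ x y : Ω, f x = f y ↔ f (g x) = f (g y) := Iff.rfl

theorem closure_eq_partStab (f : Ω → ι) :
    Subgroup.closure {g : Perm Ω | ∀ x y : Ω, f x = f y ↔ f (g x) = f (g y)} = partStab f :=
  Subgroup.closure_eq (partStab f)

theorem swap_mem_partStab [DecidableEq Ω] (f : Ω → ι) {u z : Ω} (h : f u = f z) :
    swap u z ∈ partStab f := by
  have key : ∀ x, f (swap u z x) = f x := by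
    intro x
    by_cases hxu : x = u
    · subst hxu; rw [swap_apply_left]; exact h.symm
    by_cases hxz : x = z
    · subst hxz; rw [swap_apply_right]; exact h
    rw [swap_apply_of_ne_of_ne hxu hxz]
  intro x y
  rw [key, key]

section fibreSwap

variable [DecidableEq ι] (f : Ω → ι) {i j : ι} (hij : i ≠ j) (e : {x // f x = i} ≃ {x // f x = j})

/-- underlying function of the exchange of two fibres -/
def fibreSwapFun (z : Ω) : Ω :=
  if h : f z = i then (e ⟨z, h⟩ : Ω) else if h' : f z = j then (e.symm ⟨z, h'⟩ : Ω) else z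

theorem fibreSwapFun_of_eq_left {z : Ω} (h : f z = i) :
    fibreSwapFun f e z = (e ⟨z, h⟩ : Ω) := dif_pos h

theorem fibreSwapFun_of_eq_right {z : Ω} (h : ¬ f z = i) (h' : f z = j) :
    fibreSwapFun f e z = (e.symm ⟨z, h'⟩ : Ω) := by
  unfold fibreSwapFun
  rw [dif_neg h, dif_pos h']

theorem fibreSwapFun_of_ne {z : Ω} (h : ¬ f z = i) (h' : ¬ f z = j) :
    fibreSwapFun f e z = z := by
  unfold fibreSwapFun
  rw [dif_neg h, dif_neg h']

include hij in
theorem fibreSwapFun_involutive : Function.Involutive (fibreSwapFun f e) := by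
  intro z
  by_cases h : f z = i
  · have h2 : f (e ⟨z, h⟩ : Ω) = j := (e ⟨z, h⟩).2
    have h3 : ¬ f (e ⟨z, h⟩ : Ω) = i := by rw [h2]; exact hij.symm
    rw [fibreSwapFun_of_eq_left f e h, fibreSwapFun_of_eq_right f e h3 h2]
    simp
  · by_cases h' : f z = j
    · have h2 : f (e.symm ⟨z, h'⟩ : Ω) = i := (e.symm ⟨z, h'⟩).2
      rw [fibreSwapFun_of_eq_right f e h h', fibreSwapFun_of_eq_left f e h2]
      simp
    · rw [fibreSwapFun_of_ne f e h h', fibreSwapFun_of_ne f e h h']

/-- the exchange of two fibres along a bijection -/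
def fibreSwap : Perm Ω := (fibreSwapFun_involutive f hij e).toPerm _

theorem fibreSwap_apply (z : Ω) : fibreSwap f hij e z = fibreSwapFun f e z := rfl

theorem f_fibreSwap (z : Ω) : f (fibreSwap f hij e z) = swap i j (f z) := by
  rw [fibreSwap_apply]
  by_cases h : f z = i
  · rw [fibreSwapFun_of_eq_left f e h, h, swap_apply_left]
    exact (e ⟨z, h⟩).2
  · by_cases h' : f z = j
    · rw [fibreSwapFun_of_eq_right f e h h', h', swap_apply_right]
      exact (e.symm ⟨z, h'⟩).2
    · rw [fibreSwapFun_of_ne f e h h', swap_apply_of_ne_of_ne h h']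

theorem fibreSwap_mem_partStab : fibreSwap f hij e ∈ partStab f := by
  intro x y
  rw [f_fibreSwap f hij e, f_fibreSwap f hij e]
  exact ((swap i j).injective.eq_iff).symm

theorem fibreSwap_apply_of_ne {z : Ω} (h : f z ≠ i) (h' : f z ≠ j) : fibreSwap f hij e z = z := by
  rw [fibreSwap_apply, fibreSwapFun_of_ne f e h h']

end fibreSwap

section blocks

theorem smul_eq_of_fixed {K : Subgroup (Perm Ω)} {B : Set Ω} (hB : IsBlock K B) {g : Perm Ω}
    (hg : g ∈ K) {x₁ : Ω} (hx₁ : x₁ ∈ B) (hfix : g x₁ = x₁) : g • B = B := by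
  rcases (isBlock_iff_smul_eq_or_disjoint.mp hB) ⟨g, hg⟩ with h | h
  · exact h
  · exfalso
    have h1 : x₁ ∈ g • B := by
      have := Set.smul_mem_smul_set (a := g) hx₁
      rwa [Perm.smul_def, hfix] at this
    exact Set.disjoint_left.mp h h1 hx₁

theorem mem_of_fixed {K : Subgroup (Perm Ω)} {B : Set Ω} (hB : IsBlock K B) {g : Perm Ω}
    (hg : g ∈ K) {x₁ : Ω} (hx₁ : x₁ ∈ B) (hfix : g x₁ = x₁) {y : Ω} (hy : y ∈ B) : g y ∈ B := by
  have h := smul_eq_of_fixed hB hg hx₁ hfix
  rw [← h]
  exact Set.smul_mem_smul_set hy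

variable [DecidableEq Ω] [DecidableEq ι] [Finite Ω] (f : Ω → ι)

/-- the fibre through a point -/
def fibre (x₀ : Ω) : Set Ω := {y | f y = f x₀}

omit [DecidableEq Ω] [DecidableEq ι] [Finite Ω] in
theorem mem_fibre (x₀ y : Ω) : y ∈ fibre f x₀ ↔ f y = f x₀ := Iff.rfl

/-- transitivity of the partition stabilizer -/
theorem exists_mem_partStab_apply_eq
    (hcard : ∀ i j : ι, Nat.card {x // f x = i} = Nat.card {x // f x = j}) (x y : Ω) :
    ∃ g ∈ partStab f, g x = y := by
  by_cases h : f x = f y
  · exact ⟨swap x y, swap_mem_partStab f h, swap_apply_left x y⟩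
  · obtain ⟨e⟩ : Nonempty ({z // f z = f x} ≃ {z // f z = f y}) := Finite.card_eq.mp (hcard _ _)
    have h1 : f (fibreSwap f h e x) = f y := by
      rw [f_fibreSwap f h e, swap_apply_left]
    refine ⟨swap (fibreSwap f h e x) y * fibreSwap f h e,
      Subgroup.mul_mem _ (swap_mem_partStab f h1) (fibreSwap_mem_partStab f h e), ?_⟩
    rw [Perm.mul_apply, swap_apply_left]

/-- the blocks (containing a given point) of a group containing the partition stabilizer -/
theorem block_trichotomy
    (hcard : ∀ i j : ι, Nat.card {x // f x = i} = Nat.card {x // f x = j})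
    (K : Subgroup (Perm Ω)) (hK : partStab f ≤ K) (B : Set Ω) (hB : IsBlock K B) (x₀ : Ω)
    (hx₀ : x₀ ∈ B) : B = {x₀} ∨ B = fibre f x₀ ∨ B = Set.univ := by
  by_cases hcase : ∃ y ∈ B, f y ≠ f x₀
  · -- B is everything
    right; right
    obtain ⟨y, hyB, hy⟩ := hcase
    have hyx : y ≠ x₀ := fun h => hy (by rw [h])
    apply Set.eq_univ_of_forall
    intro w
    by_cases h1 : f w = f x₀
    · by_cases hw : w = x₀
      · rw [hw]; exact hx₀
      · have hyw : y ≠ w := fun h => hy (by rw [h, h1])
        have := mem_of_fixed hB (hK (swap_mem_partStab f h1.symm)) hyB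
          (swap_apply_of_ne_of_ne hyx hyw) hx₀
        rwa [swap_apply_left] at this
    by_cases h2 : f w = f y
    · by_cases hw : w = y
      · rw [hw]; exact hyB
      · have hx₀w : x₀ ≠ w := fun h => h1 (by rw [h])
        have := mem_of_fixed hB (hK (swap_mem_partStab f h2.symm)) hx₀
          (swap_apply_of_ne_of_ne hyx.symm hx₀w) hyB
        rwa [swap_apply_left] at this
    · -- third fibre
      have hne : f y ≠ f w := fun h => h2 h.symm
      obtain ⟨e⟩ : Nonempty ({z // f z = f y} ≃ {z // f z = f w}) := Finite.card_eq.mp (hcard _ _)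
      have hσfix : fibreSwap f hne e x₀ = x₀ :=
        fibreSwap_apply_of_ne f hne e (fun h => hy h.symm) (fun h => h1 h.symm)
      have hw' : fibreSwap f hne e y ∈ B :=
        mem_of_fixed hB (hK (fibreSwap_mem_partStab f hne e)) hx₀ hσfix hyB
      have hfw' : f (fibreSwap f hne e y) = f w := by
        rw [f_fibreSwap f hne e, swap_apply_left]
      by_cases hww : fibreSwap f hne e y = w
      · rw [← hww]; exact hw'
      · have hx₀w' : x₀ ≠ fibreSwap f hne e y := fun h => h1 (by rw [← hfw', ← h])
        have hx₀w : x₀ ≠ w := fun h => h1 (by rw [h])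
        have := mem_of_fixed hB (hK (swap_mem_partStab f hfw')) hx₀
          (swap_apply_of_ne_of_ne hx₀w' hx₀w) hw'
        rwa [swap_apply_left] at this
  · push Not at hcase
    by_cases hsing : B = {x₀}
    · exact Or.inl hsing
    · right; left
      have : ∃ y ∈ B, y ≠ x₀ := by
        by_contra hcon
        push Not at hcon
        apply hsing
        ext z
        simp only [Set.mem_singleton_iff]
        exact ⟨hcon z, fun h => h ▸ hx₀⟩
      obtain ⟨y, hyB, hyx⟩ := this
      apply Set.Subset.antisymm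
      · intro z hz; exact hcase z hz
      · intro w hw
        rw [mem_fibre] at hw
        by_cases hwx : w = x₀
        · rw [hwx]; exact hx₀
        by_cases hwy : w = y
        · rw [hwy]; exact hyB
        have h3 : f y = f w := by rw [hcase y hyB, hw]
        have := mem_of_fixed hB (hK (swap_mem_partStab f h3)) hx₀
          (swap_apply_of_ne_of_ne hyx.symm (Ne.symm hwx)) hyB
        rwa [swap_apply_left] at this

/-- an imprimitive transitive overgroup of the partition stabilizer preserves the partition -/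
theorem le_partStab_of_not_isPreprimitive
    (hcard : ∀ i j : ι, Nat.card {x // f x = i} = Nat.card {x // f x = j})
    (a : ℕ) (hfa : ∀ x₀ : Ω, (fibre f x₀).ncard = a) (ha1 : 1 < a) (han : a < Nat.card Ω)
    (K : Subgroup (Perm Ω)) (hK : partStab f ≤ K) [IsPretransitive K Ω]
    (hnp : ¬ IsPreprimitive K Ω) : K ≤ partStab f := by
  have hne : Nonempty Ω := by
    by_contra h
    rw [not_nonempty_iff] at h
    have := Nat.card_of_isEmpty (α := Ω)
    omega
  obtain ⟨x₀⟩ := hne
  have : ∃ B : Set Ω, x₀ ∈ B ∧ IsBlock K B ∧ ¬ IsTrivialBlock B := by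
    by_contra hcon
    push Not at hcon
    exact hnp (IsPreprimitive.of_isTrivialBlock_base x₀ (fun hx hB => hcon _ hx hB))
  obtain ⟨B, hx₀B, hB, hBnt⟩ := this
  have hBfib : B = fibre f x₀ := by
    rcases block_trichotomy f hcard K hK B hB x₀ hx₀B with h | h | h
    · exact absurd (Or.inl (h ▸ Set.subsingleton_singleton)) hBnt
    · exact h
    · exact absurd (Or.inr h) hBnt
  rw [hBfib] at hB
  -- every translate of a fibre is a fibre
  have key : ∀ (k : Perm Ω), k ∈ K → ∀ x : Ω, IsBlock K (fibre f x) →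
      k • fibre f x = fibre f (k x) := by
    intro k hk x hx
    have hblock : IsBlock K (k • fibre f x) := hx.translate (⟨k, hk⟩ : K)
    have hmem : k x ∈ k • fibre f x := Set.smul_mem_smul_set (by rw [mem_fibre])
    have hnc : (k • fibre f x).ncard = a := by rw [Set.ncard_smul_set, hfa]
    rcases block_trichotomy f hcard K hK _ hblock (k x) hmem with h | h | h
    · exfalso
      rw [h, Set.ncard_singleton] at hnc
      omega
    · exact h
    · exfalso
      rw [h, Set.ncard_univ] at hnc
      omega
  have hall : ∀ x : Ω, IsBlock K (fibre f x) := by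
    intro x
    obtain ⟨k, hk⟩ := exists_smul_eq K x₀ x
    have := key k k.2 x₀ hB
    have hkx : (k : Perm Ω) x₀ = x := hk
    rw [hkx] at this
    rw [← this]
    exact hB.translate k
  intro k hk u v
  have h1 := key k hk u (hall u)
  constructor
  · intro huv
    have hv : v ∈ fibre f u := by rw [mem_fibre]; exact huv.symm
    have : k v ∈ k • fibre f u := Set.smul_mem_smul_set hv
    rw [h1, mem_fibre] at this
    exact this.symm
  · intro huv
    have : k v ∈ fibre f (k u) := by rw [mem_fibre]; exact huv.symm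
    rw [← h1] at this
    obtain ⟨v', hv', hv'v⟩ := this
    have : v' = v := k.injective hv'v
    rw [this, mem_fibre] at hv'
    exact hv'.symm

end blocks

end Cfsg.Agent.Lib.Helper98_Imprim
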