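import Mathlib
import Cfsg.Agent.Lib.Helper98_Imprim

set_option autoImplicit false

namespace Cfsg.Agent.Lib.Helper98_ImprimAlt

open scoped Pointwise
open MulAction Equiv
open Cfsg.Agent.Lib.Helper98_Imprim

variable {Ω ι : Type*}

section blocks

variable [DecidableEq Ω] [DecidableEq ι] [Finite Ω] (f : Ω → ι)

/-- every element of the partition stabilizer can be approximated on two points by an
element of `K` -/
def Approx (K : Subgroup (Perm Ω)) : Prop :=
  ∀ g ∈ partStab f, ∀ x₁ y : Ω, ∃ g' ∈ K, g' x₁ = g x₁ ∧ g' y = g y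

omit [DecidableEq Ω] [DecidableEq ι] [Finite Ω] in
theorem mem_of_fixed' {K : Subgroup (Perm Ω)} (hK : Approx f K) {B : Set Ω} (hB : IsBlock K B)
    {g : Perm Ω} (hg : g ∈ partStab f) {x₁ : Ω} (hx₁ : x₁ ∈ B) (hfix : g x₁ = x₁) {y : Ω}
    (hy : y ∈ B) : g y ∈ B := by
  obtain ⟨g', hg'K, h1, h2⟩ := hK g hg x₁ y
  rw [← h2]
  exact mem_of_fixed hB hg'K hx₁ (h1.trans hfix) hy

omit [DecidableEq ι] in
theorem isPretransitive_of_approx
    (hcard : ∀ i j : ι, Nat.card {x // f x = i} = Nat.card {x // f x = j})
    (K : Subgroup (Perm Ω)) (hK : Approx f K) : IsPretransitive K Ω := by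
  classical
  refine ⟨fun u v => ?_⟩
  obtain ⟨g, hg, hgu⟩ := exists_mem_partStab_apply_eq f hcard u v
  obtain ⟨g', hg', h1, _⟩ := hK g hg u u
  exact ⟨⟨g', hg'⟩, h1.trans hgu⟩

/-- the blocks (containing a given point) of a group approximating the partition stabilizer -/
theorem block_trichotomy'
    (hcard : ∀ i j : ι, Nat.card {x // f x = i} = Nat.card {x // f x = j})
    (K : Subgroup (Perm Ω)) (hK : Approx f K) (B : Set Ω) (hB : IsBlock K B) (x₀ : Ω)
    (hx₀ : x₀ ∈ B) : B = {x₀} ∨ B = fibre f x₀ ∨ B = Set.univ := by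
  by_cases hcase : ∃ y ∈ B, f y ≠ f x₀
  · -- B is everything
    right; right
    obtain ⟨y, hyB, hy⟩ := hcase
    have hyx : y ≠ x₀ := fun h => hy (by rw [h])
    apply Set.eq_univ_of_forall
    intro w
    by_cases h1 : f w = f x₀
    · by_cases hw : w = x₀
      · rw [hw]; exact hx₀
      · have hyw : y ≠ w := fun h => hy (by rw [h, h1])
        have := mem_of_fixed' f hK hB (swap_mem_partStab f h1.symm) hyB
          (swap_apply_of_ne_of_ne hyx hyw) hx₀
        rwa [swap_apply_left] at this
    by_cases h2 : f w = f y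
    · by_cases hw : w = y
      · rw [hw]; exact hyB
      · have hx₀w : x₀ ≠ w := fun h => h1 (by rw [h])
        have := mem_of_fixed' f hK hB (swap_mem_partStab f h2.symm) hx₀
          (swap_apply_of_ne_of_ne hyx.symm hx₀w) hyB
        rwa [swap_apply_left] at this
    · -- third fibre
      have hne : f y ≠ f w := fun h => h2 h.symm
      obtain ⟨e⟩ : Nonempty ({z // f z = f y} ≃ {z // f z = f w}) := Finite.card_eq.mp (hcard _ _)
      have hσfix : fibreSwap f hne e x₀ = x₀ :=
        fibreSwap_apply_of_ne f hne e (fun h => hy h.symm) (fun h => h1 h.symm)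
      have hw' : fibreSwap f hne e y ∈ B :=
        mem_of_fixed' f hK hB (fibreSwap_mem_partStab f hne e) hx₀ hσfix hyB
      have hfw' : f (fibreSwap f hne e y) = f w := by
        rw [f_fibreSwap f hne e, swap_apply_left]
      by_cases hww : fibreSwap f hne e y = w
      · rw [← hww]; exact hw'
      · have hx₀w' : x₀ ≠ fibreSwap f hne e y := fun h => h1 (by rw [← hfw', ← h])
        have hx₀w : x₀ ≠ w := fun h => h1 (by rw [h])
        have := mem_of_fixed' f hK hB (swap_mem_partStab f hfw') hx₀
          (swap_apply_of_ne_of_ne hx₀w' hx₀w) hw'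
        rwa [swap_apply_left] at this
  · push Not at hcase
    by_cases hsing : B = {x₀}
    · exact Or.inl hsing
    · right; left
      have : ∃ y ∈ B, y ≠ x₀ := by
        by_contra hcon
        push Not at hcon
        apply hsing
        ext z
        simp only [Set.mem_singleton_iff]
        exact ⟨hcon z, fun h => h ▸ hx₀⟩
      obtain ⟨y, hyB, hyx⟩ := this
      apply Set.Subset.antisymm
      · intro z hz; exact hcase z hz
      · intro w hw
        rw [mem_fibre] at hw
        by_cases hwx : w = x₀
        · rw [hwx]; exact hx₀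
        by_cases hwy : w = y
        · rw [hwy]; exact hyB
        have h3 : f y = f w := by rw [hcase y hyB, hw]
        have := mem_of_fixed' f hK hB (swap_mem_partStab f h3) hx₀
          (swap_apply_of_ne_of_ne hyx.symm (Ne.symm hwx)) hyB
        rwa [swap_apply_left] at this

/-- an imprimitive transitive group approximating the partition stabilizer preserves the
partition -/
theorem le_partStab_of_not_isPreprimitive'
    (hcard : ∀ i j : ι, Nat.card {x // f x = i} = Nat.card {x // f x = j})
    (a : ℕ) (hfa : ∀ x₀ : Ω, (fibre f x₀).ncard = a) (ha1 : 1 < a) (han : a < Nat.card Ω)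
    (K : Subgroup (Perm Ω)) (hK : Approx f K) [IsPretransitive K Ω]
    (hnp : ¬ IsPreprimitive K Ω) : K ≤ partStab f := by
  have hne : Nonempty Ω := by
    by_contra h
    rw [not_nonempty_iff] at h
    have := Nat.card_of_isEmpty (α := Ω)
    omega
  obtain ⟨x₀⟩ := hne
  have : ∃ B : Set Ω, x₀ ∈ B ∧ IsBlock K B ∧ ¬ IsTrivialBlock B := by
    by_contra hcon
    push Not at hcon
    exact hnp (IsPreprimitive.of_isTrivialBlock_base x₀ (fun hx hB => hcon _ hx hB))
  obtain ⟨B, hx₀B, hB, hBnt⟩ := this
  have hBfib : B = fibre f x₀ := by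
    rcases block_trichotomy' f hcard K hK B hB x₀ hx₀B with h | h | h
    · exact absurd (Or.inl (h ▸ Set.subsingleton_singleton)) hBnt
    · exact h
    · exact absurd (Or.inr h) hBnt
  rw [hBfib] at hB
  -- every translate of a fibre is a fibre
  have key : ∀ (k : Perm Ω), k ∈ K → ∀ x : Ω, IsBlock K (fibre f x) →
      k • fibre f x = fibre f (k x) := by
    intro k hk x hx
    have hblock : IsBlock K (k • fibre f x) := hx.translate (⟨k, hk⟩ : K)
    have hmem : k x ∈ k • fibre f x := Set.smul_mem_smul_set (by rw [mem_fibre])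
    have hnc : (k • fibre f x).ncard = a := by rw [Set.ncard_smul_set, hfa]
    rcases block_trichotomy' f hcard K hK _ hblock (k x) hmem with h | h | h
    · exfalso
      rw [h, Set.ncard_singleton] at hnc
      omega
    · exact h
    · exfalso
      rw [h, Set.ncard_univ] at hnc
      omega
  have hall : ∀ x : Ω, IsBlock K (fibre f x) := by
    intro x
    obtain ⟨k, hk⟩ := exists_smul_eq K x₀ x
    have := key k k.2 x₀ hB
    have hkx : (k : Perm Ω) x₀ = x := hk
    rw [hkx] at this
    rw [← this]
    exact hB.translate k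
  intro k hk u v
  have h1 := key k hk u (hall u)
  constructor
  · intro huv
    have hv : v ∈ fibre f u := by rw [mem_fibre]; exact huv.symm
    have : k v ∈ k • fibre f u := Set.smul_mem_smul_set hv
    rw [h1, mem_fibre] at this
    exact this.symm
  · intro huv
    have : k v ∈ fibre f (k u) := by rw [mem_fibre]; exact huv.symm
    rw [← h1] at this
    obtain ⟨v', hv', hv'v⟩ := this
    have : v' = v := k.injective hv'v
    rw [this, mem_fibre] at hv'
    exact hv'.symm

end blocks

section picking

variable [Fintype Ω] [DecidableEq Ω] [Fintype ι] [DecidableEq ι] (f : Ω → ι) {a : ℕ}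
  (hf : ∀ i : ι, Nat.card {x : Ω // f x = i} = a)

omit [DecidableEq Ω] [Fintype ι] in
include hf in
theorem card_filter (i : ι) : (Finset.univ.filter (fun x => f x = i)).card = a := by
  rw [← hf i, Nat.card_eq_fintype_card, Fintype.card_subtype]

omit [Fintype ι] in
include hf in
/-- two distinct points of a fibre avoiding a small set -/
theorem exists_pair (i : ι) (S : Finset Ω) (hS : S.card + 2 ≤ a) :
    ∃ p q, p ≠ q ∧ f p = i ∧ f q = i ∧ p ∉ S ∧ q ∉ S := by
  have h1 := card_filter f hf i
  have h2 : 1 < ((Finset.univ.filter (fun x => f x = i)) \ S).card := by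
    have := Finset.le_card_sdiff S (Finset.univ.filter (fun x => f x = i))
    omega
  obtain ⟨p, hp, q, hq, hpq⟩ := Finset.one_lt_card.mp h2
  rw [Finset.mem_sdiff, Finset.mem_filter] at hp hq
  exact ⟨p, q, hpq, hp.1.2, hq.1.2, hp.2, hq.2⟩

omit [DecidableEq ι] in
theorem exists_index (T : Finset ι) (hT : T.card < Fintype.card ι) : ∃ j, j ∉ T := by
  by_contra hcon
  push Not at hcon
  have : T = Finset.univ := Finset.eq_univ_of_forall hcon
  rw [this, Finset.card_univ] at hT
  exact lt_irrefl _ hT

omit [Fintype ι] in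
include hf in
/-- a fibre of size two does not contain three distinct points -/
theorem two_of_three (ha : a = 2) {x y z : Ω} (hxy : f x = f y) (hxz : f x = f z) :
    x = y ∨ x = z ∨ y = z := by
  by_contra hcon
  push Not at hcon
  have h1 := card_filter f hf (f x)
  have h2 : ({x, y, z} : Finset Ω) ⊆ Finset.univ.filter (fun w => f w = f x) := by
    intro w hw
    simp only [Finset.mem_insert, Finset.mem_singleton] at hw
    rw [Finset.mem_filter]
    refine ⟨Finset.mem_univ _, ?_⟩
    rcases hw with rfl | rfl | rfl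
    · rfl
    · exact hxy.symm
    · exact hxz.symm
  have h3 := Finset.card_le_card h2
  rw [Finset.card_eq_three.mpr ⟨x, y, z, hcon.1, hcon.2.1, hcon.2.2, rfl⟩] at h3
  omega

omit [DecidableEq Ω] [Fintype ι] in
include hf in
/-- the other point of a fibre of size at least two -/
theorem exists_mate (ha : 2 ≤ a) (x : Ω) : ∃ x', x' ≠ x ∧ f x' = f x := by
  have h1 := card_filter f hf (f x)
  obtain ⟨x', hx', hne⟩ := Finset.exists_mem_ne (s := Finset.univ.filter (fun w => f w = f x))
    (by omega) x
  rw [Finset.mem_filter] at hx'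
  exact ⟨x', hne, hx'.2⟩

include hf in
/-- a pair of distinct points in one fibre avoiding two given points -/
theorem exists_pair_avoiding (ha : 2 ≤ a) (hb : 2 ≤ Fintype.card ι)
    (h : 3 ≤ a ∨ 3 ≤ Fintype.card ι) (x₁ y : Ω) :
    ∃ p q, p ≠ q ∧ f p = f q ∧ p ≠ x₁ ∧ p ≠ y ∧ q ≠ x₁ ∧ q ≠ y := by
  rcases h with h | h
  · obtain ⟨j, hj⟩ := exists_index ({f x₁} : Finset ι) (by rw [Finset.card_singleton]; omega)
    rw [Finset.mem_singleton] at hj
    obtain ⟨p, q, hpq, hp, hq, hpS, hqS⟩ := exists_pair f hf j {y}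
      (by rw [Finset.card_singleton]; omega)
    rw [Finset.mem_singleton] at hpS hqS
    refine ⟨p, q, hpq, hp.trans hq.symm, ?_, hpS, ?_, hqS⟩
    · intro h'; apply hj; rw [← hp, h']
    · intro h'; apply hj; rw [← hq, h']
  · obtain ⟨j, hj⟩ := exists_index ({f x₁, f y} : Finset ι)
      (lt_of_le_of_lt (Finset.card_le_two) (by omega))
    rw [Finset.mem_insert, Finset.mem_singleton] at hj
    push Not at hj
    obtain ⟨p, q, hpq, hp, hq, -, -⟩ := exists_pair f hf j ∅
      (by rw [Finset.card_empty]; omega)
    refine ⟨p, q, hpq, hp.trans hq.symm, ?_, ?_, ?_, ?_⟩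
    · intro h'; apply hj.1; rw [← hp, h']
    · intro h'; apply hj.2; rw [← hp, h']
    · intro h'; apply hj.1; rw [← hq, h']
    · intro h'; apply hj.2; rw [← hq, h']

omit [Fintype ι] [DecidableEq ι] in
/-- the even part of the partition stabilizer approximates the partition stabilizer -/
theorem approx_of_pairs (K : Subgroup (Perm Ω)) (hK : partStab f ⊓ alternatingGroup Ω ≤ K)
    (hpairs : ∀ x₁ y : Ω, ∃ p q, p ≠ q ∧ f p = f q ∧ p ≠ x₁ ∧ p ≠ y ∧ q ≠ x₁ ∧ q ≠ y) :
    Approx f K := by
  intro g hg x₁ y
  rcases Int.units_eq_one_or (Perm.sign g) with hs | hs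
  · exact ⟨g, hK (Subgroup.mem_inf.mpr ⟨hg, Perm.mem_alternatingGroup.mpr hs⟩), rfl, rfl⟩
  · obtain ⟨p, q, hpq, hfpq, hp1, hp2, hq1, hq2⟩ := hpairs x₁ y
    refine ⟨g * swap p q, hK (Subgroup.mem_inf.mpr
      ⟨Subgroup.mul_mem _ hg (swap_mem_partStab f hfpq), ?_⟩), ?_, ?_⟩
    · rw [Perm.mem_alternatingGroup, map_mul, hs, Perm.sign_swap hpq]
      rfl
    · rw [Perm.mul_apply, swap_apply_of_ne_of_ne hp1.symm hq1.symm]
    · rw [Perm.mul_apply, swap_apply_of_ne_of_ne hp2.symm hq2.symm]

end picking

section pairing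

variable [DecidableEq Ω] [DecidableEq ι] (f : Ω → ι)

/-- exchanging two fibres of size two by a double transposition -/
theorem swap_mul_swap_mem_partStab {A B C D : Ω} (hAC : f A = f C) (hBD : f B = f D)
    (hAB : A ≠ B) (hAC' : A ≠ C) (hAD : A ≠ D) (hBC : B ≠ C) (hBD' : B ≠ D) (hCD : C ≠ D)
    (hfA : ∀ z, f z = f A → z = A ∨ z = C) (hfB : ∀ z, f z = f B → z = B ∨ z = D) :
    swap A B * swap C D ∈ partStab f := by
  have key : ∀ x, f ((swap A B * swap C D) x) = swap (f A) (f B) (f x) := by
    intro x
    rw [Perm.mul_apply]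
    by_cases hxC : x = C
    · subst hxC
      rw [swap_apply_left, swap_apply_of_ne_of_ne hAD.symm hBD'.symm,
        ← hAC, swap_apply_left, hBD]
    by_cases hxD : x = D
    · subst hxD
      rw [swap_apply_right, swap_apply_of_ne_of_ne hAC'.symm hBC.symm, ← hBD,
        swap_apply_right, hAC]
    rw [swap_apply_of_ne_of_ne hxC hxD]
    by_cases hxA : x = A
    · subst hxA; rw [swap_apply_left, swap_apply_left]
    by_cases hxB : x = B
    · subst hxB; rw [swap_apply_right, swap_apply_right]
    rw [swap_apply_of_ne_of_ne hxA hxB, swap_apply_of_ne_of_ne]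
    · intro h
      rcases hfA x h with h' | h'
      · exact hxA h'
      · exact hxC h'
    · intro h
      rcases hfB x h with h' | h'
      · exact hxB h'
      · exact hxD h'
  intro x y
  rw [key, key]
  exact ((swap (f A) (f B)).injective.eq_iff).symm

end pairing

section pairing2

variable [Fintype Ω] [DecidableEq Ω] [DecidableEq ι] (f : Ω → ι) {a : ℕ}
  (hf : ∀ i : ι, Nat.card {x : Ω // f x = i} = a)

include hf in
/-- with fibres of size two, every double transposition whose support is a union of fibres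
preserves the partition -/
theorem pairing_mem_partStab (ha : a = 2) {A B C D : Ω}
    (hAB : A ≠ B) (hAC : A ≠ C) (hAD : A ≠ D) (hBC : B ≠ C) (hBD : B ≠ D) (hCD : C ≠ D)
    (hunion : ∀ z, (f z = f A ∨ f z = f B ∨ f z = f C ∨ f z = f D) →
      (z = A ∨ z = B ∨ z = C ∨ z = D)) :
    swap A B * swap C D ∈ partStab f := by
  have h3 : ∀ {x y z : Ω}, f x = f y → f x = f z → x ≠ y → x ≠ z → y ≠ z → False := by
    intro x y z h1 h2 n1 n2 n3
    rcases two_of_three f hf ha h1 h2 with h | h | h
    · exact n1 h
    · exact n2 h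
    · exact n3 h
  obtain ⟨A', hA'ne, hA'f⟩ := exists_mate f hf (by omega) A
  obtain ⟨B', hB'ne, hB'f⟩ := exists_mate f hf (by omega) B
  obtain ⟨C', hC'ne, hC'f⟩ := exists_mate f hf (by omega) C
  rcases hunion A' (Or.inl hA'f) with h | h | h | h
  · exact absurd h hA'ne
  · -- mate of A is B
    have hfBA : f A = f B := by rw [← h]; exact hA'f.symm
    have hCD' : f C = f D := by
      rcases hunion C' (Or.inr (Or.inr (Or.inl hC'f))) with h' | h' | h' | h'
      · have e : f A = f C := by rw [← h']; exact hC'f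
        exact (h3 hfBA e hAB hAC hBC).elim
      · have e : f B = f C := by rw [← h']; exact hC'f
        exact (h3 hfBA (hfBA.trans e) hAB hAC hBC).elim
      · exact absurd h' hC'ne
      · rw [← h']; exact hC'f.symm
    exact Subgroup.mul_mem _ (swap_mem_partStab f hfBA) (swap_mem_partStab f hCD')
  · -- mate of A is C
    have hfAC : f A = f C := by rw [← h]; exact hA'f.symm
    have hBD' : f B = f D := by
      rcases hunion B' (Or.inr (Or.inl hB'f)) with h' | h' | h' | h'
      · have e : f A = f B := by rw [← h']; exact hB'f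
        exact (h3 e hfAC hAB hAC hBC).elim
      · exact absurd h' hB'ne
      · have e : f C = f B := by rw [← h']; exact hB'f
        exact (h3 (hfAC.trans e) hfAC hAB hAC hBC).elim
      · rw [← h']; exact hB'f.symm
    refine swap_mul_swap_mem_partStab f hfAC hBD' hAB hAC hAD hBC hBD hCD ?_ ?_
    · intro z hz
      by_contra hcon
      push Not at hcon
      exact h3 hz (hz.trans hfAC) hcon.1 hcon.2 hAC
    · intro z hz
      by_contra hcon
      push Not at hcon
      exact h3 hz (hz.trans hBD') hcon.1 hcon.2 hBD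
  · -- mate of A is D
    have hfAD : f A = f D := by rw [← h]; exact hA'f.symm
    have hBC' : f B = f C := by
      rcases hunion B' (Or.inr (Or.inl hB'f)) with h' | h' | h' | h'
      · have e : f A = f B := by rw [← h']; exact hB'f
        exact (h3 e hfAD hAB hAD hBD).elim
      · exact absurd h' hB'ne
      · rw [← h']; exact hB'f.symm
      · have e : f D = f B := by rw [← h']; exact hB'f
        exact (h3 (hfAD.trans e) hfAD hAB hAD hBD).elim
    rw [swap_comm C D]
    refine swap_mul_swap_mem_partStab f hfAD hBC' hAB hAD hAC hBD hBC hCD.symm ?_ ?_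
    · intro z hz
      by_contra hcon
      push Not at hcon
      exact h3 hz (hz.trans hfAD) hcon.1 hcon.2 hAD
    · intro z hz
      by_contra hcon
      push Not at hcon
      exact h3 hz (hz.trans hBC') hcon.1 hcon.2 hBC

end pairing2

end Cfsg.Agent.Lib.Helper98_ImprimAlt
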