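/-
Helper library (helper98): the group `X = ⟨Q, Q^g⟩` generated by a pair of conjugate large
extraspecial subgroups, modulo `R`: `X / R` is the symmetric group of degree three.
(on top of `Helper98_LESPair`).
-/
import Mathlib
import Cfsg.Agent.Lib.Helper98_LESPair

set_option autoImplicit false

namespace Cfsg.Agent.Lib.Helper98_LESPair2

open Cfsg
open Cfsg.Agent.Lib.Helper93_LES Cfsg.Agent.Lib.Helper98_LESGen Cfsg.Agent.Lib.Helper98_LESPair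
open scoped commutatorElement

section s3

open Equiv

/-- the candidate map from the symmetric group on three letters (as in helper8's `S0444`) -/
def psi {G : Type*} [Group G] (d e : G) (σ : Perm (Fin 3)) : G :=
  if σ = 1 then 1
  else if σ = swap 0 1 then d
  else if σ = swap 1 2 then e
  else if σ = swap 0 1 * swap 1 2 then d * e
  else if σ = swap 1 2 * swap 0 1 then e * d
  else d * e * d

theorem psi_spec {G : Type*} [Group G] (d e : G) (σ : Perm (Fin 3)) :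
    (σ = 1 ∧ psi d e σ = 1) ∨ (σ = swap 0 1 ∧ psi d e σ = d) ∨ (σ = swap 1 2 ∧ psi d e σ = e) ∨
    (σ = swap 0 1 * swap 1 2 ∧ psi d e σ = d * e) ∨
    (σ = swap 1 2 * swap 0 1 ∧ psi d e σ = e * d) ∨
    (σ = swap 0 1 * swap 1 2 * swap 0 1 ∧ psi d e σ = d * e * d) := by
  have all6 : ∀ σ : Perm (Fin 3), σ = 1 ∨ σ = swap 0 1 ∨ σ = swap 1 2 ∨ σ = swap 0 1 * swap 1 2 ∨
      σ = swap 1 2 * swap 0 1 ∨ σ = swap 0 1 * swap 1 2 * swap 0 1 := by decide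
  rcases all6 σ with h | h | h | h | h | h
  · left; exact ⟨h, by rw [h]; unfold psi; rw [if_pos rfl]⟩
  · right; left
    refine ⟨h, ?_⟩
    rw [h]; unfold psi
    rw [if_neg (by decide), if_pos rfl]
  · right; right; left
    refine ⟨h, ?_⟩
    rw [h]; unfold psi
    rw [if_neg (by decide), if_neg (by decide), if_pos rfl]
  · right; right; right; left
    refine ⟨h, ?_⟩
    rw [h]; unfold psi
    rw [if_neg (by decide), if_neg (by decide), if_neg (by decide), if_pos rfl]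
  · right; right; right; right; left
    refine ⟨h, ?_⟩
    rw [h]; unfold psi
    rw [if_neg (by decide), if_neg (by decide), if_neg (by decide), if_neg (by decide), if_pos rfl]
  · right; right; right; right; right
    refine ⟨h, ?_⟩
    rw [h]; unfold psi
    rw [if_neg (by decide), if_neg (by decide), if_neg (by decide), if_neg (by decide),
      if_neg (by decide)]

theorem psi_mul {G : Type*} [Group G] (d e : G) (hdd : d * d = 1) (hee : e * e = 1)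
    (hbr : e * d * e = d * e * d) (σ τ : Perm (Fin 3)) :
    psi d e (σ * τ) = psi d e σ * psi d e τ := by
  have hdd' : ∀ x, d * (d * x) = x := fun x => by rw [← mul_assoc, hdd, one_mul]
  have hee' : ∀ x, e * (e * x) = x := fun x => by rw [← mul_assoc, hee, one_mul]
  have hbr1 : e * (d * e) = d * (e * d) := by rw [← mul_assoc, hbr, mul_assoc]
  have hbr' : ∀ x, e * (d * (e * x)) = d * (e * (d * x)) := fun x => by
    rw [← mul_assoc, ← mul_assoc, hbr]; simp only [mul_assoc]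
  rcases psi_spec d e σ with ⟨h1, v1⟩ | ⟨h1, v1⟩ | ⟨h1, v1⟩ | ⟨h1, v1⟩ | ⟨h1, v1⟩ | ⟨h1, v1⟩ <;>
  rcases psi_spec d e τ with ⟨h2, v2⟩ | ⟨h2, v2⟩ | ⟨h2, v2⟩ | ⟨h2, v2⟩ | ⟨h2, v2⟩ | ⟨h2, v2⟩ <;>
  rcases psi_spec d e (σ * τ) with ⟨h3, v3⟩ | ⟨h3, v3⟩ | ⟨h3, v3⟩ | ⟨h3, v3⟩ | ⟨h3, v3⟩ |
    ⟨h3, v3⟩ <;>
  (rw [h1, h2] at h3;
   first
   | exact absurd h3 (by decide)
   | (simp only [v1, v2, v3, mul_assoc, mul_one, one_mul, hdd, hee, hdd', hee', hbr1, hbr']))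

/-- a group generated by two distinct non-trivial involutions satisfying the braid relation
is the symmetric group on three letters -/
theorem nonempty_mulEquiv_S3 {H : Type*} [Group H] (d e : H) (hdd : d * d = 1) (hee : e * e = 1)
    (hbr : e * d * e = d * e * d) (hd1 : d ≠ 1) (he1 : e ≠ 1) (hde : d ≠ e)
    (hgen : ∀ K : Subgroup H, d ∈ K → e ∈ K → K = ⊤) :
    ∃ F : Perm (Fin 3) ≃* H, ∀ σ, F σ = psi d e σ := by
  let f : Perm (Fin 3) →* H :=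
    { toFun := psi d e
      map_one' := by unfold psi; rw [if_pos rfl]
      map_mul' := psi_mul d e hdd hee hbr }
  have hf : ∀ σ, f σ = psi d e σ := fun σ => rfl
  have hinj : Function.Injective f := by
    rw [injective_iff_map_eq_one]
    intro σ hσ
    rw [hf] at hσ
    rcases psi_spec d e σ with ⟨h1, v1⟩ | ⟨h1, v1⟩ | ⟨h1, v1⟩ | ⟨h1, v1⟩ | ⟨h1, v1⟩ | ⟨h1, v1⟩
    · exact h1
    · rw [v1] at hσ; exact absurd hσ hd1
    · rw [v1] at hσ; exact absurd hσ he1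
    · rw [v1] at hσ
      exfalso; apply hde
      have : d = e⁻¹ := eq_inv_of_mul_eq_one_left hσ
      rw [this, inv_eq_of_mul_eq_one_left hee]
    · rw [v1] at hσ
      exfalso; apply hde
      have : e = d⁻¹ := eq_inv_of_mul_eq_one_left hσ
      rw [this, inv_eq_of_mul_eq_one_left hdd]
    · rw [v1] at hσ
      exfalso; apply he1
      have h2 : d * (d * e * d) * d = d * 1 * d := by rw [hσ]
      simp only [mul_assoc, hdd, mul_one] at h2
      rw [← mul_assoc, hdd, one_mul] at h2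
      exact h2
  have hsurj : Function.Surjective f := by
    have hr : f.range = ⊤ := by
      apply hgen
      · refine ⟨swap 0 1, ?_⟩
        rw [hf]
        rcases psi_spec d e (swap 0 1) with ⟨h1, v1⟩ | ⟨h1, v1⟩ | ⟨h1, v1⟩ | ⟨h1, v1⟩ | ⟨h1, v1⟩ |
          ⟨h1, v1⟩
        · exact absurd h1 (by decide)
        · exact v1
        · exact absurd h1 (by decide)
        · exact absurd h1 (by decide)
        · exact absurd h1 (by decide)
        · exact absurd h1 (by decide)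
      · refine ⟨swap 1 2, ?_⟩
        rw [hf]
        rcases psi_spec d e (swap 1 2) with ⟨h1, v1⟩ | ⟨h1, v1⟩ | ⟨h1, v1⟩ | ⟨h1, v1⟩ | ⟨h1, v1⟩ |
          ⟨h1, v1⟩
        · exact absurd h1 (by decide)
        · exact absurd h1 (by decide)
        · exact v1
        · exact absurd h1 (by decide)
        · exact absurd h1 (by decide)
        · exact absurd h1 (by decide)
    exact MonoidHom.range_eq_top.mp hr
  exact ⟨MulEquiv.ofBijective f ⟨hinj, hsurj⟩, fun σ => rfl⟩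

/-- a normal 2-subgroup of the symmetric group on three letters is trivial -/
theorem normal_two_subgroup_S3 (N : Subgroup (Perm (Fin 3))) (hN : N.Normal) (h2 : IsPGroup 2 N) :
    N = ⊥ := by
  rw [eq_bot_iff]
  intro σ hσ
  rw [Subgroup.mem_bot]
  by_contra hne
  have key : ∀ σ : Perm (Fin 3), σ ≠ 1 →
      ∃ τ : Perm (Fin 3), σ * (τ * σ * τ⁻¹) ≠ 1 ∧ (σ * (τ * σ * τ⁻¹)) ^ 3 = 1 := by
    set_option maxRecDepth 100000 in decide
  obtain ⟨τ, h1, h3⟩ := key σ hne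
  have hmem : σ * (τ * σ * τ⁻¹) ∈ N := N.mul_mem hσ (hN.conj_mem σ hσ τ)
  obtain ⟨k, hk⟩ := h2 ⟨_, hmem⟩
  have hk' : (σ * (τ * σ * τ⁻¹)) ^ 2 ^ k = 1 := by
    have := congrArg Subtype.val hk
    simpa using this
  have hord : orderOf (σ * (τ * σ * τ⁻¹)) ∣ Nat.gcd (2 ^ k) 3 :=
    Nat.dvd_gcd (orderOf_dvd_of_pow_eq_one hk') (orderOf_dvd_of_pow_eq_one h3)
  have hg : Nat.gcd (2 ^ k) 3 = 1 := by
    apply Nat.Coprime.pow_left
    decide
  rw [hg, Nat.dvd_one, orderOf_eq_one_iff] at hord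
  exact h1 hord

end s3

section upair

variable {G : Type*} [Group G] {Q1 Q2 : Subgroup G} {z1 z2 : G}

/-- the part of `Q` commuting with `z` -/
def AA (Q : Subgroup G) (z : G) : Subgroup G := Q ⊓ Subgroup.centralizer ({z} : Set G)

theorem mem_AA {Q : Subgroup G} {z a : G} : a ∈ AA Q z ↔ a ∈ Q ∧ z * a = a * z := by
  unfold AA
  rw [Subgroup.mem_inf, mem_cs]

/-- the subgroup `R` attached to a pair -/
def RR (Q1 Q2 : Subgroup G) (z1 z2 : G) : Subgroup G := AA Q2 z1 ⊔ AA Q1 z2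

theorem RR_comm : RR Q1 Q2 z1 z2 = RR Q2 Q1 z2 z1 := by
  unfold RR; rw [sup_comm]

theorem RR_eq_closure : RR Q1 Q2 z1 z2 =
    Subgroup.closure (((AA Q2 z1 : Subgroup G) : Set G) ∪ ((AA Q1 z2 : Subgroup G) : Set G)) := by
  unfold RR
  rw [Subgroup.closure_union, Subgroup.closure_eq, Subgroup.closure_eq]

theorem A_le_RR : AA Q2 z1 ≤ RR Q1 Q2 z1 z2 := le_sup_left

theorem D_le_RR : AA Q1 z2 ≤ RR Q1 Q2 z1 z2 := le_sup_right

/-- a `Pair` in which `Q2` is determined by `z2` as a conjugate of `Q1` -/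
structure UPair (Q1 Q2 : Subgroup G) (z1 z2 : G) : Prop where
  p : Pair Q1 Q2 z1 z2
  uniq : ∀ k : G, k * z1 * k⁻¹ = z2 → ∀ a : G, a ∈ Q2 ↔ k⁻¹ * a * k ∈ Q1

theorem UPair.symm (h : UPair Q1 Q2 z1 z2) : UPair Q2 Q1 z2 z1 := by
  refine ⟨h.p.symm, ?_⟩
  intro k hk a
  have hk' : k⁻¹ * z1 * k⁻¹⁻¹ = z2 := by
    rw [← hk]; group
  have := h.uniq k⁻¹ hk' (k⁻¹ * a * k)
  rw [this]
  have e : k⁻¹⁻¹ * (k⁻¹ * a * k) * k⁻¹ = a := by group
  rw [e]

theorem UPair.RR_le_cent1 (h : UPair Q1 Q2 z1 z2) :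
    RR Q1 Q2 z1 z2 ≤ Subgroup.centralizer ({z1} : Set G) := h.p.R_le_cent

theorem UPair.RR_le_cent2 (h : UPair Q1 Q2 z1 z2) :
    RR Q1 Q2 z1 z2 ≤ Subgroup.centralizer ({z2} : Set G) := by
  rw [RR_comm]; exact h.p.symm.R_le_cent

theorem UPair.exists_flip (h : UPair Q1 Q2 z1 z2) : ∃ q ∈ Q1, q * z2 * q⁻¹ = z2 * z1 :=
  exists_q0 Q1 h.p.l1 h.p.m21 h.p.l2.ne_one h.p.ne.symm

theorem UPair.conj_z1 (h : UPair Q1 Q2 z1 z2) {a : G} (ha : a ∈ Q1) : a * z1 * a⁻¹ = z1 := by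
  rw [h.p.l1.central a ha]; group

/-- the inverse of a flip is a flip -/
theorem UPair.flip_inv (h : UPair Q1 Q2 z1 z2) {q : G} (hq : q ∈ Q1)
    (hqf : q * z2 * q⁻¹ = z2 * z1) : q⁻¹ * z2 * q = z2 * z1 := by
  have hq1 : q⁻¹ * z1 * q = z1 := by
    have := h.conj_z1 (Q1.inv_mem hq)
    rwa [inv_inv] at this
  calc q⁻¹ * z2 * q = q⁻¹ * (z2 * z1 * z1) * q := by rw [mul_assoc z2, h.p.l1.sq, mul_one]
    _ = q⁻¹ * (q * z2 * q⁻¹ * z1) * q := by rw [hqf]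
    _ = z2 * (q⁻¹ * z1 * q) := by group
    _ = z2 * z1 := by rw [hq1]

theorem UPair.flip_z3 (h : UPair Q1 Q2 z1 z2) {q : G} (hq : q ∈ Q1)
    (hqf : q * z2 * q⁻¹ = z2 * z1) : q * (z2 * z1) * q⁻¹ = z2 := by
  have := h.flip_inv hq hqf
  rw [← this]; group

/-- conjugating by a flip preserves commutation with `z2` for elements commuting with `z1`, `z2` -/
theorem UPair.flip_conj_comm (h : UPair Q1 Q2 z1 z2) {q : G} (hq : q ∈ Q1)
    (hqf : q * z2 * q⁻¹ = z2 * z1) {s : G} (hs1 : z1 * s = s * z1) (hs2 : z2 * s = s * z2) :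
    z2 * (q * s * q⁻¹) = (q * s * q⁻¹) * z2 := by
  have hz := h.flip_z3 hq hqf
  have hs21 : (z2 * z1) * s = s * (z2 * z1) := by
    calc (z2 * z1) * s = z2 * (z1 * s) := by group
      _ = z2 * (s * z1) := by rw [hs1]
      _ = (z2 * s) * z1 := by group
      _ = (s * z2) * z1 := by rw [hs2]
      _ = s * (z2 * z1) := by group
  calc z2 * (q * s * q⁻¹) = (q * (z2 * z1) * q⁻¹) * (q * s * q⁻¹) := by rw [hz]
    _ = q * ((z2 * z1) * s) * q⁻¹ := by group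
    _ = q * (s * (z2 * z1)) * q⁻¹ := by rw [hs21]
    _ = (q * s * q⁻¹) * (q * (z2 * z1) * q⁻¹) := by group
    _ = (q * s * q⁻¹) * z2 := by rw [hz]

/-- every element of `Q1` is a fix or a flip -/
theorem UPair.fix_or_flip (h : UPair Q1 Q2 z1 z2) {a : G} (ha : a ∈ Q1) :
    z2 * a = a * z2 ∨ a * z2 * a⁻¹ = z2 * z1 := by
  rcases h.p.l1.comm a ha z2 h.p.m21 with h1 | h1
  · left
    calc z2 * a = (a * z2 * a⁻¹ * z2⁻¹)⁻¹ * a * z2 := by group
      _ = a * z2 := by rw [h1]; group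
  · right
    calc a * z2 * a⁻¹ = (a * z2 * a⁻¹ * z2⁻¹) * z2 := by group
      _ = z1 * z2 := by rw [h1]
      _ = z2 * z1 := h.p.comm12

/-- conjugation by `Q1` preserves commutation with `z2` for elements commuting with `z1`, `z2` -/
theorem UPair.conj_comm (h : UPair Q1 Q2 z1 z2) {a : G} (ha : a ∈ Q1) {s : G}
    (hs1 : z1 * s = s * z1) (hs2 : z2 * s = s * z2) :
    z2 * (a * s * a⁻¹) = (a * s * a⁻¹) * z2 := by
  rcases h.fix_or_flip ha with h1 | h1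
  · have h1' : z2 * a⁻¹ = a⁻¹ * z2 := by
      calc z2 * a⁻¹ = a⁻¹ * (a * z2) * a⁻¹ := by group
        _ = a⁻¹ * (z2 * a) * a⁻¹ := by rw [h1]
        _ = a⁻¹ * z2 := by group
    calc z2 * (a * s * a⁻¹) = (z2 * a) * s * a⁻¹ := by group
      _ = a * (z2 * s) * a⁻¹ := by rw [h1]; group
      _ = a * s * (z2 * a⁻¹) := by rw [hs2]; group
      _ = (a * s * a⁻¹) * z2 := by rw [h1']; group
  · exact h.flip_conj_comm ha h1 hs1 hs2

/-- index two: every element of `Q1` lies in `D` or in `q D` -/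
theorem UPair.flip_or (h : UPair Q1 Q2 z1 z2) {q : G} (hq : q ∈ Q1)
    (hqf : q * z2 * q⁻¹ = z2 * z1) {a : G} (ha : a ∈ Q1) :
    a ∈ AA Q1 z2 ∨ q⁻¹ * a ∈ AA Q1 z2 := by
  rcases h.fix_or_flip ha with h1 | h1
  · left; exact mem_AA.mpr ⟨ha, h1⟩
  · right
    refine mem_AA.mpr ⟨Q1.mul_mem (Q1.inv_mem hq) ha, ?_⟩
    have hz := h.flip_z3 hq hqf
    have e1 : q⁻¹ * (z2 * z1) * q = z2 := by
      have := h.flip_inv hq hqf
      calc q⁻¹ * (z2 * z1) * q = (q⁻¹ * z2 * q) * (q⁻¹ * z1 * q) := by group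
        _ = (z2 * z1) * (q⁻¹ * z1 * q) := by rw [this]
        _ = (z2 * z1) * z1 := by
          have h2 := h.conj_z1 (Q1.inv_mem hq)
          rw [inv_inv] at h2
          rw [h2]
        _ = z2 := by rw [mul_assoc, h.p.l1.sq, mul_one]
    calc z2 * (q⁻¹ * a) = (q⁻¹ * (z2 * z1) * q) * (q⁻¹ * a) := by rw [e1]
      _ = q⁻¹ * (z2 * z1) * a := by group
      _ = q⁻¹ * (a * z2 * a⁻¹) * a := by rw [h1]
      _ = (q⁻¹ * a) * z2 := by group

/-- `Q1` normalizes `R` -/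
theorem UPair.conj_Q1_RR (h : UPair Q1 Q2 z1 z2) {a : G} (ha : a ∈ Q1) :
    ∀ r ∈ RR Q1 Q2 z1 z2, a * r * a⁻¹ ∈ RR Q1 Q2 z1 z2 := by
  rw [RR_eq_closure]
  apply conj_mem_closure
  rw [← RR_eq_closure]
  rintro s (hs | hs)
  · -- s ∈ A
    have hs' := mem_AA.mp hs
    have hs2 : z2 * s = s * z2 := (h.p.l2.central s hs'.1).symm
    have hc1 : a * s * a⁻¹ * s⁻¹ ∈ Q1 := by
      have e1 : a * s * a⁻¹ * s⁻¹ = a * (s * a⁻¹ * s⁻¹) := by group
      rw [e1]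
      exact Q1.mul_mem ha (h.p.n1 s hs'.2.symm a⁻¹ (Q1.inv_mem ha))
    have hc2 : a * s * a⁻¹ * s⁻¹ ∈ Subgroup.centralizer ({z2} : Set G) := by
      apply Subgroup.mul_mem
      · exact mem_cs.mpr (h.conj_comm ha hs'.2 hs2)
      · exact Subgroup.inv_mem _ (mem_cs.mpr hs2)
    have e2 : a * s * a⁻¹ = (a * s * a⁻¹ * s⁻¹) * s := by group
    rw [e2]
    exact Subgroup.mul_mem _ (D_le_RR (mem_AA.mpr ⟨hc1, mem_cs.mp hc2⟩)) (A_le_RR hs)
  · -- s ∈ D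
    have hs' := mem_AA.mp hs
    have hs1 : z1 * s = s * z1 := (h.p.l1.central s hs'.1).symm
    apply D_le_RR
    exact mem_AA.mpr ⟨Q1.mul_mem (Q1.mul_mem ha hs'.1) (Q1.inv_mem ha), h.conj_comm ha hs1 hs'.2⟩

theorem UPair.Q1_le_normalizer (h : UPair Q1 Q2 z1 z2) :
    Q1 ≤ Subgroup.normalizer ((RR Q1 Q2 z1 z2 : Subgroup G) : Set G) := by
  intro a ha
  rw [Subgroup.mem_normalizer_iff]
  intro r
  constructor
  · exact h.conj_Q1_RR ha r
  · intro hr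
    have := h.conj_Q1_RR (Q1.inv_mem ha) _ hr
    have e : a⁻¹ * (a * r * a⁻¹) * a⁻¹⁻¹ = r := by group
    rwa [e] at this

theorem UPair.X_le_normalizer (h : UPair Q1 Q2 z1 z2) :
    Q1 ⊔ Q2 ≤ Subgroup.normalizer ((RR Q1 Q2 z1 z2 : Subgroup G) : Set G) := by
  apply sup_le h.Q1_le_normalizer
  have := h.symm.Q1_le_normalizer
  rwa [← RR_comm] at this

theorem UPair.RR_le_X (h : UPair Q1 Q2 z1 z2) : RR Q1 Q2 z1 z2 ≤ Q1 ⊔ Q2 := h.p.R_le_X

theorem UPair.RR_normal (h : UPair Q1 Q2 z1 z2) :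
    ((RR Q1 Q2 z1 z2).subgroupOf (Q1 ⊔ Q2)).Normal :=
  (Subgroup.normal_subgroupOf_iff_le_normalizer h.RR_le_X).mpr h.X_le_normalizer

end upair

section quot

variable {G : Type*} [Group G] {Q1 Q2 : Subgroup G} {z1 z2 q t : G}

/-- a pair together with flips `q ∈ Q1` and `t ∈ Q2` -/
structure Flips (Q1 Q2 : Subgroup G) (z1 z2 q t : G) : Prop where
  u : UPair Q1 Q2 z1 z2
  hq : q ∈ Q1
  hqf : q * z2 * q⁻¹ = z2 * z1
  ht : t ∈ Q2
  htf : t * z1 * t⁻¹ = z1 * z2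

theorem UPair.exists_flips (h : UPair Q1 Q2 z1 z2) : ∃ q t : G, Flips Q1 Q2 z1 z2 q t := by
  obtain ⟨q, hq, hqf⟩ := h.exists_flip
  obtain ⟨t, ht, htf⟩ := h.symm.exists_flip
  exact ⟨q, t, h, hq, hqf, ht, htf⟩

theorem Flips.symm (F : Flips Q1 Q2 z1 z2 q t) : Flips Q2 Q1 z2 z1 t q :=
  ⟨F.u.symm, F.ht, F.htf, F.hq, F.hqf⟩

theorem Flips.q_not_mem (F : Flips Q1 Q2 z1 z2 q t) : q ∉ RR Q1 Q2 z1 z2 := by
  intro hmem
  have h1 := mem_cs.mp (F.u.RR_le_cent2 hmem)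
  have h2 : q * z2 * q⁻¹ = z2 := by rw [← h1]; group
  rw [F.hqf] at h2
  apply F.u.p.l1.ne_one
  calc z1 = z2⁻¹ * (z2 * z1) := by group
    _ = 1 := by rw [h2]; group

theorem Flips.t_not_mem (F : Flips Q1 Q2 z1 z2 q t) : t ∉ RR Q1 Q2 z1 z2 := by
  rw [RR_comm]; exact F.symm.q_not_mem

/-- `q⁻¹ t` maps `z1` to `z2` -/
theorem Flips.qt_conj (F : Flips Q1 Q2 z1 z2 q t) : (q⁻¹ * t) * z1 * (q⁻¹ * t)⁻¹ = z2 := by
  have h1 := F.u.flip_inv F.hq F.hqf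
  have h2 : q⁻¹ * z1 * q = z1 := by
    have := F.u.conj_z1 (Q1.inv_mem F.hq)
    rwa [inv_inv] at this
  calc (q⁻¹ * t) * z1 * (q⁻¹ * t)⁻¹ = q⁻¹ * (t * z1 * t⁻¹) * q := by group
    _ = q⁻¹ * (z1 * z2) * q := by rw [F.htf]
    _ = (q⁻¹ * z1 * q) * (q⁻¹ * z2 * q) := by group
    _ = z1 * (z2 * z1) := by rw [h1, h2]
    _ = z1 * (z1 * z2) := by rw [F.u.p.comm12]
    _ = z2 := by rw [← mul_assoc, F.u.p.l1.sq, one_mul]

theorem Flips.qt_not_mem (F : Flips Q1 Q2 z1 z2 q t) : q⁻¹ * t ∉ RR Q1 Q2 z1 z2 := by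
  intro hmem
  have h1 := mem_cs.mp (F.u.RR_le_cent1 hmem)
  have h2 : (q⁻¹ * t) * z1 * (q⁻¹ * t)⁻¹ = z1 := by rw [← h1]; group
  rw [F.qt_conj] at h2
  exact F.u.p.ne h2.symm

/-- the key membership giving the braid relation -/
theorem Flips.key_mem (F : Flips Q1 Q2 z1 z2 q t) : q⁻¹ * t * q * t⁻¹ * q ∈ Q2 := by
  rw [F.u.uniq (q⁻¹ * t) F.qt_conj]
  have e : (q⁻¹ * t)⁻¹ * (q⁻¹ * t * q * t⁻¹ * q) * (q⁻¹ * t) = q := by group
  rw [e]; exact F.hq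

theorem Flips.qq_mem (F : Flips Q1 Q2 z1 z2 q t) : q * q ∈ RR Q1 Q2 z1 z2 := by
  rcases F.u.p.s1 q F.hq with h | h
  · rw [h]; exact Subgroup.one_mem _
  · rw [h]; exact F.u.p.E_le_R F.u.p.z1_mem_E

theorem Flips.tt_mem (F : Flips Q1 Q2 z1 z2 q t) : t * t ∈ RR Q1 Q2 z1 z2 := by
  rw [RR_comm]; exact F.symm.qq_mem

theorem Flips.q_mem_X (F : Flips Q1 Q2 z1 z2 q t) : q ∈ Q1 ⊔ Q2 :=
  (le_sup_left : Q1 ≤ Q1 ⊔ Q2) F.hq

theorem Flips.t_mem_X (F : Flips Q1 Q2 z1 z2 q t) : t ∈ Q1 ⊔ Q2 :=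
  (le_sup_right : Q2 ≤ Q1 ⊔ Q2) F.ht

open Equiv in
/-- `X / R` is the symmetric group on three letters -/
theorem Flips.exists_iso (F : Flips Q1 Q2 z1 z2 q t)
    [hn : ((RR Q1 Q2 z1 z2).subgroupOf (Q1 ⊔ Q2)).Normal] :
    ∃ Φ : Perm (Fin 3) ≃* (↥(Q1 ⊔ Q2) ⧸ (RR Q1 Q2 z1 z2).subgroupOf (Q1 ⊔ Q2)),
      ∀ σ, Φ σ = psi (QuotientGroup.mk' ((RR Q1 Q2 z1 z2).subgroupOf (Q1 ⊔ Q2)) ⟨q, F.q_mem_X⟩)
        (QuotientGroup.mk' ((RR Q1 Q2 z1 z2).subgroupOf (Q1 ⊔ Q2)) ⟨t, F.t_mem_X⟩) σ := by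
  set X : Subgroup G := Q1 ⊔ Q2 with hX
  set R' : Subgroup ↥X := (RR Q1 Q2 z1 z2).subgroupOf X with hR'
  set π : ↥X →* ↥X ⧸ R' := QuotientGroup.mk' R' with hπdef
  have hπ : ∀ x : ↥X, π x = 1 ↔ (x : G) ∈ RR Q1 Q2 z1 z2 := by
    intro x
    rw [← MonoidHom.mem_ker, QuotientGroup.ker_mk', hR', Subgroup.mem_subgroupOf]
  set a : ↥X ⧸ R' := π ⟨q, F.q_mem_X⟩ with ha
  set b : ↥X ⧸ R' := π ⟨t, F.t_mem_X⟩ with hb
  have haa : a * a = 1 := by
    rw [ha, ← map_mul, hπ]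
    exact F.qq_mem
  have hbb : b * b = 1 := by
    rw [hb, ← map_mul, hπ]
    exact F.tt_mem
  have hainv : a⁻¹ = a := inv_eq_of_mul_eq_one_left haa
  have hbinv : b⁻¹ = b := inv_eq_of_mul_eq_one_left hbb
  have ha1 : a ≠ 1 := by
    intro h
    rw [ha, hπ] at h
    exact F.q_not_mem h
  have hb1 : b ≠ 1 := by
    intro h
    rw [hb, hπ] at h
    exact F.t_not_mem h
  have hab : a ≠ b := by
    intro h
    have h1 : a⁻¹ * b = 1 := by rw [h]; group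
    rw [ha, hb, ← map_inv, ← map_mul, hπ] at h1
    exact F.qt_not_mem h1
  -- the braid relation
  have hbr : b * a * b = a * b * a := by
    have hk := F.key_mem
    have hkX : q⁻¹ * t * q * t⁻¹ * q ∈ X := (le_sup_right : Q2 ≤ X) hk
    have hπk : π ⟨q⁻¹ * t * q * t⁻¹ * q, hkX⟩ = a⁻¹ * b * a * b⁻¹ * a := by
      rw [ha, hb, ← map_inv, ← map_inv, ← map_mul, ← map_mul, ← map_mul, ← map_mul]
      rfl
    rcases F.symm.u.flip_or F.ht F.htf hk with h1 | h1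
    · exfalso
      have h2 : π ⟨q⁻¹ * t * q * t⁻¹ * q, hkX⟩ = 1 := by
        rw [hπ]; exact A_le_RR h1
      rw [hπk] at h2
      apply ha1
      calc a = (a⁻¹ * b)⁻¹ * (a⁻¹ * b * a * b⁻¹ * a) * (a⁻¹ * b) := by group
        _ = 1 := by rw [h2]; group
    · have htk : t⁻¹ * (q⁻¹ * t * q * t⁻¹ * q) ∈ X :=
        X.mul_mem (X.inv_mem F.t_mem_X) hkX
      have h2 : π ⟨t⁻¹ * (q⁻¹ * t * q * t⁻¹ * q), htk⟩ = 1 := by
        rw [hπ]; exact A_le_RR h1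
      have h3 : π ⟨t⁻¹ * (q⁻¹ * t * q * t⁻¹ * q), htk⟩ = b⁻¹ * (a⁻¹ * b * a * b⁻¹ * a) := by
        rw [← hπk, hb, ← map_inv, ← map_mul]
        rfl
      rw [h3, hainv, hbinv] at h2
      have h4 : (b * a * b) * (a * b * a) = 1 := by
        rw [← h2]; group
      have h5 := eq_inv_of_mul_eq_one_left h4
      rw [h5, mul_inv_rev, mul_inv_rev, hainv, hbinv, mul_assoc]
  -- generation
  have hgen : ∀ K : Subgroup (↥X ⧸ R'), a ∈ K → b ∈ K → K = ⊤ := by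
    intro K haK hbK
    have h1 : Q1.subgroupOf X ≤ K.comap π := by
      intro x hx
      rw [Subgroup.mem_subgroupOf] at hx
      rw [Subgroup.mem_comap]
      rcases F.u.flip_or F.hq F.hqf hx with h | h
      · have : π x = 1 := by rw [hπ]; exact D_le_RR h
        rw [this]; exact K.one_mem
      · have h2 : π (⟨q, F.q_mem_X⟩⁻¹ * x) = 1 := by
          rw [hπ]; exact D_le_RR h
        rw [map_mul, map_inv] at h2
        have : π x = a := by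
          rw [ha]
          calc π x = π ⟨q, F.q_mem_X⟩ * ((π ⟨q, F.q_mem_X⟩)⁻¹ * π x) := by group
            _ = π ⟨q, F.q_mem_X⟩ := by rw [h2, mul_one]
        rw [this]; exact haK
    have h2 : Q2.subgroupOf X ≤ K.comap π := by
      intro x hx
      rw [Subgroup.mem_subgroupOf] at hx
      rw [Subgroup.mem_comap]
      rcases F.symm.u.flip_or F.ht F.htf hx with h | h
      · have : π x = 1 := by rw [hπ]; exact A_le_RR h
        rw [this]; exact K.one_mem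
      · have h2 : π (⟨t, F.t_mem_X⟩⁻¹ * x) = 1 := by
          rw [hπ]; exact A_le_RR h
        rw [map_mul, map_inv] at h2
        have : π x = b := by
          rw [hb]
          calc π x = π ⟨t, F.t_mem_X⟩ * ((π ⟨t, F.t_mem_X⟩)⁻¹ * π x) := by group
            _ = π ⟨t, F.t_mem_X⟩ := by rw [h2, mul_one]
        rw [this]; exact hbK
    have h3 : (⊤ : Subgroup ↥X) ≤ K.comap π := by
      have : (⊤ : Subgroup ↥X) = Q1.subgroupOf X ⊔ Q2.subgroupOf X := by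
        rw [← Subgroup.subgroupOf_sup le_sup_left le_sup_right, Subgroup.subgroupOf_self]
      rw [this]
      exact sup_le h1 h2
    rw [eq_top_iff]
    intro y _
    obtain ⟨x, rfl⟩ := QuotientGroup.mk'_surjective R' y
    exact h3 (Subgroup.mem_top x)
  exact nonempty_mulEquiv_S3 a b haa hbb hbr ha1 hb1 hab hgen

end quot

section consequences

variable {G : Type*} [Group G] {Q1 Q2 : Subgroup G} {z1 z2 q t : G}

open Equiv in
/-- `X` is the union of six cosets of `R` -/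
theorem Flips.cover (F : Flips Q1 Q2 z1 z2 q t) {x : G} (hx : x ∈ Q1 ⊔ Q2) :
    x ∈ RR Q1 Q2 z1 z2 ∨ q⁻¹ * x ∈ RR Q1 Q2 z1 z2 ∨ t⁻¹ * x ∈ RR Q1 Q2 z1 z2 ∨
      (q * t)⁻¹ * x ∈ RR Q1 Q2 z1 z2 ∨ (t * q)⁻¹ * x ∈ RR Q1 Q2 z1 z2 ∨
      (q * t * q)⁻¹ * x ∈ RR Q1 Q2 z1 z2 := by
  haveI := F.u.RR_normal
  obtain ⟨Φ, hΦ⟩ := F.exists_iso
  set X : Subgroup G := Q1 ⊔ Q2 with hX
  set R' : Subgroup ↥X := (RR Q1 Q2 z1 z2).subgroupOf X with hR'
  set π : ↥X →* ↥X ⧸ R' := QuotientGroup.mk' R' with hπdef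
  have hπ : ∀ x : ↥X, π x = 1 ↔ (x : G) ∈ RR Q1 Q2 z1 z2 := by
    intro x
    rw [← MonoidHom.mem_ker, QuotientGroup.ker_mk', hR', Subgroup.mem_subgroupOf]
  have key : ∀ w : ↥X, π ⟨x, hx⟩ = π w → (w : G)⁻¹ * x ∈ RR Q1 Q2 z1 z2 := by
    intro w hw
    have : π (w⁻¹ * ⟨x, hx⟩) = 1 := by
      rw [map_mul, map_inv, hw]; group
    exact (hπ _).mp this
  have hσ : Φ (Φ.symm (π ⟨x, hx⟩)) = π ⟨x, hx⟩ := Φ.apply_symm_apply _
  rw [hΦ] at hσ
  rcases psi_spec (π ⟨q, F.q_mem_X⟩) (π ⟨t, F.t_mem_X⟩) (Φ.symm (π ⟨x, hx⟩)) with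
    ⟨_, v⟩ | ⟨_, v⟩ | ⟨_, v⟩ | ⟨_, v⟩ | ⟨_, v⟩ | ⟨_, v⟩
  · left
    rw [v] at hσ
    exact (hπ _).mp hσ.symm
  · right; left
    rw [v] at hσ
    exact key ⟨q, F.q_mem_X⟩ hσ.symm
  · right; right; left
    rw [v] at hσ
    exact key ⟨t, F.t_mem_X⟩ hσ.symm
  · right; right; right; left
    rw [v, ← map_mul] at hσ
    exact key (⟨q, F.q_mem_X⟩ * ⟨t, F.t_mem_X⟩) hσ.symm
  · right; right; right; right; left
    rw [v, ← map_mul] at hσ
    exact key (⟨t, F.t_mem_X⟩ * ⟨q, F.q_mem_X⟩) hσ.symm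
  · right; right; right; right; right
    rw [v, ← map_mul, ← map_mul] at hσ
    exact key (⟨q, F.q_mem_X⟩ * ⟨t, F.t_mem_X⟩ * ⟨q, F.q_mem_X⟩) hσ.symm

/-! the action of the six coset representatives on `z1`, `z2` -/

theorem Flips.q_z1 (F : Flips Q1 Q2 z1 z2 q t) : q * z1 * q⁻¹ = z1 := F.u.conj_z1 F.hq

theorem Flips.q_z2 (F : Flips Q1 Q2 z1 z2 q t) : q * z2 * q⁻¹ = z1 * z2 := by
  rw [F.hqf, F.u.p.comm12]

theorem Flips.t_z1 (F : Flips Q1 Q2 z1 z2 q t) : t * z1 * t⁻¹ = z1 * z2 := F.htf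

theorem Flips.t_z2 (F : Flips Q1 Q2 z1 z2 q t) : t * z2 * t⁻¹ = z2 := F.symm.u.conj_z1 F.ht

theorem Flips.qt_z1 (F : Flips Q1 Q2 z1 z2 q t) : (q * t) * z1 * (q * t)⁻¹ = z2 := by
  calc (q * t) * z1 * (q * t)⁻¹ = q * (t * z1 * t⁻¹) * q⁻¹ := by group
    _ = q * (z1 * z2) * q⁻¹ := by rw [F.t_z1]
    _ = (q * z1 * q⁻¹) * (q * z2 * q⁻¹) := by group
    _ = z1 * (z1 * z2) := by rw [F.q_z1, F.q_z2]
    _ = z2 := by rw [← mul_assoc, F.u.p.l1.sq, one_mul]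

theorem Flips.qt_z2 (F : Flips Q1 Q2 z1 z2 q t) : (q * t) * z2 * (q * t)⁻¹ = z1 * z2 := by
  calc (q * t) * z2 * (q * t)⁻¹ = q * (t * z2 * t⁻¹) * q⁻¹ := by group
    _ = q * z2 * q⁻¹ := by rw [F.t_z2]
    _ = z1 * z2 := F.q_z2

theorem Flips.tq_z1 (F : Flips Q1 Q2 z1 z2 q t) : (t * q) * z1 * (t * q)⁻¹ = z1 * z2 := by
  calc (t * q) * z1 * (t * q)⁻¹ = t * (q * z1 * q⁻¹) * t⁻¹ := by group
    _ = t * z1 * t⁻¹ := by rw [F.q_z1]
    _ = z1 * z2 := F.t_z1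

theorem Flips.tq_z2 (F : Flips Q1 Q2 z1 z2 q t) : (t * q) * z2 * (t * q)⁻¹ = z1 := by
  calc (t * q) * z2 * (t * q)⁻¹ = t * (q * z2 * q⁻¹) * t⁻¹ := by group
    _ = t * (z1 * z2) * t⁻¹ := by rw [F.q_z2]
    _ = (t * z1 * t⁻¹) * (t * z2 * t⁻¹) := by group
    _ = (z1 * z2) * z2 := by rw [F.t_z1, F.t_z2]
    _ = z1 := by rw [mul_assoc, F.u.p.l2.sq, mul_one]

theorem Flips.qtq_z1 (F : Flips Q1 Q2 z1 z2 q t) : (q * t * q) * z1 * (q * t * q)⁻¹ = z2 := by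
  calc (q * t * q) * z1 * (q * t * q)⁻¹ = (q * t) * (q * z1 * q⁻¹) * (q * t)⁻¹ := by group
    _ = (q * t) * z1 * (q * t)⁻¹ := by rw [F.q_z1]
    _ = z2 := F.qt_z1

theorem Flips.qtq_z2 (F : Flips Q1 Q2 z1 z2 q t) : (q * t * q) * z2 * (q * t * q)⁻¹ = z1 := by
  calc (q * t * q) * z2 * (q * t * q)⁻¹ = (q * t) * (q * z2 * q⁻¹) * (q * t)⁻¹ := by group
    _ = (q * t) * (z1 * z2) * (q * t)⁻¹ := by rw [F.q_z2]
    _ = ((q * t) * z1 * (q * t)⁻¹) * ((q * t) * z2 * (q * t)⁻¹) := by group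
    _ = z2 * (z1 * z2) := by rw [F.qt_z1, F.qt_z2]
    _ = z2 * (z2 * z1) := by rw [F.u.p.comm12]
    _ = z1 := by rw [← mul_assoc, F.u.p.l2.sq, one_mul]

theorem UPair.z3_ne_z1 (h : UPair Q1 Q2 z1 z2) : z1 * z2 ≠ z1 := by
  intro h1
  apply h.p.l2.ne_one
  calc z2 = z1⁻¹ * (z1 * z2) := by group
    _ = 1 := by rw [h1]; group

theorem UPair.z3_ne_z2 (h : UPair Q1 Q2 z1 z2) : z1 * z2 ≠ z2 := by
  intro h1
  apply h.p.l1.ne_one
  calc z1 = (z1 * z2) * z2⁻¹ := by group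
    _ = 1 := by rw [h1]; group

theorem UPair.z3_ne_one (h : UPair Q1 Q2 z1 z2) : z1 * z2 ≠ 1 := by
  intro h1
  apply h.p.ne
  calc z1 = (z1 * z2) * z2⁻¹ := by group
    _ = z2⁻¹ := by rw [h1, one_mul]
    _ = z2 := inv_eq_of_mul_eq_one_left h.p.l2.sq

/-- an element commuting with the generators centralizes the closure -/
theorem mem_centralizer_closure_pair {z1 z2 c : G} (h1 : z1 * c = c * z1) (h2 : z2 * c = c * z2) :
    c ∈ Subgroup.centralizer ((Subgroup.closure ({z1, z2} : Set G) : Subgroup G) : Set G) := by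
  have hle : Subgroup.closure ({z1, z2} : Set G) ≤ Subgroup.centralizer ({c} : Set G) := by
    rw [Subgroup.closure_le]
    rintro x (rfl | rfl)
    · exact mem_cs.mpr h1.symm
    · exact mem_cs.mpr h2.symm
  rw [Subgroup.mem_centralizer_iff]
  intro v hv
  exact (mem_cs.mp (hle hv)).symm

theorem comm_of_mem_centralizer_closure_pair {z1 z2 c : G}
    (hc : c ∈ Subgroup.centralizer ((Subgroup.closure ({z1, z2} : Set G) : Subgroup G) : Set G)) :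
    z1 * c = c * z1 ∧ z2 * c = c * z2 := by
  rw [Subgroup.mem_centralizer_iff] at hc
  exact ⟨hc z1 (Subgroup.subset_closure (Set.mem_insert _ _)),
    hc z2 (Subgroup.subset_closure (Set.mem_insert_of_mem _ (Set.mem_singleton _)))⟩

/-- an element acting non-trivially cannot lie in a coset `w R` meeting the centralizer -/
theorem not_cent_of_conj_ne {z x w r : G} (hr : z * r = r * z) (hx : z * x = x * z)
    (hwx : w⁻¹ * x = r) : w * z * w⁻¹ = z := by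
  have hw : w = x * r⁻¹ := by rw [← hwx]; group
  have hr' : z * r⁻¹ = r⁻¹ * z := by
    calc z * r⁻¹ = r⁻¹ * (r * z) * r⁻¹ := by group
      _ = r⁻¹ * (z * r) * r⁻¹ := by rw [hr]
      _ = r⁻¹ * z := by group
  rw [hw]
  calc x * r⁻¹ * z * (x * r⁻¹)⁻¹ = x * (r⁻¹ * z) * r * x⁻¹ := by group
    _ = x * (z * r⁻¹) * r * x⁻¹ := by rw [hr']
    _ = (x * z) * x⁻¹ := by group
    _ = (z * x) * x⁻¹ := by rw [hx]
    _ = z := by group

/-- (1): `R = C_X(V)` -/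
theorem Flips.RR_eq (F : Flips Q1 Q2 z1 z2 q t) :
    RR Q1 Q2 z1 z2 = (Q1 ⊔ Q2) ⊓
      Subgroup.centralizer ((Subgroup.closure ({z1, z2} : Set G) : Subgroup G) : Set G) := by
  apply le_antisymm
  · intro r hr
    refine ⟨F.u.RR_le_X hr, ?_⟩
    exact mem_centralizer_closure_pair (mem_cs.mp (F.u.RR_le_cent1 hr))
      (mem_cs.mp (F.u.RR_le_cent2 hr))
  · rintro x ⟨hxX, hxV⟩
    obtain ⟨hx1, hx2⟩ := comm_of_mem_centralizer_closure_pair hxV
    have c1 : ∀ r ∈ RR Q1 Q2 z1 z2, z1 * r = r * z1 := fun r hr => mem_cs.mp (F.u.RR_le_cent1 hr)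
    have c2 : ∀ r ∈ RR Q1 Q2 z1 z2, z2 * r = r * z2 := fun r hr => mem_cs.mp (F.u.RR_le_cent2 hr)
    rcases F.cover hxX with h | h | h | h | h | h
    · exact h
    · exfalso
      have := not_cent_of_conj_ne (c2 _ h) hx2 rfl
      rw [F.q_z2] at this
      exact F.u.z3_ne_z2 this
    · exfalso
      have := not_cent_of_conj_ne (c1 _ h) hx1 rfl
      rw [F.t_z1] at this
      exact F.u.z3_ne_z1 this
    · exfalso
      have := not_cent_of_conj_ne (c1 _ h) hx1 rfl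
      rw [F.qt_z1] at this
      exact F.u.p.ne this.symm
    · exfalso
      have := not_cent_of_conj_ne (c2 _ h) hx2 rfl
      rw [F.tq_z2] at this
      exact F.u.p.ne this
    · exfalso
      have := not_cent_of_conj_ne (c1 _ h) hx1 rfl
      rw [F.qtq_z1] at this
      exact F.u.p.ne this.symm

/-- `R` is a 2-group -/
theorem UPair.RR_isPGroup (h : UPair Q1 Q2 z1 z2) : IsPGroup 2 ↥(RR Q1 Q2 z1 z2) := by
  rintro ⟨r, hr⟩
  refine ⟨2, Subtype.ext ?_⟩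
  have h1 : r * r ∈ Q1 ⊓ Q2 := (h.p.comm_sq r hr r hr).2
  have h2 : (r * r) ^ 2 = 1 := h.p.elem_abelian.2 (r * r) h1
  have h3 : r ^ 2 ^ 2 = 1 := by
    rw [← h2, ← pow_two, ← pow_mul]
    norm_num
  simpa using h3

open Equiv in
/-- (2): `R = O_2(X)` -/
theorem Flips.pCore_eq (F : Flips Q1 Q2 z1 z2 q t) :
    RR Q1 Q2 z1 z2 = (Cfsg.pCore 2 ↥(Q1 ⊔ Q2)).map (Q1 ⊔ Q2).subtype := by
  have hn := F.u.RR_normal
  obtain ⟨Φ, _⟩ := F.exists_iso
  set X : Subgroup G := Q1 ⊔ Q2 with hX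
  set R' : Subgroup ↥X := (RR Q1 Q2 z1 z2).subgroupOf X with hR'
  set π : ↥X →* ↥X ⧸ R' := QuotientGroup.mk' R' with hπdef
  have hfact : Fact (Nat.Prime 2) := ⟨Nat.prime_two⟩
  have hR2 : IsPGroup 2 ↥R' := F.u.RR_isPGroup.comap_subtype
  have h1 : R' ≤ pCore 2 ↥X := le_pCore 2 R' hn hR2
  have h2 : pCore 2 ↥X ≤ R' := by
    set φ : ↥X →* Perm (Fin 3) := Φ.symm.toMonoidHom.comp π with hφ
    have hsurj : Function.Surjective φ :=
      Φ.symm.surjective.comp (QuotientGroup.mk'_surjective R')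
    have hNn : ((pCore 2 ↥X).map φ).Normal := (pCore_normal 2 ↥X).map φ hsurj
    have hN2 : IsPGroup 2 ((pCore 2 ↥X).map φ) := (pCore_isPGroup 2 ↥X).map φ
    have hbot := normal_two_subgroup_S3 _ hNn hN2
    rw [Subgroup.map_eq_bot_iff] at hbot
    intro x hx
    have h3 : Φ.symm (π x) = 1 := MonoidHom.mem_ker.mp (hbot hx)
    have h4 : π x = 1 := (MulEquiv.map_eq_one_iff Φ.symm).mp h3
    rw [← MonoidHom.mem_ker, QuotientGroup.ker_mk'] at h4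
    exact h4
  have h3 : R' = pCore 2 ↥X := le_antisymm h1 h2
  rw [← h3, hR', Subgroup.map_subgroupOf_eq_of_le F.u.RR_le_X]

/-- `X` normalizes `V` -/
theorem UPair.X_le_normalizer_V (h : UPair Q1 Q2 z1 z2) :
    Q1 ⊔ Q2 ≤ Subgroup.normalizer
      ((Subgroup.closure ({z1, z2} : Set G) : Subgroup G) : Set G) := by
  intro x hx
  obtain ⟨h1, h2, _⟩ := mem_commSub.mp (h.p.sup_le_commSub hx)
  rw [Subgroup.mem_normalizer_iff]
  intro v
  constructor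
  · exact h1 v
  · intro hv
    have := h2 _ hv
    have e : x⁻¹ * (x * v * x⁻¹) * x = v := by group
    rwa [e] at this

/-- every element of `N(V)` is a product of one of `X` and one of `C(V)` -/
theorem Flips.exists_rep (F : Flips Q1 Q2 z1 z2 q t) {n : G}
    (hn : n ∈ Subgroup.normalizer ((Subgroup.closure ({z1, z2} : Set G) : Subgroup G) : Set G)) :
    ∃ w ∈ Q1 ⊔ Q2, ∃ c : G, n = w * c ∧ z1 * c = c * z1 ∧ z2 * c = c * z2 := by
  have key : ∀ w ∈ Q1 ⊔ Q2, w * z1 * w⁻¹ = n * z1 * n⁻¹ → w * z2 * w⁻¹ = n * z2 * n⁻¹ →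
      ∃ w ∈ Q1 ⊔ Q2, ∃ c : G, n = w * c ∧ z1 * c = c * z1 ∧ z2 * c = c * z2 := by
    intro w hw h1 h2
    refine ⟨w, hw, w⁻¹ * n, by group, ?_, ?_⟩
    · calc z1 * (w⁻¹ * n) = w⁻¹ * (w * z1 * w⁻¹) * n := by group
        _ = w⁻¹ * (n * z1 * n⁻¹) * n := by rw [h1]
        _ = (w⁻¹ * n) * z1 := by group
    · calc z2 * (w⁻¹ * n) = w⁻¹ * (w * z2 * w⁻¹) * n := by group
        _ = w⁻¹ * (n * z2 * n⁻¹) * n := by rw [h2]
        _ = (w⁻¹ * n) * z2 := by group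
  rw [Subgroup.mem_normalizer_iff] at hn
  have m1 : z1 ∈ Subgroup.closure ({z1, z2} : Set G) :=
    Subgroup.subset_closure (Set.mem_insert _ _)
  have m2 : z2 ∈ Subgroup.closure ({z1, z2} : Set G) :=
    Subgroup.subset_closure (Set.mem_insert_of_mem _ (Set.mem_singleton _))
  have hp1 := four_cases' F.u.p.l1.sq F.u.p.l2.sq F.u.p.comm12 ((hn z1).mp m1)
  have hp2 := four_cases' F.u.p.l1.sq F.u.p.l2.sq F.u.p.comm12 ((hn z2).mp m2)
  have hne1 : n * z1 * n⁻¹ ≠ 1 := by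
    intro h
    apply F.u.p.l1.ne_one
    calc z1 = n⁻¹ * (n * z1 * n⁻¹) * n := by group
      _ = 1 := by rw [h]; group
  have hne2 : n * z2 * n⁻¹ ≠ 1 := by
    intro h
    apply F.u.p.l2.ne_one
    calc z2 = n⁻¹ * (n * z2 * n⁻¹) * n := by group
      _ = 1 := by rw [h]; group
  have hne : n * z1 * n⁻¹ ≠ n * z2 * n⁻¹ := by
    intro h
    apply F.u.p.ne
    calc z1 = n⁻¹ * (n * z1 * n⁻¹) * n := by group
      _ = n⁻¹ * (n * z2 * n⁻¹) * n := by rw [h]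
      _ = z2 := by group
  have hq := F.q_mem_X
  have ht := F.t_mem_X
  rcases hp1 with h1 | h1 | h1 | h1
  · exact absurd h1 hne1
  · rcases hp2 with h2 | h2 | h2 | h2
    · exact absurd h2 hne2
    · exact absurd (h1.trans h2.symm) hne
    · refine key 1 (Subgroup.one_mem _) ?_ ?_
      · rw [h1]; group
      · rw [h2]; group
    · refine key q hq ?_ ?_
      · rw [h1]; exact F.q_z1
      · rw [h2]; exact F.q_z2
  · rcases hp2 with h2 | h2 | h2 | h2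
    · exact absurd h2 hne2
    · refine key (q * t * q) (Subgroup.mul_mem _ (Subgroup.mul_mem _ hq ht) hq) ?_ ?_
      · rw [h1]; exact F.qtq_z1
      · rw [h2]; exact F.qtq_z2
    · exact absurd (h1.trans h2.symm) hne
    · refine key (q * t) (Subgroup.mul_mem _ hq ht) ?_ ?_
      · rw [h1]; exact F.qt_z1
      · rw [h2]; exact F.qt_z2
  · rcases hp2 with h2 | h2 | h2 | h2
    · exact absurd h2 hne2
    · refine key (t * q) (Subgroup.mul_mem _ ht hq) ?_ ?_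
      · rw [h1]; exact F.tq_z1
      · rw [h2]; exact F.tq_z2
    · refine key t ht ?_ ?_
      · rw [h1]; exact F.t_z1
      · rw [h2]; exact F.t_z2
    · exact absurd (h1.trans h2.symm) hne

/-- elements centralizing `z1` and `z2` normalize `X` -/
theorem UPair.cent_conj_X (h : UPair Q1 Q2 z1 z2) {c : G} (h1 : z1 * c = c * z1)
    (h2 : z2 * c = c * z2) : ∀ x ∈ Q1 ⊔ Q2, c * x * c⁻¹ ∈ Q1 ⊔ Q2 := by
  have hcl : Q1 ⊔ Q2 = Subgroup.closure ((Q1 : Set G) ∪ (Q2 : Set G)) := by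
    rw [Subgroup.closure_union, Subgroup.closure_eq, Subgroup.closure_eq]
  rw [hcl]
  apply conj_mem_closure
  rw [← hcl]
  rintro s (hs | hs)
  · exact (le_sup_left : Q1 ≤ Q1 ⊔ Q2) (h.p.n1 c h1.symm s hs)
  · exact (le_sup_right : Q2 ≤ Q1 ⊔ Q2) (h.p.n2 c h2.symm s hs)

/-- (4): `N(V) = X C(V)` -/
theorem Flips.normalizer_eq (F : Flips Q1 Q2 z1 z2 q t) :
    Subgroup.normalizer ((Subgroup.closure ({z1, z2} : Set G) : Subgroup G) : Set G) =
      (Q1 ⊔ Q2) ⊔ (Subgroup.centralizer ({z1} : Set G) ⊓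
        Subgroup.centralizer ((Subgroup.closure ({z1, z2} : Set G) : Subgroup G) : Set G)) := by
  apply le_antisymm
  · intro n hn
    obtain ⟨w, hw, c, rfl, h1, h2⟩ := F.exists_rep hn
    exact Subgroup.mul_mem_sup hw ⟨mem_cs.mpr h1, mem_centralizer_closure_pair h1 h2⟩
  · apply sup_le F.u.X_le_normalizer_V
    exact inf_le_right.trans (Subgroup.centralizer_le_normalizer _)

/-- (5): `X` is normal in `N(V)` -/
theorem Flips.X_normal (F : Flips Q1 Q2 z1 z2 q t) :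
    ∀ y ∈ Subgroup.normalizer ((Subgroup.closure ({z1, z2} : Set G) : Subgroup G) : Set G),
      ∀ x ∈ Q1 ⊔ Q2, y * x * y⁻¹ ∈ Q1 ⊔ Q2 := by
  intro y hy x hx
  obtain ⟨w, hw, c, rfl, h1, h2⟩ := F.exists_rep hy
  have e : w * c * x * (w * c)⁻¹ = w * (c * x * c⁻¹) * w⁻¹ := by group
  rw [e]
  exact Subgroup.mul_mem _ (Subgroup.mul_mem _ hw (F.u.cent_conj_X h1 h2 x hx))
    (Subgroup.inv_mem _ hw)

/-- (7): `[X, C(V)] ≤ R` -/
theorem Flips.comm_mem (F : Flips Q1 Q2 z1 z2 q t) :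
    ∀ x ∈ Q1 ⊔ Q2, ∀ c ∈ Subgroup.centralizer ({z1} : Set G) ⊓
      Subgroup.centralizer ((Subgroup.closure ({z1, z2} : Set G) : Subgroup G) : Set G),
      x * c * x⁻¹ * c⁻¹ ∈ RR Q1 Q2 z1 z2 := by
  intro x hx c hc
  have hcV : c ∈ Subgroup.centralizer
      ((Subgroup.closure ({z1, z2} : Set G) : Subgroup G) : Set G) := (Subgroup.mem_inf.mp hc).2
  obtain ⟨h1, h2⟩ := comm_of_mem_centralizer_closure_pair hcV
  rw [F.RR_eq]
  refine Subgroup.mem_inf.mpr ⟨?_, ?_⟩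
  · have e : x * c * x⁻¹ * c⁻¹ = x * (c * x⁻¹ * c⁻¹) := by group
    rw [e]
    exact Subgroup.mul_mem _ hx (F.u.cent_conj_X h1 h2 _ (Subgroup.inv_mem _ hx))
  · obtain ⟨_, hx2, _⟩ := mem_commSub.mp (F.u.p.sup_le_commSub hx)
    rw [Subgroup.mem_centralizer_iff] at hcV ⊢
    intro v hv
    have hv' := hcV _ (hx2 v hv)
    have hvc := hcV v hv
    have hvc' : v * c⁻¹ = c⁻¹ * v := by
      calc v * c⁻¹ = c⁻¹ * (c * v) * c⁻¹ := by group
        _ = c⁻¹ * (v * c) * c⁻¹ := by rw [hvc]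
        _ = c⁻¹ * v := by group
    calc v * (x * c * x⁻¹ * c⁻¹) = x * ((x⁻¹ * v * x) * c) * x⁻¹ * c⁻¹ := by group
      _ = x * (c * (x⁻¹ * v * x)) * x⁻¹ * c⁻¹ := by rw [hv']
      _ = x * c * x⁻¹ * (v * c⁻¹) := by group
      _ = x * c * x⁻¹ * (c⁻¹ * v) := by rw [hvc']
      _ = x * c * x⁻¹ * c⁻¹ * v := by group

end consequences

end Cfsg.Agent.Lib.Helper98_LESPair2
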