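import Mathlib

set_option autoImplicit false

namespace Cfsg.Agent.Lib.Helper98_Perm

open scoped Pointwise

/-- `H` is a maximal subgroup of `K`, phrased inside the ambient group. -/
theorem isCoatom_subgroupOf_iff {G : Type*} [Group G] {H K : Subgroup G} (hHK : H ≤ K) :
    IsCoatom (H.subgroupOf K) ↔
      H ≠ K ∧ ∀ L : Subgroup G, H ≤ L → L ≤ K → L = H ∨ L = K := by
  constructor
  · rintro ⟨hne, hmax⟩
    refine ⟨?_, fun L hHL hLK => ?_⟩
    · intro h
      apply hne
      rw [Subgroup.subgroupOf_eq_top, h]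
    · by_cases hL : L = H
      · exact Or.inl hL
      · right
        have hlt : H.subgroupOf K < L.subgroupOf K := by
          rw [lt_iff_le_and_ne]
          refine ⟨Subgroup.subgroupOf_mono K hHL, fun h => hL ?_⟩
          rw [Subgroup.subgroupOf_inj] at h
          rw [inf_eq_left.mpr hHK, inf_eq_left.mpr hLK] at h
          exact h.symm
        have := hmax _ hlt
        rw [Subgroup.subgroupOf_eq_top] at this
        exact le_antisymm hLK this
  · rintro ⟨hne, hmax⟩
    refine ⟨?_, fun Lb hlt => ?_⟩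
    · rw [Ne, Subgroup.subgroupOf_eq_top]
      intro h
      exact hne (le_antisymm hHK h)
    · have hLK : Lb.map K.subtype ≤ K := by
        rintro _ ⟨c, _, rfl⟩; exact c.2
      have hcomap : (Lb.map K.subtype).subgroupOf K = Lb := by
        ext y
        rw [Subgroup.mem_subgroupOf]
        constructor
        · rintro ⟨c, hc, hcy⟩
          have : c = y := Subtype.ext hcy
          rwa [← this]
        · intro hy
          exact ⟨y, hy, rfl⟩
      have hHL : H ≤ Lb.map K.subtype := by
        intro h hh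
        have : (⟨h, hHK hh⟩ : K) ∈ H.subgroupOf K := by
          rw [Subgroup.mem_subgroupOf]; exact hh
        exact ⟨⟨h, hHK hh⟩, hlt.le this, rfl⟩
      rcases hmax _ hHL hLK with h | h
      · exfalso
        rw [← hcomap, h] at hlt
        exact lt_irrefl _ hlt
      · rw [← hcomap, h, Subgroup.subgroupOf_self]

/-- the range of `ofSubtype` for the predicate `· ≠ x` is the stabilizer of `x`. -/
theorem range_ofSubtype_ne {Ω : Type*} [DecidableEq Ω] (x : Ω) :
    (Equiv.Perm.ofSubtype (p := fun y => y ≠ x)).range = MulAction.stabilizer (Equiv.Perm Ω) x := by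
  ext g
  rw [MulAction.mem_stabilizer_iff, Equiv.Perm.smul_def]
  constructor
  · rintro ⟨τ, rfl⟩
    exact Equiv.Perm.ofSubtype_apply_of_not_mem τ (by simp)
  · intro hg
    have h1 : ∀ y, (g y ≠ x) ↔ (y ≠ x) := by
      intro y
      rw [not_iff_not]
      constructor
      · intro h
        apply g.injective
        rw [h, hg]
      · rintro rfl
        exact hg
    refine ⟨g.subtypePerm h1, Equiv.Perm.ofSubtype_subtypePerm h1 ?_⟩
    intro y hy hyx
    apply hy
    rw [hyx, hg]

/-- pulling back the stabilizer of a set `O` not containing `x` along `ofSubtype`. -/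
theorem comap_ofSubtype_stabilizer {Ω : Type*} [DecidableEq Ω] (x : Ω) (O : Set Ω) (hx : x ∉ O) :
    (MulAction.stabilizer (Equiv.Perm Ω) O).comap (Equiv.Perm.ofSubtype (p := fun y => y ≠ x)) =
      MulAction.stabilizer (Equiv.Perm {y // y ≠ x}) ((Subtype.val ⁻¹' O : Set {y // y ≠ x})) := by
  ext τ
  rw [Subgroup.mem_comap, MulAction.mem_stabilizer_set, MulAction.mem_stabilizer_set]
  constructor
  · intro h y
    have := h y.1
    rw [Equiv.Perm.smul_def, Equiv.Perm.ofSubtype_apply_coe] at this
    exact this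
  · intro h z
    by_cases hz : z = x
    · subst hz
      rw [Equiv.Perm.smul_def, Equiv.Perm.ofSubtype_apply_of_not_mem τ (by simp)]
    · have := h ⟨z, hz⟩
      rw [Equiv.Perm.smul_def, Equiv.Perm.ofSubtype_apply_of_mem τ hz]
      exact this

/-- The stabilizer of a point and a set is maximal in the stabilizer of the point,
under a cardinality condition. -/
theorem isCoatom_stabilizer_inf_subgroupOf {Ω : Type*} [Finite Ω] [DecidableEq Ω] (x : Ω) (O : Set Ω)
    (hx : x ∉ O) (hO : O.Nonempty) (hOc : ∃ y, y ≠ x ∧ y ∉ O)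
    (hcard : Nat.card Ω ≠ 2 * O.ncard + 1) :
    IsCoatom ((MulAction.stabilizer (Equiv.Perm Ω) x ⊓ MulAction.stabilizer (Equiv.Perm Ω) O).subgroupOf
      (MulAction.stabilizer (Equiv.Perm Ω) x)) := by
  set ψ := (Equiv.Perm.ofSubtype (p := fun y => y ≠ x)) with hψ
  have hrange := range_ofSubtype_ne x
  have hcomap := comap_ofSubtype_stabilizer x O hx
  have hinj : Function.Injective ψ := Equiv.Perm.ofSubtype_injective
  -- the stabilizer upstairs is a coatom
  have hco : IsCoatom (MulAction.stabilizer (Equiv.Perm {y // y ≠ x})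
      (Subtype.val ⁻¹' O : Set {y // y ≠ x})) := by
    apply Equiv.Perm.isCoatom_stabilizer
    · obtain ⟨o, ho⟩ := hO
      exact ⟨⟨o, fun h => hx (h ▸ ho)⟩, ho⟩
    · obtain ⟨y, hyx, hyO⟩ := hOc
      exact ⟨⟨y, hyx⟩, hyO⟩
    · have h1 : (Subtype.val ⁻¹' O : Set {y // y ≠ x}).ncard = O.ncard := by
        apply Set.ncard_preimage_of_injective_subset_range Subtype.val_injective
        intro z hz
        rw [Subtype.range_coe_subtype]
        rintro rfl
        exact hx hz
      have h2 : Nat.card {y // y ≠ x} + 1 = Nat.card Ω := by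
        have := Fintype.ofFinite Ω
        rw [Nat.card_eq_fintype_card, Nat.card_eq_fintype_card, Fintype.card_subtype_compl,
          Fintype.card_subtype_eq]
        have : 0 < Fintype.card Ω := Fintype.card_pos_iff.mpr ⟨x⟩
        omega
      rw [h1]
      omega
  rw [isCoatom_subgroupOf_iff inf_le_left]
  constructor
  · intro h
    -- then the upstairs stabilizer would be everything
    apply hco.1
    rw [← hcomap, eq_top_iff]
    intro τ _
    have : ψ τ ∈ MulAction.stabilizer (Equiv.Perm Ω) x := by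
      rw [← hrange]; exact ⟨τ, rfl⟩
    rw [← h] at this
    exact this.2
  · intro L hHL hLM
    have h1 : MulAction.stabilizer (Equiv.Perm {y // y ≠ x})
        (Subtype.val ⁻¹' O : Set {y // y ≠ x}) ≤ L.comap ψ := by
      rw [← hcomap]
      intro τ hτ
      apply hHL
      refine ⟨?_, hτ⟩
      rw [← hrange]; exact ⟨τ, rfl⟩
    have hL : L = (L.comap ψ).map ψ := by
      rw [Subgroup.map_comap_eq, hrange]
      exact (inf_eq_right.mpr hLM).symm
    rcases eq_or_lt_of_le h1 with h2 | h2
    · left
      rw [hL, ← h2, ← hcomap, Subgroup.map_comap_eq, hrange]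
    · right
      have := hco.2 _ h2
      rw [hL, this, ← MonoidHom.range_eq_map, hrange]

/-- the stabiliser of the partition `{O, Oᶜ}` -/
def pairStab {Ω : Type*} (O : Set Ω) : Subgroup (Equiv.Perm Ω) where
  carrier := {g | g • O = O ∨ g • O = Oᶜ}
  one_mem' := Or.inl (one_smul _ _)
  mul_mem' := by
    intro g h hg hh
    simp only [Set.mem_ofPred_eq] at hg hh ⊢
    rw [mul_smul]
    rcases hh with hh | hh <;> rcases hg with hg | hg
    · left; rw [hh, hg]
    · right; rw [hh, hg]
    · right; rw [hh, Set.smul_set_compl, hg]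
    · left; rw [hh, Set.smul_set_compl, hg, compl_compl]
  inv_mem' := by
    intro g hg
    simp only [Set.mem_ofPred_eq] at hg ⊢
    rcases hg with hg | hg
    · left
      rw [inv_smul_eq_iff, hg]
    · right
      rw [inv_smul_eq_iff, Set.smul_set_compl, hg, compl_compl]

theorem mem_pairStab {Ω : Type*} (O : Set Ω) (g : Equiv.Perm Ω) :
    g ∈ pairStab O ↔ g • O = O ∨ g • O = Oᶜ := Iff.rfl

theorem stabilizer_le_pairStab {Ω : Type*} (O : Set Ω) :
    MulAction.stabilizer (Equiv.Perm Ω) O ≤ pairStab O := fun _ hg =>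
  Or.inl (MulAction.mem_stabilizer_iff.mp hg)

/-- a permutation exchanging `O` and its complement when they have the same size -/
theorem exists_perm_smul_eq_compl {Ω : Type*} [Finite Ω] (O : Set Ω)
    (hO : Nat.card O = Nat.card ↥Oᶜ) : ∃ σ : Equiv.Perm Ω, σ • O = Oᶜ := by
  classical
  obtain ⟨e⟩ : Nonempty (O ≃ ↥Oᶜ) := Finite.card_eq.mp hO
  let σ : Equiv.Perm Ω := (Equiv.Set.sumCompl O).symm.trans
    ((Equiv.sumCongr e e.symm).trans ((Equiv.sumComm _ _).trans (Equiv.Set.sumCompl O)))
  have hσ1 : ∀ x ∈ O, σ x ∈ Oᶜ := by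
    intro x hx
    simp only [σ, Equiv.trans_apply, Equiv.Set.sumCompl_symm_apply_of_mem hx, Equiv.sumCongr_apply,
      Sum.map_inl, Equiv.sumComm_apply, Sum.swap_inl, Equiv.Set.sumCompl_apply_inr]
    exact (e ⟨x, hx⟩).2
  have hσ2 : ∀ x ∈ Oᶜ, σ x ∈ O := by
    intro x hx
    simp only [σ, Equiv.trans_apply, Equiv.Set.sumCompl_symm_apply_of_notMem hx, Equiv.sumCongr_apply,
      Sum.map_inr, Equiv.sumComm_apply, Sum.swap_inr, Equiv.Set.sumCompl_apply_inl]
    exact (e.symm ⟨x, hx⟩).2
  refine ⟨σ, ?_⟩
  ext y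
  rw [Set.mem_smul_set_iff_inv_smul_mem]
  constructor
  · intro hy
    have := hσ1 _ hy
    simpa using this
  · intro hy
    by_contra hn
    have := hσ2 (σ⁻¹ • y) hn
    simp at this
    exact hy this

/-- the partition stabilizer is proper when `O` has two points and `Oᶜ` is nonempty -/
theorem pairStab_ne_top {Ω : Type*} [DecidableEq Ω] (O : Set Ω) {a a' b : Ω} (ha : a ∈ O) (ha' : a' ∈ O)
    (haa' : a ≠ a') (hb : b ∉ O) : pairStab O ≠ ⊤ := by
  intro htop
  have hsw : Equiv.swap a b ∈ pairStab O := by rw [htop]; trivial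
  have hbmem : b ∈ Equiv.swap a b • O := by
    rw [Set.mem_smul_set]
    exact ⟨a, ha, by simp [Equiv.Perm.smul_def]⟩
  have ha'mem : a' ∈ Equiv.swap a b • O := by
    rw [Set.mem_smul_set]
    refine ⟨a', ha', ?_⟩
    rw [Equiv.Perm.smul_def]
    apply Equiv.swap_apply_of_ne_of_ne haa'.symm
    rintro rfl
    exact hb ha'
  rcases hsw with h | h
  · rw [h] at hbmem
    exact hb hbmem
  · rw [h] at ha'mem
    exact ha'mem ha'

/-- point stabilizers in the symmetric group are maximal -/
theorem isCoatom_stabilizer_point {Ω : Type*} [Finite Ω] [Nontrivial Ω] (x : Ω) :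
    IsCoatom (MulAction.stabilizer (Equiv.Perm Ω) x) := by
  rw [MulAction.isCoatom_stabilizer_iff_preprimitive]
  infer_instance

theorem index_stabilizer_point {Ω : Type*} [Finite Ω] (x : Ω) :
    (MulAction.stabilizer (Equiv.Perm Ω) x).index = Nat.card Ω := by
  rw [MulAction.index_stabilizer, MulAction.orbit_eq_univ, Set.ncard_univ]

end Cfsg.Agent.Lib.Helper98_Perm
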