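import Mathlib
import Cfsg.Agent.Lib.Helper98_Perm

set_option autoImplicit false

namespace Cfsg.Agent.Lib.Helper98_MaxIn

open scoped Pointwise
open Cfsg.Agent.Lib.Helper98_Perm

/-- `A` is a maximal proper subgroup of `B` (when `A ≤ B`), phrased in the ambient group. -/
def MaxIn {G : Type*} [Group G] (A B : Subgroup G) : Prop :=
  A ≠ B ∧ ∀ L : Subgroup G, A ≤ L → L ≤ B → L = A ∨ L = B

theorem isCoatom_subgroupOf_iff_maxIn {G : Type*} [Group G] {H K : Subgroup G} (hHK : H ≤ K) :
    IsCoatom (H.subgroupOf K) ↔ MaxIn H K :=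
  isCoatom_subgroupOf_iff hHK

theorem isCoatom_iff_maxIn_top {G : Type*} [Group G] (A : Subgroup G) :
    IsCoatom A ↔ MaxIn A ⊤ := by
  constructor
  · rintro ⟨h1, h2⟩
    refine ⟨h1, fun L hAL _ => ?_⟩
    rcases eq_or_lt_of_le hAL with h | h
    · exact Or.inl h.symm
    · exact Or.inr (h2 L h)
  · rintro ⟨h1, h2⟩
    refine ⟨h1, fun L hAL => ?_⟩
    rcases h2 L hAL.le le_top with h | h
    · exact absurd h hAL.ne'
    · exact h

/-- transfer of relative maximality along a homomorphism whose kernel lies in the smaller group -/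
theorem maxIn_map_iff {G G' : Type*} [Group G] [Group G'] (ρ : G →* G') {A B : Subgroup G}
    (hker : ρ.ker ≤ A) (hAB : A ≤ B) : MaxIn (A.map ρ) (B.map ρ) ↔ MaxIn A B := by
  have hA : (A.map ρ).comap ρ = A := by
    rw [Subgroup.comap_map_eq]; exact sup_eq_left.mpr hker
  have hB : (B.map ρ).comap ρ = B := by
    rw [Subgroup.comap_map_eq]; exact sup_eq_left.mpr (hker.trans hAB)
  constructor
  · rintro ⟨hne, hmax⟩
    refine ⟨fun h => hne (by rw [h]), fun L hAL hLB => ?_⟩
    have hL : (L.map ρ).comap ρ = L := by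
      rw [Subgroup.comap_map_eq]; exact sup_eq_left.mpr (hker.trans hAL)
    rcases hmax (L.map ρ) (Subgroup.map_mono hAL) (Subgroup.map_mono hLB) with h | h
    · left; rw [← hL, h, hA]
    · right; rw [← hL, h, hB]
  · rintro ⟨hne, hmax⟩
    refine ⟨fun h => hne ?_, fun L hAL hLB => ?_⟩
    · rw [← hA, h, hB]
    · have hL : (L.comap ρ).map ρ = L := by
        rw [Subgroup.map_comap_eq]
        apply inf_eq_right.mpr
        exact hLB.trans (Subgroup.map_le_range ρ B)
      have h1 : A ≤ L.comap ρ := by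
        rw [← hA]; exact Subgroup.comap_mono hAL
      have h2 : L.comap ρ ≤ B := by
        rw [← hB]; exact Subgroup.comap_mono hLB
      rcases hmax _ h1 h2 with h | h
      · left; rw [← hL, h]
      · right; rw [← hL, h]

section Perm

variable {Ω : Type*} [DecidableEq Ω]

theorem swap_smul_set_eq {O : Set Ω} {a b : Ω} (h : a ∈ O ↔ b ∈ O) : Equiv.swap a b • O = O := by
  ext y
  rw [Set.mem_smul_set_iff_inv_smul_mem, Equiv.swap_inv, Equiv.Perm.smul_def]
  by_cases hya : y = a
  · subst hya; rw [Equiv.swap_apply_left]; exact h.symm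
  by_cases hyb : y = b
  · subst hyb; rw [Equiv.swap_apply_right]; exact h
  rw [Equiv.swap_apply_of_ne_of_ne hya hyb]

theorem swap_mem_stabilizer_set {O : Set Ω} {a b : Ω} (h : a ∈ O ↔ b ∈ O) :
    Equiv.swap a b ∈ MulAction.stabilizer (Equiv.Perm Ω) O :=
  MulAction.mem_stabilizer_iff.mpr (swap_smul_set_eq h)

theorem swap_mul_swap_mem_alternatingGroup [Fintype Ω] {a b c d : Ω} (hab : a ≠ b) (hcd : c ≠ d) :
    Equiv.swap a b * Equiv.swap c d ∈ alternatingGroup Ω := by
  rw [Equiv.Perm.mem_alternatingGroup, map_mul, Equiv.Perm.sign_swap hab, Equiv.Perm.sign_swap hcd]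
  rfl

/-- subgroups between the alternating group and the symmetric group -/
theorem eq_alternatingGroup_or_eq_top [Fintype Ω] (Q : Subgroup (Equiv.Perm Ω))
    (hQ : alternatingGroup Ω ≤ Q) : Q = alternatingGroup Ω ∨ Q = ⊤ := by
  by_cases h : Q ≤ alternatingGroup Ω
  · exact Or.inl (le_antisymm h hQ)
  · right
    rw [SetLike.not_le_iff_exists] at h
    obtain ⟨q, hqQ, hq⟩ := h
    rw [Equiv.Perm.mem_alternatingGroup] at hq
    have hq' : Equiv.Perm.sign q = -1 := (Int.units_eq_one_or _).resolve_left hq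
    rw [eq_top_iff]
    intro g _
    rcases Int.units_eq_one_or (Equiv.Perm.sign g) with hg | hg
    · exact hQ (Equiv.Perm.mem_alternatingGroup.mpr hg)
    · have : g * q⁻¹ ∈ Q := by
        apply hQ
        rw [Equiv.Perm.mem_alternatingGroup, map_mul, map_inv, hg, hq']
        rfl
      have h2 := Q.mul_mem this hqQ
      simpa using h2

end Perm

end Cfsg.Agent.Lib.Helper98_MaxIn
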