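import Mathlib
import Cfsg.Agent.Lib.Helper98_OFADefs
import Cfsg.Agent.Lib.Helper54_OFA_API1
import Cfsg.Agent.Lib.Helper50_OFA_ZAPI
import Cfsg.Agent.Lib.Helper50_OFA_Z1
import Cfsg.Agent.Lib.Helper5_OFA_PERM

/-!
# OFA market (architect helper98), package MAIN3: the case `p = 3` of theorem `T(m)`

`x ∈ X ∖ ±E` has coordinates `0, ±1` and at least four nonzero ones; for `T = {a,b,d} ⊆ supp x` the vector
`u = x_T` is singular, `ε_T x = x + u ∈ X`, so `x ∈ Z_u` (G0) and `e_j ∈ Z_u` for all `j ∉ T` (Z1).  With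
`g = ε_q P_σ`, `σ = (p j₁)(r j₂)`, the vector `y = e_p + u_p g u` lies in `X ∩ Z_u` (G2, G1), which gives
`u_p e_p - u_q e_q ∈ Z_u`.  Hence `Z_u = u^⊥`; the same holds for `u' = ε_a u`, `B(u,u') = 2c ≠ 0`, and
`all_of_pair` finishes.
-/

set_option autoImplicit false
set_option linter.unusedSectionVars false
set_option linter.unusedVariables false
set_option linter.unusedSimpArgs false

namespace Cfsg.Agent.Lib.Helper98_OFA_MAIN3six

open Module Cfsg.Agent.Lib.Helper94_Symp Cfsg.Agent.Lib.Helper94_OrthSmall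
  Cfsg.Agent.Lib.Helper94_OrthSiegel Cfsg.Agent.Lib.Helper32_OFDefs
  Cfsg.Agent.Lib.Helper98_OFADefs

section Frame

variable {F V : Type*} [Field F] [Finite F] [AddCommGroup V] [Module F V] [FiniteDimensional F V]
variable {Q : V → F} {B : LinearMap.BilinForm F V}
variable {ι : Type*} [Fintype ι] [DecidableEq ι] {c : F} {e : ι → V}
variable {L : Subgroup (V ≃ₗ[F] V)}

/-! ### the field with three elements -/

theorem three_eq_zero (h3 : Nat.card F = 3) : (3 : F) = 0 := by
  have := Fintype.ofFinite F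
  have h1 : ((Fintype.card F : ℕ) : F) = 0 := Nat.cast_card_eq_zero F
  rw [← Nat.card_eq_fintype_card, h3] at h1
  exact_mod_cast h1

theorem cases3 (h3 : Nat.card F = 3) (t : F) : t = 0 ∨ t = 1 ∨ t = -1 := by
  have := Fintype.ofFinite F
  have h1 : t ^ Fintype.card F = t := FiniteField.pow_card t
  rw [← Nat.card_eq_fintype_card, h3] at h1
  have h2 : t * ((t - 1) * (t + 1)) = 0 := by linear_combination h1
  rcases mul_eq_zero.1 h2 with h | h
  · exact Or.inl h
  · rcases mul_eq_zero.1 h with h | h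
    · exact Or.inr (Or.inl (sub_eq_zero.1 h))
    · exact Or.inr (Or.inr (eq_neg_of_add_eq_zero_left h))

theorem sq3 (h3 : Nat.card F = 3) {t : F} (ht : t ≠ 0) : t * t = 1 := by
  rcases cases3 h3 t with h | h | h
  · exact absurd h ht
  · rw [h, mul_one]
  · rw [h, neg_mul_neg, mul_one]

/-! ### coordinates -/

theorem co_add (v w : V) (i : ι) : co B c e (v + w) i = co B c e v i + co B c e w i := by
  unfold co
  rw [map_add, LinearMap.add_apply, mul_add]

theorem co_smul (t : F) (v : V) (i : ι) : co B c e (t • v) i = t * co B c e v i := by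
  unfold co
  rw [map_smul, LinearMap.smul_apply, smul_eq_mul]
  ring

theorem B_e (hfr : OFr Q B c e) (v : V) (i : ι) : B v (e i) = 2 * c * co B c e v i := by
  unfold co
  rw [← mul_assoc, mul_inv_cancel₀ hfr.two_c, one_mul]

theorem B_e' (hfr : OFr Q B c e) (v : V) (i : ι) : B (e i) v = 2 * c * co B c e v i := by
  rw [hfr.symm, B_e hfr]

/-! ### the pair lemma -/

theorem pair_mem (hC : TCtx Q B c e L) (h3 : Nat.card F = 3) {p q r j1 j2 : ι}
    (hpq : p ≠ q) (hpr : p ≠ r) (hqr : q ≠ r) (hpj1 : p ≠ j1) (hpj2 : p ≠ j2) (hqj1 : q ≠ j1)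
    (hqj2 : q ≠ j2) (hrj1 : r ≠ j1) (hrj2 : r ≠ j2) (hj : j1 ≠ j2)
    {up uq ur : F} (hup : up ≠ 0) (huq : uq ≠ 0) (hur : ur ≠ 0)
    (hu : Q (up • e p + uq • e q + ur • e r) = 0)
    (h1 : e j1 ∈ ZL Q B L (up • e p + uq • e q + ur • e r))
    (h2 : e j2 ∈ ZL Q B L (up • e p + uq • e q + ur • e r)) :
    up • e p - uq • e q ∈ ZL Q B L (up • e p + uq • e q + ur • e r) := by
  have fr := hC.fr
  obtain ⟨Zadd, Zsmul, Zself, Zmap, Zscal, G0, G2, G1⟩ := Cfsg.Agent.Lib.Helper50_OFA_ZAPI.ZAPI hC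
  obtain ⟨A1, A2, A3, A4, A5, A6, A7, A8⟩ := Cfsg.Agent.Lib.Helper54_OFA_API1.API1 hC
  have hupp : up * up = 1 := sq3 h3 hup
  have huqq : uq * uq = 1 := sq3 h3 huq
  -- the even permutation `(p j1)(r j2)`
  have hσA : Equiv.swap p j1 * Equiv.swap r j2 ∈ alternatingGroup ι := by
    rw [Equiv.Perm.mem_alternatingGroup, map_mul, Equiv.Perm.sign_swap hpj1,
      Equiv.Perm.sign_swap hrj2]
    rfl
  obtain ⟨τ, hτL, hτ⟩ := Cfsg.Agent.Lib.Helper5_OFA_PERM.PERM hC _ hσA
  have hσp : (Equiv.swap p j1 * Equiv.swap r j2) p = j1 := by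
    rw [Equiv.Perm.mul_apply, Equiv.swap_apply_of_ne_of_ne hpr hpj2, Equiv.swap_apply_left]
  have hσq : (Equiv.swap p j1 * Equiv.swap r j2) q = q := by
    rw [Equiv.Perm.mul_apply, Equiv.swap_apply_of_ne_of_ne hqr hqj2,
      Equiv.swap_apply_of_ne_of_ne hpq.symm hqj1]
  have hσr : (Equiv.swap p j1 * Equiv.swap r j2) r = j2 := by
    rw [Equiv.Perm.mul_apply, Equiv.swap_apply_left,
      Equiv.swap_apply_of_ne_of_ne hpj2.symm hj.symm]
  have hσj1 : (Equiv.swap p j1 * Equiv.swap r j2) j1 = p := by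
    rw [Equiv.Perm.mul_apply, Equiv.swap_apply_of_ne_of_ne hrj1.symm hj, Equiv.swap_apply_right]
  have hgL : zJ B c e {q} * τ ∈ L := L.mul_mem (A2 {q}) hτL
  have hgp : (zJ B c e {q} * τ) (e p) = e j1 := by
    rw [LinearEquiv.mul_apply, hτ, hσp, fr.zJ_e_not_mem (by simpa using hqj1.symm)]
  have hgq : (zJ B c e {q} * τ) (e q) = -e q := by
    rw [LinearEquiv.mul_apply, hτ, hσq, fr.zJ_e_mem (by simp)]
  have hgr : (zJ B c e {q} * τ) (e r) = e j2 := by
    rw [LinearEquiv.mul_apply, hτ, hσr, fr.zJ_e_not_mem (by simpa using hqj2.symm)]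
  have hgj1 : (zJ B c e {q} * τ) (e j1) = e p := by
    rw [LinearEquiv.mul_apply, hτ, hσj1, fr.zJ_e_not_mem (by simpa using hpq)]
  have hgu : (zJ B c e {q} * τ) (up • e p + uq • e q + ur • e r) =
      up • e j1 - uq • e q + ur • e j2 := by
    rw [map_add, map_add, map_smul, map_smul, map_smul, hgp, hgq, hgr, smul_neg, sub_eq_add_neg]
  have hQgu : Q ((zJ B c e {q} * τ) (up • e p + uq • e q + ur • e r)) = 0 := by
    rw [hC.hLO hgL]; exact hu
  have hep : e p ∈ ZL Q B L ((zJ B c e {q} * τ) (up • e p + uq • e q + ur • e r)) := by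
    have := Zmap _ hgL _ hu _ h1
    rwa [hgj1] at this
  have hy := G2 _ hQgu (e p) (A3 p) hep up
  rw [hgu] at hy
  have hyu : B (e p + up • (up • e j1 - uq • e q + ur • e j2))
      (up • e p + uq • e q + ur • e r) = 0 := by
    simp only [map_add, map_sub, map_smul, LinearMap.add_apply, LinearMap.sub_apply,
      LinearMap.smul_apply, smul_eq_mul, fr.Bee', hpq, hpr, hqr, hpj1, hpj2, hqj1, hqj2, hrj1,
      hrj2, hj, hpq.symm, hpr.symm, hqr.symm, hpj1.symm, hpj2.symm, hqj1.symm, hqj2.symm,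
      hrj1.symm, hrj2.symm, hj.symm, if_true, if_false, mul_zero, add_zero, zero_add, sub_zero,
      zero_sub]
    linear_combination (-(2 * c * up)) * huqq
  have hyj1 : B (e p + up • (up • e j1 - uq • e q + ur • e j2)) (e j1) ≠ 0 := by
    simp only [map_add, map_sub, map_smul, LinearMap.add_apply, LinearMap.sub_apply,
      LinearMap.smul_apply, smul_eq_mul, fr.Bee', hpq, hpr, hqr, hpj1, hpj2, hqj1, hqj2, hrj1,
      hrj2, hj, hpq.symm, hpr.symm, hqr.symm, hpj1.symm, hpj2.symm, hqj1.symm, hqj2.symm,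
      hrj1.symm, hrj2.symm, hj.symm, if_true, if_false, mul_zero, add_zero, zero_add, sub_zero,
      zero_sub]
    rw [← mul_assoc, hupp, one_mul]
    exact fr.two_c
  have hyZ := G1 _ hu _ hy hyu (e j1) h1 hyj1
  have key : up • ((e p + up • (up • e j1 - uq • e q + ur • e j2)) + (-(up * up)) • e j1 +
      (-(up * ur)) • e j2) = up • e p - (up * up * uq) • e q := by
    module
  rw [hupp, one_mul] at key
  rw [← key]
  exact Zsmul _ hu _ (Zadd _ hu _ (Zadd _ hu _ hyZ _ (Zsmul _ hu _ h1 _)) _ (Zsmul _ hu _ h2 _)) up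

/-! ### `Z_u = u^⊥` -/

/-- `Z_u` as a subspace -/
def Zsub (hC : TCtx Q B c e L) {u : V} (hu : Q u = 0) : Submodule F V where
  carrier := ZL Q B L u
  add_mem' := fun ha hb => (Cfsg.Agent.Lib.Helper50_OFA_ZAPI.ZAPI hC).1 u hu _ ha _ hb
  zero_mem' := by
    have h := (Cfsg.Agent.Lib.Helper50_OFA_ZAPI.ZAPI hC).2.1 u hu u
      ((Cfsg.Agent.Lib.Helper50_OFA_ZAPI.ZAPI hC).2.2.1 u hu) 0
    rwa [zero_smul] at h
  smul_mem' := fun t z hz => (Cfsg.Agent.Lib.Helper50_OFA_ZAPI.ZAPI hC).2.1 u hu z hz t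

theorem mem_Zsub (hC : TCtx Q B c e L) {u : V} (hu : Q u = 0) (z : V) :
    z ∈ Zsub hC hu ↔ z ∈ ZL Q B L u := Iff.rfl

theorem exists_two_out (hm : 6 ≤ Fintype.card ι) (a b d : ι) :
    ∃ j1 j2 : ι, j1 ≠ j2 ∧ j1 ≠ a ∧ j1 ≠ b ∧ j1 ≠ d ∧ j2 ≠ a ∧ j2 ≠ b ∧ j2 ≠ d := by
  have h1 : 1 < (({a, b, d} : Finset ι)ᶜ).card := by
    rw [Finset.card_compl]
    have h2 : ({a, b, d} : Finset ι).card ≤ 3 := Finset.card_le_three
    omega
  obtain ⟨j1, hj1, j2, hj2, hne⟩ := Finset.one_lt_card.1 h1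
  rw [Finset.mem_compl, Finset.mem_insert, Finset.mem_insert, Finset.mem_singleton] at hj1 hj2
  push Not at hj1 hj2
  exact ⟨j1, j2, hne, hj1.1, hj1.2.1, hj1.2.2, hj2.1, hj2.2.1, hj2.2.2⟩

theorem perp_mem (hC : TCtx Q B c e L) (h3 : Nat.card F = 3) (hm : 6 ≤ Fintype.card ι)
    {a b d : ι} (hab : a ≠ b) (had : a ≠ d) (hbd : b ≠ d)
    {ua ub ud : F} (hua : ua ≠ 0) (hub : ub ≠ 0) (hud : ud ≠ 0)
    (hu : Q (ua • e a + ub • e b + ud • e d) = 0)
    (hout : ∀ j, j ≠ a → j ≠ b → j ≠ d → e j ∈ ZL Q B L (ua • e a + ub • e b + ud • e d)) :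
    ∀ z, B (ua • e a + ub • e b + ud • e d) z = 0 →
      z ∈ ZL Q B L (ua • e a + ub • e b + ud • e d) := by
  have fr := hC.fr
  have hua2 : ua * ua = 1 := sq3 h3 hua
  have hub2 : ub * ub = 1 := sq3 h3 hub
  have hud2 : ud * ud = 1 := sq3 h3 hud
  obtain ⟨j1, j2, hj, hj1a, hj1b, hj1d, hj2a, hj2b, hj2d⟩ := exists_two_out hm a b d
  have P1 := pair_mem hC h3 hab had hbd hj1a.symm hj2a.symm hj1b.symm hj2b.symm hj1d.symm
    hj2d.symm hj hua hub hud hu (hout j1 hj1a hj1b hj1d) (hout j2 hj2a hj2b hj2d)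
  have hperm : ub • e b + ud • e d + ua • e a = ua • e a + ub • e b + ud • e d := by abel
  have P2 := pair_mem (L := L) hC h3 hbd hab.symm had.symm hj1b.symm hj2b.symm hj1d.symm hj2d.symm
    hj1a.symm hj2a.symm hj hub hud hua (by rw [hperm]; exact hu)
    (by rw [hperm]; exact hout j1 hj1a hj1b hj1d) (by rw [hperm]; exact hout j2 hj2a hj2b hj2d)
  rw [hperm] at P2
  intro z hz
  -- the relation between the coordinates of `z`
  have hrel : ua * co B c e z a + ub * co B c e z b + ud * co B c e z d = 0 := by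
    rw [map_add, map_add, map_smul, map_smul, map_smul, LinearMap.add_apply, LinearMap.add_apply,
      LinearMap.smul_apply, LinearMap.smul_apply, LinearMap.smul_apply, B_e' fr, B_e' fr, B_e' fr,
      smul_eq_mul, smul_eq_mul, smul_eq_mul] at hz
    have h1 : 2 * c * (ua * co B c e z a + ub * co B c e z b + ud * co B c e z d) = 0 := by
      linear_combination hz
    rcases mul_eq_zero.1 h1 with h | h
    · exact absurd h fr.two_c
    · exact h
  have hzb : co B c e z b = -ub * (ua * co B c e z a + ud * co B c e z d) := by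
    linear_combination ub * hrel - (co B c e z b) * hub2
  have e1 : co B c e z a • e a + (co B c e z b • e b + co B c e z d • e d) =
      (co B c e z a * ua) • (ua • e a - ub • e b) +
        (-(co B c e z d * ud)) • (ub • e b - ud • e d) := by
    have h1 : (co B c e z a * ua) • (ua • e a - ub • e b) +
        (-(co B c e z d * ud)) • (ub • e b - ud • e d) =
        (ua * ua * co B c e z a) • e a +
          ((-ub * (ua * co B c e z a + ud * co B c e z d)) • e b +
            (ud * ud * co B c e z d) • e d) := by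
      module
    rw [h1, hua2, hud2, one_mul, one_mul, ← hzb]
  rw [← mem_Zsub hC hu] at P1 P2 ⊢
  have hz' := fr.exp' z
  rw [hz', ← Finset.sum_compl_add_sum ({a, b, d} : Finset ι)]
  apply Submodule.add_mem
  · apply Submodule.sum_mem
    intro j hj'
    rw [Finset.mem_compl, Finset.mem_insert, Finset.mem_insert, Finset.mem_singleton] at hj'
    push Not at hj'
    exact Submodule.smul_mem _ _ (hout j hj'.1 hj'.2.1 hj'.2.2)
  · rw [Finset.sum_insert (by simp [hab, had]), Finset.sum_insert (by simp [hbd]),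
      Finset.sum_singleton, e1]
    exact Submodule.add_mem _ (Submodule.smul_mem _ _ P1) (Submodule.smul_mem _ _ P2)

/-! ### the support of an element of `X` -/

theorem card_supp_cast (hfr : OFr Q B c e) (h3 : Nat.card F = 3) {x : V} (hx : Q x = c) :
    (((osupp B c e x).card : ℕ) : F) = 1 := by
  have h1 := hfr.Q_eq x
  rw [hx] at h1
  have h2 : ∑ i, co B c e x i * co B c e x i = 1 := by
    have h4 : c * (∑ i, co B c e x i * co B c e x i - 1) = 0 := by linear_combination -h1
    rcases mul_eq_zero.1 h4 with h | h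
    · exact absurd h hfr.c0
    · exact sub_eq_zero.1 h
  have h5 : ∀ i, co B c e x i * co B c e x i = if i ∈ osupp B c e x then (1 : F) else 0 := by
    intro i
    by_cases hi : co B c e x i = 0
    · rw [if_neg (by rw [mem_osupp]; exact not_not.2 hi), hi, mul_zero]
    · rw [if_pos (mem_osupp.2 hi), sq3 h3 hi]
  rw [Finset.sum_congr rfl (fun i _ => h5 i), Finset.sum_ite_mem, Finset.univ_inter,
    Finset.sum_const, nsmul_eq_mul, mul_one] at h2
  exact h2

theorem four_le_card_supp (hfr : OFr Q B c e) (h3 : Nat.card F = 3) {x : V} (hx : Q x = c)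
    (hpm : ¬ IsPM e x) : 4 ≤ (osupp B c e x).card := by
  have hcard := card_supp_cast hfr h3 hx
  have h30 := three_eq_zero (F := F) h3
  by_contra hlt
  push Not at hlt
  have hcases : (osupp B c e x).card = 0 ∨ (osupp B c e x).card = 1 ∨ (osupp B c e x).card = 2 ∨
      (osupp B c e x).card = 3 := by omega
  rcases hcases with h | h | h | h
  · rw [h, Nat.cast_zero] at hcard
    exact zero_ne_one hcard
  · apply hpm
    obtain ⟨k, hk⟩ := Finset.card_eq_one.1 h
    refine ⟨k, ?_⟩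
    have hz : ∀ i, i ≠ k → co B c e x i = 0 := by
      intro i hi
      by_contra h0
      have := mem_osupp.2 h0
      rw [hk, Finset.mem_singleton] at this
      exact hi this
    have hxk : x = co B c e x k • e k := by
      conv_lhs => rw [hfr.exp' x]
      rw [Finset.sum_eq_single k]
      · intro i _ hi
        rw [hz i hi, zero_smul]
      · intro hk'
        exact absurd (Finset.mem_univ k) hk'
    have hk0 : co B c e x k ≠ 0 := by
      have : k ∈ osupp B c e x := by rw [hk]; exact Finset.mem_singleton_self k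
      exact mem_osupp.1 this
    rcases cases3 h3 (co B c e x k) with h | h | h
    · exact absurd h hk0
    · left
      rw [hxk, h, one_smul]
    · right
      rw [hxk, h, neg_smul, one_smul]
  · rw [h] at hcard
    have : (1 : F) = 0 := by
      have h2 : ((2 : ℕ) : F) = 2 := by norm_num
      rw [h2] at hcard
      linear_combination hcard
    exact one_ne_zero this
  · rw [h] at hcard
    have h2 : ((3 : ℕ) : F) = 3 := by norm_num
    rw [h2, h30] at hcard
    exact zero_ne_one hcard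

/-- OFA-MAIN3 (L). -/
theorem MAIN3 (hC : TCtx Q B c e L) (h3 : Nat.card F = 3) (hm : 6 ≤ Fintype.card ι)
    (hne : ∃ x ∈ XL Q B c L, ¬ IsPM e x) :
    ∀ u' z : V, Q u' = 0 → B u' z = 0 → sieg Q B u' z ∈ L := by
  have fr := hC.fr
  obtain ⟨Zadd, Zsmul, Zself, Zmap, Zscal, G0, G2, G1⟩ := Cfsg.Agent.Lib.Helper50_OFA_ZAPI.ZAPI hC
  obtain ⟨A1, A2, A3, A4, A5, A6, A7, A8⟩ := Cfsg.Agent.Lib.Helper54_OFA_API1.API1 hC
  have h30 := three_eq_zero (F := F) h3
  obtain ⟨x, hx, hxpm⟩ := hne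
  have h4 := four_le_card_supp fr h3 hx.1 hxpm
  -- four indices of the support
  obtain ⟨T, hTs, hT3⟩ := Finset.exists_subset_card_eq (show 3 ≤ (osupp B c e x).card by omega)
  obtain ⟨j0, hj0s, hj0T⟩ := Finset.exists_mem_notMem_of_card_lt_card
    (show T.card < (osupp B c e x).card by omega)
  obtain ⟨a, b, d, hab, had, hbd, rfl⟩ := Finset.card_eq_three.1 hT3
  have haS : co B c e x a ≠ 0 := mem_osupp.1 (hTs (by simp))
  have hbS : co B c e x b ≠ 0 := mem_osupp.1 (hTs (by simp))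
  have hdS : co B c e x d ≠ 0 := mem_osupp.1 (hTs (by simp))
  have hj0x : co B c e x j0 ≠ 0 := mem_osupp.1 hj0s
  rw [Finset.mem_insert, Finset.mem_insert, Finset.mem_singleton] at hj0T
  push Not at hj0T
  have ha2 := sq3 h3 haS
  have hb2 := sq3 h3 hbS
  have hd2 := sq3 h3 hdS
  set xa := co B c e x a with hxa
  set xb := co B c e x b with hxb
  set xd := co B c e x d with hxd
  -- the singular vector `u = x_T`
  have hQu : Q (xa • e a + xb • e b + xd • e d) = 0 := by
    simp only [fr.hQp, fr.hQs, fr.Qe, map_add, map_smul, LinearMap.add_apply, LinearMap.smul_apply,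
      smul_eq_mul, fr.Bee', hab, had, hbd, if_false, mul_zero, add_zero]
    rw [ha2, hb2, hd2]
    linear_combination c * h30
  have hco : ∀ j, j ≠ a → j ≠ b → j ≠ d → co B c e (xa • e a + xb • e b + xd • e d) j = 0 := by
    intro j hja hjb hjd
    rw [co_add, co_add, co_smul, co_smul, co_smul, fr.co_e, fr.co_e, fr.co_e, if_neg hja.symm,
      if_neg hjb.symm, if_neg hjd.symm]
    ring
  -- `ε_T x = x + u`
  have hzx : zJ B c e {a, b, d} x = x + (xa • e a + xb • e b + xd • e d) := by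
    rw [fr.zJ_apply, Finset.sum_insert (by simp [hab, had]), Finset.sum_insert (by simp [hbd]),
      Finset.sum_singleton, B_e fr, B_e fr, B_e fr]
    have h2 : ∀ t : F, c⁻¹ * (2 * c * t) = -t := by
      intro t
      have hc := fr.c0
      field_simp
      linear_combination t * h30
    rw [h2, h2, h2]
    module
  have hxu : x + (xa • e a + xb • e b + xd • e d) ∈ XL Q B c L := by
    rw [← hzx]
    exact A5 _ (A2 _) x hx
  have hBxu : B x (xa • e a + xb • e b + xd • e d) = 0 := by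
    rw [map_add, map_add, map_smul, map_smul, map_smul, B_e fr, B_e fr, B_e fr, smul_eq_mul,
      smul_eq_mul, smul_eq_mul]
    linear_combination (2 * c) * ha2 + (2 * c) * hb2 + (2 * c) * hd2 + (2 * c) * h30
  have hxZ := G0 x hx _ hQu hBxu hxu
  obtain ⟨Z1a, Z1b⟩ := Cfsg.Agent.Lib.Helper50_OFA_Z1.Z1 hC hQu
  have hej0 := Z1a x hxZ j0 (hco j0 hj0T.1 hj0T.2.1 hj0T.2.2) hj0x
  have hcompl : 3 ≤ (osupp B c e (xa • e a + xb • e b + xd • e d))ᶜ.card := by
    have hsub : osupp B c e (xa • e a + xb • e b + xd • e d) ⊆ {a, b, d} := by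
      intro i hi
      by_contra hiT
      rw [Finset.mem_insert, Finset.mem_insert, Finset.mem_singleton] at hiT
      push Not at hiT
      exact mem_osupp.1 hi (hco i hiT.1 hiT.2.1 hiT.2.2)
    have h5 := Finset.card_le_card hsub
    have h6 : ({a, b, d} : Finset ι).card ≤ 3 := Finset.card_le_three
    rw [Finset.card_compl]
    omega
  have hout : ∀ j, j ≠ a → j ≠ b → j ≠ d →
      e j ∈ ZL Q B L (xa • e a + xb • e b + xd • e d) := fun j hja hjb hjd =>
    Z1b j0 j (hco j0 hj0T.1 hj0T.2.1 hj0T.2.2) (hco j hja hjb hjd) hcompl hej0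
  have hperp := perp_mem hC h3 hm hab had hbd haS hbS hdS hQu hout
  -- the second singular vector `u' = ε_a u`
  have hgL : zJ B c e {a} ∈ L := A2 {a}
  have hgO : zJ B c e {a} ∈ oG Q := hC.hLO hgL
  have hQu' : Q (zJ B c e {a} (xa • e a + xb • e b + xd • e d)) = 0 := by
    rw [hgO]; exact hQu
  have hinv : ∀ v, zJ B c e {a} (zJ B c e {a} v) = v := by
    intro v
    have := congrArg (fun f : V ≃ₗ[F] V => f v) (fr.zJ_mul_self ({a} : Finset ι))
    exact this
  have hperp' : ∀ z, B (zJ B c e {a} (xa • e a + xb • e b + xd • e d)) z = 0 →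
      sieg Q B (zJ B c e {a} (xa • e a + xb • e b + xd • e d)) z ∈ L := by
    intro z hz
    have h1 : B (xa • e a + xb • e b + xd • e d) (zJ B c e {a} z) = 0 := by
      rw [← oG_B Q B fr.hQp hgO, hinv]
      exact hz
    have h2 := Zmap _ hgL _ hQu _ (hperp _ h1)
    rw [hinv] at h2
    exact h2.2
  have hBuu' : B (xa • e a + xb • e b + xd • e d)
      (zJ B c e {a} (xa • e a + xb • e b + xd • e d)) ≠ 0 := by
    have hu' : zJ B c e {a} (xa • e a + xb • e b + xd • e d) =
        xa • (-e a) + xb • e b + xd • e d := by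
      rw [map_add, map_add, map_smul, map_smul, map_smul, fr.zJ_e_mem (by simp),
        fr.zJ_e_not_mem (by simpa using hab.symm), fr.zJ_e_not_mem (by simpa using had.symm)]
    rw [hu']
    simp only [map_add, map_neg, map_smul, LinearMap.add_apply, LinearMap.neg_apply,
      LinearMap.smul_apply, smul_eq_mul, fr.Bee', hab, had, hbd, hab.symm, had.symm, hbd.symm,
      if_true, if_false, mul_zero, add_zero, zero_add, neg_zero]
    have h7 : xa * -(xa * (2 * c)) + xb * (xb * (2 * c)) + xd * (xd * (2 * c)) = 2 * c := by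
      linear_combination (-(2 * c)) * ha2 + (2 * c) * hb2 + (2 * c) * hd2
    rw [h7]
    exact fr.two_c
  exact Cfsg.Agent.Lib.Helper94_OrthVec.all_of_pair Q B fr.hQs fr.hQp fr.nondeg L hC.hLO
    ⟨hQu, fun z hz => (hperp z hz).2⟩ ⟨hQu', hperp'⟩ hBuu'

end Frame

end Cfsg.Agent.Lib.Helper98_OFA_MAIN3six
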