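import Mathlib
import Cfsg.Agent.Lib.Helper98_OFAMain
import Cfsg.Agent.Lib.Helper98_OFA_MAIN3six

set_option autoImplicit false
set_option linter.unusedSimpArgs false
set_option linter.unusedVariables false
set_option linter.unusedSectionVars false

/-!
# Orthogonal frames, CASE (A): theorem `T(m)` for `m ≥ 6`

`Helper98_OFAMain.TM` with the bound `7 ≤ |ι|` relaxed to `6 ≤ |ι|` (the only package which asked for
`7` was MAIN3, `p = 3`; `Helper98_OFA_MAIN3six` is helper61's proof with the bound `6`).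
`propTabs6` is the form used by helper32's transfer (`Helper32_OFTransfer.PropTabs F n`, `6 ≤ n`),
i.e. frames of `n + 1 ≥ 7` vectors.
-/

namespace Cfsg.Agent.Lib.Helper98_OFAMain6

open Module Cfsg.Agent.Lib.Helper94_Symp Cfsg.Agent.Lib.Helper94_OrthSmall
  Cfsg.Agent.Lib.Helper94_OrthSiegel Cfsg.Agent.Lib.Helper32_OFDefs
  Cfsg.Agent.Lib.Helper98_OFADefs Cfsg.Agent.Lib.Helper98_OFAMain

section Frame

variable {F V : Type*} [Field F] [Finite F] [AddCommGroup V] [Module F V] [FiniteDimensional F V]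
variable {Q : V → F} {B : LinearMap.BilinForm F V}
variable {ι : Type*} [Fintype ι] [DecidableEq ι] {c : F} {e : ι → V}
variable {L : Subgroup (V ≃ₗ[F] V)}

/-- THEOREM T(m), `m ≥ 6`. -/
theorem TM6 (hC : TCtx Q B c e L) (hm : 6 ≤ Fintype.card ι) (hne : ∃ g ∈ L, ¬ IsMon e g) :
    ∀ u z : V, Q u = 0 → B u z = 0 → sieg Q B u z ∈ L := by
  classical
  have hp := hC.hp
  have h2 : (2 : F) ≠ 0 := hC.fr.h2
  have hp2 : Nat.card F ≠ 2 := by
    intro h
    have : Fintype F := Fintype.ofFinite F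
    have hc : ringChar F ∣ 2 := by
      have := FiniteField.card F (ringChar F)
      obtain ⟨n, hpr, hcard⟩ := this
      rw [Nat.card_eq_fintype_card] at h
      rw [h] at hcard
      have hdvd : ringChar F ∣ ringChar F ^ (n : ℕ) := dvd_pow_self _ n.ne_zero
      rw [← hcard] at hdvd
      exact hdvd
    have : ((2 : ℕ) : F) = 0 := (ringChar.spec F 2).mpr hc
    exact h2 (by exact_mod_cast this)
  have hp2' : 2 ≤ Nat.card F := hp.two_le
  by_cases h3 : Nat.card F = 3
  · exact Cfsg.Agent.Lib.Helper98_OFA_MAIN3six.MAIN3 hC h3 hm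
      ((Cfsg.Agent.Lib.Helper54_OFA_API1.API1 hC).2.2.2.2.2.2.2 hne)
  have hp5 : 5 ≤ Nat.card F := by
    by_contra hlt
    push Not at hlt
    have : Nat.card F = 4 := by omega
    rw [this] at hp
    exact absurd hp (by decide)
  obtain ⟨x, hx, hxE, hxR⟩ := Cfsg.Agent.Lib.Helper5_OFA_RLEM.RLEM hC (by omega) hne
  have htan : Tang Q B c e L → ∀ u z : V, Q u = 0 → B u z = 0 → sieg Q B u z ∈ L := by
    intro ht
    obtain ⟨u, hu⟩ := TAN hC hm hp5 ht
    exact Cfsg.Agent.Lib.Helper43_OFA_MFIN.MFIN hC hp5 hu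
  by_cases h5 : Nat.card F = 5
  · exact htan (Cfsg.Agent.Lib.Helper70_OFA_SMALL5.SMALL5 hC h5 hm hx hxE)
  by_cases h7 : Nat.card F = 7
  · exact htan (Cfsg.Agent.Lib.Helper16_OFA_SMALL7.SMALL7 hC h7 hm hx hxE hxR)
  have hp11 : 11 ≤ Nat.card F := by
    by_contra hlt
    push Not at hlt
    have h6 : Nat.card F ≠ 6 := fun h => by rw [h] at hp; exact absurd hp (by decide)
    have h8 : Nat.card F ≠ 8 := fun h => by rw [h] at hp; exact absurd hp (by decide)
    have h9 : Nat.card F ≠ 9 := fun h => by rw [h] at hp; exact absurd hp (by decide)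
    have h10 : Nat.card F ≠ 10 := fun h => by rw [h] at hp; exact absurd hp (by decide)
    omega
  rcases GEN11 hC hm hp11 hx hxE hxR with ht | ⟨y, hy, hyE, hyR, hys⟩
  · exact htan ht
  · have hF := COORD3 hC (by omega) hp5 hy hyE hyR hys
    obtain ⟨u, hu⟩ := Cfsg.Agent.Lib.Helper34_OFA_STAR.STAR hC hm (by omega) hF
    exact Cfsg.Agent.Lib.Helper43_OFA_MFIN.MFIN hC hp5 hu

end Frame

universe u

/-- `T(m)` in the form `PropTabs` of helper32 (`Helper32_OFTransfer`), for every frame size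
`n ≥ 6` over a prime field. -/
theorem propTabs6 {F : Type*} [Field F] [Finite F] (hp : (Nat.card F).Prime) {n : ℕ}
    (hn : 6 ≤ n) : Cfsg.Agent.Lib.Helper32_OFTransfer.PropTabs.{u} F n := by
  intro W _ _ κ _ _ Q' B' c e' hfr hcard L' hLO hz h3 hne
  have hfd : FiniteDimensional F W := by
    classical
    refine ⟨⟨Finset.univ.image e', ?_⟩⟩
    rw [eq_top_iff]
    intro v _
    rw [hfr.exp v]
    refine Submodule.sum_mem _ fun i _ => Submodule.smul_mem _ _ (Submodule.subset_span ?_)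
    simp
  exact TM6 ⟨hfr, hLO, hz, h3, hp⟩ (by omega) hne

end Cfsg.Agent.Lib.Helper98_OFAMain6
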