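import Mathlib
import Cfsg.Agent.Lib.Helper98_OFAMain6
import Cfsg.Agent.Lib.Helper44_OF_STRICT

set_option autoImplicit false
set_option linter.unusedSimpArgs false
set_option linter.unusedVariables false
set_option linter.unusedSectionVars false

/-!
# Orthogonal frames in ODD dimension `n ≥ 7`: case (C) without any work

For odd `n` the central element `-1` turns double sign changes into single ones:
`-z_{J} = z_{Jᶜ}` and `|{k}ᶜ| = n - 1` is even.  So if `M` contains the double sign changes and the
3-cycles, `L = M ∪ -M` is a group containing the reflections `z_k`, and helper98's theorem `T(n)`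
(`Helper98_OFAMain6.TM6`, applied in the FULL dimension `n`) shows: if `M` contains a non-monomial
element then `L` contains all Siegel elements, hence `M` contains all their squares, i.e. all Siegel
elements.  In particular Theorem C of helper32 (`CCtx → every element of M is monomial`) holds for
every odd `n ≥ 7` over a prime field.
-/

namespace Cfsg.Agent.Lib.Helper98_OFOdd

open Module Cfsg.Agent.Lib.Helper94_Symp Cfsg.Agent.Lib.Helper94_OrthSmall
  Cfsg.Agent.Lib.Helper94_OrthSiegel Cfsg.Agent.Lib.Helper94_OrthSiegel2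
  Cfsg.Agent.Lib.Helper32_OFDefs
  Cfsg.Agent.Lib.Helper98_OFADefs

variable {F V : Type*} [Field F] [AddCommGroup V] [Module F V]
variable {Q : V → F} {B : LinearMap.BilinForm F V}
variable {ι : Type*} [Fintype ι] [DecidableEq ι] {c : F} {e : ι → V}
variable {M : Subgroup (V ≃ₗ[F] V)}

/-- sign changes at sets of even size are products of double sign changes -/
lemma zJ_even_mem (hfr : OFr Q B c e) (hM : HasMon B c e M) :
    ∀ (n : ℕ) (T : Finset ι), T.card = 2 * n → zJ B c e T ∈ M := by
  intro n
  induction n with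
  | zero =>
    intro T hT
    have : T = ∅ := Finset.card_eq_zero.mp (by omega)
    rw [this, hfr.zJ_empty]
    exact M.one_mem
  | succ n ih =>
    intro T hT
    obtain ⟨a, ha⟩ : T.Nonempty := Finset.card_pos.mp (by omega)
    obtain ⟨b, hb⟩ : (T.erase a).Nonempty := Finset.card_pos.mp (by
      rw [Finset.card_erase_of_mem ha]; omega)
    have hba : b ≠ a := Finset.ne_of_mem_erase hb
    have hbT : b ∈ T := Finset.mem_of_mem_erase hb
    set T' := (T.erase a).erase b with hT'
    have hcard : T'.card = 2 * n := by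
      rw [hT', Finset.card_erase_of_mem hb, Finset.card_erase_of_mem ha]; omega
    have hprod : zJ B c e T = zJ B c e {a, b} * zJ B c e T' := by
      apply hfr.equiv_ext
      intro i
      rw [LinearEquiv.mul_apply, hfr.zJ_e T' i, hfr.zJ_e T i]
      by_cases hia : i = a
      · subst hia
        have h1 : i ∉ T' := by
          rw [hT']
          intro h
          exact Finset.notMem_erase i T (Finset.mem_of_mem_erase h)
        rw [if_pos ha, if_neg h1, hfr.zJ_e, if_pos (by simp)]
      by_cases hib : i = b
      · subst hib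
        have h1 : i ∉ T' := by
          rw [hT']
          exact Finset.notMem_erase i _
        rw [if_pos hbT, if_neg h1, hfr.zJ_e, if_pos (by simp)]
      · have hiab : i ∉ ({a, b} : Finset ι) := by simp [hia, hib]
        by_cases hiT : i ∈ T
        · have h1 : i ∈ T' := by
            rw [hT']
            exact Finset.mem_erase.mpr ⟨hib, Finset.mem_erase.mpr ⟨hia, hiT⟩⟩
          rw [if_pos hiT, if_pos h1, map_neg, hfr.zJ_e, if_neg hiab]
        · have h1 : i ∉ T' := by
            rw [hT']
            intro h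
            exact hiT (Finset.mem_of_mem_erase (Finset.mem_of_mem_erase h))
          rw [if_neg hiT, if_neg h1, hfr.zJ_e, if_neg hiab]
    rw [hprod]
    exact M.mul_mem (hM.hz a b hba.symm) (ih T' hcard)

/-- `L = M ∪ -M` -/
def negExt (M : Subgroup (V ≃ₗ[F] V)) : Subgroup (V ≃ₗ[F] V) where
  carrier := {g | g ∈ M ∨ LinearEquiv.neg F * g ∈ M}
  one_mem' := Or.inl M.one_mem
  mul_mem' := by
    intro g h hg hh
    have hN : ∀ x : V ≃ₗ[F] V, LinearEquiv.neg F * x = x * LinearEquiv.neg F := by
      intro x
      ext v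
      simp
    have hNN : (LinearEquiv.neg F : V ≃ₗ[F] V) * LinearEquiv.neg F = 1 := by
      ext v
      simp
    rcases hg with hg | hg <;> rcases hh with hh | hh
    · exact Or.inl (M.mul_mem hg hh)
    · right
      have : LinearEquiv.neg F * (g * h) = g * (LinearEquiv.neg F * h) := by
        rw [← mul_assoc, hN g, mul_assoc]
      rw [this]
      exact M.mul_mem hg hh
    · right
      rw [← mul_assoc]
      exact M.mul_mem hg hh
    · left
      have : g * h = (LinearEquiv.neg F * g) * (LinearEquiv.neg F * h) := by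
        rw [mul_assoc, ← mul_assoc g, ← hN g, mul_assoc, ← mul_assoc, ← mul_assoc, hNN, one_mul]
      rw [this]
      exact M.mul_mem hg hh
  inv_mem' := by
    intro g hg
    have hN : ∀ x : V ≃ₗ[F] V, LinearEquiv.neg F * x = x * LinearEquiv.neg F := by
      intro x
      ext v
      simp
    have hNi : (LinearEquiv.neg F : V ≃ₗ[F] V)⁻¹ = LinearEquiv.neg F := by
      apply inv_eq_of_mul_eq_one_right
      ext v
      simp
    rcases hg with hg | hg
    · exact Or.inl (M.inv_mem hg)
    · right
      have : LinearEquiv.neg F * g⁻¹ = (LinearEquiv.neg F * g)⁻¹ := by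
        rw [mul_inv_rev, hNi, hN]
      rw [this]
      exact M.inv_mem hg

lemma mem_negExt {g : V ≃ₗ[F] V} : g ∈ negExt M ↔ g ∈ M ∨ LinearEquiv.neg F * g ∈ M := Iff.rfl

/-- squares of elements of `M ∪ -M` are in `M` -/
lemma sq_mem_of_mem_negExt {g : V ≃ₗ[F] V} (hg : g ∈ negExt M) : g * g ∈ M := by
  rcases hg with hg | hg
  · exact M.mul_mem hg hg
  · have hN : ∀ x : V ≃ₗ[F] V, LinearEquiv.neg F * x = x * LinearEquiv.neg F := by
      intro x
      ext v
      simp
    have hNN : (LinearEquiv.neg F : V ≃ₗ[F] V) * LinearEquiv.neg F = 1 := by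
      ext v
      simp
    have : g * g = (LinearEquiv.neg F * g) * (LinearEquiv.neg F * g) := by
      rw [mul_assoc, ← mul_assoc g, ← hN g, mul_assoc, ← mul_assoc, ← mul_assoc, hNN, one_mul]
    rw [this]
    exact M.mul_mem hg hg

/-- **Odd dimension**: a group of isometries containing the double sign changes, the 3-cycles and
a non-monomial element contains every Siegel element (`n` odd, `n ≥ 7`, prime field). -/
theorem all_sieg_of_odd [Finite F] [FiniteDimensional F V] (hfr : OFr Q B c e) (hMO : M ≤ oG Q)
    (hM : HasMon B c e M) (hp : (Nat.card F).Prime) (hodd : Odd (Fintype.card ι))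
    (h7 : 7 ≤ Fintype.card ι) (hne : ∃ g ∈ M, ¬ IsMon e g) :
    ∀ u z : V, Q u = 0 → B u z = 0 → sieg Q B u z ∈ M := by
  classical
  have hQs := hfr.hQs
  have hQp := hfr.hQp
  have hNO : (LinearEquiv.neg F : V ≃ₗ[F] V) ∈ oG Q := by
    intro v
    have := hQs (-1) v
    rw [neg_one_smul] at this
    show Q (-v) = Q v
    rw [this]; ring
  have hCtx : TCtx Q B c e (negExt M) := by
    refine ⟨hfr, ?_, ?_, ?_, hp⟩
    · intro g hg
      rcases hg with hg | hg
      · exact hMO hg
      · have h1 := (oG Q).mul_mem hNO (hMO hg)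
        have hNN : (LinearEquiv.neg F : V ≃ₗ[F] V) * LinearEquiv.neg F = 1 := by
          ext v
          simp
        rwa [← mul_assoc, hNN, one_mul] at h1
    · intro k
      right
      have hcard : (Finset.univ.erase k : Finset ι).card = 2 * ((Fintype.card ι - 1) / 2) := by
        rw [Finset.card_erase_of_mem (Finset.mem_univ k), Finset.card_univ]
        obtain ⟨r, hr⟩ := hodd
        omega
      have h1 := zJ_even_mem hfr hM _ _ hcard
      have h2 : LinearEquiv.neg F * zJ B c e {k} = zJ B c e (Finset.univ.erase k) := by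
        apply hfr.equiv_ext
        intro i
        rw [LinearEquiv.mul_apply, hfr.zJ_e, hfr.zJ_e]
        by_cases hik : i = k
        · subst hik
          rw [if_pos (by simp), if_neg (by simp)]
          simp
        · rw [if_neg (by simpa using hik), if_pos (by simp [hik])]
          simp
      rw [h2]
      exact h1
    · intro a b d hab had hbd
      obtain ⟨τ, hτ, h⟩ := hM.h3 a b d hab had hbd
      exact ⟨τ, Or.inl hτ, h⟩
  obtain ⟨g, hg, hgm⟩ := hne
  have hall := Cfsg.Agent.Lib.Helper98_OFAMain6.TM6 hCtx (by omega) ⟨g, Or.inl hg, hgm⟩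
  intro u z hu huz
  have h2 : (2 : F) ≠ 0 := hfr.h2
  have hhalf : B u ((2 : F)⁻¹ • z) = 0 := by rw [map_smul, huz, smul_zero]
  have hs := hall u ((2 : F)⁻¹ • z) hu hhalf
  have hsq := sq_mem_of_mem_negExt hs
  rw [sieg_mul Q B hQs hQp hu hhalf hhalf] at hsq
  have : (2 : F)⁻¹ • z + (2 : F)⁻¹ • z = z := by
    rw [← add_smul, ← two_mul, mul_inv_cancel₀ h2, one_smul]
  rwa [this] at hsq

/-- vectors of the span of some frame vectors are orthogonal to the other frame vectors -/
lemma B_span_eq_zero (hfr : OFr Q B c e) (S : Finset ι) {x : V}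
    (hx : x ∈ Submodule.span F (e '' (S : Set ι))) {j : ι} (hj : j ∉ S) : B x (e j) = 0 := by
  refine Submodule.span_induction (p := fun x _ => B x (e j) = 0) ?_ ?_ ?_ ?_ hx
  · rintro _ ⟨k, hk, rfl⟩
    apply hfr.orth
    rintro rfl
    exact hj hk
  · simp
  · intro x y _ _ hx hy
    rw [map_add, LinearMap.add_apply, hx, hy, add_zero]
  · intro a x _ hx
    rw [map_smul, LinearMap.smul_apply, hx, smul_zero]

/-- a non-monomial Siegel element fixing a frame vector -/
lemma exists_sieg_fix [Finite F] [FiniteDimensional F V] (hfr : OFr Q B c e)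
    (hn : 5 ≤ Fintype.card ι) :
    ∃ (p z : V) (k : ι), Q p = 0 ∧ B p z = 0 ∧ sieg Q B p z (e k) = e k ∧
      ¬ IsMon e (sieg Q B p z) := by
  classical
  have hcard : Fintype.card (Fin 5) ≤ Fintype.card ι := by rw [Fintype.card_fin]; exact hn
  obtain ⟨f⟩ := Function.Embedding.nonempty_of_card_le hcard
  set S : Finset ι := {f 0, f 1, f 2} with hS
  have hf : ∀ i j : Fin 5, i ≠ j → f i ≠ f j := fun i j hij h => hij (f.injective h)
  have hScard : S.card = 3 := by
    rw [hS, Finset.card_insert_of_notMem, Finset.card_insert_of_notMem, Finset.card_singleton]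
    · simp only [Finset.mem_singleton]
      exact hf 1 2 (by decide)
    · simp only [Finset.mem_insert, Finset.mem_singleton, not_or]
      exact ⟨hf 0 1 (by decide), hf 0 2 (by decide)⟩
  have h3S : f 3 ∉ S := by
    simp only [hS, Finset.mem_insert, Finset.mem_singleton, not_or]
    exact ⟨hf 3 0 (by decide), hf 3 1 (by decide), hf 3 2 (by decide)⟩
  have h4S : f 4 ∉ S := by
    simp only [hS, Finset.mem_insert, Finset.mem_singleton, not_or]
    exact ⟨hf 4 0 (by decide), hf 4 1 (by decide), hf 4 2 (by decide)⟩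
  have hli : LinearIndependent F (fun k : S => e k.1) :=
    (Cfsg.Agent.Lib.Helper44_OF_STRICT.linearIndependent_frame hfr).comp _ Subtype.val_injective
  have hrange : Set.range (fun k : S => e k.1) = e '' (S : Set ι) := by
    ext v
    simp
  have hfin : finrank F (Submodule.span F (e '' (S : Set ι))) = 3 := by
    rw [← hrange, finrank_span_eq_card hli, Fintype.card_coe, hScard]
  obtain ⟨p, hpU, hp0, hQp0⟩ := exists_singular_in Q B hfr.hQs hfr.hQp
    (Submodule.span F (e '' (S : Set ι))) (by rw [hfin])
  have hp3 : B p (e (f 3)) = 0 := B_span_eq_zero hfr S hpU h3S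
  have hp4 : B p (e (f 4)) = 0 := B_span_eq_zero hfr S hpU h4S
  refine ⟨p, e (f 3), f 4, hQp0, hp3, ?_, ?_⟩
  · rw [sieg_apply Q B hfr.hQs hfr.hQp hQp0 hp3, hfr.symm (e (f 4)) p, hp4,
      hfr.orth (f 4) (f 3) (hf 4 3 (by decide))]
    simp
  · intro hmon
    obtain ⟨k, hk⟩ := hmon (f 3)
    have himg : sieg Q B p (e (f 3)) (e (f 3)) = e (f 3) - (2 * c) • p := by
      rw [sieg_apply Q B hfr.hQs hfr.hQp hQp0 hp3, hfr.symm (e (f 3)) p, hp3, hfr.Bee]
      simp
    -- the coordinate at `f 3` is nonzero, so `k = f 3`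
    have hc3 : B (sieg Q B p (e (f 3)) (e (f 3))) (e (f 3)) = 2 * c := by
      rw [himg, map_sub, LinearMap.sub_apply, map_smul, LinearMap.smul_apply, hp3, hfr.Bee]
      simp
    have hk3 : k = f 3 := by
      by_contra hne
      have h0 : B (sieg Q B p (e (f 3)) (e (f 3))) (e (f 3)) = 0 := by
        rcases hk with hk | hk
        · rw [hk, hfr.orth k (f 3) hne]
        · rw [hk, map_neg, LinearMap.neg_apply, hfr.orth k (f 3) hne, neg_zero]
      rw [hc3] at h0
      exact hfr.two_c h0
    -- hence all other coordinates vanish, i.e. `p = 0`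
    apply hp0
    apply hfr.ext
    intro j
    rw [map_zero, LinearMap.zero_apply]
    by_cases hj : j = f 3
    · rw [hj, hp3]
    · have h0 : B (sieg Q B p (e (f 3)) (e (f 3))) (e j) = 0 := by
        rcases hk with hk | hk
        · rw [hk, hk3, hfr.orth (f 3) j (Ne.symm hj)]
        · rw [hk, hk3, map_neg, LinearMap.neg_apply, hfr.orth (f 3) j (Ne.symm hj), neg_zero]
      rw [himg, map_sub, LinearMap.sub_apply, map_smul, LinearMap.smul_apply,
        hfr.orth (f 3) j (Ne.symm hj), zero_sub, neg_eq_zero, smul_eq_mul] at h0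
      rcases mul_eq_zero.mp h0 with h | h
      · exact absurd h hfr.two_c
      · exact h

/-- **Theorem C in odd dimension** (helper32's case (C)): for odd `n ≥ 7` over a prime field, under
`CCtx` every element of `M` is monomial. -/
theorem thmC_odd [Finite F] [FiniteDimensional F V] (hC : CCtx Q B c e M)
    (hp : (Nat.card F).Prime) (hodd : Odd (Fintype.card ι)) (h7 : 7 ≤ Fintype.card ι) :
    ∀ g ∈ M, IsMon e g := by
  by_contra hcon
  push Not at hcon
  obtain ⟨g, hg, hgm⟩ := hcon
  have hall := all_sieg_of_odd hC.fr hC.hMO hC.mon hp hodd h7 ⟨g, hg, hgm⟩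
  obtain ⟨p, z, k, hQp0, hpz, hfix, hnm⟩ := exists_sieg_fix hC.fr (by omega)
  exact hnm (hC.hC _ (hall p z hQp0 hpz) k (Or.inl hfix))

end Cfsg.Agent.Lib.Helper98_OFOdd
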