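import Mathlib
import Cfsg.Agent.Lib.Helper98_OFOdd
import Cfsg.Agent.Lib.Helper32_OFBridge
import Cfsg.Agent.Lib.Helper32_OFTransfer
import Cfsg.Agent.S5675
import Cfsg.Agent.Lib.Helper44_FinSq

set_option autoImplicit false
set_option linter.unusedSimpArgs false
set_option linter.unusedVariables false
set_option linter.unusedSectionVars false

/-!
# Orthogonal frames in odd dimension `n ≥ 7` over a prime field: the prelude form

`frame_maximal_odd`: the stabiliser of a decomposition of `F_p^n` (`n` odd, `n ≥ 7`) into `n`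
pairwise orthogonal isometric nondegenerate lines is maximal in `Ω` - the frame conjuncts of
`Ω_7(q)` (S5813) and `Ω_9(q)` (S5834), and of every odd `n ≥ 7`.

Case (C) is `Helper98_OFOdd.thmC_odd` (for odd `n`, `-1` turns double sign changes into reflections,
so `T(n)` applies in the full dimension); case (A) is helper32's `caseA` with `T(n-1)`,
`n - 1 ≥ 6` (`Helper98_OFAMain6.propTabs6`).
-/

namespace Cfsg.Agent.Lib.Helper98_OFOddBridge

open Cfsg Cfsg.Agent.Lib.Helper32_OFDefs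

theorem frame_maximal_odd {ι : Type} [Fintype ι] [DecidableEq ι] {F : Type*} [Field F] [Fintype F]
    (Q : (ι → F) → F) (hQ : Cfsg.Geo.IsNondegenerateQuadraticForm Q) (h2 : (2 : F) ≠ 0)
    (hp : (Fintype.card F).Prime) (hodd : Odd (Fintype.card ι)) (hcard : 7 ≤ Fintype.card ι)
    {t : ℕ} (D : Fin t → Submodule F (ι → F))
    (hD : Cfsg.Geo.IsOrthogonalMDecomposition Q 1 D) :
    Cfsg.Geo.IsMaximalIn (Cfsg.Geo.omegaGL Q)
      (Cfsg.Geo.decompositionStabilizer D ⊓ Cfsg.Geo.omegaGL Q) := by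
  have hpN : (Nat.card F).Prime := by rw [Nat.card_eq_fintype_card]; exact hp
  exact Cfsg.Agent.Lib.Helper32_OFBridge.frame_maximal' Q hQ h2 hcard
    (fun c e M hC => Cfsg.Agent.Lib.Helper98_OFOdd.thmC_odd hC hpN
      (by rw [Fintype.card_fin]; exact hodd) (by rw [Fintype.card_fin]; exact hcard))
    (fun c e hfr => Cfsg.Agent.Lib.Helper32_OFTransfer.propT_of_abs hfr
      (Cfsg.Agent.Lib.Helper98_OFAMain6.propTabs6 hpN (n := Fintype.card ι - 1) (by omega))
      (by rw [Fintype.card_fin]; omega)) D hD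

/-- the frame conjunct of the `Ω_{2m+1}(q)` rows (`q = p` prime, `m ≥ 3`): S5813 (3) for `m = 3`,
S5834 (3) for `m = 4`, S5858 (3) for `m = 5`. -/
theorem omegaOdd_frames {F : Type*} [Field F] [Fintype F] (hodd : Odd (Fintype.card F)) (m : ℕ)
    (hm : 3 ≤ m) (hp : (Fintype.card F).Prime) {t : ℕ}
    (D : Fin t → Submodule F (Unit ⊕ (Fin m ⊕ Fin m) → F))
    (hD : Cfsg.Geo.IsOrthogonalMDecomposition (Cfsg.quadFormOdd m F) 1 D) :
    Cfsg.Geo.IsMaximalIn (Cfsg.Geo.omegaGL (Cfsg.quadFormOdd m F))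
      (Cfsg.Geo.decompositionStabilizer D ⊓ Cfsg.Geo.omegaGL (Cfsg.quadFormOdd m F)) := by
  have h2 : (2 : F) ≠ 0 := Cfsg.Agent.Lib.Helper44_FinSq.two_ne_zero_of_odd_card hodd
  have hQ := Cfsg.Agent.S5675.quadFormOdd_nondeg h2 m
  have hc : Fintype.card (Unit ⊕ (Fin m ⊕ Fin m)) = 2 * m + 1 := by
    simp [Fintype.card_sum]; ring
  exact frame_maximal_odd (Cfsg.quadFormOdd m F) hQ h2 hp (by rw [hc]; exact ⟨m, rfl⟩)
    (by rw [hc]; omega) D hD

end Cfsg.Agent.Lib.Helper98_OFOddBridge
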