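import Mathlib
import Cfsg.Agent.Lib.Helper38_OTDefs
import Cfsg.Agent.Lib.Helper94_OrthVec
import Cfsg.Agent.Lib.Helper17_UT_BAS1
import Cfsg.Agent.Lib.Helper58_T2O_HYPP

set_option autoImplicit false
set_option linter.unusedSectionVars false
set_option linter.unusedVariables false

/-!
OTENS4 package GEN2 (helper98): from the Siegel elements `sieg (x ⊗ y) (x ⊗ z)` to
`sieg (x ⊗ y) (a ⊗ z)` (`β y z = 0`, `a` arbitrary), by conjugating with a Siegel element.
Paper proof: `pending/helper38/OTENS4_proof.md`, GEN2.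
-/

namespace Cfsg.Agent.Lib.Helper98_OT_GEN2

open Matrix Module
open Cfsg.Agent.Lib.Helper98_ExtDefs Cfsg.Agent.Lib.Helper97_TensDefs
open Cfsg.Agent.Lib.Helper94_Herm
open Cfsg.Agent.Lib.Helper67_UT2Defs Cfsg.Agent.Lib.Helper37_UTDefs
open Cfsg.Agent.Lib.Helper37_UTPairDefs
open Cfsg.Agent.Lib.Helper94_OrthSmall Cfsg.Agent.Lib.Helper94_OrthSiegel
open Cfsg.Agent.Lib.Helper94_OrthNondeg (InZ)
open Cfsg.Agent.Lib.Helper67_T2ODefs (IsAltMap aw)
open Cfsg.Agent.Lib.Helper38_OTDefs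

variable {F : Type*} [Field F] {ι κ : Type*} [Fintype ι] [Fintype κ] [DecidableEq ι]
  [DecidableEq κ]
variable {α : LinearMap.BilinForm F (ι → F)} {β : LinearMap.BilinForm F (κ → F)}
variable {Q : Matrix ι κ F → F} {M : Subgroup (Matrix ι κ F ≃ₗ[F] Matrix ι κ F)}

/-- an alternating form is skew-symmetric -/
theorem h98_alt_swap {W : Type*} [AddCommGroup W] [Module F W] {ω : LinearMap.BilinForm F W}
    (hω : ∀ x, ω x x = 0) (x y : W) : ω x y = - ω y x := by
  have h := hω (x + y)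
  simp only [map_add, LinearMap.add_apply, hω x, hω y] at h
  linear_combination h

/-- `NondegOn ω ⊤` for an alternating form gives Mathlib's nondegeneracy -/
theorem h98_nondegenerate {W : Type*} [AddCommGroup W] [Module F W]
    {ω : LinearMap.BilinForm F W} (hω : ∀ x, ω x x = 0) (h : NondegOn ω ⊤) :
    ω.Nondegenerate := by
  constructor
  · intro x hx
    by_contra hx0
    obtain ⟨y, -, hy⟩ := h x Submodule.mem_top hx0
    exact hy (hx y)
  · intro y hy
    by_contra hy0
    obtain ⟨x, -, hx⟩ := h y Submodule.mem_top hy0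
    apply hx
    rw [h98_alt_swap hω, hy x, neg_zero]

theorem gen2 [Finite F] (hC : OTCtx α β Q M)
    (h : ∀ (x : ι → F) (y z : κ → F), x ≠ 0 → y ≠ 0 → β y z = 0 →
      InZ Q (tf α β) M (vecMulVec x y) (vecMulVec x z)) :
    ∀ (x a : ι → F) (y z : κ → F), x ≠ 0 → y ≠ 0 → β y z = 0 →
      InZ Q (tf α β) M (vecMulVec x y) (vecMulVec a z) := by
  intro x a y z hx hy hyz
  have hB : OTBase α β Q M := hC.toOTBase
  have hQs := hB.hQs
  have hQp := hB.hQp
  have hpure := hB.hpure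
  have hMO : M ≤ oG Q := hB.hM.trans (Subgroup.commutator_le_self _)
  have hβswap : ∀ u v, β u v = - β v u := h98_alt_swap hB.hβ
  have hβnd : β.Nondegenerate := h98_nondegenerate hB.hβ hB.hβN
  have h6 : 6 ≤ finrank F (κ → F) := by
    rw [Module.finrank_fintype_fun_eq_card]
    have h1 := hC.ha
    have h2 := hC.hab
    omega
  have hw0 : Q (vecMulVec x y) = 0 := hpure x y
  -- the key step
  have key : ∀ xp : ι → F, α x xp = 1 →
      InZ Q (tf α β) M (vecMulVec x y) (vecMulVec xp z) := by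
    intro xp hxp
    obtain ⟨v, w, hvw, hvy, hvz, hwy, hwz⟩ :=
      Cfsg.Agent.Lib.Helper58_T2O_HYPP.exists_hyp_perp (ω := β) hB.hβ hβnd h6 y z hyz
    have hxp0 : xp ≠ 0 := by
      rintro rfl
      rw [map_zero] at hxp
      exact zero_ne_one hxp
    have hw0' : w ≠ 0 := by
      rintro rfl
      rw [map_zero] at hvw
      exact zero_ne_one hvw
    have hyw : β y w = 0 := by rw [hβswap, hwy, neg_zero]
    have hyv : β y v = 0 := by rw [hβswap, hvy, neg_zero]
    have hg := h xp w z hxp0 hw0' hwz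
    have hgM : sieg Q (tf α β) (vecMulVec xp w) ((1 : F) • vecMulVec xp z) ∈ M := hg.2 1
    have hgO := hMO hgM
    have hQu : Q (vecMulVec xp w) = 0 := hpure xp w
    have huz : tf α β (vecMulVec xp w) ((1 : F) • vecMulVec xp z) = 0 := by
      rw [one_smul]
      exact hg.1
    have hQz : Q ((1 : F) • vecMulVec xp z) = 0 := by rw [one_smul]; exact hpure xp z
    -- the images
    have e1 : sieg Q (tf α β) (vecMulVec xp w) ((1 : F) • vecMulVec xp z) (vecMulVec x y) =
        vecMulVec x y := by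
      rw [sieg_apply Q (tf α β) hQs hQp hQu huz, hQz]
      have a1 : tf α β (vecMulVec x y) (vecMulVec xp w) = 0 := by
        rw [Cfsg.Agent.Lib.Helper17_UT_BAS1.tf_pure, hyw, mul_zero]
      have a2 : tf α β (vecMulVec x y) ((1 : F) • vecMulVec xp z) = 0 := by
        rw [one_smul, Cfsg.Agent.Lib.Helper17_UT_BAS1.tf_pure, hyz, mul_zero]
      rw [a1, a2]
      simp
    have e2 : sieg Q (tf α β) (vecMulVec xp w) ((1 : F) • vecMulVec xp z) (vecMulVec x v) =
        vecMulVec x v + vecMulVec xp z := by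
      rw [sieg_apply Q (tf α β) hQs hQp hQu huz, hQz]
      have a1 : tf α β (vecMulVec x v) (vecMulVec xp w) = 1 := by
        rw [Cfsg.Agent.Lib.Helper17_UT_BAS1.tf_pure, hxp, hvw, mul_one]
      have a2 : tf α β (vecMulVec x v) ((1 : F) • vecMulVec xp z) = 0 := by
        rw [one_smul, Cfsg.Agent.Lib.Helper17_UT_BAS1.tf_pure, hvz, mul_zero]
      rw [a1, a2]
      simp
    have h1 : InZ Q (tf α β) M (vecMulVec x y) (vecMulVec x v) := h x y v hx hy hyv
    have h2 := Cfsg.Agent.Lib.Helper94_OrthNondeg.InZ_map hQs hQp hgM hgO hw0 h1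
    rw [e1, e2] at h2
    have h3 := Cfsg.Agent.Lib.Helper94_OrthNondeg.InZ_sub hQs hQp hw0 h2 h1
    rwa [add_sub_cancel_left] at h3
  -- a hyperbolic partner of `x`
  obtain ⟨xs, hxs⟩ : ∃ xs : ι → F, α x xs = 1 := by
    obtain ⟨y0, -, hy0⟩ := hB.hαN x Submodule.mem_top hx
    refine ⟨(α x y0)⁻¹ • y0, ?_⟩
    rw [map_smul, smul_eq_mul, inv_mul_cancel₀ hy0]
  have k1 : InZ Q (tf α β) M (vecMulVec x y) (vecMulVec xs z) := key xs hxs
  have k2 : InZ Q (tf α β) M (vecMulVec x y) (vecMulVec (a - α x a • xs + xs) z) := by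
    apply key
    rw [map_add, map_sub, map_smul, smul_eq_mul, hxs]
    ring
  have k3 := Cfsg.Agent.Lib.Helper94_OrthNondeg.InZ_sub hQs hQp hw0 k2 k1
  have k4 := Cfsg.Agent.Lib.Helper94_OrthNondeg.InZ_add hQs hQp hw0 k3
    (Cfsg.Agent.Lib.Helper94_OrthNondeg.InZ_smul (α x a) k1)
  have e : vecMulVec (a - α x a • xs + xs) z - vecMulVec xs z + α x a • vecMulVec xs z =
      vecMulVec a z := by
    rw [Matrix.add_vecMulVec, Matrix.sub_vecMulVec, Matrix.smul_vecMulVec]
    abel
  rwa [e] at k4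

end Cfsg.Agent.Lib.Helper98_OT_GEN2
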