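import Mathlib
import Cfsg.Agent.Lib.Helper59_QSub7b
import Cfsg.Agent.Lib.Helper94_OrthUni4

/-!
# Orthogonal subfield groups for a quadratic extension, dimension at least `7` (helper98)

`Helper59_QSub7.maximal_qsub7` needs Dickson's generation lemma for `SL(2, F₀(Δ))`, which fails
for `F₀ = 𝔽₃ ⊂ F = 𝔽₉`; its replacement (the double commutator lemma) needs `11 ≤ finrank`.
Here the quadratic case `F = F₀ + F₀ ω` is done for `7 ≤ finrank` with no generation lemma and no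
minors at all: in the branch where the parameter set of the rational root groups is `F₀`,

* `a0_strong`: for a rational singular `p`, `sieg p z ∈ M` forces `z ∈ V₀ + F p`;
* `pt_rat_quad`: the image of a rational singular vector under `k ∈ M` is a rational point: if
  `k u = x₁ + ω x₂` with `x₁, x₂` independent, take a rational singular `p ⟂ x₁, x₂` outside their
  span, a rational nonsingular `s ⟂ u, k⁻¹ p`, `g = k (sieg u s) k⁻¹ = sieg (k u) (k s)`, which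
  fixes `p`, and a rational `t ⟂ p` with `B t (k u) ≠ 0`; the two commutators
  `[g^{±1}, sieg p t]` multiply to `sieg p (-2 Q(s) B(t, k u) • k u)`, so `k u ∈ F (V₀ + F p)`
  and `p` lies in the span of `x₁, x₂`.

The rest is the end of helper94/helper59's proof (`scalar_compat`, `rat_of_minors`), which only
uses the rationality of the image points.
-/

set_option autoImplicit false
set_option linter.unusedSectionVars false
set_option linter.unusedVariables false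
set_option linter.unusedSimpArgs false

namespace Cfsg.Agent.Lib.Helper98_QSubQuad

open Module Matrix Cfsg.Agent.Lib.Helper94_Symp Cfsg.Agent.Lib.Helper94_OrthSmall
  Cfsg.Agent.Lib.Helper94_OrthSiegel Cfsg.Agent.Lib.Helper94_OrthSiegel2
  Cfsg.Agent.Lib.Helper94_OrthPara Cfsg.Agent.Lib.Helper94_OrthNondeg
  Cfsg.Agent.Lib.Helper94_OrthUni Cfsg.Agent.Lib.Helper94_QSub Cfsg.Agent.Lib.Helper59_QSub7

variable {F V : Type*} [Field F] [AddCommGroup V] [Module F V]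
variable {Q : V → F} {B : LinearMap.BilinForm F V} {F₀ : Subfield F} {V₀ : AddSubgroup V}

/-- `1, ω` are independent over `F₀`. -/
lemma omega_indep {ω : F} (hdec : ∀ c : F, ∃ c₁ ∈ F₀, ∃ c₂ ∈ F₀, c = c₁ + c₂ * ω)
    (hne : ∃ c : F, c ∉ F₀) {c₁ c₂ : F} (h₁ : c₁ ∈ F₀) (h₂ : c₂ ∈ F₀)
    (h : c₁ + c₂ * ω = 0) : c₁ = 0 ∧ c₂ = 0 := by
  have hc₂ : c₂ = 0 := by
    by_contra h0
    have hω : ω ∈ F₀ := by
      have e : ω = -c₁ / c₂ := by
        field_simp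
        linear_combination h
      rw [e]
      exact F₀.div_mem (F₀.neg_mem h₁) h₂
    obtain ⟨c, hc⟩ := hne
    obtain ⟨d₁, hd₁, d₂, hd₂, rfl⟩ := hdec c
    exact hc (F₀.add_mem hd₁ (F₀.mul_mem hd₂ hω))
  refine ⟨?_, hc₂⟩
  rw [hc₂, zero_mul, add_zero] at h
  exact h

section

variable (R : QStr Q B F₀ V₀)

include R in
/-- Uniqueness of the decomposition `v₁ + ω v₂`. -/
lemma dec_zero (hN : B.Nondegenerate) {ω : F}
    (hdec : ∀ c : F, ∃ c₁ ∈ F₀, ∃ c₂ ∈ F₀, c = c₁ + c₂ * ω) (hne : ∃ c : F, c ∉ F₀)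
    {v₁ v₂ : V} (h₁ : v₁ ∈ V₀) (h₂ : v₂ ∈ V₀) (h : v₁ + ω • v₂ = 0) : v₁ = 0 ∧ v₂ = 0 := by
  have key : ∀ w ∈ V₀, B v₁ w = 0 ∧ B v₂ w = 0 := by
    intro w hw
    have e : B (v₁ + ω • v₂) w = 0 := by rw [h, map_zero, LinearMap.zero_apply]
    rw [map_add, LinearMap.add_apply, map_smul, LinearMap.smul_apply, smul_eq_mul,
      mul_comm] at e
    exact omega_indep hdec hne (R.bval h₁ hw) (R.bval h₂ hw) e
  exact ⟨R.eq_zero_of_perp hN (fun w hw => (key w hw).1),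
    R.eq_zero_of_perp hN (fun w hw => (key w hw).2)⟩

include R in
lemma dec_unique (hN : B.Nondegenerate) {ω : F}
    (hdec : ∀ c : F, ∃ c₁ ∈ F₀, ∃ c₂ ∈ F₀, c = c₁ + c₂ * ω) (hne : ∃ c : F, c ∉ F₀)
    {a₁ a₂ b₁ b₂ : V} (ha₁ : a₁ ∈ V₀) (ha₂ : a₂ ∈ V₀) (hb₁ : b₁ ∈ V₀) (hb₂ : b₂ ∈ V₀)
    (h : a₁ + ω • a₂ = b₁ + ω • b₂) : a₁ = b₁ ∧ a₂ = b₂ := by
  have e : (a₁ - b₁) + ω • (a₂ - b₂) = 0 := by
    rw [smul_sub]
    have : a₁ - b₁ + (ω • a₂ - ω • b₂) = (a₁ + ω • a₂) - (b₁ + ω • b₂) := by abel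
    rw [this, h, sub_self]
  obtain ⟨e1, e2⟩ := dec_zero R hN hdec hne (V₀.sub_mem ha₁ hb₁) (V₀.sub_mem ha₂ hb₂) e
  exact ⟨sub_eq_zero.mp e1, sub_eq_zero.mp e2⟩

end

section Strong

variable (R : QStr Q B F₀ V₀)

variable (S M G : Subgroup (V ≃ₗ[F] V))
  (hS : ∀ g, g ∈ S ↔ ∃ μ : F, μ ≠ 0 ∧ ∀ v ∈ V₀, ∃ w ∈ V₀, g v = μ • w)
  (hG2 : ∀ u z, Q u = 0 → B u z = 0 → sieg Q B u z ∈ G)
  (hHM : S ⊓ G ≤ M) (hMO : M ≤ oG Q)

variable [Finite F] [FiniteDimensional F V]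

include R hS hG2 hHM hMO in
/-- **The unipotent radical of a rational singular point meets `M` in its rational part.** -/
theorem a0_strong (hN : B.Nondegenerate) (h7 : 7 ≤ finrank F V)
    (hA0 : ∀ u z : V, RPair Q B F₀ V₀ u z → ∀ c : F, sieg Q B u (c • z) ∈ M → c ∈ F₀)
    {ω : F} (hdec : ∀ c : F, ∃ c₁ ∈ F₀, ∃ c₂ ∈ F₀, c = c₁ + c₂ * ω) (hne : ∃ c : F, c ∉ F₀)
    {p z : V} (hp : p ∈ V₀) (hp0 : p ≠ 0) (hQp : Q p = 0) (hpz : B p z = 0)
    (hM : sieg Q B p z ∈ M) : ∃ c : F, z - c • p ∈ V₀ := by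
  have hsymm := R.symm
  obtain ⟨z₁, hz₁, z₂, hz₂, hzdec⟩ := R.vdec hdec z
  -- both components are orthogonal to `p`
  have hpz12 : B p z₁ = 0 ∧ B p z₂ = 0 := by
    have e : B p z₁ + B p z₂ * ω = 0 := by
      rw [hzdec, map_add, map_smul, smul_eq_mul] at hpz
      linear_combination hpz
    exact omega_indep hdec hne (R.bval hp hz₁) (R.bval hp hz₂) e
  obtain ⟨hpz₁, hpz₂⟩ := hpz12
  have hpωz₂ : B p (ω • z₂) = 0 := by rw [map_smul, hpz₂, smul_zero]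
  -- the irrational part alone
  have h1 : sieg Q B p (ω • z₂) ∈ M := by
    have h2 : sieg Q B p (-z₁) ∈ M :=
      R.rat_sieg_mem S M G hS hG2 hHM hp (V₀.neg_mem hz₁) hQp (by rw [map_neg, hpz₁, neg_zero])
    have h3 := M.mul_mem hM h2
    rw [sieg_mul Q B R.hQs R.hQp hQp hpz (by rw [map_neg, hpz₁, neg_zero])] at h3
    have e : z + -z₁ = ω • z₂ := by rw [hzdec]; abel
    rwa [e] at h3
  by_cases hz₂p : ∃ c : F, c ∈ F₀ ∧ z₂ = c • p
  · obtain ⟨c, hc, hcz⟩ := hz₂p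
    refine ⟨ω * c, ?_⟩
    have e : z - (ω * c) • p = z₁ := by
      rw [hzdec, hcz, smul_smul]
      abel
    rw [e]
    exact hz₁
  exfalso
  push Not at hz₂p
  obtain ⟨x, hx, x', hx', hQx, hQx', hxx', hxl, hx'l⟩ := R.rat_hyp hN [p, z₂]
    (by
      intro v hv
      simp only [List.mem_cons, List.not_mem_nil, or_false] at hv
      rcases hv with rfl | rfl
      · exact hp
      · exact hz₂)
    (by simp only [List.length_cons, List.length_nil]; omega)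
  have hxp : B x p = 0 := hxl p (by simp)
  have hxz₂ : B x z₂ = 0 := hxl z₂ (by simp)
  have hx'p : B x' p = 0 := hx'l p (by simp)
  have hx'z₂ : B x' z₂ = 0 := hx'l z₂ (by simp)
  have hpx : B p x = 0 := by rw [hsymm, hxp]
  have P : RPair Q B F₀ V₀ p x := by
    refine ⟨hp, hx, hQp, hQx, hpx, hp0, ?_⟩
    intro t _ h
    have h1 : B x x' = 0 := by
      rw [h, map_smul, LinearMap.smul_apply, hsymm p x', hx'p, smul_zero]
    rw [hxx'] at h1
    exact one_ne_zero h1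
  have hnot : ∀ s t : F, s ∈ F₀ → t ∈ F₀ → z₂ ≠ s • p + t • x := by
    intro s t hs ht h
    have h1 : B x' z₂ = t := by
      rw [h, map_add, map_smul, map_smul, hx'p, smul_zero, zero_add, hsymm x' x, hxx',
        smul_eq_mul, mul_one]
    rw [hx'z₂] at h1
    apply hz₂p s hs
    rw [h, ← h1, zero_smul, add_zero]
  obtain ⟨y, hy, hQy, hyp, hyx, hyz₂⟩ := rat_sno2 R hN h7 hp hx hz₂ hnot
  have hxy : B x y = 0 := by rw [hsymm, hyx]
  have hh : sieg Q B x y ∈ M := R.rat_sieg_mem S M G hS hG2 hHM hx hy hQx hxy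
  have hhO : sieg Q B x y ∈ oG Q := hMO hh
  have hc := conj_sieg Q B R.hQs R.hQp hhO hQp hpωz₂
  have e1 : sieg Q B x y p = p := by
    rw [sieg_apply Q B R.hQs R.hQp hQx hxy, hpx, hsymm p y, hyp]
    simp
  have e2 : sieg Q B x y (ω • z₂) = ω • z₂ + (-(ω * B y z₂)) • x := by
    rw [sieg_apply Q B R.hQs R.hQp hQx hxy]
    simp only [map_smul, LinearMap.smul_apply, smul_eq_mul, hsymm z₂ x, hxz₂, hsymm z₂ y,
      mul_zero, zero_smul, add_zero, sub_zero]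
    module
  rw [e1, e2] at hc
  have hfin : sieg Q B p ((-(ω * B y z₂)) • x) ∈ M := by
    have h2 : sieg Q B x y * sieg Q B p (ω • z₂) * (sieg Q B x y)⁻¹ *
        (sieg Q B p (ω • z₂))⁻¹ ∈ M :=
      M.mul_mem (M.mul_mem (M.mul_mem hh h1) (M.inv_mem hh)) (M.inv_mem h1)
    rw [hc, sieg_inv Q B R.hQs R.hQp hQp hpωz₂,
      sieg_mul Q B R.hQs R.hQp hQp
        (by rw [map_add, hpωz₂, map_smul, hpx, smul_zero, add_zero])
        (by rw [map_neg, hpωz₂, neg_zero])] at h2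
    have e : ω • z₂ + (-(ω * B y z₂)) • x + -(ω • z₂) = (-(ω * B y z₂)) • x := by abel
    rwa [e] at h2
  have h3 := hA0 p x P _ hfin
  have hβ : B y z₂ ∈ F₀ := R.bval hy hz₂
  have hω : ω ∈ F₀ := by
    have e : ω = -(-(ω * B y z₂)) / B y z₂ := by
      field_simp
    rw [e]
    exact F₀.div_mem (F₀.neg_mem h3) hβ
  obtain ⟨c, hc'⟩ := hne
  obtain ⟨d₁, hd₁, d₂, hd₂, rfl⟩ := hdec c
  exact hc' (F₀.add_mem hd₁ (F₀.mul_mem hd₂ hω))


include R hS hG2 hHM hMO in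
/-- **The image of a rational singular vector under an element of `M` is a rational point**
(quadratic extension, `7 ≤ finrank`). -/
theorem pt_rat_quad (hN : B.Nondegenerate) (h7 : 7 ≤ finrank F V) (h2 : (2 : F) ≠ 0)
    (hA0 : ∀ u z : V, RPair Q B F₀ V₀ u z → ∀ c : F, sieg Q B u (c • z) ∈ M → c ∈ F₀)
    {ω : F} (hdec : ∀ c : F, ∃ c₁ ∈ F₀, ∃ c₂ ∈ F₀, c = c₁ + c₂ * ω) (hne : ∃ c : F, c ∉ F₀)
    {k : V ≃ₗ[F] V} (hk : k ∈ M) {u : V} (hu : u ∈ V₀) (hQu : Q u = 0) :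
    ∃ μ : F, ∃ v ∈ V₀, k u = μ • v := by
  classical
  have hsymm := R.symm
  have hkO : k ∈ oG Q := hMO hk
  have : Finite V := Module.finite_of_finite F
  obtain ⟨x, hxdef⟩ : ∃ x : V, x = k u := ⟨_, rfl⟩
  rw [← hxdef]
  have hQx : Q x = 0 := by rw [hxdef, hkO, hQu]
  obtain ⟨x₁, hx₁, x₂, hx₂, hxdec⟩ := R.vdec hdec x
  by_cases hind : ∀ s t : F, s ∈ F₀ → t ∈ F₀ → s • x₁ + t • x₂ = 0 → s = 0 ∧ t = 0
  swap
  · -- dependent components
    push Not at hind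
    obtain ⟨s, t, hs, ht, hst, hne0⟩ := hind
    by_cases ht0 : t = 0
    · have hs0 : s ≠ 0 := fun h => hne0 h ht0
      rw [ht0, zero_smul, add_zero] at hst
      have hx₁0 : x₁ = 0 := by
        have := congrArg (fun v => s⁻¹ • v) hst
        simpa [smul_smul, inv_mul_cancel₀ hs0] using this
      exact ⟨ω, x₂, hx₂, by rw [hxdec, hx₁0, zero_add]⟩
    · refine ⟨1 + ω * (-(s / t)), x₁, hx₁, ?_⟩
      have hx₂e : x₂ = (-(s / t)) • x₁ := by
        have h1 : t • x₂ = -(s • x₁) := by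
          rw [eq_neg_iff_add_eq_zero, add_comm]; exact hst
        have := congrArg (fun v => t⁻¹ • v) h1
        simp only [smul_smul, inv_mul_cancel₀ ht0, one_smul, smul_neg] at this
        rw [this, neg_smul, div_eq_mul_inv, mul_comm]
      rw [hxdec, hx₂e]
      module
  exfalso
  -- a rational singular vector orthogonal to the components, outside their span
  obtain ⟨p, hp, p', hp', hQp, hQp', hpp', hpl, hp'l⟩ := R.rat_hyp hN [x₁, x₂]
    (by
      intro v hv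
      simp only [List.mem_cons, List.not_mem_nil, or_false] at hv
      rcases hv with rfl | rfl
      · exact hx₁
      · exact hx₂)
    (by simp only [List.length_cons, List.length_nil]; omega)
  have hpx₁ : B p x₁ = 0 := hpl x₁ (by simp)
  have hpx₂ : B p x₂ = 0 := hpl x₂ (by simp)
  have hp'x₁ : B p' x₁ = 0 := hp'l x₁ (by simp)
  have hp'x₂ : B p' x₂ = 0 := hp'l x₂ (by simp)
  have hp0 : p ≠ 0 := by
    intro h0
    rw [h0, map_zero, LinearMap.zero_apply] at hpp'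
    exact zero_ne_one hpp'
  have hpx : B p x = 0 := by
    rw [hxdec, map_add, map_smul, hpx₁, hpx₂, smul_zero, add_zero]
  have hxp : B x p = 0 := by rw [hsymm, hpx]
  have hpnot : ∀ s t : F, p ≠ s • x₁ + t • x₂ := by
    intro s t h
    have h1 : B p' p = 0 := by
      rw [h, map_add, map_smul, map_smul, hp'x₁, hp'x₂, smul_zero, smul_zero, add_zero]
    rw [hsymm, hpp'] at h1
    exact one_ne_zero h1
  -- the preimage of `p`
  obtain ⟨q₁, hq₁, q₂, hq₂, hqdec⟩ := R.vdec hdec (k.symm p)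
  have hfr := R.finrank_le
  obtain ⟨w, hQw, hwl⟩ := Cfsg.Agent.Lib.Helper94_OrthUni.exists_nonsing_list R.q0 R.b0
    R.q0_add (R.b0_nondeg hN)
    [(⟨u, hu⟩ : R.ratSub), (⟨q₁, hq₁⟩ : R.ratSub), (⟨q₂, hq₂⟩ : R.ratSub)]
    (by simp only [List.length_cons, List.length_nil]; omega)
  obtain ⟨s, hsdef⟩ : ∃ s : V, s = (w : V) := ⟨_, rfl⟩
  have hs : s ∈ V₀ := by rw [hsdef]; exact w.2
  have hQs : Q s ≠ 0 := by
    intro h0
    apply hQw
    apply Subtype.ext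
    rw [R.q0_apply, ← hsdef, h0]
    rfl
  have hsu : B s u = 0 := by
    have h3 := hwl ⟨u, hu⟩ (by simp)
    have := congrArg Subtype.val h3
    rw [R.b0_apply] at this
    rw [hsdef]; exact this
  have hsq₁ : B s q₁ = 0 := by
    have h3 := hwl ⟨q₁, hq₁⟩ (by simp)
    have := congrArg Subtype.val h3
    rw [R.b0_apply] at this
    rw [hsdef]; exact this
  have hsq₂ : B s q₂ = 0 := by
    have h3 := hwl ⟨q₂, hq₂⟩ (by simp)
    have := congrArg Subtype.val h3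
    rw [R.b0_apply] at this
    rw [hsdef]; exact this
  have hus : B u s = 0 := by rw [hsymm, hsu]
  obtain ⟨z, hzdef⟩ : ∃ z : V, z = k s := ⟨_, rfl⟩
  have hQz : Q z = Q s := by rw [hzdef, hkO]
  have hxz : B x z = 0 := by rw [hxdef, hzdef, oG_B Q B R.hQp hkO, hus]
  have hzp : B z p = 0 := by
    have e : p = k (k.symm p) := (LinearEquiv.apply_symm_apply k p).symm
    rw [e, hzdef, oG_B Q B R.hQp hkO, hqdec, map_add, map_smul, hsq₁, hsq₂, smul_zero, add_zero]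
  have hpz : B p z = 0 := by rw [hsymm, hzp]
  -- the conjugate Siegel element
  have hg : sieg Q B x z ∈ M := by
    rw [hxdef, hzdef, ← conj_sieg Q B R.hQs R.hQp hkO hQu hus]
    exact M.mul_mem (M.mul_mem hk (R.rat_sieg_mem S M G hS hG2 hHM hu hs hQu hus)) (M.inv_mem hk)
  have hxnz : B x (-z) = 0 := by rw [map_neg, hxz, neg_zero]
  have hg' : sieg Q B x (-z) ∈ M := by
    rw [← sieg_inv Q B R.hQs R.hQp hQx hxz]
    exact M.inv_mem hg
  -- a rational vector orthogonal to `p` and not to `x`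
  have hx₁p : ∀ c : F, c ∈ F₀ → x₁ ≠ c • p := by
    intro c hc h
    by_cases hc0 : c = 0
    · rw [hc0, zero_smul] at h
      have := hind 1 0 F₀.one_mem F₀.zero_mem (by rw [h]; simp)
      exact one_ne_zero this.1
    · apply hpnot c⁻¹ 0
      rw [h, smul_smul, inv_mul_cancel₀ hc0, one_smul, zero_smul, add_zero]
  obtain ⟨t, ht, hQt, htp, htx₁⟩ := R.rat_sno hN (by omega) hp hx₁ hx₁p
  have hpt : B p t = 0 := by rw [hsymm, htp]
  have htx : B t x ≠ 0 := by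
    intro h0
    rw [hxdec, map_add, map_smul, smul_eq_mul, mul_comm] at h0
    exact htx₁ (omega_indep hdec hne (R.bval ht hx₁) (R.bval ht hx₂) h0).1
  have hh : sieg Q B p t ∈ M := R.rat_sieg_mem S M G hS hG2 hHM hp ht hQp hpt
  -- the two commutators
  have comm : ∀ z' : V, B x z' = 0 → B p z' = 0 → sieg Q B x z' ∈ M →
      sieg Q B p (B t x • z' - B t z' • x - (Q z' * B t x) • x) ∈ M := by
    intro z' hxz' hpz' hgz'
    have hgO : sieg Q B x z' ∈ oG Q := hMO hgz'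
    have hc := conj_sieg Q B R.hQs R.hQp hgO hQp hpt
    have e1 : sieg Q B x z' p = p := by
      rw [sieg_apply Q B R.hQs R.hQp hQx hxz', hpx, hpz']
      simp
    have e2 : sieg Q B x z' t = t + (B t x • z' - B t z' • x - (Q z' * B t x) • x) := by
      rw [sieg_apply Q B R.hQs R.hQp hQx hxz']
      abel
    rw [e1, e2] at hc
    have hpν : B p (B t x • z' - B t z' • x - (Q z' * B t x) • x) = 0 := by
      simp only [map_sub, map_smul, hpz', hpx, smul_zero, sub_zero]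
    have h3 : sieg Q B x z' * sieg Q B p t * (sieg Q B x z')⁻¹ * (sieg Q B p t)⁻¹ ∈ M :=
      M.mul_mem (M.mul_mem (M.mul_mem hgz' hh) (M.inv_mem hgz')) (M.inv_mem hh)
    rw [hc, sieg_inv Q B R.hQs R.hQp hQp hpt,
      sieg_mul Q B R.hQs R.hQp hQp (by rw [map_add, hpt, hpν, add_zero])
        (by rw [map_neg, hpt, neg_zero])] at h3
    have e : t + (B t x • z' - B t z' • x - (Q z' * B t x) • x) + -t =
        B t x • z' - B t z' • x - (Q z' * B t x) • x := by abel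
    rwa [e] at h3
  have c1 := comm z hxz hpz hg
  have c2 := comm (-z) hxnz (by rw [map_neg, hpz, neg_zero]) hg'
  have hQnz : Q (-z) = Q z := by
    have := R.hQs (-1) z
    rw [neg_one_smul] at this
    rw [this]; ring
  obtain ⟨γ, hγ⟩ : ∃ γ : F, γ = -(2 * (Q z * B t x)) := ⟨_, rfl⟩
  have hγ0 : γ ≠ 0 := by
    rw [hγ, hQz]
    exact neg_ne_zero.mpr (mul_ne_zero h2 (mul_ne_zero hQs htx))
  have hpγx : B p (γ • x) = 0 := by rw [map_smul, hpx, smul_zero]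
  have c3 : sieg Q B p (γ • x) ∈ M := by
    have h3 := M.mul_mem c1 c2
    rw [sieg_mul Q B R.hQs R.hQp hQp
      (by simp only [map_sub, map_smul, hpz, hpx, smul_zero, sub_zero])
      (by simp only [map_sub, map_smul, map_neg, hpz, hpx, smul_zero, neg_zero, sub_zero])] at h3
    have e : (B t x • z - B t z • x - (Q z * B t x) • x) +
        (B t x • -z - B t (-z) • x - (Q (-z) * B t x) • x) = γ • x := by
      rw [hQnz, hγ, map_neg]
      module
    rwa [e] at h3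
  obtain ⟨c, hc⟩ := a0_strong R S M G hS hG2 hHM hMO hN h7 hA0 hdec hne hp hp0 hQp hpγx c3
  -- conclusion
  obtain ⟨v, hvdef⟩ : ∃ v : V, v = γ • x - c • p := ⟨_, rfl⟩
  rw [← hvdef] at hc
  obtain ⟨δ, hδ⟩ : ∃ δ : F, δ = γ⁻¹ := ⟨_, rfl⟩
  obtain ⟨ε, hε⟩ : ∃ ε : F, ε = γ⁻¹ * c := ⟨_, rfl⟩
  have hδ0 : δ ≠ 0 := by rw [hδ]; exact inv_ne_zero hγ0
  have hxv : x = δ • v + ε • p := by
    rw [hvdef, hδ, hε, smul_sub, smul_smul, smul_smul, inv_mul_cancel₀ hγ0, one_smul]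
    abel
  obtain ⟨d₁, hd₁, d₂, hd₂, hd⟩ := hdec δ
  obtain ⟨e₁, he₁, e₂, he₂, he⟩ := hdec ε
  have hxv' : x₁ + ω • x₂ = (d₁ • v + e₁ • p) + ω • (d₂ • v + e₂ • p) := by
    rw [← hxdec, hxv, hd, he]
    module
  obtain ⟨hx₁e, hx₂e⟩ := dec_unique R hN hdec hne hx₁ hx₂
    (V₀.add_mem (R.smul_mem _ _ hd₁ hc) (R.smul_mem _ _ he₁ hp))
    (V₀.add_mem (R.smul_mem _ _ hd₂ hc) (R.smul_mem _ _ he₂ hp)) hxv'
  have hD : d₂ • x₁ + (-d₁) • x₂ = (d₂ * e₁ - d₁ * e₂) • p := by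
    rw [hx₁e, hx₂e]
    module
  by_cases hD0 : d₂ * e₁ - d₁ * e₂ = 0
  · rw [hD0, zero_smul] at hD
    obtain ⟨h1, h2'⟩ := hind d₂ (-d₁) hd₂ (F₀.neg_mem hd₁) hD
    have hd₁0 : d₁ = 0 := neg_eq_zero.mp h2'
    have : δ = 0 := by rw [hd, h1, hd₁0]; ring
    exact hδ0 this
  · apply hpnot ((d₂ * e₁ - d₁ * e₂)⁻¹ * d₂) ((d₂ * e₁ - d₁ * e₂)⁻¹ * (-d₁))
    have := congrArg (fun v => (d₂ * e₁ - d₁ * e₂)⁻¹ • v) hD
    simp only [smul_add, smul_smul, inv_mul_cancel₀ hD0, one_smul] at this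
    exact this.symm

end Strong


section Pts

variable (R : QStr Q B F₀ V₀)

variable [Finite F] [FiniteDimensional F V]

variable (k : V ≃ₗ[F] V)
  (hpt : ∀ u ∈ V₀, Q u = 0 → ∃ μ : F, ∃ v ∈ V₀, k u = μ • v)

include R hpt in
/-- Compatibility of the scalars along a rational totally singular pair. -/
lemma scalar_compat_pt (hN : B.Nondegenerate) (h7 : 7 ≤ finrank F V)
    {u₁ u₂ : V} (P : RPair Q B F₀ V₀ u₁ u₂) {μ₁ : F} {v₁ : V} (hv₁ : v₁ ∈ V₀)
    (h1 : k u₁ = μ₁ • v₁) : ∃ v₂ ∈ V₀, k u₂ = μ₁ • v₂ := by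
  have hsymm := R.symm
  have hu₂0 : u₂ ≠ 0 := by
    intro h0
    exact P.ind 0 F₀.zero_mem (by rw [h0, zero_smul])
  have hk1 : k u₁ ≠ 0 := fun h0 => P.u0 (by simpa using h0)
  have hk2 : k u₂ ≠ 0 := fun h0 => hu₂0 (by simpa using h0)
  have hμ₁ : μ₁ ≠ 0 := by
    intro h0
    rw [h0, zero_smul] at h1
    exact hk1 h1
  have hv₁0 : v₁ ≠ 0 := by
    intro h0
    rw [h0, smul_zero] at h1
    exact hk1 h1
  obtain ⟨μ₂, v₂, hv₂, h2'⟩ := hpt _ P.hz P.Qz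
  have hμ₂ : μ₂ ≠ 0 := by
    intro h0
    rw [h0, zero_smul] at h2'
    exact hk2 h2'
  have hv₂0 : v₂ ≠ 0 := by
    intro h0
    rw [h0, smul_zero] at h2'
    exact hk2 h2'
  have hQ12 : Q (u₁ + u₂) = 0 := by rw [R.hQp, P.Qu, P.Qz, P.Buz]; ring
  obtain ⟨μ₃, v₃, hv₃, h3⟩ := hpt _ (V₀.add_mem P.hu P.hz) hQ12
  rw [map_add, h1, h2'] at h3
  -- `v₁` is not a rational multiple of `v₂`
  have hind : ∀ t : F, t ∈ F₀ → v₁ ≠ t • v₂ := by
    intro t ht hv
    have e : k u₁ = k ((μ₁ * t / μ₂) • u₂) := by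
      rw [map_smul, h1, h2', hv, smul_smul, smul_smul]
      congr 1
      field_simp
    have e' : u₁ = (μ₁ * t / μ₂) • u₂ := k.injective e
    have hcm : μ₁ * t / μ₂ ∈ F₀ := R.mem_of_smul hN P.hz hu₂0 (by rw [← e']; exact P.hu)
    have hc0 : μ₁ * t / μ₂ ≠ 0 := by
      intro h0
      rw [h0, zero_smul] at e'
      exact P.u0 e'
    apply P.ind (μ₁ * t / μ₂)⁻¹ (F₀.inv_mem hcm)
    rw [e', smul_smul, inv_mul_cancel₀ hc0, one_smul]
  have hind' : ∀ t : F, t ∈ F₀ → v₂ ≠ t • v₁ := by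
    intro t ht hv
    have ht0 : t ≠ 0 := by
      intro h0
      rw [h0, zero_smul] at hv
      exact hv₂0 hv
    apply hind t⁻¹ (F₀.inv_mem ht)
    rw [hv, smul_smul, inv_mul_cancel₀ ht0, one_smul]
  obtain ⟨y₁, hy₁, -, hy₁v₂, hy₁v₁⟩ := R.rat_sno hN (by omega) hv₂ hv₁ hind
  obtain ⟨y₂, hy₂, -, hy₂v₁, hy₂v₂⟩ := R.rat_sno hN (by omega) hv₁ hv₂ hind'
  have p1 : μ₁ * B y₁ v₁ = μ₃ * B y₁ v₃ := by
    have := congrArg (fun z => B y₁ z) h3
    simp only [map_add, map_smul, smul_eq_mul, hy₁v₂, mul_zero, add_zero] at this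
    exact this
  have p2 : μ₂ * B y₂ v₂ = μ₃ * B y₂ v₃ := by
    have := congrArg (fun z => B y₂ z) h3
    simp only [map_add, map_smul, smul_eq_mul, hy₂v₁, mul_zero, zero_add] at this
    exact this
  have hμ₃ : μ₃ ≠ 0 := by
    intro h0
    rw [h0, zero_mul] at p1
    rcases mul_eq_zero.mp p1 with h | h
    · exact hμ₁ h
    · exact hy₁v₁ h
  have hy₁v₃ : B y₁ v₃ ≠ 0 := by
    intro h0
    rw [h0, mul_zero] at p1
    rcases mul_eq_zero.mp p1 with h | h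
    · exact hμ₁ h
    · exact hy₁v₁ h
  obtain ⟨c, hc⟩ : ∃ c : F, c = (B y₂ v₃ / B y₂ v₂) * (B y₁ v₁ / B y₁ v₃) := ⟨_, rfl⟩
  have hcm : c ∈ F₀ := by
    rw [hc]
    exact F₀.mul_mem (F₀.div_mem (R.bval hy₂ hv₃) (R.bval hy₂ hv₂))
      (F₀.div_mem (R.bval hy₁ hv₁) (R.bval hy₁ hv₃))
  have hμ : μ₂ = μ₁ * c := by
    rw [hc]
    have e1 : μ₂ = μ₃ * B y₂ v₃ / B y₂ v₂ := by
      rw [← p2, mul_div_assoc, div_self hy₂v₂, mul_one]
    have e2 : μ₃ = μ₁ * B y₁ v₁ / B y₁ v₃ := by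
      rw [p1, mul_div_assoc, div_self hy₁v₃, mul_one]
    rw [e1, e2]
    field_simp
  refine ⟨c • v₂, R.smul_mem _ _ hcm hv₂, ?_⟩
  rw [h2', hμ, mul_smul]

include R hpt in
/-- **If the images of the rational singular vectors are rational points, the map sends the
rational structure to a multiple of itself.** -/
theorem rat_of_pts (hN : B.Nondegenerate) (h7 : 7 ≤ finrank F V) :
    ∃ μ : F, μ ≠ 0 ∧ ∀ v ∈ V₀, ∃ w ∈ V₀, k v = μ • w := by
  have hsymm := R.symm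
  obtain ⟨u₀, z₀, P₀⟩ := exists_rpair7 R hN h7
  obtain ⟨μ₀, v₀, hv₀, h0⟩ := hpt _ P₀.hu P₀.Qu
  have hk0 : k u₀ ≠ 0 := fun h => P₀.u0 (by simpa using h)
  have hμ₀ : μ₀ ≠ 0 := by
    intro h
    rw [h, zero_smul] at h0
    exact hk0 h0
  refine ⟨μ₀, hμ₀, ?_⟩
  -- singular vectors
  have key : ∀ u ∈ V₀, Q u = 0 → ∃ w ∈ V₀, k u = μ₀ • w := by
    intro u hu hQu
    by_cases hu0 : u = 0
    · exact ⟨0, V₀.zero_mem, by rw [hu0, map_zero, smul_zero]⟩
    obtain ⟨x, hx, x', hx', hQx, hQx', hxx', hxl, hx'l⟩ := R.rat_hyp hN [u₀, u]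
      (by
        intro v hv
        simp only [List.mem_cons, List.not_mem_nil, or_false] at hv
        rcases hv with rfl | rfl
        · exact P₀.hu
        · exact hu)
      (by simp only [List.length_cons, List.length_nil]; omega)
    have hxu₀ : B x u₀ = 0 := hxl u₀ (by simp)
    have hxu : B x u = 0 := hxl u (by simp)
    have hx'u₀ : B x' u₀ = 0 := hx'l u₀ (by simp)
    have hx'u : B x' u = 0 := hx'l u (by simp)
    have hx0 : x ≠ 0 := by
      intro h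
      rw [h, map_zero, LinearMap.zero_apply] at hxx'
      exact zero_ne_one hxx'
    have P₁ : RPair Q B F₀ V₀ u₀ x := by
      refine ⟨P₀.hu, hx, P₀.Qu, hQx, by rw [hsymm, hxu₀], P₀.u0, ?_⟩
      intro t _ h
      have h1 : B x x' = 0 := by
        rw [h, map_smul, LinearMap.smul_apply, hsymm u₀ x', hx'u₀, smul_zero]
      rw [hxx'] at h1
      exact one_ne_zero h1
    have P₂ : RPair Q B F₀ V₀ x u := by
      refine ⟨hx, hu, hQx, hQu, hxu, hx0, ?_⟩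
      intro t _ h
      have h1 : B x' u = t := by
        rw [h, map_smul, smul_eq_mul, hsymm x' x, hxx', mul_one]
      rw [hx'u] at h1
      apply hu0
      rw [h, ← h1, zero_smul]
    obtain ⟨v₁, hv₁, e1⟩ := scalar_compat_pt R k hpt hN h7 P₁ hv₀ h0
    exact scalar_compat_pt R k hpt hN h7 P₂ hv₁ e1
  intro v hv
  obtain ⟨s₁, hs₁, s₂, hs₂, hQ₁, hQ₂, -, -, rfl⟩ :=
    R.rat_two_sing hN (by omega) V₀.zero_mem hv (Q_zero Q R.hQs) (by simp)
  obtain ⟨w₁, hw₁, e1⟩ := key s₁ hs₁ hQ₁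
  obtain ⟨w₂, hw₂, e2⟩ := key s₂ hs₂ hQ₂
  exact ⟨w₁ + w₂, V₀.add_mem hw₁ hw₂, by rw [map_add, e1, e2, smul_add]⟩



end Pts

/-- **Maximality of the stabiliser of a rational structure over a subfield of index two** in the
group generated by the Siegel elements of an orthogonal space of dimension at least `7` in odd
characteristic (no generation lemma for `SL₂` needed, so `𝔽₃ ⊂ 𝔽₉` is included). -/
theorem maximal_qsub_quad7 [Finite F] [FiniteDimensional F V] (R : QStr Q B F₀ V₀)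
    (hN : B.Nondegenerate) (h2 : (2 : F) ≠ 0) (G : Subgroup (V ≃ₗ[F] V)) (hG1 : G ≤ oG Q)
    (hG2 : ∀ u z, Q u = 0 → B u z = 0 → sieg Q B u z ∈ G)
    (hG3 : ∀ M : Subgroup (V ≃ₗ[F] V),
      (∀ u z, Q u = 0 → B u z = 0 → sieg Q B u z ∈ M) → G ≤ M)
    (h7 : 7 ≤ finrank F V)
    (hsimple : ∀ K : Subalgebra F₀ F, K = ⊥ ∨ K = ⊤) (hne : ∃ c : F, c ∉ F₀)
    (hquad : ∃ ω : F, ∀ c : F, ∃ c₁ ∈ F₀, ∃ c₂ ∈ F₀, c = c₁ + c₂ * ω)
    (S : Subgroup (V ≃ₗ[F] V))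
    (hS : ∀ g, g ∈ S ↔ ∃ μ : F, μ ≠ 0 ∧ ∀ v ∈ V₀, ∃ w ∈ V₀, g v = μ • w) :
    (S ⊓ G < G) ∧
      ∀ M : Subgroup (V ≃ₗ[F] V), S ⊓ G ≤ M → M ≤ G → M = S ⊓ G ∨ M = G := by
  obtain ⟨c₀, hc₀⟩ := hne
  obtain ⟨ω, hdec⟩ := hquad
  obtain ⟨u₀, z₀, P₀⟩ := exists_rpair7 R hN h7
  constructor
  · refine lt_of_le_of_ne inf_le_right ?_
    intro heq
    have h1 : sieg Q B u₀ (c₀ • z₀) ∈ S ⊓ G := by
      rw [heq]
      exact hG2 _ _ P₀.Qu (by rw [map_smul, P₀.Buz, smul_zero])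
    exact not_mem_S5 R S hS hN (by omega) P₀ hc₀ h1.1
  · intro M hHM hMG
    have hMO : M ≤ oG Q := hMG.trans hG1
    rcases par_dichotomy7 R S M G hS hG2 hHM hMO hN h7 hsimple with hA0 | hall
    · left
      apply le_antisymm _ hHM
      intro k hk
      refine ⟨(hS k).mpr ?_, hMG hk⟩
      apply rat_of_pts R k _ hN h7
      intro u hu hQu
      exact pt_rat_quad R S M G hS hG2 hHM hMO hN h7 h2 hA0 hdec ⟨c₀, hc₀⟩ hk hu hQu
    · right
      apply le_antisymm hMG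
      apply hG3
      intro x z hQx hxz
      exact all_full5 R M hMO hall hN (by omega) hQx hxz

end Cfsg.Agent.Lib.Helper98_QSubQuad
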