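import Mathlib
import Cfsg.Prelude.Def_GeometricClasses
import Cfsg.Agent.Lib.Helper59_OmegaOddRows
import Cfsg.Agent.Lib.Helper98_QSubQuadBridge

/-!
# Subfield groups in `Ω_{2m+1}(q)`, `q` odd, `m ≥ 3`, with no exception (helper98)

`Helper59_OmegaOddRows.sub_max_odd` without the hypothesis `h39` (which excluded `𝔽₃ ⊂ 𝔽₉` for
`m = 3, 4`): the subfield conjunct of the rows `omega7` (S5813, `m = 3`) and `omega9`
(S5834, `m = 4`), verbatim.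
-/

set_option autoImplicit false

namespace Cfsg.Agent.Lib.Helper98_OmegaOddSub

variable {F : Type*} [Field F] [Fintype F]

/-- Subfield groups in `Ω_{2m+1}(q)`, `q` odd, `m ≥ 3`. -/
theorem sub_max_odd_all (hodd : Odd (Fintype.card F)) (m : ℕ) (hm : 3 ≤ m)
    (F₀ : Subfield F) (r : ℕ) (P : Matrix.GeneralLinearGroup (Unit ⊕ (Fin m ⊕ Fin m)) F)
    (hr : r.Prime) (hcard : Fintype.card F = Nat.card F₀ ^ r)
    (hP : Cfsg.Geo.IsQuadFormRationalStructure (Cfsg.quadFormOdd m F) F₀ P) :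
    Cfsg.Geo.IsMaximalIn (Cfsg.Geo.omegaGL (Cfsg.quadFormOdd m F))
      (Cfsg.Geo.subfieldSubgroup F₀ P ⊓ Cfsg.Geo.omegaGL (Cfsg.quadFormOdd m F)) := by
  have h2 : (2 : F) ≠ 0 := Cfsg.Agent.Lib.Helper44_FinSq.two_ne_zero_of_odd_card hodd
  have hc : Fintype.card (Unit ⊕ (Fin m ⊕ Fin m)) = 2 * m + 1 := by
    simp [Fintype.card_sum]; ring
  exact Cfsg.Agent.Lib.Helper98_QSubQuadBridge.qsub_maximal7q (Cfsg.quadFormOdd m F)
    (Cfsg.Agent.S5675.quadFormOdd_nondeg h2 m) h2 (by rw [hc]; omega) F₀ r hr hcard P hP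

/-- Conjunct (4) of S5813 (`omega7`), verbatim. -/
example (hodd : Odd (Fintype.card F)) :
    (∀ (F₀ : Subfield F) (r : ℕ) (P : Matrix.GeneralLinearGroup (Unit ⊕ (Fin 3 ⊕ Fin 3)) F), r.Prime → Fintype.card F = Nat.card F₀ ^ r → Cfsg.Geo.IsQuadFormRationalStructure (Cfsg.quadFormOdd 3 F) F₀ P → Cfsg.Geo.IsMaximalIn (Cfsg.Geo.omegaGL (Cfsg.quadFormOdd 3 F)) (Cfsg.Geo.subfieldSubgroup F₀ P ⊓ Cfsg.Geo.omegaGL (Cfsg.quadFormOdd 3 F))) :=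
  fun F₀ r P hr hcard hP => sub_max_odd_all hodd 3 le_rfl F₀ r P hr hcard hP

/-- Conjunct (6) of S5834 (`omega9`), verbatim. -/
example (hodd : Odd (Fintype.card F)) :
    (∀ (F₀ : Subfield F) (r : ℕ) (P : Matrix.GeneralLinearGroup (Unit ⊕ (Fin 4 ⊕ Fin 4)) F), r.Prime → Fintype.card F = Nat.card F₀ ^ r → Cfsg.Geo.IsQuadFormRationalStructure (Cfsg.quadFormOdd 4 F) F₀ P → Cfsg.Geo.IsMaximalIn (Cfsg.Geo.omegaGL (Cfsg.quadFormOdd 4 F)) (Cfsg.Geo.subfieldSubgroup F₀ P ⊓ Cfsg.Geo.omegaGL (Cfsg.quadFormOdd 4 F))) :=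
  fun F₀ r P hr hcard hP => sub_max_odd_all hodd 4 (by norm_num) F₀ r P hr hcard hP

end Cfsg.Agent.Lib.Helper98_OmegaOddSub
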