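import Mathlib
import Cfsg.Agent.Lib.Helper31_PQ
import Cfsg.Agent.Lib.Helper22_Quasisimple

/-!
# `p`-components are exactly the subnormal `PQ`-subgroups of order divisible by `p` (helper98)

`Helper31_PQ.PQ p J` is helper31's quotient-free abstraction of "`p`-component".  Here we prove the
converse of `PQ.of_isPComponent`: a subnormal `PQ`-subgroup whose order is not prime to `p` is a
`p`-component.  Consequently "being a `p`-component" of an overgroup only depends on subnormality.
-/

set_option autoImplicit false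

universe u

namespace Cfsg.Agent.Lib.Helper98_PCompChar

open Cfsg Cfsg.Agent.Lib.Helper23_Layer Cfsg.Agent.Lib.Helper23_PComp
  Cfsg.Agent.Lib.Helper31_PQ
open scoped commutatorElement

/-- A perfect nontrivial subgroup all of whose proper invariant subgroups are central is
quasisimple. -/
theorem isQuasisimple_of_forall_invariant {Q : Type*} [Group Q] {L : Subgroup Q}
    (hperf : ⁅L, L⁆ = L) (hne : L ≠ ⊥)
    (h : ∀ M : Subgroup Q, M ≤ L → L ≤ Subgroup.normalizer (M : Set Q) → M = L ∨ ⁅M, L⁆ = ⊥) :
    IsQuasisimple ↥L := by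
  have hP : Group.IsPerfect ↥L := Subgroup.isPerfect_iff.mpr hperf
  refine ⟨hP, ?_⟩
  -- translate: every normal subgroup of `↥L` is `⊤` or central
  have key : ∀ H : Subgroup ↥L, H.Normal → H = ⊤ ∨ H ≤ Subgroup.center ↥L := by
    intro H hH
    have hle : H.map L.subtype ≤ L := by
      rintro _ ⟨x, _, rfl⟩
      exact x.2
    have hnorm : L ≤ Subgroup.normalizer ((H.map L.subtype : Subgroup Q) : Set Q) := by
      intro l hl
      rw [Subgroup.mem_normalizer_iff]
      intro x
      constructor
      · rintro ⟨y, hy, rfl⟩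
        exact ⟨⟨l, hl⟩ * y * ⟨l, hl⟩⁻¹, hH.conj_mem y hy ⟨l, hl⟩, rfl⟩
      · rintro ⟨y, hy, hyx⟩
        have hyx' : (y : Q) = l * x * l⁻¹ := hyx
        have hx : x = l⁻¹ * (y : Q) * l := by rw [hyx']; group
        refine ⟨⟨l, hl⟩⁻¹ * y * ⟨l, hl⟩, ?_, ?_⟩
        · have := hH.conj_mem y hy (⟨l, hl⟩⁻¹)
          simpa using this
        · rw [hx]; rfl
    rcases h _ hle hnorm with h1 | h1
    · left
      rw [eq_top_iff]
      intro x _
      have : (x : Q) ∈ H.map L.subtype := by rw [h1]; exact x.2
      obtain ⟨y, hy, hyx⟩ := this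
      have : y = x := Subtype.ext hyx
      rwa [← this]
    · right
      intro x hx
      rw [Subgroup.mem_center_iff]
      intro y
      have hmem : ⁅(x : Q), (y : Q)⁆ ∈ ⁅H.map L.subtype, L⁆ :=
        Subgroup.commutator_mem_commutator ⟨x, hx, rfl⟩ y.2
      rw [h1, Subgroup.mem_bot, commutatorElement_eq_one_iff_commute] at hmem
      exact Subtype.ext hmem.eq.symm
  have hcne : Subgroup.center ↥L ≠ ⊤ := by
    intro hc
    apply hne
    have hcomm : ∀ a ∈ L, ∀ b ∈ L, ⁅a, b⁆ = 1 := by
      intro a ha b hb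
      rw [commutatorElement_eq_one_iff_commute]
      have h1 : (⟨a, ha⟩ : ↥L) ∈ Subgroup.center ↥L := by rw [hc]; trivial
      have := Subgroup.mem_center_iff.mp h1 ⟨b, hb⟩
      exact (congrArg Subtype.val this).symm
    rw [← hperf, Subgroup.commutator_eq_bot_iff_le_centralizer]
    intro a ha
    rw [Subgroup.mem_centralizer_iff]
    intro b hb
    exact ((commutatorElement_eq_one_iff_commute.mp (hcomm b hb a ha)).eq)
  have : Nontrivial (↥L ⧸ Subgroup.center ↥L) := by
    rw [QuotientGroup.nontrivial_iff]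
    exact hcne
  refine ⟨?_⟩
  intro H hH
  have hHc : (H.comap (QuotientGroup.mk' (Subgroup.center ↥L))).Normal := hH.comap _
  rcases key _ hHc with h1 | h1
  · right
    rw [eq_top_iff]
    intro q _
    obtain ⟨x, rfl⟩ := QuotientGroup.mk'_surjective (Subgroup.center ↥L) q
    have : x ∈ H.comap (QuotientGroup.mk' (Subgroup.center ↥L)) := by rw [h1]; trivial
    exact this
  · left
    rw [eq_bot_iff]
    intro q hq
    obtain ⟨x, rfl⟩ := QuotientGroup.mk'_surjective (Subgroup.center ↥L) q
    have : x ∈ Subgroup.center ↥L := h1 hq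
    rw [Subgroup.mem_bot, QuotientGroup.mk'_apply, QuotientGroup.eq_one_iff]
    exact this

/-- If `J` normalizes `N` then `J` normalizes `[N, J]`. -/
theorem le_normalizer_commutator {G : Type*} [Group G] {N J : Subgroup G}
    (hJN : J ≤ Subgroup.normalizer (N : Set G)) :
    J ≤ Subgroup.normalizer ((⁅N, J⁆ : Subgroup G) : Set G) := by
  intro g hg
  apply mem_normalizer_of_cj_eq
  change (⁅N, J⁆).map (MulAut.conj g).toMonoidHom = ⁅N, J⁆
  rw [Subgroup.map_commutator]
  have h1 : N.map (MulAut.conj g).toMonoidHom = N := cj_eq_of_mem_normalizer (hJN hg)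
  have h2 : J.map (MulAut.conj g).toMonoidHom = J := cj_eq_of_mem hg
  rw [h1, h2]

/-- **Converse of `PQ.of_isPComponent`.** A subnormal `PQ`-subgroup of order not prime to `p` is a
`p`-component. -/
theorem isPComponent_of_PQ {G : Type u} [Group G] [Finite G] {p : ℕ} [Fact p.Prime]
    {J : Subgroup G} (hsn : J.IsSubnormal) (hPQ : PQ p J) (hp : ¬ (Nat.card J).Coprime p) :
    IsPComponent p J := by
  set π := QuotientGroup.mk' (pPrimeCore p G) with hπ
  have hπs : Function.Surjective π := QuotientGroup.mk'_surjective _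
  -- proper invariant subgroups have commutator in `O_{p'}(G)`
  have key : ∀ N : Subgroup G, N ≤ J → J ≤ Subgroup.normalizer (N : Set G) → N ≠ J →
      ⁅N, J⁆ ≤ pPrimeCore p G := by
    intro N hNJ hJN hne
    rcases hPQ.2 N hNJ hJN with h | h
    · exact absurd h hne
    · have hle : ⁅N, J⁆ ≤ J := by
        rw [Subgroup.commutator_le]
        intro n hn j hj
        exact mul_mem (mul_mem (mul_mem (hNJ hn) hj) (inv_mem (hNJ hn))) (inv_mem hj)
      have hn : ((⁅N, J⁆ : Subgroup G).subgroupOf J).Normal :=
        (Subgroup.normal_subgroupOf_iff_le_normalizer hle).mpr (le_normalizer_commutator hJN)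
      exact subnormal_coprime_le_pPrimeCore p (Subgroup.IsSubnormal.trans hle hn.isSubnormal hsn) h
  have hJO : ¬ J ≤ pPrimeCore p G := by
    intro hle
    exact hp (Nat.Coprime.coprime_dvd_left (Subgroup.card_dvd_of_le hle) (pPrimeCore_coprime p))
  have hJb_ne : J.map π ≠ ⊥ := by
    intro h
    rw [Subgroup.map_eq_bot_iff, QuotientGroup.ker_mk'] at h
    exact hJO h
  have hJb_perf : ⁅J.map π, J.map π⁆ = J.map π := by
    rw [← Subgroup.map_commutator, hPQ.1]
  refine ⟨hsn, ⟨hsn.map hπs, ?_⟩, ?_⟩
  · -- the image is quasisimple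
    apply isQuasisimple_of_forall_invariant hJb_perf hJb_ne
    intro M hMJ hJM
    by_cases hM : M = J.map π
    · exact Or.inl hM
    · right
      set N := J ⊓ M.comap π with hN
      have hNJ : N ≤ J := inf_le_left
      have hmap : N.map π = M := by
        ext x
        constructor
        · rintro ⟨n, hn, rfl⟩
          exact hn.2
        · intro hx
          obtain ⟨j, hj, rfl⟩ := hMJ hx
          exact ⟨j, ⟨hj, hx⟩, rfl⟩
      have hJN : J ≤ Subgroup.normalizer (N : Set G) := by
        intro j hj
        have hfj : π j ∈ Subgroup.normalizer (M : Set _) := hJM ⟨j, hj, rfl⟩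
        rw [Subgroup.mem_normalizer_iff] at hfj ⊢
        intro n
        rw [hN, Subgroup.mem_inf, Subgroup.mem_inf, Subgroup.mem_comap, Subgroup.mem_comap]
        constructor
        · rintro ⟨hn1, hn2⟩
          refine ⟨mul_mem (mul_mem hj hn1) (inv_mem hj), ?_⟩
          rw [map_mul, map_mul, map_inv]
          exact (hfj (π n)).mp hn2
        · rintro ⟨hn1, hn2⟩
          refine ⟨?_, ?_⟩
          · have : n = j⁻¹ * (j * n * j⁻¹) * j := by group
            rw [this]
            exact mul_mem (mul_mem (inv_mem hj) hn1) hj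
          · rw [map_mul, map_mul, map_inv] at hn2
            exact (hfj (π n)).mpr hn2
      have hne : N ≠ J := by
        intro h
        apply hM
        rw [← hmap, h]
      have hc := key N hNJ hJN hne
      rw [← hmap, ← Subgroup.map_commutator, Subgroup.map_eq_bot_iff, QuotientGroup.ker_mk']
      exact hc
  · -- minimality
    intro H hHsn hHJ hHmap
    by_contra hne
    -- `H` is a proper subnormal subgroup of `J`: it lies in a proper normal subgroup `K` of `J`
    have hHsnJ : (H.subgroupOf J).IsSubnormal := by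
      have := hHsn.comap J.subtype
      exact this
    have hHneJ : H.subgroupOf J ≠ ⊤ := by
      intro h
      rw [Subgroup.subgroupOf_eq_top] at h
      exact hne (le_antisymm hHJ h)
    obtain ⟨K, hKn, hHK, hKlt⟩ := hHsnJ.exists_normal_and_le_and_lt_top_of_ne hHneJ
    set N := K.map J.subtype with hN
    have hNJ : N ≤ J := by
      rintro _ ⟨x, _, rfl⟩
      exact x.2
    have hJN : J ≤ Subgroup.normalizer (N : Set G) := by
      intro l hl
      rw [Subgroup.mem_normalizer_iff]
      intro x
      constructor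
      · rintro ⟨y, hy, rfl⟩
        exact ⟨⟨l, hl⟩ * y * ⟨l, hl⟩⁻¹, hKn.conj_mem y hy ⟨l, hl⟩, rfl⟩
      · rintro ⟨y, hy, hyx⟩
        have hyx' : (y : G) = l * x * l⁻¹ := hyx
        have hx : x = l⁻¹ * (y : G) * l := by rw [hyx']; group
        refine ⟨⟨l, hl⟩⁻¹ * y * ⟨l, hl⟩, ?_, ?_⟩
        · have := hKn.conj_mem y hy (⟨l, hl⟩⁻¹)
          simpa using this
        · rw [hx]; rfl
    have hNne : N ≠ J := by
      intro h
      apply hKlt.ne
      rw [eq_top_iff]
      intro x _
      have : (x : G) ∈ N := by rw [h]; exact x.2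
      obtain ⟨y, hy, hyx⟩ := this
      have : y = x := Subtype.ext hyx
      rwa [← this]
    have hHN : H ≤ N := by
      intro x hx
      exact ⟨⟨x, hHJ hx⟩, hHK (Subgroup.mem_subgroupOf.mpr hx), rfl⟩
    have hc := key N hNJ hJN hNne
    -- then the image of `J` is abelian
    have h1 : ⁅J.map π, J.map π⁆ = ⊥ := by
      have h2 : J.map π ≤ N.map π := by
        rw [← hHmap]
        exact Subgroup.map_mono hHN
      have h3 : ⁅N.map π, J.map π⁆ = ⊥ := by
        rw [← Subgroup.map_commutator, Subgroup.map_eq_bot_iff, QuotientGroup.ker_mk']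
        exact hc
      rw [← le_bot_iff, ← h3]
      exact Subgroup.commutator_mono h2 le_rfl
    rw [hJb_perf] at h1
    exact hJb_ne h1

/-- `p`-components are the subnormal `PQ`-subgroups of order not prime to `p`. -/
theorem isPComponent_iff_PQ {G : Type u} [Group G] [Finite G] {p : ℕ} [Fact p.Prime]
    {J : Subgroup G} :
    IsPComponent p J ↔ J.IsSubnormal ∧ PQ p J ∧ ¬ (Nat.card J).Coprime p := by
  constructor
  · intro h
    refine ⟨h.1, PQ.of_isPComponent p h, ?_⟩
    intro hc
    have hp : p.Prime := Fact.out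
    have hd := pcomp_dvd_card p h
    have := Nat.Coprime.eq_one_of_dvd hc.symm hd
    exact hp.one_lt.ne' this
  · rintro ⟨h1, h2, h3⟩
    exact isPComponent_of_PQ h1 h2 h3

/-- Being a `p`-component passes from a group to any subgroup containing it, and from a subnormal
subgroup up. -/
theorem isPComponent_subgroupOf {G : Type u} [Group G] [Finite G] {p : ℕ} [Fact p.Prime]
    {J M : Subgroup G} (hJM : J ≤ M) (hsn : (J.subgroupOf M).IsSubnormal) (hPQ : PQ p J)
    (hp : ¬ (Nat.card J).Coprime p) : IsPComponent p (J.subgroupOf M) := by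
  apply isPComponent_of_PQ hsn (hPQ.subgroupOf hJM)
  rwa [Nat.card_congr (Subgroup.subgroupOfEquivOfLe hJM).toEquiv]

/-- A `p`-component `J` of `M ≤ G`, viewed in `G`: `PQ` and not a `p'`-group. -/
theorem IsPComponent.map_subtype_PQ {G : Type u} [Group G] [Finite G] {p : ℕ} [Fact p.Prime]
    {M : Subgroup G} {J : Subgroup ↥M} (hJ : IsPComponent p J) :
    PQ p (J.map M.subtype) ∧ ¬ (Nat.card ↥(J.map M.subtype)).Coprime p := by
  refine ⟨(PQ.of_isPComponent p hJ).map M.subtype, ?_⟩
  rw [Subgroup.card_map_of_injective (Subgroup.subtype_injective M)]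
  exact (isPComponent_iff_PQ.mp hJ).2.2

end Cfsg.Agent.Lib.Helper98_PCompChar
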