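import Mathlib
import Cfsg.Prelude.Def_Classical
import Cfsg.Agent.Lib.Helper13_Herm
import Cfsg.Agent.Lib.Helper5_SUCenter
import Cfsg.Agent.Lib.Helper44_PSLnUT
import Cfsg.Agent.Lib.Helper32_PGroup
import Cfsg.Agent.Lib.Helper88_PSLnFusDefs
import Cfsg.Agent.Lib.Helper88_PSUFusDefs
import Cfsg.Agent.Lib.Helper63_S5172_A1

/-!
# S5172 package D4 (helper98): from the Siegel root elements to the Levi root elements

`w = x_j(ε) x_{j'}(-ε⁻¹) x_j(ε) ∈ GJ` (`x_k(c) = 1 + c E_{k k'}`, `ε + ε^q = 0`, `ε ≠ 0`) swaps the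
lines of `e_j` and `e_{j'}` and conjugates `xs (i, j') (a ε)` to `xs (i, j) a`.
-/

set_option autoImplicit false
set_option linter.unusedSimpArgs false
set_option linter.unusedVariables false

namespace Cfsg.Agent.Lib.Helper98_S5172_D4

open Matrix Cfsg.Agent.Lib.Helper44_PSLnUT Cfsg.Agent.Lib.Helper88_PSLnFus
  Cfsg.Agent.Lib.Helper88_PSUFus

/-- product of two matrix units -/
theorem single_mul_single_ite {ι R : Type*} [DecidableEq ι] [Fintype ι] [CommRing R]
    (i j k l : ι) (a b : R) :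
    (single i j a * single k l b : Matrix ι ι R) = if j = k then single i l (a * b) else 0 := by
  split_ifs with h
  · subst h; exact single_mul_single_same ..
  · exact single_mul_single_of_ne (h := h) ..

/-- the conjugation identity behind D4, for four distinct indices -/
theorem key4 {ι R : Type*} [DecidableEq ι] [Fintype ι] [Field R]
    {i j i' j' : ι} (hij : i ≠ j) (hii' : i ≠ i') (hij' : i ≠ j') (hji' : j ≠ i') (hjj' : j ≠ j')
    (hi'j' : i' ≠ j') (e b b' : R) (he : e ≠ 0) :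
    (1 + single j j' e) * (1 + single j' j (-e⁻¹)) * (1 + single j j' e) *
      ((1 + single i j' b) * (1 + single j i' b')) =
      ((1 + single i j (b * e⁻¹)) * (1 + single j' i' (-(b' * e⁻¹)))) *
      ((1 + single j j' e) * (1 + single j' j (-e⁻¹)) * (1 + single j j' e) : Matrix ι ι R) := by
  simp only [mul_add, add_mul, mul_one, one_mul, single_mul_single_ite, mul_ite, ite_mul,
    hij, hij.symm, hii', hii'.symm, hij', hij'.symm, hji', hji'.symm, hjj', hjj'.symm, hi'j',
    hi'j'.symm, if_true, if_false, mul_zero, zero_mul, add_zero, zero_add,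
    mul_neg, neg_mul, neg_neg, mul_inv_cancel₀ he, inv_mul_cancel₀ he, mul_inv_cancel_left₀ he,
    inv_mul_cancel_left₀ he, mul_inv_cancel_right₀ he, inv_mul_cancel_right₀ he, mul_assoc]
  rw [mul_comm e⁻¹ b']
  simp only [← single_neg]
  abel

variable {F : Type*} [Field F] [Fintype F] {q : ℕ}

theorem lt_rev_of_lt_half {n : ℕ} {i j : Fin n} (hi : i.val < n / 2) (hj : j.val < n / 2) :
    i < Fin.rev j := by
  rw [Fin.lt_def, Fin.val_rev]
  omega

theorem ne_rev_of_lt_half {n : ℕ} {i j : Fin n} (hi : i.val < n / 2) (hj : j.val < n / 2) :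
    i ≠ Fin.rev j := ne_of_lt (lt_rev_of_lt_half hi hj)

/-- **D4**  the short root elements of the Levi factor: `xs (i, j)`, `i < j < n/2`. -/
theorem D4 (hF : Fintype.card F = q ^ 2) (n : ℕ) (hn : 4 ≤ n)
    (T : Subgroup (SpecialLinearGroup (Fin n) F)) (hT : T ≤ UJ n F q)
    (hsc : ∀ t ∈ T, ∀ g ∈ GJ n F q, g * t * g⁻¹ ∈ UJ n F q → g * t * g⁻¹ ∈ T)
    (hsieg : ∀ (i j : Fin n) (h : i ≠ Fin.rev j) (a : F), i ≠ j → i.val < n / 2 → j.val < n / 2 →
      xs q h a ∈ T) :
    ∀ (i j : Fin n) (hij : i ≠ j) (a : F), i.val < j.val → j.val < n / 2 → xs q hij a ∈ T := by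
  intro i j hij a hlt hj
  have hi : i.val < n / 2 := by omega
  obtain ⟨e, he0, he⟩ := Cfsg.Agent.Lib.Helper5_SUCenter.exists_trace_zero hF
  have heq : e ^ q = -e := by linear_combination he
  have hii' : i ≠ Fin.rev i := ne_rev_of_lt_half hi hi
  have hjj' : j ≠ Fin.rev j := ne_rev_of_lt_half hj hj
  have h : i ≠ Fin.rev j := ne_rev_of_lt_half hi hj
  have hji' : j ≠ Fin.rev i := ne_rev_of_lt_half hj hi
  have hi'j' : Fin.rev i ≠ Fin.rev j := fun e => hij (Fin.rev_injective e)
  have hj'j : Fin.rev j ≠ Fin.rev (Fin.rev j) := by rw [Fin.rev_rev]; exact hjj'.symm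
  have hinv : (-e⁻¹) + (-e⁻¹) ^ q = 0 := by
    rw [Cfsg.Agent.Lib.Helper13_Herm.neg_pow_q hF, inv_pow, heq]
    field_simp
    ring
  have hw : SpecialLinearGroup.transvection hjj' e * SpecialLinearGroup.transvection hj'j (-e⁻¹) *
      SpecialLinearGroup.transvection hjj' e ∈ GJ n F q :=
    mul_mem (mul_mem (Cfsg.Agent.Lib.Helper63_S5172_A1.A1_long hF hjj' e he) (Cfsg.Agent.Lib.Helper63_S5172_A1.A1_long hF hj'j (-e⁻¹) hinv))
      (Cfsg.Agent.Lib.Helper63_S5172_A1.A1_long hF hjj' e he)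
  set w := SpecialLinearGroup.transvection hjj' e * SpecialLinearGroup.transvection hj'j (-e⁻¹) *
      SpecialLinearGroup.transvection hjj' e with hwdef
  have hb : xs q h (a * e) ∈ T := hsieg i j h (a * e) hij hi hj
  have hid : w * xs q h (a * e) = xs q hij a * w := by
    apply Subtype.ext
    simp only [hwdef, xs, SpecialLinearGroup.coe_mul, SpecialLinearGroup.transvection_coe,
      Fin.rev_rev]
    have hk := key4 (R := F) hij hii' h hji' hjj' hi'j' e (a * e) (-((a * e) ^ q)) he0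
    have e1 : a * e * e⁻¹ = a := mul_inv_cancel_right₀ he0 a
    have e2 : -(-((a * e) ^ q) * e⁻¹) = -(a ^ q) := by
      rw [mul_pow, heq]
      field_simp
    rw [e1, e2] at hk
    exact hk
  have hconj : w * xs q h (a * e) * w⁻¹ = xs q hij a := by
    rw [hid, mul_inv_cancel_right]
  have hUT : xs q hij a ∈ UT n F := by
    refine mul_mem ?_ ?_
    · exact transvection_mem_UT (Fin.lt_def.mpr hlt) a
    · have : Fin.rev j < Fin.rev i := Fin.rev_lt_rev.mpr (Fin.lt_def.mpr hlt)
      exact transvection_mem_UT this _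
  have hGJ : w * xs q h (a * e) * w⁻¹ ∈ GJ n F q :=
    mul_mem (mul_mem hw (hT hb).1) (inv_mem hw)
  have hmem := hsc _ hb _ hw ⟨hGJ, by rw [hconj]; exact hUT⟩
  rwa [hconj] at hmem

end Cfsg.Agent.Lib.Helper98_S5172_D4
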