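import Mathlib
import Cfsg.Prelude.Def_GeometricClasses
import Cfsg.Agent.Lib.Helper98_ExtDefs
import Cfsg.Agent.Lib.Helper94_Bridge
import Cfsg.Agent.Lib.Helper94_Symp

set_option autoImplicit false

/-!
# Bridge for extension-field normalisers over an arbitrary index type

`glEquiv ι F : GL ι F ≃* ((ι → F) ≃ₗ[F] (ι → F))` is helper94's.  For a subalgebra `K` of matrices
acting as the scalars of a field `L` on `ι → F`:
* `mem_normalizer_of_isSemilin'` : an `L`-semilinear matrix normalises `K`;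
* `normalizer_semi` : a matrix normalising `K` maps `x • v` to `x' • g v` for some `x'`.
-/

namespace Cfsg.Agent.Lib.Helper98_SpExtBridge

open Matrix Cfsg.Geo Cfsg.Agent.Lib.Helper98_ExtDefs Cfsg.Agent.Lib.Helper94_Bridge

variable {ι : Type} [Fintype ι] [DecidableEq ι] {F : Type*} [Field F]

theorem mem_map_glEquiv_iff (M : Subgroup (GL ι F)) (e : (ι → F) ≃ₗ[F] (ι → F)) :
    e ∈ M.map (glEquiv ι F).toMonoidHom ↔ (glEquiv ι F).symm e ∈ M := by
  constructor
  · rintro ⟨g, hg, rfl⟩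
    have : (glEquiv ι F).symm ((glEquiv ι F).toMonoidHom g) = g := (glEquiv ι F).symm_apply_apply g
    rw [this]
    exact hg
  · intro h
    exact ⟨_, h, (glEquiv ι F).apply_symm_apply e⟩

theorem glEquiv_symm_mulVec (e : (ι → F) ≃ₗ[F] (ι → F)) (v : ι → F) :
    (((glEquiv ι F).symm e : GL ι F) : Matrix ι ι F) *ᵥ v = e v := by
  rw [← glEquiv_apply, MulEquiv.apply_symm_apply]

section Semilinear

variable {L : Type*} [Field L] [Algebra F L] [Module L (ι → F)] [IsScalarTower F L (ι → F)]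

/-- If `K` is the set of matrices acting as the scalars of `L`, then every matrix acting
`L`-semilinearly normalises `K`. -/
theorem mem_normalizer_of_isSemilin' (K : Subalgebra F (Matrix ι ι F))
    (hKL : ∀ k : Matrix ι ι F, k ∈ K ↔ ∃ x : L, ∀ v, k *ᵥ v = x • v)
    (g : GL ι F) (hg : IsSemilin F L (ι → F) (glEquiv ι F g)) :
    g ∈ subalgebraNormalizer K := by
  obtain ⟨σ, hσ⟩ := hg
  have hσ' : ∀ (x : L) (v : ι → F),
      (g : Matrix ι ι F) *ᵥ (x • v) = σ x • ((g : Matrix ι ι F) *ᵥ v) := by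
    intro x v
    have := hσ x v
    rwa [glEquiv_apply, glEquiv_apply] at this
  have hginv : ∀ v, (g : Matrix ι ι F) *ᵥ (((g⁻¹ : GL ι F) : Matrix ι ι F) *ᵥ v) = v := by
    intro v
    rw [Matrix.mulVec_mulVec, ← Units.val_mul, mul_inv_cancel, Units.val_one, Matrix.one_mulVec]
  have hinvg : ∀ v, ((g⁻¹ : GL ι F) : Matrix ι ι F) *ᵥ ((g : Matrix ι ι F) *ᵥ v) = v := by
    intro v
    rw [Matrix.mulVec_mulVec, ← Units.val_mul, inv_mul_cancel, Units.val_one, Matrix.one_mulVec]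
  intro k
  rw [hKL, hKL]
  constructor
  · rintro ⟨x, hx⟩
    refine ⟨σ x, fun v => ?_⟩
    rw [← Matrix.mulVec_mulVec, ← Matrix.mulVec_mulVec, hx, hσ', hginv]
  · rintro ⟨x', hx'⟩
    refine ⟨σ.symm x', fun v => ?_⟩
    have h1 := hx' ((g : Matrix ι ι F) *ᵥ v)
    rw [← Matrix.mulVec_mulVec, ← Matrix.mulVec_mulVec, hinvg] at h1
    have h2 := hσ' (σ.symm x') v
    rw [RingEquiv.apply_symm_apply] at h2
    rw [← h2] at h1
    have h3 := congrArg (fun w => ((g⁻¹ : GL ι F) : Matrix ι ι F) *ᵥ w) h1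
    simp only [hinvg] at h3
    exact h3

/-- A matrix normalising `K` maps `x • v` to `x' • g v`. -/
theorem normalizer_semi (K : Subalgebra F (Matrix ι ι F))
    (hKL : ∀ k : Matrix ι ι F, k ∈ K ↔ ∃ x : L, ∀ v, k *ᵥ v = x • v)
    (g : GL ι F) (hg : g ∈ subalgebraNormalizer K) (x : L) (k : Matrix ι ι F)
    (hk : ∀ v, k *ᵥ v = x • v) :
    ∃ x' : L, ∀ v, glEquiv ι F g (x • v) = x' • glEquiv ι F g v := by
  have hkK : k ∈ K := (hKL k).mpr ⟨x, hk⟩
  have h1 : (g : Matrix ι ι F) * k * ((g⁻¹ : GL ι F) : Matrix ι ι F) ∈ K := (hg k).mp hkK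
  obtain ⟨x', hx'⟩ := (hKL _).mp h1
  refine ⟨x', fun v => ?_⟩
  have h2 := hx' ((g : Matrix ι ι F) *ᵥ v)
  rw [← Matrix.mulVec_mulVec, ← Matrix.mulVec_mulVec, Matrix.mulVec_mulVec _ _ (g : Matrix ι ι F),
    ← Units.val_mul, inv_mul_cancel, Units.val_one, Matrix.one_mulVec, hk] at h2
  rw [glEquiv_apply, glEquiv_apply]
  exact h2

open Cfsg.Agent.Lib.Helper94_Symp in
/-- A symplectic transvection does not normalise `K` (when `[L : F] ≥ 2` and `f(x v, v) = 0`). -/
theorem stv_not_mem_normalizer (K : Subalgebra F (Matrix ι ι F))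
    (hKL : ∀ k : Matrix ι ι F, k ∈ K ↔ ∃ x : L, ∀ v, k *ᵥ v = x • v)
    (f : LinearMap.BilinForm F (ι → F)) (hf : f.IsAlt) (hfn : f.Nondegenerate)
    (halt : ∀ (x : L) (v : ι → F), f (x • v) v = 0) (hr : 2 ≤ Module.finrank F L)
    (v : ι → F) (hv : v ≠ 0) :
    (glEquiv ι F).symm (stv f hf v 1) ∉ subalgebraNormalizer K := by
  intro hTN
  have hTv : ∀ w, stv f hf v 1 w = w + f w v • v := fun w => by
    rw [stv_apply, one_mul]
  have hcomm : ∀ (x : L) (w : ι → F), stv f hf v 1 (x • w) = x • stv f hf v 1 w := by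
    intro x w
    have hxk : ∃ k : Matrix ι ι F, ∀ u, k *ᵥ u = x • u := by
      refine ⟨LinearMap.toMatrix' ((LinearMap.lsmul L (ι → F) x).restrictScalars F), fun u => ?_⟩
      rw [← Matrix.toLin'_apply, Matrix.toLin'_toMatrix']
      rfl
    obtain ⟨k, hk⟩ := hxk
    obtain ⟨x', hx'⟩ := normalizer_semi K hKL _ hTN x k hk
    rw [MulEquiv.apply_symm_apply] at hx'
    have h1 := hx' v
    rw [hTv, hTv, hf v, zero_smul, add_zero, halt x v, zero_smul, add_zero] at h1
    have h3 : (x - x') • v = 0 := by rw [sub_smul, h1, sub_self]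
    have h4 : x = x' := by
      rcases smul_eq_zero.mp h3 with h | h
      · exact sub_eq_zero.mp h
      · exact absurd h hv
    rw [hx' w, ← h4]
  obtain ⟨w, hw⟩ : ∃ w, f w v = 1 := by
    obtain ⟨w₀, hw₀⟩ : ∃ w₀, f w₀ v ≠ 0 := by
      by_contra hcon
      push Not at hcon
      exact hv (hfn.2 v hcon)
    refine ⟨(f w₀ v)⁻¹ • w₀, ?_⟩
    rw [LinearMap.map_smul₂, smul_eq_mul, inv_mul_cancel₀ hw₀]
  have hall : ∀ x : L, ∃ c : F, c • (1 : L) = x := by
    intro x
    have h5 := hcomm x w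
    rw [hTv, hTv, hw, one_smul, smul_add] at h5
    have h6 : x • v = f (x • w) v • v := (add_left_cancel h5).symm
    refine ⟨f (x • w) v, ?_⟩
    have h7 : (f (x • w) v • (1 : L) - x) • v = 0 := by
      rw [sub_smul, smul_assoc, one_smul, h6, sub_self]
    rcases smul_eq_zero.mp h7 with h | h
    · exact sub_eq_zero.mp h
    · exact absurd h hv
  have h1 : Module.finrank F L = 1 := (finrank_eq_one_iff_of_nonzero' (1 : L) one_ne_zero).mpr hall
  omega

end Semilinear

end Cfsg.Agent.Lib.Helper98_SpExtBridge
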