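import Mathlib
import Cfsg.Agent.Lib.Helper94_SpUni4
import Cfsg.Agent.Lib.Helper94_SympPerfect

set_option autoImplicit false

/-!
# `Helper94_SpUni.maximal_spfieldL` in small dimension (helper98)

`Helper94_SpUni4.maximal_spfieldL` (maximality of the normaliser of a quadratic field, closed under
adjoints and not self-adjoint, in the isometry group of a symplectic space, odd characteristic:
type `GU_m(q).2 < Sp_{2m}(q)`) is stated for `14 ≤ finrank F V`.  Here the same theorem is proved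
for `9 ≤ finrank F V`, which covers the dimensions `10` and `12`.

Most lemmas of helper94 only need `sno` with `dim W ≤ 2` (`7 ≤ dim`) or `exists_sing_perp` with a
list of `6` vectors (`9 ≤ dim`); they are repeated with the weaker hypothesis (suffix `L`).  The two
steps that used lists of `8` vectors get new proofs:

* `root_of_S2'`: if `S2 e f ∈ M` with `f` off the line of `e`, conjugate by a unitary
  transvection `Tm z t` fixing `e` (`z` singular, hermitian-orthogonal to `e`, `P z f ≠ 0`); the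
  commutator of `S2 e f` and `S2 e (f + t w₀)` is the transvection `stv e (2 t B w₀ f)`, and
  `B w₀ f` is a nonzero multiple of a norm.
* `TV_sing'`: the graph of singular lines under hermitian orthogonality has diameter two, with
  `4`-lists only.
-/

namespace Cfsg.Agent.Lib.Helper98_SpUniSmall

open Module Cfsg.Agent.Lib.Helper94_Symp Cfsg.Agent.Lib.Helper94_OrthSmall
  Cfsg.Agent.Lib.Helper94_OrthSiegel Cfsg.Agent.Lib.Helper94_OrthSiegel2
  Cfsg.Agent.Lib.Helper94_OrthPara Cfsg.Agent.Lib.Helper94_OrthNondeg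
  Cfsg.Agent.Lib.Helper94_OrthUni Cfsg.Agent.Lib.Helper94_SpUni
  Cfsg.Agent.Lib.Helper94_SympPerfect

variable {F V : Type*} [Field F] [AddCommGroup V] [Module F V]

/-- Product of two isometries `S2 e d`, `S2 e d'`. -/
lemma S2_mul (B : LinearMap.BilinForm F V) (hB : B.IsAlt) {e d d' : V} (h : B e d = 0)
    (h' : B e d' = 0) :
    S2 B hB e d * S2 B hB e d' = S2 B hB e (d + d') * stv B hB e (B d' d) := by
  have h1 : B e (d + d') = 0 := by rw [map_add, h, h', add_zero]
  have hd'e : B d' e = 0 := by rw [alt_swap B hB, h', neg_zero]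
  ext x
  rw [LinearEquiv.mul_apply, LinearEquiv.mul_apply, S2_apply B hB h', S2_apply B hB h, stv_apply,
    S2_apply B hB h1]
  simp only [map_add, map_smul, LinearMap.add_apply, LinearMap.smul_apply, smul_eq_mul, hB e,
    hd'e, h, h', mul_zero, add_zero]
  module

section Exist

variable [Finite F] [FiniteDimensional F V] {Q : V → F} {P B : LinearMap.BilinForm F V}
  {θ : V →ₗ[F] V} {τ ν : F} (S : SpU Q P B θ τ ν)

include S in
/-- A singular vector hermitian-orthogonal to `a` and not orthogonal to `b`, for `b` outside the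
line of `a`. -/
lemma exists_sing_hpL (h14 : 7 ≤ finrank F V) {a b : V} (hK : ¬ Kmem θ a b) :
    ∃ z, Q z = 0 ∧ HP P θ z a ∧ P z b ≠ 0 := by
  have h2 := finrank_Kl_le (F := F) θ a
  obtain ⟨z, hz, hzW, hzb⟩ := sno S (Kl θ a) (by omega) (fun h => hK (mem_Kl.mp h))
  exact ⟨z, hz, ⟨hzW a (mem_Kl.mpr (Kmem.refl θ a)), hzW (θ a) (mem_Kl.mpr (Kmem.theta_self θ a))⟩,
    hzb⟩

include S in
/-- A singular partner of `u` hermitian-orthogonal to `e`, for `u` outside the line of `e`. -/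
lemma partner_perpL (h14 : 7 ≤ finrank F V) {e u : V} (hK : ¬ Kmem θ e u) :
    ∃ y, Q y = 0 ∧ HP P θ y e ∧ P u y = 0 ∧ P u (θ y) = 1 := by
  obtain ⟨y₁, hQy₁, hy₁e, hy₁u⟩ := exists_sing_hpL S h14 hK
  have hα : P u y₁ ≠ 0 := by rw [S.Psymm]; exact hy₁u
  have hN' : P u (θ y₁) * P u (θ y₁) + P u (θ y₁) * (-(P u y₁)) * τ +
      (-(P u y₁)) * (-(P u y₁)) * ν ≠ 0 :=
    fun h0 => hα (neg_eq_zero.mp (S.U.aniso _ _ h0).2)
  obtain ⟨α, hαd⟩ : ∃ α, α = P u y₁ := ⟨_, rfl⟩
  obtain ⟨β, hβd⟩ : ∃ β, β = P u (θ y₁) := ⟨_, rfl⟩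
  rw [← hαd, ← hβd] at hN'
  obtain ⟨N, hNd⟩ : ∃ N, N = β * β + β * (-α) * τ + (-α) * (-α) * ν := ⟨_, rfl⟩
  rw [← hNd] at hN'
  have hk : Kmem θ y₁ ((β / N) • y₁ + (-α / N) • θ y₁) := ⟨_, _, rfl⟩
  refine ⟨(β / N) • y₁ + (-α / N) • θ y₁, Kmem.sing S.U S.hQs S.hQp hk hQy₁, hy₁e.kmem_left S hk,
    ?_, ?_⟩
  · rw [map_add, map_smul, map_smul, ← hαd, ← hβd]
    simp only [smul_eq_mul]
    field_simp
    ring
  · rw [map_add, map_smul, map_smul, S.U.sq, map_add, map_smul, map_smul, map_sub, map_smul,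
      map_smul, ← hαd, ← hβd]
    simp only [smul_eq_mul]
    field_simp
    rw [hNd]
    ring

end Exist

section Main

variable [Finite F] [FiniteDimensional F V] {Q : V → F} {P B : LinearMap.BilinForm F V}
  {θ : V →ₗ[F] V} {τ ν : F} (S : SpU Q P B θ τ ν)
  (M : Subgroup (V ≃ₗ[F] V)) (hMB : M ≤ isoGroup B)
  (hT : ∀ (u : V) (t : F), Q u = 0 → Tm Q P θ u t ∈ M)

include S hMB hT in
/-- From an isometry `S2 e f` with `f` off the line of `e` to the full root group at `e`. -/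
lemma root_of_S2' (h7 : 7 ≤ finrank F V) {e f : V} (hM : S2 B S.alt e f ∈ M) (hef : B e f = 0)
    (hK : ¬ Kmem θ e f) : e ∈ TV B S.alt M := by
  have hsymm := S.Psymm
  obtain ⟨z, hQz, hze, hzf⟩ := exists_sing_hpL S h7 hK
  have hez : HP P θ e z := hze.symm S
  obtain ⟨α, hα⟩ : ∃ α, α = P f z := ⟨_, rfl⟩
  obtain ⟨β, hβ⟩ : ∃ β, β = P f (θ z) := ⟨_, rfl⟩
  have hα0 : α ≠ 0 := by rw [hα, hsymm]; exact hzf
  obtain ⟨N, hNd⟩ : ∃ N, N = β * β + β * (-α) * τ + (-α) * (-α) * ν := ⟨_, rfl⟩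
  have hN : N ≠ 0 := by
    rw [hNd]
    exact fun h0 => hα0 (neg_eq_zero.mp (S.U.aniso _ _ h0).2)
  obtain ⟨w₀, hw₀⟩ : ∃ w₀, w₀ = α • θ z - β • z := ⟨_, rfl⟩
  have kw : Kmem θ z w₀ := ⟨-β, α, by rw [hw₀]; module⟩
  have hew : B e w₀ = 0 := hez.B_kmem S kw
  -- the value `B w₀ f`
  have hD := S.disc_ne
  have hBfz : (τ * τ - 4 * ν) * B f z = 2 * β - τ * α := by rw [S.DB, hα, hβ]
  have hBfθz : (τ * τ - 4 * ν) * B f (θ z) = τ * β - 2 * ν * α := by
    have h1 := S.DB f (θ z)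
    rw [S.U.sq, map_sub, map_smul, map_smul, ← hα, ← hβ] at h1
    rw [h1]
    simp only [smul_eq_mul]
    ring
  have hBw : (τ * τ - 4 * ν) * B w₀ f = 2 * N := by
    have e1 : B w₀ f = -(α * B f (θ z)) + β * B f z := by
      rw [hw₀, map_sub, map_smul, map_smul, LinearMap.sub_apply, LinearMap.smul_apply,
        LinearMap.smul_apply, alt_swap B S.alt (θ z) f, alt_swap B S.alt z f]
      simp only [smul_eq_mul]
      ring
    rw [e1, hNd]
    linear_combination (-α) * hBfθz + β * hBfz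
  intro c
  obtain ⟨t, ht⟩ : ∃ t, t = c * (τ * τ - 4 * ν) / (4 * N) := ⟨_, rfl⟩
  have hn : Tm Q P θ z t ∈ M := hT z t hQz
  have hne : Tm Q P θ z t e = e := Tm_fix S hQz t hez
  have hnf : Tm Q P θ z t f = f + t • w₀ := by
    rw [Tm_apply S hQz, ← hα, ← hβ, hw₀]
  have he2 : B e (f + t • w₀) = 0 := by
    rw [map_add, map_smul, hef, hew]; simp
  have hY : S2 B S.alt e (f + t • w₀) ∈ M := by
    have h1 := conj_S2 B S.alt (hMB hn) e f
    rw [hne, hnf] at h1
    rw [← h1]
    exact M.mul_mem (M.mul_mem hn hM) (M.inv_mem hn)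
  have hXY := S2_mul B S.alt hef he2
  have hYX := S2_mul B S.alt he2 hef
  have hcomm : f + t • w₀ + f = f + (f + t • w₀) := add_comm _ _
  have h4 : (4 : F) ≠ 0 := by
    have h22 : (4 : F) = 2 * 2 := by norm_num
    rw [h22]
    exact mul_ne_zero S.two S.two
  have hval : B (f + t • w₀) f + -(B f (f + t • w₀)) = c := by
    have e1 : B (f + t • w₀) f = t * B w₀ f := by
      rw [map_add, LinearMap.add_apply, map_smul, LinearMap.smul_apply, S.alt f]
      simp
    have e2 : B f (f + t • w₀) = -(t * B w₀ f) := by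
      rw [map_add, map_smul, S.alt f, alt_swap B S.alt f w₀]
      simp
    rw [e1, e2, ht]
    field_simp
    linear_combination (2 * c) * hBw
  have hfin : stv B S.alt e c =
      (S2 B S.alt e (f + t • w₀) * S2 B S.alt e f)⁻¹ *
        (S2 B S.alt e f * S2 B S.alt e (f + t • w₀)) := by
    rw [hXY, hYX, hcomm, mul_inv_rev, mul_assoc, inv_mul_cancel_left, stv_inv, stv_mul,
      add_comm (-(B f (f + t • w₀))), hval]
  rw [hfin]
  exact M.mul_mem (M.inv_mem (M.mul_mem hY hM)) (M.mul_mem hM hY)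

include S hMB hT in
/-- An element of `M` moving a singular line off its line produces an isometry `S2 e f` with
`f` off the line of `e`. -/
lemma S2_of_notKL (h14 : 9 ≤ finrank F V) {g : V ≃ₗ[F] V} (hg : g ∈ M) {u : V}
    (hu : Q u = 0) (hK : ¬ Kmem θ (g u) (g (θ u))) :
    ∃ e f, S2 B S.alt e f ∈ M ∧ B e f = 0 ∧ e ≠ 0 ∧ Q e = 0 ∧ ¬ Kmem θ e f := by
  have hsymm := S.Psymm
  obtain ⟨a, ha⟩ : ∃ a, a = g u := ⟨_, rfl⟩
  obtain ⟨b, hb⟩ : ∃ b, b = g (θ u) := ⟨_, rfl⟩
  rw [← ha, ← hb] at hK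
  have hab : B a b = 0 := by rw [ha, hb, hMB hg, S.Bsing hu]
  obtain ⟨z, hQz, hza, hzb⟩ := exists_sing_hpL S (by omega) hK
  obtain ⟨u', -, hu'0, hQu', hu'⟩ := exists_sing_perp Q P S.hQs S.hQp
    [a, θ a, b, θ b, z, θ z] ⊤ (by
      rw [finrank_top]; simp only [List.length_cons, List.length_nil]; omega)
  have hu'a : HP P θ u' a := ⟨hu' a (by simp), hu' (θ a) (by simp)⟩
  have hu'b : HP P θ u' b := ⟨hu' b (by simp), hu' (θ b) (by simp)⟩
  have hu'z : HP P θ u' z := ⟨hu' z (by simp), hu' (θ z) (by simp)⟩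
  have hau' : HP P θ a u' := hu'a.symm S
  have hbu' : HP P θ b u' := hu'b.symm S
  have haz : HP P θ a z := hza.symm S
  have hh : Gm Q P θ u' z 1 ∈ M := Gm_mem S M hT hQu' hQz hu'z 1
  have hha : Gm Q P θ u' z 1 a = a := by
    rw [Gm_apply S hQu' hQz hu'z, hau'.1, hau'.2, haz.1, haz.2]
    simp
  obtain ⟨d, hd⟩ : ∃ d, d = P b z • θ u' - P b (θ z) • u' := ⟨_, rfl⟩
  have hhb : Gm Q P θ u' z 1 b = b + d := by
    rw [Gm_apply S hQu' hQz hu'z, hbu'.1, hbu'.2, hd]
    module
  have kd : Kmem θ u' d := ⟨-(P b (θ z)), P b z, by rw [hd]; module⟩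
  have hd0 : d ≠ 0 := by
    intro h0
    have h1 : (-(P b (θ z))) • u' + P b z • θ u' = 0 := by rw [← h0, hd]; module
    apply hzb
    rw [hsymm]
    exact (S.U.indep hu'0 h1).2
  have had : B a d = 0 := hau'.B_kmem S kd
  have hbd : B b d = 0 := hbu'.B_kmem S kd
  have hda : B d a = 0 := hau'.B_kmem' S kd
  have hdb : B d b = 0 := hbu'.B_kmem' S kd
  have hba : B b a = 0 := by rw [alt_swap B S.alt, hab, neg_zero]
  have hTM : Tm Q P θ u 1 ∈ M := hT u 1 hu
  have hTM' : Tm Q P θ u (-1) ∈ M := hT u (-1) hu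
  obtain ⟨h, hhd⟩ : ∃ h, h = Gm Q P θ u' z 1 := ⟨_, rfl⟩
  rw [← hhd] at hh hha hhb
  have hC : (g * Tm Q P θ u (-1) * g⁻¹) * ((h * g) * Tm Q P θ u 1 * (h * g)⁻¹) ∈ M :=
    M.mul_mem (M.mul_mem (M.mul_mem hg hTM') (M.inv_mem hg))
      (M.mul_mem (M.mul_mem (M.mul_mem hh hg) hTM) (M.inv_mem (M.mul_mem hh hg)))
  have hdc : B d ((2 : F) • b - τ • a + d) = 0 := by
    rw [map_add, map_sub, map_smul, map_smul, hda, hdb, S.alt d]
    simp
  have hCeq : (g * Tm Q P θ u (-1) * g⁻¹) * ((h * g) * Tm Q P θ u 1 * (h * g)⁻¹) =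
      S2 B S.alt d ((2 : F) • b - τ • a + d) := by
    ext x
    rw [LinearEquiv.mul_apply, conjT_apply S (hMB (M.mul_mem hh hg)) hu,
      conjT_apply S (hMB hg) hu, S2_apply B S.alt hdc, LinearEquiv.mul_apply,
      LinearEquiv.mul_apply, ← ha, ← hb, hha, hhb]
    simp only [map_add, map_sub, map_smul, LinearMap.add_apply, LinearMap.sub_apply,
      LinearMap.smul_apply, smul_eq_mul, S.alt a, S.alt b, hab, hba, hda, hdb,
      mul_zero, add_zero, sub_zero]
    module
  refine ⟨d, (2 : F) • b - τ • a + d, ?_, hdc, hd0, Kmem.sing S.U S.hQs S.hQp kd hQu', ?_⟩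
  · rw [← hCeq]; exact hC
  · intro hk
    have k1 : Kmem θ d ((2 : F) • b - τ • a) := by
      have := hk.sub (Kmem.refl θ d)
      rwa [add_sub_cancel_right] at this
    have k2 : Kmem θ u' ((2 : F) • b - τ • a) := kd.trans S.U k1
    have h1 : HP P θ z ((2 : F) • b - τ • a) := (hu'z.symm S).kmem_right S k2
    have h2 := h1.1
    rw [map_sub, map_smul, map_smul, hza.1] at h2
    apply hzb
    have h3 : (2 : F) * P z b = 0 := by
      rw [← h2]; simp
    exact (mul_eq_zero.mp h3).resolve_left S.two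

end Main

section Semi

variable [Finite F] [FiniteDimensional F V] {Q : V → F} {B : LinearMap.BilinForm F V}
  {θ : V →ₗ[F] V} {τ ν : F} (U : UStr Q B θ τ ν)
  (hQs : ∀ (c : F) (v : V), Q (c • v) = c * c * Q v)
  (hQp : ∀ u v : V, Q (u + v) = Q u + Q v + B u v)

include U hQs hQp in
/-- A linear automorphism whose conjugate of `θ` preserves all singular lines is semilinear. -/
lemma semilinear_of_linesL (hN : B.Nondegenerate) (h13 : 9 ≤ finrank F V) {g : V ≃ₗ[F] V}
    (hL : ∀ y, y ≠ 0 → Q y = 0 → Kmem θ y (g (θ (g⁻¹ y)))) :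
    ∃ a b : F, ∀ x, g (θ x) = a • g x + b • θ (g x) := by
  have hsymm := B_symm Q B hQp
  -- independence
  have hind : ∀ y y', y ≠ 0 → y' ≠ 0 → ¬ Kmem θ y y' → ∀ α β α' β' : F,
      α • y + β • θ y + (α' • y' + β' • θ y') = 0 → α = 0 ∧ β = 0 ∧ α' = 0 ∧ β' = 0 := by
    intro y y' hy0 hy'0 hK' α β α' β' h
    have hm : α • y + β • θ y = 0 := by
      by_contra hm0
      have k1 : Kmem θ y (α • y + β • θ y) := ⟨α, β, rfl⟩
      have k2 : Kmem θ y' (α • y + β • θ y) := by
        refine ⟨-α', -β', ?_⟩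
        have := eq_neg_of_add_eq_zero_left h
        rw [this]; module
      exact hK' ((k2.trans U (k1.symm U hm0)).symm U hy0)
    have hm' : α' • y' + β' • θ y' = 0 := by rwa [hm, zero_add] at h
    exact ⟨(U.indep hy0 hm).1, (U.indep hy0 hm).2, (U.indep hy'0 hm').1, (U.indep hy'0 hm').2⟩
  -- the coefficients agree for orthogonal independent singular vectors
  have hstep : ∀ y y', y ≠ 0 → y' ≠ 0 → Q y = 0 → Q y' = 0 → B y y' = 0 → ¬ Kmem θ y y' →
      ∀ a b a' b' : F, g (θ (g⁻¹ y)) = a • y + b • θ y → g (θ (g⁻¹ y')) = a' • y' + b' • θ y' →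
      a = a' ∧ b = b' := by
    intro y y' hy0 hy'0 hy hy' hyy' hK' a b a' b' e e'
    have hs : Q (y + y') = 0 := by rw [hQp, hy, hy', hyy']; ring
    have hs0 : y + y' ≠ 0 := by
      intro h0
      apply hK'
      refine ⟨-1, 0, ?_⟩
      have := eq_neg_of_add_eq_zero_right h0
      rw [this]; module
    obtain ⟨a'', b'', e''⟩ := hL (y + y') hs0 hs
    have e3 : g (θ (g⁻¹ (y + y'))) = g (θ (g⁻¹ y)) + g (θ (g⁻¹ y')) := by
      simp only [map_add]
    rw [e3, e, e'] at e''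
    have h0 : (a - a'') • y + (b - b'') • θ y + ((a' - a'') • y' + (b' - b'') • θ y') = 0 := by
      have : (a - a'') • y + (b - b'') • θ y + ((a' - a'') • y' + (b' - b'') • θ y') =
          (a • y + b • θ y + (a' • y' + b' • θ y')) - (a'' • (y + y') + b'' • θ (y + y')) := by
        rw [map_add]; module
      rw [this, e'', sub_self]
    obtain ⟨h1, h2, h3, h4⟩ := hind y y' hy0 hy'0 hK' _ _ _ _ h0
    exact ⟨by linear_combination h1 - h3, by linear_combination h2 - h4⟩
  -- a base singular vector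
  obtain ⟨y₀, -, hy₀0, hQy₀⟩ := exists_singular_in Q B hQs hQp (⊤ : Submodule F V) (by
    rw [finrank_top]; omega)
  obtain ⟨a, b, e₀⟩ := hL y₀ hy₀0 hQy₀
  have hall : ∀ y, Q y = 0 → g (θ (g⁻¹ y)) = a • y + b • θ y := by
    intro y hy
    by_cases hy0 : y = 0
    · subst hy0; simp
    obtain ⟨a', b', e'⟩ := hL y hy0 hy
    obtain ⟨y₁, hy₁⟩ := exists_not_orth hQp hN hy₀0
    obtain ⟨y₂, hy₂⟩ := exists_not_orth hQp hN hy0
    obtain ⟨w, -, hw0, hQw, hw⟩ := exists_sing_perp Q B hQs hQp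
      [y₀, y, y₁, θ y₁, y₂, θ y₂] ⊤ (by
        rw [finrank_top]; simp only [List.length_cons, List.length_nil]; omega)
    have hwy₀ : B w y₀ = 0 := hw y₀ (by simp)
    have hwy : B w y = 0 := hw y (by simp)
    have hwy₁ : B w y₁ = 0 := hw y₁ (by simp)
    have hwθy₁ : B w (θ y₁) = 0 := hw (θ y₁) (by simp)
    have hwy₂ : B w y₂ = 0 := hw y₂ (by simp)
    have hwθy₂ : B w (θ y₂) = 0 := hw (θ y₂) (by simp)
    have hK1 : ¬ Kmem θ y₀ w := fun h => hw0 (notK_of_perp U hy₁ h hwy₁ hwθy₁)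
    have hK2 : ¬ Kmem θ y w := fun h => hw0 (notK_of_perp U hy₂ h hwy₂ hwθy₂)
    obtain ⟨aw, bw, ew⟩ := hL w hw0 hQw
    obtain ⟨h1, h2⟩ := hstep y₀ w hy₀0 hw0 hQy₀ hQw (by rw [hsymm]; exact hwy₀) hK1 _ _ _ _ e₀ ew
    obtain ⟨h3, h4⟩ := hstep y w hy0 hw0 hy hQw (by rw [hsymm]; exact hwy) hK2 _ _ _ _ e' ew
    rw [e', h3, h4, ← h1, ← h2]
  refine ⟨a, b, fun x => ?_⟩
  have hnd : ∀ a ∈ (⊤ : Submodule F V), a ≠ 0 → ∃ a' ∈ (⊤ : Submodule F V), B a' a ≠ 0 := by
    intro a _ ha0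
    obtain ⟨y, hy⟩ := exists_not_orth hQp hN ha0
    exact ⟨y, Submodule.mem_top, by rw [hsymm]; exact hy⟩
  obtain ⟨s₁, -, s₂, -, hQ1, hQ2, c, hc⟩ := sing_sum hQs hQp (⊤ : Submodule F V) hnd (by
    rw [finrank_top]; omega) (Submodule.mem_top (x := g x))
  have h1 := hall s₁ hQ1
  have h2 := hall s₂ hQ2
  have h3 : g (θ (g⁻¹ (g x))) = a • g x + b • θ (g x) := by
    rw [hc]
    simp only [map_add, map_smul, h1, h2]
    module
  rwa [inv_apply_apply'] at h3

end Semi

section Main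

variable [Finite F] [FiniteDimensional F V] {Q : V → F} {P B : LinearMap.BilinForm F V}
  {θ : V →ₗ[F] V} {τ ν : F} (S : SpU Q P B θ τ ν)
  (M : Subgroup (V ≃ₗ[F] V)) (hMB : M ≤ isoGroup B)
  (hT : ∀ (u : V) (t : F), Q u = 0 → Tm Q P θ u t ∈ M)

include S hMB hT in
/-- Moving a root group to an orthogonal singular vector on another line. -/
lemma TV_stepL (h14 : 7 ≤ finrank F V) {u v : V} (hu0 : u ≠ 0) (hu : Q u = 0)
    (huT : u ∈ TV B S.alt M) (hv : Q v = 0) (hvu : HP P θ v u) (hK : ¬ Kmem θ u v) :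
    v ∈ TV B S.alt M := by
  have hsymm := S.Psymm
  have huv : HP P θ u v := hvu.symm S
  have huu : HP P θ u u := HP.self S hu
  have hv0 : v ≠ 0 := by
    rintro rfl
    exact hK (Kmem.zero θ u)
  have hnK : ¬ Kmem θ (v - u) u := by
    rintro ⟨a, b, hab⟩
    by_cases hw : a • v + b • θ v = 0
    · obtain ⟨rfl, rfl⟩ := S.U.indep hv0 hw
      apply hu0
      rw [hab]; simp
    · have k1 : Kmem θ v (a • v + b • θ v) := ⟨a, b, rfl⟩
      have k2 : Kmem θ u (a • v + b • θ v) := by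
        refine ⟨1 + a, b, ?_⟩
        have e : a • v + b • θ v = (a • (v - u) + b • θ (v - u)) + a • u + b • θ u := by
          rw [map_sub]; module
        rw [e, ← hab]; module
      exact hK (k2.trans S.U (k1.symm S.U hw))
  obtain ⟨y, hQy, hye, huy, huθy⟩ := partner_perpL S h14 hnK
  have hQz : Q (v - u) = 0 := by
    have e : v - u = v + (-1 : F) • u := by module
    rw [e, Q_add_smul Q P S.hQs S.hQp, hv, hu, hvu.1]
    ring
  have hg : Gm Q P θ y (v - u) (-1) ∈ M := Gm_mem S M hT hQy hQz hye (-1)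
  have hgu : Gm Q P θ y (v - u) (-1) u = v := by
    rw [Gm_apply S hQy hQz hye, huy, huθy, map_sub, map_sub, map_sub, huv.1, huu.1, huv.2, huu.2]
    module
  rw [← hgu]
  exact TV_map hg (hMB hg) huT

include S hMB hT in
/-- A root group at one singular vector gives the root groups at all singular vectors. -/
lemma TV_sing' (h7 : 7 ≤ finrank F V) {u v : V} (hu0 : u ≠ 0) (hu : Q u = 0)
    (huT : u ∈ TV B S.alt M) (hv : Q v = 0) : v ∈ TV B S.alt M := by
  by_cases hv0 : v = 0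
  · rw [hv0]; exact TV_zero
  by_cases hH : HP P θ v u
  · by_cases hKuv : Kmem θ u v
    · -- `v` on the line of `u`: go through a third line
      obtain ⟨cu, hcu⟩ := exists_not_orth S.hQp S.nP hu0
      obtain ⟨w, -, hw0, hQw, hw⟩ := exists_sing_perp Q P S.hQs S.hQp
        [u, θ u, cu, θ cu] ⊤ (by
          rw [finrank_top]; simp only [List.length_cons, List.length_nil]; omega)
      have hwu : HP P θ w u := ⟨hw u (by simp), hw (θ u) (by simp)⟩
      have hK1 : ¬ Kmem θ u w :=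
        fun h => hw0 (notK_of_perp S.U hcu h (hw cu (by simp)) (hw (θ cu) (by simp)))
      have hwT : w ∈ TV B S.alt M := TV_stepL S M hMB hT h7 hu0 hu huT hQw hwu hK1
      have hvw : HP P θ v w := (hwu.kmem_right S hKuv).symm S
      have hK2 : ¬ Kmem θ w v := by
        intro h
        have h1 : Kmem θ v w := h.symm S.U hv0
        exact hK1 (hKuv.trans S.U h1)
      exact TV_stepL S M hMB hT h7 hw0 hQw hwT hv hvw hK2
    · exact TV_stepL S M hMB hT h7 hu0 hu huT hv hH hKuv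
  · -- not hermitian-orthogonal: a common neighbour
    obtain ⟨w, -, hw0, hQw, hw⟩ := exists_sing_perp Q P S.hQs S.hQp
      [u, θ u, v, θ v] ⊤ (by
        rw [finrank_top]; simp only [List.length_cons, List.length_nil]; omega)
    have hwu : HP P θ w u := ⟨hw u (by simp), hw (θ u) (by simp)⟩
    have hwv : HP P θ w v := ⟨hw v (by simp), hw (θ v) (by simp)⟩
    have hK1 : ¬ Kmem θ u w := by
      intro h
      -- then `v` is hermitian-orthogonal to `u`
      have h1 : Kmem θ w u := h.symm S.U hw0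
      exact hH ((hwv.symm S).kmem_right S h1)
    have hK2 : ¬ Kmem θ w v := by
      intro h
      exact hH (((hwu.symm S).kmem_right S h).symm S)
    have hwT : w ∈ TV B S.alt M := TV_stepL S M hMB hT h7 hu0 hu huT hQw hwu hK1
    exact TV_stepL S M hMB hT h7 hw0 hQw hwT hv (hwv.symm S) hK2

include S hMB hT in
/-- A root group at one singular vector gives all symplectic transvections. -/
lemma TV_allL (h14 : 7 ≤ finrank F V) {u : V} (hu0 : u ≠ 0) (hu : Q u = 0)
    (huT : u ∈ TV B S.alt M) (v : V) : v ∈ TV B S.alt M := by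
  have hsymm := S.Psymm
  by_cases hv0 : v = 0
  · rw [hv0]; exact TV_zero
  by_cases hQv : Q v = 0
  · exact TV_sing' S M hMB hT h14 hu0 hu huT hQv
  -- a singular vector `x` with `P v x ≠ 0` and `B v x ≠ 0`
  have hnd : ∀ a ∈ (⊤ : Submodule F V), a ≠ 0 → ∃ a' ∈ (⊤ : Submodule F V), P a' a ≠ 0 := by
    intro a _ ha0
    obtain ⟨y, hy⟩ := exists_not_orth S.hQp S.nP ha0
    exact ⟨y, Submodule.mem_top, by rw [hsymm]; exact hy⟩
  obtain ⟨s, -, hQs', hsv⟩ := exists_sing_not_orth Q P S.hQs S.hQp ⊤ hnd (by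
    rw [finrank_top]; omega) (hnd v Submodule.mem_top hv0)
  have hvs : P v s ≠ 0 := by rw [hsymm]; exact hsv
  obtain ⟨x, hQx, hPx, hBx⟩ : ∃ x, Q x = 0 ∧ P v x ≠ 0 ∧ B v x ≠ 0 := by
    by_cases hB : B v s = 0
    · have hθ : B v (θ s) ≠ 0 := by
        intro h0
        apply hvs
        rw [S.PB, hB, h0]; ring
      have hPθ : P v (θ s) = τ * B v (θ s) := by rw [S.PBθ, hB]; ring
      have hPs : P v s = 2 * B v (θ s) := by rw [S.PB, hB]; ring
      by_cases hτ : 2 + τ = 0
      · refine ⟨s + (-1 : F) • θ s, Kmem.sing S.U S.hQs S.hQp ⟨1, -1, by module⟩ hQs', ?_, ?_⟩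
        · rw [map_add, map_smul, hPθ, hPs]
          have h4 : (2 : F) - τ ≠ 0 := by
            intro h
            have h5 : (2 : F) * 2 = 0 := by linear_combination hτ + h
            exact S.two ((mul_eq_zero.mp h5).elim id id)
          have : 2 * B v (θ s) + (-1 : F) • (τ * B v (θ s)) = (2 - τ) * B v (θ s) := by
            simp only [smul_eq_mul]; ring
          rw [this]
          exact mul_ne_zero h4 hθ
        · rw [map_add, map_smul, hB]
          simpa using hθ
      · refine ⟨s + (1 : F) • θ s, Kmem.sing S.U S.hQs S.hQp ⟨1, 1, by module⟩ hQs', ?_, ?_⟩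
        · rw [map_add, map_smul, hPθ, hPs]
          have : 2 * B v (θ s) + (1 : F) • (τ * B v (θ s)) = (2 + τ) * B v (θ s) := by
            simp only [smul_eq_mul]; ring
          rw [this]
          exact mul_ne_zero hτ hθ
        · rw [map_add, map_smul, hB]
          simpa using hθ
    · exact ⟨s, hQs', hvs, hB⟩
  have hx0 : x ≠ 0 := by
    rintro rfl
    apply hBx
    simp
  have hxT : x ∈ TV B S.alt M := TV_sing' S M hMB hT h14 hu0 hu huT hQx
  have hx'Q : Q (v + (-(Q v / P v x)) • x) = 0 := sing_adjust Q P S.hQs S.hQp hQx hPx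
  have hx'T : v + (-(Q v / P v x)) • x ∈ TV B S.alt M :=
    TV_sing' S M hMB hT h14 hu0 hu huT hx'Q
  have hB' : B (v + (-(Q v / P v x)) • x) x ≠ 0 := by
    rw [map_add, LinearMap.add_apply, map_smul, LinearMap.smul_apply, S.alt x, smul_zero, add_zero]
    exact hBx
  have := TV_add_smul hxT hx'T hB' (Q v / P v x)
  have e : v + (-(Q v / P v x)) • x + (Q v / P v x) • x = v := by module
  rwa [e] at this

include S in
/-- **Maximality of the normaliser of a quadratic field** in the symplectic group. -/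
theorem maximal_spfieldL (h14 : 9 ≤ finrank F V) (Sg : Subgroup (V ≃ₗ[F] V))
    (hS : ∀ g, g ∈ Sg ↔ ∃ a b : F, ∀ x, g (θ x) = a • g x + b • θ (g x)) :
    (Sg ⊓ isoGroup B < isoGroup B) ∧
      ∀ M : Subgroup (V ≃ₗ[F] V), Sg ⊓ isoGroup B ≤ M → M ≤ isoGroup B →
        M = Sg ⊓ isoGroup B ∨ M = isoGroup B := by
  have hsymm := S.Psymm
  constructor
  · refine lt_of_le_of_ne inf_le_right ?_
    intro heq
    obtain ⟨x, -, hx0, hQx⟩ := exists_singular_in Q P S.hQs S.hQp (⊤ : Submodule F V) (by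
      rw [finrank_top]; omega)
    have hE : stv B S.alt x 1 ∈ Sg ⊓ isoGroup B := by
      rw [heq]; exact stv_mem_isoGroup B S.alt x 1
    obtain ⟨a, b, hab⟩ := (hS _).mp hE.1
    have hxθx : B x (θ x) = 0 := S.Bsing hQx
    have hθxx : B (θ x) x = 0 := by rw [alt_swap B S.alt, hxθx, neg_zero]
    have h1 := hab x
    rw [stv_apply, stv_apply, S.alt x, hθxx] at h1
    have h2 : a • x + (b - 1) • θ x = 0 := by
      have : a • x + (b - 1) • θ x = (a • (x + ((1 : F) * 0) • x) + b • θ (x + ((1 : F) * 0) • x)) -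
          (θ x + ((1 : F) * 0) • x) := by
        simp only [map_add, map_smul]; module
      rw [this, ← h1, sub_self]
    obtain ⟨ha, hb⟩ := S.U.indep hx0 h2
    have hb' : b = 1 := by linear_combination hb
    obtain ⟨y, hy⟩ : ∃ y, B y x ≠ 0 := by
      by_contra hcon
      push Not at hcon
      exact hx0 (S.nB.2 x hcon)
    have h3 := hab y
    rw [ha, hb', zero_smul, zero_add, one_smul, stv_apply, stv_apply] at h3
    have h4 : (B (θ y) x) • x + (-(B y x)) • θ x = 0 := by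
      have : (B (θ y) x) • x + (-(B y x)) • θ x =
          (θ y + ((1 : F) * B (θ y) x) • x) - θ (y + ((1 : F) * B y x) • x) := by
        simp only [map_add, map_smul]; module
      rw [this, h3, sub_self]
    exact hy (neg_eq_zero.mp (S.U.indep hx0 h4).2)
  · intro M hHM hMB
    have hT : ∀ (u : V) (t : F), Q u = 0 → Tm Q P θ u t ∈ M := by
      intro u t hu
      apply hHM
      refine ⟨(hS _).mpr ⟨0, 1, fun x => ?_⟩, Tm_mem_iso S hu t⟩
      rw [Tm_comm S hu]
      module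
    by_cases hK : ∀ g ∈ M, ∀ u, Q u = 0 → Kmem θ (g u) (g (θ u))
    · left
      apply le_antisymm _ hHM
      intro m hm
      refine ⟨(hS m).mpr ?_, hMB hm⟩
      apply semilinear_of_linesL S.U S.hQs S.hQp S.nP (by omega)
      intro y hy0 hy
      have hmi : m⁻¹ ∈ M := M.inv_mem hm
      obtain ⟨α, β, hαβ⟩ := hK m⁻¹ hmi y hy
      have hβ : β ≠ 0 := by
        rintro rfl
        have h1 := congrArg m hαβ
        rw [apply_inv_apply', zero_smul, add_zero, map_smul, apply_inv_apply'] at h1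
        have h2 : (-α) • y + (1 : F) • θ y = 0 := by rw [one_smul, h1]; module
        exact one_ne_zero (S.U.indep hy0 h2).2
      have h1 := congrArg m hαβ
      rw [apply_inv_apply', map_add, map_smul, map_smul, apply_inv_apply'] at h1
      refine ⟨-(α / β), 1 / β, ?_⟩
      have h2 : m (θ (m⁻¹ y)) = β⁻¹ • (β • m (θ (m⁻¹ y))) := by
        rw [smul_smul, inv_mul_cancel₀ hβ, one_smul]
      have h3 : β • m (θ (m⁻¹ y)) = θ y - α • y := by rw [h1]; module
      rw [h2, h3, smul_sub, smul_smul]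
      have e1 : β⁻¹ * α = α / β := by field_simp
      have e2 : β⁻¹ = 1 / β := by field_simp
      rw [e1, e2]
      module
    · right
      push Not at hK
      obtain ⟨g, hg, u, hu, hgK⟩ := hK
      obtain ⟨e, f, hM2, hef, he0, hQe, heK⟩ := S2_of_notKL S M hMB hT h14 hg hu hgK
      have heT : e ∈ TV B S.alt M := root_of_S2' S M hMB hT (by omega) hM2 hef heK
      apply le_antisymm hMB
      apply isoGroup_le_of_stv_mem B S.alt S.nB
      intro v c
      exact TV_allL S M hMB hT (by omega) he0 hQe heT v c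

end Main

end Cfsg.Agent.Lib.Helper98_SpUniSmall
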