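import Mathlib
import Cfsg.Agent.Lib.Helper94_SpUniBridge
import Cfsg.Agent.Lib.Helper98_SpUniSmall

set_option autoImplicit false

/-!
# `GU_m(q).2` is maximal in `Sp_{2m}(q)` for `m ≥ 5` (helper98)

`Helper94_SpUniBridge.spfield_maximal` with `5 ≤ m` instead of `7 ≤ m`, through
`Helper98_SpUniSmall.maximal_spfieldL` (`9 ≤ finrank`).  Needed for the rows on `Sp_10(q)` and
`Sp_12(q)`.
-/

namespace Cfsg.Agent.Lib.Helper98_SpUniSmallBridge

open Matrix Module Cfsg.Agent.Lib.Helper94_Symp Cfsg.Agent.Lib.Helper94_Bridge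
  Cfsg.Agent.Lib.Helper94_SLBridge Cfsg.Agent.Lib.Helper94_OrthUni
  Cfsg.Agent.Lib.Helper94_OrthUniBridge Cfsg.Agent.Lib.Helper94_SpUni Cfsg.Agent.Lib.Helper94_SpUniBridge

section Symp

variable {F : Type*} [Field F]

/-- **Maximality of the normaliser of a quadratic extension field** (closed under adjoints, not
self-adjoint) in `Sp_2m(F)`, for `F` of odd order and `m ≥ 5`. -/
theorem spfield_maximalL [Fintype F] (m : ℕ) (hm : 5 ≤ m) (h2 : (2 : F) ≠ 0)
    (K : Subalgebra F (Matrix (Fin m ⊕ Fin m) (Fin m ⊕ Fin m) F))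
    (hK : Cfsg.Geo.IsFieldSubalgebra 2 K)
    (hac : Cfsg.Geo.IsAdjointClosedFor (Cfsg.sympForm m F) K)
    (hnsa : ¬ Cfsg.Geo.IsSelfAdjointFor (Cfsg.sympForm m F) K) :
    Cfsg.Geo.IsMaximalIn (Cfsg.spGL m F) (Cfsg.Geo.subalgebraNormalizer K ⊓ Cfsg.spGL m F) := by
  classical
  have hne : Nonempty (Fin m ⊕ Fin m) := ⟨Sum.inl ⟨0, by omega⟩⟩
  have hfr : finrank F (Fin m ⊕ Fin m → F) = m + m := by
    rw [Module.finrank_pi, Fintype.card_sum, Fintype.card_fin]
  have hac' : Cfsg.Geo.IsAdjointClosedFor (fun u v => Bsymp m F u v) K := by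
    intro k hk
    obtain ⟨k', hk', h⟩ := hac k hk
    refine ⟨k', hk', fun u v => ?_⟩
    show Bsymp m F (k *ᵥ u) v = Bsymp m F u (k' *ᵥ v)
    rw [Bsymp_apply, Bsymp_apply]; exact h u v
  have hnsa' : ¬ Cfsg.Geo.IsSelfAdjointFor (fun u v => Bsymp m F u v) K := by
    intro h
    apply hnsa
    intro k hk u v
    have : Bsymp m F (k *ᵥ u) v = Bsymp m F u (k *ᵥ v) := h k hk u v
    rw [Bsymp_apply, Bsymp_apply] at this
    exact this
  obtain ⟨T, τ, ν, hTK, hTns, hgen, hsq, hadj, haniso⟩ :=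
    exists_sstr K hK (Bsymp m F) (Bsymp_nondegenerate m) hac' hnsa'
  have hSp := spU_of (Bsymp m F) (Bsymp_isAlt m) (Bsymp_nondegenerate m) (Matrix.toLin' T) τ ν h2
    (fun x => by simp only [Matrix.toLin'_apply]; exact hsq x)
    (fun x y => by simp only [Matrix.toLin'_apply]; exact hadj x y) haniso
  let S : Subgroup ((Fin m ⊕ Fin m → F) ≃ₗ[F] (Fin m ⊕ Fin m → F)) :=
    (Cfsg.Geo.subalgebraNormalizer K).comap (glEquiv (Fin m ⊕ Fin m) F).symm.toMonoidHom
  have hSeq : Cfsg.Geo.subalgebraNormalizer K =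
      S.comap (glEquiv (Fin m ⊕ Fin m) F).toMonoidHom :=
    (comap_symm_comap (glEquiv (Fin m ⊕ Fin m) F) _).symm
  have hS : ∀ g, g ∈ S ↔ ∃ a b : F, ∀ x, g (Matrix.toLin' T x) =
      a • g x + b • Matrix.toLin' T (g x) := by
    intro g
    have key : ∀ y, g y = (((glEquiv (Fin m ⊕ Fin m) F).symm g : GL (Fin m ⊕ Fin m) F) :
        Matrix (Fin m ⊕ Fin m) (Fin m ⊕ Fin m) F) *ᵥ y := by
      intro y
      rw [← glEquiv_apply, MulEquiv.apply_symm_apply]
    have h1 : g ∈ S ↔ (glEquiv (Fin m ⊕ Fin m) F).symm g ∈ Cfsg.Geo.subalgebraNormalizer K :=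
      Iff.rfl
    rw [h1, mem_normalizer_iff K hK hTK hTns hgen]
    constructor
    · rintro ⟨a, b, hab⟩
      refine ⟨a, b, fun x => ?_⟩
      rw [key, key, Matrix.toLin'_apply, Matrix.toLin'_apply, Matrix.mulVec_mulVec, hab,
        ← Matrix.mulVec_mulVec, Matrix.add_mulVec, Matrix.smul_mulVec, Matrix.smul_mulVec,
        Matrix.one_mulVec]
    · rintro ⟨a, b, hab⟩
      refine ⟨a, b, ?_⟩
      apply Matrix.toLin'.injective
      refine LinearMap.ext fun x => ?_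
      have := hab x
      rw [key, key, Matrix.toLin'_apply, Matrix.toLin'_apply] at this
      rw [Matrix.toLin'_apply, Matrix.toLin'_apply, ← Matrix.mulVec_mulVec, this,
        ← Matrix.mulVec_mulVec, Matrix.add_mulVec, Matrix.smul_mulVec, Matrix.smul_mulVec,
        Matrix.one_mulVec]
  rw [hSeq, spGL_eq, ← Subgroup.comap_inf]
  apply isMaximalIn_comap
  exact Cfsg.Agent.Lib.Helper98_SpUniSmall.maximal_spfieldL hSp (by rw [hfr]; omega) S hS

end Symp

end Cfsg.Agent.Lib.Helper98_SpUniSmallBridge
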