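import Mathlib
import Cfsg.Agent.Lib.Helper67_Tens2Defs

/-!
# `Sp_a ⊗ O_3` (helper97's finding 189), step (G5), uniform version (helper98)

`J` a module over a field `F`, `T : J →ₗ[F] J` with `T² = τ T - δ` (`δ ≠ 0`), `|F| ≥ 5`.
`Gbar T = ⟨E12(c), E21(c T) : c ∈ F⟩ ≤ GL(J × J)` (`ux (c • 1)`, `lx (c • T)` of `Helper67_Tens2Defs`).
Then the commutator subgroup of `Gbar T` contains a nontrivial `ux S` (`g5`).

Uniform proof (no case analysis on `T`, no Dickson): for `b₁ ≠ b₃` in `Fˣ` with `1 + bᵢ T` invertible put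
`n₁ = N(1 + b₁ T)`, `n₃ = N(1 + b₃ T)`, `s₁ = n₁ b₃`, `s₂ = b₁ - b₃`, `s₃ = - n₃ b₁`, `a₂ = b₁ / s₁`, `a₃ = b₃ / s₃`.
Then `g = y(s₁) x(a₂) y(s₂) x(a₃) y(s₃)` is upper triangular with diagonal `(U, U⁻¹)`,
`U = (1 + b₃ T)(1 + b₁ T)⁻¹`, and `⁅g, x(n₁²)⁆ = x(S)` with
`S = (b₃ - b₁) T (2 + (b₁ + b₃) T) P'²`, `P' = (1 + b₁ τ) - b₁ T`.
-/

set_option autoImplicit false
set_option linter.unusedSectionVars false
set_option linter.unusedSimpArgs false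

namespace Cfsg.Agent.Lib.Helper98_T3_G5

open Cfsg.Agent.Lib.Helper67_Tens2Defs

variable {F J : Type*} [Field F] [AddCommGroup J] [Module F J]

/-- the group generated by `E12(c)`, `E21(c T)`, `c ∈ F` -/
def Gbar (T : J →ₗ[F] J) : Subgroup ((J × J) ≃ₗ[F] (J × J)) :=
  Subgroup.closure ({g | ∃ c : F, g = ux (c • (LinearMap.id : J →ₗ[F] J))} ∪
    {g | ∃ c : F, g = lx (c • T)})

theorem ux_mem_Gbar (T : J →ₗ[F] J) (c : F) : ux (c • (LinearMap.id : J →ₗ[F] J)) ∈ Gbar T :=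
  Subgroup.subset_closure (Or.inl ⟨c, rfl⟩)

theorem lx_mem_Gbar (T : J →ₗ[F] J) (c : F) : lx (c • T) ∈ Gbar T :=
  Subgroup.subset_closure (Or.inr ⟨c, rfl⟩)

/-- the word `y(s₁) x(a₂) y(s₂) x(a₃) y(s₃)` -/
def word (T : J →ₗ[F] J) (s1 a2 s2 a3 s3 : F) : (J × J) ≃ₗ[F] (J × J) :=
  lx (s1 • T) * ux (a2 • (LinearMap.id : J →ₗ[F] J)) * lx (s2 • T) *
    ux (a3 • (LinearMap.id : J →ₗ[F] J)) * lx (s3 • T)

theorem word_mem (T : J →ₗ[F] J) (s1 a2 s2 a3 s3 : F) : word T s1 a2 s2 a3 s3 ∈ Gbar T :=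
  (Gbar T).mul_mem ((Gbar T).mul_mem ((Gbar T).mul_mem ((Gbar T).mul_mem (lx_mem_Gbar T s1)
    (ux_mem_Gbar T a2)) (lx_mem_Gbar T s2)) (ux_mem_Gbar T a3)) (lx_mem_Gbar T s3)

/-- the norm `N(1 + b T) = 1 + b τ + b² δ` -/
def nrm (τ δ b : F) : F := 1 + b * τ + b ^ 2 * δ

/-- `P' = (1 + b τ) - b T`, the conjugate of `1 + b T` -/
def Pc (T : J →ₗ[F] J) (τ b : F) : J →ₗ[F] J := (1 + b * τ) • (LinearMap.id : J →ₗ[F] J) - b • T

/-- `2 + c T` -/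
def M2 (T : J →ₗ[F] J) (c : F) : J →ₗ[F] J := (2 : F) • (LinearMap.id : J →ₗ[F] J) + c • T

/-- `S = (b₃ - b₁) T (2 + (b₁ + b₃) T) P'²` -/
def Sop (T : J →ₗ[F] J) (τ b1 b3 : F) : J →ₗ[F] J :=
  (b3 - b1) • (T ∘ₗ M2 T (b1 + b3) ∘ₗ Pc T τ b1 ∘ₗ Pc T τ b1)

theorem Sop_apply (T : J →ₗ[F] J) (τ b1 b3 : F) (w : J) :
    Sop T τ b1 b3 w = (b3 - b1) • T (M2 T (b1 + b3) (Pc T τ b1 (Pc T τ b1 w))) := rfl

/-- the special word -/
def gw (T : J →ₗ[F] J) (τ δ b1 b3 : F) : (J × J) ≃ₗ[F] (J × J) :=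
  word T (nrm τ δ b1 * b3) (b1 / (nrm τ δ b1 * b3)) (b1 - b3) (-(b3 / (nrm τ δ b3 * b1)))
    (-(nrm τ δ b3 * b1))

theorem T_lin (T : J →ₗ[F] J) (τ δ : F) (hT : ∀ w, T (T w) = τ • T w - δ • w) (α β : F) (w : J) :
    T (α • w + β • T w) = (-(β * δ)) • w + (α + β * τ) • T w := by
  rw [map_add, map_smul, map_smul, hT]
  module

theorem Pc_lin (T : J →ₗ[F] J) (τ δ : F) (hT : ∀ w, T (T w) = τ • T w - δ • w) (b α β : F)
    (w : J) :
    Pc T τ b (α • w + β • T w) = ((1 + b * τ) * α + b * β * δ) • w + (β - b * α) • T w := by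
  simp only [Pc, LinearMap.sub_apply, LinearMap.smul_apply, LinearMap.id_apply]
  rw [T_lin T τ δ hT]
  module

theorem M2_lin (T : J →ₗ[F] J) (τ δ : F) (hT : ∀ w, T (T w) = τ • T w - δ • w) (c α β : F)
    (w : J) :
    M2 T c (α • w + β • T w) = (2 * α - c * β * δ) • w + (2 * β + c * α + c * β * τ) • T w := by
  simp only [M2, LinearMap.add_apply, LinearMap.smul_apply, LinearMap.id_apply]
  rw [T_lin T τ δ hT]
  module

theorem gw_apply (T : J →ₗ[F] J) (τ δ : F) (hT : ∀ w, T (T w) = τ • T w - δ • w)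
    (b1 b3 : F) (hb1 : b1 ≠ 0) (hb3 : b3 ≠ 0) (hn1 : nrm τ δ b1 ≠ 0) (hn3 : nrm τ δ b3 ≠ 0)
    (v v' : J) :
    gw T τ δ b1 b3 (v, v') =
      (((1 + b1 * τ + b1 * b3 * δ) / nrm τ δ b1) • v + ((b3 - b1) / nrm τ δ b1) • T v +
        ((b1 / (nrm τ δ b1 * b3) - b3 / (nrm τ δ b3 * b1)) • v' +
          (-((b1 - b3) / (nrm τ δ b1 * nrm τ δ b3))) • T v'),
       ((1 + b3 * τ + b1 * b3 * δ) / nrm τ δ b3) • v' + ((b1 - b3) / nrm τ δ b3) • T v') := by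
  simp only [gw, word, LinearEquiv.mul_apply, lx_apply, ux_apply, LinearMap.smul_apply,
    LinearMap.id_apply, map_add, map_smul, map_sub, map_neg, hT]
  obtain ⟨n1, hn1def⟩ : ∃ n1, n1 = nrm τ δ b1 := ⟨_, rfl⟩
  obtain ⟨n3, hn3def⟩ : ∃ n3, n3 = nrm τ δ b3 := ⟨_, rfl⟩
  rw [← hn1def] at hn1 ⊢
  rw [← hn3def] at hn3 ⊢
  unfold nrm at hn1def hn3def
  ext
  · simp only []
    match_scalars <;> field_simp <;> simp only [hn1def, hn3def] <;> ring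
  · simp only []
    match_scalars <;> field_simp <;> simp only [hn1def, hn3def] <;> ring

theorem key (T : J →ₗ[F] J) (τ δ : F) (hT : ∀ w, T (T w) = τ • T w - δ • w)
    (b1 b3 : F) (hn1 : nrm τ δ b1 ≠ 0) (hn3 : nrm τ δ b3 ≠ 0) (w : J) :
    (nrm τ δ b1 ^ 2) • (((1 + b1 * τ + b1 * b3 * δ) / nrm τ δ b1) • w +
        ((b3 - b1) / nrm τ δ b1) • T w) =
      Sop T τ b1 b3 (((1 + b3 * τ + b1 * b3 * δ) / nrm τ δ b3) • w +
        ((b1 - b3) / nrm τ δ b3) • T w) +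
      (nrm τ δ b1 ^ 2) • (((1 + b3 * τ + b1 * b3 * δ) / nrm τ δ b3) • w +
        ((b1 - b3) / nrm τ δ b3) • T w) := by
  rw [Sop_apply, Pc_lin T τ δ hT, Pc_lin T τ δ hT, M2_lin T τ δ hT, T_lin T τ δ hT]
  obtain ⟨n1, hn1def⟩ : ∃ n1, n1 = nrm τ δ b1 := ⟨_, rfl⟩
  obtain ⟨n3, hn3def⟩ : ∃ n3, n3 = nrm τ δ b3 := ⟨_, rfl⟩
  rw [← hn1def] at hn1 ⊢
  rw [← hn3def] at hn3 ⊢
  unfold nrm at hn1def hn3def
  match_scalars <;> field_simp <;> simp only [hn1def, hn3def] <;> ring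

theorem gw_comm (T : J →ₗ[F] J) (τ δ : F) (hT : ∀ w, T (T w) = τ • T w - δ • w)
    (b1 b3 : F) (hb1 : b1 ≠ 0) (hb3 : b3 ≠ 0) (hn1 : nrm τ δ b1 ≠ 0) (hn3 : nrm τ δ b3 ≠ 0) :
    gw T τ δ b1 b3 * ux ((nrm τ δ b1 ^ 2) • (LinearMap.id : J →ₗ[F] J)) =
      ux (Sop T τ b1 b3 + (nrm τ δ b1 ^ 2) • (LinearMap.id : J →ₗ[F] J)) * gw T τ δ b1 b3 := by
  apply LinearEquiv.ext
  rintro ⟨v, v'⟩
  rw [LinearEquiv.mul_apply, LinearEquiv.mul_apply, ux_apply, gw_apply T τ δ hT b1 b3 hb1 hb3 hn1 hn3,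
    gw_apply T τ δ hT b1 b3 hb1 hb3 hn1 hn3, ux_apply]
  have hk := key T τ δ hT b1 b3 hn1 hn3 v'
  ext
  · simp only [LinearMap.add_apply, LinearMap.smul_apply, LinearMap.id_apply]
    rw [← hk]
    simp only [map_add, map_smul]
    module
  · rfl

/-- `ux S` is a commutator of elements of `Gbar T` -/
theorem ux_Sop_mem (T : J →ₗ[F] J) (τ δ : F) (hT : ∀ w, T (T w) = τ • T w - δ • w)
    (b1 b3 : F) (hb1 : b1 ≠ 0) (hb3 : b3 ≠ 0) (hn1 : nrm τ δ b1 ≠ 0) (hn3 : nrm τ δ b3 ≠ 0) :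
    ux (Sop T τ b1 b3) ∈ ⁅Gbar T, Gbar T⁆ := by
  have hc := gw_comm T τ δ hT b1 b3 hb1 hb3 hn1 hn3
  have hmem : gw T τ δ b1 b3 * ux ((nrm τ δ b1 ^ 2) • (LinearMap.id : J →ₗ[F] J)) *
      (gw T τ δ b1 b3)⁻¹ * (ux ((nrm τ δ b1 ^ 2) • (LinearMap.id : J →ₗ[F] J)))⁻¹ ∈
      ⁅Gbar T, Gbar T⁆ :=
    Subgroup.commutator_mem_commutator (word_mem T _ _ _ _ _) (ux_mem_Gbar T _)
  have he : gw T τ δ b1 b3 * ux ((nrm τ δ b1 ^ 2) • (LinearMap.id : J →ₗ[F] J)) *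
      (gw T τ δ b1 b3)⁻¹ * (ux ((nrm τ δ b1 ^ 2) • (LinearMap.id : J →ₗ[F] J)))⁻¹ =
      ux (Sop T τ b1 b3) := by
    rw [hc, mul_inv_cancel_right, ux_inv, ux_mul, add_neg_cancel_right]
  rwa [he] at hmem

/-- `P' (P u) = n • u` -/
theorem Pc_P (T : J →ₗ[F] J) (τ δ : F) (hT : ∀ w, T (T w) = τ • T w - δ • w) (b : F) (u : J) :
    Pc T τ b (u + b • T u) = nrm τ δ b • u := by
  have h := Pc_lin T τ δ hT b 1 b u
  rw [one_smul] at h
  rw [h, nrm]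
  module

theorem Sop_ne_zero (T : J →ₗ[F] J) (τ δ : F) (hδ : δ ≠ 0)
    (hT : ∀ w, T (T w) = τ • T w - δ • w)
    (b1 b3 : F) (hne : b1 ≠ b3) (hn1 : nrm τ δ b1 ≠ 0) (hM : M2 T (b1 + b3) ≠ 0) :
    Sop T τ b1 b3 ≠ 0 := by
  intro h0
  apply hM
  apply LinearMap.ext
  intro w0
  rw [LinearMap.zero_apply]
  have h1 := congrArg (fun f : J →ₗ[F] J =>
    f ((nrm τ δ b1 ^ 2)⁻¹ • ((w0 + b1 • T w0) + b1 • T (w0 + b1 • T w0)))) h0
  simp only [LinearMap.zero_apply] at h1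
  have h4 : Pc T τ b1 (Pc T τ b1
      ((nrm τ δ b1 ^ 2)⁻¹ • ((w0 + b1 • T w0) + b1 • T (w0 + b1 • T w0)))) = w0 := by
    rw [map_smul, Pc_P T τ δ hT, map_smul, map_smul, Pc_P T τ δ hT, smul_smul, smul_smul]
    have : (nrm τ δ b1 ^ 2)⁻¹ * nrm τ δ b1 * nrm τ δ b1 = 1 := by
      field_simp
    rw [this, one_smul]
  rw [Sop_apply, h4] at h1
  have h2 : T (M2 T (b1 + b3) w0) = 0 := by
    rcases smul_eq_zero.mp h1 with h | h
    · exact absurd (sub_eq_zero.mp h).symm hne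
    · exact h
  have h3 := hT (M2 T (b1 + b3) w0)
  rw [h2, map_zero, smul_zero, zero_sub, eq_comm, neg_eq_zero] at h3
  rcases smul_eq_zero.mp h3 with h | h
  · exact absurd h hδ
  · exact h

/-! ### choosing the parameters -/

theorem card_roots_le_two [Fintype F] [DecidableEq F] (τ δ : F) (hδ : δ ≠ 0) :
    (Finset.univ.filter (fun b : F => nrm τ δ b = 0)).card ≤ 2 := by
  by_contra h
  push Not at h
  obtain ⟨a, ha, b, hb, c, hc, hab, hac, hbc⟩ := Finset.two_lt_card.mp h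
  replace ha : 1 + a * τ + a ^ 2 * δ = 0 := (Finset.mem_filter.mp ha).2
  replace hb : 1 + b * τ + b ^ 2 * δ = 0 := (Finset.mem_filter.mp hb).2
  replace hc : 1 + c * τ + c ^ 2 * δ = 0 := (Finset.mem_filter.mp hc).2
  have h1 : τ + δ * (a + b) = 0 := by
    have : (a - b) * (τ + δ * (a + b)) = 0 := by linear_combination ha - hb
    rcases mul_eq_zero.mp this with h | h
    · exact absurd (sub_eq_zero.mp h) hab
    · exact h
  have h2 : τ + δ * (a + c) = 0 := by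
    have : (a - c) * (τ + δ * (a + c)) = 0 := by linear_combination ha - hc
    rcases mul_eq_zero.mp this with h | h
    · exact absurd (sub_eq_zero.mp h) hac
    · exact h
  have h3 : δ * (b - c) = 0 := by linear_combination h1 - h2
  rcases mul_eq_zero.mp h3 with h | h
  · exact hδ h
  · exact hbc (sub_eq_zero.mp h)

theorem exists_pair [Fintype F] (hq : 5 ≤ Fintype.card F) (τ δ : F) (hδ : δ ≠ 0) :
    ∃ b1 b3 : F, b1 ≠ 0 ∧ b3 ≠ 0 ∧ b1 ≠ b3 ∧ nrm τ δ b1 ≠ 0 ∧ nrm τ δ b3 ≠ 0 := by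
  classical
  set Z : Finset F := insert 0 (Finset.univ.filter (fun b : F => nrm τ δ b = 0)) with hZ
  have hZc : Z.card ≤ 3 := by
    refine (Finset.card_insert_le _ _).trans ?_
    have := card_roots_le_two τ δ hδ
    omega
  have hS : 1 < (Finset.univ \ Z).card := by
    have h1 : (Finset.univ \ Z).card = Fintype.card F - Z.card := by
      rw [Finset.card_sdiff_of_subset (Finset.subset_univ _), Finset.card_univ]
    omega
  obtain ⟨b1, h1, b3, h3, hne⟩ := Finset.one_lt_card.mp hS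
  simp only [hZ, Finset.mem_sdiff, Finset.mem_univ, true_and, Finset.mem_insert,
    Finset.mem_filter, not_or] at h1 h3
  exact ⟨b1, b3, h1.1, h3.1, hne, h1.2, h3.2⟩

theorem exists_pair_scalar [Fintype F] (hq : 5 ≤ Fintype.card F) (t : F) (ht : t ≠ 0) :
    ∃ b1 b3 : F, b1 ≠ 0 ∧ b3 ≠ 0 ∧ b1 ≠ b3 ∧ 1 + b1 * t ≠ 0 ∧ 1 + b3 * t ≠ 0 ∧
      2 + (b1 + b3) * t ≠ 0 := by
  classical
  obtain ⟨b1, -, h1⟩ := Finset.exists_mem_notMem_of_card_lt_card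
    (s := ({0, -t⁻¹} : Finset F)) (t := Finset.univ)
    (lt_of_le_of_lt Finset.card_le_two (by rw [Finset.card_univ]; omega))
  obtain ⟨b3, -, h3⟩ := Finset.exists_mem_notMem_of_card_lt_card
    (s := ({0, -t⁻¹, b1, -2 * t⁻¹ - b1} : Finset F)) (t := Finset.univ)
    (lt_of_le_of_lt Finset.card_le_four (by rw [Finset.card_univ]; omega))
  simp only [Finset.mem_insert, Finset.mem_singleton, not_or] at h1 h3
  refine ⟨b1, b3, h1.1, h3.1, fun h => h3.2.2.1 h.symm, ?_, ?_, ?_⟩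
  · intro h
    apply h1.2
    field_simp
    linear_combination h
  · intro h
    apply h3.2.1
    field_simp
    linear_combination h
  · intro h
    apply h3.2.2.2
    field_simp
    linear_combination h

/-- **(G5), uniform version**: if `T² = τ T - δ`, `δ ≠ 0`, `|F| ≥ 5`, then the commutator subgroup of
`⟨E12(c), E21(c T) : c ∈ F⟩` contains a nontrivial `E12(S)`. -/
theorem g5 [Fintype F] [Nontrivial J] (hq : 5 ≤ Fintype.card F) (T : J →ₗ[F] J) (τ δ : F)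
    (hδ : δ ≠ 0) (hT : ∀ w, T (T w) = τ • T w - δ • w) :
    ∃ S : J →ₗ[F] J, S ≠ 0 ∧ ux S ∈ ⁅Gbar T, Gbar T⁆ := by
  classical
  obtain ⟨w1, hw1⟩ := exists_ne (0 : J)
  by_cases hsc : ∃ t : F, T = t • (LinearMap.id : J →ₗ[F] J)
  · obtain ⟨t, rfl⟩ := hsc
    have ht : t ≠ 0 := by
      rintro rfl
      have h := hT w1
      simp only [zero_smul, LinearMap.zero_apply, smul_zero, zero_sub, eq_comm, neg_eq_zero] at h
      rcases smul_eq_zero.mp h with h | h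
      · exact hδ h
      · exact hw1 h
    have hT' : ∀ w, (t • (LinearMap.id : J →ₗ[F] J)) ((t • (LinearMap.id : J →ₗ[F] J)) w) =
        (2 * t) • (t • (LinearMap.id : J →ₗ[F] J)) w - (t ^ 2) • w := by
      intro w
      simp only [LinearMap.smul_apply, LinearMap.id_apply]
      module
    obtain ⟨b1, b3, hb1, hb3, hne, h1, h3, h2⟩ := exists_pair_scalar hq t ht
    have hn1 : nrm (2 * t) (t ^ 2) b1 ≠ 0 := by
      have : nrm (2 * t) (t ^ 2) b1 = (1 + b1 * t) ^ 2 := by rw [nrm]; ring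
      rw [this]
      exact pow_ne_zero 2 h1
    have hn3 : nrm (2 * t) (t ^ 2) b3 ≠ 0 := by
      have : nrm (2 * t) (t ^ 2) b3 = (1 + b3 * t) ^ 2 := by rw [nrm]; ring
      rw [this]
      exact pow_ne_zero 2 h3
    refine ⟨Sop _ (2 * t) b1 b3, Sop_ne_zero _ (2 * t) (t ^ 2) (pow_ne_zero 2 ht) hT' b1 b3 hne hn1
      ?_, ux_Sop_mem _ (2 * t) (t ^ 2) hT' b1 b3 hb1 hb3 hn1 hn3⟩
    intro h0
    have h := congrArg (fun f : J →ₗ[F] J => f w1) h0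
    simp only [M2, LinearMap.add_apply, LinearMap.smul_apply, LinearMap.id_apply,
      LinearMap.zero_apply, smul_smul, ← add_smul] at h
    rcases smul_eq_zero.mp h with h | h
    · exact h2 h
    · exact hw1 h
  · obtain ⟨b1, b3, hb1, hb3, hne, hn1, hn3⟩ := exists_pair hq τ δ hδ
    refine ⟨Sop T τ b1 b3, Sop_ne_zero T τ δ hδ hT b1 b3 hne hn1 ?_,
      ux_Sop_mem T τ δ hT b1 b3 hb1 hb3 hn1 hn3⟩
    intro h0
    by_cases hs : b1 + b3 = 0
    · have h := congrArg (fun f : J →ₗ[F] J => f w1) h0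
      simp only [M2, hs, zero_smul, add_zero, LinearMap.smul_apply, LinearMap.id_apply,
        LinearMap.zero_apply] at h
      rcases smul_eq_zero.mp h with h | h
      · apply hne
        have : b1 - b3 = (2 : F) * b1 - (b1 + b3) := by ring
        rw [← sub_eq_zero, this, h, hs]
        ring
      · exact hw1 h
    · apply hsc
      refine ⟨-2 / (b1 + b3), ?_⟩
      apply LinearMap.ext
      intro w
      have h := congrArg (fun f : J →ₗ[F] J => f w) h0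
      simp only [M2, LinearMap.add_apply, LinearMap.smul_apply, LinearMap.id_apply,
        LinearMap.zero_apply] at h
      have h' : (b1 + b3) • T w = -((2 : F) • w) := eq_neg_of_add_eq_zero_right h
      have h'' : T w = (b1 + b3)⁻¹ • (b1 + b3) • T w := by
        rw [smul_smul, inv_mul_cancel₀ hs, one_smul]
      rw [h'', h', LinearMap.smul_apply, LinearMap.id_apply]
      module

end Cfsg.Agent.Lib.Helper98_T3_G5
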