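import Mathlib
import Cfsg.Agent.Lib.Helper75_BRDefs
import Cfsg.Agent.Lib.Helper75_BR_RED
import Cfsg.Agent.Lib.Helper75_BR_IDEM
import Cfsg.Agent.Lib.Helper78_CentralNilp
import Cfsg.Agent.Lib.Helper78_CharFacts
import Cfsg.Agent.Lib.Helper80_CharComplete

/-!
# S4607 market (architect helper75), package B4 (CEN), auxiliary form

`finrank_blockCenterSub_of`: the centre of the block algebra over the residue field has dimension
`k(B)`, with the statement of package RK (LIFTIND: linear independence modulo `M` lifts to `ℂ`)
as a hypothesis.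
-/

set_option autoImplicit false
set_option linter.unusedSectionVars false
set_option linter.style.haveILetI false

namespace Cfsg.Agent.Lib.Helper99_BR_B4CENa

open Cfsg Cfsg.Agent.Lib.Helper78_LocalRing Cfsg.Agent.Lib.Helper78_GroupRing
  Cfsg.Agent.Lib.Helper79_Residue Cfsg.Agent.Lib.Helper75_BRDefs
  Cfsg.Agent.Lib.Helper78_Osima Cfsg.Agent.Lib.Helper78_CharFacts
  Cfsg.Agent.Lib.Helper75_BR_RED Cfsg.Agent.Lib.Helper75_BR_IDEM

universe u v w

variable {G : Type u} [Group G] [Fintype G] {M : Ideal AlgInt} [hmax : M.IsMaximal]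

/-! ### `Om` is linear; sums of central elements -/

theorem Om_add (χ : G → ℂ) (a b : MonoidAlgebra ℂ G) : Om χ (a + b) = Om χ a + Om χ b := by
  unfold Om omega
  rw [fn_add, ← add_div, ← Finset.sum_add_distrib]
  congr 1
  refine Finset.sum_congr rfl fun g _ => ?_
  simp only [Pi.add_apply]
  ring

/-- `Om χ` as a linear map. -/
noncomputable def OmL (χ : G → ℂ) : MonoidAlgebra ℂ G →ₗ[ℂ] ℂ where
  toFun := Om χ
  map_add' := Om_add χ
  map_smul' r a := by
    rw [Om_smul]
    rfl

theorem OmL_apply (χ : G → ℂ) (a : MonoidAlgebra ℂ G) : OmL χ a = Om χ a := rfl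

theorem isCentral_zero : IsCentral (0 : MonoidAlgebra ℂ G) := by
  unfold IsCentral
  rw [fn_zero]
  intro g h
  rfl

theorem isCentral_add {a b : MonoidAlgebra ℂ G} (ha : IsCentral a) (hb : IsCentral b) :
    IsCentral (a + b) := by
  unfold IsCentral
  rw [fn_add]
  intro g h
  simp only [Pi.add_apply]
  rw [ha g h, hb g h]

theorem isCentral_sum {ι : Type*} (s : Finset ι) (f : ι → MonoidAlgebra ℂ G)
    (hf : ∀ i ∈ s, IsCentral (f i)) : IsCentral (∑ i ∈ s, f i) := by
  classical
  induction s using Finset.induction_on with
  | empty =>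
    rw [Finset.sum_empty]
    exact isCentral_zero
  | insert i s hi ih =>
    rw [Finset.sum_insert hi]
    exact isCentral_add (hf i (Finset.mem_insert_self i s))
      (ih fun j hj => hf j (Finset.mem_insert_of_mem hj))

/-! ### The upper bound: lifting a linearly independent family of central elements -/

/-- A linearly independent family of central elements `x i` of the residue group algebra with
`x i * redG P = x i`, where `P` is central with local-integer coefficients and `Om χ P = 0` outside
`S`, has at most `|S|` members. -/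
theorem card_le_of_li
    (hRK : ∀ (r : ℕ) (a : Fin r → MonoidAlgebra ℂ G), (∀ i, a i ∈ Isub G hmax.isPrime) →
      LinearIndependent (ResField M) (fun i => redG M (a i)) → LinearIndependent ℂ a)
    {S : Set (IrrCharacter G)} {P : MonoidAlgebra ℂ G} (hP : P ∈ Isub G hmax.isPrime)
    (hPc : IsCentral P) (hOm : ∀ χ : IrrCharacter G, χ ∉ S → Om (χ : G → ℂ) P = 0)
    {r : ℕ} (x : Fin r → MonoidAlgebra (ResField M) G)
    (hx : LinearIndependent (ResField M) x)
    (hxc : ∀ i y, x i * y = y * x i) (hxP : ∀ i, x i * redG M P = x i) : r ≤ Nat.card S := by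
  classical
  have hfin : Finite (IrrCharacter G) := (charFacts (G := G)).finite
  choose a haI hac hax using fun i => redG_surjective_central (M := M) (x i) (hxc i)
  have ha'I : ∀ i, a i * P ∈ Isub G hmax.isPrime :=
    fun i => (Isub G hmax.isPrime).mul_mem (haI i) hP
  have ha'c : ∀ i, IsCentral (a i * P) := fun i => isCentral_mul (hac i) hPc
  have ha'x : ∀ i, redG M (a i * P) = x i := by
    intro i
    rw [redG_mul (haI i) hP, hax i, hxP i]
  have hli : LinearIndependent ℂ (fun i => a i * P) := by
    apply hRK r _ ha'I
    have : (fun i => redG M (a i * P)) = x := funext ha'x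
    rw [this]
    exact hx
  haveI : Fintype S := Fintype.ofFinite S
  have hv : LinearIndependent ℂ
      (fun (i : Fin r) (χ : S) => Om ((χ : IrrCharacter G) : G → ℂ) (a i * P)) := by
    rw [Fintype.linearIndependent_iff]
    intro c hc
    have hbc : IsCentral (∑ i, c i • (a i * P)) :=
      isCentral_sum _ _ fun i _ => isCentral_smul _ (ha'c i)
    have hOmb : ∀ χ : IrrCharacter G, Om (χ : G → ℂ) (∑ i, c i • (a i * P)) =
        ∑ i, c i * Om (χ : G → ℂ) (a i * P) := by
      intro χ
      rw [← OmL_apply, map_sum]
      refine Finset.sum_congr rfl fun i _ => ?_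
      rw [map_smul, OmL_apply, smul_eq_mul]
    have hb0 : fn (∑ i, c i • (a i * P)) = 0 := by
      apply eq_zero_of_omega_eq_zero charFacts hbc
      intro χ
      show Om (χ : G → ℂ) (∑ i, c i • (a i * P)) = 0
      rw [hOmb]
      by_cases hχ : χ ∈ S
      · have h1 := congrFun hc ⟨χ, hχ⟩
        simpa [Finset.sum_apply, Pi.smul_apply, smul_eq_mul] using h1
      · apply Finset.sum_eq_zero
        intro i _
        rw [Om_mul χ.2 _ hPc, hOm χ hχ, mul_zero, mul_zero]
    have hb0' : (∑ i, c i • (a i * P)) = 0 := fn_injective (by rw [hb0, fn_zero])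
    exact Fintype.linearIndependent_iff.mp hli c hb0'
  have h2 := hv.fintype_card_le_finrank
  rw [Fintype.card_fin, Module.finrank_fintype_fun_eq_card] at h2
  rwa [Nat.card_eq_fintype_card]

/-- Submodule form of `card_le_of_li`. -/
theorem finrank_le_of_central
    (hRK : ∀ (r : ℕ) (a : Fin r → MonoidAlgebra ℂ G), (∀ i, a i ∈ Isub G hmax.isPrime) →
      LinearIndependent (ResField M) (fun i => redG M (a i)) → LinearIndependent ℂ a)
    {S : Set (IrrCharacter G)} {P : MonoidAlgebra ℂ G} (hP : P ∈ Isub G hmax.isPrime)
    (hPc : IsCentral P) (hOm : ∀ χ : IrrCharacter G, χ ∉ S → Om (χ : G → ℂ) P = 0)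
    (W : Submodule (ResField M) (MonoidAlgebra (ResField M) G))
    (hW : ∀ x ∈ W, (∀ y, x * y = y * x) ∧ x * redG M P = x) :
    Module.finrank (ResField M) W ≤ Nat.card S := by
  let b := Module.finBasis (ResField M) W
  have hli : LinearIndependent (ResField M) (fun i => (b i : MonoidAlgebra (ResField M) G)) :=
    b.linearIndependent.map' W.subtype (Submodule.ker_subtype W)
  exact card_le_of_li hRK hP hPc hOm _ hli (fun i => (hW _ (b i).2).1) (fun i => (hW _ (b i).2).2)

/-! ### The centre of the residue group algebra -/

/-- The centre of the residue group algebra as a subspace. -/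
noncomputable def centF (G : Type u) [Group G] [Fintype G] (M : Ideal AlgInt) [hmax : M.IsMaximal] :
    Submodule (ResField M) (MonoidAlgebra (ResField M) G) where
  carrier := {x | ∀ y, x * y = y * x}
  add_mem' := by
    intro x y hx hy z
    rw [add_mul, mul_add, hx, hy]
  zero_mem' := fun z => by rw [zero_mul, mul_zero]
  smul_mem' := by
    intro c x hx z
    rw [smul_mul_assoc, mul_smul_comm, hx]

/-- The complement of the block part of the centre: central `x` with `x * e_B = 0`. -/
noncomputable def blockCenterCompl (M : Ideal AlgInt) [hmax : M.IsMaximal]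
    (B : Set (IrrCharacter G)) : Submodule (ResField M) (MonoidAlgebra (ResField M) G) where
  carrier := {x | (∀ y, x * y = y * x) ∧ x * eB M B = 0}
  add_mem' := by
    rintro x y ⟨hx1, hx2⟩ ⟨hy1, hy2⟩
    exact ⟨fun z => by rw [add_mul, mul_add, hx1, hy1], by rw [add_mul, hx2, hy2, add_zero]⟩
  zero_mem' := ⟨fun z => by rw [zero_mul, mul_zero], zero_mul _⟩
  smul_mem' := by
    rintro c x ⟨hx1, hx2⟩
    exact ⟨fun z => by rw [smul_mul_assoc, mul_smul_comm, hx1],
      by rw [smul_mul_assoc, hx2, smul_zero]⟩

theorem centF_le_sup {B : Set (IrrCharacter G)} (hB : IsPBlock M B) :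
    centF G M ≤ blockCenterSub M B ⊔ blockCenterCompl M B := by
  intro x hx
  have hx' : ∀ y, x * y = y * x := hx
  have he := eB_idem (M := M) hB
  have hc := eB_central (M := M) hB
  have h1 : x * eB M B ∈ blockCenterSub M B := by
    refine ⟨fun y => ?_, ?_⟩
    · rw [mul_assoc, hc y, ← mul_assoc, hx' y, mul_assoc]
    · rw [mul_assoc, he.eq]
  have h2 : x - x * eB M B ∈ blockCenterCompl M B := by
    refine ⟨fun y => ?_, ?_⟩
    · rw [sub_mul, mul_sub, mul_assoc, hc y, ← mul_assoc, hx' y, mul_assoc]
    · rw [sub_mul, mul_assoc, he.eq, sub_self]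
  have h3 : x = x * eB M B + (x - x * eB M B) := by abel
  rw [h3]
  exact Submodule.add_mem_sup h1 h2

/-- An element whose coefficient function is a class function is central. -/
theorem central_of_coeff_conj (x : MonoidAlgebra (ResField M) G)
    (hx : ∀ g h : G, x.coeff (h * g * h⁻¹) = x.coeff g) (y : MonoidAlgebra (ResField M) G) :
    x * y = y * x := by
  induction y using MonoidAlgebra.induction_linear with
  | zero => rw [mul_zero, zero_mul]
  | add y z hy hz => rw [mul_add, add_mul, hy, hz]
  | single m r =>
    ext g
    rw [MonoidAlgebra.coeff_mul_single_apply, MonoidAlgebra.coeff_single_mul_apply, mul_comm]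
    congr 1
    have := hx (m⁻¹ * g) m
    rw [← this]
    congr 1
    group

/-- The element of the residue group algebra with a given class function as coefficients. -/
noncomputable def cfL (G : Type u) [Group G] [Fintype G] (M : Ideal AlgInt) [hmax : M.IsMaximal] :
    (ConjClasses G → ResField M) →ₗ[ResField M] MonoidAlgebra (ResField M) G :=
  (MonoidAlgebra.coeffLinearEquiv (ResField M)).symm.toLinearMap ∘ₗ
    (Finsupp.linearEquivFunOnFinite (ResField M) (ResField M) G).symm.toLinearMap ∘ₗ
      LinearMap.funLeft (ResField M) (ResField M) (ConjClasses.mk : G → ConjClasses G)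

theorem cfL_coeff (f : ConjClasses G → ResField M) (g : G) :
    (cfL G M f).coeff g = f (ConjClasses.mk g) := by
  simp [cfL, LinearMap.funLeft]

theorem cfL_injective : Function.Injective (cfL G M) := by
  intro f f' h
  funext c
  obtain ⟨g, rfl⟩ := ConjClasses.mk_surjective c
  have h1 := congrArg (fun z : MonoidAlgebra (ResField M) G => z.coeff g) h
  simpa only [cfL_coeff] using h1

theorem cfL_mem (f : ConjClasses G → ResField M) : cfL G M f ∈ centF G M := by
  intro y
  apply central_of_coeff_conj
  intro g h
  rw [cfL_coeff, cfL_coeff]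
  congr 1
  exact ConjClasses.mk_eq_mk_iff_isConj.mpr (isConj_iff.mpr ⟨h⁻¹, by group⟩)

theorem card_conjClasses_le_finrank_centF :
    Nat.card (ConjClasses G) ≤ Module.finrank (ResField M) (centF G M) := by
  classical
  haveI : Fintype (ConjClasses G) := Fintype.ofFinite _
  have hinj : Function.Injective
      (LinearMap.codRestrict (centF G M) (cfL G M) cfL_mem) := by
    intro f f' h
    apply cfL_injective (M := M)
    exact congrArg Subtype.val h
  have := LinearMap.finrank_le_finrank_of_injective hinj
  rwa [Module.finrank_fintype_fun_eq_card, ← Nat.card_eq_fintype_card] at this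

/-! ### The dimension of the block part of the centre -/

theorem finrank_blockCenterSub_of
    (hRK : ∀ (r : ℕ) (a : Fin r → MonoidAlgebra ℂ G), (∀ i, a i ∈ Isub G hmax.isPrime) →
      LinearIndependent (ResField M) (fun i => redG M (a i)) → LinearIndependent ℂ a)
    {B : Set (IrrCharacter G)} (hB : IsPBlock M B) :
    Module.finrank (ResField M) (blockCenterSub M B) = Nat.card B := by
  classical
  have hfin : Finite (IrrCharacter G) := (charFacts (G := G)).finite
  have hEI := EB_mem_Isub (M := M) hB
  have hEc := EB_isCentral (G := G) B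
  -- upper bound for the block part
  have h1 : Module.finrank (ResField M) (blockCenterSub M B) ≤ Nat.card B := by
    refine finrank_le_of_central hRK hEI hEc ?_ _ ?_
    · intro χ hχ
      rw [Om_EB, if_neg hχ]
    · intro x hx
      exact hx
  -- upper bound for the complement
  have hE'I : (1 - EB B) ∈ Isub G hmax.isPrime :=
    (Isub G hmax.isPrime).sub_mem (Isub G hmax.isPrime).one_mem hEI
  have hE'c : IsCentral (1 - EB B) := isCentral_sub isCentral_one hEc
  have hred : redG M (1 - EB B) = 1 - eB M B := by
    rw [redG_sub (Isub G hmax.isPrime).one_mem hEI, redG_one]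
    rfl
  have h2 : Module.finrank (ResField M) (blockCenterCompl M B) ≤ Nat.card (Bᶜ : Set _) := by
    refine finrank_le_of_central hRK hE'I hE'c ?_ _ ?_
    · intro χ hχ
      have hχB : χ ∈ B := by
        by_contra h
        exact hχ h
      rw [Om_sub, Om_one χ.2, Om_EB, if_pos hχB, sub_self]
    · intro x hx
      refine ⟨hx.1, ?_⟩
      rw [hred, mul_sub, mul_one, hx.2, sub_zero]
  -- the count
  have h3 : Nat.card (ConjClasses G) ≤
      Module.finrank (ResField M) (blockCenterSub M B) +
        Module.finrank (ResField M) (blockCenterCompl M B) :=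
    calc Nat.card (ConjClasses G) ≤ Module.finrank (ResField M) (centF G M) :=
          card_conjClasses_le_finrank_centF
      _ ≤ Module.finrank (ResField M) ↥(blockCenterSub M B ⊔ blockCenterCompl M B) :=
          Submodule.finrank_mono (centF_le_sup hB)
      _ ≤ _ := Submodule.finrank_add_le_finrank_add_finrank _ _
  have h4 : Nat.card B + Nat.card (Bᶜ : Set _) = Nat.card (ConjClasses G) := by
    rw [← Cfsg.Agent.Lib.Helper80_CharComplete.card_irr_eq_card_conjClasses]
    haveI : Fintype (IrrCharacter G) := Fintype.ofFinite _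
    rw [Nat.card_eq_fintype_card, Nat.card_eq_fintype_card, Nat.card_eq_fintype_card]
    rw [← Fintype.card_sum]
    exact Fintype.card_congr (Equiv.Set.sumCompl B)
  omega

end Cfsg.Agent.Lib.Helper99_BR_B4CENa
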