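import Mathlib
import Cfsg.Agent.Lib.Helper75_BRDefs
import Cfsg.Agent.Lib.Helper78_CentralNilp
import Cfsg.Agent.Lib.Helper78_CharFacts
import Cfsg.Agent.Lib.Helper3_BR_RKLIFTIND
import Cfsg.Agent.Lib.Helper99_BR_B4CENa

/-!
# S4607 market (architect helper75), package B4 (CEN): the centre of the block algebra over the
residue field has dimension `k(B)`  (verbatim statement; proof = `Helper99_BR_B4CENa` + package RK).
-/

set_option autoImplicit false

namespace Cfsg.Agent.Lib.Helper99_BR_B4CEN

open Cfsg Cfsg.Agent.Lib.Helper78_LocalRing Cfsg.Agent.Lib.Helper78_GroupRing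
  Cfsg.Agent.Lib.Helper79_Residue Cfsg.Agent.Lib.Helper75_BRDefs

universe u v w

section B

variable {G : Type u} [Group G] [Fintype G] {M : Ideal AlgInt} [hmax : M.IsMaximal]

/-- **B4 (CEN)**. The centre of the block algebra over the residue field has dimension `k(B)`. -/
theorem finrank_blockCenterSub {B : Set (IrrCharacter G)} (hB : IsPBlock M B) :
    Module.finrank (ResField M) (blockCenterSub M B) = Nat.card B :=
  Cfsg.Agent.Lib.Helper99_BR_B4CENa.finrank_blockCenterSub_of
    (fun _ a ha h => Cfsg.Agent.Lib.Helper3_BR_RKLIFTIND.linearIndependent_of_redG a ha h) hB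

end B

end Cfsg.Agent.Lib.Helper99_BR_B4CEN
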