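import Mathlib
import Cfsg.Agent.Lib.Helper99_SubspaceCount

set_option autoImplicit false

/-!
Counting complements of a subspace of a finite vector space, and complementary pairs.
-/

namespace Cfsg.Agent.Lib.Helper99_ComplCount

open Module

variable {K V : Type*} [Field K] [Fintype K] [AddCommGroup V] [Module K V] [Finite V]

/-- projections onto `p` correspond to linear maps from a fixed complement. -/
noncomputable def projEquiv (p q0 : Submodule K V) (h : IsCompl p q0) :
    {f : V →ₗ[K] p // ∀ x : p, f x = x} ≃ (q0 →ₗ[K] p) where
  toFun f := f.1 ∘ₗ q0.subtype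
  invFun g := ⟨LinearMap.ofIsCompl h LinearMap.id g, fun x => by
    rw [LinearMap.ofIsCompl_apply_left]; rfl⟩
  left_inv f := by
    apply Subtype.ext
    apply LinearMap.ofIsCompl_eq
    · intro u; exact (f.2 u).symm
    · intro u; rfl
  right_inv g := by
    apply LinearMap.ext
    intro v
    show (LinearMap.ofIsCompl h LinearMap.id g) (v : V) = g v
    rw [LinearMap.ofIsCompl_apply_right]

/-- the number of complements of a subspace. -/
theorem card_compl (U : Submodule K V) :
    Nat.card {W : Submodule K V // IsCompl U W} =
      Fintype.card K ^ ((finrank K V - finrank K U) * finrank K U) := by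
  have : FiniteDimensional K V := Module.Finite.of_finite
  obtain ⟨q0, h⟩ := Submodule.exists_isCompl U
  have hdim := Submodule.finrank_add_eq_of_isCompl h
  rw [Nat.card_congr ((Submodule.isComplEquivProj U).trans (projEquiv U q0 h)),
    Module.natCard_eq_pow_finrank (K := K), Module.finrank_linearMap, Nat.card_eq_fintype_card]
  congr 2
  omega

/-- complementary pairs fibred over the first component. -/
def pairEquiv (m : ℕ) :
    {P : Submodule K V × Submodule K V // IsCompl P.1 P.2 ∧ finrank K P.1 = m} ≃
      Σ U : {U : Submodule K V // finrank K U = m}, {W : Submodule K V // IsCompl U.1 W} where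
  toFun P := ⟨⟨P.1.1, P.2.2⟩, ⟨P.1.2, P.2.1⟩⟩
  invFun x := ⟨(x.1.1, x.2.1), ⟨x.2.2, x.1.2⟩⟩
  left_inv _ := rfl
  right_inv _ := rfl

/-- the number of complementary pairs `(U, W)` with `dim U = m`. -/
theorem card_pairs (m : ℕ) :
    Nat.card {P : Submodule K V × Submodule K V // IsCompl P.1 P.2 ∧ finrank K P.1 = m} =
      Nat.card {U : Submodule K V // finrank K U = m} *
        Fintype.card K ^ ((finrank K V - m) * m) := by
  classical
  have : Fintype {U : Submodule K V // finrank K U = m} := Fintype.ofFinite _
  rw [Nat.card_congr (pairEquiv m), Nat.card_sigma]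
  have h : ∀ U : {U : Submodule K V // finrank K U = m},
      Nat.card {W : Submodule K V // IsCompl U.1 W} =
        Fintype.card K ^ ((finrank K V - m) * m) := fun U => by
    rw [card_compl, U.2]
  rw [Finset.sum_congr rfl (fun U _ => h U), Finset.sum_const, smul_eq_mul, Finset.card_univ,
    ← Nat.card_eq_fintype_card]

/-- a prime not dividing `q` divides the number of pairs iff it divides the number of
`m`-subspaces. -/
theorem dvd_card_pairs_iff {r : ℕ} (hr : r.Prime) (hrq : ¬ r ∣ Fintype.card K) (m : ℕ) :
    r ∣ Nat.card {P : Submodule K V × Submodule K V // IsCompl P.1 P.2 ∧ finrank K P.1 = m} ↔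
      r ∣ Nat.card {U : Submodule K V // finrank K U = m} := by
  rw [card_pairs]
  constructor
  · intro h
    rcases hr.dvd_mul.1 h with h | h
    · exact h
    · exact absurd (hr.dvd_of_dvd_pow h) hrq
  · intro h
    exact h.mul_right _

end Cfsg.Agent.Lib.Helper99_ComplCount
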