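import Mathlib
import Cfsg.Agent.Lib.Helper33_DCDefs

/-!
# DC market (architect helper33, S2858): package DC-A1 (helper99)

`card_le_eight`: an abelian-type bound.  If `W ≤ P ⊓ C_G(P)` is `δ`-invariant and `C ≤ W` is centralised by `H`
with `|W : C| ≤ 2`, then `|W| ≤ 8`: `X0 := C ⊓ C^δ ⊓ C^(δ²)` is `H`- and `δ`-invariant, hence trivial by (CF).
-/

set_option autoImplicit false
set_option linter.unusedSectionVars false
set_option linter.unusedVariables false

namespace Cfsg.Agent.Lib.Helper99_DC_A1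

open scoped commutatorElement
open Cfsg.Agent.Lib.Helper84_TutteDefs Cfsg.Agent.Lib.Helper33_DCDefs

variable {G : Type*} [Group G] {H P Q0 : Subgroup G} {δ ρ g x0 : G} {s lam : ℕ}

/-- a subgroup centralised by `u` is fixed by conjugation with `u` -/
theorem cj_eq_of_centralizes {u : G} {N : Subgroup G} (h : ∀ y ∈ N, u * y = y * u) : cj u N = N := by
  ext y
  rw [mem_cj]
  constructor
  · intro hy
    have h1 := h _ hy
    have h2 : y = u⁻¹ * y * u := by
      have : u * (u⁻¹ * y * u) = y * u := by group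
      rw [this] at h1
      exact mul_right_cancel h1
    rw [h2]
    exact hy
  · intro hy
    have h1 := h y hy
    have : u⁻¹ * y * u = y := by
      rw [mul_assoc, ← h1, ← mul_assoc, inv_mul_cancel, one_mul]
    rw [this]
    exact hy

theorem relIndex_cj (u : G) (A B : Subgroup G) : (cj u A).relIndex (cj u B) = A.relIndex B :=
  Subgroup.relIndex_map_map_of_injective A B (MulAut.conj u).injective

/-- **DC-A1** [M] -/
theorem card_le_eight (hD : DCHyp H P Q0 δ) (W C : Subgroup G) (hWP : W ≤ P)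
    (hWZ : W ≤ Subgroup.centralizer (P : Set G)) (hδW : cj δ W = W) (hCW : C ≤ W)
    (hCH : C ≤ Subgroup.centralizer (H : Set G)) (hidx : C.relIndex W ≤ 2) :
    Nat.card W ≤ 8 := by
  -- `δ³` fixes `C`
  have h3 : cj (δ ^ 3) C = C := by
    apply cj_eq_of_centralizes
    intro y hy
    have := (Subgroup.mem_centralizer_iff.mp (hWZ (hCW hy))) (δ ^ 3) hD.δ3
    exact this
  have hpow3 : δ * δ * δ = δ ^ 3 := by rw [pow_succ, pow_two]
  let C1 : Subgroup G := cj δ C
  let C2 : Subgroup G := cj δ (cj δ C)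
  let X0 : Subgroup G := C ⊓ C1 ⊓ C2
  have hX0C : X0 ≤ C := inf_le_left.trans inf_le_left
  -- `X0` is `H`-invariant
  have hH : ∀ h ∈ H, cj h X0 = X0 := by
    intro h hh
    apply cj_eq_of_centralizes
    intro y hy
    exact (Subgroup.mem_centralizer_iff.mp (hCH (hX0C hy))) h hh
  -- `X0` is `δ`-invariant
  have hδ : cj δ X0 = X0 := by
    show cj δ (C ⊓ cj δ C ⊓ cj δ (cj δ C)) = C ⊓ cj δ C ⊓ cj δ (cj δ C)
    rw [cj_inf, cj_inf]
    have : cj δ (cj δ (cj δ C)) = C := by
      rw [cj_cj, cj_cj, hpow3, h3]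
    rw [this]
    -- reorder
    rw [inf_comm (cj δ C ⊓ cj δ (cj δ C)) C, ← inf_assoc]
  have hbot : X0 = ⊥ := hD.CF X0 (hX0C.trans (hCW.trans hWP)) hH hδ
  -- indices
  have hi1 : C1.relIndex W ≤ 2 := by
    have := relIndex_cj δ C W
    rw [hδW] at this
    show (cj δ C).relIndex W ≤ 2
    rw [this]
    exact hidx
  have hi2 : C2.relIndex W ≤ 2 := by
    have := relIndex_cj δ (cj δ C) W
    rw [hδW] at this
    show (cj δ (cj δ C)).relIndex W ≤ 2
    rw [this]
    exact hi1
  have h8 : X0.relIndex W ≤ 8 := by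
    calc X0.relIndex W ≤ (C ⊓ C1).relIndex W * C2.relIndex W := Subgroup.relIndex_inf_le
      _ ≤ (C.relIndex W * C1.relIndex W) * C2.relIndex W :=
          Nat.mul_le_mul_right _ Subgroup.relIndex_inf_le
      _ ≤ (2 * 2) * 2 := Nat.mul_le_mul (Nat.mul_le_mul hidx hi1) hi2
      _ = 8 := by norm_num
  rw [hbot, Subgroup.relIndex_bot_left] at h8
  exact h8

end Cfsg.Agent.Lib.Helper99_DC_A1
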