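import Mathlib
import Cfsg.Agent.Lib.Helper33_DCDefs
import Cfsg.Agent.Lib.Helper84_TutteW_Main
import Cfsg.Agent.Lib.Helper99_DC_A1

/-!
# DC market (architect helper33, S2858): package DC-A2 (helper99)

`s_le_four`: if `lam = s - 1` then `P = X[0,s-2]` is abelian, `C := X[1,s-2]` is centralised by `H = X[0,s-1]`
and has index `2` in `P`; DC-A1 gives `2^(s-1) = |P| ≤ 8`.
-/

set_option autoImplicit false
set_option linter.unusedSectionVars false
set_option linter.unusedVariables false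

namespace Cfsg.Agent.Lib.Helper99_DC_A2

open scoped commutatorElement
open Cfsg.Agent.Lib.Helper84_TutteDefs Cfsg.Agent.Lib.Helper33_DCDefs

variable {G : Type*} [Group G] {H P Q0 : Subgroup G} {δ ρ g x0 : G} {s lam : ℕ}

/-- **DC-A2** [M] -/
theorem s_le_four (hS : DCSys H P Q0 δ ρ x0 s) (hl : IsLam (δ * ρ) x0 lam)
    (h : lam + 1 = s) : s ≤ 4 := by
  have hT := hS.sys
  have h2s := hT.two_le
  have hXP := hS.XP
  have hcomm : ∀ l m : ℤ, |l - m| < (lam : ℤ) →
      xs (δ * ρ) x0 l * xs (δ * ρ) x0 m = xs (δ * ρ) x0 m * xs (δ * ρ) x0 l :=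
    fun l m hlm => hl.commute hlm
  have hlam : (lam : ℤ) = (s : ℤ) - 1 := by
    have : ((lam + 1 : ℕ) : ℤ) = (s : ℤ) := by rw [h]
    push_cast at this
    omega
  -- `P` is abelian
  have hWZ : P ≤ Subgroup.centralizer (P : Set G) := by
    intro y hy
    rw [Subgroup.mem_centralizer_iff]
    intro z hz
    have hz' : z ∈ (P : Subgroup G) := hz
    rw [← hXP] at hy hz'
    apply XX_comm _ hz' hy
    intro l m h1 h2 h3 h4
    apply hcomm
    rw [abs_lt]
    constructor <;> omega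
  -- `C := X[1,s-2]`
  have hCW : XX (δ * ρ) x0 1 ((s : ℤ) - 2) ≤ P := by
    rw [← hXP]
    exact XX_mono (by omega) le_rfl
  have hCH : XX (δ * ρ) x0 1 ((s : ℤ) - 2) ≤ Subgroup.centralizer (H : Set G) := by
    intro y hy
    rw [Subgroup.mem_centralizer_iff]
    intro z hz
    have hz' : z ∈ XX (δ * ρ) x0 0 ((s : ℤ) - 1) := by
      rw [hT.top]
      exact hz
    -- `z * y = y * z`
    apply commute_XX _ hy
    intro l h1 h2
    symm
    apply commute_XX _ hz'
    intro m h3 h4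
    apply hcomm
    rw [abs_lt]
    constructor <;> omega
  have hidx : (XX (δ * ρ) x0 1 ((s : ℤ) - 2)).relIndex P ≤ 2 := by
    have := hT.relIndex_left (i := 0) (j := (s : ℤ) - 2) (by omega) (by omega)
    rw [zero_add, hXP] at this
    rw [this]
  have h8 := Cfsg.Agent.Lib.Helper99_DC_A1.card_le_eight hS.hyp P (XX (δ * ρ) x0 1 ((s : ℤ) - 2))
    le_rfl hWZ hS.hyp.δP hCW hCH hidx
  have hcard := hT.card_XX (i := 0) (j := (s : ℤ) - 2) (by omega) (by omega)
  rw [hXP] at hcard
  have he : ((s : ℤ) - 2 + 1 - 0).toNat = s - 1 := by omega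
  rw [he] at hcard
  rw [hcard] at h8
  have h3 : s - 1 ≤ 3 := by
    have : (2 : ℕ) ^ (s - 1) ≤ 2 ^ 3 := by norm_num; exact h8
    exact (Nat.pow_le_pow_iff_right (by norm_num : 1 < 2)).mp this
  omega

end Cfsg.Agent.Lib.Helper99_DC_A2
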