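import Mathlib
import Cfsg.Prelude.Def_Characters
import Cfsg.Prelude.Def_ParabolicCharacters
import Cfsg.Prelude.Def_LinearParabolics
import Cfsg.Prelude.Def_Blocks
import Cfsg.Prelude.Def_Solvable
import Cfsg.Agent.Lib.Helper40_DefZeroDefs
import Cfsg.Agent.Lib.Helper40_SLBNDefs
import Cfsg.Agent.Lib.Helper40_SLBNDefs2
import Cfsg.Agent.Lib.Helper63_StGL_A1
import Cfsg.Agent.Lib.Helper73_StGL_A2a

set_option autoImplicit false

/-!
DEFZERO market, wave 2 (architect helper40), package SLPARA: the parabolic subgroups occurring in the alternating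
sum `κ ↦ parabolicGL n F (i ↦ 1 + i - κ i)`, pulled back to `SL_n(F)`: `κ = 1` gives the upper triangular subgroup,
and every other valid `κ` gives a subgroup containing some minimal parabolic subgroup `P_a`.
-/

namespace Cfsg.Agent.Lib.Helper99_DZ_SLPARA

open Cfsg Cfsg.Agent.Lib.Helper40_DefZeroDefs Cfsg.Agent.Lib.Helper40_SLBNDefs
open Matrix
open scoped MatrixGroups

variable {n : ℕ} {F : Type*} [Field F] [Fintype F] {p : ℕ} [Fact p.Prime] [CharP F p]

omit [Fintype F] in
/-- Membership in the pull-back of the parabolic subgroup of the cut set `J`. -/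
theorem aux_mem_iff (J : Finset ℕ) (g : SpecialLinearGroup (Fin n) F) :
    g ∈ (Cfsg.parabolicGL n F (Cfsg.Agent.Lib.Helper99_StGLDefs.muJ n J)).comap SpecialLinearGroup.toGL ↔
      ∀ i l : Fin n, (∃ e ∈ J, l.val ≤ e ∧ e < i.val) → (g : Matrix (Fin n) (Fin n) F) i l = 0 := by
  rw [Subgroup.mem_comap]
  show ((SpecialLinearGroup.toGL g : GL (Fin n) F) : Matrix (Fin n) (Fin n) F).BlockTriangular
    (Cfsg.compLabel (Cfsg.Agent.Lib.Helper99_StGLDefs.muJ n J)) ↔ _
  rw [SpecialLinearGroup.coe_GL_coe_matrix]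
  constructor
  · intro h i l hil
    exact h ((Cfsg.Agent.Lib.Helper73_StGL_A2a.compLabel_muJ_lt_iff n J l i).2 hil)
  · intro h i l hil
    exact h i l ((Cfsg.Agent.Lib.Helper73_StGL_A2a.compLabel_muJ_lt_iff n J l i).1 hil)

theorem aux_cutSet_one : Cfsg.Agent.Lib.Helper63_StGL_A1.cutSet (1 : Equiv.Perm (Fin n)) = Finset.range (n - 1) := by
  apply Finset.Subset.antisymm (Cfsg.Agent.Lib.Helper63_StGL_A1.cutSet_subset _)
  intro x hx
  rw [Finset.mem_range] at hx
  have hxn : x < n := by omega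
  have := (Cfsg.Agent.Lib.Helper63_StGL_A1.mem_cutSet (1 : Equiv.Perm (Fin n)) ⟨x, hxn⟩).2 ⟨by
    show x + 1 < n
    omega, by
    show ((1 : Equiv.Perm (Fin n)) ⟨x, hxn⟩).val ≠ x + 1
    rw [Equiv.Perm.one_apply]
    show x ≠ x + 1
    omega⟩
  exact this

omit [Fintype F] in
/-- SLPARA. -/
theorem sl_para (κ : Equiv.Perm (Fin n)) (hκ : ∀ i : Fin n, (κ i).val ≤ 1 + i.val) :
    (κ = 1 → (Cfsg.parabolicGL n F fun i => 1 + i.val - (κ i).val).comap SpecialLinearGroup.toGL =
      PL F (lB : Fin n → ℕ)) ∧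
    (κ ≠ 1 → ∃ a : Fin (n - 1), PL F (la a.val : Fin n → ℕ) ≤
      (Cfsg.parabolicGL n F fun i => 1 + i.val - (κ i).val).comap SpecialLinearGroup.toGL) := by
  have hκ' : ∀ i : Fin n, (κ i).val ≤ i.val + 1 := fun i => by have := hκ i; omega
  have hcomp := Cfsg.Agent.Lib.Helper63_StGL_A1.comp_eq κ hκ'
  rw [hcomp]
  constructor
  · intro h1
    rw [h1, aux_cutSet_one]
    ext g
    rw [aux_mem_iff, mem_PL]
    constructor
    · intro h i l hil
      apply h i l
      have hil' : l.val < i.val := hil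
      refine ⟨l.val, ?_, le_refl _, hil'⟩
      rw [Finset.mem_range]
      have := i.isLt
      omega
    · intro h i l hil
      obtain ⟨e, _, h1, h2⟩ := hil
      apply h
      show l.val < i.val
      omega
  · intro hne
    have hsub := Cfsg.Agent.Lib.Helper63_StGL_A1.cutSet_subset κ
    have hne' : Cfsg.Agent.Lib.Helper63_StGL_A1.cutSet κ ≠ Finset.range (n - 1) := by
      intro h
      apply hne
      apply Cfsg.Agent.Lib.Helper63_StGL_A1.eq_of_cutSet_eq κ 1 hκ' (fun i => by
        rw [Equiv.Perm.one_apply]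
        omega)
      rw [h, aux_cutSet_one]
    have hex : ∃ a ∈ Finset.range (n - 1), a ∉ Cfsg.Agent.Lib.Helper63_StGL_A1.cutSet κ := by
      by_contra hcon
      push Not at hcon
      exact hne' (Finset.Subset.antisymm hsub hcon)
    obtain ⟨a, ha, haJ⟩ := hex
    rw [Finset.mem_range] at ha
    refine ⟨⟨a, ha⟩, ?_⟩
    intro g hg
    rw [mem_PL] at hg
    rw [aux_mem_iff]
    rintro i l ⟨e, heJ, h1, h2⟩
    apply hg
    have hea : e ≠ a := fun h => haJ (h ▸ heJ)
    show la a l < la a i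
    unfold la
    split_ifs <;> omega

end Cfsg.Agent.Lib.Helper99_DZ_SLPARA
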