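import Mathlib
import Cfsg.Agent.Lib.Helper99_InvSub
import Cfsg.Agent.Lib.Helper99_DecompBasic
import Cfsg.Agent.Lib.Helper99_DecompCount

set_option autoImplicit false
set_option linter.unusedSectionVars false

/-!
Constructions of direct-sum decompositions permuted by a semisimple endomorphism.
-/

namespace Cfsg.Agent.Lib.Helper99_DecompSuff

open Module Polynomial
open Cfsg.Agent.Lib.Helper99_InvSub
open Cfsg.Agent.Lib.Helper99_DecompBasic
open Cfsg.Agent.Lib.Helper99_DecompCount

variable {F V : Type*} [Field F] [AddCommGroup V] [Module F V]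

/-- extending an independent family by a subspace disjoint from its supremum. -/
theorem indep_snoc {t : ℕ} {D : Fin t → Submodule F V} (hD : iSupIndep D) {X : Submodule F V}
    (hX : Disjoint (iSup D) X) :
    iSupIndep (Fin.snoc (α := fun _ => Submodule F V) D X) := by
  rw [iSupIndep_def]
  intro i
  refine Fin.lastCases ?_ (fun i' => ?_) i
  · rw [Fin.snoc_last]
    refine hX.symm.mono_right ?_
    apply iSup₂_le
    intro j hj
    revert hj
    refine Fin.lastCases ?_ (fun j' => ?_) j
    · intro h; exact absurd rfl h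
    · intro _
      rw [Fin.snoc_castSucc]
      exact le_iSup D j'
  · rw [Fin.snoc_castSucc]
    have hle : (⨆ (j) (_ : j ≠ Fin.castSucc i'),
        (Fin.snoc (α := fun _ => Submodule F V) D X : Fin (t + 1) → Submodule F V) j) ≤
        (⨆ (j') (_ : j' ≠ i'), D j') ⊔ X := by
      apply iSup₂_le
      intro j hj
      revert hj
      refine Fin.lastCases ?_ (fun j' => ?_) j
      · intro _
        rw [Fin.snoc_last]
        exact le_sup_right
      · intro hj
        rw [Fin.snoc_castSucc]
        refine le_sup_of_le_left (le_iSup₂ (f := fun j' (_ : j' ≠ i') => D j') j' ?_)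
        intro h
        exact hj (by rw [h])
    refine Disjoint.mono_right hle ?_
    rw [Submodule.disjoint_def]
    intro x hx hx2
    obtain ⟨y, hy, z, hz, rfl⟩ := Submodule.mem_sup.1 hx2
    have hyU : y ∈ iSup D :=
      (iSup₂_le (f := fun j' (_ : j' ≠ i') => D j') fun j' _ => le_iSup D j') hy
    have hz0 : z = 0 := by
      have h1 : z ∈ iSup D := by
        have : z = (y + z) - y := by abel
        rw [this]
        exact Submodule.sub_mem _ (le_iSup D i' hx) hyU
      exact Submodule.disjoint_def.1 hX z h1 hz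
    rw [hz0, add_zero] at hx ⊢
    exact Submodule.disjoint_def.1 (hD i') y hx hy

theorem iSup_snoc {t : ℕ} (D : Fin t → Submodule F V) (X : Submodule F V) :
    iSup (Fin.snoc (α := fun _ => Submodule F V) D X : Fin (t + 1) → Submodule F V) =
      iSup D ⊔ X := by
  apply le_antisymm
  · apply iSup_le
    intro j
    refine Fin.lastCases ?_ (fun j' => ?_) j
    · rw [Fin.snoc_last]; exact le_sup_right
    · rw [Fin.snoc_castSucc]; exact le_sup_of_le_left (le_iSup D j')
  · apply sup_le
    · apply iSup_le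
      intro j'
      have := le_iSup (Fin.snoc (α := fun _ => Submodule F V) D X :
        Fin (t + 1) → Submodule F V) (Fin.castSucc j')
      rwa [Fin.snoc_castSucc] at this
    · have := le_iSup (Fin.snoc (α := fun _ => Submodule F V) D X :
        Fin (t + 1) → Submodule F V) (Fin.last t)
      rwa [Fin.snoc_last] at this

variable [FiniteDimensional F V]

/-- splitting an invariant subspace into `t` invariant subspaces of dimension `c a' + ℓ`. -/
theorem exists_invt_dec {f : Module.End F V} (hss : f.IsSemisimple) {E : Submodule F V} {c : ℕ}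
    (hc : 1 ≤ c) (H : HasBlocks f E c) (hEfix : ∀ x ∈ E, f x = x) (a' ℓ : ℕ) :
    ∀ (t : ℕ) (W : Submodule F V), W ∈ f.invtSubmodule → finrank F W = t * (c * a' + ℓ) →
      t * ℓ ≤ finrank F ↥(W ⊓ E) →
      ∃ D : Fin t → Submodule F V, (∀ j, D j ∈ f.invtSubmodule ∧ finrank F (D j) = c * a' + ℓ) ∧
        iSupIndep D ∧ iSup D = W := by
  have hE : E ∈ f.invtSubmodule := invt_of_fix hEfix
  intro t
  induction t with
  | zero =>
    intro W _ hWd _
    rw [zero_mul] at hWd
    have hW0 : W = ⊥ := Submodule.finrank_eq_zero.1 hWd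
    refine ⟨fun j => j.elim0, fun j => j.elim0, ?_, ?_⟩
    · rw [iSupIndep_def]; intro j; exact j.elim0
    · rw [hW0]; exact iSup_of_empty _
  | succ t ih =>
    intro W hW hWd hWE
    set A := c * a' + ℓ with hA
    have hWEi : W ⊓ E ∈ f.invtSubmodule := Module.End.invtSubmodule.inf_mem hW hE
    obtain ⟨C, hC, hCW, hdisj, hsup⟩ := exists_compl_in hss hWEi hW inf_le_left
    have hdimW : finrank F W = finrank F ↥(W ⊓ E) + finrank F C := by
      conv_lhs => rw [← hsup]
      exact finrank_sup_of_disjoint hdisj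
    have hCE : Disjoint C E := by
      rw [disjoint_iff]
      have h1 : C ⊓ E ≤ (W ⊓ E) ⊓ C :=
        le_inf (le_inf (inf_le_left.trans hCW) inf_le_right) inf_le_left
      rw [hdisj.eq_bot] at h1
      exact le_bot_iff.1 h1
    obtain ⟨b, hb⟩ := dvd_finrank_of_disjoint hss hc H _ C rfl hC hCE
    set β := min (t * a') b with hβ
    have hβ1 : c * β ≤ c * (t * a') := Nat.mul_le_mul_left c (min_le_left _ _)
    have hβ2 : c * β ≤ c * b := Nat.mul_le_mul_left c (min_le_right _ _)
    have htA : t * A = c * (t * a') + t * ℓ := by rw [hA]; ring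
    have ht1A : (t + 1) * A = t * A + A := by ring
    have ht1l : (t + 1) * ℓ = t * ℓ + ℓ := by ring
    set φ := t * A - c * β with hφ
    have hφ1 : t * ℓ ≤ φ := by omega
    have hφ2 : φ ≤ finrank F ↥(W ⊓ E) := by
      rcases le_total (t * a') b with h | h
      · have : β = t * a' := min_eq_left h
        rw [this] at hφ
        omega
      · have : β = b := min_eq_right h
        rw [this] at hφ
        omega
    obtain ⟨C', hC', -, hC'C, hC'd⟩ := exists_extension hss hc H hC hCE
      (Module.End.invtSubmodule.bot_mem f) bot_le β (by rw [finrank_bot, zero_add, hb]; exact hβ2)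
    rw [finrank_bot, zero_add] at hC'd
    obtain ⟨E', hE'le, hE'd⟩ := exists_le_finrank_eq' (W ⊓ E) φ hφ2
    have hE'fix : ∀ x ∈ E', f x = x := fun x hx => hEfix x (hE'le hx).2
    have hE'i : E' ∈ f.invtSubmodule := invt_of_fix hE'fix
    set U := E' ⊔ C' with hU
    have hUi : U ∈ f.invtSubmodule := Module.End.invtSubmodule.sup_mem hE'i hC'
    have hUW : U ≤ W := sup_le (hE'le.trans inf_le_left) (hC'C.trans hCW)
    have hUd : finrank F U = t * A := by
      rw [hU, finrank_sup_of_disjoint (hdisj.mono hE'le hC'C), hE'd, hC'd]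
      omega
    have hUE : t * ℓ ≤ finrank F ↥(U ⊓ E) := by
      have h1 : E' ≤ U ⊓ E := le_inf le_sup_left (hE'le.trans inf_le_right)
      have := Submodule.finrank_mono h1
      omega
    obtain ⟨D', hD'1, hD'2, hD'3⟩ := ih U hUi hUd hUE
    obtain ⟨X, hX, hXW, hXdisj, hXsup⟩ := exists_compl_in hss hUi hW hUW
    have hXd : finrank F X = A := by
      have h1 : finrank F W = finrank F U + finrank F X := by
        conv_lhs => rw [← hXsup]
        exact finrank_sup_of_disjoint hXdisj
      omega
    refine ⟨Fin.snoc (α := fun _ => Submodule F V) D' X, ?_, ?_, ?_⟩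
    · intro j
      refine Fin.lastCases ?_ (fun j' => ?_) j
      · rw [Fin.snoc_last]; exact ⟨hX, hXd⟩
      · rw [Fin.snoc_castSucc]; exact hD'1 j'
    · apply indep_snoc hD'2
      rw [hD'3]; exact hXdisj
    · rw [iSup_snoc, hD'3, hXsup]

section colouring

variable {ι κ : Type*} [Fintype ι] [Fintype κ] [DecidableEq ι] [DecidableEq κ]

/-- the decomposition attached to a basis and a colouring of its index set. -/
theorem isDec_of_basis (b : Basis ι F V) (π : ι → κ) (a : ℕ)
    (hπ : ∀ j, Fintype.card {i // π i = j} = a) :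
    IsDec a (fun j => Submodule.span F (b '' {i | π i = j})) := by
  refine ⟨fun j => ?_, ?_, ?_⟩
  · have hli : LinearIndependent F (fun i : {i // π i = j} => b i) :=
      b.linearIndependent.comp _ Subtype.val_injective
    have hrange : Set.range (fun i : {i // π i = j} => b i) = b '' {i | π i = j} := by
      ext v
      constructor
      · rintro ⟨i, rfl⟩
        exact ⟨i.1, i.2, rfl⟩
      · rintro ⟨i, hi, rfl⟩
        exact ⟨⟨i, hi⟩, rfl⟩
    have := finrank_span_eq_card hli
    rw [hrange, hπ j] at this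
    exact this
  · rw [iSupIndep_def]
    intro j
    have hle : (⨆ (k) (_ : k ≠ j), Submodule.span F (b '' {i | π i = k})) ≤
        Submodule.span F (b '' ({i | π i = j}ᶜ)) := by
      apply iSup₂_le
      intro k hk
      apply Submodule.span_mono
      apply Set.image_mono
      intro i hi hij
      exact hk (hi.symm.trans hij)
    exact (b.linearIndependent.disjoint_span_image disjoint_compl_right).mono_right hle
  · rw [eq_top_iff, ← b.span_eq, Submodule.span_le]
    rintro _ ⟨i, rfl⟩
    apply Submodule.mem_iSup_of_mem (π i)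
    apply Submodule.subset_span
    exact ⟨i, rfl, rfl⟩

/-- a monomial endomorphism compatible with the colouring permutes the summands. -/
theorem map_eq_of_basis (b : Basis ι F V) (π : ι → κ) (a : ℕ)
    (hπ : ∀ j, Fintype.card {i // π i = j} = a) (T : Module.End F V)
    (hTinj : Function.Injective T) (τ : ι → ι) (σ : κ → κ)
    (hT : ∀ i, ∃ c : F, T (b i) = c • b (τ i)) (hτ : ∀ i, π (τ i) = σ (π i)) (j : κ) :
    (Submodule.span F (b '' {i | π i = j})).map T =
      Submodule.span F (b '' {i | π i = σ j}) := by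
  have hdec := isDec_of_basis b π a hπ
  apply Submodule.eq_of_le_of_finrank_eq
  · rw [Submodule.map_span, Submodule.span_le]
    rintro _ ⟨_, ⟨i, hi, rfl⟩, rfl⟩
    obtain ⟨c, hc⟩ := hT i
    rw [hc]
    apply Submodule.smul_mem
    apply Submodule.subset_span
    refine ⟨τ i, ?_, rfl⟩
    show π (τ i) = σ j
    rw [hτ i, hi]
  · rw [hdec.1 (σ j), ← hdec.1 j]
    exact (Submodule.equivMapOfInjective T hTinj _).symm.finrank_eq

/-- a spanning family of the right cardinality is a basis. -/
theorem exists_basis_of_span (u : ι → V) (hspan : ⊤ ≤ Submodule.span F (Set.range u))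
    (hcard : Fintype.card ι = finrank F V) : ∃ b : Basis ι F V, ∀ i, b i = u i :=
  ⟨basisOfTopLeSpanOfCardEqFinrank u hspan hcard,
    fun i => by rw [coe_basisOfTopLeSpanOfCardEqFinrank]⟩

end colouring

/-- transport of a permuted decomposition to the index type `Fin t`. -/
theorem exists_fin_of_equiv {κ : Type*} [Fintype κ] {t a : ℕ} (hκ : Fintype.card κ = t)
    {T : Module.End F V} {D : κ → Submodule F V} (hD : IsDec a D) {σ : Equiv.Perm κ}
    (hσ : ∀ j, (D j).map T = D (σ j)) :
    ∃ D' : Fin t → Submodule F V, IsDec a D' ∧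
      ∃ σ' : Equiv.Perm (Fin t), ∀ j, (D' j).map T = D' (σ' j) := by
  let e : κ ≃ Fin t := Fintype.equivFinOfCardEq hκ
  refine ⟨D ∘ e.symm, hD.comp_equiv e.symm, e.permCongr σ, ?_⟩
  intro j
  rw [Function.comp_apply, hσ, Function.comp_apply, Equiv.permCongr_apply,
    Equiv.symm_apply_apply]

theorem fin_val_add_one {r : ℕ} [NeZero r] (i : Fin r) :
    ((i + 1 : Fin r) : ℕ) = ((i : ℕ) + 1) % r := by
  rw [Fin.val_add, Fin.val_one', Nat.add_mod_mod]

/-- `T (T^i v)` in terms of the cyclic successor of `i : Fin r`, when `T ^ r = z`. -/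
theorem apply_pow_fin {T : Module.End F V} {r : ℕ} [NeZero r] {z : F}
    (hT : T ^ r = z • (1 : Module.End F V)) (i : Fin r) (v : V) :
    T ((T ^ (i : ℕ)) v) =
      (if (i : ℕ) + 1 = r then z else 1) • (T ^ ((i + 1 : Fin r) : ℕ)) v := by
  rw [fin_val_add_one]
  have hi := i.2
  by_cases h : (i : ℕ) + 1 = r
  · rw [if_pos h, h, Nat.mod_self, pow_zero, Module.End.one_apply, ← Module.End.mul_apply,
      ← pow_succ', h, hT, LinearMap.smul_apply, Module.End.one_apply]
  · rw [if_neg h, one_smul, Nat.mod_eq_of_lt (by omega), ← Module.End.mul_apply, ← pow_succ']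

theorem injective_of_pow_eq_smul {T : Module.End F V} {r : ℕ} (hr0 : 0 < r) {z : F} (hz : z ≠ 0)
    (hT : T ^ r = z • (1 : Module.End F V)) : Function.Injective T := by
  intro v w hvw
  have h1 : (T ^ r) v = (T ^ r) w := by
    obtain ⟨r', rfl⟩ := Nat.exists_eq_succ_of_ne_zero hr0.ne'
    rw [pow_succ, Module.End.mul_apply, Module.End.mul_apply, hvw]
  rw [hT, LinearMap.smul_apply, LinearMap.smul_apply, Module.End.one_apply,
    Module.End.one_apply] at h1
  exact smul_right_injective V hz h1

/-- `T ^ r = z` with all invariant subspaces of dimension divisible by `r`: if `r ∣ t` then `T`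
permutes the summands of a decomposition into `t` subspaces of dimension `a`. -/
theorem exists_dec_of_blocks {T : Module.End F V} (hss : T.IsSemisimple) {r : ℕ} (hr : r.Prime)
    (H : HasBlocks T ⊥ r) {z : F} (hz : z ≠ 0) (hT : T ^ r = z • (1 : Module.End F V))
    (a t' : ℕ) (hdim : finrank F V = a * (r * t')) :
    ∃ D : Fin (r * t') → Submodule F V, IsDec a D ∧
      ∃ σ : Equiv.Perm (Fin (r * t')), ∀ j, (D j).map T = D (σ j) := by
  classical
  have : NeZero r := ⟨hr.ne_zero⟩
  have hTinj : Function.Injective T := injective_of_pow_eq_smul hr.pos hz hT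
  -- decomposition into blocks of dimension `r`
  obtain ⟨U, hU1, hU2, hU3⟩ := exists_invt_dec hss hr.one_le H (E := ⊥)
    (fun x hx => by rw [(Submodule.mem_bot F).1 hx, map_zero]) 1 0 (t' * a) ⊤
    (Module.End.invtSubmodule.top_mem T) (by rw [finrank_top, hdim]; ring) (by simp)
  let e : Fin t' × Fin a ≃ Fin (t' * a) := finProdFinEquiv
  have hne : ∀ m, ∃ v ∈ U m, v ≠ 0 := by
    intro m
    apply Submodule.exists_mem_ne_zero_of_ne_bot
    intro h
    have := (hU1 m).2
    rw [h, finrank_bot] at this
    have := hr.pos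
    omega
  choose w hwU hw0 using hne
  let u : (Fin t' × Fin a) × Fin r → V := fun p => (T ^ (p.2 : ℕ)) (w (e p.1))
  -- the cyclic subspace of `w m` is `U m`
  have hcyc : ∀ m, U m ≤ Submodule.span F (Set.range fun i : Fin r => (T ^ (i : ℕ)) (w m)) := by
    intro m
    set Z := Submodule.span F (Set.range fun i : Fin r => (T ^ (i : ℕ)) (w m)) with hZ
    have hZU : Z ≤ U m := by
      rw [hZ, Submodule.span_le]
      rintro _ ⟨i, rfl⟩
      have := aeval_apply_mem' T (hU1 m).1 (X ^ (i : ℕ)) (hwU m)
      rwa [map_pow, aeval_X] at this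
    have hZi : Z ∈ T.invtSubmodule := by
      rw [Module.End.mem_invtSubmodule_iff_map_le, hZ, Submodule.map_span, Submodule.span_le]
      rintro _ ⟨_, ⟨i, rfl⟩, rfl⟩
      rw [apply_pow_fin hT]
      exact Submodule.smul_mem _ _ (Submodule.subset_span ⟨i + 1, rfl⟩)
    have hZ0 : Z ≠ ⊥ := by
      intro h
      have : w m ∈ Z := by
        rw [hZ]
        apply Submodule.subset_span
        exact ⟨0, by simp⟩
      rw [h] at this
      exact hw0 m ((Submodule.mem_bot F).1 this)
    obtain ⟨k, hk⟩ := dvd_finrank_of_disjoint hss hr.one_le H _ Z rfl hZi disjoint_bot_right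
    have h1 := Submodule.finrank_mono hZU
    rw [(hU1 m).2, mul_one, add_zero] at h1
    have h2 : 0 < finrank F Z := by
      rw [Nat.pos_iff_ne_zero]
      intro h
      exact hZ0 (Submodule.finrank_eq_zero.1 h)
    have hk1 : k = 1 := by
      have hk_le : k ≤ 1 :=
        Nat.le_of_mul_le_mul_left (by rw [mul_one, ← hk]; exact h1) hr.pos
      have hk_ne : k ≠ 0 := by
        rintro rfl
        rw [mul_zero] at hk
        omega
      omega
    have hZd : finrank F Z = finrank F (U m) := by
      rw [hk, hk1, (hU1 m).2]; ring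
    rw [Submodule.eq_of_le_of_finrank_eq hZU hZd]
  have hspan : ⊤ ≤ Submodule.span F (Set.range u) := by
    rw [← hU3]
    apply iSup_le
    intro m
    refine (hcyc m).trans ?_
    apply Submodule.span_mono
    rintro _ ⟨i, rfl⟩
    exact ⟨(e.symm m, i), by simp [u]⟩
  have hcard : Fintype.card ((Fin t' × Fin a) × Fin r) = finrank F V := by
    rw [hdim]
    simp only [Fintype.card_prod, Fintype.card_fin]
    ring
  obtain ⟨b, hb⟩ := exists_basis_of_span u hspan hcard
  let π : (Fin t' × Fin a) × Fin r → Fin t' × Fin r := fun p => (p.1.1, p.2)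
  have hπ : ∀ j, Fintype.card {p // π p = j} = a := by
    rintro ⟨j', i⟩
    have eq : {p : (Fin t' × Fin a) × Fin r // π p = (j', i)} ≃ Fin a :=
      { toFun := fun p => p.1.1.2
        invFun := fun l => ⟨((j', l), i), rfl⟩
        left_inv := by
          rintro ⟨⟨⟨j1, l⟩, i1⟩, hp⟩
          simp only [π, Prod.mk.injEq] at hp
          obtain ⟨rfl, rfl⟩ := hp
          rfl
        right_inv := fun l => rfl }
    rw [Fintype.card_congr eq, Fintype.card_fin]
  let τ : (Fin t' × Fin a) × Fin r → (Fin t' × Fin a) × Fin r := fun p => (p.1, p.2 + 1)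
  let σ : Equiv.Perm (Fin t' × Fin r) := Equiv.prodCongr (Equiv.refl _) (Equiv.addRight 1)
  have hTb : ∀ p, ∃ c : F, T (b p) = c • b (τ p) := by
    intro p
    refine ⟨if (p.2 : ℕ) + 1 = r then z else 1, ?_⟩
    rw [hb, hb]
    exact apply_pow_fin hT p.2 _
  have hτ : ∀ p, π (τ p) = σ (π p) := fun p => rfl
  have hD := isDec_of_basis b π a hπ
  have hmap := map_eq_of_basis b π a hπ T hTinj τ σ hTb hτ
  have hκ : Fintype.card (Fin t' × Fin r) = r * t' := by
    simp only [Fintype.card_prod, Fintype.card_fin]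
    ring
  exact exists_fin_of_equiv hκ hD hmap

/-- `T ^ r = 1` with blocks of dimension `r - 1` outside the fixed space: if the fixed space is
large enough then `T` permutes the lines of a decomposition into lines. -/
theorem exists_dec_lines {T : Module.End F V} (hss : T.IsSemisimple) {r : ℕ} (hr : r.Prime)
    (hrF : (r : F) ≠ 0) (hT : T ^ r = 1) {c : ℕ} (hc : 1 ≤ c) (hcr : c = r - 1)
    (H : HasBlocks T (Module.End.eigenspace T 1) c) {n : ℕ} (hn : finrank F V = n)
    (hlarge : n ≤ finrank F (Module.End.eigenspace T 1) * r) :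
    ∃ D : Fin n → Submodule F V, IsDec 1 D ∧
      ∃ σ : Equiv.Perm (Fin n), ∀ j, (D j).map T = D (σ j) := by
  classical
  have : NeZero r := ⟨hr.ne_zero⟩
  have hT' : T ^ r = (1 : F) • (1 : Module.End F V) := by rw [one_smul, hT]
  have hTinj : Function.Injective T := injective_of_pow_eq_smul hr.pos one_ne_zero hT'
  set E := Module.End.eigenspace T 1 with hE
  have hEfix : ∀ x ∈ E, T x = x := by
    intro x hx
    rw [hE, Module.End.mem_eigenspace_iff, one_smul] at hx
    exact hx
  have hEi : E ∈ T.invtSubmodule := invt_of_fix hEfix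
  obtain ⟨C, hC, -, hdisj, hsup⟩ :=
    exists_compl_in hss hEi (Module.End.invtSubmodule.top_mem T) le_top
  have hdimV : finrank F V = finrank F E + finrank F C := by
    rw [← finrank_top F V, ← hsup]; exact finrank_sup_of_disjoint hdisj
  obtain ⟨s, hs⟩ := dvd_finrank_of_disjoint hss hc H _ C rfl hC hdisj.symm
  set f := finrank F E with hf
  have hr2 := hr.two_le
  have hrc : r = c + 1 := by omega
  have hsf : s ≤ f := by
    by_contra hlt
    rw [not_le] at hlt
    have h1 : f * c < s * c := Nat.mul_lt_mul_of_pos_right hlt (by omega)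
    have h2 : f * r = f * c + f := by rw [hrc]; ring
    have h3 : c * s = s * c := mul_comm _ _
    omega
  -- the blocks
  obtain ⟨B, hB1, hB2, hB3⟩ := exists_invt_dec hss hc H hEfix 1 0 s C hC
    (by rw [hs]; ring) (by simp)
  have hBd : ∀ m, finrank F (B m) = c := fun m => by rw [(hB1 m).2]; ring
  have hBC : ∀ m, B m ≤ C := fun m => by rw [← hB3]; exact le_iSup B m
  have hne : ∀ m, ∃ v ∈ B m, v ≠ 0 := by
    intro m
    apply Submodule.exists_mem_ne_zero_of_ne_bot
    intro h
    have := hBd m
    rw [h, finrank_bot] at this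
    omega
  choose w hwB hw0 using hne
  let eE : Basis (Fin f) F E := finBasisOfFinrankEq F E hf.symm
  let e1 : Fin s → V := fun m => (eE (Fin.castLE hsf m) : V)
  let e2 : Fin (f - s) → V := fun l => (eE ⟨s + l, by have := l.2; omega⟩ : V)
  have he1 : ∀ m, T (e1 m) = e1 m := fun m => hEfix _ (eE _).2
  have he2 : ∀ l, T (e2 l) = e2 l := fun l => hEfix _ (eE _).2
  have hpowfix : ∀ (i : ℕ) (v : V), T v = v → (T ^ i) v = v := by
    intro i v hv
    induction i with
    | zero => simp
    | succ i ih => rw [pow_succ, Module.End.mul_apply, hv, ih]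
  let u : (Fin s × Fin r) ⊕ Fin (f - s) → V :=
    Sum.elim (fun p => (T ^ (p.2 : ℕ)) (w p.1 + e1 p.1)) e2
  set S := Submodule.span F (Set.range u) with hS
  have huS : ∀ i, u i ∈ S := fun i => Submodule.subset_span ⟨i, rfl⟩
  let τ : (Fin s × Fin r) ⊕ Fin (f - s) → (Fin s × Fin r) ⊕ Fin (f - s) :=
    Sum.map (fun p => (p.1, p.2 + 1)) id
  have hTu : ∀ i, T (u i) = u (τ i) := by
    rintro (p | l)
    · show T ((T ^ (p.2 : ℕ)) (w p.1 + e1 p.1)) = (T ^ ((p.2 + 1 : Fin r) : ℕ)) (w p.1 + e1 p.1)
      rw [apply_pow_fin hT' p.2]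
      simp
    · exact he2 l
  -- the vectors `e1 m` and `w m` lie in `S`
  have hnorm : ∀ m, (∑ i : Fin r, u (Sum.inl (m, i))) = (r : F) • e1 m := by
    intro m
    have h1 : ∀ i : Fin r, u (Sum.inl (m, i)) = (T ^ (i : ℕ)) (w m) + e1 m := by
      intro i
      show (T ^ (i : ℕ)) (w m + e1 m) = _
      rw [map_add, hpowfix _ _ (he1 m)]
    rw [Finset.sum_congr rfl (fun i _ => h1 i), Finset.sum_add_distrib, Finset.sum_const,
      Finset.card_univ, Fintype.card_fin, ← Nat.cast_smul_eq_nsmul F]
    have h2 : ∑ i : Fin r, (T ^ (i : ℕ)) (w m) = 0 := by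
      have hmemB : ∑ i : Fin r, (T ^ (i : ℕ)) (w m) ∈ B m := by
        apply Submodule.sum_mem
        intro i _
        have := aeval_apply_mem' T (hB1 m).1 (X ^ (i : ℕ)) (hwB m)
        rwa [_root_.map_pow, aeval_X] at this
      have hmemE : ∑ i : Fin r, (T ^ (i : ℕ)) (w m) ∈ E := by
        rw [hE, Module.End.mem_eigenspace_iff, one_smul, map_sum]
        have h3 : ∀ i : Fin r, T ((T ^ (i : ℕ)) (w m)) = (T ^ ((i + 1 : Fin r) : ℕ)) (w m) := by
          intro i
          rw [apply_pow_fin hT' i]
          simp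
        rw [Finset.sum_congr rfl (fun i _ => h3 i)]
        exact Equiv.sum_comp (Equiv.addRight (1 : Fin r)) (fun i => (T ^ (i : ℕ)) (w m))
      have := Submodule.disjoint_def.1 hdisj _ hmemE (hBC m hmemB)
      exact this
    rw [h2, zero_add]
  have he1S : ∀ m, e1 m ∈ S := by
    intro m
    have h1 : (r : F) • e1 m ∈ S := by
      rw [← hnorm m]
      exact Submodule.sum_mem _ (fun i _ => huS _)
    have := Submodule.smul_mem S (r : F)⁻¹ h1
    rwa [smul_smul, inv_mul_cancel₀ hrF, one_smul] at this
  have hwS : ∀ m, w m ∈ S := by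
    intro m
    have h1 : u (Sum.inl (m, 0)) = w m + e1 m := by
      show (T ^ ((0 : Fin r) : ℕ)) (w m + e1 m) = _
      simp
    have h2 : w m = u (Sum.inl (m, 0)) - e1 m := by rw [h1, add_sub_cancel_right]
    rw [h2]
    exact Submodule.sub_mem _ (huS _) (he1S m)
  have hSi : S ∈ T.invtSubmodule := by
    rw [Module.End.mem_invtSubmodule_iff_map_le, hS, Submodule.map_span, Submodule.span_le]
    rintro _ ⟨_, ⟨i, rfl⟩, rfl⟩
    rw [hTu]
    exact Submodule.subset_span ⟨τ i, rfl⟩
  have hBS : ∀ m, B m ≤ S := by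
    intro m
    set Z := S ⊓ B m with hZ
    have hZi : Z ∈ T.invtSubmodule := Module.End.invtSubmodule.inf_mem hSi (hB1 m).1
    have hZ0 : Z ≠ ⊥ := by
      intro h
      have : w m ∈ Z := ⟨hwS m, hwB m⟩
      rw [h] at this
      exact hw0 m ((Submodule.mem_bot F).1 this)
    have hZE : Disjoint Z E := hdisj.symm.mono_left (inf_le_right.trans (hBC m))
    obtain ⟨k, hk⟩ := dvd_finrank_of_disjoint hss hc H _ Z rfl hZi hZE
    have h1 := Submodule.finrank_mono (inf_le_right : Z ≤ B m)
    rw [hBd m] at h1
    have hk1 : k = 1 := by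
      have hk_le : k ≤ 1 :=
        Nat.le_of_mul_le_mul_left (by rw [mul_one, ← hk]; exact h1) (by omega)
      have hk_ne : k ≠ 0 := by
        rintro rfl
        rw [mul_zero] at hk
        exact hZ0 (Submodule.finrank_eq_zero.1 hk)
      omega
    have hZd : finrank F Z = finrank F (B m) := by rw [hk, hk1, hBd m, mul_one]
    have := Submodule.eq_of_le_of_finrank_eq (inf_le_right : Z ≤ B m) hZd
    rw [← this]
    exact inf_le_left
  have hES : E ≤ S := by
    have h1 : E = Submodule.span F (Set.range fun j => (eE j : V)) := by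
      have := eE.span_eq
      have h2 := congrArg (Submodule.map E.subtype) this
      rw [Submodule.map_span, Submodule.map_subtype_top, ← Set.range_comp] at h2
      exact h2.symm
    rw [h1, Submodule.span_le]
    rintro _ ⟨j, rfl⟩
    show (eE j : V) ∈ S
    by_cases hj : (j : ℕ) < s
    · have : (eE j : V) = e1 ⟨j, hj⟩ := rfl
      rw [this]
      exact he1S _
    · have hj2 : (j : ℕ) - s < f - s := by have := j.2; omega
      have : (eE j : V) = e2 ⟨(j : ℕ) - s, hj2⟩ := by
        show (eE j : V) = (eE ⟨s + ((j : ℕ) - s), _⟩ : V)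
        congr 2
        apply Fin.ext
        show (j : ℕ) = s + ((j : ℕ) - s)
        omega
      rw [this]
      exact huS (Sum.inr _)
  have hspan : ⊤ ≤ S := by
    rw [← hsup]
    apply sup_le hES
    rw [← hB3]
    exact iSup_le hBS
  have hcard : Fintype.card ((Fin s × Fin r) ⊕ Fin (f - s)) = finrank F V := by
    simp only [Fintype.card_sum, Fintype.card_prod, Fintype.card_fin]
    rw [hdimV, hs, hrc]
    have : s * (c + 1) = c * s + s := by ring
    omega
  obtain ⟨b, hb⟩ := exists_basis_of_span u hspan hcard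
  have hπ : ∀ j : (Fin s × Fin r) ⊕ Fin (f - s),
      Fintype.card {i : (Fin s × Fin r) ⊕ Fin (f - s) // id i = j} = 1 := by
    intro j
    simp
  let σ : Equiv.Perm ((Fin s × Fin r) ⊕ Fin (f - s)) :=
    Equiv.sumCongr (Equiv.prodCongr (Equiv.refl _) (Equiv.addRight 1)) (Equiv.refl _)
  have hTb : ∀ i, ∃ c : F, T (b i) = c • b (τ i) := by
    intro i
    refine ⟨1, ?_⟩
    rw [hb, hb, one_smul, hTu]
  have hτ : ∀ i, id (τ i) = σ (id i) := by
    rintro (p | l)
    · rfl
    · rfl
  have hD := isDec_of_basis b id 1 hπ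
  have hmap := map_eq_of_basis b id 1 hπ T hTinj τ σ hTb hτ
  exact exists_fin_of_equiv (hcard.trans hn) hD hmap

end Cfsg.Agent.Lib.Helper99_DecompSuff
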