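import Mathlib
import Cfsg.Agent.Lib.Helper40_ChevGreenDefs
import Cfsg.Agent.Lib.Helper40_ChevGreenXG
import Cfsg.Agent.Lib.Helper18_ChevData5
import Cfsg.Agent.Lib.Helper18_ChevBruhat

/-!
# S2441 (architect helper40, market `green_packages`): package GC-INTER (helper99)

`ch_act_inter`: if `m` acts on the root subgroups by the linear map `π`, then `U ⊓ m⁻¹ U m` is generated by the
root subgroups `X_r`, `r > 0`, `π r > 0`.  Counting proof: `W = {g ∈ U | m g m⁻¹ ∈ U}` contains `U_A` and meets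
`U_B = ⟨X_r : r > 0, π r < 0⟩` trivially; `|U_A| ≥ q^|A|`, `|U_B| ≥ q^|B|`, `|W| |U_B| ≤ |U| = q^(|A|+|B|)`.
-/

set_option autoImplicit false
set_option linter.unusedSectionVars false
set_option linter.unusedVariables false

namespace Cfsg.Agent.Lib.Helper99_GR_GCINTER

open Cfsg Cfsg.Lie Cfsg.Agent.Lib.Helper40_ChevDZDefs Cfsg.Agent.Lib.Helper40_ChevGreenDefs
  Cfsg.Agent.Lib.Helper40_ChevGreenXG
open Cfsg.Agent.Lib.Helper18_ChevWeyl Cfsg.Agent.Lib.Helper18_ChevAdd Cfsg.Agent.Lib.Helper18_ChevBruhat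
  Cfsg.Agent.Lib.Helper18_ChevTri Cfsg.Agent.Lib.Helper18_ChevFacts Cfsg.Agent.Lib.Helper18_ChevEngine
  Cfsg.Agent.Lib.Helper18_ChevGL Cfsg.Agent.Lib.Helper18_ChevUni Cfsg.Agent.Lib.Helper18_ChevN
  Cfsg.Agent.Lib.Helper18_ChevSimp Cfsg.Agent.Lib.Helper18_ChevSimple Cfsg.Agent.Lib.Helper18_ChevTorus

/-! ### a counting lemma -/

theorem card_mul_card_le_of_inf_eq_bot {G : Type*} [Group G] (U W K : Subgroup G) [Finite U]
    (hW : W ≤ U) (hK : K ≤ U) (h : W ⊓ K = ⊥) : Nat.card W * Nat.card K ≤ Nat.card U := by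
  let f : W × K → U := fun p => ⟨(p.1 : G) * (p.2 : G), U.mul_mem (hW p.1.2) (hK p.2.2)⟩
  have hf : Function.Injective f := by
    rintro ⟨w, k⟩ ⟨w', k'⟩ hp
    have h1 : (w : G) * (k : G) = (w' : G) * (k' : G) := congrArg Subtype.val hp
    have h2 : (w' : G)⁻¹ * (w : G) = (k' : G) * (k : G)⁻¹ := by
      rw [inv_mul_eq_iff_eq_mul, ← mul_assoc, ← h1, mul_assoc, mul_inv_cancel, mul_one]
    have h3 : (w' : G)⁻¹ * (w : G) ∈ W ⊓ K := by
      refine ⟨W.mul_mem (W.inv_mem w'.2) w.2, ?_⟩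
      rw [h2]
      exact K.mul_mem k'.2 (K.inv_mem k.2)
    rw [h, Subgroup.mem_bot] at h3
    have h4 : (w : G) = (w' : G) := by
      rw [inv_mul_eq_one] at h3
      exact h3.symm
    have h5 : (k : G) = (k' : G) := by
      rw [h4] at h1
      exact mul_left_cancel h1
    exact Prod.ext (Subtype.ext h4) (Subtype.ext h5)
  have := Nat.card_le_card_of_injective f hf
  rwa [Nat.card_prod] at this

section lower

variable {D : ChevalleyDatum} {Ns : List NData} {wl : List ℤ} {ws : List (List ℤ)} {sc : ℤ}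
  {F : Type*} [Field F]

/-- Extension by zero of a family of parameters indexed by a list of roots. -/
def extZ (L : List ℕ) (t : ↥L.toFinset → F) (r : ℕ) : F :=
  if h : r ∈ L.toFinset then t ⟨r, h⟩ else 0

/-- a subgroup containing the root subgroups of `k` distinct positive roots has at least `q^k` elements -/
theorem pow_length_le_card [Fintype F] (c : DCert D Ns) (tc : TCert D) (ac : ACert D wl ws sc)
    (L : List ℕ) (hL : L.Nodup) (hpos : ∀ r ∈ L, D.IsPosRoot r) (K : Subgroup (GL D.Idx F))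
    (hK : ∀ r ∈ L, ∀ t : F, xGL c r t ∈ K) : Fintype.card F ^ L.length ≤ Nat.card K := by
  classical
  let φ : (↥L.toFinset → F) → K := fun t =>
    ⟨wordGL c (L.map fun r => (r, extZ L t r)), by
      apply wordGL_mem
      intro p hp
      rw [List.mem_map] at hp
      obtain ⟨r, hr, rfl⟩ := hp
      exact hK r hr _⟩
  have hφ : Function.Injective φ := by
    intro t t' h
    have h1 : wordGL c (L.map fun r => (r, extZ L t r)) =
        wordGL c (L.map fun r => (r, extZ L t' r)) := congrArg Subtype.val h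
    have h2 := congrArg (fun g : GL D.Idx F => (g : Matrix D.Idx D.Idx F)) h1
    simp only [wordGL_coe] at h2
    have h3 := unique_word c tc ac L hL hpos _ _ h2
    funext ⟨r, hr⟩
    have h4 := h3 r (List.mem_toFinset.mp hr)
    unfold extZ at h4
    rwa [dif_pos hr, dif_pos hr] at h4
  have := Nat.card_le_card_of_injective φ hφ
  rwa [Nat.card_fun, Nat.card_eq_fintype_card, Nat.card_eq_fintype_card, Fintype.card_coe,
    List.toFinset_card_of_nodup hL] at this

end lower

variable (D : ChevalleyDatum)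
  (hD : D ∈ [chevG2, chevB2, chevD4, chevF4, chevE6, chevE7, chevE8]) {F : Type*} [Field F]
include hD

theorem ch_act_inter [Fintype F] : ∀ (m : ↥(D.group F)) (π : ℕ → ℕ), cIsAct D F m π →
    ∀ g, g ∈ cU D F → m * g * m⁻¹ ∈ cU D F →
      g ∈ Subgroup.closure {g | ∃ r t, D.IsPosRoot r ∧ D.IsPosRoot (π r) ∧ g = xG D F r t} := by
  classical
  intro m π hact g hgU hgm
  obtain ⟨Ns, w, d, Ts, hT, K, base, stepT, wl, ws, sc, c, tc, gc, pc, ac⟩ :=
    Cfsg.Agent.Lib.Helper18_ChevData5.exists_cert5 D hD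
  have hR2 : R2All D F := Cfsg.Agent.Lib.Helper18_ChevComm2.r2_all c pc
  have hπ : LinMap D π := hact.1
  -- the action in `GL`
  have hconj : ∀ r < D.nroots, ∃ a : F, a ≠ 0 ∧ ∀ t : F,
      (m : GL D.Idx F) * xGL c r t * (m : GL D.Idx F)⁻¹ = xGL c (π r) (a * t) := by
    intro r hr
    obtain ⟨a, ha, h⟩ := hact.2 r hr
    refine ⟨a, ha, fun t => ?_⟩
    have h1 := congrArg (Subtype.val : ↥(D.group F) → GL D.Idx F) (h t)
    rw [Subgroup.coe_mul, Subgroup.coe_mul, Subgroup.coe_inv, xG_eq_xGL D c, xG_eq_xGL D c] at h1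
    exact h1
  -- the subgroups
  let cj : GL D.Idx F →* GL D.Idx F := (MulAut.conj (m : GL D.Idx F)).toMonoidHom
  have hcj : ∀ x : GL D.Idx F, cj x = (m : GL D.Idx F) * x * (m : GL D.Idx F)⁻¹ := fun x => rfl
  let U : Subgroup (GL D.Idx F) := D.posUnipotent F
  let V : Subgroup (GL D.Idx F) := D.negUnipotent F
  have hUV : U ⊓ V = ⊥ := by
    rw [eq_bot_iff, ← borel_inf_neg (F := F) c tc gc]
    exact inf_le_inf_right _ le_sup_left
  let W : Subgroup (GL D.Idx F) := U ⊓ U.comap cj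
  let UA : Subgroup (GL D.Idx F) := Subgroup.closure {g : GL D.Idx F | ∃ (r : ℕ) (t : F),
    D.IsPosRoot r ∧ D.IsPosRoot (π r) ∧ (g : Matrix D.Idx D.Idx F) = D.x F r t}
  let UB : Subgroup (GL D.Idx F) := Subgroup.closure {g : GL D.Idx F | ∃ (r : ℕ) (t : F),
    (D.IsPosRoot r ∧ D.IsNegRoot (π r)) ∧ (g : Matrix D.Idx D.Idx F) = D.x F r t}
  have hxU : ∀ r, D.IsPosRoot r → ∀ t : F, xGL c r t ∈ U := fun r hr t =>
    Subgroup.subset_closure ⟨r, t, hr, rfl⟩
  have hxV : ∀ r, D.IsNegRoot r → ∀ t : F, xGL c r t ∈ V := fun r hr t =>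
    Subgroup.subset_closure ⟨r, t, hr, rfl⟩
  have hUAW : UA ≤ W := by
    rw [Subgroup.closure_le]
    rintro x ⟨r, t, hr, hπr, hx⟩
    rw [eq_xGL c hx]
    obtain ⟨a, -, h⟩ := hconj r hr.1
    refine ⟨hxU r hr t, ?_⟩
    show cj (xGL c r t) ∈ U
    rw [hcj, h t]
    exact hxU _ hπr _
  have hUBU : UB ≤ U := by
    rw [Subgroup.closure_le]
    rintro x ⟨r, t, ⟨hr, -⟩, hx⟩
    rw [eq_xGL c hx]
    exact hxU r hr t
  have hUBV : UB ≤ V.comap cj := by
    rw [Subgroup.closure_le]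
    rintro x ⟨r, t, ⟨hr, hπr⟩, hx⟩
    rw [eq_xGL c hx]
    obtain ⟨a, -, h⟩ := hconj r hr.1
    show cj (xGL c r t) ∈ V
    rw [hcj, h t]
    exact hxV _ hπr _
  have hWB : W ⊓ UB = ⊥ := by
    rw [eq_bot_iff]
    intro x hx
    have h1 : cj x ∈ U ⊓ V := ⟨hx.1.2, hUBV hx.2⟩
    rw [hUV, Subgroup.mem_bot] at h1
    rw [Subgroup.mem_bot]
    exact (map_eq_one_iff cj (MulAut.conj (m : GL D.Idx F)).injective).mp h1
  -- the two lists of roots
  let LA : List ℕ := D.posRoots.filter fun r => decide (D.IsPosRoot (π r))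
  let LB : List ℕ := D.posRoots.filter fun r => !decide (D.IsPosRoot (π r))
  have hLA : ∀ r ∈ LA, D.IsPosRoot r ∧ D.IsPosRoot (π r) := by
    intro r hr
    rw [List.mem_filter, decide_eq_true_eq] at hr
    exact ⟨(mem_posRoots r).mp hr.1, hr.2⟩
  have hLB : ∀ r ∈ LB, D.IsPosRoot r ∧ D.IsNegRoot (π r) := by
    intro r hr
    rw [List.mem_filter, Bool.not_eq_true', decide_eq_false_iff_not] at hr
    have hr' := (mem_posRoots r).mp hr.1
    refine ⟨hr', ?_⟩
    rcases ac.posOrNeg _ (hπ.1 r hr'.1) with h | h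
    · exact absurd h hr.2
    · exact h
  have hlen : LA.length + LB.length = D.nroots / 2 := by
    rw [← ac.npos]
    exact (List.length_eq_length_filter_add _).symm
  have hcA : Fintype.card F ^ LA.length ≤ Nat.card UA :=
    pow_length_le_card c tc ac LA (posRoots_nodup.filter _) (fun r hr => (hLA r hr).1) UA
      (fun r hr t => Subgroup.subset_closure ⟨r, t, (hLA r hr).1, (hLA r hr).2, rfl⟩)
  have hcB : Fintype.card F ^ LB.length ≤ Nat.card UB :=
    pow_length_le_card c tc ac LB (posRoots_nodup.filter _) (fun r hr => (hLB r hr).1) UB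
      (fun r hr t => Subgroup.subset_closure ⟨r, t, hLB r hr, rfl⟩)
  have hcU : Nat.card U = Fintype.card F ^ (D.nroots / 2) := card_posUnipotent c tc ac hR2
  have hmul : Nat.card W * Nat.card UB ≤ Nat.card U :=
    card_mul_card_le_of_inf_eq_bot U W UB inf_le_left hUBU hWB
  have hAW : Nat.card UA ≤ Nat.card W := Subgroup.card_le_of_le hUAW
  have hq : 0 < Fintype.card F := Fintype.card_pos
  have hWA : Nat.card W ≤ Nat.card UA := by
    have h1 : Nat.card W * Fintype.card F ^ LB.length ≤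
        Fintype.card F ^ LA.length * Fintype.card F ^ LB.length := by
      calc Nat.card W * Fintype.card F ^ LB.length ≤ Nat.card W * Nat.card UB :=
            Nat.mul_le_mul_left _ hcB
        _ ≤ Nat.card U := hmul
        _ = Fintype.card F ^ LA.length * Fintype.card F ^ LB.length := by
            rw [hcU, ← pow_add, hlen]
    exact le_trans (Nat.le_of_mul_le_mul_right h1 (pow_pos hq _)) hcA
  have hEq : UA = W := Subgroup.eq_of_le_of_card_ge hUAW hWA
  -- conclusion
  have hgW : (g : GL D.Idx F) ∈ W := by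
    refine ⟨hgU, ?_⟩
    show cj (g : GL D.Idx F) ∈ U
    rw [hcj]
    exact hgm
  rw [← hEq] at hgW
  have hcl := closure_xG D hD (F := F) (fun r => D.IsPosRoot r ∧ D.IsPosRoot (π r))
  simp only [and_assoc] at hcl
  rw [hcl, Subgroup.mem_subgroupOf]
  exact hgW

end Cfsg.Agent.Lib.Helper99_GR_GCINTER
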