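import Mathlib
import Cfsg.Agent.Lib.Helper40_ChevGreenDefs
import Cfsg.Agent.Lib.Helper40_ChevGreenXG
import Cfsg.Agent.Lib.Helper18_ChevData5
import Cfsg.Agent.Lib.Helper18_ChevBruhat

/-!
# S2441 (architect helper40, market `green_packages`): package GC-RANK2 (helper99)

`ch_act_rank2`: a linear map `π` of the roots that sends the fundamental roots `α_i`, `α_j` to negative roots
sends every positive root of the rank 2 subsystem `Φ_{ij}` to a negative root.

Main tool: the EXPANSION of an additive function in the fundamental roots,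
`sc * grF w r = Σ_k cf r k * grF w (α_k)` (`grF_expand`), by induction over the roots.
-/

set_option autoImplicit false
set_option linter.unusedSectionVars false
set_option linter.unusedVariables false

namespace Cfsg.Agent.Lib.Helper99_GR_GCRANK2

open Cfsg Cfsg.Lie Cfsg.Agent.Lib.Helper40_ChevDZDefs Cfsg.Agent.Lib.Helper40_ChevGreenDefs
open Cfsg.Agent.Lib.Helper18_ChevWeyl Cfsg.Agent.Lib.Helper18_ChevAdd Cfsg.Agent.Lib.Helper18_ChevBruhat
  Cfsg.Agent.Lib.Helper18_ChevTri Cfsg.Agent.Lib.Helper18_ChevFacts Cfsg.Agent.Lib.Helper18_ChevEngine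
  Cfsg.Agent.Lib.Helper18_ChevN

section expand

variable {D : ChevalleyDatum} {Ns : List NData} {wl : List ℤ} {ws : List (List ℤ)} {sc : ℤ}

/-- the coefficient `cf` as a value of `grF` -/
theorem cf_eq_grF (k r : ℕ) :
    cf D ws k r = grF D (fun j => (ws.getD k []).getD j 0) r := rfl

/-- expansion of an additive function in the fundamental roots -/
theorem grF_expand (c : DCert D Ns) (ac : ACert D wl ws sc) (r : ℕ) (hr : r < D.nroots) :
    ∀ w : ℕ → ℤ, sc * grF D w r = ∑ k ∈ Finset.range D.rank, cf D ws k r * grF D w (D.simple k) := by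
  refine c.root_induction (fun r => ∀ w : ℕ → ℤ,
    sc * grF D w r = ∑ k ∈ Finset.range D.rank, cf D ws k r * grF D w (D.simple k)) ?_ ?_ r hr
  · intro i hi w
    have h1 : ∀ k ∈ Finset.range D.rank, cf D ws k (D.simple i) * grF D w (D.simple k) =
        if k = i then sc * grF D w (D.simple i) else 0 := by
      intro k hk
      rw [ac.cf_simple i hi k (Finset.mem_range.mp hk)]
      by_cases hki : k = i
      · rw [if_pos hki, if_pos hki, hki]
      · rw [if_neg hki, if_neg hki, zero_mul]
    rw [Finset.sum_congr rfl h1, Finset.sum_ite_eq' (Finset.range D.rank) i, if_pos (Finset.mem_range.mpr hi)]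
  · intro i hi s hs ih w
    have e1 := grF_reflect c i hi w s hs
    have h1 : ∀ k ∈ Finset.range D.rank,
        cf D ws k (D.reflectRoot i s) * grF D w (D.simple k) =
          cf D ws k s * grF D w (D.simple k) -
            (if k = i then sc * D.cartan i s * grF D w (D.simple i) else 0) := by
      intro k hk
      have hk' := Finset.mem_range.mp hk
      have e2 := grF_reflect c i hi (fun j => (ws.getD k []).getD j 0) s hs
      rw [← cf_eq_grF, ← cf_eq_grF, ← cf_eq_grF, ac.cf_simple i hi k hk'] at e2
      rw [e2]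
      by_cases hki : k = i
      · rw [if_pos hki, if_pos hki, hki]
        ring
      · rw [if_neg hki, if_neg hki]
        ring
    rw [Finset.sum_congr rfl h1, Finset.sum_sub_distrib, ← ih w,
      Finset.sum_ite_eq' (Finset.range D.rank) i, if_pos (Finset.mem_range.mpr hi), e1]
    ring

end expand

variable (D : ChevalleyDatum)
  (hD : D ∈ [chevG2, chevB2, chevD4, chevF4, chevE6, chevE7, chevE8]) {F : Type*} [Field F]
include hD

omit [Field F] in
theorem ch_act_rank2 : ∀ π : ℕ → ℕ, LinMapC D π → ∀ i, i < D.rank → ∀ j, j < D.rank →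
    D.IsNegRoot (π (D.simple i)) → D.IsNegRoot (π (D.simple j)) →
    ∀ r, D.IsPosRoot r → cSub2 D i j r → D.IsNegRoot (π r) := by
  intro π hπ' i hi j hj hni hnj r hr hsub
  obtain ⟨Ns, w, d, Ts, hT, K, base, stepT, wl, ws, sc, c, tc, gc, pc, ac⟩ :=
    Cfsg.Agent.Lib.Helper18_ChevData5.exists_cert5 D hD
  have hπ : LinMap D π := hπ'
  have hpi : D.simple i < D.nroots := (tc.simple_pos i hi).1
  have hpj : D.simple j < D.nroots := (tc.simple_pos j hj).1
  rw [ac.neg_iff _ (hπ.1 r hr.1)]
  intro m hm
  obtain ⟨w', hw'⟩ := hπ.2.2 (fun k => (ws.getD m []).getD k 0)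
  show grF D (fun k => (ws.getD m []).getD k 0) (π r) ≤ 0
  rw [hw' r hr.1]
  -- the values at the two fundamental roots
  have hi0 : grF D w' (D.simple i) ≤ 0 := by
    rw [← hw' _ hpi]
    exact (ac.neg_iff _ (hπ.1 _ hpi)).mp hni m hm
  have hj0 : grF D w' (D.simple j) ≤ 0 := by
    rw [← hw' _ hpj]
    exact (ac.neg_iff _ (hπ.1 _ hpj)).mp hnj m hm
  have hexp := grF_expand c ac r hr.1 w'
  have hsum : ∑ k ∈ Finset.range D.rank, cf D ws k r * grF D w' (D.simple k) ≤ 0 := by
    apply Finset.sum_nonpos
    intro k hk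
    have hk' := Finset.mem_range.mp hk
    have hcf : 0 ≤ cf D ws k r := (ac.pos_iff r hr.1).mp hr k hk'
    by_cases hki : k = i
    · rw [hki] at hcf ⊢
      exact mul_nonpos_of_nonneg_of_nonpos hcf hi0
    · by_cases hkj : k = j
      · rw [hkj] at hcf ⊢
        exact mul_nonpos_of_nonneg_of_nonpos hcf hj0
      · have hz : cor D r k = 0 := hsub.2 k hk' (by
          intro hmem
          rcases hmem with h1 | h1
          · exact hki h1
          · exact hkj h1)
        rw [(ac.cor_zero_iff r hr.1 k hk').mp hz, zero_mul]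
  have hsc := ac.sc_pos
  rw [← hexp] at hsum
  by_contra hcon
  push Not at hcon
  have := mul_pos hsc hcon
  omega

end Cfsg.Agent.Lib.Helper99_GR_GCRANK2
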