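import Mathlib
import Cfsg.Agent.Lib.Helper18_HkDefs
import Cfsg.Agent.Lib.Helper99_HK_MODEL

set_option autoImplicit false
set_option linter.unusedSectionVars false
set_option linter.unusedVariables false

/-!
# S2319 market (architect helper18), package HK-UNIQ

The structure constants of ANY Hecke datum are the `cst` of the model.
-/

namespace Cfsg.Agent.Lib.Helper99_HK_UNIQ

open Cfsg.Agent.Lib.Helper6_Word Cfsg.Agent.Lib.Helper18_HkDefs

attribute [local instance] Classical.propDecidable

variable {W : Type*} [Group W] {S : Set W} {R : Type*} [CommRing R] (u : R)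

open Cfsg.Agent.Lib.Helper99_HK_MODEL in
theorem prod_reduced (h : InvGen S) (hE : Exchange S) {A : Type*} [Ring A] [Algebra R A] {T : W → A}
    (H : IsHecke S u T) (l : List W) (hl : IsReduced S l) : (l.map T).prod = T l.prod := by
  induction l with
  | nil => simp [H.one]
  | cons s l ih =>
    have hl' := hl.tail h
    have hs : s ∈ S := (isWord_cons.1 hl.1).1
    rw [List.map_cons, List.prod_cons, ih hl', List.prod_cons]
    apply H.mul_up s hs
    have h1 := hl.2
    have h2 := hl'.2
    rw [List.prod_cons, List.length_cons] at h1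
    omega

/-- `ψ f = ∑ z, f z • T z` -/
noncomputable def psi [Fintype W] {A : Type*} [Ring A] [Algebra R A] (T : W → A) : (W → R) →ₗ[R] A :=
  Fintype.linearCombination R T

theorem psi_apply [Fintype W] {A : Type*} [Ring A] [Algebra R A] (T : W → A) (f : W → R) :
    psi T f = ∑ z, f z • T z := rfl

open Cfsg.Agent.Lib.Helper99_HK_MODEL in
theorem psi_delta [Fintype W] {A : Type*} [Ring A] [Algebra R A] (T : W → A) (w : W) :
    psi T (delta w : W → R) = T w := by
  rw [psi_apply, Finset.sum_eq_single w]
  · rw [delta_self, one_smul]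
  · intro b _ hb
    rw [delta_ne hb, zero_smul]
  · intro hw
    exact absurd (Finset.mem_univ w) hw

open Cfsg.Agent.Lib.Helper99_HK_MODEL in
theorem psi_Lop [Fintype W] (h : InvGen S) (hE : Exchange S) {A : Type*} [Ring A] [Algebra R A]
    {T : W → A} (H : IsHecke S u T) {s : W} (hs : s ∈ S) (f : W → R) :
    psi T (Lop S u s f) = T s * psi T f := by
  rw [eq_sum_delta f, map_sum, map_sum, map_sum, Finset.mul_sum]
  apply Finset.sum_congr rfl
  intro w _
  rw [map_smul, map_smul, map_smul, psi_delta, mul_smul_comm]
  congr 1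
  rcases len_simple_mul_cases h hE hs w with hc | hc
  · rw [Lop_delta_up u h hs w (by omega), psi_delta, H.mul_up s hs w (by omega)]
  · rw [Lop_delta_down u h hs w (by omega), map_add, map_smul, map_smul, psi_delta, psi_delta,
      H.mul_down s hs w (by omega)]

theorem psi_prod_Lop [Fintype W] (h : InvGen S) (hE : Exchange S) {A : Type*} [Ring A] [Algebra R A]
    {T : W → A} (H : IsHecke S u T) (l : List W) (hl : IsWord S l) (f : W → R) :
    psi T ((l.map (Lop S u)).prod f) = (l.map T).prod * psi T f := by
  induction l with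
  | nil => simp
  | cons s l ih =>
    have hs : s ∈ S := (isWord_cons.1 hl).1
    have hl' : IsWord S l := (isWord_cons.1 hl).2
    rw [List.map_cons, List.prod_cons, Module.End.mul_apply, psi_Lop u h hE H hs, ih hl',
      List.map_cons, List.prod_cons, mul_assoc]

open Cfsg.Agent.Lib.Helper99_HK_MODEL in
theorem mul_eq_sum_cst [Fintype W] (h : InvGen S) (hE : Exchange S)
    {A : Type*} [Ring A] [Algebra R A] {T : W → A} (H : IsHecke S u T) (x y : W) :
    T x * T y = ∑ z : W, cst S u x y z • T z := by
  have h1 := psi_prod_Lop u h hE H (redWord S x) (redWord_spec h x).1 (delta y)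
  rw [prod_reduced u h hE H _ (redWord_isReduced h x), (redWord_spec h x).2.1, psi_delta] at h1
  rw [← h1]
  rfl

end Cfsg.Agent.Lib.Helper99_HK_UNIQ
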