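import Cfsg.Agent.Lib.Helper47_IsoBar
import Cfsg.Agent.Lib.Helper47_IsoMain
import Cfsg.Agent.Lib.Helper21_Components
import Cfsg.Agent.Lib.Helper21_FStar
import Cfsg.Agent.Lib.Helper22_Layer
import Cfsg.Agent.Lib.Helper22_Quasisimple
import Cfsg.Agent.Lib.Helper29_Local
import Cfsg.Agent.Lib.Helper48_Trans2
import Cfsg.Agent.Lib.Helper24_CoprimeAction
import Cfsg.Agent.Lib.Helper1_Cores
import Cfsg.Agent.Lib.Helper22_Cores

/-!
# S3044 ISO market (architect helper47), package ORBLE: `W` lies in the join of the `S`-conjugates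
of any component `K ≤ Y`.
-/

set_option autoImplicit false

open Cfsg
open Cfsg.Agent.Lib.Helper47_IsoBase Cfsg.Agent.Lib.Helper47_IsoBar Cfsg.Agent.Lib.Helper47_SubAPI
  Cfsg.Agent.Lib.Helper48_Op
open scoped commutatorElement Pointwise

namespace Cfsg.Agent.Lib.Helper99_Iso_ORBLE

universe u

variable {H : Type u} [Group H] [Finite H] {p : ℕ} [Fact p.Prime] {Y C S W : Subgroup H}

section aux
variable {X : Type*} [Group X]

/-- a subgroup all of whose elements map `N` into itself by conjugation normalizes `N`. -/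
theorem le_normalizer_of_map_conj_le (T N : Subgroup X)
    (h : ∀ t ∈ T, N.map (MulAut.conj t).toMonoidHom ≤ N) : T ≤ Subgroup.normalizer (N : Set X) := by
  intro t ht
  rw [Subgroup.mem_normalizer_iff]
  intro x
  constructor
  · intro hx
    exact h t ht ⟨x, hx, by simp⟩
  · intro hx
    have hmem : t⁻¹ * (t * x * t⁻¹) * t⁻¹⁻¹ ∈ N :=
      h t⁻¹ (T.inv_mem ht) ⟨t * x * t⁻¹, hx, by simp⟩
    have e : t⁻¹ * (t * x * t⁻¹) * t⁻¹⁻¹ = x := by group
    rwa [e] at hmem

theorem map_conj_le_of_mem_normalizer (L : Subgroup X) (t : X)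
    (ht : t ∈ Subgroup.normalizer (L : Set X)) : L.map (MulAut.conj t).toMonoidHom ≤ L := by
  rintro _ ⟨y, hy, rfl⟩
  simp only [MulEquiv.coe_toMonoidHom, MulAut.conj_apply]
  exact (Subgroup.mem_normalizer_iff.1 ht y).1 hy

theorem map_conj_map_conj (K : Subgroup X) (a b : X) :
    (K.map (MulAut.conj b).toMonoidHom).map (MulAut.conj a).toMonoidHom =
      K.map (MulAut.conj (a * b)).toMonoidHom := by
  rw [Subgroup.map_map]
  congr 1
  ext x
  simp [mul_assoc]

theorem map_conj_one (K : Subgroup X) : K.map (MulAut.conj (1 : X)).toMonoidHom = K := by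
  ext x
  simp

end aux

theorem le_orbit (hb : BarHyp p Y C S W)
    (hnc : ∀ K : Subgroup H, Cfsg.IsComponent K → K ≤ Y → ⁅K, C⁆ ≠ ⊥)
    {K : Subgroup H} (hK : Cfsg.IsComponent K) (hKY : K ≤ Y) :
    W ≤ ⨆ s : ↥S, K.map (MulAut.conj (s : H)).toMonoidHom := by
  obtain ⟨N₁, hN₁⟩ : ∃ N₁, N₁ = ⨆ s : ↥S, K.map (MulAut.conj (s : H)).toMonoidHom := ⟨_, rfl⟩
  rw [← hN₁]
  -- `S` normalizes `N₁`
  have hSN : S ≤ Subgroup.normalizer (N₁ : Set H) := by
    apply le_normalizer_of_map_conj_le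
    intro t ht
    rw [hN₁, Subgroup.map_iSup]
    apply iSup_le
    intro s
    rw [map_conj_map_conj]
    exact le_iSup (fun s : ↥S => K.map (MulAut.conj (s : H)).toMonoidHom) ⟨t * s, S.mul_mem ht s.2⟩
  rcases hb.sub_dich N₁ hSN with h | ⟨hNC, hcomm⟩
  · exact h
  exfalso
  -- the conjugates are components
  have hcomp : ∀ s : ↥S, Cfsg.IsComponent (K.map (MulAut.conj (s : H)).toMonoidHom) := fun s =>
    Cfsg.Agent.Lib.Helper29_Local.isComponent_map_mulEquiv (MulAut.conj (s : H)) hK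
  have hNlayer : N₁ ≤ Cfsg.layer H := by
    rw [hN₁]
    exact iSup_le fun s => Cfsg.Agent.Lib.Helper29_Local.IsComponent.le_layer (hcomp s)
  have hlayerN : Cfsg.layer H ≤ Subgroup.normalizer (N₁ : Set H) := by
    apply le_normalizer_of_map_conj_le
    intro t ht
    rw [hN₁, Subgroup.map_iSup]
    apply iSup_le
    intro s
    refine le_trans ?_ (le_iSup (fun s : ↥S => K.map (MulAut.conj (s : H)).toMonoidHom) s)
    exact map_conj_le_of_mem_normalizer _ t
      (Cfsg.Agent.Lib.Helper22_Layer.IsComponent.le_normalizer_layer (hcomp s) ht)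
  have hlayer_sub : (Cfsg.layer H).IsSubnormal :=
    (Cfsg.Agent.Lib.Helper29_Local.layer_normal H).isSubnormal
  have hN₁sub : N₁.IsSubnormal :=
    Subgroup.IsSubnormal.step N₁ (Cfsg.layer H) hNlayer hlayer_sub
      ((Subgroup.normal_subgroupOf_iff_le_normalizer hNlayer).2 hlayerN)
  have hnorm : N₁ ≤ Subgroup.normalizer ((N₁ ⊓ C : Subgroup H) : Set H) := by
    intro g hg
    have hgC := hNC hg
    rw [Subgroup.mem_normalizer_iff] at hgC ⊢
    intro x
    rw [Subgroup.mem_inf, Subgroup.mem_inf, ← hgC x]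
    constructor
    · rintro ⟨h1, h2⟩
      exact ⟨N₁.mul_mem (N₁.mul_mem hg h1) (N₁.inv_mem hg), h2⟩
    · rintro ⟨h1, h2⟩
      refine ⟨?_, h2⟩
      have := N₁.mul_mem (N₁.mul_mem (N₁.inv_mem hg) h1) hg
      have e : g⁻¹ * (g * x * g⁻¹) * g = x := by group
      rwa [e] at this
  have hle : N₁ ⊓ C ≤ Cfsg.pCore p H :=
    Cfsg.Agent.Lib.Helper22_Cores.le_pCore_of_le_isSubnormal p hN₁sub inf_le_left hnorm
      (hb.isPGroup_C.to_le inf_le_right)
  rw [hb.hcore] at hle
  have hKN : K ≤ N₁ := by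
    rw [hN₁]
    refine le_trans ?_ (le_iSup (fun s : ↥S => K.map (MulAut.conj (s : H)).toMonoidHom)
      ⟨1, S.one_mem⟩)
    rw [map_conj_one]
  apply hnc K hK hKY
  rw [eq_bot_iff]
  exact (Subgroup.commutator_mono hKN le_rfl).trans (hcomm.trans hle)

end Cfsg.Agent.Lib.Helper99_Iso_ORBLE
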