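import Cfsg.Agent.Lib.Helper47_IsoBar
import Cfsg.Agent.Lib.Helper47_IsoMain
import Cfsg.Agent.Lib.Helper21_Components
import Cfsg.Agent.Lib.Helper21_FStar
import Cfsg.Agent.Lib.Helper22_Layer
import Cfsg.Agent.Lib.Helper22_Quasisimple
import Cfsg.Agent.Lib.Helper29_Local
import Cfsg.Agent.Lib.Helper48_Trans2
import Cfsg.Agent.Lib.Helper24_CoprimeAction
import Cfsg.Agent.Lib.Helper1_Cores
import Cfsg.Agent.Lib.Helper99_Iso_ORBLE

/-!
# S3044 ISO market (architect helper47), package TRANS: `S` is transitive on the components of `H`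
inside `Y`.
-/

set_option autoImplicit false

open Cfsg
open Cfsg.Agent.Lib.Helper47_IsoBase Cfsg.Agent.Lib.Helper47_IsoBar Cfsg.Agent.Lib.Helper47_SubAPI
  Cfsg.Agent.Lib.Helper48_Op
open scoped commutatorElement Pointwise

namespace Cfsg.Agent.Lib.Helper99_Iso_TRANS

open Cfsg.Agent.Lib.Helper99_Iso_ORBLE

universe u

variable {H : Type u} [Group H] [Finite H] {p : ℕ} [Fact p.Prime] {Y C S W : Subgroup H}

/-- a component not `S`-conjugate to the component `K₀` centralizes `W`. -/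
theorem commutator_W_eq_bot
    (horb : ∀ K : Subgroup H, Cfsg.IsComponent K → K ≤ Y →
      W ≤ ⨆ s : ↥S, K.map (MulAut.conj (s : H)).toMonoidHom)
    {K K₀ : Subgroup H} (hK : Cfsg.IsComponent K) (h0 : Cfsg.IsComponent K₀) (h0Y : K₀ ≤ Y)
    (hne : ∀ s ∈ S, K ≠ K₀.map (MulAut.conj s).toMonoidHom) : ⁅W, K⁆ = ⊥ := by
  rw [Subgroup.commutator_eq_bot_iff_le_centralizer]
  refine (horb K₀ h0 h0Y).trans (iSup_le fun s => ?_)
  rw [← Subgroup.commutator_eq_bot_iff_le_centralizer]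
  have hc : Cfsg.IsComponent (K₀.map (MulAut.conj (s : H)).toMonoidHom) :=
    Cfsg.Agent.Lib.Helper29_Local.isComponent_map_mulEquiv (MulAut.conj (s : H)) h0
  exact Cfsg.Agent.Lib.Helper21_Components.IsComponent.commutator_eq_bot_of_ne hc hK
    (fun h => hne s s.2 h.symm)

theorem trans (hb : BarHyp p Y C S W)
    (hgen : Y = sSup {K : Subgroup H | Cfsg.IsComponent K ∧ K ≤ Y})
    (horb : ∀ K : Subgroup H, Cfsg.IsComponent K → K ≤ Y →
      W ≤ ⨆ s : ↥S, K.map (MulAut.conj (s : H)).toMonoidHom)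
    {K₁ K₂ : Subgroup H} (h1 : Cfsg.IsComponent K₁) (h1Y : K₁ ≤ Y)
    (h2 : Cfsg.IsComponent K₂) (h2Y : K₂ ≤ Y) :
    ∃ s ∈ S, K₂ = K₁.map (MulAut.conj s).toMonoidHom := by
  by_contra hcon
  push Not at hcon
  -- every component inside `Y` centralizes `W`
  have hall : ∀ K : Subgroup H, Cfsg.IsComponent K → K ≤ Y → ⁅W, K⁆ = ⊥ := by
    intro K hK hKY
    by_cases ha : ∀ s ∈ S, K ≠ K₁.map (MulAut.conj s).toMonoidHom
    · exact commutator_W_eq_bot horb hK h1 h1Y ha
    · refine commutator_W_eq_bot horb hK h2 h2Y ?_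
      push Not at ha
      obtain ⟨s, hs, hKs⟩ := ha
      intro s' hs' hKs'
      apply hcon (s'⁻¹ * s) (S.mul_mem (S.inv_mem hs') hs)
      rw [← map_conj_map_conj, ← hKs, hKs', map_conj_map_conj, inv_mul_cancel, map_conj_one]
  have hYW : Y ≤ Subgroup.centralizer (W : Set H) := by
    rw [hgen]
    apply sSup_le
    rintro K ⟨hK, hKY⟩
    rw [← Subgroup.commutator_eq_bot_iff_le_centralizer, Subgroup.commutator_comm]
    exact hall K hK hKY
  have hWY : W ≤ Subgroup.centralizer (Y : Set H) := by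
    rw [← Subgroup.commutator_eq_bot_iff_le_centralizer, Subgroup.commutator_comm,
      Subgroup.commutator_eq_bot_iff_le_centralizer]
    exact hYW
  have hYn := hb.hYn
  have hn : (Y ⊓ Subgroup.centralizer (Y : Set H)).Normal := inferInstance
  have hle := hb.Y_le_of_W_le hn (le_inf hb.W_le_Y hWY)
  apply hb.commutator_self_ne_bot
  rw [Subgroup.commutator_eq_bot_iff_le_centralizer]
  exact hle.trans inf_le_right

end Cfsg.Agent.Lib.Helper99_Iso_TRANS
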