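import Mathlib
import Cfsg.Agent.Lib.Helper30_OMDefs

/-!
# S2346 package OM-PHANTOM (architect helper30): the phantom degree `d⁻_n - 1` is killed by the
class-sum divisibility (pure arithmetic)
-/

set_option autoImplicit false

namespace Cfsg.Agent.Lib.Helper99_OM_PHANTOM

open Cfsg.Agent.Lib.Helper30_OMDefs

theorem sq_sub_one (q : ℕ) (hq : 1 ≤ q) : q ^ 2 - 1 = (q - 1) * (q + 1) := by
  obtain ⟨a, rfl⟩ : ∃ a, q = a + 1 := ⟨q - 1, by omega⟩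
  rw [Nat.add_sub_cancel]
  have : (a + 1) ^ 2 = a * (a + 1 + 1) + 1 := by ring
  rw [this, Nat.add_sub_cancel]

theorem dvd_key_minus (q n : ℕ) (hq : 2 ≤ q) (hn : 2 ≤ n) :
    (q ^ 2 - 1) ∣ (q ^ n + 1) * (q ^ (n - 1) - q) := by
  obtain ⟨k, rfl⟩ : ∃ k, n = k + 2 := ⟨n - 2, by omega⟩
  have e : q ^ (k + 2 - 1) - q = q * (q ^ k - 1) := by
    have h1 : 1 ≤ q ^ k := Nat.one_le_pow _ _ (by omega)
    rw [show k + 2 - 1 = k + 1 by omega, pow_succ, Nat.mul_sub, mul_one, mul_comm]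
  rw [e]
  rcases Nat.even_or_odd' k with ⟨j, rfl | rfl⟩
  · apply Dvd.dvd.mul_left
    apply Dvd.dvd.mul_left
    have := Nat.sub_dvd_pow_sub_pow (q ^ 2) 1 j
    rwa [one_pow, ← pow_mul] at this
  · have h1 : q - 1 ∣ q ^ (2 * j + 1) - 1 := by
      have := Nat.sub_dvd_pow_sub_pow q 1 (2 * j + 1)
      rwa [one_pow] at this
    have h2 : q + 1 ∣ q ^ (2 * j + 1 + 2) + 1 := by
      have h3 : Odd (2 * j + 1 + 2) := ⟨j + 1, by ring⟩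
      have := Odd.nat_add_dvd_pow_add_pow q 1 h3
      rwa [one_pow] at this
    rw [sq_sub_one q (by omega), mul_comm (q - 1) (q + 1)]
    exact mul_dvd_mul h2 (Dvd.dvd.mul_left h1 q)

theorem key_minus (q n : ℕ) (hq : 2 ≤ q) (hn : 2 ≤ n) :
    (q ^ 2 - 1) * dminus q n = (q ^ n + 1) * (q ^ (n - 1) - q) := by
  unfold dminus
  exact Nat.mul_div_cancel' (dvd_key_minus q n hq hn)

theorem key_minus_int (q n : ℕ) (hq : 2 ≤ q) (hn : 2 ≤ n) :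
    ((q : ℤ) ^ 2 - 1) * (dminus q n : ℤ) = ((q : ℤ) ^ n + 1) * ((q : ℤ) ^ (n - 1) - q) := by
  have h := key_minus q n hq hn
  have h1 : 1 ≤ q ^ 2 := Nat.one_le_pow _ _ (by omega)
  have h2 : q ≤ q ^ (n - 1) := by
    calc q = q ^ 1 := (pow_one q).symm
      _ ≤ q ^ (n - 1) := Nat.pow_le_pow_right (by omega) (by omega)
  zify [h1, h2] at h
  exact h

theorem sminus_int (q m : ℕ) (hq : 2 ≤ q) (hm : 1 ≤ m) :
    (sminus q m : ℤ) = (q : ℤ) ^ (2 * m - 1) - (q : ℤ) ^ m + (q : ℤ) ^ (m - 1) - 1 := by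
  unfold sminus
  have h1 : q ^ m ≤ q ^ (2 * m - 1) := Nat.pow_le_pow_right (by omega) (by omega)
  have h2 : 1 ≤ q ^ (m - 1) := Nat.one_le_pow _ _ (by omega)
  have h4 : 1 ≤ q ^ (2 * m - 1) - q ^ m + q ^ (m - 1) := by omega
  rw [Nat.cast_sub h4, Nat.cast_add, Nat.cast_sub h1]
  push_cast
  ring

/-- the integer inequality `q^(2n-3) ≤ D` -/
theorem le_int (Q y D : ℤ) (hQ2 : 2 ≤ Q) (hyQ : Q ^ 2 ≤ y)
    (e1 : (Q ^ 2 - 1) * (D + 1) = (Q ^ 2 * y + 1) * (Q * y - Q)) : Q * y ^ 2 ≤ D := by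
  have e2 : (Q ^ 2 - 1) * D = (Q * y + 1) * (Q ^ 2 * y - Q ^ 2 - Q + 1) := by
    linear_combination e1
  have h0 : (0 : ℤ) < Q ^ 2 - 1 := by nlinarith
  have h3 : (Q ^ 2 - 1) * (Q * y ^ 2) ≤ (Q ^ 2 - 1) * D := by
    rw [e2]
    have hy0 : 0 ≤ y := by nlinarith
    have a1 : 0 ≤ Q * y * (y - Q ^ 2) :=
      mul_nonneg (mul_nonneg (by linarith) hy0) (by linarith)
    have a3 : Q * Q ^ 2 ≤ Q * y := mul_le_mul_of_nonneg_left hyQ (by linarith)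
    have a4 : Q ^ 2 + Q ≤ Q * Q ^ 2 := by nlinarith
    have a2 : 0 ≤ Q * y - Q ^ 2 - Q + 1 := by linarith
    have e : (Q * y + 1) * (Q ^ 2 * y - Q ^ 2 - Q + 1) - (Q ^ 2 - 1) * (Q * y ^ 2) =
        Q * y * (y - Q ^ 2) + (Q * y - Q ^ 2 - Q + 1) := by ring
    linarith
  exact le_of_mul_le_mul_left h3 h0

/-- the integer core of the phantom argument -/
theorem core_int (Q y D Tc c : ℤ) (hQ2 : 2 ≤ Q) (hyQ : Q ^ 2 ≤ y)
    (e1 : (Q ^ 2 - 1) * (D + 1) = (Q ^ 2 * y + 1) * (Q * y - Q))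
    (hc' : c + Q * y ^ 2 = D)
    (eT : Tc * (Q ^ 2 - 1) = (Q ^ 2 * y + 1) * (Q * y - 1) * ((Q * y + 1) * (y - 1)))
    (hcopy : IsCoprime D Q → IsCoprime D y) (hdz : D ∣ Tc * c) : False := by
  have e2 : (Q ^ 2 - 1) * D = (Q * y + 1) * (Q ^ 2 * y - Q ^ 2 - Q + 1) := by
    linear_combination e1
  -- Step A
  have hdA : D ∣ Tc * (Q * y ^ 2) := by
    have e : Tc * (Q * y ^ 2) = D * Tc - Tc * c := by rw [← hc']; ring
    rw [e]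
    exact dvd_sub (dvd_mul_right _ _) hdz
  -- Step B
  have hcopQ : IsCoprime D Q :=
    ⟨Q ^ 2 - 1, Q - (Q ^ 2 * y + 1) * (y - 1), by linear_combination e1⟩
  have hcop : IsCoprime D (Q * y ^ 2) := hcopQ.mul_right (hcopy hcopQ).pow_right
  -- Step C
  have hdC : D ∣ Tc := hcop.dvd_of_dvd_mul_right hdA
  -- Step D
  have hdD : (Q * y + 1) * (Q ^ 2 * y - Q ^ 2 - Q + 1) ∣
      (Q * y + 1) * ((Q ^ 2 * y + 1) * (Q * y - 1) * (y - 1)) := by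
    rw [← e2]
    have e : (Q * y + 1) * ((Q ^ 2 * y + 1) * (Q * y - 1) * (y - 1)) = (Q ^ 2 - 1) * Tc := by
      linear_combination -eT
    rw [e]
    exact mul_dvd_mul_left _ hdC
  have hy0 : 0 ≤ y := by nlinarith
  have hne : Q * y + 1 ≠ 0 := by
    have h1 : 0 ≤ Q * y := mul_nonneg (by linarith) hy0
    exact ne_of_gt (by linarith)
  have hdD' : Q ^ 2 * y - Q ^ 2 - Q + 1 ∣ (Q ^ 2 * y + 1) * (Q * y - 1) * (y - 1) :=
    (mul_dvd_mul_iff_left hne).mp hdD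
  -- Step E
  have hdE : Q ^ 2 * y - Q ^ 2 - Q + 1 ∣ Q * (Q ^ 2 - 1) ^ 2 := by
    have e : Q * (Q ^ 2 - 1) ^ 2 =
        Q ^ 3 * ((Q ^ 2 * y + 1) * (Q * y - 1) * (y - 1)) -
        (Q ^ 2 * y - Q ^ 2 - Q + 1) * ((Q ^ 2 * y) ^ 2 + (Q ^ 2 * y) * (Q ^ 2 + Q - 1) +
          (Q ^ 2 + Q - 1) ^ 2 + (1 - Q - Q ^ 2) * (Q ^ 2 * y + (Q ^ 2 + Q - 1)) +
          (Q ^ 3 - Q - Q ^ 2)) := by ring
    rw [e]
    exact dvd_sub (hdD'.mul_left _) (dvd_mul_right _ _)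
  -- Step F
  have hcopX : IsCoprime (Q ^ 2 * y - Q ^ 2 - Q + 1) Q := ⟨1, Q + 1 - Q * y, by ring⟩
  have hdF : Q ^ 2 * y - Q ^ 2 - Q + 1 ∣ (Q ^ 2 - 1) ^ 2 := hcopX.dvd_of_dvd_mul_left hdE
  -- Step G
  have h0 : (0 : ℤ) < Q ^ 2 - 1 := by nlinarith
  have hpos : (0 : ℤ) < (Q ^ 2 - 1) ^ 2 := by positivity
  have hle := Int.le_of_dvd hpos hdF
  have a1 : Q ^ 2 * Q ^ 2 ≤ Q ^ 2 * y := mul_le_mul_of_nonneg_left hyQ (by positivity)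
  have a2 : Q < Q ^ 2 := by nlinarith
  have e : (Q ^ 2 - 1) ^ 2 = Q ^ 2 * Q ^ 2 - 2 * Q ^ 2 + 1 := by ring
  linarith

theorem phantom1 (q n : ℕ) (hq : 2 ≤ q) (hn : 4 ≤ n) (D Tc : ℕ) (hD : D + 1 = dminus q n)
    (hT : Tc * (q * (q ^ 2 - 1)) = sminus q n * (q * sminus q (n - 1))) :
    ∃ c : ℕ, c + q ^ (2 * n - 3) = D ∧ ¬ (D ∣ Tc * c) := by
  obtain ⟨k, rfl⟩ : ∃ k, n = k + 2 := ⟨n - 2, by omega⟩
  have hk : 2 ≤ k := by omega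
  have hkey := key_minus_int q (k + 2) hq (by omega)
  have hs1 := sminus_int q (k + 2 - 1) hq (by omega)
  have hs2 := sminus_int q (k + 2) hq (by omega)
  rw [show k + 2 - 1 = k + 1 by omega] at hkey hs1 hT
  rw [show 2 * (k + 1) - 1 = 2 * k + 1 by omega, show k + 1 - 1 = k by omega] at hs1
  rw [show 2 * (k + 2) - 1 = 2 * k + 3 by omega, show k + 2 - 1 = k + 1 by omega] at hs2
  obtain ⟨Q, hQ⟩ : ∃ Q : ℤ, Q = (q : ℤ) := ⟨_, rfl⟩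
  obtain ⟨y, hy⟩ : ∃ y : ℤ, y = Q ^ k := ⟨_, rfl⟩
  have hQ2 : (2 : ℤ) ≤ Q := by rw [hQ]; exact_mod_cast hq
  have hyQ : Q ^ 2 ≤ y := by rw [hy]; exact pow_le_pow_right₀ (by linarith) hk
  have hD' : ((D : ℤ) + 1) = (dminus q (k + 2) : ℤ) := by exact_mod_cast hD
  have e1 : (Q ^ 2 - 1) * ((D : ℤ) + 1) = (Q ^ 2 * y + 1) * (Q * y - Q) := by
    rw [hD', hy, hQ, hkey]; ring
  have hle : Q * y ^ 2 ≤ (D : ℤ) := le_int Q y D hQ2 hyQ e1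
  have hpow : ((q ^ (2 * (k + 2) - 3) : ℕ) : ℤ) = Q * y ^ 2 := by
    rw [show 2 * (k + 2) - 3 = 2 * k + 1 by omega, hy, hQ]
    push_cast
    ring
  have hleN : q ^ (2 * (k + 2) - 3) ≤ D := by
    have : ((q ^ (2 * (k + 2) - 3) : ℕ) : ℤ) ≤ (D : ℤ) := by rw [hpow]; exact hle
    exact_mod_cast this
  refine ⟨D - q ^ (2 * (k + 2) - 3), Nat.sub_add_cancel hleN, ?_⟩
  obtain ⟨c, hc⟩ : ∃ c : ℕ, c = D - q ^ (2 * (k + 2) - 3) := ⟨_, rfl⟩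
  rw [← hc]
  have hc' : (c : ℤ) + Q * y ^ 2 = D := by
    rw [hc, Nat.cast_sub hleN, hpow]; ring
  intro hdvd
  have hdz : (D : ℤ) ∣ (Tc : ℤ) * (c : ℤ) := by exact_mod_cast hdvd
  have es1 : (sminus q (k + 1) : ℤ) = (Q * y + 1) * (y - 1) := by
    rw [hs1, hy, hQ]; ring
  have es2 : (sminus q (k + 2) : ℤ) = (Q ^ 2 * y + 1) * (Q * y - 1) := by
    rw [hs2, hy, hQ]; ring
  have hTz : (Tc : ℤ) * (Q * (Q ^ 2 - 1)) =
      (sminus q (k + 2) : ℤ) * (Q * (sminus q (k + 1) : ℤ)) := by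
    have h1 : 1 ≤ q ^ 2 := Nat.one_le_pow _ _ (by omega)
    have := hT
    zify [h1] at this
    rw [hQ]; exact this
  rw [es1, es2] at hTz
  have eT : (Tc : ℤ) * (Q ^ 2 - 1) = (Q ^ 2 * y + 1) * (Q * y - 1) * ((Q * y + 1) * (y - 1)) := by
    have hQne : Q ≠ 0 := by linarith
    apply mul_left_cancel₀ hQne
    linear_combination hTz
  exact core_int Q y D Tc c hQ2 hyQ e1 hc' eT (fun h => by rw [hy]; exact h.pow_right) hdz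

end Cfsg.Agent.Lib.Helper99_OM_PHANTOM
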