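import Mathlib
import Cfsg.Agent.Lib.Helper95_OPDefs
import Cfsg.Agent.Lib.Helper95_OPBasic
import Cfsg.Agent.Lib.Helper48_OODefs
import Cfsg.Agent.Lib.Helper87_OO2Defs
import Cfsg.Agent.Lib.Helper87_OO2Defs2
import Cfsg.Agent.Lib.Helper85_OO2_RankOne
import Cfsg.Agent.Lib.Helper85_OO2_LemK
import Cfsg.Agent.Lib.Helper16_OO2B3Defs

set_option autoImplicit false

/-!
OO2 market, wave 3 (base `n = 3` of S2344; co-cutter helper16), package OO2-B3-FAM: in a finite group, the operators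
`ρ g`, `g` in the subgroup generated by `S`, lie in the submonoid generated by the `ρ s`, `s ∈ S`.
-/

namespace Cfsg.Agent.Lib.Helper99_OO2_B3_FAM

open Module Cfsg.Agent.Lib.Helper94_OrthSmall Cfsg.Agent.Lib.Helper44_QuadClass
  Cfsg.Agent.Lib.Helper14_OmegaSimple Cfsg.Agent.Lib.Helper38_MIODefs
  Cfsg.Agent.Lib.Helper95_OPDefs Cfsg.Agent.Lib.Helper95_OPBasic Cfsg.Agent.Lib.Helper48_OODefs
  Cfsg.Agent.Lib.Helper87_OO2Defs Cfsg.Agent.Lib.Helper16_OO2B3Defs

section partM

open Cfsg.Agent.Lib.Helper85_OO2_RankOne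

variable {F : Type*} [Field F] [Fintype F] {X : Type*} [AddCommGroup X] [Module ℂ X]
  [FiniteDimensional ℂ X]

/-! ## OO2-B3-FAM (M): a finite family of operators closed under left multiplication -/
theorem exists_family {G : Type*} [Group G] [Finite G] (ρ : Representation ℂ G X) (S : Set G) :
    ∃ (K : Subgroup G), S ⊆ K ∧
      (∀ g : ↥K, ρ (g : G) ∈ Submonoid.closure (ρ '' S)) := by
  refine ⟨Subgroup.closure S, Subgroup.subset_closure, ?_⟩
  rintro ⟨g, hg⟩
  have h1 : g ∈ (Subgroup.closure S).toSubmonoid := hg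
  rw [Subgroup.closure_toSubmonoid_of_finite] at h1
  have h2 : ρ g ∈ (Submonoid.closure S).map (ρ : G →* Module.End ℂ X) := ⟨g, h1, rfl⟩
  rw [MonoidHom.map_mclosure] at h2
  exact h2

end partM

end Cfsg.Agent.Lib.Helper99_OO2_B3_FAM
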