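import Mathlib
import Cfsg.Agent.Lib.Helper95_OPDefs
import Cfsg.Agent.Lib.Helper95_OPBasic
import Cfsg.Agent.Lib.Helper48_OODefs
import Cfsg.Agent.Lib.Helper87_OO2Defs
import Cfsg.Agent.Lib.Helper87_OO2Defs2
import Cfsg.Agent.Lib.Helper85_OO2_RankOne
import Cfsg.Agent.Lib.Helper85_OO2_LemK
import Cfsg.Agent.Lib.Helper85_OO2_LemK2
import Cfsg.Agent.Lib.Helper16_OO2B3Defs
import Cfsg.Agent.Lib.Helper99_OO2_B3_FAM

set_option autoImplicit false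

/-!
OO2 market, wave 3 (base `n = 3` of S2344; co-cutter helper16), package OO2-B3-C5CORE: the abstract core of step (C5),
"the phantom `dim F₂ = 2` is impossible": Lemma K for `(K₂', M2)` plus an eigenvector of `J` on `F₂` gives
`dim F₂ ≤ 1`.
-/

namespace Cfsg.Agent.Lib.Helper99_OO2_B3_C5CORE

open Module Cfsg.Agent.Lib.Helper94_OrthSmall Cfsg.Agent.Lib.Helper44_QuadClass
  Cfsg.Agent.Lib.Helper14_OmegaSimple Cfsg.Agent.Lib.Helper38_MIODefs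
  Cfsg.Agent.Lib.Helper95_OPDefs Cfsg.Agent.Lib.Helper95_OPBasic Cfsg.Agent.Lib.Helper48_OODefs
  Cfsg.Agent.Lib.Helper87_OO2Defs Cfsg.Agent.Lib.Helper16_OO2B3Defs

section partM

open Cfsg.Agent.Lib.Helper85_OO2_RankOne

variable {F : Type*} [Field F] [Fintype F] {X : Type*} [AddCommGroup X] [Module ℂ X]
  [FiniteDimensional ℂ X]

omit [FiniteDimensional ℂ X] in
/-- `eop` maps an `x`-stable submodule into itself. -/
theorem aux_eop_mem (ψ : AddChar F ℂ) (x : F → Module.End ℂ X) (N : Submodule ℂ X)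
    (Nx : ∀ s : F, ∀ m ∈ N, x s m ∈ N) (c : F) {m : X} (hm : m ∈ N) : eop ψ x c m ∈ N := by
  rw [eop_apply]
  exact N.smul_mem _ (N.sum_mem fun s _ => N.smul_mem _ (Nx s m hm))

omit [FiniteDimensional ℂ X] in
/-- If `n y₀` were `X`-fixed for a non-zero `y₀ ∈ F₂`, the relation `rel 1` would give `y₀ = - y₀`. -/
theorem aux_n_not_fix (x : F → Module.End ℂ X) (n : Module.End ℂ X) (h : F → Module.End ℂ X)
    (R : SL2Rel x n h) (F2 : Submodule ℂ X) (hFx : F2 ≤ fixX x)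
    (hh : ∀ t : F, t ≠ 0 → ∀ y ∈ F2, h t y = y)
    (hJ : ∀ y ∈ F2, Jop x n y ∈ F2)
    (hnofix : ∀ y ∈ F2, n y = y → y = 0)
    (y₀ : X) (hy₀ : y₀ ∈ F2) (hne : y₀ ≠ 0) : n y₀ ∉ fixX x := by
  intro hfix
  have hq : (Fintype.card F : ℂ) ≠ 0 := by
    exact_mod_cast Fintype.card_ne_zero
  have hm1 : (-1 : F) ≠ 0 := neg_ne_zero.mpr one_ne_zero
  -- `n y₀ ∈ F2`
  have hJy : Jop x n y₀ = (Fintype.card F : ℂ) • n y₀ := by
    rw [Cfsg.Agent.Lib.Helper85_OO2_RankOne.Jop, Module.End.mul_apply]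
    exact Pop_of_mem_fixX hfix
  have hny : n y₀ ∈ F2 := by
    have : n y₀ = (Fintype.card F : ℂ)⁻¹ • Jop x n y₀ := by
      rw [hJy, smul_smul, inv_mul_cancel₀ hq, one_smul]
    rw [this]
    exact F2.smul_mem _ (hJ y₀ hy₀)
  have hnn : n (n y₀) = y₀ := by
    have := congrArg (fun f => f y₀) R.nn
    simp only [Module.End.mul_apply] at this
    rw [this, hh (-1) hm1 y₀ hy₀]
  -- `y₀ + n y₀` is `n`-fixed, hence zero
  have hsum : y₀ + n y₀ = 0 := by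
    apply hnofix _ (F2.add_mem hy₀ hny)
    rw [map_add, hnn, add_comm]
  have hneg : n y₀ = -y₀ := eq_neg_of_add_eq_zero_right hsum
  -- the relation `rel 1`
  have hrel := congrArg (fun f => f y₀) (R.rel 1 one_ne_zero)
  simp only [Module.End.mul_apply] at hrel
  have hx : ∀ s, x s y₀ = y₀ := fun s => hFx hy₀ s
  have hL : n (x 1 (n y₀)) = y₀ := by
    rw [hneg, map_neg, hx, map_neg, hneg, neg_neg]
  have hR : x (-(1 : F)⁻¹) (n (h (-1) (x (-(1 : F)⁻¹) y₀))) = -y₀ := by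
    rw [hx, hh (-1) hm1 y₀ hy₀, hneg, map_neg, hx]
  rw [hL, hR] at hrel
  -- `y₀ = - y₀`
  have h2 : (2 : ℂ) • y₀ = 0 := by
    rw [two_smul]
    nth_rewrite 1 [hrel]
    exact neg_add_cancel y₀
  rcases smul_eq_zero.mp h2 with h | h
  · exact two_ne_zero h
  · exact hne h

/-! ## OO2-B3-C5CORE (L): (C5), the phantom `dim F_2 = 2` is impossible -/
theorem phantom_core (ψ : AddChar F ℂ) (hψ : ψ.IsPrimitive)
    (x : F → Module.End ℂ X) (n : Module.End ℂ X) (h : F → Module.End ℂ X)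
    (τ τ' : F → Module.End ℂ X) (R : SL2Rel x n h)
    (F2 M2 : Submodule ℂ X) (hFM : F2 ≤ M2) (hFx : F2 ≤ fixX x)
    (hMF : ∀ m ∈ M2, m ∈ fixX x → m ∈ F2)
    (Mx : ∀ s : F, ∀ m ∈ M2, x s m ∈ M2) (Mn : ∀ m ∈ M2, n m ∈ M2)
    (Mh : ∀ m ∈ M2, h (-1) m ∈ M2)
    (hh : ∀ t : F, t ≠ 0 → ∀ y ∈ F2, h t y = y)
    (hJ : ∀ y ∈ F2, Jop x n y ∈ F2)
    (hnofix : ∀ y ∈ F2, n y = y → y = 0)
    (hline : ∀ c : F, c ≠ 0 → ∀ m ∈ M2, ∀ m' ∈ M2, (∀ s : F, x s m = ψ (c * s) • m) →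
      (∀ s : F, x s m' = ψ (c * s) • m') → m' ≠ 0 → ∃ a : ℂ, m = a • m')
    (hτx : ∀ d s : F, d ≠ 0 → τ d * x s = x (d * s) * τ d)
    (hτn : ∀ d : F, d ≠ 0 → τ d * n = n * τ' d)
    (hτinj : ∀ d : F, d ≠ 0 → ∀ z : X, τ d z = 0 → z = 0)
    (hτ' : ∀ d : F, d ≠ 0 → ∀ y ∈ F2, τ' d y = y)
    {G : Type*} [Group G] [Finite G] (ρ : Representation ℂ G X) (gx : F → G) (gn : G)
    (hgx : ∀ s : F, x s = ρ (gx s)) (hgn : n = ρ gn) :
    finrank ℂ ↥F2 ≤ 1 := by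
  classical
  have hq : (Fintype.card F : ℂ) ≠ 0 := by
    exact_mod_cast Fintype.card_ne_zero
  by_cases hbot : F2 = ⊥
  · rw [hbot, finrank_bot]
    exact Nat.zero_le 1
  -- an eigenvector of `J` on `F2`
  have hnt : Nontrivial ↥F2 := Submodule.nontrivial_iff_ne_bot.2 hbot
  obtain ⟨μ, hμ⟩ := Module.End.exists_eigenvalue ((Jop x n).restrict hJ)
  obtain ⟨v, hv⟩ := hμ.exists_hasEigenvector
  have hv1 : (Jop x n).restrict hJ v = μ • v := hv.apply_eq_smul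
  have hv0 : v ≠ 0 := hv.2
  set y₀ : X := (v : X) with hy₀def
  have hy₀ : y₀ ∈ F2 := v.2
  have hy₀ne : y₀ ≠ 0 := fun h0 => hv0 (Subtype.ext h0)
  have hJy₀ : Jop x n y₀ = μ • y₀ := by
    have := congrArg Subtype.val hv1
    simpa using this
  -- `n y₀` is not `X`-fixed
  have hnfix : n y₀ ∉ fixX x := aux_n_not_fix x n h R F2 hFx hh hJ hnofix y₀ hy₀ hy₀ne
  -- all non-trivial isotypic components of `n y₀` are non-zero
  obtain ⟨c₀, hc₀, hec₀⟩ := exists_eop_ne_zero hψ R.x_zero R.x_add hq hnfix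
  have hall : ∀ c : F, c ≠ 0 → eop ψ x c (n y₀) ≠ 0 := by
    intro c hc
    have hd : c₀ / c ≠ 0 := div_ne_zero hc₀ hc
    have h1 := eop_n_ne_zero_of_tau ψ hd (fun s => hτx (c₀ / c) s hd) (hτn (c₀ / c) hd)
      (hτinj (c₀ / c) hd) (y₀ := y₀) (a := 1) (by rw [one_smul]; exact hτ' (c₀ / c) hd y₀ hy₀) hec₀
    have h2 : c₀ / (c₀ / c) = c := by
      field_simp
    rw [h2] at h1
    exact h1
  -- the data of Lemma K
  have D : KData ψ x n h M2 y₀ :=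
    { R := R
      hψ := hψ
      hq := hq
      Nx := Mx
      Nn := Mn
      Nh := Mh
      y₀N := hFM hy₀
      y₀fix := hFx hy₀
      y₀h := fun t ht => ⟨1, by rw [one_smul]; exact hh t ht y₀ hy₀⟩
      line := by
        intro c hc y hy
        exact hline c hc _ (aux_eop_mem ψ x M2 Mx c hy) _ (aux_eop_mem ψ x M2 Mx c (Mn y₀ (hFM hy₀)))
          (fun s => x_eop_apply ψ R.x_add c s y) (fun s => x_eop_apply ψ R.x_add c s (n y₀)) (hall c hc) }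
  -- the family of operators
  obtain ⟨K, hSK, hK⟩ := Cfsg.Agent.Lib.Helper99_OO2_B3_FAM.exists_family ρ (Set.range gx ∪ {gn})
  have hgxK : ∀ s, gx s ∈ K := fun s => hSK (Or.inl ⟨s, rfl⟩)
  have hgnK : gn ∈ K := hSK (Or.inr rfl)
  have hcl : Submonoid.closure (ρ '' (Set.range gx ∪ {gn})) ≤ Triv M2 (Z0 x n y₀) := by
    rw [Submonoid.closure_le]
    rintro _ ⟨g, hg, rfl⟩
    rcases hg with ⟨s, rfl⟩ | hg
    · rw [SetLike.mem_coe, ← hgx]
      exact D.x_mem_Triv s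
    · rw [Set.mem_singleton_iff] at hg
      rw [SetLike.mem_coe, hg, ← hgn]
      exact D.n_mem_Triv
  have : Fintype ↥K := Fintype.ofFinite ↥K
  have hd2 := fun (y : X) (hy : y ∈ M2) => D.d2 (ι := ↥K) (fun g => ρ (g : G)) (fun g => hcl (hK g))
    (fun s => ⟨Equiv.mulLeft (⟨gx s, hgxK s⟩ : ↥K), fun i => by
      rw [hgx s, ← map_mul]
      rfl⟩)
    ⟨Equiv.mulLeft (⟨gn, hgnK⟩ : ↥K), fun i => by
      rw [hgn, ← map_mul]
      rfl⟩ hy
  -- `F2 ≤ span {y₀}`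
  have hle : F2 ≤ Submodule.span ℂ {y₀} := by
    intro y hy
    obtain ⟨y₁, hy₁M, hy₁x, hy₁n, -, hspan⟩ := hd2 y (hFM hy)
    have hy₁F : y₁ ∈ F2 := hMF y₁ hy₁M hy₁x
    have hy₁0 : y₁ = 0 := hnofix y₁ hy₁F hy₁n
    have h1 := hspan (hFx hy)
    rw [hy₁0, sub_zero, hJy₀] at h1
    rw [Submodule.mem_span_pair] at h1
    obtain ⟨a, b, hab⟩ := h1
    rw [Submodule.mem_span_singleton]
    refine ⟨a + b * μ, ?_⟩
    rw [← hab, add_smul, mul_smul]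
  calc finrank ℂ ↥F2 ≤ finrank ℂ ↥(Submodule.span ℂ {y₀}) := Submodule.finrank_mono hle
    _ ≤ 1 := finrank_span_singleton hy₀ne |>.le

end partM

end Cfsg.Agent.Lib.Helper99_OO2_B3_C5CORE
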