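import Mathlib
import Cfsg.Agent.Lib.Helper38_OTDefs
import Cfsg.Agent.Lib.Helper17_UT_BAS1
import Cfsg.Agent.Lib.Helper44_UT_BAS4
import Cfsg.Agent.Lib.Helper53_UT_ZF

set_option autoImplicit false
set_option linter.unusedSectionVars false
set_option linter.unusedVariables false

/-!
# OTENS4 package OT-ZF (architect helper38; formalised by helper99)

Elements of `Z(x ⊗ B)` (twin of UT-ZF): `zformO` (an isometry `g` of `Q` with `(g - 1) V ≤ x ⊗ B` is
`1 + P_x ⊗ S`, `S` alternating), `radO_apply` (`RadStd-II` in applicable form).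
-/

namespace Cfsg.Agent.Lib.Helper99_OT_ZF

open Matrix Module
open Cfsg.Agent.Lib.Helper98_ExtDefs Cfsg.Agent.Lib.Helper97_TensDefs
open Cfsg.Agent.Lib.Helper94_Herm
open Cfsg.Agent.Lib.Helper67_UT2Defs Cfsg.Agent.Lib.Helper37_UTDefs
open Cfsg.Agent.Lib.Helper37_UTPairDefs
open Cfsg.Agent.Lib.Helper94_OrthSmall Cfsg.Agent.Lib.Helper94_OrthSiegel
open Cfsg.Agent.Lib.Helper67_T2ODefs (IsAltMap aw)
open Cfsg.Agent.Lib.Helper38_OTDefs

variable {F : Type*} [Field F] {ι κ : Type*} [Fintype ι] [Fintype κ] [DecidableEq ι]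
  [DecidableEq κ]
variable {α : LinearMap.BilinForm F (ι → F)} {β : LinearMap.BilinForm F (κ → F)}
variable {Q : Matrix ι κ F → F} {M : Subgroup (Matrix ι κ F ≃ₗ[F] Matrix ι κ F)}

/-- an alternating form is skew-symmetric -/
theorem h99_alt_swap {W : Type*} [AddCommGroup W] [Module F W] {ω : LinearMap.BilinForm F W}
    (hω : ∀ x, ω x x = 0) (x y : W) : ω x y = - ω y x := by
  have h := hω (x + y)
  simp only [map_add, LinearMap.add_apply, hω x, hω y, zero_add, add_zero] at h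
  exact eq_neg_of_add_eq_zero_right h

/-- the tensor form of two nondegenerate forms is nondegenerate -/
theorem h99_tf_nondeg (hαN : NondegOn α ⊤) (hβN : NondegOn β ⊤) : NondegOn (tf α β) ⊤ := by
  intro X _ hX
  have hrow : ∃ i, X i ≠ 0 := by
    by_contra hcon
    push Not at hcon
    exact hX (by ext i j; rw [hcon i]; rfl)
  obtain ⟨i, hi⟩ := hrow
  obtain ⟨y, -, hy⟩ := hβN (X i) trivial hi
  have hc : ctrB β y X ≠ 0 := by
    intro h0
    apply hy
    have := congr_fun h0 i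
    rwa [ctrB_apply] at this
  obtain ⟨x, -, hx⟩ := hαN (ctrB β y X) trivial hc
  refine ⟨vecMulVec x y, trivial, ?_⟩
  rw [Cfsg.Agent.Lib.Helper17_UT_BAS1.tf_right_pure]
  exact hx

/-- a partner `x'` of a nonzero vector: `α x' x = 1` and `α x x' = -1` -/
theorem h99_exists_dual (hα : ∀ x, α x x = 0) (hαN : NondegOn α ⊤) {x : ι → F}
    (hx0 : x ≠ 0) : ∃ x' : ι → F, α x' x = 1 ∧ α x x' = -1 := by
  obtain ⟨y, -, hy⟩ := hαN x trivial hx0
  have hy' : α y x ≠ 0 := by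
    rw [h99_alt_swap hα y x]
    exact neg_ne_zero.mpr hy
  have h1 : α ((α y x)⁻¹ • y) x = 1 := by
    rw [map_smul, LinearMap.smul_apply, smul_eq_mul, inv_mul_cancel₀ hy']
  refine ⟨(α y x)⁻¹ • y, h1, ?_⟩
  rw [h99_alt_swap hα x, h1]

/-- an isometry `g` of `Q` with `(g - 1) V ≤ x ⊗ B` is `1 + P_x ⊗ S`, `S` alternating -/
theorem zformO (hB : OTBase α β Q M) {x : ι → F} (hx0 : x ≠ 0)
    {g : Matrix ι κ F ≃ₗ[F] Matrix ι κ F} (hg : g ∈ oG Q)
    (h : ∀ X, g X - X ∈ fibB (κ := κ) x) :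
    ∃ S : (κ → F) →ₗ[F] (κ → F), IsAltMap β S ∧ ∀ X, g X = X + tm (rk1h α x) S X := by
  obtain ⟨x', hx'1, hx'2⟩ := h99_exists_dual hB.hα hB.hαN hx0
  have hND := h99_tf_nondeg hB.hαN hB.hβN
  have hgU : ∀ u v, tf α β (g u) (g v) = tf α β u v := oG_B Q (tf α β) hB.hQp hg
  -- step 1: `g - 1` kills `ker (ctrA α x)`
  have hker : ∀ v : Matrix ι κ F, ctrA α x v = 0 → g v - v = 0 := by
    intro v hv
    by_contra hne
    obtain ⟨Y, -, hY⟩ := hND (g v - v) trivial hne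
    apply hY
    obtain ⟨z, rfl⟩ := g.surjective Y
    obtain ⟨w, hw⟩ := h z
    have h1 : tf α β v (g z - z) = 0 := by
      rw [hw, Cfsg.Agent.Lib.Helper17_UT_BAS1.tf_right_pure', hv, map_zero,
        LinearMap.zero_apply]
    rw [map_sub, LinearMap.sub_apply, hgU v z]
    rw [map_sub] at h1
    rw [sub_eq_zero] at h1 ⊢
    exact h1.symm
  -- step 2: the map `S`
  let S : (κ → F) →ₗ[F] (κ → F) :=
    -(ctrA α x' ∘ₗ (g.toLinearMap - LinearMap.id) ∘ₗ vmR x')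
  have hS : ∀ w : κ → F, g (vecMulVec x' w) - vecMulVec x' w = vecMulVec x (S w) := by
    intro w
    obtain ⟨w0, hw0⟩ := h (vecMulVec x' w)
    have h2 : S w = w0 := by
      change -(ctrA α x' (g (vecMulVec x' w) - vecMulVec x' w)) = w0
      rw [hw0, Cfsg.Agent.Lib.Helper17_UT_BAS1.ctrA_pure, hx'2, neg_smul, one_smul, neg_neg]
    rw [h2, hw0]
  refine ⟨S, ?_, fun X => ?_⟩
  · -- `S` is alternating
    intro b
    have h1 : g (vecMulVec x' b) = vecMulVec x' b + vecMulVec x (S b) := by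
      rw [← hS b]
      abel
    have h2 := hg (vecMulVec x' b)
    rw [h1, hB.hQp, hB.hpure, hB.hpure, Cfsg.Agent.Lib.Helper17_UT_BAS1.tf_pure, hx'1, one_mul,
      zero_add, zero_add] at h2
    rw [h99_alt_swap hB.hβ, h2, neg_zero]
  · rw [Cfsg.Agent.Lib.Helper53_UT_ZF.h53_tm_rk1h_apply]
    have h3 : ctrA α x (X - vecMulVec x' (ctrA α x X)) = 0 := by
      rw [map_sub, Cfsg.Agent.Lib.Helper17_UT_BAS1.ctrA_pure, hx'1, one_smul, sub_self]
    have h4 := hker _ h3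
    rw [map_sub] at h4
    have h5 := hS (ctrA α x X)
    rw [← h5]
    have h6 : g X - X = g (vecMulVec x' (ctrA α x X)) - vecMulVec x' (ctrA α x X) := by
      rw [← sub_eq_zero, ← h4]
      abel
    rw [← h6]
    abel

/-- `RadStd-II` in applicable form: `g ∈ M`, `(g - 1) V ≤ x ⊗ B` ⇒ `g = 1 + s N_x` -/
theorem radO_apply (hB : OTBase α β Q M) (hII : RadStdII α M) {x : ι → F} (hx0 : x ≠ 0)
    {g : Matrix ι κ F ≃ₗ[F] Matrix ι κ F} (hg : g ∈ M)
    (h : ∀ X, g X - X ∈ fibB (κ := κ) x) :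
    ∃ s : F, ∀ X, g X = X + s • nII α x X := by
  have hgO : g ∈ oG Q := Subgroup.commutator_le_self _ (hB.hM hg)
  obtain ⟨S, -, hS⟩ := zformO hB hx0 hgO h
  obtain ⟨s, hs⟩ := hII x hx0 (hB.hα x) S ⟨g, hg, hS⟩
  refine ⟨s, fun X => ?_⟩
  rw [hS X, hs, Cfsg.Agent.Lib.Helper53_UT_ZF.h53_tm_smul_right]
  rfl

end Cfsg.Agent.Lib.Helper99_OT_ZF
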