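import Mathlib
import Cfsg.Prelude.Def_GeometricClasses
import Cfsg.Prelude.Def_Classical
import Cfsg.Agent.Lib.Helper13_OrthR2Defs
import Cfsg.Agent.Lib.Helper58_OrthR2_CL
import Cfsg.Agent.Lib.Helper35_OrthR2_A1
import Cfsg.Agent.Lib.Helper35_OrthR2_A2
import Cfsg.Agent.Lib.Helper10_OrthR2_A3
import Cfsg.Agent.Lib.Helper10_OrthR2_G1
import Cfsg.Agent.Lib.Helper13_OrthR2_G12
import Cfsg.Agent.Lib.Helper10_OrthR2_B1
import Cfsg.Agent.Lib.Helper58_OrthR2_B2
import Cfsg.Agent.Lib.Helper58_OrthR2_B3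
import Cfsg.Agent.Lib.Helper58_OrthR2_B4
import Cfsg.Agent.Lib.Helper99_OrthR2_B5
import Cfsg.Agent.Lib.Helper99_InvSub

/-!
The `r = 2` case (odd characteristic) of the action of `Ω^±_{2d}(q)` on totally singular `m`-spaces,
for a general nondegenerate quadratic form `Q` on `ι → F`, `card ι = 2d`: assembly of helper13's ORTHR2
packages (CL, A1, A2, A3, G1, G2, G3, B1, B2, B3, B4, B5).
-/

set_option autoImplicit false
open scoped MatrixGroups

namespace Cfsg.Agent.Lib.Helper99_OrthR2_Gen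

open Matrix Module Cfsg.Agent.Lib.Helper13_OrthR2Defs

variable {ι : Type} [Fintype ι] [DecidableEq ι] {F : Type*} [Field F]

open Cfsg.Agent.Lib.Helper58_OrthR2_CL (CL)
open Cfsg.Agent.Lib.Helper35_OrthR2_A1 (A1)
open Cfsg.Agent.Lib.Helper35_OrthR2_A2 (A2)
open Cfsg.Agent.Lib.Helper10_OrthR2_A3 (A3)
open Cfsg.Agent.Lib.Helper10_OrthR2_G1 (G1)
open Cfsg.Agent.Lib.Helper13_OrthR2_G12 (G2 G3)
open Cfsg.Agent.Lib.Helper10_OrthR2_B1 (B1)
open Cfsg.Agent.Lib.Helper58_OrthR2_B2 (B2)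
open Cfsg.Agent.Lib.Helper58_OrthR2_B3 (B3)
open Cfsg.Agent.Lib.Helper58_OrthR2_B4 (B4)
open Cfsg.Agent.Lib.Helper99_OrthR2_B5 (B5)

section basics

omit [Fintype ι] [DecidableEq ι] in
theorem ts_sup (Q : QuadraticForm F (ι → F)) {W₁ W₂ : Submodule F (ι → F)} (h₁ : TS Q W₁)
    (h₂ : TS Q W₂) (horth : ∀ u ∈ W₁, ∀ v ∈ W₂, QuadraticMap.polar (⇑Q) u v = 0) :
    TS Q (W₁ ⊔ W₂) := by
  intro w hw
  obtain ⟨u, hu, v, hv, rfl⟩ := Submodule.mem_sup.1 hw
  have h := horth u hu v hv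
  rw [QuadraticMap.polar, h₁ u hu, h₂ v hv] at h
  simpa using h

omit [Fintype ι] [DecidableEq ι] in
theorem ts_mono (Q : QuadraticForm F (ι → F)) {W₁ W₂ : Submodule F (ι → F)} (h : W₁ ≤ W₂)
    (h₂ : TS Q W₂) : TS Q W₁ := fun w hw => h₂ w (h hw)

omit [DecidableEq ι] in
/-- totally singular subspaces of a nondegenerate even-dimensional subspace: existence -/
theorem exists_ts [Fintype F] (h2 : (2 : F) ≠ 0) (Q : QuadraticForm F (ι → F))
    (U : Submodule F (ι → F)) (hU : ND Q U) (e : ℕ) (he : finrank F U = 2 * e) (k : ℕ)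
    (hk : k ≤ e) (hk' : ¬ Plus Q U → k + 1 ≤ e) :
    ∃ E : Submodule F (ι → F), E ≤ U ∧ TS Q E ∧ finrank F E = k := by
  by_cases hp : Plus Q U
  · obtain ⟨E₀, hE₀U, hE₀, hdim⟩ := hp
    obtain ⟨X, hX, hXd⟩ :=
      Cfsg.Agent.Lib.Helper99_OrthR2_B5.exists_le_finrank_eq E₀ k (by omega)
    exact ⟨X, hX.trans hE₀U, ts_mono Q hX hE₀, hXd⟩
  · exact G2 h2 Q U hU k (by have := hk' hp; omega)

omit [DecidableEq ι] in
/-- totally singular subspaces of a nondegenerate even-dimensional subspace not of plus type: bound -/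
theorem ts_bound (Q : QuadraticForm F (ι → F)) (U : Submodule F (ι → F)) (hU : ND Q U) (e : ℕ)
    (he : finrank F U = 2 * e) (hnp : ¬ Plus Q U) (E : Submodule F (ι → F)) (hEU : E ≤ U)
    (hE : TS Q E) : finrank F E + 1 ≤ e := by
  have h1 := G3 Q U hU E hEU hE
  by_contra hcon
  apply hnp
  exact ⟨E, hEU, hE, by omega⟩

theorem inv_top (x : Matrix ι ι F) : Inv x (⊤ : Submodule F (ι → F)) := fun _ _ => Submodule.mem_top

/-- an element with square `-1` is not scalar when `-1` is not a square -/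
theorem nonscalar_of_sq_neg_one [Nonempty ι] (x : Matrix ι ι F) (hxx : x * x = -1)
    (hsq : ¬ IsSquare (-1 : F)) : ∀ z : F, x ≠ z • (1 : Matrix ι ι F) := by
  intro z hz
  apply hsq
  refine ⟨z, ?_⟩
  obtain ⟨i⟩ := ‹Nonempty ι›
  have h := congrFun (congrFun hxx i) i
  rw [hz] at h
  simp only [Matrix.mul_smul, Matrix.smul_apply, Matrix.one_apply_eq,
    smul_eq_mul, mul_one, Matrix.neg_apply] at h
  exact h.symm

end basics

section typeA

variable [Fintype F] (h2 : (2 : F) ≠ 0) (Q : QuadraticForm F (ι → F))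
  (hQ : (QuadraticMap.polarBilin Q).Nondegenerate)

include h2 hQ in
/-- type A: gluing totally singular subspaces of the two eigenspaces -/
theorem typeA_exists (x : Matrix ι ι F) (hiso : ∀ v : ι → F, Q (x *ᵥ v) = Q v) (hxx : x * x = 1)
    (e₁ e₂ : ℕ) (h₁ : finrank F (eigP x) = 2 * e₁) (h₂ : finrank F (eigM x) = 2 * e₂)
    (k₁ k₂ : ℕ) (hk₁ : k₁ ≤ e₁) (hk₁' : ¬ Plus Q (eigP x) → k₁ + 1 ≤ e₁)
    (hk₂ : k₂ ≤ e₂) (hk₂' : ¬ Plus Q (eigM x) → k₂ + 1 ≤ e₂) :
    ∃ W : Submodule F (ι → F), finrank F W = k₁ + k₂ ∧ TS Q W ∧ Inv x W := by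
  obtain ⟨hc, horth, hndP, hndM, -, hinv, -⟩ := A1 h2 Q hQ x hiso hxx
  obtain ⟨E₁, hE₁U, hE₁, hE₁d⟩ := exists_ts h2 Q _ hndP e₁ h₁ k₁ hk₁ hk₁'
  obtain ⟨E₂, hE₂U, hE₂, hE₂d⟩ := exists_ts h2 Q _ hndM e₂ h₂ k₂ hk₂ hk₂'
  refine ⟨E₁ ⊔ E₂, ?_, ?_, hinv E₁ E₂ hE₁U hE₂U⟩
  · have hd : Disjoint E₁ E₂ := hc.disjoint.mono hE₁U hE₂U
    rw [Cfsg.Agent.Lib.Helper99_InvSub.finrank_sup_of_disjoint hd, hE₁d, hE₂d]
  · exact ts_sup Q hE₁ hE₂ (fun u hu v hv => horth u (hE₁U hu) v (hE₂U hv))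

include h2 hQ in
/-- type A: the dimensions and types of the two eigenspaces -/
theorem typeA_dims (x : GL ι F) (hx : x ∈ Cfsg.Geo.omegaGL (⇑Q))
    (hiso : ∀ v : ι → F, Q ((x : Matrix ι ι F) *ᵥ v) = Q v)
    (hxx : (x : Matrix ι ι F) * (x : Matrix ι ι F) = 1)
    (hns : ∀ z : F, (x : Matrix ι ι F) ≠ z • (1 : Matrix ι ι F)) (d : ℕ)
    (hcard : Fintype.card ι = 2 * d) :
    ∃ e₁ e₂ : ℕ, 1 ≤ e₁ ∧ 1 ≤ e₂ ∧ e₁ + e₂ = d ∧
      finrank F (eigP (x : Matrix ι ι F)) = 2 * e₁ ∧ finrank F (eigM (x : Matrix ι ι F)) = 2 * e₂ ∧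
      (Plus Q (eigM (x : Matrix ι ι F)) ↔ IsSquare ((-1 : F) ^ e₂)) ∧
      (Plus Q ⊤ ↔ (Plus Q (eigP (x : Matrix ι ι F)) ↔ Plus Q (eigM (x : Matrix ι ι F)))) := by
  obtain ⟨hc, horth, hndP, hndM, -, -, hne⟩ := A1 h2 Q hQ (x : Matrix ι ι F) hiso hxx
  obtain ⟨hneP, hneM⟩ := hne hns
  obtain ⟨hev, hM⟩ := A2 h2 Q hQ x hx hxx
  have hsum := Submodule.finrank_add_eq_of_isCompl hc
  rw [Module.finrank_fintype_fun_eq_card, hcard] at hsum
  have hposP : 0 < finrank F (eigP (x : Matrix ι ι F)) := by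
    rw [Nat.pos_iff_ne_zero]
    intro h
    exact hneP (Submodule.finrank_eq_zero.1 h)
  have hposM : 0 < finrank F (eigM (x : Matrix ι ι F)) := by
    rw [Nat.pos_iff_ne_zero]
    intro h
    exact hneM (Submodule.finrank_eq_zero.1 h)
  obtain ⟨e₂, he₂⟩ := hev
  have hd₂ : finrank F (eigM (x : Matrix ι ι F)) = 2 * e₂ := by omega
  have hd₁ : finrank F (eigP (x : Matrix ι ι F)) = 2 * (d - e₂) := by omega
  refine ⟨d - e₂, e₂, by omega, by omega, by omega, hd₁, hd₂, ?_, ?_⟩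
  · rw [hM, hd₂, Nat.mul_div_cancel_left _ two_pos]
  · have hG := (G1 h2 Q _ _ horth hndP hndM).2.2 (by rw [hd₁]; exact even_two_mul _)
      (by rw [hd₂]; exact even_two_mul _)
    rw [hc.sup_eq_top] at hG
    exact hG

end typeA

section main

variable [Fintype F] (h2 : (2 : F) ≠ 0) (Q : QuadraticForm F (ι → F))
  (hQ : (QuadraticMap.polarBilin Q).Nondegenerate)

include h2 hQ in
/-- the case `r = 2`, plus type -/
theorem R2gen_plus (d m : ℕ) (hcard : Fintype.card ι = 2 * d) (hd : 4 ≤ d) (_hm : 1 ≤ m) (hmd : m < d)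
    (hplus : Plus Q ⊤) :
    (∀ x : GL ι F, x ∈ Cfsg.Geo.omegaGL (⇑Q) →
      (∃ z : F, ((x ^ 2 : GL ι F) : Matrix ι ι F) = z • (1 : Matrix ι ι F)) →
      (∀ z : F, (x : Matrix ι ι F) ≠ z • (1 : Matrix ι ι F)) →
      ∃ W : Submodule F (ι → F), finrank F W = m ∧ TS Q W ∧ Inv (x : Matrix ι ι F) W) ↔
    (IsSquare (-1 : F) ∨ (m + 2 ≤ d ∧ (Even m ∨ Odd d))) := by
  have hne : Nonempty ι := by
    rw [← Fintype.card_pos_iff, hcard]; omega
  constructor
  · intro hall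
    by_cases hsq : IsSquare (-1 : F)
    · exact Or.inl hsq
    right
    constructor
    · by_contra hcon
      have hmeq : m + 1 = d := by omega
      obtain ⟨x, hx, hxx, hns, hdim, haniso⟩ := A3 h2 Q hQ (by omega) hsq
      have hz : ((x ^ 2 : GL ι F) : Matrix ι ι F) = (1 : F) • (1 : Matrix ι ι F) := by
        rw [Units.val_pow_eq_pow_val, pow_two, hxx, one_smul]
      obtain ⟨W, hWd, hWts, hWinv⟩ := hall x hx ⟨1, hz⟩ hns
      have hiso := (CL Q hQ x hx 1 hz).1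
      obtain ⟨hc, horth, hndP, hndM, hdec, -, -⟩ := A1 h2 Q hQ (x : Matrix ι ι F) hiso hxx
      have hbot : W ⊓ eigM (x : Matrix ι ι F) = ⊥ := by
        rw [Submodule.eq_bot_iff]
        rintro v ⟨hvW, hvM⟩
        by_contra hv0
        exact haniso v hvM hv0 (hWts v hvW)
      have hWP : W ≤ eigP (x : Matrix ι ι F) := by
        have h := hdec W hWinv
        rw [hbot, sup_bot_eq] at h
        rw [h]
        exact inf_le_right
      have hnM : ¬ Plus Q (eigM (x : Matrix ι ι F)) := by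
        rintro ⟨U, hU, hUts, hUd⟩
        rw [hdim] at hUd
        have hU1 : 0 < finrank F U := by omega
        obtain ⟨v, hv0⟩ := Module.finrank_pos_iff_exists_ne_zero.1 hU1
        exact haniso v (hU v.2) (fun h => hv0 (Subtype.ext h)) (hUts v v.2)
      have hdimP : finrank F (eigP (x : Matrix ι ι F)) = 2 * (d - 1) := by
        have h := Submodule.finrank_add_eq_of_isCompl hc
        rw [Module.finrank_fintype_fun_eq_card, hcard, hdim] at h
        omega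
      have hG := (G1 h2 Q _ _ horth hndP hndM).2.2 (by rw [hdimP]; exact even_two_mul _)
        (by rw [hdim]; exact even_two)
      rw [hc.sup_eq_top] at hG
      have hnP : ¬ Plus Q (eigP (x : Matrix ι ι F)) := fun h => hnM ((hG.1 hplus).1 h)
      have := ts_bound Q _ hndP (d - 1) hdimP hnP W hWP hWts
      omega
    · by_contra hcon
      rw [not_or] at hcon
      obtain ⟨hmo, hdo⟩ := hcon
      have hde : Even d := Nat.not_odd_iff_even.1 hdo
      have hpow : (-1 : F) ^ d = 1 := hde.neg_one_pow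
      obtain ⟨x, hiso, hxx⟩ := B5 h2 Q hQ d hcard
        ⟨fun _ => by rw [hpow]; exact ⟨1, (one_mul 1).symm⟩, fun _ => hplus⟩
      have hx : x ∈ Cfsg.Geo.omegaGL (⇑Q) := by
        rw [B4 h2 Q hQ x hiso hxx d hcard]
        obtain ⟨k, hk⟩ := hde
        rw [hk, pow_add]
        exact ⟨_, rfl⟩
      have hns := nonscalar_of_sq_neg_one (x : Matrix ι ι F) hxx hsq
      obtain ⟨W, hWd, -, hWinv⟩ := hall x hx
        ⟨-1, by rw [Units.val_pow_eq_pow_val, pow_two, hxx, neg_smul, one_smul]⟩ hns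
      have := (B1 h2 Q (x : Matrix ι ι F) hiso hxx hsq hQ).1 W hWinv
      rw [hWd] at this
      exact hmo this
  · intro hR x hx hz hns
    obtain ⟨z, hz⟩ := hz
    obtain ⟨hiso, hxx | hxx⟩ := CL Q hQ x hx z hz
    · -- type A
      obtain ⟨e₁, e₂, he₁, he₂, hsum, hd₁, hd₂, hM, hT⟩ :=
        typeA_dims h2 Q hQ x hx hiso hxx hns d hcard
      have hPM := hT.1 hplus
      by_cases hMp : Plus Q (eigM (x : Matrix ι ι F))
      · have hPp := hPM.2 hMp
        obtain ⟨W, hW⟩ := typeA_exists h2 Q hQ (x : Matrix ι ι F) hiso hxx e₁ e₂ hd₁ hd₂ (min m e₁)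
          (m - min m e₁) (min_le_right _ _) (fun h => absurd hPp h) (by omega)
          (fun h => absurd hMp h)
        exact ⟨W, by rw [hW.1]; omega, hW.2⟩
      · have hPp : ¬ Plus Q (eigP (x : Matrix ι ι F)) := fun h => hMp (hPM.1 h)
        have hnsq : ¬ IsSquare (-1 : F) := fun h => hMp (hM.2 (h.pow _))
        rcases hR with h | ⟨h, -⟩
        · exact absurd h hnsq
        obtain ⟨W, hW⟩ := typeA_exists h2 Q hQ (x : Matrix ι ι F) hiso hxx e₁ e₂ hd₁ hd₂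
          (min m (e₁ - 1)) (m - min m (e₁ - 1)) (by omega) (fun _ => by omega) (by omega)
          (fun _ => by omega)
        exact ⟨W, by rw [hW.1]; omega, hW.2⟩
    · -- type B
      by_cases hsq : IsSquare (-1 : F)
      · obtain ⟨W, hWinv, hWts, hWd⟩ := (B3 h2 Q hQ (x : Matrix ι ι F) hiso hxx hsq).2 m (by omega)
        exact ⟨W, hWd, hWts, hWinv⟩
      · rcases hR with h | ⟨-, hR⟩
        · exact absurd h hsq
        have h4 := ((B1 h2 Q (x : Matrix ι ι F) hiso hxx hsq hQ).2 ⊤ (inv_top _) (nd_top Q hQ)).1 hplus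
        rw [finrank_top, Module.finrank_fintype_fun_eq_card, hcard] at h4
        have hde : Even d := by
          obtain ⟨c, hc⟩ := h4
          exact ⟨c, by omega⟩
        rcases hR with hme | hdo
        · obtain ⟨k, hk⟩ := hme
          obtain ⟨W, hWinv, hWts, hWd⟩ := (B2 h2 Q hQ (x : Matrix ι ι F) hiso hxx).2 k (by omega)
          exact ⟨W, by rw [hWd]; omega, hWts, hWinv⟩
        · exact absurd hde (Nat.not_even_iff_odd.2 hdo)

include h2 hQ in
/-- the case `r = 2`, minus type -/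
theorem R2gen_minus (d m : ℕ) (hcard : Fintype.card ι = 2 * d) (hd : 4 ≤ d) (_hm : 1 ≤ m)
    (hmd : m + 1 ≤ d) (hminus : ¬ Plus Q ⊤) :
    (∀ x : GL ι F, x ∈ Cfsg.Geo.omegaGL (⇑Q) →
      (∃ z : F, ((x ^ 2 : GL ι F) : Matrix ι ι F) = z • (1 : Matrix ι ι F)) →
      (∀ z : F, (x : Matrix ι ι F) ≠ z • (1 : Matrix ι ι F)) →
      ∃ W : Submodule F (ι → F), finrank F W = m ∧ TS Q W ∧ Inv (x : Matrix ι ι F) W) ↔
    (Even d ∨ Even m ∨ ¬ (¬ IsSquare (-1 : F) ∧ IsSquare (2 : F))) := by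
  have hne : Nonempty ι := by
    rw [← Fintype.card_pos_iff, hcard]; omega
  constructor
  · intro hall
    by_contra hcon
    rw [not_or, not_or, not_not] at hcon
    obtain ⟨hdo, hmo, hsq, hsq2⟩ := hcon
    have hdo' : Odd d := Nat.not_even_iff_odd.1 hdo
    have hpow : (-1 : F) ^ d = -1 := hdo'.neg_one_pow
    obtain ⟨x, hiso, hxx⟩ := B5 h2 Q hQ d hcard
      ⟨fun h => absurd h hminus, fun h => by rw [hpow] at h; exact absurd h hsq⟩
    have hx : x ∈ Cfsg.Geo.omegaGL (⇑Q) := by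
      rw [B4 h2 Q hQ x hiso hxx d hcard]
      exact hsq2.pow d
    have hns := nonscalar_of_sq_neg_one (x : Matrix ι ι F) hxx hsq
    obtain ⟨W, hWd, -, hWinv⟩ := hall x hx
      ⟨-1, by rw [Units.val_pow_eq_pow_val, pow_two, hxx, neg_smul, one_smul]⟩ hns
    have := (B1 h2 Q (x : Matrix ι ι F) hiso hxx hsq hQ).1 W hWinv
    rw [hWd] at this
    exact hmo this
  · intro hR x hx hz hns
    obtain ⟨z, hz⟩ := hz
    obtain ⟨hiso, hxx | hxx⟩ := CL Q hQ x hx z hz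
    · -- type A
      obtain ⟨e₁, e₂, he₁, he₂, hsum, hd₁, hd₂, hM, hT⟩ :=
        typeA_dims h2 Q hQ x hx hiso hxx hns d hcard
      have hPM : ¬ (Plus Q (eigP (x : Matrix ι ι F)) ↔ Plus Q (eigM (x : Matrix ι ι F))) :=
        fun h => hminus (hT.2 h)
      by_cases hMp : Plus Q (eigM (x : Matrix ι ι F))
      · have hPp : ¬ Plus Q (eigP (x : Matrix ι ι F)) := fun h => hPM ⟨fun _ => hMp, fun _ => h⟩
        obtain ⟨W, hW⟩ := typeA_exists h2 Q hQ (x : Matrix ι ι F) hiso hxx e₁ e₂ hd₁ hd₂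
          (min m (e₁ - 1)) (m - min m (e₁ - 1)) (by omega) (fun _ => by omega) (by omega)
          (fun h => absurd hMp h)
        exact ⟨W, by rw [hW.1]; omega, hW.2⟩
      · have hPp : Plus Q (eigP (x : Matrix ι ι F)) := by
          by_contra h
          exact hPM ⟨fun h' => absurd h' h, fun h' => absurd h' hMp⟩
        obtain ⟨W, hW⟩ := typeA_exists h2 Q hQ (x : Matrix ι ι F) hiso hxx e₁ e₂ hd₁ hd₂
          (min m e₁) (m - min m e₁) (min_le_right _ _) (fun h => absurd hPp h) (by omega)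
          (fun _ => by omega)
        exact ⟨W, by rw [hW.1]; omega, hW.2⟩
    · -- type B
      by_cases hsq : IsSquare (-1 : F)
      · exact absurd ((B3 h2 Q hQ (x : Matrix ι ι F) hiso hxx hsq).1 ⊤ (inv_top _) (nd_top Q hQ)).1
          hminus
      · have h4 := (B1 h2 Q (x : Matrix ι ι F) hiso hxx hsq hQ).2 ⊤ (inv_top _) (nd_top Q hQ)
        rw [finrank_top, Module.finrank_fintype_fun_eq_card, hcard] at h4
        have hdo : Odd d := by
          rw [← Nat.not_even_iff_odd]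
          rintro ⟨c, hc⟩
          exact hminus (h4.2 ⟨c, by omega⟩)
        have hsq2 : IsSquare (2 : F) := by
          have h := (B4 h2 Q hQ x hiso hxx d hcard).1 hx
          obtain ⟨k, hk⟩ := hdo
          rw [hk, pow_succ, pow_mul, mul_comm, pow_two, mul_pow] at h
          have h2k : (2 : F) ^ k ≠ 0 := pow_ne_zero _ h2
          exact (Cfsg.Agent.Lib.Helper99_OrthR2_B5.isSquare_mul_sq_iff _ _ h2k).1 h
        rcases hR with hde | hme | hno
        · exact absurd hde (Nat.not_even_iff_odd.2 hdo)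
        · obtain ⟨k, hk⟩ := hme
          obtain ⟨W, hWinv, hWts, hWd⟩ := (B2 h2 Q hQ (x : Matrix ι ι F) hiso hxx).2 k (by omega)
          exact ⟨W, by rw [hWd]; omega, hWts, hWinv⟩
        · exact absurd ⟨hsq, hsq2⟩ hno

end main

end Cfsg.Agent.Lib.Helper99_OrthR2_Gen
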