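import Mathlib
import Cfsg.Agent.Lib.Helper99_OrthTSDefs

set_option autoImplicit false

/-!
Packages ARITH_even_plus / ARITH_even_minus of S5973 / S5987: the combinatorial model for `ord_r(q)` even
is equivalent to the printed conditions.
-/

namespace Cfsg.Agent.Lib.Helper99_OrthTS_ArithEven

open Cfsg.Agent.Lib.Helper99_OrthTSDefs

section nt

variable {q r : ℕ}

theorem dvd_pow_sub_one_iff (hr : r.Prime) (hq : 1 ≤ q) (x : ℕ) :
    r ∣ q ^ x - 1 ↔ orderOf ((q : ℕ) : ZMod r) ∣ x := by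
  have : Fact r.Prime := ⟨hr⟩
  rw [orderOf_dvd_iff_pow_eq_one, ← ZMod.natCast_eq_zero_iff, Nat.cast_sub (Nat.one_le_pow _ _ hq),
    Nat.cast_pow, Nat.cast_one, sub_eq_zero]

theorem pow_half_eq_neg_one (hr : r.Prime) (hr2 : r ≠ 2) (hrq : ¬ r ∣ q) {h : ℕ}
    (hi : orderOf ((q : ℕ) : ZMod r) = 2 * h) (hh : 0 < h) : ((q : ℕ) : ZMod r) ^ h = -1 := by
  have : Fact r.Prime := ⟨hr⟩
  have h1 : (((q : ℕ) : ZMod r) ^ h) ^ 2 = 1 := by
    rw [← pow_mul, mul_comm, ← hi]
    exact pow_orderOf_eq_one _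
  have h2 : ((q : ℕ) : ZMod r) ^ h ≠ 1 := by
    intro hc
    have := orderOf_dvd_of_pow_eq_one hc
    rw [hi] at this
    have := Nat.le_of_dvd hh this
    omega
  rcases sq_eq_one_iff.mp h1 with h3 | h3
  · exact absurd h3 h2
  · exact h3

theorem dvd_pow_add_one_iff (hr : r.Prime) (hr2 : r ≠ 2) (hrq : ¬ r ∣ q) {h : ℕ}
    (hi : orderOf ((q : ℕ) : ZMod r) = 2 * h) (hh : 0 < h) (x : ℕ) :
    r ∣ q ^ x + 1 ↔ orderOf ((q : ℕ) : ZMod r) ∣ x + h := by
  have : Fact r.Prime := ⟨hr⟩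
  have hq0 : ((q : ℕ) : ZMod r) ≠ 0 := by rwa [Ne, ZMod.natCast_eq_zero_iff]
  have hm1 := pow_half_eq_neg_one hr hr2 hrq hi hh
  rw [orderOf_dvd_iff_pow_eq_one, ← ZMod.natCast_eq_zero_iff, Nat.cast_add, Nat.cast_pow, Nat.cast_one,
    pow_add, hm1]
  constructor
  · intro h1
    have : ((q : ℕ) : ZMod r) ^ x = -1 := by linear_combination h1
    rw [this]; ring
  · intro h1
    have : ((q : ℕ) : ZMod r) ^ x = -1 := by linear_combination -h1
    rw [this]; ring

end nt

section core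

/-- the type of the fixed space when there are `A` atoms -/
def ty (plus : Bool) (A : ℕ) : Bool := tmul plus (decide (Even A))

theorem ty_succ (plus : Bool) (A : ℕ) : ty plus (A + 1) = !ty plus A := by
  unfold ty tmul
  by_cases h : Even A
  · have h' : ¬ Even (A + 1) := by rw [Nat.even_add_one]; exact not_not.2 h
    cases plus <;> simp [h, h']
  · have h' : Even (A + 1) := by rw [Nat.even_add_one]; exact h
    cases plus <;> simp [h, h']

theorem ty_add_two_mul (plus : Bool) (A γ : ℕ) : ty plus (A + 2 * γ) = ty plus A := by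
  unfold ty
  have : Even (A + 2 * γ) ↔ Even A := by
    rw [Nat.even_add]; simp
  rw [decide_eq_decide.2 this]

theorem ty_true_iff (plus : Bool) (A : ℕ) : ty plus A = true ↔ (plus = true ↔ Even A) := by
  unfold ty
  rw [tmul_true_iff, decide_eq_true_iff]

/-- choice of `(s', e')` -/
theorem choose {i m' ℓ m t A g J w : ℕ} (hm : m = i * m' + ℓ) (ht : t + 2 * m' ≤ A + g)
    (hg : g ≤ 2 * J + 1) (hw : ℓ + i * J ≤ w) :
    ∃ s' e' : ℕ, (s' = 0 ∨ t + 2 * s' ≤ A + 1) ∧ e' ≤ w ∧ i * s' + e' = m := by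
  by_cases hJ : m' ≤ J
  · refine ⟨0, m, Or.inl rfl, ?_, by simp⟩
    have : i * m' ≤ i * J := Nat.mul_le_mul_left i hJ
    omega
  · push Not at hJ
    refine ⟨m' - J, ℓ + i * J, Or.inr (by omega), hw, ?_⟩
    have : i * (m' - J) + i * J = i * m' := by
      rw [← Nat.mul_add, Nat.sub_add_cancel hJ.le]
    omega

/-- sufficiency of the printed conditions -/
theorem suff (plus : Bool) {h κ n' d m m' ℓ t : ℕ} (hh : 0 < h) (hκ : κ < h)
    (hd : d = h * n' + κ) (hm : m = 2 * h * m' + ℓ) (hℓ : ℓ < 2 * h)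
    (ht : t + 2 * m' ≤ n')
    (halt : (ℓ ≤ h ∧ κ = 0 ∧ ty plus n' = false ∧ t + 2 * m' < n') ∨
            (ℓ ≤ κ ∧ ty plus n' = true) ∨ (ℓ < κ ∧ ty plus n' = false)) :
    ∀ A : ℕ, 1 ≤ A → 2 * h * A ≤ 2 * d → (2 * h * A = 2 * d → ty plus A = true) →
      ∃ s' e' : ℕ, (s' = 0 ∨ t + 2 * s' ≤ A + 1) ∧
        e' ≤ owitt (ty plus A) (2 * d - 2 * h * A) ∧ 2 * h * s' + e' = m := by
  intro A hA hAd hval
  have hAn : A ≤ n' := by
    by_contra hcon
    push Not at hcon
    have h1 : h * (n' + 1) ≤ h * A := Nat.mul_le_mul_left h hcon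
    have h2 : 2 * h * A = 2 * (h * A) := by ring
    have h3 : h * (n' + 1) = h * n' + h := by ring
    omega
  obtain ⟨g, hg⟩ : ∃ g, n' = A + g := ⟨n' - A, by omega⟩
  have h2d : 2 * d = 2 * h * A + (2 * (h * g) + 2 * κ) := by rw [hd, hg]; ring
  have he : 2 * d - 2 * h * A = 2 * (h * g) + 2 * κ := by omega
  rw [he]
  rcases Nat.even_or_odd' g with ⟨γ, hγ | hγ⟩
  · -- g even
    have hty : ty plus n' = ty plus A := by rw [hg, hγ, ty_add_two_mul]
    have hhg : h * g = 2 * (h * γ) := by rw [hγ]; ring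
    rw [hty] at halt
    rw [hhg]
    cases htA : ty plus A with
    | true =>
      rw [htA] at halt
      rw [owitt_true]
      rcases halt with ⟨-, -, h1, -⟩ | ⟨h1, -⟩ | ⟨-, h1⟩
      · exact Bool.noConfusion h1
      · apply choose (J := γ) hm (by rw [← hg]; exact ht) (by omega)
        have : 2 * h * γ = 2 * (h * γ) := by ring
        omega
      · exact Bool.noConfusion h1
    | false =>
      rw [htA] at halt
      rw [owitt_false]
      rcases halt with ⟨h1, h2, -, h4⟩ | ⟨-, h1⟩ | ⟨h1, -⟩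
      · have hγpos : 1 ≤ γ := by
          by_contra hcon
          have hγ0 : γ = 0 := by omega
          have : ty plus A = true := by
            apply hval
            rw [h2d, hhg, hγ0, h2]
            simp
          rw [htA] at this
          exact Bool.noConfusion this
        apply choose (J := γ - 1) (g := g - 1) hm (by omega) (by omega)
        have h5 : 2 * h * (γ - 1) + 2 * h = 2 * (h * γ) := by
          have : γ = (γ - 1) + 1 := by omega
          nth_rewrite 2 [this]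
          ring
        omega
      · exact Bool.noConfusion h1
      · apply choose (J := γ) hm (by rw [← hg]; exact ht) (by omega)
        have : 2 * h * γ = 2 * (h * γ) := by ring
        omega
  · -- g odd
    have hty : ty plus n' = !ty plus A := by
      rw [hg, hγ, show A + (2 * γ + 1) = (A + 1) + 2 * γ by ring, ty_add_two_mul, ty_succ]
    have hhg : h * g = 2 * (h * γ) + h := by rw [hγ]; ring
    rw [hty] at halt
    rw [hhg]
    have h6 : 2 * h * γ = 2 * (h * γ) := by ring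
    cases htA : ty plus A with
    | true =>
      rw [htA] at halt
      rw [owitt_true]
      rcases halt with ⟨h1, -, -, -⟩ | ⟨-, h1⟩ | ⟨h1, -⟩
      · apply choose (J := γ) hm (by rw [← hg]; exact ht) (by omega)
        omega
      · exact Bool.noConfusion h1
      · apply choose (J := γ) hm (by rw [← hg]; exact ht) (by omega)
        omega
    | false =>
      rw [htA] at halt
      rw [owitt_false]
      rcases halt with ⟨-, -, h1, -⟩ | ⟨h1, -⟩ | ⟨-, h1⟩
      · exact Bool.noConfusion h1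
      · apply choose (J := γ) hm (by rw [← hg]; exact ht) (by omega)
        omega
      · exact Bool.noConfusion h1

theorem uniq {i s' e' m' ℓ : ℕ} (h : i * s' + e' = i * m' + ℓ) (he : e' < i) (hℓ : ℓ < i) :
    s' = m' ∧ e' = ℓ := by
  have hi : 0 < i := by omega
  have h1 : (i * s' + e') / i = s' := by
    rw [Nat.mul_add_div hi, Nat.div_eq_of_lt he, add_zero]
  have h2 : (i * m' + ℓ) / i = m' := by
    rw [Nat.mul_add_div hi, Nat.div_eq_of_lt hℓ, add_zero]
  have h3 : s' = m' := by rw [← h1, ← h2, h]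
  subst h3
  exact ⟨rfl, by omega⟩

theorem owitt_le (b : Bool) (e : ℕ) : owitt b e ≤ e / 2 := by
  cases b
  · rw [owitt_false]; omega
  · rw [owitt_true]

/-- necessity of the printed conditions (given `i ≤ m`) -/
theorem nec (plus : Bool) {h κ n' d m m' ℓ t : ℕ} (hh : 0 < h) (hκ : κ < h)
    (hd : d = h * n' + κ) (hm : m = 2 * h * m' + ℓ) (hℓ : ℓ < 2 * h) (hm' : 1 ≤ m') (hmd : m < d)
    (H : ∀ A : ℕ, 1 ≤ A → 2 * h * A ≤ 2 * d → (2 * h * A = 2 * d → ty plus A = true) →
      ∃ s' e' : ℕ, (s' = 0 ∨ t + 2 * s' ≤ A + 1) ∧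
        e' ≤ owitt (ty plus A) (2 * d - 2 * h * A) ∧ 2 * h * s' + e' = m) :
    t + 2 * m' ≤ n' ∧
      ((ℓ ≤ h ∧ κ = 0 ∧ ty plus n' = false ∧ t + 2 * m' < n') ∨
       (ℓ ≤ κ ∧ ty plus n' = true) ∨ (ℓ < κ ∧ ty plus n' = false)) := by
  -- n' ≥ 3 or (n' ≥ 2)
  have hn2 : 2 ≤ n' := by
    by_contra hcon
    have h1 : n' ≤ 1 := by omega
    have h2 : h * n' ≤ h * 1 := Nat.mul_le_mul_left h h1
    have h3 : 2 * h * 1 ≤ 2 * h * m' := Nat.mul_le_mul_left _ hm'
    omega
  -- analysis of one value of `A` with small fixed space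
  have step : ∀ A : ℕ, 1 ≤ A → ∀ g : ℕ, n' = A + g → g ≤ 2 →
      (2 * h * A = 2 * d → ty plus A = true) → (g = 2 → κ = 0 ∧ ty plus A = false) →
      t + 2 * m' ≤ A + 1 ∧ ℓ ≤ owitt (ty plus A) (2 * (h * g) + 2 * κ) := by
    intro A hA g hg hg2 hval hg2'
    have h2d : 2 * d = 2 * h * A + (2 * (h * g) + 2 * κ) := by rw [hd, hg]; ring
    have he : 2 * d - 2 * h * A = 2 * (h * g) + 2 * κ := by omega
    obtain ⟨s', e', hs', he', hsum⟩ := H A hA (by omega) hval
    rw [he] at he'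
    have hlt : e' < 2 * h := by
      have h1 := owitt_le (ty plus A) (2 * (h * g) + 2 * κ)
      have h2 : (2 * (h * g) + 2 * κ) / 2 = h * g + κ := by omega
      rw [h2] at h1
      interval_cases g
      · simp at h1 he'; omega
      · simp at h1 he'; omega
      · obtain ⟨hk0, hty⟩ := hg2' rfl
        rw [hty, owitt_false, hk0] at he'
        have : h * 2 = 2 * h := by ring
        omega
    rw [hm] at hsum
    obtain ⟨h1, h2⟩ := uniq hsum hlt hℓ
    subst h1 h2
    refine ⟨?_, he'⟩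
    rcases hs' with h0 | h0
    · omega
    · exact h0
  by_cases hcase : κ = 0 ∧ ty plus n' = false
  · obtain ⟨hk0, htn⟩ := hcase
    have hn3 : 3 ≤ n' := by
      by_contra hcon
      have h1 : n' ≤ 2 := by omega
      have h2 : h * n' ≤ h * 2 := Nat.mul_le_mul_left h h1
      have h3 : 2 * h * 1 ≤ 2 * h * m' := Nat.mul_le_mul_left _ hm'
      omega
    have ht1 : ty plus (n' - 1) = true := by
      have := ty_succ plus (n' - 1)
      rw [Nat.sub_add_cancel (by omega), htn] at this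
      cases h : ty plus (n' - 1) with
      | true => rfl
      | false => rw [h] at this; exact Bool.noConfusion this
    have ht2 : ty plus (n' - 2) = false := by
      have := ty_add_two_mul plus (n' - 2) 1
      rw [show n' - 2 + 2 * 1 = n' by omega, htn] at this
      exact this.symm
    obtain ⟨h1, h2⟩ := step (n' - 1) (by omega) 1 (by omega) (by omega)
      (fun _ => ht1) (by omega)
    obtain ⟨h3, h4⟩ := step (n' - 2) (by omega) 2 (by omega) (by omega)
      (fun _ => by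
        exfalso
        have h2d : 2 * d = 2 * h * (n' - 2) + (2 * (h * 2) + 2 * κ) := by
          rw [hd]
          have : n' = (n' - 2) + 2 := by omega
          nth_rewrite 1 [this]
          ring
        omega) (fun _ => ⟨hk0, ht2⟩)
    rw [ht1, owitt_true, hk0] at h2
    refine ⟨by omega, Or.inl ⟨by omega, hk0, htn, by omega⟩⟩
  · have hval : 2 * h * n' = 2 * d → ty plus n' = true := by
      intro heq
      have hk0 : κ = 0 := by
        rw [hd] at heq
        have : 2 * (h * n' + κ) = 2 * h * n' + 2 * κ := by ring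
        omega
      by_contra hne
      apply hcase
      refine ⟨hk0, ?_⟩
      cases h : ty plus n' with
      | true => exact absurd h hne
      | false => rfl
    obtain ⟨h1, h2⟩ := step n' (by omega) 0 (by omega) (by omega) hval (by omega)
    obtain ⟨h3, h4⟩ := step (n' - 1) (by omega) 1 (by omega) (by omega)
      (fun heq => by
        exfalso
        have h2d : 2 * d = 2 * h * (n' - 1) + (2 * (h * 1) + 2 * κ) := by
          rw [hd]
          have : n' = (n' - 1) + 1 := by omega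
          nth_rewrite 1 [this]
          ring
        omega) (by omega)
    refine ⟨by omega, Or.inr ?_⟩
    cases htn : ty plus n' with
    | true =>
      rw [htn, owitt_true] at h2
      exact Or.inl ⟨by omega, rfl⟩
    | false =>
      rw [htn, owitt_false] at h2
      have hkpos : 0 < κ := by
        by_contra hcon
        exact hcase ⟨by omega, htn⟩
      exact Or.inr ⟨by omega, rfl⟩

end core

section count

theorem ndvd {i ν ρ X : ℕ} (hX : X = i * ν + ρ) (h1 : 0 < ρ) (h2 : ρ < i) : ¬ i ∣ X := by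
  intro h
  rw [hX] at h
  have h3 : i ∣ ρ := (Nat.dvd_add_right (dvd_mul_right i ν)).1 h
  have := Nat.le_of_dvd h1 h3
  omega

/-- for `m < i` the model forces `m` below the Witt index of every admissible fixed space -/
theorem small_m (plus : Bool) {h d m t : ℕ} (hm : m < 2 * h)
    (H : ∀ A : ℕ, 1 ≤ A → 2 * h * A ≤ 2 * d → (2 * h * A = 2 * d → ty plus A = true) →
      ∃ s' e' : ℕ, (s' = 0 ∨ t + 2 * s' ≤ A + 1) ∧
        e' ≤ owitt (ty plus A) (2 * d - 2 * h * A) ∧ 2 * h * s' + e' = m)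
    (A : ℕ) (hA : 1 ≤ A) (hAd : 2 * h * A ≤ 2 * d) (hval : 2 * h * A = 2 * d → ty plus A = true) :
    m ≤ owitt (ty plus A) (2 * d - 2 * h * A) := by
  obtain ⟨s', e', -, he', hsum⟩ := H A hA hAd hval
  have hs0 : s' = 0 := by
    by_contra hne
    have : 2 * h * 1 ≤ 2 * h * s' := Nat.mul_le_mul_left _ (by omega)
    omega
  rw [hs0] at hsum
  omega

/-- `i ≤ m`, plus type -/
theorem i_le_m_plus {h κ n' d m t : ℕ} (hh : 0 < h) (hκ : κ < h) (hd : d = h * n' + κ)
    (hm1 : 1 ≤ m) (hmd : m < d)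
    (hcount : ∃ j < m, (2 * h ∣ d - j) ∨ (2 * h ∣ (d - j - 1) + h))
    (H : ∀ A : ℕ, 1 ≤ A → 2 * h * A ≤ 2 * d → (2 * h * A = 2 * d → ty true A = true) →
      ∃ s' e' : ℕ, (s' = 0 ∨ t + 2 * s' ≤ A + 1) ∧
        e' ≤ owitt (ty true A) (2 * d - 2 * h * A) ∧ 2 * h * s' + e' = m) :
    2 * h ≤ m := by
  by_contra hcon
  push Not at hcon
  have hsm := small_m true hcon H
  obtain ⟨j, hj, hdv⟩ := hcount
  have htyE : ∀ ν : ℕ, ty true (2 * ν) = true := by
    intro ν
    rw [ty_true_iff]; simp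
  have htyO : ∀ ν : ℕ, ty true (2 * ν + 1) = false := by
    intro ν
    rw [ty_succ, htyE]; rfl
  rcases Nat.even_or_odd' n' with ⟨ν, hν | hν⟩
  · -- n' even
    have hhn : h * n' = 2 * h * ν := by rw [hν]; ring
    rcases Nat.eq_zero_or_pos ν with h0 | hpos
    · -- n' = 0
      rw [h0] at hhn
      rcases hdv with h1 | h1
      · exact ndvd (ν := 0) (ρ := d - j) (by ring) (by omega) (by omega) h1
      · exact ndvd (ν := 0) (ρ := d - j - 1 + h) (by ring) (by omega) (by omega) h1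
    · have hb := hsm n' (by omega) (by rw [hd]; ring_nf; omega) (fun _ => by rw [hν]; exact htyE ν)
      have he : 2 * d - 2 * h * n' = 2 * κ := by
        rw [hd]
        have : 2 * (h * n' + κ) = 2 * h * n' + 2 * κ := by ring
        omega
      rw [he, hν, htyE, owitt_true] at hb
      rcases hdv with h1 | h1
      · exact ndvd (ν := ν) (ρ := κ - j) (by omega) (by omega) (by omega) h1
      · exact ndvd (ν := ν) (ρ := κ - j - 1 + h) (by omega) (by omega) (by omega) h1
  · -- n' odd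
    have hhn : h * n' = 2 * h * ν + h := by rw [hν]; ring
    rcases Nat.eq_zero_or_pos κ with hk0 | hkpos
    · -- κ = 0
      rcases Nat.eq_zero_or_pos ν with h0 | hpos
      · rw [h0] at hhn
        rcases hdv with h1 | h1
        · exact ndvd (ν := 0) (ρ := d - j) (by ring) (by omega) (by omega) h1
        · exact ndvd (ν := 0) (ρ := d - j - 1 + h) (by ring) (by omega) (by omega) h1
      · have hA : n' - 1 = 2 * ν := by omega
        have hhA : 2 * h * (n' - 1) = 2 * h * ν * 2 := by rw [hA]; ring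
        have hb := hsm (n' - 1) (by omega) (by rw [hd, hhA]; omega)
          (fun _ => by rw [hA]; exact htyE ν)
        have he : 2 * d - 2 * h * (n' - 1) = 2 * h := by
          rw [hd, hhA]; omega
        rw [he, hA, htyE, owitt_true] at hb
        rcases hdv with h1 | h1
        · exact ndvd (ν := ν) (ρ := h - j) (by omega) (by omega) (by omega) h1
        · exact ndvd (ν := ν) (ρ := 2 * h - j - 1) (by omega) (by omega) (by omega) h1
    · have hb := hsm n' (by omega) (by rw [hd]; ring_nf; omega) (fun heq => by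
        exfalso
        rw [hd] at heq
        have : 2 * (h * n' + κ) = 2 * h * n' + 2 * κ := by ring
        omega)
      have he : 2 * d - 2 * h * n' = 2 * κ := by
        rw [hd]
        have : 2 * (h * n' + κ) = 2 * h * n' + 2 * κ := by ring
        omega
      rw [he, hν, htyO, owitt_false] at hb
      rcases hdv with h1 | h1
      · exact ndvd (ν := ν) (ρ := h + (κ - j)) (by omega) (by omega) (by omega) h1
      · exact ndvd (ν := ν + 1) (ρ := κ - j - 1) (by
          have : 2 * h * (ν + 1) = 2 * h * ν + 2 * h := by ring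
          omega) (by omega) (by omega) h1

/-- `i ≤ m`, minus type -/
theorem i_le_m_minus {h κ n' d m t : ℕ} (hh : 0 < h) (hκ : κ < h) (hd : d = h * n' + κ)
    (hm1 : 1 ≤ m) (hmd : m + 1 ≤ d)
    (hcount : ∃ j < m, (2 * h ∣ (d - j) + h) ∨ (2 * h ∣ d - j - 1))
    (H : ∀ A : ℕ, 1 ≤ A → 2 * h * A ≤ 2 * d → (2 * h * A = 2 * d → ty false A = true) →
      ∃ s' e' : ℕ, (s' = 0 ∨ t + 2 * s' ≤ A + 1) ∧
        e' ≤ owitt (ty false A) (2 * d - 2 * h * A) ∧ 2 * h * s' + e' = m) :
    2 * h ≤ m := by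
  by_contra hcon
  push Not at hcon
  have hsm := small_m false hcon H
  obtain ⟨j, hj, hdv⟩ := hcount
  have htyE : ∀ ν : ℕ, ty false (2 * ν) = false := by
    intro ν
    have : ¬ (ty false (2 * ν) = true) := by
      rw [ty_true_iff]; simp
    cases h : ty false (2 * ν) with
    | true => exact absurd h this
    | false => rfl
  have htyO : ∀ ν : ℕ, ty false (2 * ν + 1) = true := by
    intro ν
    rw [ty_succ, htyE]; rfl
  rcases Nat.even_or_odd' n' with ⟨ν, hν | hν⟩
  · -- n' even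
    have hhn : h * n' = 2 * h * ν := by rw [hν]; ring
    rcases Nat.eq_zero_or_pos ν with h0 | hpos
    · rw [h0] at hhn
      rcases hdv with h1 | h1
      · exact ndvd (ν := 0) (ρ := d - j + h) (by ring) (by omega) (by omega) h1
      · exact ndvd (ν := 0) (ρ := d - j - 1) (by ring) (by omega) (by omega) h1
    · rcases Nat.eq_zero_or_pos κ with hk0 | hkpos
      · have hA : n' - 1 = 2 * (ν - 1) + 1 := by omega
        have hhA : 2 * h * (n' - 1) + 2 * h = 2 * h * ν * 2 := by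
          have h3 : 2 * h * (n' - 1) + 2 * h = 2 * h * ((n' - 1) + 1) := by ring
          rw [h3, Nat.sub_add_cancel (by omega), hν]
          ring
        have hb := hsm (n' - 1) (by omega) (by rw [hd]; omega)
          (fun _ => by rw [hA]; exact htyO (ν - 1))
        have he : 2 * d - 2 * h * (n' - 1) = 2 * h := by
          rw [hd]; omega
        rw [he, hA, htyO, owitt_true] at hb
        rcases hdv with h1 | h1
        · exact ndvd (ν := ν) (ρ := h - j) (by omega) (by omega) (by omega) h1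
        · exact ndvd (ν := ν - 1) (ρ := 2 * h - j - 1) (by
            have : 2 * h * ν = 2 * h * (ν - 1) + 2 * h := by
              have : ν = (ν - 1) + 1 := by omega
              nth_rewrite 1 [this]
              ring
            omega) (by omega) (by omega) h1
      · have hb := hsm n' (by omega) (by rw [hd]; ring_nf; omega) (fun heq => by
          exfalso
          rw [hd] at heq
          have : 2 * (h * n' + κ) = 2 * h * n' + 2 * κ := by ring
          omega)
        have he : 2 * d - 2 * h * n' = 2 * κ := by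
          rw [hd]
          have : 2 * (h * n' + κ) = 2 * h * n' + 2 * κ := by ring
          omega
        rw [he, hν, htyE, owitt_false] at hb
        rcases hdv with h1 | h1
        · exact ndvd (ν := ν) (ρ := κ - j + h) (by omega) (by omega) (by omega) h1
        · exact ndvd (ν := ν) (ρ := κ - j - 1) (by omega) (by omega) (by omega) h1
  · -- n' odd
    have hhn : h * n' = 2 * h * ν + h := by rw [hν]; ring
    have hb := hsm n' (by omega) (by rw [hd]; ring_nf; omega) (fun _ => by rw [hν]; exact htyO ν)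
    have he : 2 * d - 2 * h * n' = 2 * κ := by
      rw [hd]
      have : 2 * (h * n' + κ) = 2 * h * n' + 2 * κ := by ring
      omega
    rw [he, hν, htyO, owitt_true] at hb
    rcases hdv with h1 | h1
    · exact ndvd (ν := ν + 1) (ρ := κ - j) (by
        have : 2 * h * (ν + 1) = 2 * h * ν + 2 * h := by ring
        omega) (by omega) (by omega) h1
    · exact ndvd (ν := ν) (ρ := h + κ - j - 1) (by omega) (by omega) (by omega) h1

end count

section final

theorem ord_pos {q r : ℕ} (hr : r.Prime) (hrq : ¬ r ∣ q) : 0 < orderOf ((q : ℕ) : ZMod r) := by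
  have : Fact r.Prime := ⟨hr⟩
  have h0 : ((q : ℕ) : ZMod r) ≠ 0 := by rwa [Ne, ZMod.natCast_eq_zero_iff]
  rw [orderOf_pos_iff]
  exact isOfFinOrder_iff_pow_eq_one.2 ⟨r - 1, by have := hr.two_le; omega,
    ZMod.pow_card_sub_one_eq_one h0⟩

/-- common wrapper: the model in package form is equivalent to the printed conditions in `ty` form -/
theorem wrapper (plus : Bool) {d m h t : ℕ} (hh : 0 < h) (hmd : m < d)
    (hile : (∀ A : ℕ, 1 ≤ A → 2 * h * A ≤ 2 * d → (2 * h * A = 2 * d → ty plus A = true) →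
      ∃ s' e' : ℕ, (s' = 0 ∨ t + 2 * s' ≤ A + 1) ∧
        e' ≤ owitt (ty plus A) (2 * d - 2 * h * A) ∧ 2 * h * s' + e' = m) → 2 * h ≤ m) :
    (∀ A : ℕ, 1 ≤ A → 2 * h * A ≤ 2 * d → (2 * h * A = 2 * d → (plus = true ↔ Even A)) →
      ∃ s' e' : ℕ, (s' = 0 ∨ t + 2 * s' ≤ A + 1) ∧
        e' ≤ owitt (tmul plus (decide (Even A))) (2 * d - 2 * h * A) ∧ 2 * h * s' + e' = m) ↔
    (2 * h ≤ m ∧ t + 2 * (m / (2 * h)) ≤ (2 * d) / (2 * h) ∧
      ((2 * (m % (2 * h)) ≤ 2 * h ∧ (2 * d) % (2 * h) = 0 ∧ ty plus ((2 * d) / (2 * h)) = false ∧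
          t + 2 * (m / (2 * h)) < (2 * d) / (2 * h)) ∨
       (2 * (m % (2 * h)) ≤ (2 * d) % (2 * h) ∧ ty plus ((2 * d) / (2 * h)) = true) ∨
       (2 * (m % (2 * h)) < (2 * d) % (2 * h) ∧ ty plus ((2 * d) / (2 * h)) = false))) := by
  -- decompositions
  have hi : 0 < 2 * h := by omega
  obtain ⟨n', hn'⟩ : ∃ n', n' = (2 * d) / (2 * h) := ⟨_, rfl⟩
  obtain ⟨k, hk⟩ : ∃ k, k = (2 * d) % (2 * h) := ⟨_, rfl⟩
  have hdm : 2 * h * n' + k = 2 * d := by rw [hn', hk]; exact Nat.div_add_mod _ _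
  have hklt : k < 2 * h := by rw [hk]; exact Nat.mod_lt _ hi
  have hkev : ∃ κ, k = 2 * κ := by
    have h1 : 2 * h * n' = 2 * (h * n') := by ring
    exact ⟨k / 2, by omega⟩
  obtain ⟨κ, hκ⟩ := hkev
  have hd : d = h * n' + κ := by
    have h1 : 2 * h * n' = 2 * (h * n') := by ring
    omega
  obtain ⟨m', hm'⟩ : ∃ m', m' = m / (2 * h) := ⟨_, rfl⟩
  obtain ⟨ℓ, hℓ⟩ : ∃ ℓ, ℓ = m % (2 * h) := ⟨_, rfl⟩
  have hmm : m = 2 * h * m' + ℓ := by rw [hm', hℓ]; exact (Nat.div_add_mod _ _).symm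
  have hℓlt : ℓ < 2 * h := by rw [hℓ]; exact Nat.mod_lt _ hi
  rw [← hn', ← hk, ← hm', ← hℓ]
  -- the model in `ty` form
  have hmodel : (∀ A : ℕ, 1 ≤ A → 2 * h * A ≤ 2 * d → (2 * h * A = 2 * d → (plus = true ↔ Even A)) →
      ∃ s' e' : ℕ, (s' = 0 ∨ t + 2 * s' ≤ A + 1) ∧
        e' ≤ owitt (tmul plus (decide (Even A))) (2 * d - 2 * h * A) ∧ 2 * h * s' + e' = m) ↔
      (∀ A : ℕ, 1 ≤ A → 2 * h * A ≤ 2 * d → (2 * h * A = 2 * d → ty plus A = true) →
      ∃ s' e' : ℕ, (s' = 0 ∨ t + 2 * s' ≤ A + 1) ∧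
        e' ≤ owitt (ty plus A) (2 * d - 2 * h * A) ∧ 2 * h * s' + e' = m) := by
    constructor
    · intro H A h1 h2 h3
      exact H A h1 h2 (fun heq => (ty_true_iff plus A).1 (h3 heq))
    · intro H A h1 h2 h3
      exact H A h1 h2 (fun heq => (ty_true_iff plus A).2 (h3 heq))
  rw [hmodel]
  constructor
  · intro H
    have h1 := hile H
    have hm1 : 1 ≤ m' := by
      by_contra hcon
      have : m' = 0 := by omega
      rw [this] at hmm
      omega
    obtain ⟨h2, h3⟩ := nec plus hh (by omega) hd hmm hℓlt hm1 hmd H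
    refine ⟨h1, h2, ?_⟩
    rcases h3 with ⟨a, b, c, e⟩ | ⟨a, b⟩ | ⟨a, b⟩
    · exact Or.inl ⟨by omega, by omega, c, e⟩
    · exact Or.inr (Or.inl ⟨by omega, b⟩)
    · exact Or.inr (Or.inr ⟨by omega, b⟩)
  · rintro ⟨-, h2, h3⟩
    apply suff plus hh (by omega) hd hmm hℓlt h2
    rcases h3 with ⟨a, b, c, e⟩ | ⟨a, b⟩ | ⟨a, b⟩
    · exact Or.inl ⟨by omega, by omega, c, e⟩
    · exact Or.inr (Or.inl ⟨by omega, b⟩)
    · exact Or.inr (Or.inr ⟨by omega, b⟩)

theorem ty_true_eq_true (A : ℕ) : ty true A = true ↔ Even A := by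
  rw [ty_true_iff]; simp

theorem ty_true_eq_false (A : ℕ) : ty true A = false ↔ Odd A := by
  rw [← Nat.not_even_iff_odd, ← ty_true_eq_true]
  cases ty true A <;> simp

theorem ty_false_eq_true (A : ℕ) : ty false A = true ↔ Odd A := by
  rw [ty_true_iff, ← Nat.not_even_iff_odd]; simp

theorem ty_false_eq_false (A : ℕ) : ty false A = false ↔ Even A := by
  rw [← Nat.not_odd_iff_even, ← ty_false_eq_true]
  cases ty false A <;> simp

/-- **ARITH_even_plus** (S5973, `i` even) -/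
theorem ARITH_even_plus (q r d m i c : ℕ) (hr : r.Prime) (hr2 : r ≠ 2) (hd : 4 ≤ d) (hm : 1 ≤ m) (hmd : m < d)
    (hrq : ¬ r ∣ q) (hi : i = orderOf ((q : ℕ) : ZMod r)) (hie : Even i) (hc : c = i)
    (hcount : ∃ j < m, r ∣ osing true q (d - j)) :
    (∀ A : ℕ, 1 ≤ A → i * A ≤ 2 * d → (i * A = 2 * d → (true = true ↔ Even A)) →
      ∃ s' e' : ℕ, (s' = 0 ∨ (r - 1) / i + 2 * s' ≤ A + 1) ∧
        e' ≤ owitt (tmul true (decide (Even A))) (2 * d - i * A) ∧ i * s' + e' = m) ↔
    (i ≤ m ∧ (r - 1) / i + 2 * (m / i) ≤ (2 * d) / i ∧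
       ((2 * (m % i) ≤ i ∧ (2 * d) % c = 0 ∧ Odd ((2 * d) / i) ∧ (r - 1) / i + 2 * (m / i) < (2 * d) / i) ∨
        (2 * (m % i) ≤ (2 * d) % c ∧ Even ((2 * d) / i)) ∨
        (2 * (m % i) < (2 * d) % c ∧ Odd ((2 * d) / i)))) := by
  have hipos : 0 < i := by rw [hi]; exact ord_pos hr hrq
  have hq1 : 1 ≤ q := by
    rcases Nat.eq_zero_or_pos q with h0 | h0
    · exact absurd (h0 ▸ dvd_zero r) hrq
    · exact h0
  obtain ⟨h, hh⟩ := hie
  have hi2 : i = 2 * h := by omega
  subst hc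
  have hhpos : 0 < h := by omega
  have hord : orderOf ((q : ℕ) : ZMod r) = 2 * h := by rw [← hi, hi2]
  subst hi2
  have hile : (∀ A : ℕ, 1 ≤ A → 2 * h * A ≤ 2 * d → (2 * h * A = 2 * d → ty true A = true) →
      ∃ s' e' : ℕ, (s' = 0 ∨ (r - 1) / (2 * h) + 2 * s' ≤ A + 1) ∧
        e' ≤ owitt (ty true A) (2 * d - 2 * h * A) ∧ 2 * h * s' + e' = m) → 2 * h ≤ m := by
    intro H
    obtain ⟨n', hn'⟩ : ∃ n', n' = (2 * d) / (2 * h) := ⟨_, rfl⟩
    obtain ⟨k, hk⟩ : ∃ k, k = (2 * d) % (2 * h) := ⟨_, rfl⟩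
    have hdm : 2 * h * n' + k = 2 * d := by rw [hn', hk]; exact Nat.div_add_mod _ _
    have hklt : k < 2 * h := by rw [hk]; exact Nat.mod_lt _ (by omega)
    have h1 : 2 * h * n' = 2 * (h * n') := by ring
    obtain ⟨κ, hκ⟩ : ∃ κ, k = 2 * κ := ⟨k / 2, by omega⟩
    have hd' : d = h * n' + κ := by omega
    apply i_le_m_plus hhpos (by omega) hd' hm hmd _ H
    obtain ⟨j, hj, hjd⟩ := hcount
    refine ⟨j, hj, ?_⟩
    rw [osing_true] at hjd
    rcases (Nat.Prime.dvd_mul hr).1 hjd with h2 | h2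
    · left
      rw [← hord]
      exact (dvd_pow_sub_one_iff hr hq1 _).1 h2
    · right
      rw [← hord]
      exact (dvd_pow_add_one_iff hr hr2 hrq hord hhpos _).1 h2
  rw [wrapper true hhpos hmd hile]
  constructor
  · rintro ⟨h1, h2, h3⟩
    refine ⟨h1, h2, ?_⟩
    rcases h3 with ⟨a, b, c, e⟩ | ⟨a, b⟩ | ⟨a, b⟩
    · exact Or.inl ⟨a, b, (ty_true_eq_false _).1 c, e⟩
    · exact Or.inr (Or.inl ⟨a, (ty_true_eq_true _).1 b⟩)
    · exact Or.inr (Or.inr ⟨a, (ty_true_eq_false _).1 b⟩)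
  · rintro ⟨h1, h2, h3⟩
    refine ⟨h1, h2, ?_⟩
    rcases h3 with ⟨a, b, c, e⟩ | ⟨a, b⟩ | ⟨a, b⟩
    · exact Or.inl ⟨a, b, (ty_true_eq_false _).2 c, e⟩
    · exact Or.inr (Or.inl ⟨a, (ty_true_eq_true _).2 b⟩)
    · exact Or.inr (Or.inr ⟨a, (ty_true_eq_false _).2 b⟩)

/-- **ARITH_even_minus** (S5987, `i` even) -/
theorem ARITH_even_minus (q r d m i c : ℕ) (hr : r.Prime) (hr2 : r ≠ 2) (hd : 4 ≤ d) (hm : 1 ≤ m) (hmd : m + 1 ≤ d)
    (hrq : ¬ r ∣ q) (hi : i = orderOf ((q : ℕ) : ZMod r)) (hie : Even i) (hc : c = i)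
    (hcount : ∃ j < m, r ∣ osing false q (d - j)) :
    (∀ A : ℕ, 1 ≤ A → i * A ≤ 2 * d → (i * A = 2 * d → (false = true ↔ Even A)) →
      ∃ s' e' : ℕ, (s' = 0 ∨ (r - 1) / i + 2 * s' ≤ A + 1) ∧
        e' ≤ owitt (tmul false (decide (Even A))) (2 * d - i * A) ∧ i * s' + e' = m) ↔
    (i ≤ m ∧ (r - 1) / i + 2 * (m / i) ≤ (2 * d) / i ∧
       ((2 * (m % i) ≤ i ∧ (2 * d) % c = 0 ∧ Even ((2 * d) / i) ∧ (r - 1) / i + 2 * (m / i) < (2 * d) / i) ∨
        (2 * (m % i) ≤ (2 * d) % c ∧ Odd ((2 * d) / i)) ∨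
        (2 * (m % i) < (2 * d) % c ∧ Even ((2 * d) / i)))) := by
  have hipos : 0 < i := by rw [hi]; exact ord_pos hr hrq
  have hq1 : 1 ≤ q := by
    rcases Nat.eq_zero_or_pos q with h0 | h0
    · exact absurd (h0 ▸ dvd_zero r) hrq
    · exact h0
  obtain ⟨h, hh⟩ := hie
  have hi2 : i = 2 * h := by omega
  subst hc
  have hhpos : 0 < h := by omega
  have hord : orderOf ((q : ℕ) : ZMod r) = 2 * h := by rw [← hi, hi2]
  subst hi2
  have hile : (∀ A : ℕ, 1 ≤ A → 2 * h * A ≤ 2 * d → (2 * h * A = 2 * d → ty false A = true) →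
      ∃ s' e' : ℕ, (s' = 0 ∨ (r - 1) / (2 * h) + 2 * s' ≤ A + 1) ∧
        e' ≤ owitt (ty false A) (2 * d - 2 * h * A) ∧ 2 * h * s' + e' = m) → 2 * h ≤ m := by
    intro H
    obtain ⟨n', hn'⟩ : ∃ n', n' = (2 * d) / (2 * h) := ⟨_, rfl⟩
    obtain ⟨k, hk⟩ : ∃ k, k = (2 * d) % (2 * h) := ⟨_, rfl⟩
    have hdm : 2 * h * n' + k = 2 * d := by rw [hn', hk]; exact Nat.div_add_mod _ _
    have hklt : k < 2 * h := by rw [hk]; exact Nat.mod_lt _ (by omega)
    have h1 : 2 * h * n' = 2 * (h * n') := by ring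
    obtain ⟨κ, hκ⟩ : ∃ κ, k = 2 * κ := ⟨k / 2, by omega⟩
    have hd' : d = h * n' + κ := by omega
    apply i_le_m_minus hhpos (by omega) hd' hm hmd _ H
    obtain ⟨j, hj, hjd⟩ := hcount
    refine ⟨j, hj, ?_⟩
    rw [osing_false] at hjd
    rcases (Nat.Prime.dvd_mul hr).1 hjd with h2 | h2
    · left
      rw [← hord]
      exact (dvd_pow_add_one_iff hr hr2 hrq hord hhpos _).1 h2
    · right
      rw [← hord]
      exact (dvd_pow_sub_one_iff hr hq1 _).1 h2
  rw [wrapper false hhpos (by omega) hile]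
  constructor
  · rintro ⟨h1, h2, h3⟩
    refine ⟨h1, h2, ?_⟩
    rcases h3 with ⟨a, b, c, e⟩ | ⟨a, b⟩ | ⟨a, b⟩
    · exact Or.inl ⟨a, b, (ty_false_eq_false _).1 c, e⟩
    · exact Or.inr (Or.inl ⟨a, (ty_false_eq_true _).1 b⟩)
    · exact Or.inr (Or.inr ⟨a, (ty_false_eq_false _).1 b⟩)
  · rintro ⟨h1, h2, h3⟩
    refine ⟨h1, h2, ?_⟩
    rcases h3 with ⟨a, b, c, e⟩ | ⟨a, b⟩ | ⟨a, b⟩
    · exact Or.inl ⟨a, b, (ty_false_eq_false _).2 c, e⟩
    · exact Or.inr (Or.inl ⟨a, (ty_false_eq_true _).2 b⟩)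
    · exact Or.inr (Or.inr ⟨a, (ty_false_eq_false _).2 b⟩)

end final

end Cfsg.Agent.Lib.Helper99_OrthTS_ArithEven
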