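import Mathlib
import Cfsg.Agent.Lib.Helper99_OrthTSDefs
import Cfsg.Agent.Lib.Helper40_OEven
import Cfsg.Agent.Lib.Helper40_OClasses
import Cfsg.Agent.Lib.Helper40_QuadStd
import Cfsg.Agent.Lib.Helper99_InvSub
import Cfsg.Agent.Lib.Helper8_OrthTS_OC1
import Cfsg.Agent.Lib.Helper8_OrthTS_OC2
import Cfsg.Agent.Lib.Helper8_OrthTS_OD
import Cfsg.Agent.Lib.Helper87_OrthTS_OQ1
import Cfsg.Agent.Lib.Helper43_OrthTS_OQ2
import Cfsg.Agent.Lib.Helper55_OrthTS_OS
import Cfsg.Agent.Lib.Helper55_OrthTS_OC3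
import Cfsg.Agent.Lib.Helper31_OrthTS_OE_odd
import Cfsg.Agent.Lib.Helper31_OrthTS_OE_even

set_option autoImplicit false
set_option linter.unusedSectionVars false

/-!
The combinatorial model for elements of odd prime order `r ≠ p` of the isometry group of an even-dimensional
quadratic space over a finite field and their invariant totally singular `m`-spaces (S5973, S5987).
-/

namespace Cfsg.Agent.Lib.Helper99_OrthTS_Model

open Polynomial Module Matrix
open Cfsg.Agent.Lib.Helper40_SpBasic Cfsg.Agent.Lib.Helper40_OConj Cfsg.Agent.Lib.Helper40_OConj.OData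
  Cfsg.Agent.Lib.Helper40_QuadIso Cfsg.Agent.Lib.Helper40_OClasses Cfsg.Agent.Lib.Helper99_OrthTSDefs
open Cfsg.Agent.Lib.Helper8_OrthTS_OC1 (OC1)
open Cfsg.Agent.Lib.Helper8_OrthTS_OC2 (OC2)
open Cfsg.Agent.Lib.Helper8_OrthTS_OD (OD)
open Cfsg.Agent.Lib.Helper87_OrthTS_OQ1 (OQ1)
open Cfsg.Agent.Lib.Helper43_OrthTS_OQ2 (OQ2)
open Cfsg.Agent.Lib.Helper55_OrthTS_OS (OS)
open Cfsg.Agent.Lib.Helper55_OrthTS_OC3 (OC3)
open Cfsg.Agent.Lib.Helper31_OrthTS_OE_odd (OE_odd)
open Cfsg.Agent.Lib.Helper31_OrthTS_OE_even (OE_even)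

universe u

section common

variable {F : Type u} [Field F] [Fintype F] {p : ℕ} [Fact p.Prime] [CharP F p]
variable {V : Type u} [AddCommGroup V] [Module F V] [FiniteDimensional F V]
variable {Q : QuadraticForm F V} {a : Module.End F V} {r : ℕ}

omit [Fintype F] [FiniteDimensional F V] in
theorem ohypOn_top_iff : OHypOn Q ⊤ ↔ IsHyp Q := by
  constructor
  · rintro ⟨U, -, hU, hd⟩
    rw [finrank_top] at hd
    exact ⟨U, hU, hd⟩
  · rintro ⟨U, hU, hd⟩
    exact ⟨U, le_top, hU, by rw [finrank_top]; exact hd⟩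

/-- the type of the fixed space -/
theorem fix_type (hQ : (pol Q).Nondegenerate) (h : OData Q a r)
    (he₁ : Even (finrank F (Module.End.eigenspace a 1))) (he₂ : Even (finrank F (comm a))) :
    OHypOn Q (Module.End.eigenspace a 1) ↔ (IsHyp Q ↔ OHypOn Q (comm a)) := by
  obtain ⟨hc, horth, hF, hC⟩ := OC1 hQ h
  have h1 := OQ2 hF hC horth he₁ he₂
  rw [hc.sup_eq_top, ohypOn_top_iff] at h1
  tauto

/-- totally singular subspaces of the fixed space: bound and existence -/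
theorem fix_ts (hQ : (pol Q).Nondegenerate) (h : OData Q a r) (ty : Bool)
    (hty : ty = true ↔ OHypOn Q (Module.End.eigenspace a 1)) (k : ℕ)
    (hk : finrank F (Module.End.eigenspace a 1) = 2 * k) :
    (∀ U : Submodule F V, U ≤ Module.End.eigenspace a 1 → (∀ u ∈ U, Q u = 0) →
      finrank F U ≤ owitt ty (2 * k)) ∧
    (∀ e' ≤ owitt ty (2 * k), ∃ U : Submodule F V, U ≤ Module.End.eigenspace a 1 ∧
      (∀ u ∈ U, Q u = 0) ∧ finrank F U = e') := by
  obtain ⟨-, -, hF, -⟩ := OC1 hQ h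
  obtain ⟨h1, h2, h3⟩ := OQ1 hF k hk
  cases ty with
  | true =>
    have hh := hty.1 rfl
    rw [owitt_true, Nat.mul_div_cancel_left k two_pos]
    exact ⟨h1, h2 hh⟩
  | false =>
    have hh : ¬ OHypOn Q (Module.End.eigenspace a 1) := fun hc => by
      have := hty.2 hc
      exact Bool.noConfusion this
    rw [owitt_false, Nat.mul_div_cancel_left k two_pos]
    exact ⟨(h3 hh).2.1, (h3 hh).2.2⟩

omit [Fintype F] [FiniteDimensional F V] in
theorem Q_add (x y : V) : Q (x + y) = Q x + Q y + pol Q x y := by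
  rw [pol_apply]; ring

/-- gluing an invariant totally singular subspace of `[V, a]` and a totally singular subspace of the fixed
space -/
theorem glue (hQ : (pol Q).Nondegenerate) (h : OData Q a r) {k₁ k₂ : ℕ}
    (h₁ : OHasTS Q a (comm a) k₁) {U₂ : Submodule F V} (hU₂ : U₂ ≤ Module.End.eigenspace a 1)
    (hU₂ts : ∀ u ∈ U₂, Q u = 0) (hU₂d : finrank F U₂ = k₂) :
    ∃ W : Submodule F V, finrank F W = k₁ + k₂ ∧ (∀ w ∈ W, Q w = 0) ∧ W.map a ≤ W := by
  obtain ⟨hc, horth, -, -⟩ := OC1 hQ h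
  obtain ⟨U₁, hU₁, hU₁inv, hU₁ts, hU₁d⟩ := h₁
  refine ⟨U₁ ⊔ U₂, ?_, ?_, ?_⟩
  · have hd : Disjoint U₁ U₂ := (hc.disjoint.symm).mono hU₁ hU₂
    rw [Cfsg.Agent.Lib.Helper99_InvSub.finrank_sup_of_disjoint hd, hU₁d, hU₂d]
  · intro w hw
    obtain ⟨x, hx, y, hy, rfl⟩ := Submodule.mem_sup.1 hw
    rw [Q_add, hU₁ts x hx, hU₂ts y hy, pol_comm, horth y (hU₂ hy) x (hU₁ hx)]
    simp
  · rintro _ ⟨w, hw, rfl⟩
    obtain ⟨x, hx, y, hy, rfl⟩ := Submodule.mem_sup.1 hw
    rw [map_add]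
    have hy' : a y = y := by
      have := hU₂ hy
      rwa [Module.End.mem_eigenspace_iff, one_smul] at this
    rw [hy']
    exact Submodule.add_mem_sup (hU₁inv x hx) hy

end common

section model

variable {ι : Type} [Fintype ι] [DecidableEq ι]
variable {F : Type u} [Field F] [Fintype F] {p : ℕ} [Fact p.Prime] [CharP F p]

theorem natCast_ne_zero' {r : ℕ} (hr : r.Prime) (hrp : r ≠ p) : ((r : ℕ) : F) ≠ 0 := by
  have hp : p.Prime := Fact.out
  rw [Ne, CharP.cast_eq_zero_iff F p]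
  intro hdvd
  exact hrp ((Nat.prime_dvd_prime_iff_eq hp hr).1 hdvd).symm

theorem ord_pos' {r : ℕ} (hr : r.Prime) (hrp : r ≠ p) :
    0 < orderOf ((Fintype.card F : ℕ) : ZMod r) :=
  (Cfsg.Agent.Lib.Helper40_PrimeOrderClasses.exists_cyclotomic_factors (F := F) p r hr hrp).1

omit [Fintype F] in
theorem comm_ne_bot (Q₀ : QuadraticForm F (ι → F)) {g : ↥(Cfsg.isometryGroup F ⇑Q₀)} (hg : g ≠ 1) :
    0 < finrank F (comm (Matrix.toLin' (mat Q₀ g))) := by
  rw [Nat.pos_iff_ne_zero]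
  intro h0
  apply hg
  apply mat_injective Q₀
  rw [mat_one]
  have hbot : comm (Matrix.toLin' (mat Q₀ g)) = ⊥ := Submodule.finrank_eq_zero.1 h0
  apply Matrix.toLin'.injective
  rw [Matrix.toLin'_one]
  apply LinearMap.ext
  intro v
  have : (Matrix.toLin' (mat Q₀ g) - 1) v ∈ comm (Matrix.toLin' (mat Q₀ g)) :=
    LinearMap.mem_range_self _ _
  rw [hbot, Submodule.mem_bot, LinearMap.sub_apply, Module.End.one_apply, sub_eq_zero] at this
  rw [this]
  rfl

omit [Fintype F] in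
theorem finrank_fix_add (a : Module.End F (ι → F)) :
    finrank F (Module.End.eigenspace a 1) + finrank F (comm a) = Fintype.card ι := by
  have h1 : Module.End.eigenspace a 1 = LinearMap.ker (a - 1) := by
    ext x
    rw [Module.End.mem_eigenspace_iff, one_smul, LinearMap.mem_ker, LinearMap.sub_apply,
      Module.End.one_apply, sub_eq_zero]
  rw [h1, add_comm, LinearMap.finrank_range_add_finrank_ker, Module.finrank_fintype_fun_eq_card]

/-- MODEL_odd -/
theorem MODEL_odd (Q₀ : QuadraticForm F (ι → F)) (hQ₀ : (pol Q₀).Nondegenerate) (d : ℕ)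
    (hd : Fintype.card ι = 2 * d) (plus : Bool) (hplus : plus = true ↔ IsHyp Q₀)
    {r : ℕ} (hr : r.Prime) (hr2 : r ≠ 2) (hrp : r ≠ p) (i : ℕ)
    (hi : i = orderOf ((Fintype.card F : ℕ) : ZMod r)) (hio : Odd i) (m : ℕ) :
    (∀ g : ↥(Cfsg.isometryGroup F ⇑Q₀), g ^ r = 1 → g ≠ 1 →
      ∃ W : Submodule F (ι → F), finrank F ↥W = m ∧ (∀ w ∈ W, Q₀ w = 0) ∧
        W.map (Matrix.toLin' (mat Q₀ g)) ≤ W) ↔
    (∀ A : ℕ, 1 ≤ A → i * A ≤ d → (plus = false → i * A < d) →
      ∃ s' e' : ℕ, s' ≤ A ∧ e' ≤ owitt plus (2 * d - 2 * i * A) ∧ i * s' + e' = m) := by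
  have hrF : ((r : ℕ) : F) ≠ 0 := natCast_ne_zero' hr hrp
  have hodd : Odd r := hr.odd_of_ne_two hr2
  have hipos : 0 < i := by rw [hi]; exact ord_pos' hr hrp
  have hio' : Odd (orderOf ((Fintype.card F : ℕ) : ZMod r)) := by rw [← hi]; exact hio
  -- common analysis of an element
  have key : ∀ g : ↥(Cfsg.isometryGroup F ⇑Q₀), g ^ r = 1 → ∀ A : ℕ,
      finrank F (comm (Matrix.toLin' (mat Q₀ g))) = 2 * i * A →
      i * A ≤ d ∧ (plus = false → i * A < d) ∧
      finrank F (Module.End.eigenspace (Matrix.toLin' (mat Q₀ g)) 1) = 2 * (d - i * A) ∧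
      (plus = true ↔ OHypOn Q₀ (Module.End.eigenspace (Matrix.toLin' (mat Q₀ g)) 1)) := by
    intro g hg A hA
    have hD := oData_of_mem Q₀ g r hg hodd hrF
    have hsum := finrank_fix_add (Matrix.toLin' (mat Q₀ g))
    rw [hd, hA] at hsum
    have hCh := ((OC3 hQ₀ hD hr hrp).1 hio').1
    have hle : i * A ≤ d := by nlinarith
    have hfix : finrank F (Module.End.eigenspace (Matrix.toLin' (mat Q₀ g)) 1) = 2 * (d - i * A) := by
      have : 2 * i * A = 2 * (i * A) := by ring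
      omega
    have hty := fix_type hQ₀ hD (by rw [hfix]; exact even_two_mul _) (by rw [hA, mul_assoc]; exact even_two_mul _)
    have hty' : plus = true ↔ OHypOn Q₀ (Module.End.eigenspace (Matrix.toLin' (mat Q₀ g)) 1) := by
      rw [hty, hplus]
      tauto
    refine ⟨hle, ?_, hfix, hty'⟩
    intro hpl
    by_contra hcon
    have heq : i * A = d := by omega
    have h0 : finrank F (Module.End.eigenspace (Matrix.toLin' (mat Q₀ g)) 1) = 0 := by
      rw [hfix, heq]; simp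
    have hbot : Module.End.eigenspace (Matrix.toLin' (mat Q₀ g)) 1 = ⊥ :=
      Submodule.finrank_eq_zero.1 h0
    have : OHypOn Q₀ (Module.End.eigenspace (Matrix.toLin' (mat Q₀ g)) 1) := by
      rw [hbot]
      exact ⟨⊥, le_rfl, fun u hu => by rw [(Submodule.mem_bot F).1 hu, map_zero], by simp⟩
    have := hty'.2 this
    rw [hpl] at this
    exact Bool.noConfusion this
  constructor
  · intro hL A hA hAd hmin
    have hmin' : ¬ IsHyp Q₀ → orderOf ((Fintype.card F : ℕ) : ZMod r) * A < d := by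
      intro hnh
      rw [← hi]
      apply hmin
      cases plus with
      | true => exact absurd (hplus.1 rfl) hnh
      | false => rfl
    obtain ⟨g, hg, hC⟩ := OE_odd Q₀ hQ₀ d hd hr hr2 hrp hio' A hA (by rw [← hi]; exact hAd) hmin'
    rw [← hi] at hC
    have hD := oData_of_mem Q₀ g r hg hodd hrF
    have hg1 : g ≠ 1 := by
      intro h1
      have : finrank F (comm (Matrix.toLin' (mat Q₀ g))) = 0 := by
        rw [h1, mat_one, Matrix.toLin'_one]
        have : comm (LinearMap.id : Module.End F (ι → F)) = ⊥ := by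
          rw [eq_bot_iff]
          rintro _ ⟨u, rfl⟩
          simp
        rw [this, finrank_bot]
      rw [hC] at this
      have : 0 < 2 * i * A := by positivity
      omega
    obtain ⟨W, hWd, hWts, hWinv⟩ := hL g hg hg1
    have hWinv' : Inv (Matrix.toLin' (mat Q₀ g)) W := fun x hx => hWinv ⟨x, hx, rfl⟩
    obtain ⟨h1, h2, h3, h4⟩ := key g hg A hC
    obtain ⟨hsum, hdvd, hhalf⟩ := OD hQ₀ hD hr hrp hWinv' hWts
    rw [← hi] at hdvd
    obtain ⟨s', hs'⟩ := hdvd
    refine ⟨s', finrank F ↥(W ⊓ Module.End.eigenspace (Matrix.toLin' (mat Q₀ g)) 1), ?_, ?_, ?_⟩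
    · rw [hs', hC] at hhalf
      have : i * s' ≤ i * A := by nlinarith
      exact Nat.le_of_mul_le_mul_left this hipos
    · have := (fix_ts hQ₀ hD plus h4 (d - i * A) h3).1 _ inf_le_right
        (fun u hu => hWts u hu.1)
      have h5 : 2 * d - 2 * i * A = 2 * (d - i * A) := by
        rw [Nat.mul_sub, mul_assoc]
      rw [h5]
      exact this
    · rw [← hs', ← hWd, hsum, add_comm]
  · intro hM g hg hg1
    have hD := oData_of_mem Q₀ g r hg hodd hrF
    obtain ⟨-, A, hA⟩ := (OC3 hQ₀ hD hr hrp).1 hio'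
    rw [← hi] at hA
    obtain ⟨h1, h2, h3, h4⟩ := key g hg A hA
    have hApos : 1 ≤ A := by
      have := comm_ne_bot Q₀ hg1
      rw [hA] at this
      rcases Nat.eq_zero_or_pos A with h0 | h0
      · rw [h0] at this; simp at this
      · exact h0
    obtain ⟨s', e', hs', he', hsum⟩ := hM A hApos h1 h2
    have h5 : 2 * d - 2 * i * A = 2 * (d - i * A) := by
      rw [Nat.mul_sub, mul_assoc]
    rw [h5] at he'
    obtain ⟨U₂, hU₂, hU₂ts, hU₂d⟩ := (fix_ts hQ₀ hD plus h4 (d - i * A) h3).2 e' he'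
    have hS := ((OS hQ₀ hD hr hrp).1 hio') s' (by
      rw [← hi, hA]
      have : i * s' ≤ i * A := Nat.mul_le_mul_left i hs'
      nlinarith)
    rw [← hi] at hS
    obtain ⟨W, hWd, hWts, hWinv⟩ := glue hQ₀ hD hS hU₂ hU₂ts hU₂d
    exact ⟨W, by rw [hWd, hsum], hWts, hWinv⟩

/-- MODEL_even -/
theorem MODEL_even (Q₀ : QuadraticForm F (ι → F)) (hQ₀ : (pol Q₀).Nondegenerate) (d : ℕ)
    (hd : Fintype.card ι = 2 * d) (plus : Bool) (hplus : plus = true ↔ IsHyp Q₀)
    {r : ℕ} (hr : r.Prime) (hr2 : r ≠ 2) (hrp : r ≠ p) (i : ℕ)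
    (hi : i = orderOf ((Fintype.card F : ℕ) : ZMod r)) (hie : Even i) (m : ℕ) :
    (∀ g : ↥(Cfsg.isometryGroup F ⇑Q₀), g ^ r = 1 → g ≠ 1 →
      ∃ W : Submodule F (ι → F), finrank F ↥W = m ∧ (∀ w ∈ W, Q₀ w = 0) ∧
        W.map (Matrix.toLin' (mat Q₀ g)) ≤ W) ↔
    (∀ A : ℕ, 1 ≤ A → i * A ≤ 2 * d → (i * A = 2 * d → (plus = true ↔ Even A)) →
      ∃ s' e' : ℕ, (s' = 0 ∨ (r - 1) / i + 2 * s' ≤ A + 1) ∧
        e' ≤ owitt (tmul plus (decide (Even A))) (2 * d - i * A) ∧ i * s' + e' = m) := by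
  have hrF : ((r : ℕ) : F) ≠ 0 := natCast_ne_zero' hr hrp
  have hodd : Odd r := hr.odd_of_ne_two hr2
  have hipos : 0 < i := by rw [hi]; exact ord_pos' hr hrp
  have hie' : Even (orderOf ((Fintype.card F : ℕ) : ZMod r)) := by rw [← hi]; exact hie
  obtain ⟨j, hj⟩ := hie
  -- common analysis of an element
  have key : ∀ g : ↥(Cfsg.isometryGroup F ⇑Q₀), g ^ r = 1 → ∀ A : ℕ,
      finrank F (comm (Matrix.toLin' (mat Q₀ g))) = i * A →
      (OHypOn Q₀ (comm (Matrix.toLin' (mat Q₀ g))) ↔ Even A) →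
      i * A ≤ 2 * d ∧ (i * A = 2 * d → (plus = true ↔ Even A)) ∧
      finrank F (Module.End.eigenspace (Matrix.toLin' (mat Q₀ g)) 1) = 2 * (d - j * A) ∧
      2 * d - i * A = 2 * (d - j * A) ∧
      (tmul plus (decide (Even A)) = true ↔
        OHypOn Q₀ (Module.End.eigenspace (Matrix.toLin' (mat Q₀ g)) 1)) := by
    intro g hg A hA hCty
    have hD := oData_of_mem Q₀ g r hg hodd hrF
    have hsum := finrank_fix_add (Matrix.toLin' (mat Q₀ g))
    rw [hd, hA] at hsum
    have hiA : i * A = 2 * (j * A) := by rw [hj]; ring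
    have hle : i * A ≤ 2 * d := by omega
    have hfix : finrank F (Module.End.eigenspace (Matrix.toLin' (mat Q₀ g)) 1) = 2 * (d - j * A) := by
      omega
    have h5 : 2 * d - i * A = 2 * (d - j * A) := by omega
    have hty := fix_type hQ₀ hD (by rw [hfix]; exact even_two_mul _) (by rw [hA, hiA]; exact even_two_mul _)
    have hty' : tmul plus (decide (Even A)) = true ↔
        OHypOn Q₀ (Module.End.eigenspace (Matrix.toLin' (mat Q₀ g)) 1) := by
      rw [tmul_true_iff, hty, hplus, hCty, decide_eq_true_iff]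
    refine ⟨hle, ?_, hfix, h5, hty'⟩
    intro heq
    have h0 : finrank F (Module.End.eigenspace (Matrix.toLin' (mat Q₀ g)) 1) = 0 := by
      rw [hfix]; omega
    have hbot : Module.End.eigenspace (Matrix.toLin' (mat Q₀ g)) 1 = ⊥ :=
      Submodule.finrank_eq_zero.1 h0
    have : OHypOn Q₀ (Module.End.eigenspace (Matrix.toLin' (mat Q₀ g)) 1) := by
      rw [hbot]
      exact ⟨⊥, le_rfl, fun u hu => by rw [(Submodule.mem_bot F).1 hu, map_zero], by simp⟩
    have h6 := hty'.2 this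
    rw [tmul_true_iff, decide_eq_true_iff] at h6
    exact h6
  constructor
  · intro hL A hA hAd htype
    have htype' : orderOf ((Fintype.card F : ℕ) : ZMod r) * A = 2 * d → (IsHyp Q₀ ↔ Even A) := by
      intro h
      rw [← hplus]
      exact htype (by rw [hi]; exact h)
    obtain ⟨g, hg, hC, hbound⟩ := OE_even Q₀ hQ₀ d hd hr hr2 hrp hie' A hA (by rw [← hi]; exact hAd) htype'
    rw [← hi] at hC hbound
    have hD := oData_of_mem Q₀ g r hg hodd hrF
    have hg1 : g ≠ 1 := by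
      intro h1
      have : finrank F (comm (Matrix.toLin' (mat Q₀ g))) = 0 := by
        rw [h1, mat_one, Matrix.toLin'_one]
        have : comm (LinearMap.id : Module.End F (ι → F)) = ⊥ := by
          rw [eq_bot_iff]
          rintro _ ⟨u, rfl⟩
          simp
        rw [this, finrank_bot]
      rw [hC] at this
      have : 0 < i * A := by positivity
      omega
    obtain ⟨W, hWd, hWts, hWinv⟩ := hL g hg hg1
    have hWinv' : Inv (Matrix.toLin' (mat Q₀ g)) W := fun x hx => hWinv ⟨x, hx, rfl⟩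
    obtain ⟨A', hA', hCty'⟩ := (OC3 hQ₀ hD hr hrp).2 hie'
    rw [← hi] at hA'
    have hAA' : A' = A := by
      rw [hC] at hA'
      exact (Nat.eq_of_mul_eq_mul_left hipos hA').symm
    rw [hAA'] at hCty'
    obtain ⟨h1, h2, h3, h5, h4⟩ := key g hg A hC hCty'
    obtain ⟨hsum, hdvd, hhalf⟩ := OD hQ₀ hD hr hrp hWinv' hWts
    rw [← hi] at hdvd
    obtain ⟨s', hs'⟩ := hdvd
    have hb := hbound W hWinv' hWts
    rw [hs'] at hb
    have hb' : s' ≤ (A + 1 - (r - 1) / i) / 2 := Nat.le_of_mul_le_mul_left hb hipos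
    refine ⟨s', finrank F ↥(W ⊓ Module.End.eigenspace (Matrix.toLin' (mat Q₀ g)) 1), ?_, ?_, ?_⟩
    · rcases Nat.eq_zero_or_pos s' with h0 | h0
      · exact Or.inl h0
      · right
        omega
    · have := (fix_ts hQ₀ hD _ h4 (d - j * A) h3).1 _ inf_le_right (fun u hu => hWts u hu.1)
      rw [h5]
      exact this
    · rw [← hs', ← hWd, hsum, add_comm]
  · intro hM g hg hg1
    have hD := oData_of_mem Q₀ g r hg hodd hrF
    obtain ⟨A, hA, hCty⟩ := (OC3 hQ₀ hD hr hrp).2 hie'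
    rw [← hi] at hA
    obtain ⟨h1, h2, h3, h5, h4⟩ := key g hg A hA hCty
    have hApos : 1 ≤ A := by
      have := comm_ne_bot Q₀ hg1
      rw [hA] at this
      rcases Nat.eq_zero_or_pos A with h0 | h0
      · rw [h0] at this; simp at this
      · exact h0
    obtain ⟨s', e', hs', he', hsum⟩ := hM A hApos h1 h2
    rw [h5] at he'
    obtain ⟨U₂, hU₂, hU₂ts, hU₂d⟩ := (fix_ts hQ₀ hD _ h4 (d - j * A) h3).2 e' he'
    have hS := ((OS hQ₀ hD hr hrp).2 hie') s' (by
      rw [← hi, hA]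
      rcases hs' with h0 | h0
      · exact Or.inl h0
      · right
        calc i * ((r - 1) / i + 2 * s') ≤ i * (A + 1) := Nat.mul_le_mul_left i h0
          _ = i * A + i := by ring)
    rw [← hi] at hS
    obtain ⟨W, hWd, hWts, hWinv⟩ := glue hQ₀ hD hS hU₂ hU₂ts hU₂d
    exact ⟨W, by rw [hWd, hsum], hWts, hWinv⟩

end model

end Cfsg.Agent.Lib.Helper99_OrthTS_Model
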