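import Mathlib
import Cfsg.Prelude.Def_GeometricClasses
import Cfsg.Prelude.Def_Classical
import Cfsg.Agent.Lib.Helper99_OrthR2_Gen
import Cfsg.Agent.Lib.Helper44_StdForms
import Cfsg.Agent.Lib.Helper40_QuadStd
import Cfsg.Agent.Lib.Helper14_POmegaSimple

/-!
The `r = 2 ≠ p` case theorems of S5973 (`R2plus`) and S5987 (`R2minus`): specialisation of
`Helper99_OrthR2_Gen.R2gen_plus / R2gen_minus` to the standard forms, with the conditions on squares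
translated into congruences on `q`.
-/

set_option autoImplicit false
open scoped MatrixGroups

namespace Cfsg.Agent.Lib.Helper99_OrthTS_R2

open Matrix Module Cfsg.Agent.Lib.Helper13_OrthR2Defs Cfsg.Agent.Lib.Helper44_StdForms
  Cfsg.Agent.Lib.Helper99_OrthR2_Gen

theorem two_ne_zero_of_char {F : Type*} [Field F] {p : ℕ} [CharP F p] (hp2 : p ≠ 2) : (2 : F) ≠ 0 := by
  intro h
  have h1 : ((2 : ℕ) : F) = 0 := by exact_mod_cast h
  have h3 := (CharP.cast_eq_zero_iff F p 2).1 h1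
  have hp1 : p ≠ 1 := CharP.char_ne_one F p
  have := Nat.le_of_dvd two_pos h3
  interval_cases p
  · simp at h3
  · exact hp1 rfl
  · exact hp2 rfl

theorem card_mod_two {F : Type*} [Field F] [Fintype F] {p : ℕ} [CharP F p] (hp2 : p ≠ 2) :
    Fintype.card F % 2 = 1 := by
  apply FiniteField.odd_card_of_char_ne_two
  rw [ringChar.eq F p]
  exact hp2

/-- R2plus: case `r = 2 ≠ p` of S5973. -/
theorem R2plus {F : Type*} [Field F] [Fintype F] {p : ℕ} [Fact p.Prime] [CharP F p] {q : ℕ} (hq : Fintype.card F = q)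
    (d m : ℕ) (hd : 4 ≤ d) (hm : 1 ≤ m) (hmd : m < d) (hp2 : p ≠ 2) :
    (∀ x : GL (Fin d ⊕ Fin d) F, x ∈ Cfsg.Geo.omegaGL (Cfsg.quadFormPlus d F) →
      (∃ z : F, ((x ^ 2 : GL (Fin d ⊕ Fin d) F) : Matrix (Fin d ⊕ Fin d) (Fin d ⊕ Fin d) F) = z • (1 : Matrix (Fin d ⊕ Fin d) (Fin d ⊕ Fin d) F)) →
      (∀ z : F, (x : Matrix (Fin d ⊕ Fin d) (Fin d ⊕ Fin d) F) ≠ z • (1 : Matrix (Fin d ⊕ Fin d) (Fin d ⊕ Fin d) F)) →
      ∃ W : Submodule F (Fin d ⊕ Fin d → F), Module.finrank F ↥W = m ∧ (∀ w ∈ W, Cfsg.quadFormPlus d F w = 0) ∧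
        W.map (Matrix.toLin' (x : Matrix (Fin d ⊕ Fin d) (Fin d ⊕ Fin d) F)) ≤ W) ↔
    (q % 4 = 1 ∨ (q % 4 = 3 ∧ m + 2 ≤ d ∧ (Even m ∨ (2 * d) % 4 = 2))) := by
  classical
  subst hq
  have h2 : (2 : F) ≠ 0 := two_ne_zero_of_char (p := p) hp2
  have hodd := card_mod_two (F := F) (p := p) hp2
  have hcoe : ⇑(qfPlus d F) = Cfsg.quadFormPlus d F := coe_qfPlus d F
  have hQ : (QuadraticMap.polarBilin (qfPlus d F)).Nondegenerate :=
    Cfsg.Agent.Lib.Helper14_POmegaSimple.nondegenerate_qfPlus d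
  have hcard : Fintype.card (Fin d ⊕ Fin d) = 2 * d := by
    rw [Fintype.card_sum, Fintype.card_fin]; ring
  have hplus : Plus (qfPlus d F) ⊤ :=
    (Cfsg.Agent.Lib.Helper99_OrthR2_B5.plus_top_iff_isHyp _ d hcard).2
      (Cfsg.Agent.Lib.Helper40_QuadStd.isHyp_qfPlus d)
  have key := R2gen_plus h2 (qfPlus d F) hQ d m hcard hd hm hmd hplus
  have harith : (IsSquare (-1 : F) ∨ (m + 2 ≤ d ∧ (Even m ∨ Odd d))) ↔
      (Fintype.card F % 4 = 1 ∨ (Fintype.card F % 4 = 3 ∧ m + 2 ≤ d ∧ (Even m ∨ (2 * d) % 4 = 2))) := by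
    rw [FiniteField.isSquare_neg_one_iff, Nat.odd_iff]
    have h3 : (2 * d) % 4 = 2 ↔ d % 2 = 1 := by omega
    rw [h3]
    constructor
    · rintro (h | h)
      · left; omega
      · by_cases h4 : Fintype.card F % 4 = 3
        · exact Or.inr ⟨h4, h⟩
        · left; omega
    · rintro (h | ⟨-, h⟩)
      · left; omega
      · exact Or.inr h
  rw [← hcoe, ← harith, ← key]
  rfl

/-- R2minus: case `r = 2 ≠ p` of S5987. -/
theorem R2minus {F : Type*} [Field F] [Fintype F] {p : ℕ} [Fact p.Prime] [CharP F p] {q : ℕ} (hq : Fintype.card F = q)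
    (d m : ℕ) (hd : 4 ≤ d) (hm : 1 ≤ m) (hmd : m + 1 ≤ d) (a b : F) (hab : ∀ x y : F, x ^ 2 + a * x * y + b * y ^ 2 = 0 → x = 0 ∧ y = 0)
    (hp2 : p ≠ 2) :
    (∀ x : GL ((Fin (d - 1) ⊕ Fin (d - 1)) ⊕ Fin 2) F, x ∈ Cfsg.Geo.omegaGL (Cfsg.quadFormMinus (d - 1) F a b) →
      (∃ z : F, ((x ^ 2 : GL ((Fin (d - 1) ⊕ Fin (d - 1)) ⊕ Fin 2) F) : Matrix ((Fin (d - 1) ⊕ Fin (d - 1)) ⊕ Fin 2) ((Fin (d - 1) ⊕ Fin (d - 1)) ⊕ Fin 2) F) = z • (1 : Matrix ((Fin (d - 1) ⊕ Fin (d - 1)) ⊕ Fin 2) ((Fin (d - 1) ⊕ Fin (d - 1)) ⊕ Fin 2) F)) →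
      (∀ z : F, (x : Matrix ((Fin (d - 1) ⊕ Fin (d - 1)) ⊕ Fin 2) ((Fin (d - 1) ⊕ Fin (d - 1)) ⊕ Fin 2) F) ≠ z • (1 : Matrix ((Fin (d - 1) ⊕ Fin (d - 1)) ⊕ Fin 2) ((Fin (d - 1) ⊕ Fin (d - 1)) ⊕ Fin 2) F)) →
      ∃ W : Submodule F ((Fin (d - 1) ⊕ Fin (d - 1)) ⊕ Fin 2 → F), (Module.finrank F ↥W = m ∧ Cfsg.Geo.IsTotallySingularQuad (Cfsg.quadFormMinus (d - 1) F a b) W) ∧ W.map (Matrix.toLin' (x : Matrix ((Fin (d - 1) ⊕ Fin (d - 1)) ⊕ Fin 2) ((Fin (d - 1) ⊕ Fin (d - 1)) ⊕ Fin 2) F)) ≤ W) ↔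
    (Even d ∨ Even m ∨ q % 8 ≠ 7) := by
  classical
  subst hq
  have h2 : (2 : F) ≠ 0 := two_ne_zero_of_char (p := p) hp2
  have hodd := card_mod_two (F := F) (p := p) hp2
  have hcoe : ⇑(qfMinus (d - 1) F a b) = Cfsg.quadFormMinus (d - 1) F a b := coe_qfMinus (d - 1) F a b
  have hQ : (QuadraticMap.polarBilin (qfMinus (d - 1) F a b)).Nondegenerate :=
    Cfsg.Agent.Lib.Helper14_POmegaSimple.nondegenerate_qfMinus (d - 1) a b hab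
  have hcard : Fintype.card ((Fin (d - 1) ⊕ Fin (d - 1)) ⊕ Fin 2) = 2 * d := by
    rw [Fintype.card_sum, Fintype.card_sum, Fintype.card_fin, Fintype.card_fin]; omega
  have hminus : ¬ Plus (qfMinus (d - 1) F a b) ⊤ := fun h =>
    Cfsg.Agent.Lib.Helper40_QuadStd.not_isHyp_qfMinus (d - 1) a b hab
      ((Cfsg.Agent.Lib.Helper99_OrthR2_B5.plus_top_iff_isHyp _ d hcard).1 h)
  have key := R2gen_minus h2 (qfMinus (d - 1) F a b) hQ d m hcard hd hm hmd hminus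
  have harith : (Even d ∨ Even m ∨ ¬ (¬ IsSquare (-1 : F) ∧ IsSquare (2 : F))) ↔
      (Even d ∨ Even m ∨ Fintype.card F % 8 ≠ 7) := by
    rw [FiniteField.isSquare_neg_one_iff, FiniteField.isSquare_two_iff]
    have h3 : (¬ (¬ Fintype.card F % 4 ≠ 3 ∧ (Fintype.card F % 8 ≠ 3 ∧ Fintype.card F % 8 ≠ 5))) ↔
        Fintype.card F % 8 ≠ 7 := by omega
    rw [h3]
  rw [← hcoe, ← harith, ← key]
  constructor
  · intro h x hx hz hns
    obtain ⟨W, ⟨h1, h2⟩, h3⟩ := h x hx hz hns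
    exact ⟨W, h1, h2, h3⟩
  · intro h x hx hz hns
    obtain ⟨W, h1, h2, h3⟩ := h x hx hz hns
    exact ⟨W, ⟨h1, h2⟩, h3⟩

end Cfsg.Agent.Lib.Helper99_OrthTS_R2
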