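/-
Helper99_QuadF2: quadratic forms over `ZMod 2` in symplectic coordinates, and the
character-sum invariant `Σ_v (-1)^{Q v}` distinguishing plus and minus type.
-/
import Mathlib

set_option autoImplicit false

namespace Cfsg.Agent.Lib.Helper99_QuadF2

open Module

lemma z2_mul_self (a : ZMod 2) : a * a = a := by
  revert a; decide

lemma z2_add_self (a : ZMod 2) : a + a = 0 := by
  revert a; decide

lemma z2_cases (a : ZMod 2) : a = 0 ∨ a = 1 := by
  revert a; decide

section Coords

variable {V : Type*} [AddCommGroup V] [Module (ZMod 2) V]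
variable {ι : Type*} [Fintype ι] [DecidableEq ι]

/-- The model form `Σ_i (a_i α_i + a_i b_i + b_i β_i)` in symplectic coordinates. -/
def Qab (α β : ι → ZMod 2) (c : ι ⊕ ι → ZMod 2) : ZMod 2 :=
  ∑ i, (c (Sum.inl i) * α i + c (Sum.inl i) * c (Sum.inr i) + c (Sum.inr i) * β i)

omit [Fintype ι] [DecidableEq ι] in
lemma map_smul_z2 (Q : V → ZMod 2) (B : LinearMap.BilinForm (ZMod 2) V)
    (hQ : ∀ u v, Q (u + v) = Q u + Q v + B u v) (a : ZMod 2) (u : V) : Q (a • u) = a * Q u := by
  have h0 : Q 0 = 0 := by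
    have := hQ 0 0
    simp only [add_zero, map_zero, LinearMap.zero_apply] at this
    have h2 : Q 0 + Q 0 = Q 0 + 0 := by rw [add_zero]; exact this.symm
    exact add_left_cancel h2
  rcases z2_cases a with rfl | rfl
  · rw [zero_smul, zero_mul, h0]
  · rw [one_smul, one_mul]

omit [DecidableEq ι] in
lemma map_sum_of_orth (Q : V → ZMod 2) (B : LinearMap.BilinForm (ZMod 2) V)
    (hQ : ∀ u v, Q (u + v) = Q u + Q v + B u v) (t : ι → V)
    (ht : ∀ i j, i ≠ j → B (t i) (t j) = 0) (s : Finset ι) :
    Q (∑ i ∈ s, t i) = ∑ i ∈ s, Q (t i) := by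
  classical
  have h0 : Q 0 = 0 := by
    have := map_smul_z2 Q B hQ 0 0
    rwa [zero_mul, zero_smul] at this
  induction s using Finset.induction_on with
  | empty => simp [h0]
  | insert a s ha ih =>
    rw [Finset.sum_insert ha, Finset.sum_insert ha, hQ, ih, map_sum]
    have : ∑ i ∈ s, B (t a) (t i) = 0 := by
      refine Finset.sum_eq_zero fun i hi => ht a i ?_
      rintro rfl
      exact ha hi
    rw [this, add_zero]

/-- **Symplectic coordinates**: a symplectic family of the right size gives coordinates in which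
the quadratic form is the model form `Qab`. -/
theorem exists_coords [FiniteDimensional (ZMod 2) V] (Q : V → ZMod 2)
    (B : LinearMap.BilinForm (ZMod 2) V) (hQ : ∀ u v, Q (u + v) = Q u + Q v + B u v)
    (x y : ι → V) (hxy : ∀ i j, B (x i) (y j) = if i = j then 1 else 0)
    (hyx : ∀ i j, B (y i) (x j) = if i = j then 1 else 0)
    (hxx : ∀ i j, B (x i) (x j) = 0) (hyy : ∀ i j, B (y i) (y j) = 0)
    (hdim : finrank (ZMod 2) V = Fintype.card ι + Fintype.card ι) :
    ∃ e : V ≃ₗ[ZMod 2] (ι ⊕ ι → ZMod 2),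
      ∀ v, Qab (fun i => Q (x i)) (fun i => Q (y i)) (e v) = Q v := by
  let L : (ι ⊕ ι → ZMod 2) →ₗ[ZMod 2] V := Fintype.linearCombination (ZMod 2) (Sum.elim x y)
  have hL : ∀ c, L c = ∑ i, (c (Sum.inl i) • x i + c (Sum.inr i) • y i) := by
    intro c
    change Fintype.linearCombination (ZMod 2) (Sum.elim x y) c = _
    rw [Fintype.linearCombination_apply, Fintype.sum_sum_type, Finset.sum_add_distrib]
    rfl
  -- pairings
  have hBy : ∀ c j, B (L c) (y j) = c (Sum.inl j) := by
    intro c j
    rw [hL, map_sum, LinearMap.sum_apply]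
    simp only [map_add, map_smul, LinearMap.add_apply, LinearMap.smul_apply, hxy, hyy, smul_eq_mul,
      mul_zero, add_zero, mul_ite, mul_one, Finset.sum_ite_eq', Finset.mem_univ, if_true]
  have hBx : ∀ c j, B (L c) (x j) = c (Sum.inr j) := by
    intro c j
    rw [hL, map_sum, LinearMap.sum_apply]
    simp only [map_add, map_smul, LinearMap.add_apply, LinearMap.smul_apply, hxx, hyx, smul_eq_mul,
      mul_zero, zero_add, mul_ite, mul_one, Finset.sum_ite_eq', Finset.mem_univ, if_true]
  have hinj : Function.Injective L := by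
    rw [injective_iff_map_eq_zero]
    intro c hc
    funext k
    rcases k with j | j
    · rw [← hBy c j, hc]; simp
    · rw [← hBx c j, hc]; simp
  have hrank : finrank (ZMod 2) (ι ⊕ ι → ZMod 2) = finrank (ZMod 2) V := by
    rw [Module.finrank_fintype_fun_eq_card, Fintype.card_sum, hdim]
  have hQL : ∀ c, Q (L c) = Qab (fun i => Q (x i)) (fun i => Q (y i)) c := by
    intro c
    rw [hL, map_sum_of_orth Q B hQ (fun i => c (Sum.inl i) • x i + c (Sum.inr i) • y i)]
    · rw [Qab]
      refine Finset.sum_congr rfl fun i _ => ?_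
      rw [hQ, map_smul_z2 Q B hQ, map_smul_z2 Q B hQ]
      simp only [map_smul, LinearMap.smul_apply, smul_eq_mul, hxy, if_true, mul_one]
      ring
    · intro i j hij
      have hji : j ≠ i := fun h => hij h.symm
      simp only [map_add, map_smul, LinearMap.add_apply, LinearMap.smul_apply, smul_eq_mul, hxx,
        hyy, hxy, hyx, if_neg hij, mul_zero, add_zero]
  refine ⟨(LinearEquiv.ofInjectiveOfFinrankEq L hinj hrank).symm, ?_⟩
  intro v
  set c := (LinearEquiv.ofInjectiveOfFinrankEq L hinj hrank).symm v with hc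
  have hv : L c = v := by
    have := (LinearEquiv.ofInjectiveOfFinrankEq L hinj hrank).apply_symm_apply v
    rw [← hc] at this
    exact this
  rw [← hv, hQL]

end Coords

section CharSum

variable {ι : Type*} [Fintype ι] [DecidableEq ι]

/-- The nontrivial additive character of `ZMod 2`. -/
def chi (t : ZMod 2) : ℤ := if t = 0 then 1 else -1

lemma chi_add (s t : ZMod 2) : chi (s + t) = chi s * chi t := by
  revert s t; decide

omit [Fintype ι] [DecidableEq ι] in
lemma chi_sum (s : Finset ι) (f : ι → ZMod 2) : chi (∑ i ∈ s, f i) = ∏ i ∈ s, chi (f i) := by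
  classical
  induction s using Finset.induction_on with
  | empty => simp [chi]
  | insert a s ha ih => rw [Finset.sum_insert ha, Finset.prod_insert ha, chi_add, ih]

/-- The character sum of a plane `a α + a b + b β`. -/
def sgn (a b : ZMod 2) : ℤ := ∑ u : ZMod 2, ∑ v : ZMod 2, chi (u * a + u * v + v * b)

lemma sgn_zero_left (b : ZMod 2) : sgn 0 b = 2 := by
  revert b; decide

lemma sgn_zero_right (a : ZMod 2) : sgn a 0 = 2 := by
  revert a; decide

lemma sgn_one_one : sgn 1 1 = -2 := by decide

/-- Pairs of coordinates. -/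
def pairEquiv : (ι ⊕ ι → ZMod 2) ≃ (ι → ZMod 2 × ZMod 2) where
  toFun c i := (c (Sum.inl i), c (Sum.inr i))
  invFun P := Sum.elim (fun i => (P i).1) (fun i => (P i).2)
  left_inv c := by
    funext k
    rcases k with i | i <;> rfl
  right_inv P := by
    funext i
    rfl

/-- **Product formula** for the character sum of the model form. -/
theorem sum_chi_Qab (α β : ι → ZMod 2) :
    ∑ c : ι ⊕ ι → ZMod 2, chi (Qab α β c) = ∏ i, sgn (α i) (β i) := by
  have h1 : ∏ i, sgn (α i) (β i) =
      ∏ i, ∑ p ∈ (Finset.univ : Finset (ZMod 2 × ZMod 2)),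
        chi (p.1 * α i + p.1 * p.2 + p.2 * β i) := by
    refine Finset.prod_congr rfl fun i _ => ?_
    rw [sgn, Fintype.sum_prod_type]
  rw [h1, Finset.prod_univ_sum, Fintype.piFinset_univ]
  refine Fintype.sum_equiv pairEquiv _ _ fun c => ?_
  rw [Qab, chi_sum]
  rfl

/-- Isometric model forms have equal character sums. -/
theorem prod_sgn_eq {κ : Type*} [Fintype κ] [DecidableEq κ] (α β : ι → ZMod 2)
    (α' β' : κ → ZMod 2) (e : (ι ⊕ ι → ZMod 2) ≃ (κ ⊕ κ → ZMod 2))
    (he : ∀ c, Qab α' β' (e c) = Qab α β c) :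
    ∏ i, sgn (α i) (β i) = ∏ i, sgn (α' i) (β' i) := by
  rw [← sum_chi_Qab, ← sum_chi_Qab]
  refine Fintype.sum_equiv e _ _ fun c => ?_
  rw [he]

end CharSum

end Cfsg.Agent.Lib.Helper99_QuadF2
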