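import Mathlib

set_option autoImplicit false

/-!
`r`-th powers in the multiplicative group of a finite field, and the arithmetic condition
governing the existence of `c` not an `r`-th power with `((-1)^(r+1) c)^(n/r) = 1`.
-/

namespace Cfsg.Agent.Lib.Helper99_RthPowers

section Cyclic

variable {G : Type*} [Group G] [Finite G] [IsCyclic G]

/-- criterion for being an `r`-th power in a finite cyclic group. -/
theorem exists_pow_eq_of_pow_eq_one {r : ℕ} (hr : r ∣ Nat.card G) (u : G)
    (hu : u ^ (Nat.card G / r) = 1) : ∃ z : G, z ^ r = u := by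
  obtain ⟨g, hg⟩ := IsCyclic.exists_monoid_generator (α := G)
  have hord : orderOf g = Nat.card G :=
    orderOf_eq_card_of_forall_mem_zpowers fun x =>
      Submonoid.powers_le_zpowers g (hg x)
  obtain ⟨j, rfl⟩ := hg u
  have hN : 0 < Nat.card G := Nat.card_pos
  have hr0 : 0 < r := Nat.pos_of_dvd_of_pos hr hN
  have hNr : 0 < Nat.card G / r := Nat.div_pos (Nat.le_of_dvd hN hr) hr0
  rw [← pow_mul] at hu
  have h1 : Nat.card G ∣ j * (Nat.card G / r) := by
    have := orderOf_dvd_of_pow_eq_one hu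
    rwa [hord] at this
  have h2 : r * (Nat.card G / r) ∣ j * (Nat.card G / r) := by
    rwa [Nat.mul_div_cancel' hr]
  obtain ⟨j', rfl⟩ := Nat.dvd_of_mul_dvd_mul_right hNr h2
  exact ⟨g ^ j', by rw [← pow_mul, mul_comm]⟩

/-- an element of order `r^v`, `v = v_r(|G|) ≥ 1`, is not an `r`-th power. -/
theorem exists_orderOf_not_pow {r : ℕ} [Fact r.Prime] (hr : r ∣ Nat.card G) :
    ∃ d : G, orderOf d = r ^ padicValNat r (Nat.card G) ∧ ∀ z : G, z ^ r ≠ d := by
  have hrp : r.Prime := Fact.out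
  have hN : 0 < Nat.card G := Nat.card_pos
  set v := padicValNat r (Nat.card G) with hv
  have hv1 : 1 ≤ v := one_le_padicValNat_of_dvd hN.ne' hr
  obtain ⟨g, hg⟩ := IsCyclic.exists_ofOrder_eq_natCard (α := G)
  have hdvd : r ^ v ∣ Nat.card G := pow_padicValNat_dvd
  have hpos : 0 < r ^ v := pow_pos hrp.pos v
  have hdvd2 : Nat.card G / r ^ v ∣ orderOf g := by rw [hg]; exact Nat.div_dvd_of_dvd hdvd
  have hne : Nat.card G / r ^ v ≠ 0 :=
    (Nat.div_pos (Nat.le_of_dvd hN hdvd) hpos).ne'
  have hord : orderOf (g ^ (Nat.card G / r ^ v)) = r ^ v := by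
    rw [orderOf_pow_of_dvd hne hdvd2, hg, Nat.div_div_self hdvd hN.ne']
  refine ⟨g ^ (Nat.card G / r ^ v), hord, ?_⟩
  intro z hz
  have h1 := orderOf_pow' z hrp.ne_zero
  rw [hz, hord] at h1
  have hoz : 0 < orderOf z := orderOf_pos z
  by_cases hrz : r ∣ orderOf z
  · rw [Nat.gcd_eq_right hrz] at h1
    have h2 : orderOf z = r ^ (v + 1) := by
      rw [pow_succ, h1, Nat.div_mul_cancel hrz]
    have h3 : r ^ (v + 1) ∣ Nat.card G := by rw [← h2]; exact orderOf_dvd_natCard z
    rw [padicValNat_dvd_iff_le hN.ne'] at h3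
    omega
  · rw [(Nat.Coprime.symm ((Nat.Prime.coprime_iff_not_dvd hrp).2 hrz)).gcd_eq_one,
      Nat.div_one] at h1
    apply hrz
    rw [← h1]
    exact dvd_pow_self r (by omega)

end Cyclic

section Field

variable {F : Type*} [Field F] [Fintype F]

/-- the condition `(q-1)_r ≥ (n)_r` (with `q ≡ 1 mod 4` if `r = 2` and `n` even). -/
def Cond (r n q : ℕ) : Prop :=
  padicValNat r n ≤ padicValNat r (q - 1) ∧ (r = 2 → Even n → q % 4 = 1)

theorem card_units_eq : Nat.card Fˣ = Fintype.card F - 1 := by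
  rw [Nat.card_units, Nat.card_eq_fintype_card]

omit [Fintype F] in
/-- lifting `r`-th roots from the field to units. -/
theorem unit_pow_ne {r : ℕ} (hr : r ≠ 0) {d : Fˣ} (hd : ∀ z : Fˣ, z ^ r ≠ d) (z : F) :
    z ^ r ≠ (d : F) := by
  intro h
  have hz0 : z ≠ 0 := by
    rintro rfl
    rw [zero_pow hr] at h
    exact d.ne_zero h.symm
  apply hd (Units.mk0 z hz0)
  ext
  simpa using h

theorem odd_card_of_two_dvd (h : 2 ∣ Fintype.card F - 1) : Fintype.card F % 2 = 1 := by
  have : 1 ≤ Fintype.card F := Fintype.card_pos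
  omega

/-- if the condition fails there is a non-`r`-th power `c` with
`((-1)^(r+1) c)^(n/r) = 1`. -/
theorem exists_nonpower {r : ℕ} [Fact r.Prime] (n : ℕ) (hrq : r ∣ Fintype.card F - 1)
    (hcond : ¬ Cond r n (Fintype.card F)) :
    r ∣ n ∧ ∃ c : F, (∀ z : F, z ^ r ≠ c) ∧ ((-1) ^ (r + 1) * c) ^ (n / r) = 1 := by
  classical
  have hrp : r.Prime := Fact.out
  have hrG : r ∣ Nat.card Fˣ := by rw [card_units_eq]; exact hrq
  obtain ⟨d, hdord, hdpow⟩ := exists_orderOf_not_pow (G := Fˣ) hrG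
  rw [card_units_eq] at hdord
  set v := padicValNat r (Fintype.card F - 1) with hv
  -- `d ^ (n / r) = 1` when `v < v_r(n)`
  have hdn : v < padicValNat r n → r ∣ n ∧ (d : F) ^ (n / r) = 1 := by
    intro hlt
    have hn0 : n ≠ 0 := by
      rintro rfl
      simp at hlt
    have h1 : r ^ (v + 1) ∣ n := (padicValNat_dvd_iff_le hn0).2 hlt
    obtain ⟨w, hw⟩ := h1
    have hrn : r ∣ n := ⟨r ^ v * w, by rw [hw, pow_succ]; ring⟩
    refine ⟨hrn, ?_⟩
    have h2 : n / r = r ^ v * w := by
      rw [hw, pow_succ, mul_assoc, mul_comm (r ^ v), mul_assoc, Nat.mul_div_cancel_left _ hrp.pos]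
      ring
    rw [h2, pow_mul, ← Units.val_pow_eq_pow_val, ← hdord, pow_orderOf_eq_one, Units.val_one,
      one_pow]
  by_cases hr2 : r = 2
  · -- `r = 2`
    subst hr2
    have hodd : Fintype.card F % 2 = 1 := odd_card_of_two_dvd hrq
    have hneg : ((-1 : F)) ^ (2 + 1) = -1 := by norm_num
    by_cases hq4 : Fintype.card F % 4 = 3
    · -- `c = -1`
      have hn2 : 2 ∣ n := by
        by_contra hn2
        apply hcond
        refine ⟨?_, fun _ he => absurd (even_iff_two_dvd.1 he) hn2⟩
        rw [padicValNat.eq_zero_of_not_dvd hn2]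
        exact Nat.zero_le _
      refine ⟨hn2, -1, ?_, ?_⟩
      · intro z hz
        have : IsSquare (-1 : F) := ⟨z, by rw [← hz, pow_two]⟩
        rw [FiniteField.isSquare_neg_one_iff] at this
        exact this hq4
      · rw [hneg]; simp
    · have hq41 : Fintype.card F % 4 = 1 := by omega
      have hlt : v < padicValNat 2 n := by
        by_contra hle
        exact hcond ⟨by omega, fun _ _ => hq41⟩
      obtain ⟨hn2, hdn1⟩ := hdn hlt
      obtain ⟨i, hi⟩ : IsSquare (-1 : F) := by
        rw [FiniteField.isSquare_neg_one_iff]; omega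
      refine ⟨hn2, -(d : F), ?_, ?_⟩
      · intro z hz
        apply unit_pow_ne (by norm_num) hdpow (i * z)
        rw [mul_pow, hz, pow_two, ← hi]
        ring
      · rw [hneg, neg_mul_neg, one_mul, hdn1]
  · -- `r` odd
    have hrodd : Odd r := hrp.odd_of_ne_two hr2
    have hlt : v < padicValNat r n := by
      by_contra hle
      exact hcond ⟨by omega, fun h => absurd h hr2⟩
    obtain ⟨hrn, hdn1⟩ := hdn hlt
    refine ⟨hrn, (d : F), unit_pow_ne hrp.ne_zero hdpow, ?_⟩
    rw [(hrodd.add_one).neg_one_pow, one_mul, hdn1]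

/-- under the condition, `((-1)^(r+1) c)^(n/r) = 1` forces `c` to be an `r`-th power. -/
theorem exists_pow_of_cond {r : ℕ} [Fact r.Prime] (n : ℕ) (hn : n ≠ 0)
    (hrq : r ∣ Fintype.card F - 1) (hcond : Cond r n (Fintype.card F)) (hrn : r ∣ n) (c : F)
    (hc : c ≠ 0) (hdet : ((-1) ^ (r + 1) * c) ^ (n / r) = 1) : ∃ z : F, z ^ r = c := by
  classical
  have hrp : r.Prime := Fact.out
  have hN : 0 < Fintype.card F - 1 := by
    have := Fintype.one_lt_card (α := F)
    omega
  set v := padicValNat r (Fintype.card F - 1) with hv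
  have hv1 : 1 ≤ v := one_le_padicValNat_of_dvd hN.ne' hrq
  set d : F := (-1) ^ (r + 1) * c with hd
  have hd0 : d ≠ 0 := mul_ne_zero (pow_ne_zero _ (neg_ne_zero.2 one_ne_zero)) hc
  set du : Fˣ := Units.mk0 d hd0 with hdu
  have hduv : (du : F) = d := rfl
  have hdut : du ^ (n / r) = 1 := by
    ext
    rw [Units.val_pow_eq_pow_val, hduv, Units.val_one]
    exact hdet
  obtain ⟨t, ht⟩ := hrn
  have ht0 : t ≠ 0 := by
    rintro rfl
    exact hn (by rw [ht, mul_zero])
  have hnr : n / r = t := by rw [ht, Nat.mul_div_cancel_left _ hrp.pos]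
  rw [hnr] at hdut
  have hvt : padicValNat r t < v := by
    have h1 : padicValNat r n = 1 + padicValNat r t := by
      rw [ht, padicValNat.mul hrp.ne_zero ht0, padicValNat_self]
    have := hcond.1
    omega
  set o := orderOf du with ho
  have ho0 : o ≠ 0 := (orderOf_pos du).ne'
  have hot : o ∣ t := orderOf_dvd_of_pow_eq_one hdut
  have hoN : o ∣ Fintype.card F - 1 := by
    rw [← card_units_eq]; exact orderOf_dvd_natCard du
  have hvo : padicValNat r o ≤ padicValNat r t := by
    rw [← padicValNat_dvd_iff_le ht0]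
    exact pow_padicValNat_dvd.trans hot
  obtain ⟨w, hw⟩ := hoN
  have hw0 : w ≠ 0 := by
    rintro rfl
    rw [mul_zero] at hw
    omega
  have hrw : r ∣ w := by
    apply dvd_of_one_le_padicValNat
    have h1 : v = padicValNat r o + padicValNat r w := by
      rw [hv, hw, padicValNat.mul ho0 hw0]
    omega
  obtain ⟨w', rfl⟩ := hrw
  have hNr : (Fintype.card F - 1) / r = o * w' := by
    rw [hw, mul_comm r w', ← mul_assoc, Nat.mul_div_cancel _ hrp.pos]
  have hpow : du ^ (Nat.card Fˣ / r) = 1 := by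
    rw [card_units_eq, hNr, pow_mul, pow_orderOf_eq_one, one_pow]
  obtain ⟨zu, hzu⟩ := exists_pow_eq_of_pow_eq_one (G := Fˣ)
    (by rw [card_units_eq]; exact hrq) du hpow
  have hz : (zu : F) ^ r = d := by
    have := congrArg Units.val hzu
    rw [Units.val_pow_eq_pow_val, hduv] at this
    exact this
  by_cases hr2 : r = 2
  · subst hr2
    have hneg : ((-1 : F)) ^ (2 + 1) = -1 := by norm_num
    have heven : Even n := by rw [ht]; exact even_two_mul t
    have hq4 : Fintype.card F % 4 = 1 := hcond.2 rfl heven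
    obtain ⟨i, hi⟩ : IsSquare (-1 : F) := by
      rw [FiniteField.isSquare_neg_one_iff]; omega
    refine ⟨i * zu, ?_⟩
    rw [mul_pow, hz, hd, hneg, pow_two, ← hi]
    ring
  · have hrodd : Odd r := hrp.odd_of_ne_two hr2
    refine ⟨zu, ?_⟩
    rw [hz, hd, (hrodd.add_one).neg_one_pow, one_mul]

end Field

end Cfsg.Agent.Lib.Helper99_RthPowers
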