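import Mathlib
import Cfsg.Prelude.Def_Classical
import Cfsg.Agent.Lib.Helper43_PolarPair3
import Cfsg.Agent.Lib.Helper99_SingerEmb
import Cfsg.Agent.Lib.Helper5_SUCenter
import Cfsg.Agent.Lib.Helper63_S2496_FRAME

/-!
helper99: package S2496-EX (helper42's market).  For `q` odd, `m` even with
`v₂(q+1) < v₂(2m)`, the group `PSU_{2m}(q)` has an element of order `q^m + 1`:
the image under helper43's `embGL` of `S ^ ((q+1) * (T/d))`, `S` a Singer cycle of `GL_m(q²)`,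
`T = (q^m-1)/(q+1)`, `d = gcd(2m, q+1)`.

Also reusable: `psu_pow` (powers in `PSU_n(q)`), `orderOf_mk_eq`, `geomT`, `gcd_dvd_iff`,
`arith_iff`, `frameMat_smul_one`.
-/

set_option autoImplicit false

namespace Cfsg.Agent.Lib.Helper99_S2496_EX

open Matrix Cfsg.Agent.Lib.Helper43_PolarPair1 Cfsg.Agent.Lib.Helper43_PolarPair2
  Cfsg.Agent.Lib.Helper43_PolarPair3 Cfsg.Agent.Lib.Helper99_SingerEmb
  Cfsg.Agent.Lib.Helper13_Herm Cfsg.Agent.Lib.Helper13_HermBridge
  Cfsg.Agent.Lib.Helper5_SUCenter Cfsg.Agent.Lib.Helper5_GUOrder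

/-- `gcd(2m, Q) ∣ m` iff the 2-part of `Q` is smaller than that of `2m` -/
theorem gcd_dvd_iff (m Q : ℕ) (hm : 0 < m) (hQ : 0 < Q) :
    Nat.gcd (2 * m) Q ∣ m ↔ padicValNat 2 Q < padicValNat 2 (2 * m) := by
  have h2m : padicValNat 2 (2 * m) = padicValNat 2 m + 1 := by
    rw [padicValNat.mul (by norm_num) hm.ne', padicValNat.self (by norm_num), add_comm]
  constructor
  · intro h
    by_contra hlt
    push Not at hlt
    have h1 : 2 ^ padicValNat 2 (2 * m) ∣ 2 * m := pow_padicValNat_dvd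
    have h2 : 2 ^ padicValNat 2 (2 * m) ∣ Q :=
      dvd_trans (pow_dvd_pow 2 hlt) pow_padicValNat_dvd
    have h3 : 2 ^ padicValNat 2 (2 * m) ∣ m := dvd_trans (Nat.dvd_gcd h1 h2) h
    have h4 := (padicValNat_dvd_iff_le (p := 2) hm.ne').1 h3
    omega
  · intro hlt
    set D := Nat.gcd (2 * m) Q with hD
    have hDpos : 0 < D := Nat.gcd_pos_of_pos_right _ hQ
    obtain ⟨v, D', hD'odd, hDeq⟩ := Nat.exists_eq_two_pow_mul_odd hDpos.ne'
    have hD2m : D ∣ 2 * m := Nat.gcd_dvd_left _ _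
    have hDQ : D ∣ Q := Nat.gcd_dvd_right _ _
    have h1 : D' ∣ m := by
      have : D' ∣ 2 * m := dvd_trans (hDeq ▸ dvd_mul_left D' (2 ^ v)) hD2m
      exact (Nat.Coprime.dvd_of_dvd_mul_left (Nat.Coprime.symm
        (Nat.coprime_two_left.2 hD'odd)) this)
    have h2 : 2 ^ v ∣ Q := dvd_trans (hDeq ▸ dvd_mul_right (2 ^ v) D') hDQ
    have h3 : v ≤ padicValNat 2 Q := (padicValNat_dvd_iff_le (p := 2) hQ.ne').1 h2
    have h4 : 2 ^ v ∣ m := (padicValNat_dvd_iff_le (p := 2) hm.ne').2 (by omega)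
    rw [hDeq]
    exact Nat.Coprime.mul_dvd_of_dvd_of_dvd
      (Nat.Coprime.pow_left v (Nat.coprime_two_left.2 hD'odd)) h4 h1

theorem arith_iff (N T dd h Q j : ℕ) (hT : 0 < T) (hdd : dd ∣ T) (hQ : Q = h * dd)
    (hco : Nat.Coprime N h) (hdd0 : 0 < dd) :
    N * T ∣ Q * (T / dd) * j ↔ N ∣ j := by
  obtain ⟨t', rfl⟩ := hdd
  rw [Nat.mul_div_cancel_left _ hdd0, hQ]
  have h1 : h * dd * t' * j = (dd * t') * (h * j) := by ring
  rw [h1, mul_comm N (dd * t'), Nat.mul_dvd_mul_iff_left hT]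
  constructor
  · intro h2
    exact hco.dvd_of_dvd_mul_left h2
  · intro h2
    exact Dvd.dvd.mul_left h2 h

/-- `T = (q^m - 1)/(q + 1)` for `m` even, and `T ≡ -m (mod q + 1)` -/
theorem geomT (q m : ℕ) (hq : 2 ≤ q) (heven : Even m) :
    ∃ T : ℕ, (q + 1) * T = q ^ m - 1 ∧ (q + 1) ∣ T + m := by
  obtain ⟨k, rfl⟩ := heven
  have hq2 : 2 ≤ q ^ 2 := by nlinarith
  have hgeom := Nat.geomSum_eq hq2 k
  -- `Σ_{i<k} (q^2)^i = ((q^2)^k - 1)/(q^2 - 1)`
  set Sg := ∑ i ∈ Finset.range k, (q ^ 2) ^ i with hSgdef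
  have h1 : (q ^ 2 - 1) * Sg = (q ^ 2) ^ k - 1 := by
    rw [hgeom]
    apply Nat.mul_div_cancel'
    have := Nat.sub_dvd_pow_sub_pow (q ^ 2) 1 k
    simpa using this
  have hqq : q ^ 2 - 1 = (q + 1) * (q - 1) := by
    obtain ⟨z, rfl⟩ : ∃ z, q = z + 1 := ⟨q - 1, by omega⟩
    simp only [Nat.add_sub_cancel]
    have : (z + 1) ^ 2 = (z + 1 + 1) * z + 1 := by ring
    rw [this, Nat.add_sub_cancel]
  refine ⟨(q - 1) * Sg, ?_, ?_⟩
  · rw [← mul_assoc, ← hqq, h1, ← pow_mul, two_mul]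
  · -- `Sg ≡ k`
    have hmod : q ^ 2 ≡ 1 [MOD (q + 1)] := by
      have : (q + 1) ∣ q ^ 2 - 1 := ⟨q - 1, hqq⟩
      exact ((Nat.modEq_iff_dvd' (by nlinarith)).2 this).symm
    have hSgk : Sg ≡ k [MOD (q + 1)] := by
      rw [hSgdef]
      clear hgeom h1 hSgdef
      induction k with
      | zero => simp [Nat.ModEq]
      | succ k ih =>
        rw [Finset.sum_range_succ]
        have h2 : (q ^ 2) ^ k ≡ 1 [MOD (q + 1)] := by
          have := hmod.pow k
          rwa [one_pow] at this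
        exact ih.add h2
    have h3 : (q - 1) * Sg + (k + k) ≡ (q - 1) * k + (k + k) [MOD (q + 1)] :=
      (hSgk.mul_left (q - 1)).add_right _
    have h4 : (q - 1) * k + (k + k) = (q + 1) * k := by
      obtain ⟨z, rfl⟩ : ∃ z, q = z + 1 := ⟨q - 1, by omega⟩
      simp only [Nat.add_sub_cancel]
      ring
    rw [h4] at h3
    exact (h3.dvd_iff dvd_rfl).2 (dvd_mul_right _ _)

/-- a power of the class of `g` in `PSU_n(q)` is trivial iff that power of `g` is scalar -/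
theorem psu_pow {F : Type*} [Field F] [Fintype F] {q n : ℕ} (hF : Fintype.card F = q ^ 2)
    (hn : 0 < n) (g : Cfsg.SU n F q) (j : ℕ) :
    ((QuotientGroup.mk g : Cfsg.PSU n F q) ^ j = 1) ↔
      ∃ c : F, (((g ^ j : Cfsg.SU n F q) : Matrix.SpecialLinearGroup (Fin n) F) :
        Matrix (Fin n) (Fin n) F) = c • (1 : Matrix (Fin n) (Fin n) F) := by
  rw [← QuotientGroup.mk_pow, QuotientGroup.eq_one_iff]
  constructor
  · intro hz
    exact ⟨_, center_eq_smul hF (g ^ j) hz ⟨0, hn⟩⟩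
  · rintro ⟨c, hc⟩
    rw [Subgroup.mem_center_iff]
    intro x
    apply Subtype.ext
    apply Subtype.ext
    show (x.1.1 : Matrix (Fin n) (Fin n) F) * ((g ^ j : Cfsg.SU n F q).1.1) =
      ((g ^ j : Cfsg.SU n F q).1.1) * x.1.1
    rw [hc, Matrix.mul_smul, Matrix.smul_mul, Matrix.mul_one, Matrix.one_mul]

/-- the order of the class of `g` in `PSU_n(q)` from the scalar powers of `g` -/
theorem orderOf_mk_eq {F : Type*} [Field F] [Fintype F] {q n : ℕ} (hF : Fintype.card F = q ^ 2)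
    (hn : 0 < n) (g : Cfsg.SU n F q) (N : ℕ)
    (h : ∀ j : ℕ, (∃ c : F, (((g ^ j : Cfsg.SU n F q) : Matrix.SpecialLinearGroup (Fin n) F) :
        Matrix (Fin n) (Fin n) F) = c • (1 : Matrix (Fin n) (Fin n) F)) ↔ N ∣ j) :
    orderOf (QuotientGroup.mk g : Cfsg.PSU n F q) = N := by
  apply Nat.dvd_antisymm
  · apply orderOf_dvd_of_pow_eq_one
    rw [psu_pow hF hn, h]
  · rw [← h, ← psu_pow hF hn]
    exact pow_orderOf_eq_one _

theorem fr_smul_one {F : Type*} [Field F] [Fintype F] {q m : ℕ} (hq : q ≠ 0) (c : F) :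
    fr q (c • (1 : Matrix (Fin m) (Fin m) F)) = (c ^ q) • (1 : Matrix (Fin m) (Fin m) F) := by
  ext i j
  simp only [fr_apply, Matrix.smul_apply, Matrix.one_apply, smul_eq_mul]
  split_ifs
  · rw [mul_one, mul_one]
  · rw [mul_zero, mul_zero, zero_pow hq]

theorem frameMat_smul_one {F : Type*} [Field F] [Fintype F] {q m : ℕ}
    {E G : Matrix (Fin (m + m)) (Fin m) F} (h : IsFrame q E G) (c : F) :
    frameMat q E G (c • (1 : Matrix (Fin m) (Fin m) F)) (c • (1 : Matrix (Fin m) (Fin m) F)) =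
      c • (1 : Matrix (Fin (m + m)) (Fin (m + m)) F) := by
  unfold frameMat
  rw [Matrix.mul_smul, Matrix.mul_smul, Matrix.smul_mul, Matrix.smul_mul, Matrix.mul_one,
    Matrix.mul_one, ← smul_add, h.complete]

theorem EX {F : Type*} [Field F] [Fintype F] {q : ℕ} (hF : Fintype.card F = q ^ 2) (hodd : Odd q)
    {m : ℕ} (hm : 2 ≤ m) (heven : Even m)
    (hlt : padicValNat 2 (q + 1) < padicValNat 2 (m + m)) :
    ∃ g : Cfsg.PSU (m + m) F q, orderOf g = q ^ m + 1 := by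
  classical
  have hq2 : 2 ≤ q := two_le_q hF
  have hq0 : q ≠ 0 := by omega
  have hm0 : 0 < m := by omega
  -- arithmetic
  obtain ⟨T, hT, hTm⟩ := geomT q m hq2 heven
  have hqm : q ^ 2 ≤ q ^ m := Nat.pow_le_pow_right (by omega) hm
  have hq4 : 4 ≤ q ^ 2 := by nlinarith
  have hTpos : 0 < T := by
    rcases Nat.eq_zero_or_pos T with h | h
    · rw [h, mul_zero] at hT; omega
    · exact h
  set N := q ^ m + 1 with hN
  set d := Nat.gcd (2 * m) (q + 1) with hd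
  have hdpos : 0 < d := Nat.gcd_pos_of_pos_right _ (by omega)
  have hdm : d ∣ m := (gcd_dvd_iff m (q + 1) hm0 (by omega)).2 (by rwa [two_mul])
  have hdQ : d ∣ q + 1 := Nat.gcd_dvd_right _ _
  have hdT : d ∣ T := (Nat.dvd_add_left hdm).1 (dvd_trans hdQ hTm)
  obtain ⟨h, hh⟩ := hdQ
  have hQ : q + 1 = h * d := by rw [hh, mul_comm]
  -- `N` is prime to `h`
  have hco : Nat.Coprime N h := by
    have he2 : Nat.gcd N h ∣ 2 := by
      have e1 : Nat.gcd N h ∣ N := Nat.gcd_dvd_left _ _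
      have e2 : Nat.gcd N h ∣ q ^ m - 1 := by
        refine dvd_trans (Nat.gcd_dvd_right _ _) ?_
        refine dvd_trans (Dvd.intro d hQ.symm) ?_
        exact Dvd.intro _ hT
      have : N - (q ^ m - 1) = 2 := by rw [hN]; omega
      rw [← this]
      exact Nat.dvd_sub e1 e2
    have hle : Nat.gcd N h ≤ 2 := Nat.le_of_dvd (by norm_num) he2
    have hpos : 0 < Nat.gcd N h := Nat.gcd_pos_of_pos_left _ (by rw [hN]; omega)
    rcases (by omega : Nat.gcd N h = 1 ∨ Nat.gcd N h = 2) with h1 | h2'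
    · exact h1
    · exfalso
      have h2h : 2 ∣ h := by rw [← h2']; exact Nat.gcd_dvd_right _ _
      set a := padicValNat 2 (q + 1) with ha
      have hpa : 2 ^ a ∣ q + 1 := pow_padicValNat_dvd
      have hpn : 2 ^ a ∣ 2 * m := by
        rw [two_mul]; exact dvd_trans (pow_dvd_pow 2 hlt.le) pow_padicValNat_dvd
      have hpd : 2 ^ a ∣ d := Nat.dvd_gcd hpn hpa
      have : 2 ^ (a + 1) ∣ q + 1 := by
        rw [hQ, pow_succ, mul_comm (2 ^ a) 2]
        exact Nat.mul_dvd_mul h2h hpd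
      have := (padicValNat_dvd_iff_le (p := 2) (by omega : q + 1 ≠ 0)).1 this
      omega
  -- `(q^2)^m - 1 = (q + 1) * (N * T)`
  have hfull : (q ^ 2) ^ m - 1 = (q + 1) * (N * T) := by
    have h1 : (q ^ 2) ^ m = q ^ m * q ^ m := by rw [← pow_mul, two_mul, pow_add]
    rw [h1, mul_left_comm, hT, hN]
    obtain ⟨z, hz⟩ : ∃ z, q ^ m = z + 1 := ⟨q ^ m - 1, by omega⟩
    rw [hz]
    simp only [Nat.add_sub_cancel]
    have : (z + 1) * (z + 1) = (z + 1 + 1) * z + 1 := by ring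
    rw [this, Nat.add_sub_cancel]
  have hqq : q ^ 2 - 1 = (q + 1) * (q - 1) := by
    obtain ⟨z, rfl⟩ : ∃ z, q = z + 1 := ⟨q - 1, by omega⟩
    simp only [Nat.add_sub_cancel]
    have : (z + 1) ^ 2 = (z + 1 + 1) * z + 1 := by ring
    rw [this, Nat.add_sub_cancel]
  have hM0 := sub_one_mul_div (q ^ 2) m
  set M0 := ((q ^ 2) ^ m - 1) / (q ^ 2 - 1) with hM0def
  -- `(q - 1) * M0 = N * T`
  have hM0' : (q - 1) * M0 = N * T := by
    have : (q + 1) * ((q - 1) * M0) = (q + 1) * (N * T) := by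
      rw [← mul_assoc, ← hqq, hM0, hfull]
    exact Nat.eq_of_mul_eq_mul_left (by omega) this
  set k' := (q + 1) * (T / d) with hk'
  -- the key arithmetic equivalence
  have hkey : ∀ j : ℕ, ((q ^ 2) ^ m - 1) ∣ k' * j * (q + 1) ↔ N ∣ j := by
    intro j
    rw [hfull, mul_comm (k' * j) (q + 1), Nat.mul_dvd_mul_iff_left (by omega), hk']
    exact arith_iff N T d h (q + 1) j hTpos hdT hQ hco hdpos
  have hscal : ∀ j : ℕ, N ∣ j → M0 ∣ k' * j := by
    intro j hj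
    have h1 := (hkey j).2 hj
    rw [← hM0, hqq, mul_comm (k' * j) (q + 1), mul_assoc, Nat.mul_dvd_mul_iff_left (by omega)] at h1
    exact dvd_trans (dvd_mul_left _ _) h1
  -- Singer cycle
  obtain ⟨S, hS1, hS2, hS3⟩ := exists_singer (F := F) m hm0
  rw [hF] at hS1 hS2 hS3
  have hkpos : 0 < (q ^ 2) ^ m - 1 := by rw [hfull]; positivity
  have hSk : S ^ ((q ^ 2) ^ m - 1) = 1 := (hS1 _).2 dvd_rfl
  have hSS : S * S ^ ((q ^ 2) ^ m - 1 - 1) = 1 := by
    rw [← pow_succ']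
    have : (q ^ 2) ^ m - 1 - 1 + 1 = (q ^ 2) ^ m - 1 := by omega
    rw [this, hSk]
  have hSS' : S ^ ((q ^ 2) ^ m - 1 - 1) * S = 1 := by
    rw [← pow_succ]
    have : (q ^ 2) ^ m - 1 - 1 + 1 = (q ^ 2) ^ m - 1 := by omega
    rw [this, hSk]
  let SG : GL (Fin m) F := ⟨S, S ^ ((q ^ 2) ^ m - 1 - 1), hSS, hSS'⟩
  have hSG : ∀ j : ℕ, ((SG ^ j : GL (Fin m) F) : Matrix (Fin m) (Fin m) F) = S ^ j := by
    intro j
    rw [Units.val_pow_eq_pow_val]
  set AG : GL (Fin m) F := SG ^ k' with hAG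
  have hAGj : ∀ j : ℕ, ((AG ^ j : GL (Fin m) F) : Matrix (Fin m) (Fin m) F) = S ^ (k' * j) := by
    intro j
    rw [hAG, ← pow_mul, hSG]
  obtain ⟨E, G, hfr⟩ := Cfsg.Agent.Lib.Helper63_S2496_FRAME.FRAME hF hodd m
  have hker : AG ∈ (detq q m F).ker := by
    rw [MonoidHom.mem_ker]
    apply Units.ext
    show ((Matrix.GeneralLinearGroup.det AG) ^ (q - 1) : Fˣ).1 = 1
    rw [Units.val_pow_eq_pow_val, Matrix.GeneralLinearGroup.val_det_apply, ← Matrix.det_pow,
      ← Units.val_pow_eq_pow_val, hAGj, hS2, hqq, hk', mul_assoc, mul_comm (T / d) (q - 1),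
      ← mul_assoc]
    exact dvd_mul_right _ _
  set gh : GL (Fin (m + m)) F := embGL hF hfr AG with hgh
  have hghU : IsU (m + m) q gh.1 := (mem_GU_iff gh).mp (embGL_mem_GU hF hfr AG)
  have hghdet : gh.1.det = 1 := det_embGL_of_mem_ker hF hfr AG hker
  set gS : Cfsg.SU (m + m) F q := mkSU gh.1 hghU hghdet with hgS
  refine ⟨QuotientGroup.mk gS, ?_⟩
  apply orderOf_mk_eq hF (by omega)
  intro j
  have hpow : (((gS ^ j : Cfsg.SU (m + m) F q) : Matrix.SpecialLinearGroup (Fin (m + m)) F) :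
      Matrix (Fin (m + m)) (Fin (m + m)) F) =
      frameMat q E G (S ^ (k' * j)) (starInv q (AG ^ j)) := by
    rw [Subgroup.coe_pow, Matrix.SpecialLinearGroup.coe_pow]
    show gh.1 ^ j = _
    rw [← Units.val_pow_eq_pow_val, hgh, ← map_pow, embGL_val, hAGj]
  rw [hpow, ← hkey j]
  constructor
  · rintro ⟨c, hc⟩
    -- `A^j = c • 1`
    have hA : S ^ (k' * j) = c • (1 : Matrix (Fin m) (Fin m) F) := by
      have := L_mul_frameMat_mul_E hfr (S ^ (k' * j)) (starInv q (AG ^ j))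
      rw [hc, Matrix.mul_smul, Matrix.mul_one, Matrix.smul_mul, hfr.LE] at this
      exact this.symm
    -- `c^(q+1) = 1` from unitarity
    have hU := (mem_GU_iff_gram hF (embGL hF hfr (AG ^ j))).1 (embGL_mem_GU hF hfr (AG ^ j))
    rw [embGL_val, hAGj, hc] at hU
    have hc1 : c * c ^ q = 1 := by
      have hmap : (c • (1 : Matrix (Fin (m + m)) (Fin (m + m)) F)).map (fun x => x ^ q) =
          (c ^ q) • (1 : Matrix (Fin (m + m)) (Fin (m + m)) F) := fr_smul_one hq0 c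
      rw [hmap, Matrix.transpose_smul, Matrix.transpose_one, Matrix.smul_mul, Matrix.one_mul,
        smul_smul] at hU
      have h00 := congrFun (congrFun hU ⟨0, by omega⟩) ⟨0, by omega⟩
      simpa using h00
    rw [← hS1, pow_mul, hA, smul_pow, one_pow, pow_succ', hc1, one_smul]
  · intro hdiv
    have hN : N ∣ j := (hkey j).1 hdiv
    obtain ⟨c, hc⟩ := (hS3 (k' * j)).2 (hscal j hN)
    have h1 : S ^ (k' * j * (q + 1)) = 1 := (hS1 _).2 hdiv
    rw [pow_mul, hc, smul_pow, one_pow] at h1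
    have hc1 : c ^ (q + 1) = 1 := by
      have h00 := congrFun (congrFun h1 ⟨0, hm0⟩) ⟨0, hm0⟩
      simpa using h00
    have hc0 : c ≠ 0 := by
      rintro rfl
      rw [zero_pow (by omega)] at hc1
      exact zero_ne_one hc1
    have hcq : (c⁻¹) ^ q = c := by
      rw [inv_pow]
      exact inv_eq_of_mul_eq_one_right (by rw [← pow_succ]; exact hc1)
    have hinv : ((AG ^ j)⁻¹ : GL (Fin m) F).1 = c⁻¹ • (1 : Matrix (Fin m) (Fin m) F) := by
      apply Units.inv_eq_of_mul_eq_one_right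
      rw [hAGj, hc, Matrix.smul_mul, Matrix.one_mul, smul_smul, mul_inv_cancel₀ hc0, one_smul]
    refine ⟨c, ?_⟩
    have hst : starInv q (AG ^ j) = c • (1 : Matrix (Fin m) (Fin m) F) := by
      unfold starInv
      rw [hinv, fr_smul_one hq0, hcq, Matrix.transpose_smul, Matrix.transpose_one]
    rw [hst, hc]
    exact frameMat_smul_one hfr c

end Cfsg.Agent.Lib.Helper99_S2496_EX
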