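import Mathlib
import Cfsg.Prelude.Def_GeometricClasses

/-!
helper99: package SP8-HYP for helper67 (row S5823): a non-degenerate symmetric bilinear form of plus type on
`F^4` (`2 ≠ 0`) has a hyperbolic basis.
-/

set_option autoImplicit false

namespace Cfsg.Agent.Lib.Helper99_SP8_HYP

open Matrix Cfsg.Geo Module

theorem HYP {F : Type*} [Field F] (h2 : (2 : F) ≠ 0)
    {f₂ : (Fin 4 → F) → (Fin 4 → F) → F} (hf₂ : IsSymmetricForm f₂)
    (hplus : IsPlusTypeOn (fun v : Fin 4 → F => f₂ v v) ⊤) :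
    ∃ B : GL (Fin 4) F, ∀ w w' : Fin 4 → F,
      f₂ ((B : Matrix (Fin 4) (Fin 4) F) *ᵥ w) ((B : Matrix (Fin 4) (Fin 4) F) *ᵥ w') =
        w 0 * w' 2 + w 1 * w' 3 + w 2 * w' 0 + w 3 * w' 1 := by
  classical
  obtain ⟨hbil, hsymm, hnd⟩ := hf₂
  -- the bundled form
  set Bf : LinearMap.BilinForm F (Fin 4 → F) :=
    LinearMap.mk₂ F f₂ hbil.add_left hbil.smul_left hbil.add_right hbil.smul_right with hBf
  have hBf_apply : ∀ x y, Bf x y = f₂ x y := fun x y => rfl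
  have hBnd : Bf.Nondegenerate := by
    constructor
    · intro x hx
      by_contra hx0
      obtain ⟨y, hy⟩ := (hnd x hx0).2
      exact hy (hx y)
    · intro y hy
      by_contra hy0
      obtain ⟨x, hx⟩ := (hnd y hy0).1
      exact hx (hy x)
  obtain ⟨U, -, hUts', hUd⟩ := hplus
  have hUts : ∀ u ∈ U, f₂ u u = 0 := hUts'
  have hUd2 : finrank F U = 2 := by
    rw [finrank_top, Module.finrank_fintype_fun_eq_card, Fintype.card_fin] at hUd
    omega
  -- `U` is totally isotropic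
  have hUiso : ∀ u ∈ U, ∀ v ∈ U, f₂ u v = 0 := by
    intro u hu v hv
    have h1 : f₂ (u + v) (u + v) = 0 := hUts _ (U.add_mem hu hv)
    rw [hbil.add_left, hbil.add_right, hbil.add_right, hUts u hu, hUts v hv, hsymm v u] at h1
    have h3 : (2 : F) * f₂ u v = 0 := by linear_combination h1
    rcases mul_eq_zero.1 h3 with h | h
    · exact absurd h h2
    · exact h
  set b : Basis (Fin 2) F U := finBasisOfFinrankEq F U hUd2 with hb
  set u₁ : Fin 4 → F := (b 0 : Fin 4 → F) with hu₁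
  set u₂ : Fin 4 → F := (b 1 : Fin 4 → F) with hu₂
  have hu₁U : u₁ ∈ U := (b 0).2
  have hu₂U : u₂ ∈ U := (b 1).2
  obtain ⟨l₁, hl₁⟩ := LinearMap.exists_extend (b.coord 0)
  obtain ⟨l₂, hl₂⟩ := LinearMap.exists_extend (b.coord 1)
  have hl₁1 : l₁ u₁ = 1 := by
    have := LinearMap.congr_fun hl₁ (b 0)
    simpa using this
  have hl₁2 : l₁ u₂ = 0 := by
    have := LinearMap.congr_fun hl₁ (b 1)
    simpa using this
  have hl₂1 : l₂ u₁ = 0 := by
    have := LinearMap.congr_fun hl₂ (b 0)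
    simpa using this
  have hl₂2 : l₂ u₂ = 1 := by
    have := LinearMap.congr_fun hl₂ (b 1)
    simpa using this
  set v₁' : Fin 4 → F := (Bf.toDual hBnd).symm l₁ with hv₁'
  set v₂' : Fin 4 → F := (Bf.toDual hBnd).symm l₂ with hv₂'
  have hv₁'x : ∀ x, f₂ v₁' x = l₁ x := fun x => by
    rw [← hBf_apply, hv₁', LinearMap.BilinForm.apply_toDual_symm_apply]
  have hv₂'x : ∀ x, f₂ v₂' x = l₂ x := fun x => by
    rw [← hBf_apply, hv₂', LinearMap.BilinForm.apply_toDual_symm_apply]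
  set c₁ : F := f₂ v₁' v₁' / 2 with hc₁
  set v₁ : Fin 4 → F := v₁' - c₁ • u₁ with hv₁
  set a : F := f₂ v₂' v₁ with ha
  set c₂ : F := f₂ v₂' v₂' / 2 with hc₂
  set v₂ : Fin 4 → F := v₂' - a • u₁ - c₂ • u₂ with hv₂
  -- subtraction rules
  have hsub_left : ∀ x y v, f₂ (x - y) v = f₂ x v - f₂ y v := by
    intro x y v
    have := hbil.add_left (x - y) y v
    rw [sub_add_cancel] at this
    rw [this]; ring
  have hsub_right : ∀ v x y, f₂ v (x - y) = f₂ v x - f₂ v y := by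
    intro v x y
    have := hbil.add_right v (x - y) y
    rw [sub_add_cancel] at this
    rw [this]; ring
  -- Gram values
  have g11 : f₂ u₁ u₁ = 0 := hUiso _ hu₁U _ hu₁U
  have g12 : f₂ u₁ u₂ = 0 := hUiso _ hu₁U _ hu₂U
  have g21 : f₂ u₂ u₁ = 0 := hUiso _ hu₂U _ hu₁U
  have g22 : f₂ u₂ u₂ = 0 := hUiso _ hu₂U _ hu₂U
  have e1 : f₂ v₁' u₁ = 1 := by rw [hv₁'x, hl₁1]
  have e2 : f₂ v₁' u₂ = 0 := by rw [hv₁'x, hl₁2]
  have e3 : f₂ v₂' u₁ = 0 := by rw [hv₂'x, hl₂1]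
  have e4 : f₂ v₂' u₂ = 1 := by rw [hv₂'x, hl₂2]
  have e1' : f₂ u₁ v₁' = 1 := by rw [hsymm, e1]
  have e2' : f₂ u₂ v₁' = 0 := by rw [hsymm, e2]
  have e3' : f₂ u₁ v₂' = 0 := by rw [hsymm, e3]
  have e4' : f₂ u₂ v₂' = 1 := by rw [hsymm, e4]
  have g13 : f₂ u₁ v₁ = 1 := by
    rw [hv₁, hsub_right, hbil.smul_right, e1', g11]; ring
  have g23 : f₂ u₂ v₁ = 0 := by
    rw [hv₁, hsub_right, hbil.smul_right, e2', g21]; ring
  have g31 : f₂ v₁ u₁ = 1 := by rw [hsymm, g13]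
  have g32 : f₂ v₁ u₂ = 0 := by rw [hsymm, g23]
  have g33 : f₂ v₁ v₁ = 0 := by
    have h1 : f₂ v₁ v₁ = f₂ v₁' v₁ - c₁ * f₂ u₁ v₁ := by
      conv_lhs => rw [hv₁, hsub_left, hbil.smul_left]
    have h3 : f₂ v₁' v₁ = f₂ v₁' v₁' - c₁ * f₂ v₁' u₁ := by
      conv_lhs => rw [hv₁, hsub_right, hbil.smul_right]
    rw [h1, h3, g13, e1, hc₁]
    field_simp
    ring
  have g14 : f₂ u₁ v₂ = 0 := by
    rw [hv₂, hsub_right, hsub_right, hbil.smul_right, hbil.smul_right, e3', g11, g12]; ring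
  have g24 : f₂ u₂ v₂ = 1 := by
    rw [hv₂, hsub_right, hsub_right, hbil.smul_right, hbil.smul_right, e4', g21, g22]; ring
  have g41 : f₂ v₂ u₁ = 0 := by rw [hsymm, g14]
  have g42 : f₂ v₂ u₂ = 1 := by rw [hsymm, g24]
  have g43 : f₂ v₂ v₁ = 0 := by
    have h1 : f₂ v₂ v₁ = f₂ v₂' v₁ - a * f₂ u₁ v₁ - c₂ * f₂ u₂ v₁ := by
      conv_lhs => rw [hv₂, hsub_left, hsub_left, hbil.smul_left, hbil.smul_left]
    rw [h1, g13, g23, ← ha]; ring
  have g34 : f₂ v₁ v₂ = 0 := by rw [hsymm, g43]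
  have g44 : f₂ v₂ v₂ = 0 := by
    have h1 : f₂ v₂ v₂ = f₂ v₂' v₂ - a * f₂ u₁ v₂ - c₂ * f₂ u₂ v₂ := by
      conv_lhs => rw [hv₂, hsub_left, hsub_left, hbil.smul_left, hbil.smul_left]
    have h3 : f₂ v₂' v₂ = f₂ v₂' v₂' - a * f₂ v₂' u₁ - c₂ * f₂ v₂' u₂ := by
      conv_lhs => rw [hv₂, hsub_right, hsub_right, hbil.smul_right, hbil.smul_right]
    rw [h1, h3, g14, g24, e3, e4, hc₂]
    field_simp
    ring
  -- the matrix
  set cols : Fin 4 → (Fin 4 → F) := ![u₁, u₂, v₁, v₂] with hcols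
  set M : Matrix (Fin 4) (Fin 4) F := Matrix.of (fun i j => cols j i) with hM
  have hMv : ∀ w : Fin 4 → F, M *ᵥ w = w 0 • u₁ + w 1 • u₂ + w 2 • v₁ + w 3 • v₂ := by
    intro w
    funext i
    simp only [hM, hcols, Matrix.mulVec, dotProduct, Fin.sum_univ_four, Matrix.of_apply, Pi.add_apply,
      Pi.smul_apply, smul_eq_mul, Matrix.cons_val_zero, Matrix.cons_val_one]
    simp
    ring
  have hform : ∀ w w' : Fin 4 → F, f₂ (M *ᵥ w) (M *ᵥ w') =
      w 0 * w' 2 + w 1 * w' 3 + w 2 * w' 0 + w 3 * w' 1 := by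
    intro w w'
    rw [hMv, hMv]
    simp only [hbil.add_left, hbil.add_right, hbil.smul_left, hbil.smul_right, g11, g12, g13, g14, g21,
      g22, g23, g24, g31, g32, g33, g34, g41, g42, g43, g44]
    ring
  have hinj : Function.Injective M.mulVec := by
    intro w w' hww
    have hz : M *ᵥ (w - w') = 0 := by
      rw [Matrix.mulVec_sub]
      exact sub_eq_zero.2 hww
    have key : ∀ k : Fin 4 → F, (w - w') 0 * k 2 + (w - w') 1 * k 3 + (w - w') 2 * k 0 +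
        (w - w') 3 * k 1 = 0 := by
      intro k
      rw [← hform, hz]
      have := hbil.smul_left 0 0 (M *ᵥ k)
      simpa using this
    have k0 := key (Pi.single 2 1)
    have k1 := key (Pi.single 3 1)
    have k2 := key (Pi.single 0 1)
    have k3 := key (Pi.single 1 1)
    simp at k0 k1 k2 k3
    funext i
    fin_cases i
    · exact sub_eq_zero.1 k0
    · exact sub_eq_zero.1 k1
    · exact sub_eq_zero.1 k2
    · exact sub_eq_zero.1 k3
  have hunit : IsUnit M := Matrix.mulVec_injective_iff_isUnit.1 hinj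
  exact ⟨hunit.unit, fun w w' => hform w w'⟩

end Cfsg.Agent.Lib.Helper99_SP8_HYP
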