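import Mathlib
import Cfsg.Statements.S5954
import Cfsg.Agent.Lib.Helper99_SUNDDefs
import Cfsg.Agent.Lib.Helper40_UCases
import Cfsg.Agent.Lib.Helper40_UMatrix
import Cfsg.Agent.Lib.Helper40_UExistMatrix
import Cfsg.Agent.Lib.Helper40_UPrimeOrder
import Cfsg.Agent.Lib.Helper99_SUND_PU2
import Cfsg.Agent.Lib.Helper31_SUND_PU3
import Cfsg.Agent.Lib.Helper1_SUND_PU4

set_option autoImplicit false

/-!
Case `r` odd, `r ≠ p`, `ord_r(q) ≠ 2` of S5954 (elements of prime order of `PSU_n(q)` and nondegenerate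
`m`-spaces), assembled from the packages PU2 (structure), PU3 (elements), PU4 (counting).
-/

namespace Cfsg.Agent.Lib.Helper99_SUND_UD2

open Polynomial Module Matrix
open Cfsg.Agent.Lib.Helper40_SpBasic Cfsg.Agent.Lib.Helper40_UBasic Cfsg.Agent.Lib.Helper99_SUNDDefs
  Cfsg.Agent.Lib.Helper94_Herm Cfsg.Agent.Lib.Helper94_HermBridge Cfsg.Agent.Lib.Helper40_UMatrix
  Cfsg.Agent.Lib.Helper99_SUND_PU2

universe u

variable {F : Type u} [Field F] [Fintype F] {p : ℕ} [Fact p.Prime] [CharP F p] {q : ℕ}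

theorem hermForm_smul (n : ℕ) (a b : F) (u v : Fin n → F) :
    Cfsg.hermForm n F q (a • u) (b • v) = a * b ^ q * Cfsg.hermForm n F q u v := by
  unfold Cfsg.hermForm
  rw [Finset.mul_sum]
  apply Finset.sum_congr rfl
  intro j _
  simp only [Pi.smul_apply, smul_eq_mul, mul_pow]
  ring

theorem hermForm_single (n : ℕ) (j : Fin n) :
    Cfsg.hermForm n F q (Pi.single j 1) (Pi.single j 1) = 1 := by
  classical
  unfold Cfsg.hermForm
  rw [Finset.sum_eq_single j]
  · simp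
  · intro k _ hk
    simp [Pi.single_eq_of_ne hk]
  · simp

section arith

theorem not_dvd_q (hq : Fintype.card F = q ^ 2) {r : ℕ} (hr : r.Prime) (hrp : r ≠ p) : ¬ r ∣ q := by
  intro h
  obtain ⟨f, hp, hf⟩ := FiniteField.card F p
  have h1 : r ∣ p ^ (f : ℕ) := by
    rw [← hf, hq]
    exact h.trans (dvd_pow_self q two_ne_zero)
  exact hrp ((Nat.prime_dvd_prime_iff_eq hr hp).1 (hr.dvd_of_dvd_pow h1))

theorem ord_pos' {r : ℕ} (hr : r.Prime) (hrq : ¬ r ∣ q) : 0 < orderOf ((q : ℕ) : ZMod r) := by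
  have : Fact r.Prime := ⟨hr⟩
  have h0 : ((q : ℕ) : ZMod r) ≠ 0 := by
    rwa [Ne, ZMod.natCast_eq_zero_iff]
  rw [orderOf_pos_iff]
  exact isOfFinOrder_iff_pow_eq_one.2 ⟨r - 1, by have := hr.two_le; omega,
    ZMod.pow_card_sub_one_eq_one h0⟩

theorem not_dvd_succ {r : ℕ} (hr : r.Prime) (hr2 : 2 < r)
    (hi2 : orderOf ((q : ℕ) : ZMod r) ≠ 2) : ¬ r ∣ q + 1 := by
  have : Fact r.Prime := ⟨hr⟩
  intro h
  have h1 : ((q : ℕ) : ZMod r) = -1 := by
    have := (ZMod.natCast_eq_zero_iff (q + 1) r).2 h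
    push_cast at this
    exact eq_neg_of_add_eq_zero_left this
  have hne : (-1 : ZMod r) ≠ 1 := by
    intro h3
    have h4 : ((2 : ℕ) : ZMod r) = 0 := by
      have : (1 : ZMod r) + 1 = 0 := by nth_rewrite 1 [← h3]; exact neg_add_cancel 1
      push_cast
      rw [← this]; norm_num
    rw [ZMod.natCast_eq_zero_iff] at h4
    have := Nat.le_of_dvd (by norm_num) h4
    omega
  apply hi2
  rw [h1]
  exact orderOf_eq_prime (by norm_num) hne

theorem neg_one_ne_one {r : ℕ} (hr : r.Prime) (hr2 : 2 < r) : (-1 : ZMod r) ≠ 1 := by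
  have : Fact r.Prime := ⟨hr⟩
  intro h3
  have h4 : ((2 : ℕ) : ZMod r) = 0 := by
    have : (1 : ZMod r) + 1 = 0 := by nth_rewrite 1 [← h3]; exact neg_add_cancel 1
    push_cast
    rw [← this]; norm_num
  rw [ZMod.natCast_eq_zero_iff] at h4
  have := Nat.le_of_dvd (by norm_num) h4
  omega

theorem uAtomDim_dvd_of_dvd {q r k : ℕ} (hq0 : 0 < q) (hr : r.Prime) (hr2 : 2 < r)
    (h : r ∣ (if Even k then q ^ k - 1 else q ^ k + 1)) : uAtomDim q r ∣ k := by
  have : Fact r.Prime := ⟨hr⟩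
  have hne := neg_one_ne_one hr hr2
  set i := orderOf ((q : ℕ) : ZMod r) with hi
  rw [uAtomDim_def, ← hi]
  by_cases hk : Even k
  · rw [if_pos hk] at h
    have h1 : ((q : ℕ) : ZMod r) ^ k = 1 := by
      have := (ZMod.natCast_eq_zero_iff _ _).2 h
      rw [Nat.cast_sub (Nat.one_le_pow _ _ hq0), Nat.cast_pow, Nat.cast_one, sub_eq_zero] at this
      exact this
    have hik : i ∣ k := orderOf_dvd_of_pow_eq_one h1
    split_ifs with h4 h42
    · exact hik
    · exact (Nat.div_dvd_of_dvd (by omega : 2 ∣ i)).trans hik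
    · have hodd : Odd i := by
        rw [Nat.odd_iff]; omega
      exact Nat.Coprime.mul_dvd_of_dvd_of_dvd (Nat.coprime_two_left.2 hodd) hk.two_dvd hik
  · rw [if_neg hk] at h
    have hko : Odd k := Nat.not_even_iff_odd.1 hk
    have h1 : ((q : ℕ) : ZMod r) ^ k = -1 := by
      have := (ZMod.natCast_eq_zero_iff _ _).2 h
      push_cast at this
      exact eq_neg_of_add_eq_zero_left this
    have h2 : ((q : ℕ) : ZMod r) ^ (2 * k) = 1 := by
      rw [mul_comm, pow_mul, h1]; norm_num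
    have hi2k : i ∣ 2 * k := orderOf_dvd_of_pow_eq_one h2
    have hnik : ¬ i ∣ k := by
      intro h3
      have := orderOf_dvd_iff_pow_eq_one.1 h3
      rw [h1] at this
      exact hne this
    have hie : Even i := by
      by_contra hio
      rw [Nat.not_even_iff_odd] at hio
      exact hnik ((Nat.coprime_two_right.2 hio).dvd_of_dvd_mul_left hi2k)
    obtain ⟨j, hj⟩ := hie
    have hjk : j ∣ k := by
      have : 2 * j ∣ 2 * k := by rw [← two_mul] at hj; rwa [← hj]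
      exact (Nat.mul_dvd_mul_iff_left (by norm_num)).1 this
    have hjo : Odd j := by
      by_contra hje
      rw [Nat.not_odd_iff_even] at hje
      have h2k : 2 ∣ k := hje.two_dvd.trans hjk
      obtain ⟨u', hu'⟩ := hko
      omega
    obtain ⟨s, hs⟩ := hjo
    have hi42 : i % 4 = 2 := by omega
    rw [if_neg (by omega), if_pos hi42]
    have : i / 2 = j := by omega
    rw [this]
    exact hjk

theorem exists_root_scalar {r : ℕ} (hnd : ¬ r ∣ q + 1) (hr : r.Prime) (z : F) (hz : z ^ (q + 1) = 1) :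
    ∃ ζ : F, ζ ^ r = z ∧ ζ ^ (q + 1) = 1 := by
  have hcop : Nat.Coprime r (q + 1) := (Nat.Prime.coprime_iff_not_dvd hr).2 hnd
  by_cases hq0 : q = 0
  · subst hq0
    exact ⟨1, by rw [one_pow]; simpa using hz.symm, one_pow _⟩
  obtain ⟨s, -, hs⟩ := Nat.exists_mul_mod_eq_one_of_coprime hcop (by omega : 1 < q + 1)
  refine ⟨z ^ s, ?_, ?_⟩
  · rw [← pow_mul]
    have h1 := Nat.div_add_mod (s * r) (q + 1)
    rw [mul_comm] at hs
    rw [hs] at h1
    rw [← h1, pow_add, pow_mul, hz, one_pow, one_mul, pow_one]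
  · rw [← pow_mul, mul_comm, pow_mul, hz, one_pow]

end arith

section main

theorem mem_SU_iff (n : ℕ) (x : Matrix.SpecialLinearGroup (Fin n) F) :
    x ∈ Cfsg.SU n F q ↔ ∀ u v, Cfsg.hermForm n F q (x.1 *ᵥ u) (x.1 *ᵥ v) = Cfsg.hermForm n F q u v :=
  Iff.rfl

theorem preserves_pow (n : ℕ) (A : Matrix (Fin n) (Fin n) F)
    (hA : ∀ u v, Cfsg.hermForm n F q (A *ᵥ u) (A *ᵥ v) = Cfsg.hermForm n F q u v) (k : ℕ) :
    ∀ u v, Cfsg.hermForm n F q ((A ^ k) *ᵥ u) ((A ^ k) *ᵥ v) = Cfsg.hermForm n F q u v := by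
  induction k with
  | zero => intro u v; simp
  | succ k ih =>
    intro u v
    rw [pow_succ, ← Matrix.mulVec_mulVec, ← Matrix.mulVec_mulVec, ih, hA]

theorem scalar_norm (n : ℕ) (hn : 1 ≤ n) (z : F)
    (h : ∀ u v, Cfsg.hermForm n F q ((z • (1 : Matrix (Fin n) (Fin n) F)) *ᵥ u)
      ((z • (1 : Matrix (Fin n) (Fin n) F)) *ᵥ v) = Cfsg.hermForm n F q u v) : z ^ (q + 1) = 1 := by
  have h1 := h (Pi.single ⟨0, hn⟩ 1) (Pi.single ⟨0, hn⟩ 1)
  rw [Matrix.smul_mulVec, Matrix.one_mulVec, hermForm_smul, hermForm_single, mul_one] at h1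
  rw [pow_succ, mul_comm]
  exact h1

/-- reduction to an isometry of order `r` -/
theorem exists_reduction (n : ℕ) (hn : 1 ≤ n) {r : ℕ} (hr : r.Prime) (hnd : ¬ r ∣ q + 1)
    (A : Matrix (Fin n) (Fin n) F)
    (hA : ∀ u v, Cfsg.hermForm n F q (A *ᵥ u) (A *ᵥ v) = Cfsg.hermForm n F q u v)
    (z : F) (hz : A ^ r = z • (1 : Matrix (Fin n) (Fin n) F)) :
    ∃ ζ : F, ζ ≠ 0 ∧ (ζ⁻¹ • A) ^ r = 1 ∧
      ∀ u v, Cfsg.hermForm n F q ((ζ⁻¹ • A) *ᵥ u) ((ζ⁻¹ • A) *ᵥ v) = Cfsg.hermForm n F q u v := by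
  have hzn : z ^ (q + 1) = 1 := by
    apply scalar_norm n hn
    rw [← hz]
    exact preserves_pow n A hA r
  obtain ⟨ζ, hζr, hζn⟩ := exists_root_scalar hnd hr z hzn
  have hζ0 : ζ ≠ 0 := by
    rintro rfl
    rw [zero_pow (by omega)] at hζn
    exact zero_ne_one hζn
  refine ⟨ζ, hζ0, ?_, ?_⟩
  · rw [_root_.smul_pow, hz, smul_smul, inv_pow, hζr]
    have hz0 : z ≠ 0 := by
      rintro rfl
      rw [zero_pow (by omega)] at hzn
      exact zero_ne_one hzn
    rw [inv_mul_cancel₀ hz0, one_smul]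
  · intro u v
    rw [Matrix.smul_mulVec, Matrix.smul_mulVec, hermForm_smul, hA, ← pow_succ', inv_pow, hζn,
      inv_one, one_mul]

theorem finrank_std (n : ℕ) : finrank F (Fin n → F) = n := by
  rw [Module.finrank_pi, Fintype.card_fin]

/-- sufficiency -/
theorem suff (hq : Fintype.card F = q ^ 2) (n m : ℕ) (hm : 1 ≤ m) (hmn : m ≤ n) {r : ℕ} (hr : r.Prime)
    (hrp : r ≠ p) (hr2 : 2 < r) (hi2 : orderOf ((q : ℕ) : ZMod r) ≠ 2)
    (hcond : uAtomDim q r ≤ m ∧ m % uAtomDim q r ≤ n % uAtomDim q r)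
    (A : Matrix (Fin n) (Fin n) F)
    (hA : ∀ u v, Cfsg.hermForm n F q (A *ᵥ u) (A *ᵥ v) = Cfsg.hermForm n F q u v)
    (z : F) (hz : A ^ r = z • (1 : Matrix (Fin n) (Fin n) F)) :
    ∃ W : Submodule F (Fin n → F), finrank F W = m ∧
      (∀ u ∈ W, u ≠ 0 → ∃ v ∈ W, Cfsg.hermForm n F q u v ≠ 0) ∧ W.map (Matrix.toLin' A) ≤ W := by
  have hnd := not_dvd_succ hr hr2 hi2
  obtain ⟨ζ, hζ0, hAr, hA'⟩ := exists_reduction n (by omega) hr hnd A hA z hz
  obtain ⟨σ, hσq, hσ⟩ := exists_frob hq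
  have hU := uData_of_mem σ hσq hσ (ζ⁻¹ • A) hA' r hr.pos hAr
  have hB := und_hermB (n := n) σ hσq
  obtain ⟨a, hsum, H⟩ := PU2 hq hσq hU hB hr (by omega) hrp
  rw [finrank_std] at hsum
  have hcpos : 0 < uAtomDim q r := uAtomDim_pos (ord_pos' hr (not_dvd_q hq hr hrp))
  set c := uAtomDim q r with hc
  set e := finrank F (Module.End.eigenspace (Matrix.toLin' (ζ⁻¹ • A) : Module.End F (Fin n → F)) 1)
    with he
  suffices h : ∃ a' e' : ℕ, a' ≤ a ∧ e' ≤ e ∧ c * a' + e' = m by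
    obtain ⟨a', e', ha', he', hm'⟩ := h
    obtain ⟨W, hWinv, hWnd, hWd⟩ := H a' e' ha' he'
    refine ⟨W, by rw [hWd, hm'], ?_, ?_⟩
    · intro u hu hu0
      by_contra hcon
      push Not at hcon
      exact hu0 (hWnd u hu (fun y hy => by rw [hermB_apply]; exact hcon y hy))
    · rintro _ ⟨w, hw, rfl⟩
      have h1 := W.smul_mem ζ (hWinv w hw)
      rw [map_smul, LinearMap.smul_apply, smul_smul, mul_inv_cancel₀ hζ0, one_smul] at h1
      exact h1
  have hdm := Nat.div_add_mod m c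
  have hdn := Nat.div_add_mod n c
  have ha : a ≤ n / c := by
    rw [Nat.le_div_iff_mul_le hcpos, mul_comm]
    omega
  have hA2 := Nat.mul_le_mul_left c ha
  by_cases hcase : a ≤ m / c
  · have hS := Nat.mul_le_mul_left c hcase
    exact ⟨a, m - c * a, le_rfl, by omega, by omega⟩
  · exact ⟨m / c, m % c, by omega, by omega, by omega⟩

/-- the fixed space of a restriction embeds in the fixed space -/
theorem finrank_eigenspace_restrict_le {V : Type*} [AddCommGroup V] [Module F V] [FiniteDimensional F V]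
    (T : Module.End F V) (W : Submodule F V) (hW : ∀ x ∈ W, T x ∈ W) :
    finrank F (Module.End.eigenspace (T.restrict hW) 1) ≤ finrank F (Module.End.eigenspace T 1) := by
  let f : Module.End.eigenspace (T.restrict hW) 1 →ₗ[F] Module.End.eigenspace T 1 :=
    { toFun := fun x => ⟨((x : W) : V), by
        have := x.2
        rw [Module.End.mem_eigenspace_iff, one_smul] at this ⊢
        have h2 := congrArg (fun y : W => (y : V)) this
        simpa [LinearMap.restrict_apply] using h2⟩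
      map_add' := fun x y => rfl
      map_smul' := fun c x => rfl }
  apply LinearMap.finrank_le_finrank_of_injective (f := f)
  intro x y hxy
  apply Subtype.ext
  apply Subtype.ext
  exact congrArg (fun z : Module.End.eigenspace T 1 => (z : V)) hxy

/-- necessity -/
theorem nec (hq : Fintype.card F = q ^ 2) (n m : ℕ) (hm : 1 ≤ m) (hmn : 2 * m < n) {r : ℕ}
    (hr : r.Prime) (hrp : r ≠ p) (hr2 : 2 < r) (hi2 : orderOf ((q : ℕ) : ZMod r) ≠ 2)
    (hrΩ : r ∣ Nat.card {W : Submodule F (Fin n → F) // Module.finrank F ↥W = m ∧ (∀ u ∈ W, u ≠ 0 → ∃ v ∈ W, Cfsg.hermForm n F q u v ≠ 0)})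
    (hall : ∀ x : Matrix.SpecialLinearGroup (Fin n) F, x ∈ Cfsg.SU n F q →
      (∃ z : F, ((x ^ r : Matrix.SpecialLinearGroup (Fin n) F) : Matrix (Fin n) (Fin n) F) = z • (1 : Matrix (Fin n) (Fin n) F)) →
      (∀ z : F, (x : Matrix (Fin n) (Fin n) F) ≠ z • (1 : Matrix (Fin n) (Fin n) F)) →
      ∃ W : Submodule F (Fin n → F), Module.finrank F ↥W = m ∧ (∀ u ∈ W, u ≠ 0 → ∃ v ∈ W, Cfsg.hermForm n F q u v ≠ 0) ∧
        W.map (Matrix.toLin' (x : Matrix (Fin n) (Fin n) F)) ≤ W) :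
    uAtomDim q r ≤ m ∧ m % uAtomDim q r ≤ n % uAtomDim q r := by
  have hrq : ¬ r ∣ q := not_dvd_q hq hr hrp
  have hq0 : 0 < q := by
    rcases Nat.eq_zero_or_pos q with h | h
    · exfalso; rw [h] at hrq; exact hrq (dvd_zero r)
    · exact h
  have hnd := not_dvd_succ hr hr2 hi2
  have hcpos : 0 < uAtomDim q r := uAtomDim_pos (ord_pos' hr hrq)
  obtain ⟨k, hk1, hk2, hkdvd⟩ :=
    Cfsg.Agent.Lib.Helper1_SUND_PU4.PU4 hq n m hm (by omega) hr hrp hrΩ
  have hck : uAtomDim q r ∣ k := uAtomDim_dvd_of_dvd hq0 hr hr2 hkdvd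
  set c := uAtomDim q r with hc
  have hk0 : 0 < k := by omega
  have hcle : c ≤ k := Nat.le_of_dvd hk0 hck
  have hmodlt : n % c < m := by
    obtain ⟨t, ht⟩ := hck
    have h1 : n = (n - k) + c * t := by omega
    have h2 : n % c = (n - k) % c := by
      rw [h1, Nat.add_mul_mod_self_left]
      congr 1
      omega
    have h3 : (n - k) % c ≤ n - k := Nat.mod_le _ _
    omega
  obtain ⟨A, hA, hdet, hAr, hfix⟩ :=
    Cfsg.Agent.Lib.Helper31_SUND_PU3.PU3 hq n hr (by omega) hrp hi2 (n / c) (Nat.mul_div_le n c)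
  rw [← hc] at hfix
  have hfix' : finrank F (Module.End.eigenspace (Matrix.toLin' A : Module.End F (Fin n → F)) 1) = n % c := by
    rw [hfix]
    have := Nat.div_add_mod n c
    omega
  have hAns : ∀ z : F, A ≠ z • (1 : Matrix (Fin n) (Fin n) F) := by
    intro z hz
    have hzn : z ^ (q + 1) = 1 := scalar_norm n (by omega) z (hz ▸ hA)
    have hzr : z ^ r = 1 := by
      have h1 := hAr
      rw [hz, _root_.smul_pow, one_pow] at h1
      have h2 := congrFun (congrFun h1 ⟨0, by omega⟩) ⟨0, by omega⟩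
      simpa using h2
    have hz1 : z = 1 := by
      have hcop : Nat.Coprime r (q + 1) := (Nat.Prime.coprime_iff_not_dvd hr).2 hnd
      have h1 : orderOf z ∣ Nat.gcd r (q + 1) :=
        Nat.dvd_gcd (orderOf_dvd_of_pow_eq_one hzr) (orderOf_dvd_of_pow_eq_one hzn)
      rw [hcop.gcd_eq_one, Nat.dvd_one, orderOf_eq_one_iff] at h1
      exact h1
    rw [hz1, one_smul] at hz
    rw [hz, Matrix.toLin'_one] at hfix'
    have htop : Module.End.eigenspace (LinearMap.id : Module.End F (Fin n → F)) 1 = ⊤ := by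
      rw [eq_top_iff]
      intro v _
      rw [Module.End.mem_eigenspace_iff, one_smul, LinearMap.id_apply]
    rw [htop, finrank_top, finrank_std] at hfix'
    have := Nat.mod_lt n hcpos
    omega
  obtain ⟨x, hxA⟩ : ∃ x : Matrix.SpecialLinearGroup (Fin n) F, x.1 = A := ⟨⟨A, hdet⟩, rfl⟩
  obtain ⟨W, hWd, hWnd, hWinv⟩ := hall x ((mem_SU_iff n x).2 (by rw [hxA]; exact hA)) ⟨1, by
    rw [one_smul, Matrix.SpecialLinearGroup.coe_pow]
    change x.1 ^ r = 1
    rw [hxA]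
    exact hAr⟩ (by rw [hxA]; exact hAns)
  change Submodule.map (Matrix.toLin' x.1) W ≤ W at hWinv
  rw [hxA] at hWinv
  obtain ⟨σ, hσq, hσ⟩ := exists_frob hq
  have hU := uData_of_mem σ hσq hσ A hA r hr.pos hAr
  have hTW : ∀ x ∈ W, (Matrix.toLin' A : Module.End F (Fin n → F)) x ∈ W :=
    fun w hw => hWinv ⟨w, hw, rfl⟩
  have hWnd' : UNDOn (hermB n σ hσq) W := by
    intro x hx hxy
    by_contra hx0
    obtain ⟨v, hv, hne⟩ := hWnd x hx hx0
    exact hne (by rw [← hermB_apply σ hσq]; exact hxy v hv)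
  obtain ⟨a', hsum', -⟩ := PU2 hq hσq (hU.restrict hTW) (und_res hWnd') hr (by omega) hrp
  rw [hWd, ← hc] at hsum'
  have hle := finrank_eigenspace_restrict_le (Matrix.toLin' A : Module.End F (Fin n → F)) W hTW
  rw [hfix'] at hle
  set e' := finrank F (Module.End.eigenspace ((Matrix.toLin' A : Module.End F (Fin n → F)).restrict hTW) 1)
    with he'
  have hmodc := Nat.mod_lt n hcpos
  have he'c : e' < c := by omega
  have hmod : m % c = e' := by
    rw [← hsum', Nat.mul_add_mod, Nat.mod_eq_of_lt he'c]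
  refine ⟨?_, by rw [hmod]; exact hle⟩
  by_contra hlt
  push Not at hlt
  have ha0 : a' = 0 := by
    by_contra h0
    have : c * 1 ≤ c * a' := Nat.mul_le_mul_left c (by omega)
    omega
  rw [ha0, mul_zero, zero_add] at hsum'
  omega

/-- **UD2**: case `r ≠ p` odd, `ord_r(q) ≠ 2` of S5954. -/
theorem UD2 (hq : Fintype.card F = q ^ 2)
    (n m : ℕ) (hn : 3 ≤ n) (hm : 1 ≤ m) (hmn : 2 * m < n)
    (r : ℕ) (hr : r.Prime) (hrp : r ≠ p) (hr2 : 2 < r)
    (hrΩ : r ∣ Nat.card {W : Submodule F (Fin n → F) // Module.finrank F ↥W = m ∧ (∀ u ∈ W, u ≠ 0 → ∃ v ∈ W, Cfsg.hermForm n F q u v ≠ 0)})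
    (i c : ℕ) (hi : i = orderOf (q : ZMod r)) (hi2 : i ≠ 2)
    (hc : c = if i % 4 = 0 then i else if i % 4 = 2 then i / 2 else 2 * i) :
    (∀ x : Matrix.SpecialLinearGroup (Fin n) F, x ∈ Cfsg.SU n F q →
      (∃ z : F, ((x ^ r : Matrix.SpecialLinearGroup (Fin n) F) : Matrix (Fin n) (Fin n) F) = z • (1 : Matrix (Fin n) (Fin n) F)) →
      (∀ z : F, (x : Matrix (Fin n) (Fin n) F) ≠ z • (1 : Matrix (Fin n) (Fin n) F)) →
      ∃ W : Submodule F (Fin n → F), Module.finrank F ↥W = m ∧ (∀ u ∈ W, u ≠ 0 → ∃ v ∈ W, Cfsg.hermForm n F q u v ≠ 0) ∧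
        W.map (Matrix.toLin' (x : Matrix (Fin n) (Fin n) F)) ≤ W) ↔
    (c ≤ m ∧ m % c ≤ n % c) := by
  have hcc : c = uAtomDim q r := by
    rw [hc, uAtomDim_def, hi]
  have hi2' : orderOf ((q : ℕ) : ZMod r) ≠ 2 := by rw [← hi]; exact hi2
  rw [hcc]
  constructor
  · intro hall
    exact nec hq n m hm hmn hr hrp hr2 hi2' hrΩ hall
  · intro hcond x hx hz _
    obtain ⟨z, hz⟩ := hz
    rw [Matrix.SpecialLinearGroup.coe_pow] at hz
    exact suff hq n m hm (by omega) hr hrp hr2 hi2' hcond x.1 ((mem_SU_iff n x).1 hx) z hz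

end main

end Cfsg.Agent.Lib.Helper99_SUND_UD2
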