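import Mathlib
import Cfsg.Agent.Lib.Helper99_SUTIDefs
import Cfsg.Agent.Lib.Helper99_SUND_PU2
import Cfsg.Agent.Lib.Helper99_SUTI_Pair
import Cfsg.Agent.Lib.Helper40_PrimeOrderClasses
import Cfsg.Agent.Lib.Helper55_SUTI_TS0

set_option autoImplicit false

/-!
Package TS2 of S5953: structure theorem for a semisimple isometry of odd prime order `r ≠ p` of a
nondegenerate hermitian space over the field with `q²` elements, case `ord_r(q) % 4 = 2` (the atoms are
irreducible with self-dual characteristic polynomial): two atoms of the same type contain an invariant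
totally isotropic subspace of the dimension of an atom (`Helper99_SUTI_Pair.exists_ti_in_pair`), and there
are at most `(r - 1) / b` types.  Unitary port of `Helper99_SpTI2`.
-/

namespace Cfsg.Agent.Lib.Helper99_SUTI_TS2

open Polynomial Module
open Cfsg.Agent.Lib.Helper40_SpBasic Cfsg.Agent.Lib.Helper40_UBasic Cfsg.Agent.Lib.Helper99_SUNDDefs
  Cfsg.Agent.Lib.Helper99_SUTIDefs Cfsg.Agent.Lib.Helper94_Herm Cfsg.Agent.Lib.Helper99_SpAtoms
  Cfsg.Agent.Lib.Helper99_SUND_PU2

universe u

section basic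

variable {K : Type*} [Field K] {σ : K →+* K} {V : Type*} [AddCommGroup V] [Module K V]
variable {B : V →ₗ[K] V →ₛₗ[σ] K} {T : Module.End K V}

theorem uhasTI_zero (W : Submodule K V) : UHasTI B T W 0 := by
  refine ⟨⊥, bot_le, ?_, ?_, finrank_bot K V⟩
  · intro x hx
    rw [Submodule.mem_bot] at hx
    rw [hx, map_zero]
    exact Submodule.zero_mem _
  · intro x hx y _
    rw [Submodule.mem_bot] at hx
    rw [hx, map_zero, LinearMap.zero_apply]

theorem uhasTI_mono {W W' : Submodule K V} {k : ℕ} (h : UHasTI B T W k) (hWW' : W ≤ W') :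
    UHasTI B T W' k := by
  obtain ⟨U, hU, h1, h2, h3⟩ := h
  exact ⟨U, hU.trans hWW', h1, h2, h3⟩

theorem uhasTI_sup [FiniteDimensional K V] (hrefl : ∀ x y, B x y = 0 → B y x = 0)
    {W W' : Submodule K V} {k k' : ℕ} (hW : UNDOn B W) (horth : ∀ u ∈ W, ∀ v ∈ W', B u v = 0)
    (h : UHasTI B T W k) (h' : UHasTI B T W' k') : UHasTI B T (W ⊔ W') (k + k') := by
  obtain ⟨U, hU, h1, h2, h3⟩ := h
  obtain ⟨U', hU', h1', h2', h3'⟩ := h'
  refine ⟨U ⊔ U', sup_le_sup hU hU', inv_sup' h1 h1', ?_, ?_⟩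
  · intro x hx y hy
    obtain ⟨a, ha, a', ha', rfl⟩ := Submodule.mem_sup.1 hx
    obtain ⟨b, hb, b', hb', rfl⟩ := Submodule.mem_sup.1 hy
    rw [map_add, map_add, LinearMap.add_apply, LinearMap.add_apply, h2 a ha b hb,
      h2' a' ha' b' hb', horth a (hU ha) b' (hU' hb'), hrefl _ _ (horth b (hU hb) a' (hU' ha'))]
    simp
  · have hd : Disjoint U U' := (disjoint_of_orth' hrefl hW horth).mono hU hU'
    rw [Cfsg.Agent.Lib.Helper99_InvSub.finrank_sup_of_disjoint hd, h3, h3']

theorem uhasTI_map_subtype {Y : Submodule K V} (hY : ∀ x ∈ Y, T x ∈ Y) {k : ℕ}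
    (h : UHasTI (UData.res B Y) (T.restrict hY) ⊤ k) : UHasTI B T Y k := by
  obtain ⟨U, -, h1, h2, h3⟩ := h
  refine ⟨U.map Y.subtype, ?_, inv_map_subtype hY h1, ?_, ?_⟩
  · rintro _ ⟨w, _, rfl⟩
    exact w.2
  · rintro _ ⟨a, ha, rfl⟩ _ ⟨b, hb, rfl⟩
    exact h2 a ha b hb
  · rw [Submodule.finrank_map_subtype_eq, h3]

/-- supremum of a list of subspaces -/
def lsup (L : List (Submodule K V)) : Submodule K V := L.foldr (· ⊔ ·) ⊥

theorem lsup_nil : lsup ([] : List (Submodule K V)) = ⊥ := rfl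

theorem lsup_cons (P : Submodule K V) (L : List (Submodule K V)) : lsup (P :: L) = P ⊔ lsup L := rfl

theorem le_lsup {L : List (Submodule K V)} {P : Submodule K V} (hP : P ∈ L) : P ≤ lsup L := by
  induction L with
  | nil => exact absurd hP (List.not_mem_nil)
  | cons Q L ih =>
    rw [lsup_cons]
    rcases List.mem_cons.1 hP with h | h
    · rw [h]; exact le_sup_left
    · exact (ih h).trans le_sup_right

theorem lsup_le {L : List (Submodule K V)} {W : Submodule K V} (h : ∀ P ∈ L, P ≤ W) :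
    lsup L ≤ W := by
  induction L with
  | nil => rw [lsup_nil]; exact bot_le
  | cons Q L ih =>
    rw [lsup_cons]
    exact sup_le (h Q List.mem_cons_self) (ih (fun P hP => h P (List.mem_cons_of_mem _ hP)))

theorem orth_lsup {W : Submodule K V} {L : List (Submodule K V)}
    (h : ∀ X ∈ L, ∀ u ∈ W, ∀ v ∈ X, B u v = 0) : ∀ u ∈ W, ∀ v ∈ lsup L, B u v = 0 := by
  induction L with
  | nil =>
    intro u _ v hv
    rw [lsup_nil, Submodule.mem_bot] at hv
    rw [hv, map_zero]
  | cons Q L ih =>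
    intro u hu v hv
    rw [lsup_cons] at hv
    obtain ⟨a, ha, b, hb, rfl⟩ := Submodule.mem_sup.1 hv
    rw [map_add, h Q List.mem_cons_self u hu a ha,
      ih (fun X hX => h X (List.mem_cons_of_mem _ hX)) u hu b hb, add_zero]

end basic

section atoms

variable {K : Type u} [Field K] [Fintype K] {p : ℕ} [Fact p.Prime] [CharP K p] {q : ℕ} {σ : K →+* K}

/-- a space without fixed vectors is an orthogonal sum of atoms: the list of atoms -/
theorem exists_atom_list (hK : Fintype.card K = q ^ 2) (hσq : ∀ x, σ x = x ^ q) {r : ℕ} (hr : r.Prime)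
    (hr2 : r ≠ 2) (hrp : r ≠ p) (hcpos : 0 < uAtomDim q r) :
    ∀ (d : ℕ) {V : Type u} [AddCommGroup V] [Module K V] [FiniteDimensional K V]
      (B : V →ₗ[K] V →ₛₗ[σ] K) (T : Module.End K V), finrank K V = d → UData B T r → UND B →
      Module.End.eigenspace T 1 = ⊥ →
      ∃ L : List (Submodule K V),
        (∀ P ∈ L, Inv T P ∧ UNDOn B P ∧ finrank K P = uAtomDim q r) ∧
        L.Pairwise (fun P Q => ∀ u ∈ P, ∀ v ∈ Q, B u v = 0) ∧ uAtomDim q r * L.length = d := by
  intro d
  induction d using Nat.strong_induction_on with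
  | _ d ih =>
  intro V _ _ _ B T hd hU hB hfix
  rcases Nat.eq_zero_or_pos d with hd0 | hdpos
  · exact ⟨[], fun P hP => absurd hP List.not_mem_nil, List.Pairwise.nil,
      by rw [hd0, List.length_nil, mul_zero]⟩
  have hrefl : ∀ x y, B x y = 0 → B y x = 0 := fun x y h => hU.eq_zero h
  have hC : LinearMap.range (T - 1) ≠ ⊥ := by
    intro hC
    have hT1 : ∀ x, T x = x := by
      intro x
      have : (T - 1) x ∈ LinearMap.range (T - 1) := LinearMap.mem_range_self _ _
      rw [hC, Submodule.mem_bot, LinearMap.sub_apply, Module.End.one_apply, sub_eq_zero] at this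
      exact this
    have hall : ∀ x : V, x = 0 := by
      intro x
      have : x ∈ Module.End.eigenspace T 1 := by
        rw [Module.End.mem_eigenspace_iff, one_smul]
        exact hT1 x
      rwa [hfix, Submodule.mem_bot] at this
    have : Subsingleton V := ⟨fun a b => by rw [hall a, hall b]⟩
    have := finrank_zero_of_subsingleton (R := K) (M := V)
    omega
  obtain ⟨Z, hZinv, hZnd, hZdim, -⟩ :=
    Cfsg.Agent.Lib.Helper55_SUND_PU1.PU1 hK hσq hU hB hr hr2 hrp hC
  set Y := orth B Z with hY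
  have hYinv : Inv T Y := hU.inv_orth hZinv
  have hcompl : IsCompl Z Y := isCompl_orth hU hZnd
  have hYnd : UNDOn B Y := undOn_orth hU hB hZnd
  have hdim : finrank K Z + finrank K Y = d := by
    rw [← hd]; exact Submodule.finrank_add_eq_of_isCompl hcompl
  have hfixY : Module.End.eigenspace (T.restrict hYinv) 1 = ⊥ := by
    rw [eq_bot_iff]
    intro x hx
    rw [Module.End.mem_eigenspace_iff, one_smul] at hx
    have h1 : T (x : V) = x := congrArg (fun y : Y => (y : V)) hx
    have h2 : (x : V) ∈ Module.End.eigenspace T 1 := by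
      rw [Module.End.mem_eigenspace_iff, one_smul]
      exact h1
    rw [hfix, Submodule.mem_bot] at h2
    rw [Submodule.mem_bot]
    exact Subtype.ext h2
  obtain ⟨L', hL', hp', hlen'⟩ := ih (finrank K Y) (by omega) (UData.res B Y) (T.restrict hYinv) rfl
    (hU.restrict hYinv) (und_res hYnd) hfixY
  refine ⟨Z :: L'.map (Submodule.map Y.subtype), ?_, ?_, ?_⟩
  · intro P hP
    rcases List.mem_cons.1 hP with h | h
    · rw [h]; exact ⟨hZinv, hZnd, hZdim⟩
    · obtain ⟨P', hP', rfl⟩ := List.mem_map.1 h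
      obtain ⟨h1, h2, h3⟩ := hL' P' hP'
      exact ⟨inv_map_subtype hYinv h1, und_map_subtype h2,
        by rw [Submodule.finrank_map_subtype_eq, h3]⟩
  · rw [List.pairwise_cons]
    constructor
    · intro Q hQ u hu v hv
      obtain ⟨Q', _, rfl⟩ := List.mem_map.1 hQ
      obtain ⟨w, _, rfl⟩ := hv
      exact w.2 u hu
    · rw [List.pairwise_map]
      refine hp'.imp ?_
      intro P Q h
      rintro _ ⟨a, ha, rfl⟩ _ ⟨b, hb, rfl⟩
      exact h a ha b hb
  · rw [List.length_cons, List.length_map, mul_add, mul_one, hlen']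
    omega

end atoms

section types

variable {K : Type*} [Field K] {V : Type*} [AddCommGroup V] [Module K V] [FiniteDimensional K V]
variable {T : Module.End K V}

/-- the characteristic polynomial of `T` on an invariant subspace of dimension `d` (the common degree of the
irreducible factors `≠ X - 1` of `X ^ r - 1`), in a space without fixed vectors, is one of these factors. -/
theorem charpoly_mem_of_atom {r : ℕ} (hTr : T ^ r = 1) (hfix : Module.End.eigenspace T 1 = ⊥)
    {d : ℕ} (hdpos : 0 < d) (Wset : Finset K[X])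
    (hW1 : ∀ w ∈ Wset, w.Monic ∧ Irreducible w ∧ w ≠ X - 1 ∧ w ∣ X ^ r - 1 ∧ w.natDegree = d)
    (hW2 : ∀ f : K[X], f.Monic → Irreducible f → f ∣ X ^ r - 1 → f = X - 1 ∨ f ∈ Wset)
    {P : Submodule K V} (hP : Inv T P) (hPd : finrank K P = d) :
    (T.restrict hP).charpoly ∈ Wset := by
  classical
  set φ := T.restrict hP with hφ
  have hφr : φ ^ r = 1 := by
    rw [hφ, Module.End.pow_restrict]
    apply LinearMap.ext
    intro z
    apply Subtype.ext
    rw [LinearMap.coe_restrict_apply, hTr, Module.End.one_apply, Module.End.one_apply]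
  have hmon : φ.charpoly.Monic := LinearMap.charpoly_monic φ
  have hdeg : φ.charpoly.natDegree = d := by rw [LinearMap.charpoly_natDegree, hPd]
  have hnu : ¬ IsUnit φ.charpoly := Polynomial.not_isUnit_of_natDegree_pos _ (by omega)
  obtain ⟨f0, hf0, hf0d⟩ := WfDvdMonoid.exists_irreducible_factor hnu hmon.ne_zero
  set f := normalize f0 with hf
  have hfm : f.Monic := Polynomial.monic_normalize hf0.ne_zero
  have hfi : Irreducible f := (associated_normalize f0).irreducible hf0
  have hfd : f ∣ φ.charpoly := normalize_dvd_iff.2 hf0d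
  obtain ⟨v, hv0, hv⟩ := Cfsg.Agent.Lib.Helper40_Semisimple.exists_ne_zero_aeval_eq_zero φ f hfi hfd
  have hkill : aeval φ (X ^ r - 1 : K[X]) = 0 := by
    rw [map_sub, map_pow, aeval_X, map_one, hφr, sub_self]
  have hfX : f ∣ X ^ r - 1 := by
    by_contra hnd
    obtain ⟨a, b, hab⟩ := (Irreducible.coprime_iff_not_dvd hfi).2 hnd
    apply hv0
    have h1 := congrArg (fun g => aeval φ g v) hab
    simp only [map_add, map_mul, map_one, LinearMap.add_apply, Module.End.mul_apply,
      Module.End.one_apply, hv, hkill, LinearMap.zero_apply, map_zero, add_zero] at h1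
    exact h1.symm
  rcases hW2 f hfm hfi hfX with h1 | h1
  · exfalso
    apply hv0
    rw [h1, map_sub, aeval_X, map_one, LinearMap.sub_apply, Module.End.one_apply, sub_eq_zero] at hv
    have hv' : T (v : V) = v := by
      have := congrArg Subtype.val hv
      rwa [LinearMap.coe_restrict_apply] at this
    have h2 : (v : V) ∈ Module.End.eigenspace T 1 := by
      rw [Module.End.mem_eigenspace_iff, one_smul]
      exact hv'
    rw [hfix, Submodule.mem_bot] at h2
    exact Subtype.ext h2
  · have h2 := (hW1 f h1).2.2.2.2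
    have : φ.charpoly = f :=
      Polynomial.eq_of_monic_of_dvd_of_natDegree_le hfm hmon hfd (by rw [hdeg, h2])
    rw [this]
    exact h1

open Classical in
/-- the type of an invariant subspace: the characteristic polynomial of `T` on it. -/
noncomputable def typ (T : Module.End K V) (P : Submodule K V) : K[X] :=
  if h : Inv T P then (T.restrict h).charpoly else 0

theorem typ_eq {P : Submodule K V} (h : Inv T P) : typ T P = (T.restrict h).charpoly := by
  unfold typ
  rw [dif_pos h]

end types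

section pairs

variable {K : Type u} [Field K] [Fintype K] {p : ℕ} [Fact p.Prime] [CharP K p] {q : ℕ} {σ : K →+* K}

omit [Fintype K] in
theorem cross_orth {V : Type*} [AddCommGroup V] [Module K V] {B : V →ₗ[K] V →ₛₗ[σ] K}
    (hrefl : ∀ x y, B x y = 0 → B y x = 0) {L : List (Submodule K V)}
    (hp : L.Pairwise (fun P Q => ∀ u ∈ P, ∀ v ∈ Q, B u v = 0))
    {P Q : Submodule K V} (hP : P ∈ L) (hQ : Q ∈ L) (hne : P ≠ Q) :
    ∀ u ∈ P, ∀ v ∈ Q, B u v = 0 := by
  have : Std.Symm (fun P Q : Submodule K V => ∀ u ∈ P, ∀ v ∈ Q, B u v = 0) :=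
    ⟨fun P Q h u hu v hv => hrefl _ _ (h v hv u hu)⟩
  exact hp.forall hP hQ hne

/-- from a list of pairwise orthogonal atoms of length at least `(r-1)/b + 2 s - 1` one gets a totally isotropic
invariant subspace of dimension `b * s`. -/
theorem uhasTI_pairs (hK : Fintype.card K = q ^ 2) (hσq : ∀ x, σ x = x ^ q)
    {V : Type u} [AddCommGroup V] [Module K V] [FiniteDimensional K V]
    {B : V →ₗ[K] V →ₛₗ[σ] K} {T : Module.End K V} {r : ℕ}
    (h : UData B T r) (hr : r.Prime) (hrp : r ≠ p)
    (hi4 : orderOf ((q : ℕ) : ZMod r) % 4 = 2)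
    (hfix : Module.End.eigenspace T 1 = ⊥) :
    ∀ (s : ℕ) (L : List (Submodule K V)),
      (∀ P ∈ L, Inv T P ∧ UNDOn B P ∧ finrank K P = uAtomDim q r) →
      L.Pairwise (fun P Q => ∀ u ∈ P, ∀ v ∈ Q, B u v = 0) →
      (r - 1) / uAtomDim q r + 2 * s ≤ L.length + 1 →
      UHasTI B T (lsup L) (uAtomDim q r * s) := by
  classical
  obtain ⟨hipos, Wset, hWcard, hW1, hW2⟩ :=
    Cfsg.Agent.Lib.Helper40_PrimeOrderClasses.exists_cyclotomic_factors (F := K) p r hr hrp
  have hrF : ((r : ℕ) : K) ≠ 0 := Cfsg.Agent.Lib.Helper99_PrimeOrderSL.natCast_ne_zero hr hrp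
  have hrefl : ∀ x y, B x y = 0 → B y x = 0 := fun x y hxy => h.eq_zero hxy
  have hσne : ∃ θ, σ θ ≠ θ := by
    obtain ⟨σ', hσ', hI⟩ := Cfsg.Agent.Lib.Helper94_HermBridge.exists_frob hK
    have : σ = σ' := RingHom.ext (fun x => by rw [hσq, hσ'])
    rw [this]
    exact hI.ne_id
  have hss := Cfsg.Agent.Lib.Helper99_PrimeOrderSL.isSemisimple_of_pow_eq_one T r hrF h.pow
  obtain ⟨d, hd⟩ : ∃ d, d = orderOf ((Fintype.card K : ℕ) : ZMod r) := ⟨_, rfl⟩
  have hd' : d = orderOf (((q ^ 2 : ℕ) : ℕ) : ZMod r) := by rw [hd, hK]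
  have hbd : uAtomDim q r = d := (Cfsg.Agent.Lib.Helper55_SUND_PU1.degree_cases q r d hd').1 hi4
  rw [← hd] at hipos hWcard hW1
  rw [hbd]
  intro s
  induction s with
  | zero =>
    intro L _ _ _
    rw [mul_zero]
    exact uhasTI_zero _
  | succ s ih =>
    intro L hL hp hlen
    have hnodup : L.Nodup := by
      refine List.Pairwise.imp_of_mem ?_ hp
      intro P Q hP hQ horth hPQ
      subst hPQ
      have hnd := (hL P hP).2.1
      have h0 : P = ⊥ := by
        rw [eq_bot_iff]
        intro x hx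
        rw [Submodule.mem_bot]
        exact hnd x hx (fun y hy => horth x hx y hy)
      have hdm := (hL P hP).2.2
      rw [h0, finrank_bot] at hdm
      omega
    have hex : ∃ P ∈ L, ∃ Q ∈ L, P ≠ Q ∧ typ T P = typ T Q := by
      by_contra hcon
      push Not at hcon
      have hnd2 : (L.map (typ T)).Nodup :=
        List.Nodup.map_on (fun P hP Q hQ h => by
          by_contra hne
          exact hcon P hP Q hQ hne h) hnodup
      have hsub : (L.map (typ T)).toFinset ⊆ Wset := by
        intro w hw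
        rw [List.mem_toFinset, List.mem_map] at hw
        obtain ⟨P, hP, rfl⟩ := hw
        have hPL := hL P hP
        rw [typ_eq hPL.1]
        exact charpoly_mem_of_atom h.pow hfix hipos Wset hW1 hW2 hPL.1 hPL.2.2
      have := Finset.card_le_card hsub
      rw [List.toFinset_card_of_nodup hnd2, List.length_map, hWcard] at this
      omega
    obtain ⟨P, hP, Q, hQ, hPQ, htyp⟩ := hex
    set rest := (L.erase P).erase Q with hrest
    have hsub : rest.Sublist L := (List.erase_sublist).trans List.erase_sublist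
    have hQ' : Q ∈ L.erase P := (List.mem_erase_of_ne (Ne.symm hPQ)).2 hQ
    have hlen' : rest.length = L.length - 2 := by
      rw [hrest, List.length_erase_of_mem hQ', List.length_erase_of_mem hP]
      omega
    have hmem : ∀ X ∈ rest, X ∈ L ∧ X ≠ P ∧ X ≠ Q := by
      intro X hX
      have h1 := (List.Nodup.mem_erase_iff (hnodup.erase P)).1 hX
      have h2 := (List.Nodup.mem_erase_iff hnodup).1 h1.2
      exact ⟨h2.2, h2.1, h1.1⟩
    have ih' := ih rest (fun X hX => hL X (hsub.subset hX)) (hp.sublist hsub)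
      (by rw [hlen']; omega)
    have hPL := hL P hP
    have hQL := hL Q hQ
    have horthPQ := cross_orth hrefl hp hP hQ hPQ
    obtain ⟨U, hU, hUinv, hUti, hUd⟩ :=
      Cfsg.Agent.Lib.Helper99_SUTI_Pair.exists_ti_in_pair hσne h hss hPL.1 hQL.1 hPL.2.1
        hQL.2.1 horthPQ (by rw [← typ_eq, ← typ_eq]; exact htyp)
    have hpair : UHasTI B T (P ⊔ Q) d :=
      ⟨U, hU, hUinv, hUti, by rw [hUd, hPL.2.2]⟩
    have hnd : UNDOn B (P ⊔ Q) := und_sup hrefl hPL.2.1 hQL.2.1 horthPQ
    have horth : ∀ u ∈ P ⊔ Q, ∀ v ∈ lsup rest, B u v = 0 := by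
      apply orth_lsup
      intro X hX u hu v hv
      obtain ⟨hXL, hXP, hXQ⟩ := hmem X hX
      obtain ⟨u1, hu1, u2, hu2, rfl⟩ := Submodule.mem_sup.1 hu
      rw [map_add, LinearMap.add_apply,
        cross_orth hrefl hp hP hXL (Ne.symm hXP) u1 hu1 v hv,
        cross_orth hrefl hp hQ hXL (Ne.symm hXQ) u2 hu2 v hv, add_zero]
    have := uhasTI_sup hrefl hnd horth hpair ih'
    rw [Nat.mul_succ, add_comm]
    exact uhasTI_mono this (sup_le (sup_le (le_lsup hP) (le_lsup hQ))
      (lsup_le (fun X hX => le_lsup (hmem X hX).1)))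

end pairs

section struct

variable {K : Type u} [Field K] [Fintype K] {p : ℕ} [Fact p.Prime] [CharP K p] {q : ℕ}

/-- **TS2**: structure theorem, self-dual atoms (`ord_r(q) % 4 = 2`). -/
theorem TS2 (hK : Fintype.card K = q ^ 2) {σ : K →+* K} (hσq : ∀ x, σ x = x ^ q)
    {V : Type u} [AddCommGroup V] [Module K V] [FiniteDimensional K V]
    {B : V →ₗ[K] V →ₛₗ[σ] K} {T : Module.End K V} {r : ℕ}
    (h : UData B T r) (hB : UND B) (hr : r.Prime) (hr2 : r ≠ 2) (hrp : r ≠ p)
    (hi4 : orderOf ((q : ℕ) : ZMod r) % 4 = 2) :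
    ∃ a : ℕ, uAtomDim q r * a + finrank K (Module.End.eigenspace T 1) = finrank K V ∧
      ∀ s' e' : ℕ, (s' = 0 ∨ (r - 1) / uAtomDim q r + 2 * s' ≤ a + 1) →
        2 * e' ≤ finrank K (Module.End.eigenspace T 1) →
        UHasTI B T ⊤ (uAtomDim q r * s' + e') := by
  classical
  have hcpos : 0 < uAtomDim q r := uAtomDim_pos (ord_pos'' hr (not_dvd_q' hK hr hrp))
  have hrF : ((r : ℕ) : K) ≠ 0 := Cfsg.Agent.Lib.Helper99_PrimeOrderSL.natCast_ne_zero hr hrp
  have hσ : Invol σ := by
    obtain ⟨σ', hσ'q, hσ'⟩ := Cfsg.Agent.Lib.Helper94_HermBridge.exists_frob hK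
    have : σ = σ' := by
      ext x
      rw [hσq, hσ'q]
    rw [this]
    exact hσ'
  have hrefl : ∀ x y, B x y = 0 → B y x = 0 := fun x y hxy => h.eq_zero hxy
  set Fx := Module.End.eigenspace T 1 with hFx
  set R := LinearMap.range (T - 1) with hR
  have hsup : Fx ⊔ R = ⊤ := fix_sup_range hr.pos hrF h.pow
  have hdisj : Disjoint Fx R := disjoint_fix_range hrF h.pow
  have hfixmem : ∀ x ∈ Fx, T x = x := by
    intro x hx
    rwa [hFx, Module.End.mem_eigenspace_iff, one_smul] at hx
  have horthRF : ∀ u ∈ R, ∀ v ∈ Fx, B u v = 0 := by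
    rintro _ ⟨x, rfl⟩ v hv
    rw [LinearMap.sub_apply, Module.End.one_apply, map_sub, LinearMap.sub_apply]
    nth_rewrite 1 [← hfixmem v hv]
    rw [h.iso, sub_self]
  have hRinv : Inv T R := inv_range_sub_one T
  have hFnd : UNDOn B Fx := by
    intro x hx hxy
    apply hB x
    intro v
    have hv : v ∈ Fx ⊔ R := by rw [hsup]; trivial
    obtain ⟨f, hf, ρ, hρ, rfl⟩ := Submodule.mem_sup.1 hv
    rw [map_add, hxy f hf, hrefl _ _ (horthRF ρ hρ x hx), add_zero]
  have hRnd : UNDOn B R := by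
    intro x hx hxy
    apply hB x
    intro v
    have hv : v ∈ Fx ⊔ R := by rw [hsup]; trivial
    obtain ⟨f, hf, ρ, hρ, rfl⟩ := Submodule.mem_sup.1 hv
    rw [map_add, hxy ρ hρ, horthRF x hx f hf, add_zero]
  have hdim : finrank K Fx + finrank K R = finrank K V :=
    Submodule.finrank_add_eq_of_isCompl ⟨hdisj, codisjoint_iff.2 hsup⟩
  have hfixR : Module.End.eigenspace (T.restrict hRinv) 1 = ⊥ := by
    rw [eq_bot_iff]
    intro x hx
    rw [Module.End.mem_eigenspace_iff, one_smul] at hx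
    have h1 : T (x : V) = x := congrArg (fun y : R => (y : V)) hx
    have h2 : (x : V) ∈ Fx := by
      rw [hFx, Module.End.mem_eigenspace_iff, one_smul]
      exact h1
    have h3 := Submodule.disjoint_def.1 hdisj _ h2 x.2
    rw [Submodule.mem_bot]
    exact Subtype.ext h3
  obtain ⟨L, hL, hp, hlen⟩ := exists_atom_list hK hσq hr hr2 hrp hcpos (finrank K R) (UData.res B R)
    (T.restrict hRinv) rfl (h.restrict hRinv) (und_res hRnd) hfixR
  refine ⟨L.length, by omega, ?_⟩
  intro s' e' hs' he'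
  have hA : UHasTI B T R (uAtomDim q r * s') := by
    rcases hs' with rfl | hs'
    · rw [mul_zero]
      exact uhasTI_zero _
    · apply uhasTI_map_subtype hRinv
      exact uhasTI_mono (uhasTI_pairs hK hσq (h.restrict hRinv) hr hrp hi4 hfixR s' L hL hp hs') le_top
  have hF : UHasTI B T Fx e' := by
    obtain ⟨U, hUti, hUd⟩ := Cfsg.Agent.Lib.Helper55_SUTI_TS0.TS0 hσ (UData.res B Fx) (fun x y => h.herm x y) (und_res hFnd) e' he'
    refine ⟨U.map Fx.subtype, ?_, ?_, ?_, by rw [Submodule.finrank_map_subtype_eq, hUd]⟩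
    · rintro _ ⟨w, _, rfl⟩
      exact w.2
    · rintro _ ⟨w, hw, rfl⟩
      exact ⟨w, hw, (hfixmem w w.2).symm⟩
    · rintro _ ⟨a, ha, rfl⟩ _ ⟨b, hb, rfl⟩
      exact hUti a ha b hb
  exact uhasTI_mono (uhasTI_sup hrefl hRnd horthRF hA hF) le_top

end struct

end Cfsg.Agent.Lib.Helper99_SUTI_TS2
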