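import Mathlib
import Cfsg.Statements.S5953
import Cfsg.Agent.Lib.Helper99_SUTIDefs
import Cfsg.Agent.Lib.Helper99_SUND_UD2
import Cfsg.Agent.Lib.Helper55_SUTI_TS1
import Cfsg.Agent.Lib.Helper99_SUTI_TS2
import Cfsg.Agent.Lib.Helper68_SUTI_TS3
import Cfsg.Agent.Lib.Helper93_SUTI_TC
import Cfsg.Agent.Lib.Helper75_SUTI_TS4

set_option autoImplicit false

/-!
Cases `r` odd, `r ≠ p`, `ord_r(q) ≠ 2` of S5953 (elements of prime order of `PSU_n(q)` and totally isotropic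
`m`-spaces), assembled from the packages TS0-TS4, TC.
-/

namespace Cfsg.Agent.Lib.Helper99_SUTI_TB

open Polynomial Module Matrix
open Cfsg.Agent.Lib.Helper40_SpBasic Cfsg.Agent.Lib.Helper40_UBasic Cfsg.Agent.Lib.Helper99_SUNDDefs
  Cfsg.Agent.Lib.Helper99_SUTIDefs Cfsg.Agent.Lib.Helper94_Herm Cfsg.Agent.Lib.Helper94_HermBridge
  Cfsg.Agent.Lib.Helper40_UMatrix Cfsg.Agent.Lib.Helper99_SUND_UD2

universe u

variable {F : Type u} [Field F] [Fintype F] {p : ℕ} [Fact p.Prime] [CharP F p] {q : ℕ}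

theorem uAtomDim_eq_two_mul {q r : ℕ} (hi4 : orderOf ((q : ℕ) : ZMod r) % 4 ≠ 2) :
    uAtomDim q r = 2 * uBlockDim q r := by
  rw [uAtomDim_def, uBlockDim_def]
  set i := orderOf ((q : ℕ) : ZMod r)
  by_cases h0 : i % 4 = 0
  · rw [if_pos h0, if_pos (show Even i by rw [Nat.even_iff]; omega)]
    omega
  · rw [if_neg h0, if_neg hi4, if_neg (show ¬ Even i by rw [Nat.even_iff]; omega)]

theorem uBlockDim_eq_uAtomDim {q r : ℕ} (hi4 : orderOf ((q : ℕ) : ZMod r) % 4 = 2) :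
    uBlockDim q r = uAtomDim q r := by
  rw [uAtomDim_def, uBlockDim_def]
  set i := orderOf ((q : ℕ) : ZMod r)
  rw [if_neg (show ¬ i % 4 = 0 by omega), if_pos hi4,
    if_pos (show Even i by rw [Nat.even_iff]; omega)]

/-- conversion of an abstract invariant totally isotropic subspace -/
theorem convert_ti (n m : ℕ) {σ : F →+* F} (hσq : ∀ x, σ x = x ^ q) (A : Matrix (Fin n) (Fin n) F)
    (ζ : F) (hζ0 : ζ ≠ 0)
    (h : UHasTI (hermB n σ hσq) (Matrix.toLin' (ζ⁻¹ • A)) ⊤ m) :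
    ∃ W : Submodule F (Fin n → F), finrank F W = m ∧
      (∀ u ∈ W, ∀ v ∈ W, Cfsg.hermForm n F q u v = 0) ∧ W.map (Matrix.toLin' A) ≤ W := by
  obtain ⟨U, -, hUinv, hUti, hUd⟩ := h
  refine ⟨U, hUd, fun u hu v hv => ?_, ?_⟩
  · rw [← hermB_apply σ hσq]
    exact hUti u hu v hv
  · rintro _ ⟨w, hw, rfl⟩
    have h1 := U.smul_mem ζ (hUinv w hw)
    rw [map_smul, LinearMap.smul_apply, smul_smul, mul_inv_cancel₀ hζ0, one_smul] at h1
    exact h1

/-- common part of the necessity: the element with the maximal number of atoms -/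
theorem nec_common (hq : Fintype.card F = q ^ 2) (n m : ℕ) (hm : 1 ≤ m) (hmn : 2 * m ≤ n) {r : ℕ}
    (hr : r.Prime) (hrp : r ≠ p) (hr2 : 2 < r) (hi2 : orderOf ((q : ℕ) : ZMod r) ≠ 2)
    (hrΩ : r ∣ Nat.card {W : Submodule F (Fin n → F) // Module.finrank F ↥W = m ∧ (∀ u ∈ W, ∀ v ∈ W, Cfsg.hermForm n F q u v = 0)})
    (hall : (∀ x : Matrix.SpecialLinearGroup (Fin n) F, x ∈ Cfsg.SU n F q →
      (∃ z : F, ((x ^ r : Matrix.SpecialLinearGroup (Fin n) F) : Matrix (Fin n) (Fin n) F) = z • (1 : Matrix (Fin n) (Fin n) F)) →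
      (∀ z : F, (x : Matrix (Fin n) (Fin n) F) ≠ z • (1 : Matrix (Fin n) (Fin n) F)) →
      ∃ W : Submodule F (Fin n → F), Module.finrank F ↥W = m ∧ (∀ u ∈ W, ∀ v ∈ W, Cfsg.hermForm n F q u v = 0) ∧
        W.map (Matrix.toLin' (x : Matrix (Fin n) (Fin n) F)) ≤ W)) :
    uBlockDim q r ≤ m ∧ 2 * (m % uBlockDim q r) ≤ n % uAtomDim q r := by
  have hrq : ¬ r ∣ q := not_dvd_q hq hr hrp
  have hq0 : 0 < q := by
    rcases Nat.eq_zero_or_pos q with h | h
    · exfalso; rw [h] at hrq; exact hrq (dvd_zero r)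
    · exact h
  have hnd := not_dvd_succ hr hr2 hi2
  have hipos := ord_pos' hr hrq
  have hcpos : 0 < uAtomDim q r := uAtomDim_pos hipos
  have hbpos : 0 < uBlockDim q r := by
    rw [uBlockDim_def]
    split_ifs with h
    · obtain ⟨j, hj⟩ := h
      omega
    · exact hipos
  have hc2b : uAtomDim q r ≤ 2 * uBlockDim q r := by
    by_cases hi4 : orderOf ((q : ℕ) : ZMod r) % 4 = 2
    · rw [uBlockDim_eq_uAtomDim hi4]; omega
    · rw [uAtomDim_eq_two_mul hi4]
  obtain ⟨k, hk1, hk2, hkdvd⟩ := Cfsg.Agent.Lib.Helper93_SUTI_TC.TC hq n m hm hmn hr hrp hrΩ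
  have hck : uAtomDim q r ∣ k := uAtomDim_dvd_of_dvd hq0 hr hr2 hkdvd
  set c := uAtomDim q r with hc
  set b := uBlockDim q r with hb
  have hk0 : 0 < k := by omega
  have hcle : c ≤ k := Nat.le_of_dvd hk0 hck
  have hmodlt : n % c < 2 * m := by
    obtain ⟨t, ht⟩ := hck
    have h1 : n = (n - k) + c * t := by omega
    have h2 : n % c = (n - k) % c := by
      rw [h1, Nat.add_mul_mod_self_left]
      congr 1
      omega
    have h3 : (n - k) % c ≤ n - k := Nat.mod_le _ _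
    omega
  obtain ⟨A, hA, hdet, hAr, hfix⟩ :=
    Cfsg.Agent.Lib.Helper31_SUND_PU3.PU3 hq n hr (by omega) hrp hi2 (n / c) (Nat.mul_div_le n c)
  rw [← hc] at hfix
  have hfix' : finrank F (Module.End.eigenspace (Matrix.toLin' A : Module.End F (Fin n → F)) 1) = n % c := by
    rw [hfix]
    have := Nat.div_add_mod n c
    omega
  have hAns : ∀ z : F, A ≠ z • (1 : Matrix (Fin n) (Fin n) F) := by
    intro z hz
    have hzn : z ^ (q + 1) = 1 := scalar_norm n (by omega) z (hz ▸ hA)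
    have hzr : z ^ r = 1 := by
      have h1 := hAr
      rw [hz, _root_.smul_pow, one_pow] at h1
      have h2 := congrFun (congrFun h1 ⟨0, by omega⟩) ⟨0, by omega⟩
      simpa using h2
    have hz1 : z = 1 := by
      have hcop : Nat.Coprime r (q + 1) := (Nat.Prime.coprime_iff_not_dvd hr).2 hnd
      have h1 : orderOf z ∣ Nat.gcd r (q + 1) :=
        Nat.dvd_gcd (orderOf_dvd_of_pow_eq_one hzr) (orderOf_dvd_of_pow_eq_one hzn)
      rw [hcop.gcd_eq_one, Nat.dvd_one, orderOf_eq_one_iff] at h1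
      exact h1
    rw [hz1, one_smul] at hz
    rw [hz, Matrix.toLin'_one] at hfix'
    have htop : Module.End.eigenspace (LinearMap.id : Module.End F (Fin n → F)) 1 = ⊤ := by
      rw [eq_top_iff]
      intro v _
      rw [Module.End.mem_eigenspace_iff, one_smul, LinearMap.id_apply]
    rw [htop, finrank_top, finrank_std] at hfix'
    have := Nat.mod_lt n hcpos
    omega
  obtain ⟨x, hxA⟩ : ∃ x : Matrix.SpecialLinearGroup (Fin n) F, x.1 = A := ⟨⟨A, hdet⟩, rfl⟩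
  obtain ⟨W, hWd, hWti, hWinv⟩ := hall x ((mem_SU_iff n x).2 (by rw [hxA]; exact hA)) ⟨1, by
    rw [one_smul, Matrix.SpecialLinearGroup.coe_pow]
    change x.1 ^ r = 1
    rw [hxA]
    exact hAr⟩ (by rw [hxA]; exact hAns)
  change Submodule.map (Matrix.toLin' x.1) W ≤ W at hWinv
  rw [hxA] at hWinv
  obtain ⟨σ, hσq, hσ⟩ := exists_frob hq
  have hU := uData_of_mem σ hσq hσ A hA r hr.pos hAr
  have hTW : ∀ x ∈ W, (Matrix.toLin' A : Module.End F (Fin n → F)) x ∈ W :=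
    fun w hw => hWinv ⟨w, hw, rfl⟩
  have hWti' : UIsoOn (hermB n σ hσq) W := by
    intro x hx y hy
    rw [hermB_apply]
    exact hWti x hx y hy
  obtain ⟨e', s', hdec, he'⟩ := Cfsg.Agent.Lib.Helper68_SUTI_TS3.TS3 hq hσq hU (und_hermB σ hσq) hr (by omega) hrp hTW hWti'
  rw [hWd, ← hb] at hdec
  rw [hfix'] at he'
  have hmodc := Nat.mod_lt n hcpos
  have he'b : e' < b := by omega
  have hmod : m % b = e' := by
    rw [hdec, Nat.add_mul_mod_self_left, Nat.mod_eq_of_lt he'b]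
  refine ⟨?_, by rw [hmod]; exact he'⟩
  by_contra hlt
  push Not at hlt
  have hs0 : s' = 0 := by
    by_contra h0
    have : b * 1 ≤ b * s' := Nat.mul_le_mul_left b (by omega)
    omega
  rw [hs0, mul_zero, add_zero] at hdec
  omega

/-- **TB1**: case `r ≠ p` odd, `ord_r(q) % 4 ≠ 2` of S5953. -/
theorem TB1 (hq : Fintype.card F = q ^ 2)
    (n m : ℕ) (hn : 3 ≤ n) (hm : 1 ≤ m) (hmn : 2 * m ≤ n)
    (r : ℕ) (hr : r.Prime) (hrp : r ≠ p) (hr2 : 2 < r)
    (hrΩ : r ∣ Nat.card {W : Submodule F (Fin n → F) // Module.finrank F ↥W = m ∧ (∀ u ∈ W, ∀ v ∈ W, Cfsg.hermForm n F q u v = 0)})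
    (i b c : ℕ) (hi : i = orderOf (q : ZMod r)) (hi4 : i % 4 ≠ 2) (hb : b = if Even i then i / 2 else i)
    (hc : c = if i % 4 = 0 then i else if i % 4 = 2 then i / 2 else 2 * i) :
    (∀ x : Matrix.SpecialLinearGroup (Fin n) F, x ∈ Cfsg.SU n F q →
      (∃ z : F, ((x ^ r : Matrix.SpecialLinearGroup (Fin n) F) : Matrix (Fin n) (Fin n) F) = z • (1 : Matrix (Fin n) (Fin n) F)) →
      (∀ z : F, (x : Matrix (Fin n) (Fin n) F) ≠ z • (1 : Matrix (Fin n) (Fin n) F)) →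
      ∃ W : Submodule F (Fin n → F), Module.finrank F ↥W = m ∧ (∀ u ∈ W, ∀ v ∈ W, Cfsg.hermForm n F q u v = 0) ∧
        W.map (Matrix.toLin' (x : Matrix (Fin n) (Fin n) F)) ≤ W) ↔
    (b ≤ m ∧ 2 * (m % b) ≤ n % c) := by
  have hcc : c = uAtomDim q r := by rw [hc, uAtomDim_def, hi]
  have hbb : b = uBlockDim q r := by rw [hb, uBlockDim_def, hi]
  have hi4' : orderOf ((q : ℕ) : ZMod r) % 4 ≠ 2 := by rw [← hi]; exact hi4
  have hi2' : orderOf ((q : ℕ) : ZMod r) ≠ 2 := by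
    intro h
    rw [h] at hi4'
    exact hi4' rfl
  rw [hcc, hbb]
  constructor
  · intro hall
    exact nec_common hq n m hm hmn hr hrp hr2 hi2' hrΩ hall
  · rintro ⟨-, hk⟩ x hx ⟨z, hz⟩ _
    rw [Matrix.SpecialLinearGroup.coe_pow] at hz
    have hA := (mem_SU_iff n x).1 hx
    have hnd := not_dvd_succ hr hr2 hi2'
    obtain ⟨ζ, hζ0, hAr, hA'⟩ := exists_reduction n (by omega) hr hnd x.1 hA z hz
    obtain ⟨σ, hσq, hσ⟩ := exists_frob hq
    have hU := uData_of_mem σ hσq hσ (ζ⁻¹ • x.1) hA' r hr.pos hAr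
    obtain ⟨a, hsum, H⟩ := Cfsg.Agent.Lib.Helper55_SUTI_TS1.TS1 hq hσq hU (und_hermB (n := n) σ hσq) hr (by omega) hrp hi4'
    rw [finrank_std] at hsum
    apply convert_ti n m hσq x.1 ζ hζ0
    have hcpos : 0 < uAtomDim q r := uAtomDim_pos (ord_pos' hr (not_dvd_q hq hr hrp))
    have hc2 := uAtomDim_eq_two_mul hi4'
    set c' := uAtomDim q r with hc'
    set b' := uBlockDim q r with hb'
    set e := finrank F (Module.End.eigenspace (Matrix.toLin' (ζ⁻¹ • x.1) : Module.End F (Fin n → F)) 1)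
      with he
    have hbpos : 0 < b' := by omega
    have hdm := Nat.div_add_mod m b'
    have hdn := Nat.div_add_mod n c'
    have ha : a ≤ n / c' := by
      rw [Nat.le_div_iff_mul_le hcpos, mul_comm]
      omega
    have hA2 := Nat.mul_le_mul_left c' ha
    by_cases hcase : a ≤ m / b'
    · have hS := Nat.mul_le_mul_left b' hcase
      have hmul : c' * a = 2 * (b' * a) := by rw [hc2]; ring
      have := H a (m - b' * a) le_rfl (by omega)
      rwa [Nat.add_sub_cancel' (by omega)] at this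
    · have := H (m / b') (m % b') (by omega) (by omega)
      rwa [hdm] at this

/-- **TB2**: case `r ≠ p` odd, `ord_r(q) % 4 = 2`, `ord_r(q) > 2` of S5953. -/
theorem TB2 (hq : Fintype.card F = q ^ 2)
    (n m : ℕ) (hn : 3 ≤ n) (hm : 1 ≤ m) (hmn : 2 * m ≤ n)
    (r : ℕ) (hr : r.Prime) (hrp : r ≠ p) (hr2 : 2 < r)
    (hrΩ : r ∣ Nat.card {W : Submodule F (Fin n → F) // Module.finrank F ↥W = m ∧ (∀ u ∈ W, ∀ v ∈ W, Cfsg.hermForm n F q u v = 0)})
    (i b : ℕ) (hi : i = orderOf (q : ZMod r)) (hi4 : i % 4 = 2) (hi2 : 2 < i) (hb : b = i / 2) :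
    (∀ x : Matrix.SpecialLinearGroup (Fin n) F, x ∈ Cfsg.SU n F q →
      (∃ z : F, ((x ^ r : Matrix.SpecialLinearGroup (Fin n) F) : Matrix (Fin n) (Fin n) F) = z • (1 : Matrix (Fin n) (Fin n) F)) →
      (∀ z : F, (x : Matrix (Fin n) (Fin n) F) ≠ z • (1 : Matrix (Fin n) (Fin n) F)) →
      ∃ W : Submodule F (Fin n → F), Module.finrank F ↥W = m ∧ (∀ u ∈ W, ∀ v ∈ W, Cfsg.hermForm n F q u v = 0) ∧
        W.map (Matrix.toLin' (x : Matrix (Fin n) (Fin n) F)) ≤ W) ↔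
    (b ≤ m ∧ 2 * (m % b) ≤ n % b ∧ (r - 1) / b + 2 * (m / b) ≤ n / b) := by
  have hi4' : orderOf ((q : ℕ) : ZMod r) % 4 = 2 := by rw [← hi]; exact hi4
  have hi2' : 2 < orderOf ((q : ℕ) : ZMod r) := by rw [← hi]; exact hi2
  have hbb : b = uAtomDim q r := by
    rw [hb, uAtomDim_def, ← hi, if_neg (show ¬ i % 4 = 0 by omega), if_pos hi4]
  have hbc := uBlockDim_eq_uAtomDim hi4'
  rw [hbb]
  have hcpos : 0 < uAtomDim q r := uAtomDim_pos (ord_pos' hr (not_dvd_q hq hr hrp))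
  constructor
  · intro hall
    have h12 := nec_common hq n m hm hmn hr hrp hr2 (by omega) hrΩ hall
    rw [hbc] at h12
    refine ⟨h12.1, h12.2, ?_⟩
    by_contra hneg
    obtain ⟨A₂, hA₂, hdet₂, hA₂r, hbound⟩ := Cfsg.Agent.Lib.Helper75_SUTI_TS4.TS4 hq hr (by omega) hrp hi4' hi2' n m hmn h12.1 hneg
    obtain ⟨σ, hσq, hσ⟩ := exists_frob hq
    have hA₂ns : ∀ z : F, A₂ ≠ z • (1 : Matrix (Fin n) (Fin n) F) := by
      intro z hz
      obtain ⟨U, hUti, hUd⟩ := Cfsg.Agent.Lib.Helper55_SUTI_TS0.TS0 hσ (hermB n σ hσq) (hermB_isHerm σ hσq hσ) (und_hermB σ hσq) m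
        (by rw [finrank_std]; exact hmn)
      apply hbound U _ (fun u hu v hv => by rw [← hermB_apply σ hσq]; exact hUti u hu v hv) hUd
      rintro _ ⟨w, hw, rfl⟩
      rw [hz, Matrix.toLin'_apply, Matrix.smul_mulVec, Matrix.one_mulVec]
      exact U.smul_mem z hw
    obtain ⟨x, hxA⟩ : ∃ x : Matrix.SpecialLinearGroup (Fin n) F, x.1 = A₂ := ⟨⟨A₂, hdet₂⟩, rfl⟩
    obtain ⟨W₂, hW₂d, hW₂ti, hW₂inv⟩ := hall x ((mem_SU_iff n x).2 (by rw [hxA]; exact hA₂)) ⟨1, by
      rw [one_smul, Matrix.SpecialLinearGroup.coe_pow]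
      change x.1 ^ r = 1
      rw [hxA]
      exact hA₂r⟩ (by rw [hxA]; exact hA₂ns)
    change Submodule.map (Matrix.toLin' x.1) W₂ ≤ W₂ at hW₂inv
    rw [hxA] at hW₂inv
    exact hbound W₂ hW₂inv hW₂ti hW₂d
  · rintro ⟨-, hk, h3⟩ x hx ⟨z, hz⟩ _
    rw [Matrix.SpecialLinearGroup.coe_pow] at hz
    have hA := (mem_SU_iff n x).1 hx
    have hnd := not_dvd_succ (q := q) hr hr2 (by omega)
    obtain ⟨ζ, hζ0, hAr, hA'⟩ := exists_reduction n (by omega) hr hnd x.1 hA z hz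
    obtain ⟨σ, hσq, hσ⟩ := exists_frob hq
    have hU := uData_of_mem σ hσq hσ (ζ⁻¹ • x.1) hA' r hr.pos hAr
    obtain ⟨a, hsum, H⟩ := Cfsg.Agent.Lib.Helper99_SUTI_TS2.TS2 hq hσq hU (und_hermB (n := n) σ hσq) hr (by omega) hrp hi4'
    rw [finrank_std] at hsum
    apply convert_ti n m hσq x.1 ζ hζ0
    set b' := uAtomDim q r with hb'
    set e := finrank F (Module.End.eigenspace (Matrix.toLin' (ζ⁻¹ • x.1) : Module.End F (Fin n → F)) 1)
      with he
    set t := (r - 1) / b' with ht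
    have hdm := Nat.div_add_mod m b'
    have hdn := Nat.div_add_mod n b'
    have ha : a ≤ n / b' := by
      rw [Nat.le_div_iff_mul_le hcpos, mul_comm]
      omega
    have hA2 := Nat.mul_le_mul_left b' ha
    have h3'' := Nat.mul_le_mul_left b' h3
    rw [mul_add] at h3''
    by_cases hcase : t + 2 * (m / b') ≤ a + 1
    · have := H (m / b') (m % b') (Or.inr hcase) (by omega)
      rwa [hdm] at this
    · set s' := (a + 1 - t) / 2 with hs'
      have hs1 : s' = 0 ∨ t + 2 * s' ≤ a + 1 := by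
        by_cases h0 : s' = 0
        · exact Or.inl h0
        · right; omega
      have hs2 : s' ≤ m / b' := by omega
      have hs3 : a ≤ 2 * s' + t := by omega
      have hS := Nat.mul_le_mul_left b' hs2
      have hS3 := Nat.mul_le_mul_left b' hs3
      rw [mul_add] at hS3
      have hmul : b' * (2 * s') = 2 * (b' * s') := by ring
      have hmul2 : b' * (2 * (m / b')) = 2 * (b' * (m / b')) := by ring
      have := H s' (m - b' * s') hs1 (by omega)
      rwa [Nat.add_sub_cancel' (by omega)] at this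

end Cfsg.Agent.Lib.Helper99_SUTI_TB
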