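import Mathlib
import Cfsg.Agent.Lib.Helper40_SpExistMatrix

set_option autoImplicit false
set_option linter.unusedSectionVars false

/-!
Counting nondegenerate subspaces of a nondegenerate alternating space over a finite field, via
hyperbolic frames.
-/

namespace Cfsg.Agent.Lib.Helper99_SpNDCount

open Module
open Cfsg.Agent.Lib.Helper40_SpBasic Cfsg.Agent.Lib.Helper40_SpExistMatrix

variable {K V : Type*} [Field K] [Fintype K] [AddCommGroup V] [Module K V] [Finite V]
variable (B : LinearMap.BilinForm K V)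

/-- hyperbolic frames `(e_a, f_a)`. -/
def IsHFrame {M : ℕ} (s : Fin M → V × V) : Prop :=
  ∀ a b, B (s a).1 (s b).1 = 0 ∧ B (s a).2 (s b).2 = 0 ∧
    B (s a).1 (s b).2 = if a = b then 1 else 0

/-- the type of hyperbolic frames. -/
abbrev HFrame (M : ℕ) := {s : Fin M → V × V // IsHFrame B s}

/-- the vectors orthogonal to a frame. -/
def perp {M : ℕ} (s : Fin M → V × V) : Submodule K V where
  carrier := {x | ∀ a, B (s a).1 x = 0 ∧ B (s a).2 x = 0}
  add_mem' := by
    intro x y hx hy a
    rw [map_add, map_add, (hx a).1, (hx a).2, (hy a).1, (hy a).2, add_zero]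
    exact ⟨rfl, rfl⟩
  zero_mem' := by
    intro a
    rw [map_zero, map_zero]
    exact ⟨rfl, rfl⟩
  smul_mem' := by
    intro c x hx a
    rw [map_smul, map_smul, (hx a).1, (hx a).2, smul_zero]
    exact ⟨rfl, rfl⟩

omit [Fintype K] [Finite V] in
theorem mem_perp {M : ℕ} (s : Fin M → V × V) (x : V) :
    x ∈ perp B s ↔ ∀ a, B (s a).1 x = 0 ∧ B (s a).2 x = 0 := Iff.rfl

/-- the span of a frame. -/
def fspan (_B : LinearMap.BilinForm K V) {M : ℕ} (s : Fin M → V × V) : Submodule K V :=
  Submodule.span K (Set.range (fun a => (s a).1)) ⊔ Submodule.span K (Set.range (fun a => (s a).2))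

omit [Fintype K] [Finite V] in
theorem fst_mem_fspan {M : ℕ} (s : Fin M → V × V) (a : Fin M) : (s a).1 ∈ fspan B s :=
  Submodule.mem_sup_left (Submodule.subset_span ⟨a, rfl⟩)

omit [Fintype K] [Finite V] in
theorem snd_mem_fspan {M : ℕ} (s : Fin M → V × V) (a : Fin M) : (s a).2 ∈ fspan B s :=
  Submodule.mem_sup_right (Submodule.subset_span ⟨a, rfl⟩)

omit [Fintype K] [Finite V] in
theorem fspan_le {M : ℕ} (s : Fin M → V × V) (W : Submodule K V)
    (h : ∀ a, (s a).1 ∈ W ∧ (s a).2 ∈ W) : fspan B s ≤ W := by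
  unfold fspan
  rw [sup_le_iff, Submodule.span_le, Submodule.span_le]
  constructor
  · rintro _ ⟨a, rfl⟩; exact (h a).1
  · rintro _ ⟨a, rfl⟩; exact (h a).2

omit [Fintype K] [Finite V] in
theorem span_orth {ι : Type*} (g : ι → V) (y : V) (h : ∀ a, B (g a) y = 0) :
    ∀ u ∈ Submodule.span K (Set.range g), B u y = 0 := by
  intro u hu
  induction hu using Submodule.span_induction with
  | mem z hz => obtain ⟨a, rfl⟩ := hz; exact h a
  | zero => simp
  | add z w _ _ hz hw => rw [map_add, LinearMap.add_apply, hz, hw, add_zero]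
  | smul c z _ hz => rw [map_smul, LinearMap.smul_apply, hz, smul_zero]

omit [Fintype K] [Finite V] in
/-- `fspan s` is orthogonal to `perp s`. -/
theorem orth_fspan_perp {M : ℕ} (s : Fin M → V × V) {x y : V} (hx : x ∈ fspan B s)
    (hy : y ∈ perp B s) : B x y = 0 := by
  unfold fspan at hx
  obtain ⟨u, hu, v, hv, rfl⟩ := Submodule.mem_sup.1 hx
  rw [map_add, LinearMap.add_apply, span_orth B _ y (fun a => (hy a).1) u hu,
    span_orth B _ y (fun a => (hy a).2) v hv, add_zero]

omit [Fintype K] [Finite V] in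
theorem skew_of_alt (halt : ∀ x, B x x = 0) (x y : V) : B x y = - B y x := by
  have h1 := halt (x + y)
  simp only [map_add, LinearMap.add_apply, halt, zero_add, add_zero] at h1
  exact eq_neg_of_add_eq_zero_right h1

/-- the projection of a vector to `perp s` along `fspan s`. -/
noncomputable def proj {M : ℕ} (s : Fin M → V × V) (y : V) : V :=
  y - ∑ a, (B (s a).1 y • (s a).2 - B (s a).2 y • (s a).1)

omit [Fintype K] [Finite V] in
theorem proj_sub_mem {M : ℕ} (s : Fin M → V × V) (y : V) : y - proj B s y ∈ fspan B s := by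
  unfold proj
  rw [sub_sub_cancel]
  apply Submodule.sum_mem
  intro a _
  exact Submodule.sub_mem _ (Submodule.smul_mem _ _ (snd_mem_fspan B s a))
    (Submodule.smul_mem _ _ (fst_mem_fspan B s a))

omit [Fintype K] [Finite V] in
theorem proj_mem_perp (halt : ∀ x, B x x = 0) {M : ℕ} (s : Fin M → V × V) (hs : IsHFrame B s)
    (y : V) : proj B s y ∈ perp B s := by
  classical
  intro b
  unfold proj
  constructor
  · rw [map_sub, map_sum]
    have : ∀ a ∈ Finset.univ, B (s b).1 (B (s a).1 y • (s a).2 - B (s a).2 y • (s a).1) =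
        if b = a then B (s a).1 y else 0 := by
      intro a _
      rw [map_sub, map_smul, map_smul, (hs b a).1, (hs b a).2.2, smul_zero, sub_zero]
      split_ifs <;> simp
    rw [Finset.sum_congr rfl this, Finset.sum_ite_eq Finset.univ b, if_pos (Finset.mem_univ b),
      sub_self]
  · rw [map_sub, map_sum]
    have : ∀ a ∈ Finset.univ, B (s b).2 (B (s a).1 y • (s a).2 - B (s a).2 y • (s a).1) =
        if b = a then B (s a).2 y else 0 := by
      intro a _
      rw [map_sub, map_smul, map_smul, (hs b a).2.1, skew_of_alt B halt (s b).2 (s a).1,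
        (hs a b).2.2, smul_zero, zero_sub]
      by_cases hab : b = a
      · rw [if_pos hab, if_pos hab.symm]; simp
      · rw [if_neg hab, if_neg (Ne.symm hab)]; simp
    rw [Finset.sum_congr rfl this, Finset.sum_ite_eq Finset.univ b, if_pos (Finset.mem_univ b),
      sub_self]

omit [Fintype K] [Finite V] in
theorem fspan_sup_perp (halt : ∀ x, B x x = 0) {M : ℕ} (s : Fin M → V × V) (hs : IsHFrame B s) :
    fspan B s ⊔ perp B s = ⊤ := by
  rw [eq_top_iff]
  intro y _
  have : y = (y - proj B s y) + proj B s y := by abel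
  rw [this]
  exact Submodule.add_mem_sup (proj_sub_mem B s y) (proj_mem_perp B halt s hs y)

omit [Fintype K] [Finite V] in
/-- `perp s` is nondegenerate. -/
theorem ndOn_perp (halt : ∀ x, B x x = 0) (hB : B.Nondegenerate) {M : ℕ} (s : Fin M → V × V)
    (hs : IsHFrame B s) : NDOn B (perp B s) := by
  intro x hx hxy
  apply hB.1 x
  intro y
  have h1 : y = (y - proj B s y) + proj B s y := by abel
  rw [h1, map_add, hxy _ (proj_mem_perp B halt s hs y), add_zero, skew_of_alt B halt,
    orth_fspan_perp B s (proj_sub_mem B s y) hx, neg_zero]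

omit [Fintype K] [Finite V] in
/-- `fspan s` is nondegenerate. -/
theorem ndOn_fspan (halt : ∀ x, B x x = 0) (hB : B.Nondegenerate) {M : ℕ} (s : Fin M → V × V)
    (hs : IsHFrame B s) : NDOn B (fspan B s) := by
  intro x hx hxy
  apply hB.1 x
  intro y
  have h1 : y = (y - proj B s y) + proj B s y := by abel
  rw [h1, map_add, hxy _ (proj_sub_mem B s y), zero_add,
    orth_fspan_perp B s hx (proj_mem_perp B halt s hs y)]

omit [Fintype K] [Finite V] in
theorem linearIndependent_frame (halt : ∀ x, B x x = 0) {M : ℕ} (s : Fin M → V × V)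
    (hs : IsHFrame B s) :
    LinearIndependent K (Sum.elim (fun a => (s a).1) (fun a => (s a).2)) := by
  classical
  rw [Fintype.linearIndependent_iff]
  intro γ hγ
  rw [Fintype.sum_sum_type] at hγ
  simp only [Sum.elim_inl, Sum.elim_inr] at hγ
  have key1 : ∀ b, γ (Sum.inr b) = 0 := by
    intro b
    have h1 := congrArg (fun x => B (s b).1 x) hγ
    simp only [map_add, map_sum, map_smul, map_zero, (hs b _).1, (hs b _).2.2, smul_eq_mul,
      mul_zero, Finset.sum_const_zero, zero_add, mul_ite, mul_one, Finset.sum_ite_eq,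
      Finset.mem_univ, if_true] at h1
    exact h1
  have key2 : ∀ b, γ (Sum.inl b) = 0 := by
    intro b
    have h1 := congrArg (fun x => B (s b).2 x) hγ
    have h2 : ∀ a, B (s b).2 (s a).1 = if b = a then -1 else 0 := by
      intro a
      rw [skew_of_alt B halt, (hs a b).2.2]
      by_cases hab : b = a
      · rw [if_pos hab, if_pos hab.symm]
      · rw [if_neg hab, if_neg (Ne.symm hab), neg_zero]
    simp only [map_add, map_sum, map_smul, map_zero, (hs b _).2.1, h2, smul_eq_mul,
      mul_zero, Finset.sum_const_zero, add_zero, mul_ite, Finset.sum_ite_eq,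
      Finset.mem_univ, if_true, mul_neg, mul_one, neg_eq_zero] at h1
    exact h1
  rintro (b | b)
  · exact key2 b
  · exact key1 b

omit [Fintype K] [Finite V] in
theorem fspan_eq_span {M : ℕ} (s : Fin M → V × V) :
    fspan B s = Submodule.span K (Set.range (Sum.elim (fun a => (s a).1) (fun a => (s a).2))) := by
  unfold fspan
  rw [Set.Sum.elim_range, Submodule.span_union]

omit [Fintype K] [Finite V] in
theorem finrank_fspan (halt : ∀ x, B x x = 0) {M : ℕ} (s : Fin M → V × V)
    (hs : IsHFrame B s) : finrank K (fspan B s) = 2 * M := by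
  rw [fspan_eq_span, finrank_span_eq_card (linearIndependent_frame B halt s hs),
    Fintype.card_sum, Fintype.card_fin, two_mul]

theorem finrank_perp (halt : ∀ x, B x x = 0) (hB : B.Nondegenerate) {M : ℕ} (s : Fin M → V × V)
    (hs : IsHFrame B s) : finrank K (perp B s) = finrank K V - 2 * M := by
  have : FiniteDimensional K V := inferInstance
  have hdisj : Disjoint (fspan B s) (perp B s) := by
    rw [Submodule.disjoint_def]
    intro x hx hx'
    apply ndOn_fspan B halt hB s hs x hx
    intro y hy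
    rw [skew_of_alt B halt, orth_fspan_perp B s hy hx', neg_zero]
  have h1 := Submodule.finrank_sup_add_finrank_inf_eq (fspan B s) (perp B s)
  rw [fspan_sup_perp B halt s hs, hdisj.eq_bot, finrank_bot, add_zero, finrank_top,
    finrank_fspan B halt s hs] at h1
  omega

omit [Fintype K] [Finite V] in
theorem isHFrame_tail {M : ℕ} (s : Fin (M + 1) → V × V) (hs : IsHFrame B s) :
    IsHFrame B (Fin.tail s) := by
  intro a b
  have := hs a.succ b.succ
  simp only [Fin.succ_inj] at this
  exact this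

omit [Fintype K] [Finite V] in
theorem head_mem (halt : ∀ x, B x x = 0) {M : ℕ} (s : Fin (M + 1) → V × V) (hs : IsHFrame B s) :
    (s 0).1 ∈ perp B (Fin.tail s) ∧ (s 0).2 ∈ perp B (Fin.tail s) ∧ B (s 0).1 (s 0).2 = 1 := by
  refine ⟨fun a => ⟨(hs a.succ 0).1, ?_⟩, fun a => ⟨?_, (hs a.succ 0).2.1⟩, ?_⟩
  · show B (s a.succ).2 (s 0).1 = 0
    rw [skew_of_alt B halt, (hs 0 a.succ).2.2, if_neg (Fin.succ_ne_zero a).symm, neg_zero]
  · show B (s a.succ).1 (s 0).2 = 0
    rw [(hs a.succ 0).2.2, if_neg (Fin.succ_ne_zero a)]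
  · rw [(hs 0 0).2.2, if_pos rfl]

omit [Fintype K] [Finite V] in
theorem isHFrame_cons (halt : ∀ x, B x x = 0) {M : ℕ} (s : Fin M → V × V) (hs : IsHFrame B s)
    (ef : V × V) (h1 : ef.1 ∈ perp B s) (h2 : ef.2 ∈ perp B s) (h3 : B ef.1 ef.2 = 1) :
    IsHFrame B (Fin.cons ef s : Fin (M + 1) → V × V) := by
  intro a b
  refine Fin.cases ?_ (fun a' => ?_) a <;> refine Fin.cases ?_ (fun b' => ?_) b
  · simp only [Fin.cons_zero, if_true]
    exact ⟨halt _, halt _, h3⟩
  · simp only [Fin.cons_zero, Fin.cons_succ, if_neg (Fin.succ_ne_zero b').symm]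
    refine ⟨?_, ?_, ?_⟩
    · rw [skew_of_alt B halt, (h1 b').1, neg_zero]
    · rw [skew_of_alt B halt, (h2 b').2, neg_zero]
    · rw [skew_of_alt B halt, (h1 b').2, neg_zero]
  · simp only [Fin.cons_zero, Fin.cons_succ, if_neg (Fin.succ_ne_zero a')]
    exact ⟨(h1 a').1, (h2 a').2, (h2 a').1⟩
  · simp only [Fin.cons_succ, Fin.succ_inj]
    exact hs a' b'

/-- extending a hyperbolic frame by one hyperbolic pair. -/
def equivH (halt : ∀ x, B x x = 0) (M : ℕ) :
    HFrame B (M + 1) ≃ Σ s : HFrame B M,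
      {ef : V × V // ef.1 ∈ perp B s.1 ∧ ef.2 ∈ perp B s.1 ∧ B ef.1 ef.2 = 1} where
  toFun s := ⟨⟨Fin.tail s.1, isHFrame_tail B s.1 s.2⟩, ⟨s.1 0, head_mem B halt s.1 s.2⟩⟩
  invFun s := ⟨Fin.cons s.2.1 s.1.1,
    isHFrame_cons B halt s.1.1 s.1.2 s.2.1 s.2.2.1 s.2.2.2.1 s.2.2.2.2⟩
  left_inv s := by
    apply Subtype.ext
    simp only [Fin.cons_self_tail]
  right_inv := fun ⟨s, x⟩ => by
    simp only [Fin.cons_zero, Subtype.coe_eta, Sigma.mk.inj_iff, Fin.tail_cons]
    exact ⟨trivial, heq_of_eq (Subtype.ext rfl)⟩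

/-- the number of solutions `f ∈ N` of `B e f = 1`, for `0 ≠ e ∈ N` with `N` nondegenerate. -/
theorem card_affine {N : Submodule K V} (hN : NDOn B N) (e : N) (he : e ≠ 0) :
    Nat.card {f : N // B (e : V) (f : V) = 1} = Fintype.card K ^ (finrank K N - 1) := by
  classical
  have : Fintype V := Fintype.ofFinite V
  set φ : N →ₗ[K] K := (B (e : V)).comp N.subtype with hφ
  have hφa : ∀ f : N, φ f = B (e : V) (f : V) := fun f => rfl
  obtain ⟨f₁, hf₁⟩ : ∃ f₁ : N, φ f₁ ≠ 0 := by
    by_contra hcon
    push Not at hcon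
    apply he
    apply Subtype.ext
    exact hN e e.2 (fun y hy => hcon ⟨y, hy⟩)
  set f₀ : N := (φ f₁)⁻¹ • f₁ with hf₀
  have hf₀1 : φ f₀ = 1 := by
    rw [hf₀, map_smul, smul_eq_mul, inv_mul_cancel₀ hf₁]
  have hsurj : Function.Surjective φ := by
    intro c
    exact ⟨c • f₀, by rw [map_smul, hf₀1, smul_eq_mul, mul_one]⟩
  have hrange : finrank K (LinearMap.range φ) = 1 := by
    rw [LinearMap.range_eq_top.2 hsurj, finrank_top, finrank_self]
  have hker : finrank K (LinearMap.ker φ) = finrank K N - 1 := by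
    have := LinearMap.finrank_range_add_finrank_ker φ
    omega
  let ε : {f : N // B (e : V) (f : V) = 1} ≃ LinearMap.ker φ :=
    { toFun := fun f => ⟨f.1 - f₀, by
        rw [LinearMap.mem_ker, map_sub, hf₀1, hφa, f.2, sub_self]⟩
      invFun := fun g => ⟨g.1 + f₀, by
        have := g.2
        rw [LinearMap.mem_ker] at this
        rw [← hφa, map_add, this, hf₀1, zero_add]⟩
      left_inv := fun f => by
        apply Subtype.ext
        simp
      right_inv := fun g => by
        apply Subtype.ext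
        simp }
  rw [Nat.card_congr ε, Nat.card_eq_fintype_card,
    Module.card_eq_pow_finrank (K := K) (V := ↥(LinearMap.ker φ)), hker]

/-- the number of hyperbolic pairs in a nondegenerate subspace. -/
theorem card_pairs {N : Submodule K V} (hN : NDOn B N) :
    Nat.card {ef : V × V // ef.1 ∈ N ∧ ef.2 ∈ N ∧ B ef.1 ef.2 = 1} =
      (Fintype.card K ^ finrank K N - 1) * Fintype.card K ^ (finrank K N - 1) := by
  classical
  have : Fintype V := Fintype.ofFinite V
  let ε : {ef : V × V // ef.1 ∈ N ∧ ef.2 ∈ N ∧ B ef.1 ef.2 = 1} ≃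
      Σ e : {e : N // ¬ e = 0}, {f : N // B (e.1 : V) (f : V) = 1} :=
    { toFun := fun ef => ⟨⟨⟨ef.1.1, ef.2.1⟩, by
          intro h
          have h0 : ef.1.1 = 0 := congrArg Subtype.val h
          have := ef.2.2.2
          rw [h0, map_zero, LinearMap.zero_apply] at this
          exact zero_ne_one this⟩, ⟨⟨ef.1.2, ef.2.2.1⟩, ef.2.2.2⟩⟩
      invFun := fun x => ⟨(x.1.1.1, x.2.1.1), x.1.1.2, x.2.1.2, x.2.2⟩
      left_inv := fun ef => rfl
      right_inv := fun x => rfl }
  rw [Nat.card_congr ε, Nat.card_sigma,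
    Finset.sum_congr rfl (fun e _ => card_affine B hN e.1 e.2), Finset.sum_const, smul_eq_mul,
    Finset.card_univ, Fintype.card_subtype_compl, Fintype.card_subtype_eq,
    Module.card_eq_pow_finrank (K := K) (V := ↥N)]

/-- the number of hyperbolic `M`-frames of a nondegenerate alternating space of dimension `n`
over the field with `q` elements. -/
def hcount (q n M : ℕ) : ℕ :=
  ∏ j ∈ Finset.range M, ((q ^ (n - 2 * j) - 1) * q ^ (n - 2 * j - 1))

theorem card_hframe (halt : ∀ x, B x x = 0) (hB : B.Nondegenerate) (M : ℕ) :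
    Nat.card (HFrame B M) = hcount (Fintype.card K) (finrank K V) M := by
  classical
  induction M with
  | zero =>
    unfold hcount
    rw [Finset.prod_range_zero]
    have : Unique (HFrame B 0) :=
      { default := ⟨fun a => a.elim0, fun a => a.elim0⟩
        uniq := fun s => Subtype.ext (funext fun a => a.elim0) }
    exact Nat.card_unique
  | succ M ih =>
    have : Fintype (HFrame B M) := Fintype.ofFinite _
    have hfib : ∀ s : HFrame B M,
        Nat.card {ef : V × V // ef.1 ∈ perp B s.1 ∧ ef.2 ∈ perp B s.1 ∧ B ef.1 ef.2 = 1} =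
          (Fintype.card K ^ (finrank K V - 2 * M) - 1) *
            Fintype.card K ^ (finrank K V - 2 * M - 1) := by
      intro s
      rw [card_pairs B (ndOn_perp B halt hB s.1 s.2), finrank_perp B halt hB s.1 s.2]
    unfold hcount at ih ⊢
    rw [Nat.card_congr (equivH B halt M), Nat.card_sigma,
      Finset.sum_congr rfl (fun s _ => hfib s), Finset.sum_const, smul_eq_mul,
      Finset.card_univ, ← Nat.card_eq_fintype_card, ih, Finset.prod_range_succ]

omit [Fintype K] [Finite V] in
theorem isHFrame_val {M : ℕ} (W : Submodule K V) (s' : Fin M → W × W)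
    (h : IsHFrame (B.restrict W) s') :
    IsHFrame B (fun a => (((s' a).1 : V), ((s' a).2 : V))) := fun a b => h a b

omit [Fintype K] [Finite V] in
theorem isHFrame_sub {M : ℕ} (W : Submodule K V) (s : Fin M → V × V) (h : IsHFrame B s)
    (hs : ∀ a, (s a).1 ∈ W ∧ (s a).2 ∈ W) :
    IsHFrame (B.restrict W) (fun a => ((⟨(s a).1, (hs a).1⟩ : W), (⟨(s a).2, (hs a).2⟩ : W))) :=
  fun a b => h a b

/-- frames spanning a given subspace of dimension `2 M` are the frames of that subspace. -/
def fibreH (halt : ∀ x, B x x = 0) (M : ℕ) (W : Submodule K V) (hWd : finrank K W = 2 * M) :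
    {s : HFrame B M // fspan B s.1 = W} ≃ HFrame (B.restrict W) M where
  toFun s := ⟨_, isHFrame_sub B W s.1.1 s.1.2
    (fun a => ⟨s.2.le (fst_mem_fspan B _ a), s.2.le (snd_mem_fspan B _ a)⟩)⟩
  invFun s' := ⟨⟨_, isHFrame_val B W s'.1 s'.2⟩, by
    have : FiniteDimensional K V := inferInstance
    apply Submodule.eq_of_le_of_finrank_eq
      (fspan_le B _ W (fun a => ⟨(s'.1 a).1.2, (s'.1 a).2.2⟩))
    rw [finrank_fspan B halt _ (isHFrame_val B W s'.1 s'.2), hWd]⟩
  left_inv s := rfl
  right_inv s' := rfl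

omit [Fintype K] [Finite V] in
theorem ndOn_iff' (Z : Submodule K V) :
    NDOn B Z ↔ ∀ u ∈ Z, u ≠ 0 → ∃ v ∈ Z, B u v ≠ 0 := by
  constructor
  · intro h u hu hu0
    by_contra hcon
    apply hu0
    apply h u hu
    intro y hy
    by_contra hne
    exact hcon ⟨y, hy, hne⟩
  · intro h x hx hxy
    by_contra hx0
    obtain ⟨v, hv, hne⟩ := h x hx hx0
    exact hne (hxy v hv)

/-- the number of nondegenerate `2M`-subspaces. -/
theorem card_nd_mul (halt : ∀ x, B x x = 0) (hB : B.Nondegenerate) (M : ℕ) :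
    Nat.card {W : Submodule K V // finrank K W = 2 * M ∧ NDOn B W} *
        hcount (Fintype.card K) (2 * M) M =
      hcount (Fintype.card K) (finrank K V) M := by
  classical
  have : Fintype {W : Submodule K V // finrank K W = 2 * M ∧ NDOn B W} := Fintype.ofFinite _
  let π : HFrame B M → {W : Submodule K V // finrank K W = 2 * M ∧ NDOn B W} :=
    fun s => ⟨fspan B s.1, finrank_fspan B halt s.1 s.2, ndOn_fspan B halt hB s.1 s.2⟩
  have h2 : Nat.card (HFrame B M) = ∑ W, Nat.card {s // π s = W} := by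
    rw [← Nat.card_sigma]; exact Nat.card_congr (Equiv.sigmaFiberEquiv π).symm
  have h3 : ∀ W, Nat.card {s // π s = W} = hcount (Fintype.card K) (2 * M) M := fun W => by
    have e : {s // π s = W} ≃ {s : HFrame B M // fspan B s.1 = W.1} :=
      { toFun := fun s => ⟨s.1, congrArg Subtype.val s.2⟩
        invFun := fun s => ⟨s.1, Subtype.ext s.2⟩
        left_inv := fun s => rfl
        right_inv := fun s => rfl }
    rw [Nat.card_congr (e.trans (fibreH B halt M W.1 W.2.1)),
      card_hframe (B.restrict W.1) (fun x => halt x)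
        (nondegenerate_restrict (isoData_one B halt) W.2.2) M, W.2.1]
  rw [← card_hframe B halt hB M, h2, Finset.sum_congr rfl (fun W _ => h3 W), Finset.sum_const,
    smul_eq_mul, Finset.card_univ, Nat.card_eq_fintype_card]

/-- a prime not dividing `q` that divides the number of nondegenerate `m`-subspaces divides
`q ^ (n - 2 j) - 1` for some `2 j < m`. -/
theorem exists_dvd_of_dvd_card_nd (halt : ∀ x, B x x = 0) (hB : B.Nondegenerate)
    (m : ℕ) (hme : Even m) (hm : m ≤ finrank K V) {r : ℕ} (hr : r.Prime)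
    (hrq : ¬ r ∣ Fintype.card K)
    (h : r ∣ Nat.card {W : Submodule K V // finrank K W = m ∧
      ∀ u ∈ W, u ≠ 0 → ∃ v ∈ W, B u v ≠ 0}) :
    ∃ j : ℕ, 2 * j < m ∧ r ∣ Fintype.card K ^ (finrank K V - 2 * j) - 1 := by
  obtain ⟨M, rfl⟩ := hme
  have h' : r ∣ Nat.card {W : Submodule K V // finrank K W = 2 * M ∧ NDOn B W} := by
    have e : {W : Submodule K V // finrank K W = M + M ∧
        ∀ u ∈ W, u ≠ 0 → ∃ v ∈ W, B u v ≠ 0} ≃
        {W : Submodule K V // finrank K W = 2 * M ∧ NDOn B W} :=
      Equiv.subtypeEquivRight (fun W => by rw [ndOn_iff', two_mul])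
    rwa [Nat.card_congr e] at h
  have h1 : r ∣ hcount (Fintype.card K) (finrank K V) M := by
    rw [← card_nd_mul B halt hB M]
    exact h'.mul_right _
  unfold hcount at h1
  rw [hr.prime.dvd_finsetProd_iff] at h1
  obtain ⟨j, hj, hdj⟩ := h1
  rw [Finset.mem_range] at hj
  refine ⟨j, by omega, ?_⟩
  rcases hr.dvd_mul.1 hdj with h2 | h2
  · exact h2
  · exact absurd (hr.dvd_of_dvd_pow h2) hrq

end Cfsg.Agent.Lib.Helper99_SpNDCount
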