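import Mathlib
import Cfsg.Prelude.Def_ClassicalGeometry
import Cfsg.Agent.Lib.Helper13_Symp
import Cfsg.Agent.Lib.Helper5_SpOrder
import Cfsg.Agent.Lib.Helper99_SpDerange

set_option autoImplicit false

/-!
`Sp_{2d}(q)` is transitive on ordered pairs of complementary totally isotropic subspaces; the
number of such pairs divides `|Sp_{2d}(q)| / |GL_d(q)|`.
-/

namespace Cfsg.Agent.Lib.Helper99_SpPolar

open Matrix Module
open Cfsg.Agent.Lib.Helper40_SpMatrix Cfsg.Agent.Lib.Helper99_SpDerange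

variable {F : Type*} [Field F] {d : ℕ}

/-- the first standard Lagrangian -/
def U0 (d : ℕ) (F : Type*) [Field F] : Submodule F (Fin d ⊕ Fin d → F) where
  carrier := {v | ∀ j, v (Sum.inr j) = 0}
  add_mem' := by
    intro a b ha hb j
    rw [Pi.add_apply, ha j, hb j, add_zero]
  zero_mem' := fun j => rfl
  smul_mem' := by
    intro c a ha j
    rw [Pi.smul_apply, ha j, smul_zero]

/-- the second standard Lagrangian -/
def W0 (d : ℕ) (F : Type*) [Field F] : Submodule F (Fin d ⊕ Fin d → F) where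
  carrier := {v | ∀ j, v (Sum.inl j) = 0}
  add_mem' := by
    intro a b ha hb j
    rw [Pi.add_apply, ha j, hb j, add_zero]
  zero_mem' := fun j => rfl
  smul_mem' := by
    intro c a ha j
    rw [Pi.smul_apply, ha j, smul_zero]

theorem mem_U0 (v : Fin d ⊕ Fin d → F) : v ∈ U0 d F ↔ ∀ j, v (Sum.inr j) = 0 := Iff.rfl
theorem mem_W0 (v : Fin d ⊕ Fin d → F) : v ∈ W0 d F ↔ ∀ j, v (Sum.inl j) = 0 := Iff.rfl

theorem isCompl_U0_W0 : IsCompl (U0 d F) (W0 d F) := by
  constructor
  · rw [disjoint_iff, eq_bot_iff]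
    intro v hv
    rw [Submodule.mem_inf] at hv
    rw [Submodule.mem_bot]
    funext a
    rcases a with i | j
    · exact hv.2 i
    · exact hv.1 j
  · rw [codisjoint_iff, eq_top_iff]
    intro v _
    have h : v = (Sum.elim (fun i => v (Sum.inl i)) (fun _ => 0) : Fin d ⊕ Fin d → F) +
        (Sum.elim (fun _ => 0) (fun j => v (Sum.inr j)) : Fin d ⊕ Fin d → F) := by
      funext a
      rcases a with i | j <;> simp
    rw [h]
    apply Submodule.add_mem_sup
    · intro j; rfl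
    · intro j; rfl

theorem Jform_apply (u v : Fin d ⊕ Fin d → F) :
    Jform d F u v = ∑ i, (u (Sum.inr i) * v (Sum.inl i) - u (Sum.inl i) * v (Sum.inr i)) := by
  rw [← sympForm_eq_Jform, Cfsg.Agent.Lib.Helper13_Symp.sympForm_eq]

theorem Jform_swap (u v : Fin d ⊕ Fin d → F) : Jform d F u v = - Jform d F v u := by
  rw [← sympForm_eq_Jform, ← sympForm_eq_Jform, Cfsg.Agent.Lib.Helper13_Symp.sympForm_swap]

theorem ti_U0 : ∀ u ∈ U0 d F, ∀ v ∈ U0 d F, Jform d F u v = 0 := by
  intro u hu v hv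
  rw [Jform_apply]
  apply Finset.sum_eq_zero
  intro i _
  rw [hu i, hv i, zero_mul, mul_zero, sub_zero]

theorem ti_W0 : ∀ u ∈ W0 d F, ∀ v ∈ W0 d F, Jform d F u v = 0 := by
  intro u hu v hv
  rw [Jform_apply]
  apply Finset.sum_eq_zero
  intro i _
  rw [hu i, hv i, zero_mul, mul_zero, sub_zero]


section trans

theorem exists_sp_map (U W : Submodule F (Fin d ⊕ Fin d → F)) (hUW : IsCompl U W)
    (hU : ∀ u ∈ U, ∀ v ∈ U, Jform d F u v = 0) (hW : ∀ u ∈ W, ∀ v ∈ W, Jform d F u v = 0) :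
    ∃ g : Matrix (Fin d ⊕ Fin d) (Fin d ⊕ Fin d) F, g ∈ symplecticGroup (Fin d) F ∧
      (U0 d F).map (Matrix.toLin' g) = U ∧ (W0 d F).map (Matrix.toLin' g) = W := by
  classical
  have hB : (Jform d F).Nondegenerate := Jform_nondeg
  -- pairings
  let Φ : W →ₗ[F] (U →ₗ[F] F) := LinearMap.mk₂ F (fun (w : W) (u : U) => Jform d F (u : Fin d ⊕ Fin d → F) (w : Fin d ⊕ Fin d → F))
    (by intro w₁ w₂ u; simp [map_add])
    (by intro c w u; simp)
    (by intro w u₁ u₂; simp [map_add])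
    (by intro c w u; simp)
  let Ψ : U →ₗ[F] (W →ₗ[F] F) := LinearMap.mk₂ F (fun (u : U) (w : W) => Jform d F (u : Fin d ⊕ Fin d → F) (w : Fin d ⊕ Fin d → F))
    (by intro w₁ w₂ u; simp [map_add])
    (by intro c w u; simp)
    (by intro w u₁ u₂; simp [map_add])
    (by intro c w u; simp)
  have hΦ : ∀ (w : W) (u : U), Φ w u = Jform d F (u : Fin d ⊕ Fin d → F) (w : Fin d ⊕ Fin d → F) := fun _ _ => rfl
  have hΨ : ∀ (u : U) (w : W), Ψ u w = Jform d F (u : Fin d ⊕ Fin d → F) (w : Fin d ⊕ Fin d → F) := fun _ _ => rfl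
  have hsplit : ∀ v : Fin d ⊕ Fin d → F, ∃ u ∈ U, ∃ w ∈ W, u + w = v := by
    intro v
    have : v ∈ U ⊔ W := by rw [hUW.sup_eq_top]; trivial
    exact Submodule.mem_sup.1 this
  have hΦinj : Function.Injective Φ := by
    rw [injective_iff_map_eq_zero]
    intro w hw
    have h0 : (w : Fin d ⊕ Fin d → F) = 0 := by
      apply hB.2
      intro v
      obtain ⟨u, hu, w', hw', rfl⟩ := hsplit v
      rw [map_add, LinearMap.add_apply, hW w' hw' w w.2, add_zero]
      have := congrArg (fun f => f ⟨u, hu⟩) hw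
      simpa [hΦ] using this
    exact Subtype.ext h0
  have hΨinj : Function.Injective Ψ := by
    rw [injective_iff_map_eq_zero]
    intro u hu
    have h0 : (u : Fin d ⊕ Fin d → F) = 0 := by
      apply hB.1
      intro v
      obtain ⟨u', hu', w', hw', rfl⟩ := hsplit v
      rw [map_add, hU u u.2 u' hu', zero_add]
      have := congrArg (fun f => f ⟨w', hw'⟩) hu
      simpa [hΨ] using this
    exact Subtype.ext h0
  have hdimV : finrank F (Fin d ⊕ Fin d → F) = 2 * d := by
    rw [Module.finrank_pi, Fintype.card_sum, Fintype.card_fin, two_mul]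
  have h1 : finrank F W ≤ finrank F U := by
    have := LinearMap.finrank_le_finrank_of_injective hΦinj
    rwa [show finrank F (U →ₗ[F] F) = finrank F U from Subspace.dual_finrank_eq] at this
  have h2 : finrank F U ≤ finrank F W := by
    have := LinearMap.finrank_le_finrank_of_injective hΨinj
    rwa [show finrank F (W →ₗ[F] F) = finrank F W from Subspace.dual_finrank_eq] at this
  have h3 : finrank F U + finrank F W = 2 * d := by
    rw [Submodule.finrank_add_eq_of_isCompl hUW, hdimV]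
  have hUd : finrank F U = d := by omega
  have hWd : finrank F W = d := by omega
  have hΦsurj : Function.Surjective Φ := by
    rw [← LinearMap.injective_iff_surjective_of_finrank_eq_finrank]
    · exact hΦinj
    · rw [show finrank F (U →ₗ[F] F) = finrank F U from Subspace.dual_finrank_eq, hUd, hWd]
  let bU : Basis (Fin d) F U := Module.finBasisOfFinrankEq F U hUd
  choose wj hwj using fun j => hΦsurj (-(bU.coord j))
  let col : Fin d ⊕ Fin d → (Fin d ⊕ Fin d → F) :=
    Sum.elim (fun i => ((bU i : U) : Fin d ⊕ Fin d → F)) (fun j => ((wj j : W) : Fin d ⊕ Fin d → F))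
  let g : Matrix (Fin d ⊕ Fin d) (Fin d ⊕ Fin d) F := Matrix.of fun k a => col a k
  have hgv : ∀ v, Matrix.toLin' g v = ∑ a, v a • col a := by
    intro v
    funext k
    rw [Matrix.toLin'_apply, Matrix.mulVec, dotProduct, Finset.sum_apply]
    apply Finset.sum_congr rfl
    intro a _
    rw [Pi.smul_apply, smul_eq_mul, mul_comm]
    rfl
  have hgcol : ∀ a, Matrix.toLin' g (Pi.single a 1) = col a := by
    intro a
    rw [hgv, Finset.sum_eq_single a]
    · rw [Pi.single_eq_same, one_smul]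
    · intro b _ hb
      rw [Pi.single_eq_of_ne hb, zero_smul]
    · intro h; exact absurd (Finset.mem_univ a) h
  -- the Gram matrix
  have hinl_inl : ∀ i j, Jform d F (col (Sum.inl i)) (col (Sum.inl j)) = 0 :=
    fun i j => hU _ (bU i).2 _ (bU j).2
  have hinr_inr : ∀ i j, Jform d F (col (Sum.inr i)) (col (Sum.inr j)) = 0 :=
    fun i j => hW _ (wj i).2 _ (wj j).2
  have hinl_inr : ∀ i j, Jform d F (col (Sum.inl i)) (col (Sum.inr j)) = if i = j then -1 else 0 := by
    intro i j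
    have h := congrArg (fun f => f (bU i)) (hwj j)
    simp only [hΦ, LinearMap.neg_apply, Basis.coord_apply, Basis.repr_self] at h
    change Jform d F ((bU i : U) : Fin d ⊕ Fin d → F) ((wj j : W) : Fin d ⊕ Fin d → F) = _
    rw [h, Finsupp.single_apply]
    split_ifs <;> simp
  have hgmem : g ∈ symplecticGroup (Fin d) F := by
    rw [SymplecticGroup.mem_iff']
    ext a b
    have h := Jform_comp g (Pi.single a 1) (Pi.single b 1)
    rw [Matrix.toBilin'_single, hgcol, hgcol] at h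
    rw [← h]
    rcases a with i | i <;> rcases b with j | j
    · rw [hinl_inl]; simp [Matrix.J]
    · rw [hinl_inr]; simp only [Matrix.J, Matrix.fromBlocks_apply₁₂, Matrix.neg_apply, Matrix.one_apply]
      split_ifs <;> simp
    · rw [Jform_swap, hinl_inr]; simp only [Matrix.J, Matrix.fromBlocks_apply₂₁, Matrix.one_apply]
      by_cases hij : i = j
      · rw [if_pos hij, if_pos hij.symm, neg_neg]
      · rw [if_neg hij, if_neg (Ne.symm hij), neg_zero]
    · rw [hinr_inr]; simp [Matrix.J]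
  have hU0le : ∀ v ∈ U0 d F, Matrix.toLin' g v ∈ U := by
    intro v hv
    rw [hgv, Fintype.sum_sum_type]
    apply U.add_mem
    · exact U.sum_mem fun i _ => U.smul_mem _ (bU i).2
    · apply U.sum_mem
      intro j _
      rw [hv j, zero_smul]
      exact U.zero_mem
  have hW0le : ∀ v ∈ W0 d F, Matrix.toLin' g v ∈ W := by
    intro v hv
    rw [hgv, Fintype.sum_sum_type]
    apply W.add_mem
    · apply W.sum_mem
      intro j _
      rw [hv j, zero_smul]
      exact W.zero_mem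
    · exact W.sum_mem fun i _ => W.smul_mem _ (wj i).2
  refine ⟨g, hgmem, ?_, ?_⟩
  · apply le_antisymm
    · rintro _ ⟨v, hv, rfl⟩
      exact hU0le v hv
    · intro u hu
      refine ⟨Sum.elim (fun i => bU.repr ⟨u, hu⟩ i) (fun _ => 0), fun j => rfl, ?_⟩
      rw [hgv, Fintype.sum_sum_type]
      simp only [Sum.elim_inl, Sum.elim_inr, zero_smul, Finset.sum_const_zero, add_zero]
      have h := congrArg (Subtype.val) (bU.sum_repr ⟨u, hu⟩)
      rw [Submodule.coe_sum] at h
      simp only [Submodule.coe_smul] at h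
      exact h
  · apply le_antisymm
    · rintro _ ⟨v, hv, rfl⟩
      exact hW0le v hv
    · intro w hw
      set x : ↥(symplecticGroup (Fin d) F) := ⟨g, hgmem⟩ with hx
      have hinv : g * (x⁻¹ : ↥(symplecticGroup (Fin d) F)).1 = 1 := by
        have := congrArg Subtype.val (mul_inv_cancel x)
        exact this
      set v := Matrix.toLin' (x⁻¹ : ↥(symplecticGroup (Fin d) F)).1 w with hv
      have hgvw : Matrix.toLin' g v = w := by
        rw [hv, ← LinearMap.comp_apply, ← Matrix.toLin'_mul, hinv, Matrix.toLin'_one]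
        rfl
      have hvtop : v ∈ U0 d F ⊔ W0 d F := by rw [isCompl_U0_W0.sup_eq_top]; trivial
      obtain ⟨v₁, hv₁, v₂, hv₂, hv12⟩ := Submodule.mem_sup.1 hvtop
      have h1 : Matrix.toLin' g v₁ ∈ U := hU0le v₁ hv₁
      have h2 : Matrix.toLin' g v₂ ∈ W := hW0le v₂ hv₂
      have h3 : Matrix.toLin' g v₁ + Matrix.toLin' g v₂ = w := by
        rw [← map_add, hv12, hgvw]
      have h4 : Matrix.toLin' g v₁ ∈ W := by
        have : Matrix.toLin' g v₁ = w - Matrix.toLin' g v₂ := by rw [← h3]; abel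
        rw [this]
        exact W.sub_mem hw h2
      have h5 : Matrix.toLin' g v₁ = 0 := by
        have : Matrix.toLin' g v₁ ∈ U ⊓ W := Submodule.mem_inf.2 ⟨h1, h4⟩
        rwa [hUW.inf_eq_bot, Submodule.mem_bot] at this
      rw [h5, zero_add] at h3
      exact ⟨v₂, hv₂, h3⟩

end trans


section action

theorem toLin'_bijective (g : ↥(symplecticGroup (Fin d) F)) :
    Function.Bijective (Matrix.toLin' g.1) := by
  rw [Function.bijective_iff_has_inverse]
  refine ⟨Matrix.toLin' (g⁻¹ : ↥(symplecticGroup (Fin d) F)).1, ?_, ?_⟩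
  · intro v
    rw [← LinearMap.comp_apply, ← Matrix.toLin'_mul]
    have : (g⁻¹ : ↥(symplecticGroup (Fin d) F)).1 * g.1 = 1 := congrArg Subtype.val (inv_mul_cancel g)
    rw [this, Matrix.toLin'_one]
    rfl
  · intro v
    rw [← LinearMap.comp_apply, ← Matrix.toLin'_mul]
    have : g.1 * (g⁻¹ : ↥(symplecticGroup (Fin d) F)).1 = 1 := congrArg Subtype.val (mul_inv_cancel g)
    rw [this, Matrix.toLin'_one]
    rfl

/-- the action of the symplectic group on pairs of subspaces -/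
@[reducible] def pairAction (d : ℕ) (F : Type*) [Field F] :
    MulAction ↥(symplecticGroup (Fin d) F)
      (Submodule F (Fin d ⊕ Fin d → F) × Submodule F (Fin d ⊕ Fin d → F)) where
  smul g P := (P.1.map (Matrix.toLin' g.1), P.2.map (Matrix.toLin' g.1))
  one_smul := by
    intro P
    change (P.1.map (Matrix.toLin' (1 : Matrix (Fin d ⊕ Fin d) (Fin d ⊕ Fin d) F)),
      P.2.map (Matrix.toLin' (1 : Matrix (Fin d ⊕ Fin d) (Fin d ⊕ Fin d) F))) = P
    rw [Matrix.toLin'_one, Submodule.map_id, Submodule.map_id]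
  mul_smul := by
    intro g h P
    change (P.1.map (Matrix.toLin' (g.1 * h.1)), P.2.map (Matrix.toLin' (g.1 * h.1))) =
      ((P.1.map (Matrix.toLin' h.1)).map (Matrix.toLin' g.1),
        (P.2.map (Matrix.toLin' h.1)).map (Matrix.toLin' g.1))
    rw [Matrix.toLin'_mul, Submodule.map_comp, Submodule.map_comp]

/-- the set of ordered pairs of complementary totally isotropic subspaces -/
def polarPairs (d : ℕ) (F : Type*) [Field F] :
    Set (Submodule F (Fin d ⊕ Fin d → F) × Submodule F (Fin d ⊕ Fin d → F)) :=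
  {P | IsCompl P.1 P.2 ∧ (∀ u ∈ P.1, ∀ v ∈ P.1, Cfsg.sympForm d F u v = 0) ∧
    (∀ u ∈ P.2, ∀ v ∈ P.2, Cfsg.sympForm d F u v = 0)}

theorem orbit_eq_polarPairs :
    letI := pairAction d F
    MulAction.orbit ↥(symplecticGroup (Fin d) F) (U0 d F, W0 d F) = polarPairs d F := by
  let _ := pairAction d F
  apply Set.eq_of_subset_of_subset
  · rintro _ ⟨g, rfl⟩
    change IsCompl ((U0 d F).map (Matrix.toLin' g.1)) ((W0 d F).map (Matrix.toLin' g.1)) ∧ _ ∧ _
    obtain ⟨hinj, hsurj⟩ := toLin'_bijective g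
    refine ⟨?_, ?_, ?_⟩
    · constructor
      · rw [disjoint_iff, ← Submodule.map_inf _ hinj, isCompl_U0_W0.inf_eq_bot, Submodule.map_bot]
      · rw [codisjoint_iff, ← Submodule.map_sup, isCompl_U0_W0.sup_eq_top, Submodule.map_top,
          LinearMap.range_eq_top.2 hsurj]
    · rintro _ ⟨u, hu, rfl⟩ _ ⟨v, hv, rfl⟩
      rw [Matrix.toLin'_apply, Matrix.toLin'_apply,
        Cfsg.Agent.Lib.Helper13_Symp.sympForm_mulVec_mulVec_of_mem _ g.2, sympForm_eq_Jform]
      exact ti_U0 u hu v hv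
    · rintro _ ⟨u, hu, rfl⟩ _ ⟨v, hv, rfl⟩
      rw [Matrix.toLin'_apply, Matrix.toLin'_apply,
        Cfsg.Agent.Lib.Helper13_Symp.sympForm_mulVec_mulVec_of_mem _ g.2, sympForm_eq_Jform]
      exact ti_W0 u hu v hv
  · rintro ⟨U, W⟩ ⟨hUW, hU, hW⟩
    obtain ⟨g, hg, hgU, hgW⟩ := exists_sp_map U W hUW
      (fun u hu v hv => by rw [← sympForm_eq_Jform]; exact hU u hu v hv)
      (fun u hu v hv => by rw [← sympForm_eq_Jform]; exact hW u hu v hv)
    refine ⟨⟨g, hg⟩, ?_⟩
    change ((U0 d F).map (Matrix.toLin' g), (W0 d F).map (Matrix.toLin' g)) = (U, W)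
    rw [hgU, hgW]

end action


section levi

theorem levi_mem (A : GL (Fin d) F) :
    fromBlocks (A : Matrix (Fin d) (Fin d) F) 0 0 ((A⁻¹ : GL (Fin d) F) : Matrix (Fin d) (Fin d) F)ᵀ ∈
      symplecticGroup (Fin d) F := by
  have h1 : (A : Matrix (Fin d) (Fin d) F) * ((A⁻¹ : GL (Fin d) F) : Matrix (Fin d) (Fin d) F) = 1 := by
    rw [← Units.val_mul, mul_inv_cancel, Units.val_one]
  have h2 : ((A⁻¹ : GL (Fin d) F) : Matrix (Fin d) (Fin d) F)ᵀ * (A : Matrix (Fin d) (Fin d) F)ᵀ = 1 := by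
    rw [← Matrix.transpose_mul, h1, Matrix.transpose_one]
  rw [SymplecticGroup.mem_iff, J, fromBlocks_transpose, fromBlocks_multiply, fromBlocks_multiply]
  simp only [Matrix.mul_zero, Matrix.zero_mul, Matrix.mul_one, Matrix.mul_neg, zero_add, add_zero,
    Matrix.transpose_zero, Matrix.transpose_transpose, Matrix.neg_mul, h1, h2, neg_zero]

/-- the Levi subgroup `GL_d` of the stabilizer of the standard pair -/
def levi (d : ℕ) (F : Type*) [Field F] : GL (Fin d) F →* ↥(symplecticGroup (Fin d) F) where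
  toFun A := ⟨fromBlocks (A : Matrix (Fin d) (Fin d) F) 0 0
    ((A⁻¹ : GL (Fin d) F) : Matrix (Fin d) (Fin d) F)ᵀ, levi_mem A⟩
  map_one' := by
    apply Subtype.ext
    change fromBlocks ((1 : GL (Fin d) F) : Matrix (Fin d) (Fin d) F) 0 0
      (((1 : GL (Fin d) F)⁻¹ : GL (Fin d) F) : Matrix (Fin d) (Fin d) F)ᵀ = 1
    rw [inv_one, Units.val_one, Matrix.transpose_one, fromBlocks_one]
  map_mul' := by
    intro A B
    apply Subtype.ext
    change fromBlocks ((A * B : GL (Fin d) F) : Matrix (Fin d) (Fin d) F) 0 0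
      (((A * B)⁻¹ : GL (Fin d) F) : Matrix (Fin d) (Fin d) F)ᵀ =
      fromBlocks (A : Matrix (Fin d) (Fin d) F) 0 0 ((A⁻¹ : GL (Fin d) F) : Matrix (Fin d) (Fin d) F)ᵀ *
      fromBlocks (B : Matrix (Fin d) (Fin d) F) 0 0 ((B⁻¹ : GL (Fin d) F) : Matrix (Fin d) (Fin d) F)ᵀ
    rw [fromBlocks_multiply, _root_.mul_inv_rev, Units.val_mul, Units.val_mul, Matrix.transpose_mul]
    simp only [Matrix.mul_zero, Matrix.zero_mul, zero_add, add_zero]

theorem levi_val (A : GL (Fin d) F) : (levi d F A).1 = fromBlocks (A : Matrix (Fin d) (Fin d) F) 0 0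
    ((A⁻¹ : GL (Fin d) F) : Matrix (Fin d) (Fin d) F)ᵀ := rfl

theorem levi_injective : Function.Injective (levi d F) := by
  intro A B h
  have h1 := congrArg Subtype.val h
  rw [levi_val, levi_val, Matrix.fromBlocks_inj] at h1
  exact Units.ext h1.1

theorem levi_map_U0_le (A : GL (Fin d) F) : (U0 d F).map (Matrix.toLin' (levi d F A).1) ≤ U0 d F := by
  rintro _ ⟨v, hv, rfl⟩
  intro j
  rw [Matrix.toLin'_apply, levi_val, Matrix.fromBlocks_mulVec]
  simp only [Sum.elim_inr, Matrix.zero_mulVec, zero_add]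
  have : (v ∘ Sum.inr) = 0 := funext hv
  rw [this, Matrix.mulVec_zero]
  rfl

theorem levi_map_W0_le (A : GL (Fin d) F) : (W0 d F).map (Matrix.toLin' (levi d F A).1) ≤ W0 d F := by
  rintro _ ⟨v, hv, rfl⟩
  intro j
  rw [Matrix.toLin'_apply, levi_val, Matrix.fromBlocks_mulVec]
  simp only [Sum.elim_inl, Matrix.zero_mulVec, add_zero]
  have : (v ∘ Sum.inl) = 0 := funext hv
  rw [this, Matrix.mulVec_zero]
  rfl

theorem levi_mem_stabilizer (A : GL (Fin d) F) :
    letI := pairAction d F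
    levi d F A ∈ MulAction.stabilizer ↥(symplecticGroup (Fin d) F) (U0 d F, W0 d F) := by
  let _ := pairAction d F
  rw [MulAction.mem_stabilizer_iff]
  have key : ∀ (S : Submodule F (Fin d ⊕ Fin d → F)),
      (∀ B : GL (Fin d) F, S.map (Matrix.toLin' (levi d F B).1) ≤ S) →
      S.map (Matrix.toLin' (levi d F A).1) = S := by
    intro S hS
    apply le_antisymm (hS A)
    have h1 : (S.map (Matrix.toLin' (levi d F A⁻¹).1)).map (Matrix.toLin' (levi d F A).1) = S := by
      rw [← Submodule.map_comp, ← Matrix.toLin'_mul]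
      have : (levi d F A).1 * (levi d F A⁻¹).1 = 1 := by
        rw [← Submonoid.coe_mul, ← map_mul, mul_inv_cancel, map_one]
        rfl
      rw [this, Matrix.toLin'_one, Submodule.map_id]
    calc S = (S.map (Matrix.toLin' (levi d F A⁻¹).1)).map (Matrix.toLin' (levi d F A).1) := h1.symm
      _ ≤ S.map (Matrix.toLin' (levi d F A).1) := Submodule.map_mono (hS A⁻¹)
  change ((U0 d F).map (Matrix.toLin' (levi d F A).1), (W0 d F).map (Matrix.toLin' (levi d F A).1)) = _
  rw [key _ levi_map_U0_le, key _ levi_map_W0_le]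

end levi

section count

variable [Fintype F]

theorem finite_sp : Finite ↥(symplecticGroup (Fin d) F) := by
  have : Finite (Matrix (Fin d ⊕ Fin d) (Fin d ⊕ Fin d) F) := by
    unfold Matrix
    infer_instance
  exact Finite.of_injective _ Subtype.val_injective

theorem card_pairs_mul_dvd :
    Nat.card {P : Submodule F (Fin d ⊕ Fin d → F) × Submodule F (Fin d ⊕ Fin d → F) //
      IsCompl P.1 P.2 ∧ (∀ u ∈ P.1, ∀ v ∈ P.1, Cfsg.sympForm d F u v = 0) ∧
        (∀ u ∈ P.2, ∀ v ∈ P.2, Cfsg.sympForm d F u v = 0)} * Nat.card (GL (Fin d) F) ∣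
      Nat.card ↥(symplecticGroup (Fin d) F) := by
  classical
  let _ := pairAction d F
  have hfin : Finite ↥(symplecticGroup (Fin d) F) := finite_sp
  set S := MulAction.stabilizer ↥(symplecticGroup (Fin d) F) (U0 d F, W0 d F) with hS
  have h1 : S.index = Nat.card ↥(polarPairs d F) := by
    rw [hS, MulAction.index_stabilizer, orbit_eq_polarPairs, Nat.card_coe_set_eq]
  have h2 : S.index * Nat.card S = Nat.card ↥(symplecticGroup (Fin d) F) := S.index_mul_card
  have h3 : Nat.card (GL (Fin d) F) ∣ Nat.card S := by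
    let φ : GL (Fin d) F →* S := (levi d F).codRestrict S levi_mem_stabilizer
    apply Subgroup.card_dvd_of_injective φ
    intro A B h
    apply levi_injective
    exact congrArg Subtype.val h
  rw [← h2, h1]
  exact Nat.mul_dvd_mul_left _ h3

end count


section even

variable [Fintype F]

theorem even_card_pairs (hd : 1 ≤ d) :
    Even (Nat.card {P : Submodule F (Fin d ⊕ Fin d → F) × Submodule F (Fin d ⊕ Fin d → F) //
      IsCompl P.1 P.2 ∧ (∀ u ∈ P.1, ∀ v ∈ P.1, Cfsg.sympForm d F u v = 0) ∧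
        (∀ u ∈ P.2, ∀ v ∈ P.2, Cfsg.sympForm d F u v = 0)}) := by
  classical
  set Ω := {P : Submodule F (Fin d ⊕ Fin d → F) × Submodule F (Fin d ⊕ Fin d → F) //
      IsCompl P.1 P.2 ∧ (∀ u ∈ P.1, ∀ v ∈ P.1, Cfsg.sympForm d F u v = 0) ∧
        (∀ u ∈ P.2, ∀ v ∈ P.2, Cfsg.sympForm d F u v = 0)} with hΩ
  have hfinV : Finite (Fin d ⊕ Fin d → F) := inferInstance
  have hfinS : Finite (Submodule F (Fin d ⊕ Fin d → F)) :=
    Finite.of_injective (fun S => (S : Set (Fin d ⊕ Fin d → F))) SetLike.coe_injective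
  have hfinΩ : Finite Ω := Subtype.finite
  let sw : Ω → Ω := fun P => ⟨(P.1.2, P.1.1), P.2.1.symm, P.2.2.2, P.2.2.1⟩
  have hsw : ∀ P, sw (sw P) = P := fun P => rfl
  let σ : Equiv.Perm Ω := ⟨sw, sw, hsw, hsw⟩
  have hσ : σ ^ 2 = 1 := by
    refine Equiv.ext fun P => ?_
    rw [pow_two, Equiv.Perm.mul_apply]
    exact hsw P
  have h := Cfsg.Agent.Lib.Helper99_Singer.card_modEq_card_fixed σ Nat.prime_two hσ
  have hempty : IsEmpty {a // σ a = a} := by
    constructor
    rintro ⟨P, hP⟩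
    have h1 : P.1.2 = P.1.1 := congrArg (fun Q : Ω => Q.1.1) hP
    have hc := P.2.1
    rw [h1] at hc
    have hbot : P.1.1 = ⊥ := by
      have := hc.inf_eq_bot
      rwa [inf_idem] at this
    have htop : P.1.1 = ⊤ := by
      have := hc.sup_eq_top
      rwa [sup_idem] at this
    have hne : (Pi.single (Sum.inl ⟨0, hd⟩) 1 : Fin d ⊕ Fin d → F) ≠ 0 := by
      intro h
      have := congrFun h (Sum.inl ⟨0, hd⟩)
      simp at this
    apply hne
    have : (Pi.single (Sum.inl ⟨0, hd⟩) 1 : Fin d ⊕ Fin d → F) ∈ P.1.1 := by rw [htop]; trivial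
    rwa [hbot, Submodule.mem_bot] at this
  rw [@Nat.card_of_isEmpty _ hempty] at h
  exact Nat.even_iff.2 h

end even


section arith

theorem sq_sub_one_eq (x : ℕ) (hx : 1 ≤ x) : (x - 1) * (x + 1) = x ^ 2 - 1 := by
  obtain ⟨y, rfl⟩ : ∃ y, x = y + 1 := ⟨x - 1, by omega⟩
  rw [Nat.add_sub_cancel]
  have : (y + 1) ^ 2 = y * (y + 1 + 1) + 1 := by ring
  rw [this, Nat.add_sub_cancel]

theorem card_identity (q : ℕ) (hq : 1 ≤ q) (d : ℕ) :
    q ^ (d ^ 2) * ∏ i ∈ Finset.range d, (q ^ (2 * (i + 1)) - 1) =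
      (∏ i : Fin d, (q ^ d - q ^ (i : ℕ))) * ∏ i ∈ Finset.range d, (q ^ (i + 1) * (q ^ (i + 1) + 1)) := by
  induction d with
  | zero => simp
  | succ d ih =>
    have hG : ∏ i : Fin (d + 1), (q ^ (d + 1) - q ^ (i : ℕ)) =
        (q ^ (d + 1) - 1) * (q ^ d * ∏ i : Fin d, (q ^ d - q ^ (i : ℕ))) := by
      rw [Fin.prod_univ_succ]
      simp only [Fin.val_zero, pow_zero, Fin.val_succ]
      congr 1
      have : ∀ i : Fin d, q ^ (d + 1) - q ^ ((i : ℕ) + 1) = q * (q ^ d - q ^ (i : ℕ)) := by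
        intro i
        rw [Nat.mul_sub, pow_succ, pow_succ, mul_comm q, mul_comm q]
      rw [Finset.prod_congr rfl (fun i _ => this i), Finset.prod_mul_distrib, Finset.prod_const,
        Finset.card_univ, Fintype.card_fin]
    have hx : 1 ≤ q ^ (d + 1) := Nat.one_le_pow _ _ hq
    have hsq : (q ^ (d + 1) - 1) * (q ^ (d + 1) + 1) = q ^ (2 * (d + 1)) - 1 := by
      rw [sq_sub_one_eq _ hx, ← pow_mul, mul_comm]
    rw [Finset.prod_range_succ, Finset.prod_range_succ, hG, ← hsq]
    have hpow : q ^ ((d + 1) ^ 2) = q ^ (d ^ 2) * (q ^ d * q ^ (d + 1)) := by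
      rw [← pow_add, ← pow_add]
      congr 1
      ring
    rw [hpow]
    calc q ^ d ^ 2 * (q ^ d * q ^ (d + 1)) *
          ((∏ x ∈ Finset.range d, (q ^ (2 * (x + 1)) - 1)) * ((q ^ (d + 1) - 1) * (q ^ (d + 1) + 1)))
        = (q ^ d ^ 2 * ∏ x ∈ Finset.range d, (q ^ (2 * (x + 1)) - 1)) *
            ((q ^ d * q ^ (d + 1)) * ((q ^ (d + 1) - 1) * (q ^ (d + 1) + 1))) := by ring
      _ = ((∏ i : Fin d, (q ^ d - q ^ (i : ℕ))) *
            ∏ i ∈ Finset.range d, (q ^ (i + 1) * (q ^ (i + 1) + 1))) *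
            ((q ^ d * q ^ (d + 1)) * ((q ^ (d + 1) - 1) * (q ^ (d + 1) + 1))) := by rw [ih]
      _ = _ := by ring

theorem exists_dvd_pow_add_one {q d r a : ℕ} (hq : 2 ≤ q) (hr : r.Prime) (hrq : ¬ r ∣ q)
    (hra : r ∣ a)
    (h : a * ∏ i : Fin d, (q ^ d - q ^ (i : ℕ)) ∣
      q ^ (d ^ 2) * ∏ i ∈ Finset.range d, (q ^ (2 * (i + 1)) - 1)) :
    ∃ j, 1 ≤ j ∧ j ≤ d ∧ r ∣ q ^ j + 1 := by
  rw [card_identity q (by omega) d, mul_comm a] at h
  have hGpos : 0 < ∏ i : Fin d, (q ^ d - q ^ (i : ℕ)) := by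
    apply Finset.prod_pos
    intro i _
    have : q ^ (i : ℕ) < q ^ d := Nat.pow_lt_pow_right (by omega) i.2
    omega
  have h1 : a ∣ ∏ i ∈ Finset.range d, (q ^ (i + 1) * (q ^ (i + 1) + 1)) :=
    Nat.dvd_of_mul_dvd_mul_left hGpos h
  have h2 := hra.trans h1
  rw [Prime.dvd_finsetProd_iff hr.prime] at h2
  obtain ⟨i, hi, hri⟩ := h2
  rw [Finset.mem_range] at hi
  rcases (Nat.Prime.dvd_mul hr).1 hri with h3 | h3
  · exact absurd (hr.dvd_of_dvd_pow h3) hrq
  · exact ⟨i + 1, by omega, by omega, h3⟩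

end arith

end Cfsg.Agent.Lib.Helper99_SpPolar
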