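import Mathlib
import Cfsg.Agent.Lib.Helper99_StGLDefs
import Cfsg.Agent.Lib.Helper99_StGL_CYC

/-! StGL package B3a (S2425): the invariant subspaces of `B = H ⊕ cyc T v` not contained in `H`, counted by their
intersections with `H`. helper99. -/

set_option autoImplicit false
open Polynomial

namespace Cfsg.Agent.Lib.Helper99_StGL_B3a
open Cfsg.Agent.Lib.Helper99_StGLDefs Cfsg.Agent.Lib.Helper99_StGL_CYC

variable {F : Type*} [Field F] {V : Type*} [AddCommGroup V] [Module F V]

open Classical in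
theorem card_filter_mem [Fintype F] [Fintype V] {q : ℕ} (hq : Fintype.card F = q) (W : Submodule F V) :
    ((Finset.univ : Finset V).filter (fun u => u ∈ W)).card = q ^ Module.finrank F ↥W := by
  classical
  rw [← hq, ← Nat.card_eq_fintype_card (α := F), ← Module.natCard_eq_pow_finrank (K := F) (V := ↥W),
    Nat.card_eq_fintype_card, Fintype.card_subtype]

open Classical in
theorem card_filter_diff [Fintype F] [Fintype V] {q : ℕ} (hq : Fintype.card F = q) (W W' : Submodule F V)
    (hle : W' ≤ W) :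
    ((Finset.univ : Finset V).filter (fun u => u ∈ W ∧ u ∉ W')).card =
      q ^ Module.finrank F ↥W - q ^ Module.finrank F ↥W' := by
  classical
  have h1 : (Finset.univ : Finset V).filter (fun u => u ∈ W ∧ u ∉ W') =
      (Finset.univ : Finset V).filter (fun u => u ∈ W) \ (Finset.univ : Finset V).filter (fun u => u ∈ W') := by
    ext u
    simp
  have h2 : (Finset.univ : Finset V).filter (fun u => u ∈ W') ⊆ (Finset.univ : Finset V).filter (fun u => u ∈ W) := by
    intro u hu
    simp only [Finset.mem_filter, Finset.mem_univ, true_and] at hu ⊢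
    exact hle hu
  rw [h1, Finset.card_sdiff_of_subset h2, card_filter_mem hq, card_filter_mem hq]

section structure_lemmas

variable [Module.Finite F V] (T : Module.End F V) (f : F[X]) (hf : Irreducible f)
  (B : Submodule F V) (hB : B ∈ T.invtSubmodule) (hfB : B ≤ LinearMap.ker (aeval T f))
  (H : Submodule F V) (hH : H ∈ T.invtSubmodule) (hHB : H ≤ B)

include hf hfB hH in
theorem cyc_inf_eq_bot {u : V} (huB : u ∈ B) (huH : u ∉ H) : cyc T u ⊓ H = ⊥ := by
  have hfu : aeval T f u = 0 := LinearMap.mem_ker.mp (hfB huB)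
  rcases cyc_atom T f hf u hfu (cyc T u ⊓ H)
    (Module.End.invtSubmodule.inf_mem (cyc_inv T u) hH) inf_le_left with h | h
  · exact h
  · exfalso
    apply huH
    have : cyc T u ≤ H := by
      rw [← h]; exact inf_le_right
    exact this (mem_cyc_self T u)

include hf hfB hH in
theorem finrank_sup_cyc {u : V} (huB : u ∈ B) (huH : u ∉ H) :
    Module.finrank F ↥(H ⊔ cyc T u) = Module.finrank F ↥H + f.natDegree := by
  have hfu : aeval T f u = 0 := LinearMap.mem_ker.mp (hfB huB)
  have hu0 : u ≠ 0 := by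
    rintro rfl
    exact huH H.zero_mem
  have h1 := Submodule.finrank_sup_add_finrank_inf_eq H (cyc T u)
  rw [inf_comm, cyc_inf_eq_bot T f hf B hfB H hH huB huH, finrank_bot, add_zero,
    finrank_cyc T f hf u hu0 hfu] at h1
  exact h1

include hf hB hfB hH hHB in
theorem sup_cyc_eq {v : V} (hvB : v ∈ B) (hvH : v ∉ H) (hsup : H ⊔ cyc T v = B)
    {u : V} (huB : u ∈ B) (huH : u ∉ H) : H ⊔ cyc T u = B := by
  apply Submodule.eq_of_le_of_finrank_eq (sup_le hHB (cyc_le T u B hB huB))
  rw [finrank_sup_cyc T f hf B hfB H hH huB huH, ← hsup, finrank_sup_cyc T f hf B hfB H hH hvB hvH]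

include hf hB hfB hH hHB in
theorem finrank_of_not_le {v : V} (hvB : v ∈ B) (hvH : v ∉ H) (hsup : H ⊔ cyc T v = B)
    (W : Submodule F V) (hW : W ∈ T.invtSubmodule) (hWB : W ≤ B) (hWH : ¬ W ≤ H) :
    Module.finrank F ↥W = Module.finrank F ↥(W ⊓ H) + f.natDegree := by
  obtain ⟨u, huW, huH⟩ := SetLike.not_le_iff_exists.mp hWH
  have huB : u ∈ B := hWB huW
  have h1 : W ⊔ H = B := by
    apply le_antisymm (sup_le hWB hHB)
    rw [← sup_cyc_eq T f hf B hB hfB H hH hHB hvB hvH hsup huB huH]
    exact sup_le le_sup_right (le_trans (cyc_le T u W hW huW) le_sup_left)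
  have h2 := Submodule.finrank_sup_add_finrank_inf_eq W H
  rw [h1, ← hsup, finrank_sup_cyc T f hf B hfB H hH hvB hvH] at h2
  omega

end structure_lemmas

theorem B3a [Fintype F] [Finite V] {q : ℕ} (hq : Fintype.card F = q) (T : Module.End F V) (f : F[X])
    (hf : Irreducible f)
    (B : Submodule F V) (hB : B ∈ T.invtSubmodule) (hfB : B ≤ LinearMap.ker (aeval T f))
    (H : Submodule F V) (v : V) (hH : H ∈ T.invtSubmodule) (hHB : H ≤ B) (hvB : v ∈ B) (hv : v ≠ 0)
    (hdisj : H ⊓ cyc T v = ⊥) (hsup : H ⊔ cyc T v = B)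
    (W' : Submodule F V) (hW' : W' ∈ T.invtSubmodule) (hW'H : W' ≤ H) :
    Nat.card {W : Submodule F V // W ∈ T.invtSubmodule ∧ W ≤ B ∧ ¬ W ≤ H ∧ W ⊓ H = W'} =
        q ^ (Module.finrank F ↥H - Module.finrank F ↥W') ∧
      ∀ W : Submodule F V, W ∈ T.invtSubmodule → W ≤ B → ¬ W ≤ H → W ⊓ H = W' →
        Module.finrank F ↥W = Module.finrank F ↥W' + f.natDegree := by
  classical
  haveI : Fintype V := Fintype.ofFinite V
  haveI : Fintype (Submodule F V) := Fintype.ofFinite _
  have hvH : v ∉ H := by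
    intro hvH
    have : v ∈ H ⊓ cyc T v := ⟨hvH, mem_cyc_self T v⟩
    rw [hdisj] at this
    exact hv ((Submodule.mem_bot F).mp this)
  have hd : 0 < f.natDegree := hf.natDegree_pos
  have hsecond : ∀ W : Submodule F V, W ∈ T.invtSubmodule → W ≤ B → ¬ W ≤ H → W ⊓ H = W' →
        Module.finrank F ↥W = Module.finrank F ↥W' + f.natDegree := by
    intro W hW hWB hWH hWW'
    rw [finrank_of_not_le T f hf B hB hfB H hH hHB hvB hvH hsup W hW hWB hWH, hWW']
  refine ⟨?_, hsecond⟩
  rw [Nat.card_eq_fintype_card, Fintype.card_subtype]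
  set Q : Finset (Submodule F V) := Finset.univ.filter
    (fun W => W ∈ T.invtSubmodule ∧ W ≤ B ∧ ¬ W ≤ H ∧ W ⊓ H = W') with hQ
  set P : Finset V := (Finset.univ : Finset V).filter (fun u => u ∈ B ∧ u ∉ H) with hP
  set h := Module.finrank F ↥H with hh
  set w' := Module.finrank F ↥W' with hw'
  set d := f.natDegree with hdd
  have hBfin : Module.finrank F ↥B = h + d := by
    rw [← hsup, finrank_sup_cyc T f hf B hfB H hH hvB hvH]
  have hPcard : P.card = q ^ (h + d) - q ^ h := by
    rw [hP, card_filter_diff hq B H hHB, hBfin]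
  have hmap : ∀ u ∈ P, W' ⊔ cyc T u ∈ Q := by
    intro u hu
    simp only [hP, Finset.mem_filter, Finset.mem_univ, true_and] at hu
    obtain ⟨huB, huH⟩ := hu
    simp only [hQ, Finset.mem_filter, Finset.mem_univ, true_and]
    refine ⟨Module.End.invtSubmodule.sup_mem hW' (cyc_inv T u),
      sup_le (hW'H.trans hHB) (cyc_le T u B hB huB), ?_, ?_⟩
    · intro hle
      exact huH (hle (Submodule.mem_sup_right (mem_cyc_self T u)))
    · rw [sup_inf_assoc_of_le _ hW'H, cyc_inf_eq_bot T f hf B hfB H hH huB huH, sup_bot_eq]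
  have hfib : ∀ W ∈ Q, (P.filter (fun u => W' ⊔ cyc T u = W)).card = q ^ (w' + d) - q ^ w' := by
    intro W hWQ
    simp only [hQ, Finset.mem_filter, Finset.mem_univ, true_and] at hWQ
    obtain ⟨hW, hWB, hWH, hWW'⟩ := hWQ
    have hW'W : W' ≤ W := by rw [← hWW']; exact inf_le_left
    have hset : P.filter (fun u => W' ⊔ cyc T u = W) =
        (Finset.univ : Finset V).filter (fun u => u ∈ W ∧ u ∉ W') := by
      ext u
      simp only [hP, Finset.mem_filter, Finset.mem_univ, true_and]
      constructor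
      · rintro ⟨⟨huB, huH⟩, hu⟩
        refine ⟨?_, fun h' => huH (hW'H h')⟩
        rw [← hu]
        exact Submodule.mem_sup_right (mem_cyc_self T u)
      · rintro ⟨huW, huW'⟩
        have huH : u ∉ H := by
          intro h'
          apply huW'
          rw [← hWW']
          exact ⟨huW, h'⟩
        have huB : u ∈ B := hWB huW
        refine ⟨⟨huB, huH⟩, ?_⟩
        have hle : W' ⊔ cyc T u ≤ W := sup_le hW'W (cyc_le T u W hW huW)
        apply Submodule.eq_of_le_of_finrank_eq hle
        have hmem := hmap u (by simp only [hP, Finset.mem_filter, Finset.mem_univ, true_and]; exact ⟨huB, huH⟩)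
        simp only [hQ, Finset.mem_filter, Finset.mem_univ, true_and] at hmem
        rw [hsecond _ hmem.1 hmem.2.1 hmem.2.2.1 hmem.2.2.2, hsecond W hW hWB hWH hWW']
    rw [hset, card_filter_diff hq W W' hW'W, hsecond W hW hWB hWH hWW']
  have hcount := Finset.card_eq_sum_card_fiberwise hmap
  rw [Finset.sum_congr rfl hfib, Finset.sum_const, smul_eq_mul, hPcard] at hcount
  -- arithmetic
  have hw'h : w' ≤ h := Submodule.finrank_mono hW'H
  have hq1 : 1 < q := hq ▸ Fintype.one_lt_card
  have hqd : 1 < q ^ d := Nat.one_lt_pow hd.ne' hq1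
  have e1 : q ^ (h + d) - q ^ h = q ^ h * (q ^ d - 1) := by
    rw [pow_add, Nat.mul_sub, mul_one]
  have e2 : q ^ (w' + d) - q ^ w' = q ^ w' * (q ^ d - 1) := by
    rw [pow_add, Nat.mul_sub, mul_one]
  have e3 : q ^ h = q ^ (h - w') * q ^ w' := by
    rw [← pow_add, Nat.sub_add_cancel hw'h]
  rw [e1, e2, e3] at hcount
  have hpos : 0 < q ^ w' * (q ^ d - 1) := by
    apply Nat.mul_pos (pow_pos (by omega) _)
    omega
  have : Q.card * (q ^ w' * (q ^ d - 1)) = q ^ (h - w') * (q ^ w' * (q ^ d - 1)) := by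
    rw [← hcount, mul_assoc]
  exact Nat.eq_of_mul_eq_mul_right hpos this

end Cfsg.Agent.Lib.Helper99_StGL_B3a
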