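import Mathlib
import Cfsg.Agent.Lib.Helper99_StGLDefs
import Cfsg.Agent.Lib.Helper99_StGL_CYC
import Cfsg.Agent.Lib.Helper99_StGL_SPLIT
import Cfsg.Agent.Lib.Helper99_StGL_B3a
import Cfsg.Agent.Lib.Helper86_StGL_B1

/-! StGL package B3b (S2425): the Moebius number of the lattice of invariant subspaces of a space killed by an
irreducible polynomial. helper99. -/

set_option autoImplicit false
open Polynomial

namespace Cfsg.Agent.Lib.Helper99_StGL_B3b
open Cfsg.Agent.Lib.Helper99_StGLDefs Cfsg.Agent.Lib.Helper99_StGL_CYC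

variable {F : Type*} [Field F] {V : Type*} [AddCommGroup V] [Module F V]

theorem sval_succ (q d k : ℕ) : sval q d (k + 1) = - ((q : ℤ) ^ d) ^ k * sval q d k := by
  unfold sval
  have h : (k + 1) * (k + 1 - 1) / 2 = k * (k - 1) / 2 + k := by
    have : (k + 1) * (k + 1 - 1) = k * (k - 1) + 2 * k := by
      cases k with
      | zero => simp
      | succ j => simp only [Nat.add_sub_cancel]; ring
    rw [this, Nat.add_mul_div_left _ _ (by norm_num : 0 < 2)]
  rw [h, pow_add, pow_succ]
  ring

open Classical in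
/-- the full sum of the Moebius numbers over the invariant subspaces of `X`. -/
theorem sum_nu_le [Finite V] [Fintype (Submodule F V)] (T : Module.End F V) (X : Submodule F V)
    (hX : X ∈ T.invtSubmodule) :
    ∑ W ∈ (Finset.univ : Finset (Submodule F V)).filter (fun W => W ∈ T.invtSubmodule ∧ W ≤ X), nu T W =
      if X = ⊥ then 1 else 0 := by
  by_cases hX0 : X = ⊥
  · subst hX0
    rw [if_pos rfl]
    have : (Finset.univ : Finset (Submodule F V)).filter (fun W => W ∈ T.invtSubmodule ∧ W ≤ ⊥) = {⊥} := by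
      ext W
      simp only [Finset.mem_filter, Finset.mem_univ, true_and, Finset.mem_singleton, le_bot_iff]
      constructor
      · exact fun h => h.2
      · rintro rfl
        exact ⟨Module.End.invtSubmodule.bot_mem T, rfl⟩
    rw [this, Finset.sum_singleton, nu_bot]
  · rw [if_neg hX0]
    have hsplit : (Finset.univ : Finset (Submodule F V)).filter (fun W => W ∈ T.invtSubmodule ∧ W ≤ X) =
        insert X ((Finset.univ : Finset (Submodule F V)).filter (fun W => W ∈ T.invtSubmodule ∧ W < X)) := by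
      ext W
      simp only [Finset.mem_filter, Finset.mem_univ, true_and, Finset.mem_insert]
      constructor
      · rintro ⟨h1, h2⟩
        rcases eq_or_lt_of_le h2 with h | h
        · exact Or.inl h
        · exact Or.inr ⟨h1, h⟩
      · rintro (rfl | ⟨h1, h2⟩)
        · exact ⟨hX, le_rfl⟩
        · exact ⟨h1, h2.le⟩
    rw [hsplit, Finset.sum_insert (by simp), Cfsg.Agent.Lib.Helper86_StGL_B1.B1 T X hX0]
    ring

open Classical in
theorem B3b [Fintype F] [Finite V] {q : ℕ} (hq : Fintype.card F = q) (T : Module.End F V) (f : F[X])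
    (hf : Irreducible f)
    (B : Submodule F V) (hB : B ∈ T.invtSubmodule) (hfB : B ≤ LinearMap.ker (aeval T f)) :
    f.natDegree ∣ Module.finrank F ↥B ∧
      nu T B = sval q f.natDegree (Module.finrank F ↥B / f.natDegree) := by
  haveI : Fintype (Submodule F V) := Fintype.ofFinite _
  induction hn : Module.finrank F ↥B using Nat.strong_induction_on generalizing B with
  | _ n ih =>
  by_cases hB0 : B = ⊥
  · subst hB0
    rw [finrank_bot] at hn
    subst hn
    refine ⟨dvd_zero _, ?_⟩
    rw [nu_bot, Nat.zero_div, sval_zero]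
  obtain ⟨H, v, hH, hHB, hvB, hv, hdisj, hsup⟩ :=
    Cfsg.Agent.Lib.Helper99_StGL_SPLIT.SPLIT T f hf B hB hfB hB0
  have hd : 0 < f.natDegree := hf.natDegree_pos
  have hvH : v ∉ H := by
    intro hvH
    have : v ∈ H ⊓ cyc T v := ⟨hvH, mem_cyc_self T v⟩
    rw [hdisj] at this
    exact hv ((Submodule.mem_bot F).mp this)
  have hBfin : Module.finrank F ↥B = Module.finrank F ↥H + f.natDegree := by
    rw [← hsup, Cfsg.Agent.Lib.Helper99_StGL_B3a.finrank_sup_cyc T f hf B hfB H hH hvB hvH]
  have hfH : H ≤ LinearMap.ker (aeval T f) := hHB.trans hfB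
  obtain ⟨hdH, hnuH⟩ := ih (Module.finrank F ↥H) (by omega) H hH hfH rfl
  refine ⟨by rw [← hn, hBfin]; exact Dvd.dvd.add hdH (dvd_refl _), ?_⟩
  -- the sums
  have hSB := sum_nu_le T B hB
  rw [if_neg hB0] at hSB
  have hSH := sum_nu_le T H hH
  -- split
  have hunion : (Finset.univ : Finset (Submodule F V)).filter (fun W => W ∈ T.invtSubmodule ∧ W ≤ B) =
      (Finset.univ : Finset (Submodule F V)).filter (fun W => W ∈ T.invtSubmodule ∧ W ≤ H) ∪
      (Finset.univ : Finset (Submodule F V)).filter (fun W => W ∈ T.invtSubmodule ∧ W ≤ B ∧ ¬ W ≤ H) := by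
    ext W
    simp only [Finset.mem_filter, Finset.mem_univ, true_and, Finset.mem_union]
    constructor
    · rintro ⟨h1, h2⟩
      by_cases h3 : W ≤ H
      · exact Or.inl ⟨h1, h3⟩
      · exact Or.inr ⟨h1, h2, h3⟩
    · rintro (⟨h1, h2⟩ | ⟨h1, h2, _⟩)
      · exact ⟨h1, h2.trans hHB⟩
      · exact ⟨h1, h2⟩
  have hdisjoint : Disjoint
      ((Finset.univ : Finset (Submodule F V)).filter (fun W => W ∈ T.invtSubmodule ∧ W ≤ H))
      ((Finset.univ : Finset (Submodule F V)).filter (fun W => W ∈ T.invtSubmodule ∧ W ≤ B ∧ ¬ W ≤ H)) := by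
    rw [Finset.disjoint_left]
    intro W h1 h2
    simp only [Finset.mem_filter, Finset.mem_univ, true_and] at h1 h2
    exact h2.2.2 h1.2
  rw [hunion, Finset.sum_union hdisjoint, hSH] at hSB
  -- fibre the second sum
  have hmaps : ∀ W ∈ (Finset.univ : Finset (Submodule F V)).filter
      (fun W => W ∈ T.invtSubmodule ∧ W ≤ B ∧ ¬ W ≤ H),
      W ⊓ H ∈ (Finset.univ : Finset (Submodule F V)).filter (fun W => W ∈ T.invtSubmodule ∧ W ≤ H) := by
    intro W hW
    simp only [Finset.mem_filter, Finset.mem_univ, true_and] at hW ⊢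
    exact ⟨Module.End.invtSubmodule.inf_mem hW.1 hH, inf_le_right⟩
  rw [← Finset.sum_fiberwise_of_maps_to hmaps] at hSB
  set h := Module.finrank F ↥H with hh
  set d := f.natDegree with hdd
  have hinner : ∀ W' ∈ (Finset.univ : Finset (Submodule F V)).filter
      (fun W => W ∈ T.invtSubmodule ∧ W ≤ H),
      (∑ W ∈ ((Finset.univ : Finset (Submodule F V)).filter
        (fun W => W ∈ T.invtSubmodule ∧ W ≤ B ∧ ¬ W ≤ H)).filter (fun W => W ⊓ H = W'), nu T W) =
      - (q : ℤ) ^ h * nu T W' + (if W' = H then nu T B + (q : ℤ) ^ h * nu T H else 0) := by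
    intro W' hW'mem
    simp only [Finset.mem_filter, Finset.mem_univ, true_and] at hW'mem
    obtain ⟨hW', hW'H⟩ := hW'mem
    have hfilt : ((Finset.univ : Finset (Submodule F V)).filter
        (fun W => W ∈ T.invtSubmodule ∧ W ≤ B ∧ ¬ W ≤ H)).filter (fun W => W ⊓ H = W') =
        (Finset.univ : Finset (Submodule F V)).filter
          (fun W => W ∈ T.invtSubmodule ∧ W ≤ B ∧ ¬ W ≤ H ∧ W ⊓ H = W') := by
      ext W
      simp only [Finset.mem_filter, Finset.mem_univ, true_and, and_assoc]
    rw [hfilt]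
    obtain ⟨hcard, hfin⟩ := Cfsg.Agent.Lib.Helper99_StGL_B3a.B3a hq T f hf B hB hfB H v hH hHB hvB hv hdisj hsup
      W' hW' hW'H
    rw [Nat.card_eq_fintype_card, Fintype.card_subtype] at hcard
    by_cases hWH : W' = H
    · subst hWH
      rw [if_pos rfl]
      have hfib : (Finset.univ : Finset (Submodule F V)).filter
          (fun W => W ∈ T.invtSubmodule ∧ W ≤ B ∧ ¬ W ≤ W' ∧ W ⊓ W' = W') = {B} := by
        ext W
        simp only [Finset.mem_filter, Finset.mem_univ, true_and, Finset.mem_singleton]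
        constructor
        · rintro ⟨h1, h2, h3, h4⟩
          apply Submodule.eq_of_le_of_finrank_eq h2
          rw [hfin W h1 h2 h3 h4, hBfin]
        · rintro rfl
          exact ⟨hB, le_rfl, fun hle => hvH (hle hvB), inf_eq_right.mpr hHB⟩
      rw [hfib, Finset.sum_singleton]
      ring
    · rw [if_neg hWH, add_zero]
      have hlt : W' < H := lt_of_le_of_ne hW'H hWH
      have hw'lt : Module.finrank F ↥W' < h := Submodule.finrank_lt_finrank_of_lt hlt
      obtain ⟨hdW', hnuW'⟩ := ih (Module.finrank F ↥W') (by omega) W' hW' (hW'H.trans hfH) rfl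
      have hval : ∀ W ∈ (Finset.univ : Finset (Submodule F V)).filter
          (fun W => W ∈ T.invtSubmodule ∧ W ≤ B ∧ ¬ W ≤ H ∧ W ⊓ H = W'),
          nu T W = - (q : ℤ) ^ (Module.finrank F ↥W') * nu T W' := by
        intro W hW
        simp only [Finset.mem_filter, Finset.mem_univ, true_and] at hW
        obtain ⟨h1, h2, h3, h4⟩ := hW
        have hWfin := hfin W h1 h2 h3 h4
        obtain ⟨_, hnuW⟩ := ih (Module.finrank F ↥W) (by omega) W h1 (h2.trans hfB) rfl
        rw [hnuW, hWfin, Nat.add_div_right _ hd, sval_succ, hnuW']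
        congr 2
        rw [← pow_mul, Nat.mul_div_cancel' hdW']
      rw [Finset.sum_congr rfl hval, Finset.sum_const, hcard, nsmul_eq_mul]
      have hpow : ((q ^ (h - Module.finrank F ↥W') : ℕ) : ℤ) * (q : ℤ) ^ (Module.finrank F ↥W') = (q : ℤ) ^ h := by
        push_cast
        rw [← pow_add, Nat.sub_add_cancel hw'lt.le]
      rw [← hpow]
      ring
  rw [Finset.sum_congr rfl hinner, Finset.sum_add_distrib, ← Finset.mul_sum, hSH,
    Finset.sum_ite_eq' ] at hSB
  have hHmem : H ∈ (Finset.univ : Finset (Submodule F V)).filter (fun W => W ∈ T.invtSubmodule ∧ W ≤ H) := by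
    simp only [Finset.mem_filter, Finset.mem_univ, true_and]
    exact ⟨hH, le_rfl⟩
  rw [if_pos hHmem] at hSB
  rw [← hn, hBfin, Nat.add_div_right _ hd, sval_succ, ← hnuH]
  have hpow2 : ((q : ℤ) ^ d) ^ (h / d) = (q : ℤ) ^ h := by
    rw [← pow_mul, Nat.mul_div_cancel' hdH]
  rw [hpow2]
  by_cases hH0 : H = ⊥
  · rw [if_pos hH0] at hSB
    have hh0 : h = 0 := by rw [hh, hH0, finrank_bot]
    rw [hh0] at hSB ⊢
    linarith
  · rw [if_neg hH0] at hSB
    linarith

end Cfsg.Agent.Lib.Helper99_StGL_B3b
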