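import Mathlib
import Cfsg.Agent.Lib.Helper99_StGLDefs
import Cfsg.Agent.Lib.Helper99_StGL_CYC
import Cfsg.Agent.Lib.Helper86_StGL_B2
import Cfsg.Agent.Lib.Helper99_StGL_B3b

/-! StGL package B4 (S2425): the Moebius number of the lattice of invariant subspaces of a space killed by a
squarefree polynomial, as a product over the irreducible factors. helper99. -/

set_option autoImplicit false
open Polynomial

namespace Cfsg.Agent.Lib.Helper99_StGL_B4
open Cfsg.Agent.Lib.Helper99_StGLDefs Cfsg.Agent.Lib.Helper99_StGL_CYC

variable {F : Type*} [Field F] {V : Type*} [AddCommGroup V] [Module F V]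

theorem ker_aeval_inv (T : Module.End F V) (g : F[X]) : LinearMap.ker (aeval T g) ∈ T.invtSubmodule := by
  rw [Module.End.mem_invtSubmodule]
  intro x hx
  rw [Submodule.mem_comap, LinearMap.mem_ker] at *
  have : aeval T g (T x) = T (aeval T g x) := by
    rw [← Module.End.mul_apply, ← Module.End.mul_apply]
    congr 1
    calc aeval T g * T = aeval T g * aeval T (X : F[X]) := by rw [Polynomial.aeval_X]
      _ = aeval T (g * X) := by rw [map_mul]
      _ = aeval T (X * g) := by rw [mul_comm]
      _ = T * aeval T g := by rw [map_mul, Polynomial.aeval_X]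
  rw [this, hx, map_zero]

theorem ker_aeval_le_of_dvd (T : Module.End F V) {g P : F[X]} (h : g ∣ P) :
    LinearMap.ker (aeval T g) ≤ LinearMap.ker (aeval T P) := by
  obtain ⟨c, rfl⟩ := h
  intro x hx
  rw [LinearMap.mem_ker] at *
  rw [mul_comm, map_mul, Module.End.mul_apply, hx, map_zero]

theorem B4_aux [Fintype F] [Finite V] {q : ℕ} (hq : Fintype.card F = q) (T : Module.End F V)
    [DecidableEq F[X]] (S : Finset F[X])
    (hirr : ∀ f ∈ S, Irreducible f) (hcop : ∀ f ∈ S, ∀ g ∈ S, f ≠ g → IsCoprime f g)
    (B : Submodule F V) (hB : B ∈ T.invtSubmodule)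
    (hPB : B ≤ LinearMap.ker (aeval T (∏ f ∈ S, f))) :
    nu T B = ∏ f ∈ S,
      sval q f.natDegree (Module.finrank F ↥(B ⊓ LinearMap.ker (aeval T f)) / f.natDegree) := by
  induction S using Finset.induction_on generalizing B with
  | empty =>
    have : B = ⊥ := by
      rw [eq_bot_iff]
      intro x hx
      have := hPB hx
      simpa using this
    rw [this, nu_bot, Finset.prod_empty]
  | insert f S hfS ih =>
    have hirrS : ∀ g ∈ S, Irreducible g := fun g hg => hirr g (Finset.mem_insert_of_mem hg)
    have hcopS : ∀ g ∈ S, ∀ g' ∈ S, g ≠ g' → IsCoprime g g' := fun g hg g' hg' hne =>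
      hcop g (Finset.mem_insert_of_mem hg) g' (Finset.mem_insert_of_mem hg') hne
    have hf : Irreducible f := hirr f (Finset.mem_insert_self f S)
    have hfP' : IsCoprime f (∏ g ∈ S, g) := by
      apply IsCoprime.prod_right
      intro g hg
      exact hcop f (Finset.mem_insert_self f S) g (Finset.mem_insert_of_mem hg)
        (fun h => hfS (h ▸ hg))
    rw [Finset.prod_insert hfS] at hPB
    set P' := ∏ g ∈ S, g with hP'
    have hB1 : B ⊓ LinearMap.ker (aeval T f) ∈ T.invtSubmodule :=
      Module.End.invtSubmodule.inf_mem hB (ker_aeval_inv T f)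
    have hB2 : B ⊓ LinearMap.ker (aeval T P') ∈ T.invtSubmodule :=
      Module.End.invtSubmodule.inf_mem hB (ker_aeval_inv T P')
    have hsup : (B ⊓ LinearMap.ker (aeval T f)) ⊔ (B ⊓ LinearMap.ker (aeval T P')) = B := by
      apply le_antisymm (sup_le inf_le_left inf_le_left)
      intro b hb
      obtain ⟨a, c, hac⟩ := hfP'
      have hPb : aeval T (f * P') b = 0 := LinearMap.mem_ker.mp (hPB hb)
      have h1 : aeval T (c * P') b ∈ B ⊓ LinearMap.ker (aeval T f) := by
        refine ⟨aeval_mem T B hB _ hb, ?_⟩
        show aeval T f (aeval T (c * P') b) = 0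
        rw [← Module.End.mul_apply, ← map_mul]
        have : f * (c * P') = c * (f * P') := by ring
        rw [this, map_mul, Module.End.mul_apply, hPb, map_zero]
      have h2 : aeval T (a * f) b ∈ B ⊓ LinearMap.ker (aeval T P') := by
        refine ⟨aeval_mem T B hB _ hb, ?_⟩
        show aeval T P' (aeval T (a * f) b) = 0
        rw [← Module.End.mul_apply, ← map_mul]
        have : P' * (a * f) = a * (f * P') := by ring
        rw [this, map_mul, Module.End.mul_apply, hPb, map_zero]
      have h3 : b = aeval T (c * P') b + aeval T (a * f) b := by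
        rw [← LinearMap.add_apply, ← map_add, add_comm, hac]
        simp
      rw [h3]
      exact Submodule.add_mem_sup h1 h2
    have hnu := Cfsg.Agent.Lib.Helper86_StGL_B2.B2 T _ _ hB1 hB2 f P' hfP' inf_le_right inf_le_right
    rw [hsup] at hnu
    rw [hnu, Finset.prod_insert hfS]
    congr 1
    · exact (Cfsg.Agent.Lib.Helper99_StGL_B3b.B3b hq T f hf _ hB1 inf_le_right).2
    · rw [ih hirrS hcopS _ hB2 inf_le_right]
      apply Finset.prod_congr rfl
      intro g hg
      have : B ⊓ LinearMap.ker (aeval T P') ⊓ LinearMap.ker (aeval T g) = B ⊓ LinearMap.ker (aeval T g) := by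
        rw [inf_assoc]
        congr 1
        exact inf_eq_right.mpr (ker_aeval_le_of_dvd T (Finset.dvd_prod_of_mem _ hg))
      rw [this]

theorem B4 [Fintype F] [DecidableEq F] [Finite V] {q : ℕ} (hq : Fintype.card F = q) (T : Module.End F V) (P : F[X])
    (hP : Squarefree P) (B : Submodule F V) (hB : B ∈ T.invtSubmodule)
    (hPB : B ≤ LinearMap.ker (aeval T P)) :
    nu T B = ∏ f ∈ (UniqueFactorizationMonoid.normalizedFactors P).toFinset,
      sval q f.natDegree (Module.finrank F ↥(B ⊓ LinearMap.ker (aeval T f)) / f.natDegree) := by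
  have hP0 : P ≠ 0 := hP.ne_zero
  apply B4_aux hq T _ _ _ B hB
  · -- B killed by the product
    have hnodup : (UniqueFactorizationMonoid.normalizedFactors P).Nodup :=
      (UniqueFactorizationMonoid.squarefree_iff_nodup_normalizedFactors hP0).1 hP
    have hprod : ∏ f ∈ (UniqueFactorizationMonoid.normalizedFactors P).toFinset, f =
        (UniqueFactorizationMonoid.normalizedFactors P).prod := by
      rw [Finset.prod_eq_multiset_prod, Multiset.toFinset_val, Multiset.dedup_eq_self.mpr hnodup,
        Multiset.map_id']
    rw [hprod]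
    exact hPB.trans (ker_aeval_le_of_dvd T (UniqueFactorizationMonoid.prod_normalizedFactors hP0).symm.dvd)
  · intro f hf
    exact UniqueFactorizationMonoid.irreducible_of_normalized_factor f (Multiset.mem_toFinset.mp hf)
  · intro f hf g hg hne
    have hf' := Multiset.mem_toFinset.mp hf
    have hg' := Multiset.mem_toFinset.mp hg
    have hfi := UniqueFactorizationMonoid.irreducible_of_normalized_factor f hf'
    have hgi := UniqueFactorizationMonoid.irreducible_of_normalized_factor g hg'
    apply (Irreducible.coprime_iff_not_dvd hfi).2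
    intro hdvd
    apply hne
    have hass : Associated f g := hfi.associated_of_dvd hgi hdvd
    have h1 := UniqueFactorizationMonoid.normalize_normalized_factor f hf'
    have h2 := UniqueFactorizationMonoid.normalize_normalized_factor g hg'
    rw [← h1, ← h2]
    exact normalize_eq_normalize_iff.mpr ⟨hass.dvd, hass.symm.dvd⟩

end Cfsg.Agent.Lib.Helper99_StGL_B4
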