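import Mathlib
import Cfsg.Prelude.Def_LinearParabolics
import Cfsg.Agent.Lib.Helper99_StGLDefs
import Cfsg.Agent.Lib.Helper63_StGL_A1
import Cfsg.Agent.Lib.Helper89_StGL_A2c
import Cfsg.Agent.Lib.Helper73_StGL_A3
import Cfsg.Agent.Lib.Helper99_StGL_B4
import Cfsg.Agent.Lib.Helper10_StGL_B5b

set_option autoImplicit false
set_option linter.unusedSectionVars false
open scoped MatrixGroups
open Polynomial
open Cfsg.Agent.Lib.Helper99_StGLDefs

/-! Assembly for S2425 (Steinberg character of `GL_n(q)` at elements of order prime to the characteristic) from the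
StGL packages. helper99. -/

namespace Cfsg.Agent.Lib.Helper99_StGL_Asm

variable {F : Type*} [Field F] [Fintype F]

theorem linOf_pow {n : ℕ} (g : GL (Fin n) F) (k : ℕ) : (linOf g) ^ k = linOf (g ^ k) := by
  unfold linOf
  rw [Units.val_pow_eq_pow_val]
  exact (map_pow (Matrix.toLinAlgEquiv' (R := F) (n := Fin n)) (g : Matrix (Fin n) (Fin n) F) k).symm

theorem aeval_linOf {n : ℕ} (g : GL (Fin n) F) (k : ℕ) (hk : g ^ k = 1) :
    aeval (linOf g) (X ^ k - C (1 : F) : F[X]) = 0 := by
  rw [map_sub, map_pow, aeval_X, aeval_C, linOf_pow, hk]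
  simp only [linOf, Units.val_one, Matrix.toLin'_one, map_one]
  exact sub_self _

theorem charpoly_linOf {n : ℕ} (g : GL (Fin n) F) :
    (linOf g).charpoly = (g : Matrix (Fin n) (Fin n) F).charpoly := by
  unfold linOf
  rw [← LinearMap.charpoly_toMatrix (Matrix.toLin' (g : Matrix (Fin n) (Fin n) F)) (Pi.basisFun F (Fin n))]
  congr 1
  exact LinearMap.toMatrix'_toLin' _

/-- Step 1: the alternating sum is `(-1)^(n-1)` times the signed chain count. -/
theorem st_eq_chi (n : ℕ) (g : GL (Fin n) F) :
    Cfsg.unipotentCharacterGL n F (fun _ => 1) g = (((-1 : ℤ) ^ (n - 1) * chi (linOf g) ⊤ : ℤ) : ℂ) := by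
  rw [Cfsg.Agent.Lib.Helper63_StGL_A1.A1, ← Cfsg.Agent.Lib.Helper73_StGL_A3.A3]
  push_cast
  rw [Finset.mul_sum]
  refine Finset.sum_congr rfl (fun J hJ => ?_)
  rw [Cfsg.Agent.Lib.Helper89_StGL_A2c.A2c n J (Finset.mem_powerset.1 hJ) g]
  have hcard : J.card ≤ n - 1 := by
    have := Finset.card_le_card (Finset.mem_powerset.1 hJ)
    simpa using this
  have hpow : ((-1 : ℂ)) ^ (n - 1 - J.card) = (-1) ^ (n - 1) * (-1) ^ J.card := by
    have h2 : ((-1 : ℂ)) ^ (n - 1) = (-1) ^ (n - 1 - J.card) * (-1) ^ J.card := by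
      rw [← pow_add, Nat.sub_add_cancel hcard]
    rw [h2, mul_assoc, ← pow_add, ← two_mul, pow_mul]
    simp
  rw [hpow]
  ring

/-- the Moebius number of the whole space in terms of the characteristic polynomial -/
theorem nu_top [DecidableEq F] {q : ℕ} (hq : Fintype.card F = q) {n : ℕ} (x : GL (Fin n) F)
    (P : F[X]) (hP : Squarefree P) (hPT : aeval (linOf x) P = 0) :
    nu (linOf x) ⊤ =
      ∏ f ∈ (UniqueFactorizationMonoid.normalizedFactors (x : Matrix (Fin n) (Fin n) F).charpoly).toFinset,
        sval q f.natDegree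
          ((UniqueFactorizationMonoid.normalizedFactors (x : Matrix (Fin n) (Fin n) F).charpoly).count f) := by
  classical
  set T := linOf x with hT
  have hP0 : P ≠ 0 := hP.ne_zero
  have hB4 := Cfsg.Agent.Lib.Helper99_StGL_B4.B4 hq T P hP ⊤ (by exact fun v _ => trivial) (by rw [hPT]; simp)
  rw [hB4, ← charpoly_linOf x]
  -- every factor g of P is monic irreducible
  have hfac : ∀ f ∈ (UniqueFactorizationMonoid.normalizedFactors P).toFinset, Irreducible f ∧ f.Monic := by
    intro f hf
    rw [Multiset.mem_toFinset] at hf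
    refine ⟨UniqueFactorizationMonoid.irreducible_of_normalized_factor f hf, ?_⟩
    have := UniqueFactorizationMonoid.normalize_normalized_factor f hf
    rw [← this]
    exact Polynomial.monic_normalize (UniqueFactorizationMonoid.irreducible_of_normalized_factor f hf).ne_zero
  have hfacC : ∀ f ∈ (UniqueFactorizationMonoid.normalizedFactors T.charpoly).toFinset,
      Irreducible f ∧ f.Monic := by
    intro f hf
    rw [Multiset.mem_toFinset] at hf
    refine ⟨UniqueFactorizationMonoid.irreducible_of_normalized_factor f hf, ?_⟩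
    have := UniqueFactorizationMonoid.normalize_normalized_factor f hf
    rw [← this]
    exact Polynomial.monic_normalize (UniqueFactorizationMonoid.irreducible_of_normalized_factor f hf).ne_zero
  -- rewrite each term with B5b
  have hterm : ∀ f ∈ (UniqueFactorizationMonoid.normalizedFactors P).toFinset,
      sval q f.natDegree (Module.finrank F ↥(⊤ ⊓ LinearMap.ker (aeval T f)) / f.natDegree) =
        sval q f.natDegree ((UniqueFactorizationMonoid.normalizedFactors T.charpoly).count f) := by
    intro f hf
    rw [Cfsg.Agent.Lib.Helper10_StGL_B5b.B5b T P hP hPT f (hfac f hf).1 (hfac f hf).2, top_inf_eq]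
  rw [Finset.prod_congr rfl hterm]
  -- factors of the charpoly are factors of P
  have hsub : (UniqueFactorizationMonoid.normalizedFactors T.charpoly).toFinset ⊆
      (UniqueFactorizationMonoid.normalizedFactors P).toFinset := by
    intro f hf
    have hfi := hfacC f hf
    rw [Multiset.mem_toFinset] at hf ⊢
    have hcount : 0 < (UniqueFactorizationMonoid.normalizedFactors T.charpoly).count f :=
      Multiset.count_pos.2 hf
    rw [Cfsg.Agent.Lib.Helper10_StGL_B5b.B5b T P hP hPT f hfi.1 hfi.2] at hcount
    have hker : LinearMap.ker (aeval T f) ≠ ⊥ := by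
      intro h
      rw [h] at hcount
      simp at hcount
    obtain ⟨v, hv, hv0⟩ := (Submodule.ne_bot_iff _).1 hker
    -- f ∣ P, else coprime
    have hdvd : f ∣ P := by
      by_contra hnd
      have hcop : IsCoprime f P := (EuclideanDomain.dvd_or_coprime f P hfi.1).resolve_left hnd
      obtain ⟨a, b, hab⟩ := hcop
      have h1 : aeval T (a * f + b * P) v = v := by rw [hab]; simp
      rw [map_add, map_mul, map_mul, hPT, mul_zero, add_zero, Module.End.mul_apply,
        LinearMap.mem_ker.1 hv, map_zero] at h1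
      exact hv0 h1.symm
    rw [UniqueFactorizationMonoid.mem_normalizedFactors_iff' hP0]
    exact ⟨hfi.1, hfi.2.normalize_eq_self, hdvd⟩
  refine (Finset.prod_subset hsub ?_).symm
  intro f _ hf
  rw [Multiset.mem_toFinset] at hf
  rw [Multiset.count_eq_zero_of_notMem hf, sval_zero]

/-- `sval` against the shape of the statement -/
theorem sval_eq (q d m : ℕ) (hd : 1 ≤ d) :
    ((-1 : ℤ) ^ (d * m)) * sval q d m = (-1) ^ ((d - 1) * m) * (q : ℤ) ^ (d * m * (m - 1) / 2) := by
  unfold sval
  have h1 : d * m = (d - 1) * m + m := by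
    obtain ⟨e, rfl⟩ : ∃ e, d = e + 1 := ⟨d - 1, by omega⟩
    simp [Nat.add_mul]
  have h2 : d * m * (m - 1) / 2 = d * (m * (m - 1) / 2) := by
    have hev : 2 ∣ m * (m - 1) := by
      rcases Nat.even_or_odd m with h | h
      · exact (h.mul_right _).two_dvd
      · have : Even (m - 1) := by
          rcases h with ⟨k, rfl⟩
          simp
        exact (this.mul_left _).two_dvd
    rw [mul_assoc, Nat.mul_div_assoc _ hev]
  have h3 : ((-1 : ℤ) ^ (d * m)) * (-1) ^ m = (-1) ^ ((d - 1) * m) := by
    rw [h1, pow_add, mul_assoc, ← pow_add, ← two_mul, pow_mul (-1 : ℤ) 2 m]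
    simp
  rw [h2, ← mul_assoc, h3, ← pow_mul]

theorem chi_bot_case {V : Type*} [AddCommGroup V] [Module F V] [Finite V] (T : Module.End F V)
    (h : (⊤ : Submodule F V) = ⊥) : chi T ⊤ = 1 := by
  classical
  haveI : Fintype (Submodule F V) := Fintype.ofFinite _
  rw [chi_eq]
  have : (Finset.univ : Finset (Finset (Submodule F V))).filter (fun C => IsMidChain T ⊤ C) = {∅} := by
    ext C
    simp only [Finset.mem_filter, Finset.mem_univ, true_and, Finset.mem_singleton]
    constructor
    · intro hC
      by_contra hne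
      obtain ⟨W, hW⟩ := Finset.nonempty_iff_ne_empty.2 hne
      have := (hC.1 W hW).2
      rw [h] at this
      exact absurd (lt_of_lt_of_le this.1 (le_of_lt this.2)) (lt_irrefl _) |> fun x => x
    · rintro rfl
      exact ⟨by simp, by simp⟩
  rw [this]
  simp


theorem st_eq_nu (n : ℕ) (g : GL (Fin n) F) :
    Cfsg.unipotentCharacterGL n F (fun _ => 1) g = (((-1 : ℤ) ^ n * nu (linOf g) ⊤ : ℤ) : ℂ) := by
  rw [st_eq_chi]
  congr 1
  by_cases h : (⊤ : Submodule F (Fin n → F)) = ⊥
  · have hn : n = 0 := by
      have h1 : Module.finrank F (⊤ : Submodule F (Fin n → F)) = 0 := by rw [h]; simp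
      rw [finrank_top] at h1
      simpa using h1
    subst hn
    rw [chi_bot_case _ h, h, nu_bot]
  · rw [nu_of_ne_bot _ h]
    have hn : 1 ≤ n := by
      rcases Nat.eq_zero_or_pos n with rfl | hpos
      · exact absurd (Subsingleton.elim _ _) h
      · exact hpos
    obtain ⟨m, rfl⟩ : ∃ m, n = m + 1 := ⟨n - 1, by omega⟩
    simp [pow_succ]

theorem natDegree_eq_sum [DecidableEq F] (c : F[X]) (hc : c.Monic) :
    c.natDegree = ∑ f ∈ (UniqueFactorizationMonoid.normalizedFactors c).toFinset,
      f.natDegree * (UniqueFactorizationMonoid.normalizedFactors c).count f := by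
  classical
  have hc0 : c ≠ 0 := hc.ne_zero
  have h1 : (UniqueFactorizationMonoid.normalizedFactors c).prod = c := by
    have := UniqueFactorizationMonoid.prod_normalizedFactors_eq hc0
    rw [this, hc.normalize_eq_self]
  have h2 : ((UniqueFactorizationMonoid.normalizedFactors c).prod).natDegree =
      ((UniqueFactorizationMonoid.normalizedFactors c).map natDegree).sum := by
    apply Polynomial.natDegree_multiset_prod
    intro h0
    exact (UniqueFactorizationMonoid.irreducible_of_normalized_factor 0 h0).ne_zero rfl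
  rw [h1] at h2
  rw [h2, Finset.sum_multiset_map_count]
  refine Finset.sum_congr rfl (fun f _ => ?_)
  simp [mul_comm]

theorem main {F : Type*} [Field F] [Fintype F] [DecidableEq F] {q : ℕ} (hq : Fintype.card F = q) (p : ℕ) [Fact p.Prime] [CharP F p]
    {n : ℕ} (x : GL (Fin n) F) (hx : (orderOf x).Coprime p) :
    Cfsg.unipotentCharacterGL n F (fun _ => 1) x =
      ∏ f ∈ (UniqueFactorizationMonoid.normalizedFactors (x : Matrix (Fin n) (Fin n) F).charpoly).toFinset,
        (-1 : ℂ) ^ ((f.natDegree - 1) * (UniqueFactorizationMonoid.normalizedFactors (x : Matrix (Fin n) (Fin n) F).charpoly).count f) *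
          (q : ℂ) ^ (f.natDegree * (UniqueFactorizationMonoid.normalizedFactors (x : Matrix (Fin n) (Fin n) F).charpoly).count f *
            ((UniqueFactorizationMonoid.normalizedFactors (x : Matrix (Fin n) (Fin n) F).charpoly).count f - 1) / 2) := by
  classical
  set k := orderOf x with hk
  have hkpos : 0 < k := orderOf_pos x
  have hkF : (k : F) ≠ 0 := by
    intro h
    have hdvd : p ∣ k := (CharP.cast_eq_zero_iff F p k).1 h
    have := Nat.Coprime.eq_one_of_dvd hx.symm hdvd
    exact (Fact.out : p.Prime).one_lt.ne' this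
  have hP : Squarefree (X ^ k - C (1 : F) : F[X]) :=
    (Polynomial.separable_X_pow_sub_C (1 : F) hkF one_ne_zero).squarefree
  have hPT : aeval (linOf x) (X ^ k - C (1 : F) : F[X]) = 0 := aeval_linOf x k (pow_orderOf_eq_one x)
  rw [st_eq_nu, nu_top hq x _ hP hPT]
  set c := (x : Matrix (Fin n) (Fin n) F).charpoly with hc
  have hcm : c.Monic := Matrix.charpoly_monic _
  have hn : n = c.natDegree := by
    rw [hc, Matrix.charpoly_natDegree_eq_dim]
    simp
  rw [hn, natDegree_eq_sum c hcm, ← Finset.prod_pow_eq_pow_sum, ← Finset.prod_mul_distrib]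
  push_cast
  refine Finset.prod_congr rfl (fun f hf => ?_)
  have hfirr : Irreducible f :=
    UniqueFactorizationMonoid.irreducible_of_normalized_factor f (Multiset.mem_toFinset.1 hf)
  have hd : 1 ≤ f.natDegree := Polynomial.natDegree_pos_iff_degree_pos.2 (Polynomial.degree_pos_of_irreducible hfirr)
  have := sval_eq q f.natDegree ((UniqueFactorizationMonoid.normalizedFactors c).count f) hd
  have h2 := congrArg (fun z : ℤ => (z : ℂ)) this
  push_cast at h2
  exact h2

end Cfsg.Agent.Lib.Helper99_StGL_Asm
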