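import Mathlib
import Cfsg.Agent.Lib.Helper99_SympPlanes

set_option autoImplicit false

namespace Cfsg.Agent.Lib.Helper99_SympPlanesR

open Cfsg.Agent.Lib.Helper99_SympPlanes

variable {F V : Type*} [Field F] [AddCommGroup V] [Module F V]

/-- `W` is an orthogonal sum of hyperbolic planes spanned by pairs related by `R` -/
def HasPlanesR (B : LinearMap.BilinForm F V) (R : V → V → Prop) (W : Submodule F V) : Prop :=
  ∃ (ι : Type) (_ : Fintype ι) (u v : ι → V),
    (∀ i, B (u i) (v i) ≠ 0) ∧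
    (∀ i j, i ≠ j → B (u i) (u j) = 0 ∧ B (u i) (v j) = 0 ∧ B (v i) (u j) = 0 ∧
      B (v i) (v j) = 0) ∧
    Submodule.span F (Set.range u ∪ Set.range v) = W ∧ ∀ i, R (u i) (v i)

lemma hasPlanesR_bot (B : LinearMap.BilinForm F V) (R : V → V → Prop) : HasPlanesR B R ⊥ := by
  refine ⟨Empty, inferInstance, fun e => e.elim, fun e => e.elim,
    fun e => e.elim, fun e => e.elim, ?_, fun e => e.elim⟩
  simp

lemma stepR (B : LinearMap.BilinForm F V) (halt : ∀ v, B v v = 0) (R : V → V → Prop)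
    (W : Submodule F V) {u₀ v₀ : V} (hu₀ : u₀ ∈ W) (hv₀ : v₀ ∈ W) (hβ : B u₀ v₀ ≠ 0)
    (hR : R u₀ v₀) (h : HasPlanesR B R (perpIn B W u₀ v₀)) : HasPlanesR B R W := by
  obtain ⟨ι', hι', u', v', hne', horth', hspan', hR'⟩ := h
  have hu'mem : ∀ i, u' i ∈ perpIn B W u₀ v₀ := by
    intro i
    rw [← hspan']
    exact Submodule.subset_span (Or.inl ⟨i, rfl⟩)
  have hv'mem : ∀ i, v' i ∈ perpIn B W u₀ v₀ := by
    intro i
    rw [← hspan']
    exact Submodule.subset_span (Or.inr ⟨i, rfl⟩)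
  refine ⟨ι' ⊕ Unit, inferInstance, Sum.elim u' (fun _ => u₀), Sum.elim v' (fun _ => v₀),
    ?_, ?_, ?_, ?_⟩
  · rintro (i | i)
    · exact hne' i
    · exact hβ
  · rintro (i | i) (j | j) hij
    · exact horth' i j (fun h => hij (by rw [h]))
    · have h1 := (mem_perpIn B W u₀ v₀ _).mp (hu'mem i)
      have h2 := (mem_perpIn B W u₀ v₀ _).mp (hv'mem i)
      exact ⟨h1.2.1, h1.2.2, h2.2.1, h2.2.2⟩
    · have h1 := (mem_perpIn B W u₀ v₀ _).mp (hu'mem j)
      have h2 := (mem_perpIn B W u₀ v₀ _).mp (hv'mem j)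
      refine ⟨?_, ?_, ?_, ?_⟩
      · change B u₀ (u' j) = 0
        rw [skew B halt, h1.2.1, neg_zero]
      · change B u₀ (v' j) = 0
        rw [skew B halt, h2.2.1, neg_zero]
      · change B v₀ (u' j) = 0
        rw [skew B halt, h1.2.2, neg_zero]
      · change B v₀ (v' j) = 0
        rw [skew B halt, h2.2.2, neg_zero]
    · exact absurd rfl hij
  · apply le_antisymm
    · rw [Submodule.span_le]
      rintro x (⟨i | i, rfl⟩ | ⟨i | i, rfl⟩)
      · exact perpIn_le B W u₀ v₀ (hu'mem i)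
      · exact hu₀
      · exact perpIn_le B W u₀ v₀ (hv'mem i)
      · exact hv₀
    · rw [← span_pair_sup_perpIn B halt W hu₀ hv₀ hβ, ← hspan']
      apply sup_le
      · apply Submodule.span_mono
        intro x hx
        rcases hx with rfl | rfl
        · exact Or.inl ⟨Sum.inr (), rfl⟩
        · exact Or.inr ⟨Sum.inr (), rfl⟩
      · apply Submodule.span_mono
        rintro x (⟨i, rfl⟩ | ⟨i, rfl⟩)
        · exact Or.inl ⟨Sum.inl i, rfl⟩
        · exact Or.inr ⟨Sum.inl i, rfl⟩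
  · rintro (i | i)
    · exact hR' i
    · exact hR

section main
variable [FiniteDimensional F V] (B : LinearMap.BilinForm F V) (halt : ∀ v, B v v = 0)
  (X : Module.End F V) (z : F) (hz : z ≠ 0) (hX : ∀ v, X (X v) = z • v)
  (hB : ∀ u v, B (X u) (X v) = B u v)
include halt hz hX hB

theorem hasPlanesR (R : V → V → Prop)
    (hstep : ∀ W : Submodule F V, (∀ w ∈ W, X w ∈ W) → NonDeg B W → W ≠ ⊥ →
      ∃ u₀ ∈ W, ∃ v₀ ∈ W, B u₀ v₀ ≠ 0 ∧ X u₀ ∈ Submodule.span F {u₀, v₀} ∧
        X v₀ ∈ Submodule.span F {u₀, v₀} ∧ R u₀ v₀) :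
    ∀ (k : ℕ) (W : Submodule F V), Module.finrank F W = k → (∀ w ∈ W, X w ∈ W) → NonDeg B W →
      HasPlanesR B R W := by
  intro k
  induction k using Nat.strong_induction_on with
  | _ k ih =>
  intro W hk hW hnd
  by_cases hW0 : W = ⊥
  · rw [hW0]; exact hasPlanesR_bot B R
  obtain ⟨u₀, hu₀, v₀, hv₀, hβ, hXu, hXv, hR⟩ := hstep W hW hnd hW0
  have hW'inv : ∀ w ∈ perpIn B W u₀ v₀, X w ∈ perpIn B W u₀ v₀ := by
    intro w hw
    rw [mem_perpIn] at hw ⊢
    refine ⟨hW w hw.1, ?_, ?_⟩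
    · rw [B_X_left B X z hz hX hB, B_eq_zero_of_mem_span_pair B hw.2.1 hw.2.2 hXu, mul_zero]
    · rw [B_X_left B X z hz hX hB, B_eq_zero_of_mem_span_pair B hw.2.1 hw.2.2 hXv, mul_zero]
  apply stepR B halt R W hu₀ hv₀ hβ hR
  exact ih _ (by rw [← hk]; exact Submodule.finrank_lt_finrank_of_lt (perpIn_lt B W hu₀ hβ)) _ rfl
    hW'inv (perpIn_nonDeg B halt W hu₀ hv₀ hβ hnd)

end main

/-- the `u`-vectors and the `v`-vectors of a family of orthogonal hyperbolic pairs spanning `V` span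
complementary totally isotropic subspaces -/
lemma isCompl_of_planes (B : LinearMap.BilinForm F V) (halt : ∀ v, B v v = 0) (hnd : NonDeg B ⊤)
    {ι : Type} (u v : ι → V)
    (horth : ∀ i j, i ≠ j → B (u i) (u j) = 0 ∧ B (u i) (v j) = 0 ∧ B (v i) (u j) = 0 ∧
      B (v i) (v j) = 0)
    (hspan : Submodule.span F (Set.range u ∪ Set.range v) = ⊤) :
    IsCompl (Submodule.span F (Set.range u)) (Submodule.span F (Set.range v)) ∧
    (∀ x ∈ Submodule.span F (Set.range u), ∀ y ∈ Submodule.span F (Set.range u), B x y = 0) ∧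
    (∀ x ∈ Submodule.span F (Set.range v), ∀ y ∈ Submodule.span F (Set.range v), B x y = 0) := by
  have hU : ∀ x ∈ Submodule.span F (Set.range u), ∀ y ∈ Submodule.span F (Set.range u),
      B x y = 0 := by
    intro x hx y hy
    apply B_eq_zero_of_mem_span_left B _ hx
    rintro _ ⟨i, rfl⟩
    apply B_eq_zero_of_mem_span B _ hy
    rintro _ ⟨j, rfl⟩
    by_cases hij : i = j
    · rw [hij]; exact halt _
    · exact (horth i j hij).1
  have hW : ∀ x ∈ Submodule.span F (Set.range v), ∀ y ∈ Submodule.span F (Set.range v),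
      B x y = 0 := by
    intro x hx y hy
    apply B_eq_zero_of_mem_span_left B _ hx
    rintro _ ⟨i, rfl⟩
    apply B_eq_zero_of_mem_span B _ hy
    rintro _ ⟨j, rfl⟩
    by_cases hij : i = j
    · rw [hij]; exact halt _
    · exact (horth i j hij).2.2.2
  refine ⟨⟨?_, ?_⟩, hU, hW⟩
  · rw [Submodule.disjoint_def]
    intro x hxU hxW
    by_contra hx0
    obtain ⟨y, -, hy⟩ := hnd x trivial hx0
    apply hy
    have hy' : y ∈ Submodule.span F (Set.range u ∪ Set.range v) := by rw [hspan]; trivial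
    apply B_eq_zero_of_mem_span B _ hy'
    rintro s (⟨i, rfl⟩ | ⟨i, rfl⟩)
    · exact hU x hxU _ (Submodule.subset_span ⟨i, rfl⟩)
    · exact hW x hxW _ (Submodule.subset_span ⟨i, rfl⟩)
  · rw [codisjoint_iff, ← Submodule.span_union, hspan]

/-- the image under `X` of a span, when `X` maps two sets into each other's spans -/
lemma map_span_eq (X : Module.End F V) (z : F) (hz : z ≠ 0) (hX : ∀ v, X (X v) = z • v)
    (S S' : Set V) (h1 : ∀ s ∈ S, X s ∈ Submodule.span F S')
    (h2 : ∀ s ∈ S', X s ∈ Submodule.span F S) :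
    (Submodule.span F S).map X = Submodule.span F S' := by
  apply le_antisymm
  · rw [Submodule.map_span, Submodule.span_le]
    rintro _ ⟨s, hs, rfl⟩
    exact h1 s hs
  · rw [Submodule.span_le]
    intro s hs
    have h3 : s = X (z⁻¹ • X s) := by
      rw [map_smul, hX, smul_smul, inv_mul_cancel₀ hz, one_smul]
    rw [h3]
    exact Submodule.mem_map_of_mem (Submodule.smul_mem _ _ (h2 s hs))

/-- An isometry of a nondegenerate alternating space in odd characteristic whose square is a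
scalar fixes or interchanges the members of a pair of complementary totally isotropic subspaces. -/
theorem exists_lagrangian_pair [FiniteDimensional F V] (B : LinearMap.BilinForm F V)
    (halt : ∀ v, B v v = 0) (hnd : NonDeg B ⊤) (h2 : (2 : F) ≠ 0)
    (X : Module.End F V) (z : F) (hz : z ≠ 0) (hX : ∀ v, X (X v) = z • v)
    (hB : ∀ u v, B (X u) (X v) = B u v) (hV : ∃ v : V, v ≠ 0) :
    ∃ U W : Submodule F V, IsCompl U W ∧ (∀ u ∈ U, ∀ v ∈ U, B u v = 0) ∧
      (∀ u ∈ W, ∀ v ∈ W, B u v = 0) ∧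
      ((U.map X = U ∧ W.map X = W) ∨ (U.map X = W ∧ W.map X = U)) := by
  obtain ⟨v₁, hv₁⟩ := hV
  obtain ⟨w₁, -, hw₁⟩ := hnd v₁ trivial hv₁
  have hzz : z * z = 1 := by
    have h := hB (X v₁) (X w₁)
    rw [hX, hX, hB] at h
    simp only [map_smul, LinearMap.smul_apply, smul_eq_mul] at h
    exact mul_right_cancel₀ hw₁ (by rw [one_mul]; linear_combination h)
  have hz1 : z = 1 ∨ z = -1 := by
    have h : (z - 1) * (z + 1) = 0 := by linear_combination hzz
    rcases mul_eq_zero.mp h with h | h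
    · left; exact sub_eq_zero.mp h
    · right; exact eq_neg_of_add_eq_zero_left h
  rcases hz1 with rfl | rfl
  · -- `z = 1`: eigenvectors
    have hstep : ∀ W : Submodule F V, (∀ w ∈ W, X w ∈ W) → NonDeg B W → W ≠ ⊥ →
        ∃ u₀ ∈ W, ∃ v₀ ∈ W, B u₀ v₀ ≠ 0 ∧ X u₀ ∈ Submodule.span F {u₀, v₀} ∧
          X v₀ ∈ Submodule.span F {u₀, v₀} ∧
          ((∃ ε : F, X u₀ = ε • u₀) ∧ ∃ ε : F, X v₀ = ε • v₀) := by
      intro W hW hndW hW0
      obtain ⟨w, hw, hw0⟩ := (Submodule.ne_bot_iff W).mp hW0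
      have key : ∃ u₀ ∈ W, u₀ ≠ 0 ∧ ∃ ε : F, ε * ε = 1 ∧ X u₀ = ε • u₀ := by
        by_cases h : w + X w = 0
        · refine ⟨w - X w, W.sub_mem hw (hW w hw), ?_, -1, by ring, ?_⟩
          · have h3 : X w = -w := eq_neg_of_add_eq_zero_right h
            rw [h3, sub_neg_eq_add, ← two_smul F w]
            exact smul_ne_zero h2 hw0
          · rw [map_sub, hX, one_smul, neg_smul, one_smul, neg_sub]
        · refine ⟨w + X w, W.add_mem hw (hW w hw), h, 1, by ring, ?_⟩
          rw [map_add, hX, one_smul, one_smul, add_comm]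
      obtain ⟨u₀, hu₀, hu₀0, ε, hε, hXu₀⟩ := key
      obtain ⟨y, hy, hu₀y⟩ := hndW u₀ hu₀ hu₀0
      have hXv₀ : X (y + ε • X y) = ε • (y + ε • X y) := by
        rw [map_add, map_smul, hX, one_smul, smul_add, smul_smul, hε, one_smul, add_comm]
      refine ⟨u₀, hu₀, y + ε • X y, W.add_mem hy (W.smul_mem _ (hW y hy)), ?_, ?_, ?_,
        ⟨ε, hXu₀⟩, ⟨ε, hXv₀⟩⟩
      · have h3 : B u₀ (X y) = ε * B u₀ y := by
          have h4 := hB u₀ (X y)
          rw [hX, one_smul, hXu₀, map_smul, LinearMap.smul_apply, smul_eq_mul] at h4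
          exact h4.symm
        rw [map_add, map_smul, smul_eq_mul, h3, ← mul_assoc, hε, one_mul, ← two_mul]
        exact mul_ne_zero h2 hu₀y
      · rw [hXu₀]
        exact Submodule.smul_mem _ _ (Submodule.subset_span (by simp))
      · rw [hXv₀]
        exact Submodule.smul_mem _ _ (Submodule.subset_span (by simp))
    obtain ⟨ι, hι, u, v, hne, horth, hspan, hR⟩ :=
      hasPlanesR B halt X 1 one_ne_zero hX hB _ hstep _ ⊤ rfl (fun _ _ => trivial) hnd
    obtain ⟨hc, hU, hW⟩ := isCompl_of_planes B halt hnd u v horth hspan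
    refine ⟨_, _, hc, hU, hW, Or.inl ⟨?_, ?_⟩⟩
    · apply map_span_eq X 1 one_ne_zero hX
      · rintro _ ⟨i, rfl⟩
        obtain ⟨ε, hε⟩ := (hR i).1
        rw [hε]
        exact Submodule.smul_mem _ _ (Submodule.subset_span ⟨i, rfl⟩)
      · rintro _ ⟨i, rfl⟩
        obtain ⟨ε, hε⟩ := (hR i).1
        rw [hε]
        exact Submodule.smul_mem _ _ (Submodule.subset_span ⟨i, rfl⟩)
    · apply map_span_eq X 1 one_ne_zero hX
      · rintro _ ⟨i, rfl⟩
        obtain ⟨ε, hε⟩ := (hR i).2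
        rw [hε]
        exact Submodule.smul_mem _ _ (Submodule.subset_span ⟨i, rfl⟩)
      · rintro _ ⟨i, rfl⟩
        obtain ⟨ε, hε⟩ := (hR i).2
        rw [hε]
        exact Submodule.smul_mem _ _ (Submodule.subset_span ⟨i, rfl⟩)
  · -- `z = -1`: the planes `⟨w, X w⟩`
    have hstep : ∀ W : Submodule F V, (∀ w ∈ W, X w ∈ W) → NonDeg B W → W ≠ ⊥ →
        ∃ u₀ ∈ W, ∃ v₀ ∈ W, B u₀ v₀ ≠ 0 ∧ X u₀ ∈ Submodule.span F {u₀, v₀} ∧
          X v₀ ∈ Submodule.span F {u₀, v₀} ∧ v₀ = X u₀ := by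
      intro W hW hndW hW0
      have hex : ∃ w ∈ W, B w (X w) ≠ 0 := by
        by_contra hcon
        have hB0 : ∀ w ∈ W, B w (X w) = 0 := by
          intro w hw
          by_contra h
          exact hcon ⟨w, hw, h⟩
        have hpol : ∀ a ∈ W, ∀ b ∈ W, B a (X b) = 0 := by
          intro a ha b hb
          have h := hB0 (a + b) (W.add_mem ha hb)
          simp only [map_add, LinearMap.add_apply, hB0 a ha, hB0 b hb, zero_add, add_zero] at h
          have h3 : B b (X a) = B a (X b) := by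
            have h4 := hB b (X a)
            rw [hX, neg_smul, one_smul, map_neg, ← skew B halt] at h4
            exact h4.symm
          rw [h3, ← two_mul] at h
          rcases mul_eq_zero.mp h with h | h
          · exact absurd h h2
          · exact h
        obtain ⟨w, hw, hw0⟩ := (Submodule.ne_bot_iff W).mp hW0
        obtain ⟨y, hy, hwy⟩ := hndW w hw hw0
        apply hwy
        have h3 : y = X (-(X y)) := by
          rw [map_neg, hX, neg_smul, one_smul, neg_neg]
        rw [h3]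
        exact hpol w hw _ (W.neg_mem (hW y hy))
      obtain ⟨w, hw, hne⟩ := hex
      refine ⟨w, hw, X w, hW w hw, hne, ?_, ?_, rfl⟩
      · exact Submodule.subset_span (by simp)
      · rw [hX]
        exact Submodule.smul_mem _ _ (Submodule.subset_span (by simp))
    obtain ⟨ι, hι, u, v, hne, horth, hspan, hR⟩ :=
      hasPlanesR B halt X (-1) hz hX hB _ hstep _ ⊤ rfl (fun _ _ => trivial) hnd
    obtain ⟨hc, hU, hW⟩ := isCompl_of_planes B halt hnd u v horth hspan
    have h12 : ∀ s ∈ Set.range u, X s ∈ Submodule.span F (Set.range v) := by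
      rintro _ ⟨i, rfl⟩
      rw [← hR i]
      exact Submodule.subset_span ⟨i, rfl⟩
    have h21 : ∀ s ∈ Set.range v, X s ∈ Submodule.span F (Set.range u) := by
      rintro _ ⟨i, rfl⟩
      rw [hR i, hX]
      exact Submodule.smul_mem _ _ (Submodule.subset_span ⟨i, rfl⟩)
    exact ⟨_, _, hc, hU, hW, Or.inr ⟨map_span_eq X (-1) hz hX _ _ h12 h21,
      map_span_eq X (-1) hz hX _ _ h21 h12⟩⟩

end Cfsg.Agent.Lib.Helper99_SympPlanesR
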