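import Mathlib
import Cfsg.Agent.Lib.Helper67_T2ODefs
import Cfsg.Agent.Lib.Helper94_OrthNondeg

/-!
# TENS2O market (architect helper67, `t2o_packages`): package EIGO (helper99)

`eig_all`: a linear map having every vector of the subspace `D` as an eigenvector is scalar on `D`.
-/

set_option autoImplicit false
set_option linter.unusedSectionVars false
set_option linter.unusedVariables false

open Module
open Cfsg.Agent.Lib.Helper94_Symp Cfsg.Agent.Lib.Helper94_OrthSmall
  Cfsg.Agent.Lib.Helper94_OrthSiegel Cfsg.Agent.Lib.Helper94_OrthNondeg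
  Cfsg.Agent.Lib.Helper67_Tens2Defs Cfsg.Agent.Lib.Helper67_T2ODefs

namespace Cfsg.Agent.Lib.Helper99_T2O_EIGO

variable {F W : Type*} [Field F] [Finite F] [AddCommGroup W] [Module F W] [FiniteDimensional F W]
variable {ω : LinearMap.BilinForm F W}

/-- EIGO : a linear map having every vector of the subspace `D` as an eigenvector is scalar
on `D` -/
theorem eig_all (D : Submodule F W) (T : W →ₗ[F] W)
    (hT : ∀ y ∈ D, ∃ l : F, T y = l • y) : ∃ c : F, ∀ u ∈ D, T u = c • u := by
  by_cases hD : ∃ y0 ∈ D, y0 ≠ 0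
  · obtain ⟨y0, hy0D, hy0⟩ := hD
    obtain ⟨l0, hl0⟩ := hT y0 hy0D
    refine ⟨l0, fun u hu => ?_⟩
    obtain ⟨lu, hlu⟩ := hT u hu
    obtain ⟨l, hl⟩ := hT (y0 + u) (D.add_mem hy0D hu)
    rw [map_add, hl0, hlu, smul_add] at hl
    -- `(l0 - l) • y0 = (l - lu) • u`
    have key : (l0 - l) • y0 = (l - lu) • u := by
      rw [sub_smul, sub_smul, sub_eq_sub_iff_add_eq_add, hl, add_comm]
    by_cases h : l = l0
    · rw [h, sub_self, zero_smul] at key
      have h1 : l0 • u = lu • u := by
        rw [← sub_eq_zero, ← sub_smul]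
        exact key.symm
      rw [hlu, h1]
    · have hne : l0 - l ≠ 0 := sub_ne_zero.mpr (Ne.symm h)
      have hy : y0 = ((l0 - l)⁻¹ * (l - lu)) • u := by
        rw [mul_smul, ← key, smul_smul, inv_mul_cancel₀ hne, one_smul]
      have ha : (l0 - l)⁻¹ * (l - lu) ≠ 0 := by
        intro h0
        rw [h0, zero_smul] at hy
        exact hy0 hy
      have hu' : u = ((l0 - l)⁻¹ * (l - lu))⁻¹ • y0 := by
        rw [hy, smul_smul, inv_mul_cancel₀ ha, one_smul]
      rw [hu', map_smul, hl0, smul_comm]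
  · push Not at hD
    refine ⟨0, fun u hu => ?_⟩
    rw [hD u hu, map_zero, smul_zero]

end Cfsg.Agent.Lib.Helper99_T2O_EIGO
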