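import Mathlib
import Cfsg.Agent.Lib.Helper67_T2ODefs
import Cfsg.Agent.Lib.Helper94_OrthNondeg

/-!
# TENS2O market (architect helper67, `t2o_packages`): package IRRO (helper99)

`irr_stv`: a nonzero subspace stable under all symplectic transvections is everything.
-/

set_option autoImplicit false
set_option linter.unusedSectionVars false
set_option linter.unusedVariables false

open Module
open Cfsg.Agent.Lib.Helper94_Symp Cfsg.Agent.Lib.Helper94_OrthSmall
  Cfsg.Agent.Lib.Helper94_OrthSiegel Cfsg.Agent.Lib.Helper94_OrthNondeg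
  Cfsg.Agent.Lib.Helper67_Tens2Defs Cfsg.Agent.Lib.Helper67_T2ODefs

namespace Cfsg.Agent.Lib.Helper99_T2O_IRRO

variable {F W : Type*} [Field F] [Finite F] [AddCommGroup W] [Module F W] [FiniteDimensional F W]
variable {ω : LinearMap.BilinForm F W}

/-- IRRO : a nonzero subspace stable under all symplectic transvections is everything -/
theorem irr_stv (halt : ω.IsAlt) (hN : ω.Nondegenerate) (U : Submodule F W) (hU : U ≠ ⊥)
    (hinv : ∀ (y : W) (s : F), ∀ u ∈ U, stv ω halt y s u ∈ U) : U = ⊤ := by
  obtain ⟨u, huU, hu0⟩ := Submodule.exists_mem_ne_zero_of_ne_bot hU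
  have key : ∀ y : W, ω u y ≠ 0 → y ∈ U := by
    intro y hy
    have h1 := hinv y 1 u huU
    rw [stv_apply, one_mul] at h1
    have h2 : (ω u y) • y ∈ U := by
      have := U.sub_mem h1 huU
      rwa [add_sub_cancel_left] at this
    have h3 := U.smul_mem (ω u y)⁻¹ h2
    rwa [smul_smul, inv_mul_cancel₀ hy, one_smul] at h3
  have hex : ∃ y1, ω u y1 ≠ 0 := by
    by_contra hcon
    push Not at hcon
    exact hu0 (hN.1 u hcon)
  obtain ⟨y1, hy1⟩ := hex
  rw [eq_top_iff]
  intro y _
  by_cases hy : ω u y = 0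
  · have h1 : ω u (y + y1) ≠ 0 := by
      rw [map_add, hy, zero_add]
      exact hy1
    have h2 := U.sub_mem (key _ h1) (key y1 hy1)
    rwa [add_sub_cancel_right] at h2
  · exact key y hy

end Cfsg.Agent.Lib.Helper99_T2O_IRRO
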