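import Mathlib
import Cfsg.Agent.Lib.Helper43_JordanSum
import Cfsg.Agent.Lib.Helper43_Jordan4

set_option autoImplicit false

/-!
Unipotent elements and invariant complementary pairs: a nilpotent endomorphism has an invariant
complementary pair `(U, W)` with `dim U = m` iff its Jordan type has a sub-multiset of sum `m`.
-/

namespace Cfsg.Agent.Lib.Helper99_UnipPairs

open Module
open Cfsg.Agent.Lib.Helper43_Jordan

universe u

variable {F V : Type u} [Field F] [AddCommGroup V] [Module F V] [FiniteDimensional F V]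

/-- the Jordan type of a nilpotent endomorphism splits along a decomposition into invariant
subspaces (copy of `S5959.jtype_of_isCompl`). -/
theorem jtype_of_isCompl' (N : End F V) (hN : IsNilpotent N) (D W : Submodule F V)
    (hDW : IsCompl D W) (hD : ∀ v ∈ D, N v ∈ D) (hW : ∀ v ∈ W, N v ∈ W) :
    jtype N = jtype (N.restrict hD) + jtype (N.restrict hW) := by
  have hnD : IsNilpotent (N.restrict hD) := Module.End.isNilpotent.restrict hD hN
  have hnW : IsNilpotent (N.restrict hW) := Module.End.isNilpotent.restrict hW hN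
  rw [← jtype_prodMap hnD hnW]
  symm
  rw [jtype_eq_iff _ (isNilpotent_prodMap hnD hnW) _ hN]
  refine ⟨Submodule.prodEquivOfIsCompl D W hDW, ?_⟩
  rintro ⟨x, y⟩
  rw [Submodule.coe_prodEquivOfIsCompl', LinearMap.prodMap_apply,
    Submodule.coe_prodEquivOfIsCompl', map_add]
  rfl

/-- an invariant complementary pair gives a sub-multiset of the Jordan type. -/
theorem exists_le_jtype_of_pair (N : End F V) (hN : IsNilpotent N) (U W : Submodule F V)
    (hUW : IsCompl U W) (hU : ∀ v ∈ U, N v ∈ U) (hW : ∀ v ∈ W, N v ∈ W) :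
    ∃ ν : Multiset ℕ, ν ≤ jtype N ∧ ν.sum = finrank F U := by
  refine ⟨jtype (N.restrict hU), ?_, ?_⟩
  · rw [jtype_of_isCompl' N hN U W hUW hU hW]
    exact Multiset.le_add_right _ _
  · exact jtype_sum _ (Module.End.isNilpotent.restrict hU hN)

/-- a sub-multiset of the Jordan type gives an invariant complementary pair. -/
theorem exists_pair_of_le_jtype (N : End F V) (hN : IsNilpotent N) (ν : Multiset ℕ)
    (hν : ν ≤ jtype N) :
    ∃ U W : Submodule F V, IsCompl U W ∧ finrank F U = ν.sum ∧ (∀ v ∈ U, N v ∈ U) ∧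
      (∀ v ∈ W, N v ∈ W) := by
  classical
  set ν' := jtype N - ν with hν'
  have hsum : ν + ν' = jtype N := add_tsub_cancel_of_le hν
  have hpos : ∀ a ∈ ν, 0 < a := fun a ha => jtype_pos N (Multiset.mem_of_le hν ha)
  have hpos' : ∀ a ∈ ν', 0 < a := fun a ha =>
    jtype_pos N (Multiset.mem_of_le (Multiset.sub_le_self _ _) ha)
  obtain ⟨N1, hN1, hj1⟩ := exists_jtype_eq (F := F) (V := Fin ν.sum → F) ν hpos
    (by rw [Module.finrank_fin_fun])
  obtain ⟨N2, hN2, hj2⟩ := exists_jtype_eq (F := F) (V := Fin ν'.sum → F) ν' hpos'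
    (by rw [Module.finrank_fin_fun])
  have hj : jtype (N1.prodMap N2) = jtype N := by
    rw [jtype_prodMap hN1 hN2, hj1, hj2, hsum]
  obtain ⟨e, he⟩ := (jtype_eq_iff _ (isNilpotent_prodMap hN1 hN2) _ hN).1 hj
  set A : Submodule F ((Fin ν.sum → F) × (Fin ν'.sum → F)) :=
    LinearMap.range (LinearMap.inl F _ _) with hA
  set B : Submodule F ((Fin ν.sum → F) × (Fin ν'.sum → F)) :=
    LinearMap.range (LinearMap.inr F _ _) with hB
  have hAB : IsCompl A B := LinearMap.isCompl_range_inl_inr
  refine ⟨A.map (e : _ →ₗ[F] V), B.map (e : _ →ₗ[F] V), ?_, ?_, ?_, ?_⟩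
  · rw [isCompl_iff, disjoint_iff, codisjoint_iff, ← Submodule.map_inf _ e.injective,
      ← Submodule.map_sup, hAB.inf_eq_bot, hAB.sup_eq_top, Submodule.map_bot, Submodule.map_top,
      LinearEquiv.range]
    exact ⟨rfl, rfl⟩
  · rw [LinearEquiv.finrank_map_eq, hA, LinearMap.finrank_range_of_inj LinearMap.inl_injective,
      Module.finrank_fin_fun]
  · rintro _ ⟨_, ⟨v, rfl⟩, rfl⟩
    refine ⟨LinearMap.inl F _ _ (N1 v), ⟨N1 v, rfl⟩, ?_⟩
    have := he (LinearMap.inl F _ _ v)
    have h2 : (N1.prodMap N2) (LinearMap.inl F _ _ v) = LinearMap.inl F _ _ (N1 v) := by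
      simp [LinearMap.prodMap_apply]
    rw [h2] at this
    exact this
  · rintro _ ⟨_, ⟨v, rfl⟩, rfl⟩
    refine ⟨LinearMap.inr F _ _ (N2 v), ⟨N2 v, rfl⟩, ?_⟩
    have := he (LinearMap.inr F _ _ v)
    have h2 : (N1.prodMap N2) (LinearMap.inr F _ _ v) = LinearMap.inr F _ _ (N2 v) := by
      simp [LinearMap.prodMap_apply]
    rw [h2] at this
    exact this

section Matrices

variable {K : Type u} [Field K] [Fintype K] {p : ℕ} [Fact p.Prime] [CharP K p] {n : ℕ}

omit [Fintype K] in
theorem smul_sub_pow_char (x : Matrix (Fin n) (Fin n) K) (a : K) :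
    (x - a • (1 : Matrix (Fin n) (Fin n) K)) ^ p = x ^ p - (a ^ p) • 1 := by
  cases n with
  | zero => exact Subsingleton.elim _ _
  | succ n =>
    have := Matrix.charP (n := Fin (n + 1)) (R := K) p
    have hc : Commute x (a • (1 : Matrix (Fin (n + 1)) (Fin (n + 1)) K)) :=
      (Commute.one_right x).smul_right a
    rw [sub_pow_char_of_commute p hc, _root_.smul_pow, one_pow]

theorem exists_pow_char_eq (c : K) : ∃ a : K, a ^ p = c := by
  have hinj := frobenius_inj K p
  obtain ⟨a, ha⟩ := (Finite.injective_iff_surjective.1 hinj) c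
  exact ⟨a, ha⟩

/-- positive direction: the partition condition gives an invariant complementary pair for
every `x` with `x ^ p` scalar. -/
theorem exists_pair_of_partCond (x : Matrix (Fin n) (Fin n) K) (c : K)
    (hx : x ^ p = c • (1 : Matrix (Fin n) (Fin n) K)) (m : ℕ)
    (hP : ∀ μ : Multiset ℕ, (∀ a ∈ μ, 0 < a ∧ a ≤ p) → μ.sum = n →
      ∃ ν : Multiset ℕ, ν ≤ μ ∧ ν.sum = m) :
    ∃ U W : Submodule K (Fin n → K), IsCompl U W ∧ finrank K U = m ∧
      U.map (Matrix.toLin' x) ≤ U ∧ W.map (Matrix.toLin' x) ≤ W := by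
  obtain ⟨a, ha⟩ := exists_pow_char_eq (p := p) c
  set M : Matrix (Fin n) (Fin n) K := x - a • 1 with hM
  have hMp : M ^ p = 0 := by rw [hM, smul_sub_pow_char, hx, ha, sub_self]
  set N : End K (Fin n → K) := Matrix.toLin' M with hNdef
  have hNp : N ^ p = 0 := by
    rw [hNdef, ← Matrix.toLin'_pow, hMp, map_zero]
  have hN : IsNilpotent N := ⟨p, hNp⟩
  have hle : ∀ b ∈ jtype N, b ≤ p := (pow_eq_zero_iff_jtype N hN p).1 hNp
  obtain ⟨ν, hν, hνm⟩ := hP (jtype N) (fun b hb => ⟨jtype_pos N hb, hle b hb⟩)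
    (by rw [jtype_sum N hN, Module.finrank_fin_fun])
  obtain ⟨U, W, hUW, hUd, hU, hW⟩ := exists_pair_of_le_jtype N hN ν hν
  have hxN : ∀ v, Matrix.toLin' x v = N v + a • v := by
    intro v
    rw [hNdef, hM, map_sub, LinearMap.sub_apply, map_smul, Matrix.toLin'_one]
    simp
  refine ⟨U, W, hUW, hUd.trans hνm, ?_, ?_⟩
  · rintro _ ⟨v, hv, rfl⟩
    rw [hxN]
    exact U.add_mem (hU v hv) (U.smul_mem a hv)
  · rintro _ ⟨v, hv, rfl⟩
    rw [hxN]
    exact W.add_mem (hW v hv) (W.smul_mem a hv)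

omit [Fintype K] in
/-- negative direction: if every non-scalar `x ∈ SL_n` with `x ^ p` scalar has an invariant
complementary pair with `dim U = m`, the partition condition holds. -/
theorem partCond_of_forall (hn : 0 < n) (m : ℕ) (hm : m ≤ n)
    (hall : ∀ x : Matrix.SpecialLinearGroup (Fin n) K,
      (∃ c : K, ((x ^ p : Matrix.SpecialLinearGroup (Fin n) K) : Matrix (Fin n) (Fin n) K) =
        c • (1 : Matrix (Fin n) (Fin n) K)) →
      (∀ c : K, (x : Matrix (Fin n) (Fin n) K) ≠ c • (1 : Matrix (Fin n) (Fin n) K)) →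
      ∃ U W : Submodule K (Fin n → K), IsCompl U W ∧ finrank K U = m ∧
        U.map (Matrix.toLin' (x : Matrix (Fin n) (Fin n) K)) ≤ U ∧
        W.map (Matrix.toLin' (x : Matrix (Fin n) (Fin n) K)) ≤ W)
    (μ : Multiset ℕ) (hμ1 : ∀ a ∈ μ, 0 < a ∧ a ≤ p) (hμ2 : μ.sum = n) :
    ∃ ν : Multiset ℕ, ν ≤ μ ∧ ν.sum = m := by
  classical
  have hpp : p.Prime := Fact.out
  by_cases hall1 : ∀ b ∈ μ, b ≤ 1
  · have h1 : ∀ b ∈ μ, b = 1 := fun b hb => by
      have := hall1 b hb
      have := (hμ1 b hb).1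
      omega
    have h2 := Multiset.eq_replicate_card.2 h1
    have h3 : Multiset.card μ = n := by
      have := hμ2
      rw [h2, Multiset.sum_replicate, smul_eq_mul, mul_one] at this
      exact this
    refine ⟨Multiset.replicate m 1, ?_, ?_⟩
    · rw [h2, h3, Multiset.replicate_le_replicate]
      exact hm
    · rw [Multiset.sum_replicate, smul_eq_mul, mul_one]
  · have hfr : finrank K (Fin n → K) = n := Module.finrank_fin_fun K
    obtain ⟨N, hN, hNμ⟩ := exists_jtype_eq (F := K) (V := Fin n → K) μ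
      (fun b hb => (hμ1 b hb).1) (by rw [hμ2, hfr])
    have hNp : N ^ p = 0 := by
      rw [pow_eq_zero_iff_jtype _ hN, hNμ]
      exact fun b hb => (hμ1 b hb).2
    have hN1 : N ≠ 0 := by
      intro h0
      apply hall1
      have : N ^ 1 = 0 := by rw [pow_one, h0]
      rw [pow_eq_zero_iff_jtype _ hN, hNμ] at this
      exact this
    set M : Matrix (Fin n) (Fin n) K := LinearMap.toMatrix' N with hM
    have hMN : Matrix.toLin' M = N := Matrix.toLin'_toMatrix' N
    have hMp : M ^ p = 0 := by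
      apply Matrix.toLin'.injective
      rw [Matrix.toLin'_pow, hMN, hNp, map_zero]
    have hxp : (1 + M) ^ p = 1 := by
      have := sub_one_pow_char_pow (F := K) p (1 + M) 1
      rw [pow_one, add_sub_cancel_left, hMp] at this
      exact sub_eq_zero.1 this.symm
    have hdet : (1 + M).det = 1 := by
      have h1 : (1 + M).det ^ p = 1 := by rw [← Matrix.det_pow, hxp, Matrix.det_one]
      have h2 : ((1 + M).det - 1) ^ p = 0 := by rw [sub_pow_char, h1, one_pow, sub_self]
      exact sub_eq_zero.1 ((pow_eq_zero_iff hpp.ne_zero).1 h2)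
    let x : Matrix.SpecialLinearGroup (Fin n) K := ⟨1 + M, hdet⟩
    have hx1 : ∃ z : K, ((x ^ p : Matrix.SpecialLinearGroup (Fin n) K) :
        Matrix (Fin n) (Fin n) K) = z • (1 : Matrix (Fin n) (Fin n) K) := by
      refine ⟨1, ?_⟩
      rw [Matrix.SpecialLinearGroup.coe_pow, one_smul]
      exact hxp
    have hx2 : ∀ z : K, (x : Matrix (Fin n) (Fin n) K) ≠
        z • (1 : Matrix (Fin n) (Fin n) K) := by
      intro z hz
      have hz1 : (1 : Matrix (Fin n) (Fin n) K) + M = z • 1 := hz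
      have hz' : M = (z - 1) • (1 : Matrix (Fin n) (Fin n) K) := by
        rw [sub_smul, one_smul, ← hz1, add_sub_cancel_left]
      have hz0 : (z - 1) ^ p = 0 := by
        have := hMp
        rw [hz', _root_.smul_pow, one_pow] at this
        have h00 := congrFun (congrFun this ⟨0, hn⟩) ⟨0, hn⟩
        simpa using h00
      have hz2 : z - 1 = 0 := (pow_eq_zero_iff hpp.ne_zero).1 hz0
      apply hN1
      rw [← hMN, hz', hz2, zero_smul, map_zero]
    obtain ⟨U, W, hUW, hUd, hU, hW⟩ := hall x hx1 hx2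
    have hTN : ∀ v, Matrix.toLin' (1 + M) v = v + N v := by
      intro v
      rw [map_add, Matrix.toLin'_one, hMN]
      rfl
    have hNU : ∀ v ∈ U, N v ∈ U := by
      intro v hv
      have h1 : Matrix.toLin' (1 + M) v ∈ U := hU (Submodule.mem_map_of_mem hv)
      rw [hTN] at h1
      have := U.sub_mem h1 hv
      rwa [add_sub_cancel_left] at this
    have hNW : ∀ v ∈ W, N v ∈ W := by
      intro v hv
      have h1 : Matrix.toLin' (1 + M) v ∈ W := hW (Submodule.mem_map_of_mem hv)
      rw [hTN] at h1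
      have := W.sub_mem h1 hv
      rwa [add_sub_cancel_left] at this
    obtain ⟨ν, hν, hνs⟩ := exists_le_jtype_of_pair N hN U W hUW hNU hNW
    exact ⟨ν, hNμ ▸ hν, hνs.trans hUd⟩

end Matrices

section Two

/-- a multiset with parts in `{1, 2}` is determined by the counts. -/
theorem eq_replicate_add (μ : Multiset ℕ) (hμ : ∀ a ∈ μ, 0 < a ∧ a ≤ 2) :
    μ = Multiset.replicate (μ.count 2) 2 + Multiset.replicate (μ.count 1) 1 := by
  ext x
  rw [Multiset.count_add, Multiset.count_replicate, Multiset.count_replicate]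
  by_cases h2 : x = 2
  · subst h2; simp
  · by_cases h1 : x = 1
    · subst h1; simp
    · rw [if_neg (Ne.symm h2), if_neg (Ne.symm h1)]
      apply Multiset.count_eq_zero.2
      intro hx
      have := hμ x hx
      omega

/-- the partition condition for `p = 2`. -/
theorem partCond_two_iff (n m : ℕ) (hm : m ≤ n) :
    (∀ μ : Multiset ℕ, (∀ a ∈ μ, 0 < a ∧ a ≤ 2) → μ.sum = n →
      ∃ ν : Multiset ℕ, ν ≤ μ ∧ ν.sum = m) ↔ (Odd n ∨ Even m) := by
  constructor
  · intro h
    by_contra hcon
    rw [not_or, Nat.not_odd_iff_even, Nat.not_even_iff_odd] at hcon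
    obtain ⟨hn, hmo⟩ := hcon
    obtain ⟨k, hk⟩ := hn
    obtain ⟨ν, hν, hνs⟩ := h (Multiset.replicate k 2)
      (fun a ha => by rw [Multiset.eq_of_mem_replicate ha]; omega)
      (by rw [Multiset.sum_replicate, smul_eq_mul, hk]; ring)
    rw [Multiset.le_replicate_iff] at hν
    obtain ⟨k1, -, rfl⟩ := hν
    rw [Multiset.sum_replicate, smul_eq_mul] at hνs
    obtain ⟨j, hj⟩ := hmo
    omega
  · intro h μ hμ hsum
    have hdec := eq_replicate_add μ hμ
    set a := μ.count 2 with ha
    set b := μ.count 1 with hb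
    have hs : 2 * a + b = n := by
      rw [← hsum, hdec, Multiset.sum_add, Multiset.sum_replicate, Multiset.sum_replicate]
      simp [mul_comm]
    have hpar : m % 2 = 0 ∨ 1 ≤ b := by
      rcases h with hodd | heven
      · right
        obtain ⟨j, hj⟩ := hodd
        omega
      · left
        exact Nat.even_iff.1 heven
    obtain ⟨a', b', ha', hb', hab⟩ : ∃ a' b' : ℕ, a' ≤ a ∧ b' ≤ b ∧ 2 * a' + b' = m := by
      by_cases hc : m / 2 ≤ a
      · exact ⟨m / 2, m % 2, hc, by omega, by omega⟩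
      · exact ⟨a, m - 2 * a, le_rfl, by omega, by omega⟩
    refine ⟨Multiset.replicate a' 2 + Multiset.replicate b' 1, ?_, ?_⟩
    · rw [hdec]
      exact add_le_add ((Multiset.replicate_le_replicate 2).2 ha')
        ((Multiset.replicate_le_replicate 1).2 hb')
    · rw [Multiset.sum_add, Multiset.sum_replicate, Multiset.sum_replicate]
      simp only [smul_eq_mul]
      omega

end Two

end Cfsg.Agent.Lib.Helper99_UnipPairs
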