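import Mathlib
import Cfsg.Prelude.Def_Classical
import Cfsg.Prelude.Def_LieClassical
import Cfsg.Agent.Lib.Helper94_Bridge
import Cfsg.Agent.Lib.Helper94_Herm
import Cfsg.Agent.S2639

set_option autoImplicit false

/-!
The unitary group `GU_m(q)` acting on `K^m` viewed as a quadratic space over the subfield `F`
(`Q x = Σ N(x_i)`): tools for embedding it into the orthogonal groups `O^±_{2m}(q)`.
-/

namespace Cfsg.Agent.Lib.Helper99_UnitaryOrth

open Module

section Abstract

variable {F : Type*} [Field F] {V : Type*} [AddCommGroup V] [Module F V] [FiniteDimensional F V]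

/-- A quadratic space which is the direct sum of two totally singular subspaces of dimension `n`
in perfect duality is isometric to the standard hyperbolic space. -/
theorem hyperbolic_of_complementary (Q : V → F) (Bp : LinearMap.BilinForm F V)
    (hQ : ∀ x y, Q (x + y) = Q x + Q y + Bp x y) (W W' : Submodule F V) (hc : IsCompl W W')
    (hW : ∀ w ∈ W, Q w = 0) (hW' : ∀ w ∈ W', Q w = 0) (n : ℕ) (hn : finrank F W = n)
    (hn' : finrank F W' = n) (hnd : ∀ w ∈ W, (∀ w' ∈ W', Bp w w' = 0) → w = 0) :
    ∃ e : V ≃ₗ[F] (Fin n ⊕ Fin n → F), ∀ x, Cfsg.quadFormPlus n F (e x) = Q x := by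
  classical
  -- a basis of `W`
  let b : Basis (Fin n) F W := finBasisOfFinrankEq F W hn
  -- the map `W → Dual W'`
  let L : W →ₗ[F] Dual F W' :=
    { toFun := fun w => (Bp (w : V)).comp W'.subtype
      map_add' := by intro x y; ext z; simp
      map_smul' := by intro c x; ext z; simp }
  have hLinj : Function.Injective L := by
    rw [← LinearMap.ker_eq_bot, LinearMap.ker_eq_bot']
    intro w hw
    apply Subtype.ext
    refine hnd w w.2 (fun w' hw' => ?_)
    have := LinearMap.congr_fun hw ⟨w', hw'⟩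
    simpa [L] using this
  have hLsurj : Function.Surjective L := by
    refine (LinearMap.injective_iff_surjective_of_finrank_eq_finrank ?_).mp hLinj
    rw [Subspace.dual_finrank_eq, hn, hn']
  -- the pairing map `W' → (Fin n → F)`
  let P : W' →ₗ[F] (Fin n → F) :=
    { toFun := fun w' i => Bp (b i : V) (w' : V)
      map_add' := by intro x y; ext i; simp
      map_smul' := by intro c x; ext i; simp }
  have hPinj : Function.Injective P := by
    rw [← LinearMap.ker_eq_bot, LinearMap.ker_eq_bot']
    intro w' hw'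
    by_contra hne
    obtain ⟨φ, hφ⟩ : ∃ φ : Dual F W', φ w' ≠ 0 := by
      by_contra hcon
      push Not at hcon
      exact hne ((Module.forall_dual_apply_eq_zero_iff F w').mp hcon)
    obtain ⟨w, rfl⟩ := hLsurj φ
    apply hφ
    have hw : (w : W) = ∑ i, (b.repr w i) • b i := (b.sum_repr w).symm
    change Bp (w : V) (w' : V) = 0
    rw [hw]
    simp only [Submodule.coe_sum, Submodule.coe_smul, map_sum, map_smul, LinearMap.sum_apply,
      LinearMap.smul_apply, smul_eq_mul]
    refine Finset.sum_eq_zero fun i _ => ?_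
    have := congrFun hw' i
    simp only [P, LinearMap.coe_mk, AddHom.coe_mk, Pi.zero_apply] at this
    rw [this, mul_zero]
  have hPbij : Function.Bijective P := by
    refine ⟨hPinj, (LinearMap.injective_iff_surjective_of_finrank_eq_finrank ?_).mp hPinj⟩
    rw [hn', Module.finrank_fintype_fun_eq_card, Fintype.card_fin]
  let P' : W' ≃ₗ[F] (Fin n → F) := LinearEquiv.ofBijective P hPbij
  let e : V ≃ₗ[F] (Fin n ⊕ Fin n → F) :=
    ((Submodule.prodEquivOfIsCompl W W' hc).symm.trans (b.equivFun.prodCongr P')).trans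
      (LinearEquiv.sumArrowLequivProdArrow (Fin n) (Fin n) F F).symm
  refine ⟨e, fun x => ?_⟩
  -- decompose `x`
  obtain ⟨⟨w, w'⟩, rfl⟩ := (Submodule.prodEquivOfIsCompl W W' hc).surjective x
  have he : e (Submodule.prodEquivOfIsCompl W W' hc (w, w')) =
      Sum.elim (b.equivFun w) (P' w') := by
    simp only [e, LinearEquiv.trans_apply, LinearEquiv.symm_apply_apply, LinearEquiv.prodCongr_apply]
    ext s
    rcases s with i | i <;> simp [LinearEquiv.sumArrowLequivProdArrow]
  rw [he, Submodule.coe_prodEquivOfIsCompl', hQ, hW w w.2, hW' w' w'.2, zero_add, zero_add]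
  simp only [Cfsg.quadFormPlus, Sum.elim_inl, Sum.elim_inr]
  have hw : (w : W) = ∑ i, (b.repr w i) • b i := (b.sum_repr w).symm
  conv_rhs => rw [hw]
  simp only [Submodule.coe_sum, Submodule.coe_smul, map_sum, map_smul, LinearMap.sum_apply,
    LinearMap.smul_apply, smul_eq_mul]
  refine Finset.sum_congr rfl fun i _ => ?_
  rfl

end Abstract

section Transport

open Cfsg.Agent.Lib.Helper94_Bridge Matrix

variable {F : Type*} [Field F] {V : Type*} [AddCommGroup V] [Module F V]

/-- Conjugation of linear automorphisms along a linear equivalence, as a group homomorphism. -/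
def conjHom {W : Type*} [AddCommGroup W] [Module F W] (e : V ≃ₗ[F] W) :
    (V ≃ₗ[F] V) →* (W ≃ₗ[F] W) where
  toFun g := (e.symm.trans g).trans e
  map_one' := by
    refine LinearEquiv.ext fun x => ?_
    simp
  map_mul' g h := by
    refine LinearEquiv.ext fun x => ?_
    simp [LinearEquiv.mul_apply]

lemma conjHom_apply {W : Type*} [AddCommGroup W] [Module F W] (e : V ≃ₗ[F] W) (g : V ≃ₗ[F] V)
    (w : W) : conjHom e g w = e (g (e.symm w)) := rfl

lemma conjHom_injective {W : Type*} [AddCommGroup W] [Module F W] (e : V ≃ₗ[F] W) :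
    Function.Injective (conjHom e) := by
  intro g h hgh
  refine LinearEquiv.ext fun x => ?_
  have := congrArg (fun t : W ≃ₗ[F] W => t (e x)) hgh
  simp only [conjHom_apply, LinearEquiv.symm_apply_apply] at this
  exact e.injective this

/-- Transport of an isometric action to the matrix isometry group of a standard form. -/
theorem exists_hom_isometryGroup {ι : Type} [Fintype ι] [DecidableEq ι] {G : Type*} [Group G]
    (Qf : (ι → F) → F) (Q : V → F) (e : V ≃ₗ[F] (ι → F)) (he : ∀ x, Qf (e x) = Q x)
    (ρ : G →* (V ≃ₗ[F] V)) (hρ : Function.Injective ρ) (hQ : ∀ g x, Q (ρ g x) = Q x) :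
    ∃ φ : G →* ↥(Cfsg.isometryGroup F Qf), Function.Injective φ := by
  let ψ : G →* Matrix.GeneralLinearGroup ι F :=
    (glEquiv ι F).symm.toMonoidHom.comp ((conjHom e).comp ρ)
  have hψ : ∀ g u, ((ψ g : Matrix.GeneralLinearGroup ι F) : Matrix ι ι F) *ᵥ u =
      e (ρ g (e.symm u)) := by
    intro g u
    rw [← glEquiv_apply]
    simp only [ψ, MonoidHom.comp_apply, MulEquiv.coe_toMonoidHom, MulEquiv.apply_symm_apply,
      conjHom_apply]
  refine ⟨ψ.codRestrict (Cfsg.isometryGroup F Qf) (fun g => ?_), ?_⟩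
  · intro u _
    change Qf (((ψ g : Matrix.GeneralLinearGroup ι F) : Matrix ι ι F) *ᵥ u) = Qf u
    rw [hψ, he, hQ, ← he, LinearEquiv.apply_symm_apply]
  · intro g h hgh
    have h1 : ψ g = ψ h := congrArg Subtype.val hgh
    have h2 := (glEquiv ι F).symm.injective h1
    exact hρ (conjHom_injective e h2)

end Transport

section Field

open Cfsg.Agent.S2639 Cfsg.Agent.Lib.Helper94_Herm

variable {K F : Type*} [Field K] [Fintype K] [Field F] [Fintype F] [Algebra F K]

local notation "β" => FiniteField.frobeniusAlgHom F K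

variable {ι : Type*} [Fintype ι]

/-- The hermitian form on `K^ι`. -/
def hsG (x y : ι → K) : K := ∑ i, x i * (FiniteField.frobeniusAlgHom F K) (y i)

lemma beta_hsG (hK : Fintype.card K = Fintype.card F ^ 2) (x y : ι → K) :
    β (hsG (F := F) x y) = hsG (F := F) y x := by
  simp only [hsG, map_sum, map_mul, beta_beta hK]
  exact Finset.sum_congr rfl fun i _ => mul_comm _ _

/-- The polar form `h(x,y) + h(y,x)` as an `F`-bilinear `K`-valued map. -/
def polG : (ι → K) →ₗ[F] (ι → K) →ₗ[F] K :=
  LinearMap.mk₂ F (fun x y => hsG (F := F) x y + hsG (F := F) y x)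
    (by
      intro x x' y
      simp only [hsG, Pi.add_apply, add_mul, mul_add, map_add, Finset.sum_add_distrib]
      abel)
    (by
      intro c x y
      simp only [hsG, Pi.smul_apply, Algebra.smul_def, map_mul, AlgHom.commutes, Finset.mul_sum,
        mul_add]
      congr 1 <;> refine Finset.sum_congr rfl fun i _ => ?_ <;> ring)
    (by
      intro x y y'
      simp only [hsG, Pi.add_apply, add_mul, mul_add, map_add, Finset.sum_add_distrib]
      abel)
    (by
      intro c x y
      simp only [hsG, Pi.smul_apply, Algebra.smul_def, map_mul, AlgHom.commutes, Finset.mul_sum,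
        mul_add]
      congr 1 <;> refine Finset.sum_congr rfl fun i _ => ?_ <;> ring)

lemma polG_apply (x y : ι → K) :
    polG (F := F) x y = hsG (F := F) x y + hsG (F := F) y x := rfl

/-- The `F`-valued quadratic form `x ↦ Σ N(x_i)`, through a retraction `r`. -/
def QG (r : K →ₗ[F] F) (x : ι → K) : F := r (hsG (F := F) x x)

/-- Its polar form. -/
def BpG (r : K →ₗ[F] F) : LinearMap.BilinForm F (ι → K) := (polG (F := F) (ι := ι)).compr₂ r

lemma algebraMap_QG (hK : Fintype.card K = Fintype.card F ^ 2) (r : K →ₗ[F] F)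
    (hr : ∀ a : F, r (algebraMap F K a) = a) (x : ι → K) :
    algebraMap F K (QG r x) = hsG (F := F) x x := by
  obtain ⟨a, ha⟩ := fixed_mem_range (F := F) _ (beta_hsG hK x x)
  rw [QG, ← ha, hr]

lemma algebraMap_BpG (hK : Fintype.card K = Fintype.card F ^ 2) (r : K →ₗ[F] F)
    (hr : ∀ a : F, r (algebraMap F K a) = a) (x y : ι → K) :
    algebraMap F K (BpG r x y) = hsG (F := F) x y + hsG (F := F) y x := by
  have hfix : β (hsG (F := F) x y + hsG (F := F) y x) = hsG (F := F) x y + hsG (F := F) y x := by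
    rw [map_add, beta_hsG hK, beta_hsG hK, add_comm]
  obtain ⟨a, ha⟩ := fixed_mem_range (F := F) _ hfix
  rw [BpG, LinearMap.compr₂_apply, polG_apply, ← ha, hr]

lemma hsG_add_self (x y : ι → K) :
    hsG (F := F) (x + y) (x + y) =
      hsG (F := F) x x + hsG (F := F) y y + (hsG (F := F) x y + hsG (F := F) y x) := by
  simp only [hsG, Pi.add_apply, add_mul, mul_add, map_add, Finset.sum_add_distrib]
  abel

lemma QG_add (hK : Fintype.card K = Fintype.card F ^ 2) (r : K →ₗ[F] F)
    (hr : ∀ a : F, r (algebraMap F K a) = a) (x y : ι → K) :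
    QG r (x + y) = QG r x + QG r y + BpG r x y := by
  apply (algebraMap F K).injective
  rw [map_add, map_add, algebraMap_QG hK r hr, algebraMap_QG hK r hr, algebraMap_QG hK r hr,
    algebraMap_BpG hK r hr, hsG_add_self]

/-- Reindexing preserves the hermitian form. -/
lemma hsG_comp {κ : Type*} [Fintype κ] (s : κ ≃ ι) (x y : ι → K) :
    hsG (F := F) (x ∘ s) (y ∘ s) = hsG (F := F) x y := by
  simp only [hsG, Function.comp_apply]
  exact Equiv.sum_comp s (fun i => x i * β (y i))

/-- The Frobenius is an involution different from the identity. -/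
lemma invol_beta (hK : Fintype.card K = Fintype.card F ^ 2) :
    Invol ((β : K →ₐ[F] K) : K →+* K) :=
  ⟨fun a => beta_beta hK a, exists_not_fixed (F := F) hK⟩

/-- Two distinct elements of norm `-1`. -/
lemma exists_norm_neg_one (hK : Fintype.card K = Fintype.card F ^ 2) :
    ∃ ε ε' : K, ε * β ε = -1 ∧ ε' * β ε' = -1 ∧ ε ≠ ε' := by
  obtain ⟨ε, hε⟩ := norm_surj (invol_beta (F := F) hK) (-1 : K) (by rw [map_neg, map_one])
  obtain ⟨u, hu⟩ := exists_not_fixed (F := F) hK
  have hε' : ε * β ε = -1 := hε
  have hu0 : u ≠ 0 := by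
    rintro rfl
    exact hu (map_zero _)
  have hbu0 : β u ≠ 0 := by
    intro h
    apply hu0
    have := beta_beta hK u
    rw [h, map_zero] at this
    exact this.symm
  have hε0 : ε ≠ 0 := by
    rintro rfl
    rw [zero_mul] at hε'
    exact one_ne_zero (neg_eq_zero.mp hε'.symm)
  refine ⟨ε, ε * (u / β u), hε', ?_, ?_⟩
  · rw [map_mul, map_div₀, beta_beta hK]
    field_simp
    linear_combination hε'
  · intro h
    have h1 : u / β u = 1 := by
      have := mul_left_cancel₀ hε0 (h.symm.trans (mul_one ε).symm)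
      exact this
    rw [div_eq_one_iff_eq hbu0] at h1
    exact hu h1.symm

end Field

section Hyp

open Cfsg.Agent.S2639 Cfsg.Agent.Lib.Helper94_Herm

variable {K F : Type*} [Field K] [Fintype K] [Field F] [Fintype F] [Algebra F K]

local notation "β" => FiniteField.frobeniusAlgHom F K

variable {κ : Type} [Fintype κ] [DecidableEq κ]

/-- The embedding `y ↦ (y, ε y)` of `K^κ` into `K^(κ ⊕ κ)`. -/
def jmap (ε : K) : (κ → K) →ₗ[F] (κ ⊕ κ → K) where
  toFun y := Sum.elim y (ε • y)
  map_add' := by
    intro x y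
    ext (i | i) <;> simp
  map_smul' := by
    intro c x
    ext (i | i)
    · simp
    · change ε • (c • x i) = c • (ε • x i)
      rw [smul_comm]

omit [Fintype K] [Fintype F] [Fintype κ] [DecidableEq κ] in
lemma jmap_inl (ε : K) (y : κ → K) (i : κ) : jmap (F := F) ε y (Sum.inl i) = y i := rfl

omit [Fintype K] [Fintype F] [Fintype κ] [DecidableEq κ] in
lemma jmap_inr (ε : K) (y : κ → K) (i : κ) : jmap (F := F) ε y (Sum.inr i) = ε * y i := rfl

omit [Fintype K] [Fintype F] [Fintype κ] [DecidableEq κ] in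
lemma jmap_injective (ε : K) : Function.Injective (jmap (F := F) (κ := κ) ε) := by
  intro x y h
  funext i
  have := congrFun h (Sum.inl i)
  simpa [jmap_inl] using this

omit [Fintype K] [DecidableEq κ] in
lemma hsG_jmap (ε ε' : K) (y d : κ → K) :
    hsG (F := F) (jmap (F := F) ε y) (jmap (F := F) ε' d) =
      (1 + ε * β ε') * hsG (F := F) y d := by
  simp only [hsG, Fintype.sum_sum_type, jmap_inl, jmap_inr, map_mul, Finset.mul_sum, add_mul,
    one_mul, Finset.sum_add_distrib]
  congr 1
  refine Finset.sum_congr rfl fun i _ => ?_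
  ring

lemma QG_jmap (hK : Fintype.card K = Fintype.card F ^ 2) (r : K →ₗ[F] F)
    (hr : ∀ a : F, r (algebraMap F K a) = a) (ε : K) (hε : ε * β ε = -1) (y : κ → K) :
    QG r (jmap (F := F) ε y) = 0 := by
  apply (algebraMap F K).injective
  rw [algebraMap_QG hK r hr, hsG_jmap, hε, map_zero]
  ring

lemma finrank_range_jmap (hK : Fintype.card K = Fintype.card F ^ 2) (ε : K) :
    Module.finrank F (LinearMap.range (jmap (F := F) (κ := κ) ε)) = Fintype.card κ + Fintype.card κ := by
  rw [LinearMap.finrank_range_of_inj (jmap_injective ε), Module.finrank_pi_fintype]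
  simp only [finrank_eq_two hK, Finset.sum_const, Finset.card_univ, smul_eq_mul]
  ring

omit [Fintype K] [Fintype F] [Fintype κ] [DecidableEq κ] in
lemma isCompl_range_jmap (ε ε' : K) (hne : ε ≠ ε') :
    IsCompl (LinearMap.range (jmap (F := F) (κ := κ) ε)) (LinearMap.range (jmap (F := F) (κ := κ) ε')) := by
  have hd : ε' - ε ≠ 0 := sub_ne_zero.mpr (Ne.symm hne)
  constructor
  · rw [Submodule.disjoint_def]
    rintro x ⟨y, rfl⟩ ⟨y', hy'⟩
    have h1 : y' = y := by
      funext i
      have := congrFun hy' (Sum.inl i)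
      simpa [jmap_inl] using this
    subst h1
    have h2 : y' = 0 := by
      funext i
      have := congrFun hy' (Sum.inr i)
      simp only [jmap_inr] at this
      have h3 : (ε' - ε) * y' i = 0 := by rw [sub_mul, this, sub_self]
      rcases mul_eq_zero.mp h3 with h | h
      · exact absurd h hd
      · exact h
    rw [h2, map_zero]
  · rw [codisjoint_iff, eq_top_iff]
    intro x _
    let d : κ → K := fun i => (x (Sum.inr i) - ε * x (Sum.inl i)) / (ε' - ε)
    let c : κ → K := fun i => x (Sum.inl i) - d i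
    have hx : x = jmap (F := F) ε c + jmap (F := F) ε' d := by
      ext (i | i)
      · simp [jmap_inl, c]
      · simp only [Pi.add_apply, jmap_inr, c, d]
        field_simp
        ring
    rw [hx]
    exact Submodule.add_mem_sup (LinearMap.mem_range_self _ _) (LinearMap.mem_range_self _ _)

lemma nondeg_jmap (hK : Fintype.card K = Fintype.card F ^ 2) (r : K →ₗ[F] F)
    (hr : ∀ a : F, r (algebraMap F K a) = a) (ε ε' : K) (hε' : ε' * β ε' = -1) (hne : ε ≠ ε')
    (y : κ → K) (hy : ∀ d : κ → K, BpG r (jmap (F := F) ε y) (jmap (F := F) ε' d) = 0) : y = 0 := by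
  by_contra hy0
  obtain ⟨i, hi⟩ : ∃ i, y i ≠ 0 := by
    by_contra hcon
    push Not at hcon
    exact hy0 (funext hcon)
  have hε'0 : ε' ≠ 0 := by
    rintro rfl
    rw [zero_mul] at hε'
    exact one_ne_zero (neg_eq_zero.mp hε'.symm)
  have hbe : β ε' = -1 / ε' := by
    field_simp
    linear_combination hε'
  set lam : K := 1 + ε * β ε' with hlam
  have hlam0 : lam ≠ 0 := by
    rw [hlam, hbe]
    have : (1 : K) + ε * (-1 / ε') = (ε' - ε) / ε' := by
      field_simp
      ring
    rw [this]
    exact div_ne_zero (sub_ne_zero.mpr (Ne.symm hne)) hε'0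
  obtain ⟨z, hz⟩ := exists_add_beta_ne_zero (F := F) hK
  set w := lam * y i with hw
  have hw0 : w ≠ 0 := mul_ne_zero hlam0 hi
  set t : K := β (z / w) with ht
  have h1 := hy (Pi.single i t)
  have h2 := algebraMap_BpG hK r hr (jmap (F := F) ε y) (jmap (F := F) ε' (Pi.single i t))
  rw [h1, map_zero, ← beta_hsG hK (jmap (F := F) ε y), hsG_jmap] at h2
  have h3 : hsG (F := F) y (Pi.single i t) = y i * β t := by
    rw [hsG, Finset.sum_eq_single i]
    · rw [Pi.single_eq_same]
    · intro j _ hj
      rw [Pi.single_eq_of_ne hj, map_zero, mul_zero]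
    · intro h; exact absurd (Finset.mem_univ i) h
  rw [h3, ht, beta_beta hK, ← hlam, ← mul_assoc, ← hw, mul_div_cancel₀ z hw0] at h2
  exact hz h2.symm

/-- `K^(k+k)` with the form `Σ N(x_i)` is a hyperbolic space of dimension `2(k+k)` over `F`. -/
theorem exists_plus_iso (hK : Fintype.card K = Fintype.card F ^ 2) (r : K →ₗ[F] F)
    (hr : ∀ a : F, r (algebraMap F K a) = a) (k : ℕ) :
    ∃ e : (Fin k ⊕ Fin k → K) ≃ₗ[F] (Fin (k + k) ⊕ Fin (k + k) → F),
      ∀ x, Cfsg.quadFormPlus (k + k) F (e x) = QG r x := by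
  obtain ⟨ε, ε', hε, hε', hne⟩ := exists_norm_neg_one (F := F) hK
  have hfin : Module.Finite F K := Module.Finite.of_finite
  refine hyperbolic_of_complementary (QG r) (BpG r) (QG_add hK r hr)
    (LinearMap.range (jmap (F := F) (κ := Fin k) ε)) (LinearMap.range (jmap (F := F) (κ := Fin k) ε'))
    (isCompl_range_jmap ε ε' hne) ?_ ?_ (k + k) ?_ ?_ ?_
  · rintro w ⟨y, rfl⟩
    exact QG_jmap hK r hr ε hε y
  · rintro w ⟨y, rfl⟩
    exact QG_jmap hK r hr ε' hε' y
  · rw [finrank_range_jmap hK, Fintype.card_fin]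
  · rw [finrank_range_jmap hK, Fintype.card_fin]
  · rintro w ⟨y, rfl⟩ hw
    have : y = 0 := nondeg_jmap hK r hr ε ε' hε' hne y (fun d => hw _ (LinearMap.mem_range_self _ d))
    rw [this, map_zero]

end Hyp

end Cfsg.Agent.Lib.Helper99_UnitaryOrth
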