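import Mathlib
import Cfsg.Prelude.Def_SolvableStructure
import Cfsg.Agent.S0004
import Cfsg.Agent.S0007
import Cfsg.Agent.S0542
import Cfsg.Agent.S0543

set_option autoImplicit false
open Pointwise

namespace Cfsg.Agent.Lib.Helper9_SystemNormalizer

open Cfsg.Agent.S0543

variable {G : Type*} [Group G]

/-- Hall conjugacy inside a subgroup `M`: two subgroups of `M` of the same order `m`, with
`|M| = m * n` and `m`, `n` coprime, are conjugate by an element of `M` (for `M` solvable). -/
theorem exists_conj_in_subgroup [Finite G] [Group.IsSolvable G] (M A B : Subgroup G) (hA : A ≤ M)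
    (hB : B ≤ M) (m n : ℕ) (hM : Nat.card M = m * n) (hmn : m.Coprime n) (hAc : Nat.card A = m)
    (hBc : Nat.card B = m) : ∃ h ∈ M, MulAut.conj h • A = B := by
  have hA' : Nat.card (A.subgroupOf M) = m := by
    rw [Nat.card_congr (Subgroup.subgroupOfEquivOfLe hA).toEquiv, hAc]
  have hB' : Nat.card (B.subgroupOf M) = m := by
    rw [Nat.card_congr (Subgroup.subgroupOfEquivOfLe hB).toEquiv, hBc]
  obtain ⟨h, hh⟩ := Cfsg.Agent.S0004.result (G := M) m n hM hmn _ _ hA' hB'
  refine ⟨h, h.2, ?_⟩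
  rw [Subgroup.conj_smul_subgroupOf hA, Subgroup.subgroupOf_inj] at hh
  rw [inf_of_le_left (Subgroup.conj_smul_le_of_le hA h), inf_of_le_left hB] at hh
  exact hh

/-- Relative conjugacy of complement systems: two complement systems with the same images modulo
a normal subgroup `N` are conjugate by an element of `N`. Version on a finite set of primes. -/
theorem exists_conj_mem_on_finset [Finite G] [Group.IsSolvable G] (N : Subgroup G) [hN : N.Normal]
    (K L : Nat.Primes → Subgroup G) (hK : Cfsg.IsComplementSystem K)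
    (hL : Cfsg.IsComplementSystem L) (hKL : ∀ p, K p ⊔ N = L p ⊔ N) (S : Finset Nat.Primes) :
    ∃ n ∈ N, ∀ p ∈ S, MulAut.conj n • K p = L p := by
  classical
  induction S using Finset.induction_on with
  | empty => exact ⟨1, N.one_mem, fun p hp => absurd hp (Finset.notMem_empty p)⟩
  | insert q S hqS ih =>
    obtain ⟨n₀, hn₀N, hn₀⟩ := ih
    have hK' := isComplementSystem_smul K hK n₀
    -- `K' q ⊔ N = L q ⊔ N`
    have hsup : MulAut.conj n₀ • K q ⊔ N = L q ⊔ N := by
      have h1 : MulAut.conj n₀ • (K q ⊔ N) = MulAut.conj n₀ • K q ⊔ N := by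
        rw [Subgroup.smul_sup, Subgroup.Normal.conj_smul_eq_self n₀ N]
      have h2 : MulAut.conj n₀ • (K q ⊔ N) = K q ⊔ N :=
        Subgroup.conj_smul_eq_self_of_mem (Subgroup.mem_sup_right hn₀N)
      rw [← h1, h2, hKL q]
    set M := L q ⊔ N with hM
    -- orders
    set m := Nat.card G / (q : ℕ) ^ (Nat.card G).factorization q with hm
    have hc1 : Nat.card (MulAut.conj n₀ • K q : Subgroup G) = m :=
      card_of_isComplementSystem _ hK' q
    have hc2 : Nat.card (L q) = m := card_of_isComplementSystem L hL q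
    have hcopm : m.Coprime (q : ℕ) := (Nat.coprime_ordCompl q.2 Nat.card_pos.ne').symm
    have hrel : (L q).relIndex M ∣ (q : ℕ) ^ (Nat.card G).factorization q := by
      rw [← hL q]
      exact Subgroup.relIndex_dvd_index_of_le le_sup_left
    obtain ⟨c, _, hc⟩ := (Nat.dvd_prime_pow q.2).1 hrel
    have hMcard : Nat.card M = m * (q : ℕ) ^ c := by
      have h1 : Nat.card ((L q).subgroupOf M) * ((L q).subgroupOf M).index = Nat.card M :=
        Subgroup.card_mul_index _
      rw [Nat.card_congr (Subgroup.subgroupOfEquivOfLe (le_sup_left : L q ≤ M)).toEquiv, hc2] at h1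
      rw [← h1]
      congr 1
    obtain ⟨h, hhM, hh⟩ := exists_conj_in_subgroup M (MulAut.conj n₀ • K q) (L q)
      (by rw [← hsup]; exact le_sup_left) le_sup_left m ((q : ℕ) ^ c) hMcard
      (Nat.Coprime.pow_right _ hcopm) hc1 hc2
    -- `h = y * n₁` with `y ∈ L q`, `n₁ ∈ N`
    have hhM' : h ∈ ((L q ⊔ N : Subgroup G) : Set G) := hhM
    rw [Subgroup.mul_normal, Set.mem_mul] at hhM'
    obtain ⟨y, hy, n₁, hn₁, hyn⟩ := hhM'
    have hn₁q : MulAut.conj n₁ • MulAut.conj n₀ • K q = L q := by
      rw [← hyn, map_mul, mul_smul] at hh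
      have h1 : MulAut.conj y⁻¹ • L q = L q :=
        Subgroup.conj_smul_eq_self_of_mem ((L q).inv_mem hy)
      rw [eq_inv_smul_iff.2 hh, ← map_inv, h1]
    -- split `n₁` inside `N`
    have hcop2 : ((L q).subgroupOf N).index.Coprime ((⨅ p ∈ S, L p).subgroupOf N).index := by
      have h1 : ((L q).subgroupOf N).index ∣ (L q).index :=
        Cfsg.Agent.S0542.relIndex_dvd_index_of_normal_right (L q) N
      have h2 : ((⨅ p ∈ S, L p).subgroupOf N).index ∣ (⨅ p ∈ S, L p).index :=
        Cfsg.Agent.S0542.relIndex_dvd_index_of_normal_right _ N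
      have h3 : (L q).index.Coprime (⨅ p ∈ S, L p).index := by
        rw [hL q]
        apply Nat.Coprime.pow_left
        rw [Nat.Prime.coprime_iff_not_dvd q.2]
        intro hq
        obtain ⟨p, hpS, hp⟩ := prime_dvd_index_iInf L hL S q q.2 hq
        have : q = p := Subtype.ext hp
        rw [this] at hqS
        exact hqS hpS
      exact Nat.Coprime.coprime_dvd_left h1 (Nat.Coprime.coprime_dvd_right h2 h3)
    obtain ⟨y', hy', x', hx', hyx'⟩ :=
      (Cfsg.Agent.S0007.result _ _ hcop2).2 (⟨n₁, hn₁⟩ : N)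
    have hy'q : (y' : G) ∈ L q := hy'
    have hx'S : ∀ p ∈ S, (x' : G) ∈ L p := by
      intro p hp
      have h1 : (x' : G) ∈ ⨅ p ∈ S, L p := hx'
      have h2 : (⨅ p ∈ S, L p) ≤ L p := iInf₂_le p hp
      exact h2 h1
    have hn₁eq : n₁ = (y' : G) * (x' : G) := by
      have := congrArg Subtype.val hyx'
      simpa using this
    refine ⟨(x' : G) * n₀, N.mul_mem x'.2 hn₀N, ?_⟩
    intro p hp
    rw [map_mul, mul_smul]
    rcases Finset.mem_insert.1 hp with rfl | hpS
    · rw [hn₁eq, map_mul, mul_smul] at hn₁q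
      have h1 : MulAut.conj (y' : G)⁻¹ • L p = L p :=
        Subgroup.conj_smul_eq_self_of_mem ((L p).inv_mem hy'q)
      rw [eq_inv_smul_iff.2 hn₁q, ← map_inv, h1]
    · rw [hn₀ p hpS]
      exact Subgroup.conj_smul_eq_self_of_mem (hx'S p hpS)

/-- Relative conjugacy of complement systems. -/
theorem exists_conj_mem [Finite G] [Group.IsSolvable G] (N : Subgroup G) [hN : N.Normal]
    (K L : Nat.Primes → Subgroup G) (hK : Cfsg.IsComplementSystem K)
    (hL : Cfsg.IsComplementSystem L) (hKL : ∀ p, K p ⊔ N = L p ⊔ N) :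
    ∃ n ∈ N, ∀ p, MulAut.conj n • K p = L p := by
  have hfin := finite_primesDividing (Nat.card G) Nat.card_pos.ne'
  obtain ⟨n, hnN, hn⟩ := exists_conj_mem_on_finset N K L hK hL hKL hfin.toFinset
  refine ⟨n, hnN, fun p => ?_⟩
  by_cases hp : (p : ℕ) ∣ Nat.card G
  · exact hn p ((Set.Finite.mem_toFinset hfin).2 hp)
  · rw [eq_top_of_not_dvd K hK p hp, eq_top_of_not_dvd L hL p hp]
    exact Subgroup.conj_smul_eq_self_of_mem (Subgroup.mem_top n)

end Cfsg.Agent.Lib.Helper9_SystemNormalizer
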