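import Mathlib
import Cfsg.Prelude.Def_SolvableStructure
import Cfsg.Agent.S0003
import Cfsg.Agent.S0005
import Cfsg.Agent.S0043
import Cfsg.Agent.S0045
import Cfsg.Agent.S0543
import Cfsg.Agent.S0545

set_option autoImplicit false
open Pointwise

namespace Cfsg.Agent.Lib.Helper9_Carter

open Cfsg.Agent.S0045 Cfsg.Agent.S0543

universe u

section basics

variable {G : Type*} [Group G]

/-- A subgroup whose order is coprime to the index of a normal subgroup lies in it. -/
theorem le_normal_of_coprime_card_index {N H : Subgroup G} [N.Normal] [Finite G]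
    (h : (Nat.card H).Coprime N.index) : H ≤ N := by
  rw [← Subgroup.relIndex_eq_one]
  have h1 : N.relIndex H ∣ Nat.card H := Subgroup.relIndex_dvd_card N H
  have h2 : N.relIndex H ∣ N.index := Subgroup.relIndex_dvd_index_of_normal N H
  exact Nat.eq_one_of_dvd_coprimes h h1 h2

/-- second isomorphism theorem, index form, with the normal subgroup on the other side -/
theorem relIndex_sup_of_normal (H N : Subgroup G) [N.Normal] [Finite G] :
    H.relIndex (H ⊔ N) = H.relIndex N := by
  have h1 : N.relIndex (H ⊔ N) = N.relIndex H := Subgroup.relIndex_sup_right H N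
  -- card (H ⊔ N) = card N * |H : H ⊓ N|
  have h2 : N.relIndex (H ⊔ N) * Nat.card N = Nat.card (H ⊔ N : Subgroup G) := by
    have := Subgroup.relIndex_mul_relIndex ⊥ N (H ⊔ N) bot_le le_sup_right
    rw [Subgroup.relIndex_bot_left, Subgroup.relIndex_bot_left] at this
    rw [mul_comm]; exact this
  have h3 : H.relIndex (H ⊔ N) * Nat.card H = Nat.card (H ⊔ N : Subgroup G) := by
    have := Subgroup.relIndex_mul_relIndex ⊥ H (H ⊔ N) bot_le le_sup_left
    rw [Subgroup.relIndex_bot_left, Subgroup.relIndex_bot_left] at this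
    rw [mul_comm]; exact this
  have h4 : N.relIndex H * Nat.card (H ⊓ N : Subgroup G) = Nat.card H := by
    have := Subgroup.relIndex_mul_relIndex ⊥ (H ⊓ N) H bot_le inf_le_left
    rw [Subgroup.relIndex_bot_left, Subgroup.relIndex_bot_left, Subgroup.inf_relIndex_left] at this
    rw [mul_comm]; exact this
  have h5 : H.relIndex N * Nat.card (H ⊓ N : Subgroup G) = Nat.card N := by
    have := Subgroup.relIndex_mul_relIndex ⊥ (H ⊓ N) N bot_le inf_le_right
    rw [Subgroup.relIndex_bot_left, Subgroup.relIndex_bot_left, Subgroup.inf_relIndex_right] at this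
    rw [mul_comm]; exact this
  have hpos : 0 < Nat.card H * Nat.card (H ⊓ N : Subgroup G) :=
    Nat.mul_pos Nat.card_pos Nat.card_pos
  apply Nat.eq_of_mul_eq_mul_right hpos
  calc H.relIndex (H ⊔ N) * (Nat.card H * Nat.card (H ⊓ N : Subgroup G))
      = (H.relIndex (H ⊔ N) * Nat.card H) * Nat.card (H ⊓ N : Subgroup G) := by ring
    _ = Nat.card (H ⊔ N : Subgroup G) * Nat.card (H ⊓ N : Subgroup G) := by rw [h3]
    _ = (N.relIndex (H ⊔ N) * Nat.card N) * Nat.card (H ⊓ N : Subgroup G) := by rw [h2]
    _ = (N.relIndex H * Nat.card (H ⊓ N : Subgroup G)) * Nat.card N := by rw [h1]; ring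
    _ = Nat.card H * (H.relIndex N * Nat.card (H ⊓ N : Subgroup G)) := by rw [h4, h5]
    _ = H.relIndex N * (Nat.card H * Nat.card (H ⊓ N : Subgroup G)) := by ring

/-- A normal subgroup whose order is coprime to the index of a subgroup lies in it. -/
theorem normal_le_of_coprime_card_index {N H : Subgroup G} [N.Normal] [Finite G]
    (h : (Nat.card N).Coprime H.index) : N ≤ H := by
  rw [← Subgroup.relIndex_eq_one]
  have h1 : H.relIndex N ∣ Nat.card N := Subgroup.relIndex_dvd_card H N
  have h2 : H.relIndex N ∣ H.index := by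
    rw [← relIndex_sup_of_normal]
    exact Subgroup.relIndex_dvd_index_of_le le_sup_left
  exact Nat.eq_one_of_dvd_coprimes h h1 h2

end basics

section reduces

variable {G : Type*} [Group G]

/-- the system `K` reduces into `H`: each `K p ⊓ H` has `p`-power index in `H` -/
def ReducesInto (K : Nat.Primes → Subgroup G) (H : Subgroup G) : Prop :=
  ∀ p : Nat.Primes, ∃ a : ℕ, (K p).relIndex H = (p : ℕ) ^ a

theorem relIndex_map_map_dvd {G' : Type*} [Group G'] (f : G →* G') (H K : Subgroup G) :
    (H.map f).relIndex (K.map f) ∣ H.relIndex K := by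
  rw [← Subgroup.relIndex_comap]
  exact Subgroup.relIndex_dvd_of_le_left K (Subgroup.le_comap_map f H)

theorem factorization_of_eq_mul_pow {p c a n : ℕ} (hp : p.Prime) (hc : ¬ p ∣ c)
    (h : n = c * p ^ a) : n.factorization p = a := by
  have hc0 : c ≠ 0 := by rintro rfl; exact hc (dvd_zero p)
  rw [h, Nat.factorization_mul hc0 (pow_ne_zero _ hp.ne_zero), Finsupp.add_apply,
    Nat.factorization_eq_zero_of_not_dvd hc, hp.factorization_pow, Finsupp.single_eq_same, zero_add]

theorem coprime_card_of_isComplementSystem [Finite G] {K : Nat.Primes → Subgroup G}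
    (hK : Cfsg.IsComplementSystem K) (p : Nat.Primes) : ((p : ℕ)).Coprime (Nat.card (K p)) := by
  rw [card_of_isComplementSystem K hK p]
  exact Nat.coprime_ordCompl p.2 Nat.card_pos.ne'

theorem isComplementSystem_subgroupOf [Finite G] {K : Nat.Primes → Subgroup G}
    (hK : Cfsg.IsComplementSystem K) {X : Subgroup G} (hX : ReducesInto K X) :
    Cfsg.IsComplementSystem (fun p => (K p).subgroupOf X) := by
  intro p
  change ((K p).subgroupOf X).index = _
  obtain ⟨a, ha⟩ := hX p
  have h0 : ((K p).subgroupOf X).index = (p : ℕ) ^ a := ha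
  rw [h0]
  congr 1
  symm
  have h1 : Nat.card ((K p).subgroupOf X) * ((K p).subgroupOf X).index = Nat.card X :=
    Subgroup.card_mul_index _
  rw [h0] at h1
  refine factorization_of_eq_mul_pow p.2 ?_ h1.symm
  intro hdvd
  have h2 : Nat.card ((K p).subgroupOf X) ∣ Nat.card (K p) := by
    have : Nat.card ((K p).subgroupOf X) = Nat.card ((K p ⊓ X : Subgroup G)) := by
      rw [← Subgroup.inf_subgroupOf_right]
      exact Nat.card_congr (Subgroup.subgroupOfEquivOfLe inf_le_right).toEquiv
    rw [this]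
    exact Subgroup.card_dvd_of_le inf_le_left
  have h3 := coprime_card_of_isComplementSystem hK p
  have h4 : (p : ℕ) ∣ Nat.card (K p) := hdvd.trans h2
  have := Nat.Coprime.eq_one_of_dvd h3 h4
  exact p.2.one_lt.ne' this

theorem reducesInto_map {K : Nat.Primes → Subgroup G} {C : Subgroup G} (hC : ReducesInto K C)
    (N : Subgroup G) [N.Normal] :
    ReducesInto (fun p => (K p).map (QuotientGroup.mk' N)) (C.map (QuotientGroup.mk' N)) := by
  intro p
  obtain ⟨a, ha⟩ := hC p
  have h1 := relIndex_map_map_dvd (QuotientGroup.mk' N) (K p) C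
  rw [ha] at h1
  obtain ⟨b, -, hb⟩ := (Nat.dvd_prime_pow p.2).1 h1
  exact ⟨b, hb⟩

theorem reducesInto_sup [Finite G] {K : Nat.Primes → Subgroup G}
    (hK : Cfsg.IsComplementSystem K) {C : Subgroup G} (hC : ReducesInto K C)
    (N : Subgroup G) [N.Normal] (q : ℕ) (hq : q.Prime) (k : ℕ) (hN : Nat.card N = q ^ k) :
    ReducesInto K (C ⊔ N) := by
  intro p
  obtain ⟨a, ha⟩ := hC p
  by_cases hpq : (p : ℕ) = q
  · have h1 : (K p).relIndex (C ⊔ N) ∣ (K p ⊓ C).relIndex (C ⊔ N) :=
      Subgroup.relIndex_dvd_of_le_left _ inf_le_left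
    have h2 : (K p ⊓ C).relIndex (C ⊔ N) = (K p ⊓ C).relIndex C * C.relIndex (C ⊔ N) :=
      (Subgroup.relIndex_mul_relIndex _ _ _ inf_le_right le_sup_left).symm
    rw [Subgroup.inf_relIndex_right, ha, relIndex_sup_of_normal] at h2
    have h3 : C.relIndex N ∣ (p : ℕ) ^ k := by
      rw [hpq, ← hN]; exact Subgroup.relIndex_dvd_card C N
    obtain ⟨b, -, hb⟩ := (Nat.dvd_prime_pow p.2).1 h3
    rw [h2, hb, ← pow_add] at h1
    obtain ⟨c, -, hc⟩ := (Nat.dvd_prime_pow p.2).1 h1
    exact ⟨c, hc⟩
  · have hNle : N ≤ K p := by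
      apply normal_le_of_coprime_card_index
      rw [hN, hK p]
      apply Nat.Coprime.pow
      rw [Nat.coprime_primes hq p.2]
      exact fun h => hpq h.symm
    have h1 : (K p).relIndex (C ⊔ N) ∣ ((K p ⊓ C) ⊔ N).relIndex (C ⊔ N) :=
      Subgroup.relIndex_dvd_of_le_left _ (sup_le inf_le_left hNle)
    have h2 : ((K p ⊓ C) ⊔ N).relIndex (C ⊔ N) ∣ (K p ⊓ C).relIndex C := by
      have := relIndex_map_map_dvd (QuotientGroup.mk' N) (K p ⊓ C) C
      rwa [Subgroup.relIndex_map_map, QuotientGroup.ker_mk'] at this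
    rw [Subgroup.inf_relIndex_right, ha] at h2
    obtain ⟨c, -, hc⟩ := (Nat.dvd_prime_pow p.2).1 (h1.trans h2)
    exact ⟨c, hc⟩

end reduces

section existence

variable {G : Type*} [Group G]

theorem exists_hall_compl_reducing [Finite G] [Group.IsSolvable G] (C : Subgroup G)
    (p : Nat.Primes) : ∃ H : Subgroup G,
      H.index = (p : ℕ) ^ (Nat.card G).factorization p ∧ ∃ a : ℕ, H.relIndex C = (p : ℕ) ^ a := by
  have hp : (p : ℕ).Prime := p.2
  have hcopC : (Nat.card C / (p : ℕ) ^ (Nat.card C).factorization p).Coprime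
      ((p : ℕ) ^ (Nat.card C).factorization p) :=
    Nat.Coprime.pow_right _ (Nat.coprime_ordCompl hp Nat.card_pos.ne').symm
  have hcopG : (Nat.card G / (p : ℕ) ^ (Nat.card G).factorization p).Coprime
      ((p : ℕ) ^ (Nat.card G).factorization p) :=
    Nat.Coprime.pow_right _ (Nat.coprime_ordCompl hp Nat.card_pos.ne').symm
  have hmulC : Nat.card C = Nat.card C / (p : ℕ) ^ (Nat.card C).factorization p *
      (p : ℕ) ^ (Nat.card C).factorization p :=
    (Nat.div_mul_cancel (Nat.ordProj_dvd _ _)).symm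
  have hmulG : Nat.card G = Nat.card G / (p : ℕ) ^ (Nat.card G).factorization p *
      (p : ℕ) ^ (Nat.card G).factorization p :=
    (Nat.div_mul_cancel (Nat.ordProj_dvd _ _)).symm
  obtain ⟨H', hH'⟩ := Cfsg.Agent.S0003.result (G := C) _ _ hmulC hcopC
  obtain ⟨Cp, hCpdef⟩ : ∃ Cp : Subgroup G, Cp = H'.map C.subtype := ⟨_, rfl⟩
  have hCpC : Cp ≤ C := by rw [hCpdef]; exact Subgroup.map_subtype_le H'
  have hCpcard : Nat.card Cp = Nat.card C / (p : ℕ) ^ (Nat.card C).factorization p := by
    rw [hCpdef, ← hH']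
    exact (Nat.card_congr (H'.equivMapOfInjective C.subtype C.subtype_injective).toEquiv).symm
  have hCpcop : (Nat.card Cp).Coprime ((p : ℕ) ^ (Nat.card G).factorization p) := by
    rw [hCpcard]
    exact Nat.Coprime.pow_right _ (Nat.coprime_ordCompl hp Nat.card_pos.ne').symm
  obtain ⟨H, hHcard, hle⟩ := Cfsg.Agent.S0005.result (G := G) _ _ hmulG hcopG Cp hCpcop
  refine ⟨H, ?_, ?_⟩
  · have h1 : Nat.card H * H.index = Nat.card G := Subgroup.card_mul_index H
    rw [hHcard] at h1
    have hpos : 0 < Nat.card G / (p : ℕ) ^ (Nat.card G).factorization p := by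
      rw [← hHcard]; exact Nat.card_pos
    apply Nat.eq_of_mul_eq_mul_left hpos
    rw [h1]; exact hmulG
  · have h1 : H.relIndex C ∣ Cp.relIndex C := Subgroup.relIndex_dvd_of_le_left C hle
    have h2 : Nat.card Cp * Cp.relIndex C = Nat.card C := by
      have := Subgroup.relIndex_mul_relIndex ⊥ Cp C bot_le hCpC
      rwa [Subgroup.relIndex_bot_left, Subgroup.relIndex_bot_left] at this
    have h3 : Cp.relIndex C = (p : ℕ) ^ (Nat.card C).factorization p := by
      have hpos : 0 < Nat.card Cp := Nat.card_pos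
      apply Nat.eq_of_mul_eq_mul_left hpos
      rw [h2, hCpcard]; exact hmulC
    rw [h3] at h1
    obtain ⟨b, -, hb⟩ := (Nat.dvd_prime_pow hp).1 h1
    exact ⟨b, hb⟩

theorem exists_reducesInto [Finite G] [Group.IsSolvable G] (C : Subgroup G) :
    ∃ K : Nat.Primes → Subgroup G, Cfsg.IsComplementSystem K ∧ ReducesInto K C := by
  choose K hK1 hK2 using exists_hall_compl_reducing C
  exact ⟨K, hK1, hK2⟩

end existence

section hallnilp

variable {G : Type*} [Group G]

theorem card_conj_smul (g : G) (H : Subgroup G) : Nat.card (MulAut.conj g • H : Subgroup G) = Nat.card H :=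
  (Nat.card_congr (Subgroup.equivSMul (MulAut.conj g) H).toEquiv).symm

/-- A Hall subgroup of a finite nilpotent group is normal. -/
theorem normal_of_hall_of_isNilpotent [Finite G] [Group.IsNilpotent G] (H : Subgroup G)
    (hH : (Nat.card H).Coprime H.index) : H.Normal := by
  rw [← Subgroup.normalizer_eq_top_iff]
  by_contra hne
  obtain ⟨M, hM⟩ : ∃ M : Subgroup G, M = Subgroup.normalizer (H : Set G) := ⟨_, rfl⟩
  rw [← hM] at hne
  have hlt := Group.normalizerCondition_of_isNilpotent (G := G) M (lt_top_iff_ne_top.mpr hne)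
  obtain ⟨g, hgN, hgM⟩ := SetLike.exists_of_lt hlt
  apply hgM
  rw [hM]
  apply mem_normalizer_of_conj_smul_eq
  have hHM : H ≤ M := hM ▸ Subgroup.le_normalizer
  have h1 : MulAut.conj g • H ≤ M := by
    have h2 : MulAut.conj g • M = M := conj_smul_eq_of_mem_normalizer hgN
    rw [← h2]
    exact Subgroup.pointwise_smul_le_pointwise_smul_iff.2 hHM
  have : (H.subgroupOf M).Normal := Subgroup.normal_subgroupOf_of_le_normalizer hM.le
  have h3 : ((MulAut.conj g • H : Subgroup G).subgroupOf M) ≤ H.subgroupOf M := by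
    apply le_normal_of_coprime_card_index
    have hc : Nat.card ((MulAut.conj g • H : Subgroup G).subgroupOf M) = Nat.card H := by
      rw [← card_conj_smul g H]
      exact Nat.card_congr (Subgroup.subgroupOfEquivOfLe h1).toEquiv
    rw [hc]
    exact Nat.Coprime.coprime_dvd_right (Subgroup.relIndex_dvd_index_of_le hHM) hH
  have h4 : MulAut.conj g • H ≤ H := by
    intro x hx
    have : (⟨x, h1 hx⟩ : M) ∈ H.subgroupOf M := h3 (by rw [Subgroup.mem_subgroupOf]; exact hx)
    rwa [Subgroup.mem_subgroupOf] at this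
  exact Subgroup.eq_of_le_of_card_ge h4 (card_conj_smul g H).ge

end hallnilp

section main

theorem conjBelow_all (n : ℕ) : ConjBelow.{u} n :=
  fun H _ _ _ _ C D hC hD => (Cfsg.Agent.S0045.main (Nat.card H) H rfl).2 C D hC hD

/-- If a Hall complement system reduces into a Carter subgroup `C`, its system normalizer
lies in `C`. -/
theorem systemNormalizer_le_carter_aux (n : ℕ) :
    ∀ (G : Type u) [Group G] [Finite G] [Group.IsSolvable G],
      Nat.card G = n → ∀ (C : Subgroup G) (K : Nat.Primes → Subgroup G), IsCarter C →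
        Cfsg.IsComplementSystem K → ReducesInto K C → Cfsg.systemNormalizer K ≤ C := by
  induction n using Nat.strong_induction_on with
  | _ n IH =>
  intro G _ _ _ hn C K hC hK hred
  by_cases hnil : Group.IsNilpotent G
  · rw [hC.eq_top_of_isNilpotent]; exact le_top
  have hnt : Nontrivial G := by
    by_contra h
    rw [not_nontrivial_iff_subsingleton] at h
    exact hnil inferInstance
  obtain ⟨N, hNn, hN0, hmin⟩ := exists_minimal_normal (G := G)
  obtain ⟨hNcomm, q, hq, hexp⟩ := Cfsg.Agent.S0043.result N hN0 hmin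
  have hNab : ∀ a ∈ N, ∀ b ∈ N, a * b = b * a := by
    intro a ha b hb
    have := mul_comm' (⟨a, ha⟩ : N) ⟨b, hb⟩
    exact congrArg Subtype.val this
  have hqf : Fact q.Prime := ⟨hq⟩
  have hNp : IsPGroup q N := by
    intro a
    refine ⟨1, ?_⟩
    rw [pow_one]
    apply Subtype.ext
    simpa using hexp a a.2
  obtain ⟨k, hk⟩ := hNp.exists_card_eq
  have hltN : Nat.card (G ⧸ N) < Nat.card G := card_quotient_lt N hN0
  -- Step A: the system normalizer lies in `C ⊔ N`
  have hD1 : Cfsg.systemNormalizer K ≤ C ⊔ N := by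
    have h1 := IH (Nat.card (G ⧸ N)) (hn ▸ hltN) (G ⧸ N) rfl (C.map (QuotientGroup.mk' N))
      (fun p => (K p).map (QuotientGroup.mk' N)) (hC.map_mk' (conjBelow_all _) N)
      (Cfsg.Agent.S0545.isComplementSystem_map K hK N) (reducesInto_map hred N)
    rw [(Cfsg.Agent.S0545.result K hK N).2] at h1
    have h2 := Subgroup.comap_mono (f := QuotientGroup.mk' N) h1
    rw [Subgroup.comap_map_eq, Subgroup.comap_map_eq, QuotientGroup.ker_mk'] at h2
    exact le_sup_left.trans h2
  by_cases hX : C ⊔ N = ⊤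
  · -- Step C
    obtain ⟨qq, hqq⟩ : ∃ qq : Nat.Primes, (qq : ℕ) = q := ⟨⟨q, hq⟩, rfl⟩
    obtain ⟨a, ha⟩ := hred qq
    have hCidx : C.index ∣ q ^ k := by
      rw [← Subgroup.relIndex_top_right, ← hX, relIndex_sup_of_normal, ← hk]
      exact Subgroup.relIndex_dvd_card C N
    obtain ⟨k', -, hk'⟩ := (Nat.dvd_prime_pow hq).1 hCidx
    have hKC : K qq ≤ C := by
      rw [← Subgroup.relIndex_eq_one]
      have h1 : C.relIndex (K qq) ∣ Nat.card (K qq) := Subgroup.relIndex_dvd_card C (K qq)
      have h2 : C.relIndex (K qq) ∣ (K qq ⊓ C).index := by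
        rw [← Subgroup.inf_relIndex_left]
        exact Subgroup.relIndex_dvd_index_of_le inf_le_left
      have h3 : (K qq ⊓ C).index = q ^ (a + k') := by
        rw [← Subgroup.relIndex_mul_index (inf_le_right : K qq ⊓ C ≤ C),
          Subgroup.inf_relIndex_right, ha, hk', hqq, pow_add]
      rw [h3] at h2
      have hcop : (q ^ (a + k')).Coprime (Nat.card (K qq)) :=
        Nat.Coprime.pow_left _ (hqq ▸ coprime_card_of_isComplementSystem hK qq)
      exact Nat.eq_one_of_dvd_coprimes hcop h2 h1
    -- `K qq` is normal in `C`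
    have hCnil : Group.IsNilpotent C := hC.1
    have hQn : ((K qq).subgroupOf C).Normal := by
      apply normal_of_hall_of_isNilpotent
      have hc : Nat.card ((K qq).subgroupOf C) = Nat.card (K qq) :=
        Nat.card_congr (Subgroup.subgroupOfEquivOfLe hKC).toEquiv
      have hi : ((K qq).subgroupOf C).index = q ^ a := by rw [← hqq]; exact ha
      rw [hc, hi]
      exact (Nat.Coprime.pow_left _ (hqq ▸ coprime_card_of_isComplementSystem hK qq)).symm
    have hCnorm : C ≤ Subgroup.normalizer (K qq : Set G) :=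
      Subgroup.le_normalizer_of_normal_subgroupOf hKC
    obtain ⟨M, hM⟩ : ∃ M : Subgroup G, M = N ⊓ Subgroup.normalizer (K qq : Set G) := ⟨_, rfl⟩
    have hMn : M.Normal := by
      refine normal_of_sup_eq_top (A := N) (C := C) hNab hX (hM ▸ inf_le_left) ?_
      intro c hc x hx
      rw [hM] at hx ⊢
      obtain ⟨hx1, hx2⟩ := Subgroup.mem_inf.1 hx
      exact Subgroup.mem_inf.2 ⟨hNn.conj_mem x hx1 c,
        mul_mem (mul_mem (hCnorm hc) hx2) (inv_mem (hCnorm hc))⟩
    rcases hmin M hMn (hM ▸ inf_le_left) with hM0 | hMN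
    · intro d hd
      have hdn : d ∈ Subgroup.normalizer (K qq : Set G) := (Subgroup.mem_iInf.1 hd) qq
      have hdtop : d ∈ C ⊔ N := by rw [hX]; trivial
      obtain ⟨c, hc, x, hx, rfl⟩ := Subgroup.mem_sup_of_normal_right.mp hdtop
      have hxn : x ∈ Subgroup.normalizer (K qq : Set G) := by
        have := mul_mem (inv_mem (hCnorm hc)) hdn
        rwa [inv_mul_cancel_left] at this
      have hxM : x ∈ M := by rw [hM]; exact ⟨hx, hxn⟩
      rw [hM0, Subgroup.mem_bot] at hxM
      rw [hxM, mul_one]; exact hc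
    · -- `K qq` is normal in `G`, the quotient is a `q`-group, so `C = ⊤`
      have hNnorm : N ≤ Subgroup.normalizer (K qq : Set G) := by
        rw [← hMN, hM]; exact inf_le_right
      have hQG : (K qq).Normal := by
        rw [← Subgroup.normalizer_eq_top_iff, eq_top_iff, ← hX]
        exact sup_le hCnorm hNnorm
      have hquot : IsPGroup q (G ⧸ K qq) := by
        apply IsPGroup.of_card (n := (Nat.card G).factorization q)
        rw [← Subgroup.index_eq_card, hK qq, hqq]
      have hquotnil : Group.IsNilpotent (G ⧸ K qq) := hquot.isNilpotent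
      have h1 := (hC.map_mk' (conjBelow_all _) (K qq)).eq_top_of_isNilpotent
      have h2 := congrArg (Subgroup.comap (QuotientGroup.mk' (K qq))) h1
      rw [Subgroup.comap_map_eq, QuotientGroup.ker_mk', Subgroup.comap_top, sup_eq_left.2 hKC] at h2
      rw [h2]; exact le_top
  · -- Step B
    obtain ⟨X, hXdef⟩ : ∃ X : Subgroup G, X = C ⊔ N := ⟨_, rfl⟩
    rw [← hXdef] at hX hD1
    have hCX : C ≤ X := hXdef ▸ le_sup_left
    have hredX : ReducesInto K X := hXdef ▸ reducesInto_sup hK hred N q hq k hk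
    have hltX := card_lt_of_ne_top hX
    have h1 := IH (Nat.card X) (hn ▸ hltX) X rfl (C.subgroupOf X) (fun p => (K p).subgroupOf X)
      (hC.subgroupOf hCX) (isComplementSystem_subgroupOf hK hredX) ?_
    · intro d hd
      have hdX := hD1 hd
      have h2 : (⟨d, hdX⟩ : X) ∈ Cfsg.systemNormalizer (fun p => (K p).subgroupOf X) := by
        apply Subgroup.mem_iInf.2
        intro p
        have hdp : d ∈ Subgroup.normalizer (K p : Set G) := (Subgroup.mem_iInf.1 hd) p
        rw [Subgroup.mem_normalizer_iff] at hdp ⊢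
        intro y
        simp only [Subgroup.mem_subgroupOf]
        exact hdp y
      have h3 := h1 h2
      rwa [Subgroup.mem_subgroupOf] at h3
    · intro p
      obtain ⟨a, ha⟩ := hred p
      refine ⟨a, ?_⟩
      change ((K p).subgroupOf X).relIndex (C.subgroupOf X) = _
      rw [Subgroup.relIndex_subgroupOf hCX]; exact ha

theorem systemNormalizer_le_carter {G : Type u} [Group G] [Finite G] [Group.IsSolvable G]
    {C : Subgroup G} {K : Nat.Primes → Subgroup G} (hC : IsCarter C)
    (hK : Cfsg.IsComplementSystem K) (hred : ReducesInto K C) : Cfsg.systemNormalizer K ≤ C :=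
  systemNormalizer_le_carter_aux (Nat.card G) G rfl C K hC hK hred

end main

end Cfsg.Agent.Lib.Helper9_Carter
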