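import Mathlib
import Cfsg.Prelude.Def_Characters
import Cfsg.Agent.Lib.Helper80_CharBasic
import Cfsg.Agent.Lib.Helper62_D72Defs
import Cfsg.Agent.Lib.Helper8_D72_BASIC
import Cfsg.Agent.Lib.Helper8_D72_INV
import Cfsg.Agent.Lib.Helper43_D72_CENT
import Cfsg.Agent.Lib.Helper9_D72_CONJ

set_option autoImplicit false
set_option linter.unusedSectionVars false
open scoped ComplexConjugate

/-!
S3716 package ORD6 (helper9, for helper62): the two classes of elements of order 6,
`x s` and `x y w`: orders, centralizer orders (6), reality, non-conjugacy.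
-/

namespace Cfsg.Agent.Lib.Helper9_D72_ORD6

open Cfsg Cfsg.Agent.Lib.Helper80_CharBasic Cfsg.Agent.Lib.Helper62_D72Defs

section grp
variable {G : Type*} [Group G] [Finite G]
variable {M : Subgroup G} {x y s w : G}

/-- counting: `C ≤ D`, `|D| = 18`, an element of order 6 in `C`, an element of `D ∖ C`: `|C| = 6` -/
theorem card_eq_six {C D : Subgroup G} (hCD : C ≤ D) (hD : Nat.card D = 18) {u : G} (hu : u ∈ C)
    (ou : orderOf u = 6) {v : G} (hv : v ∈ D) (hvC : v ∉ C) : Nat.card C = 6 := by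
  have h6 : 6 ∣ Nat.card C := by
    have := orderOf_dvd_natCard (⟨u, hu⟩ : C)
    rwa [Subgroup.orderOf_mk, ou] at this
  have h18 : Nat.card C ∣ 18 := by
    have := Subgroup.card_dvd_of_le hCD
    rwa [hD] at this
  obtain ⟨k, hk⟩ := h6
  have hk3 : k ∣ 3 := by
    have : 6 * k ∣ 6 * 3 := by rw [← hk]; simpa using h18
    exact (Nat.mul_dvd_mul_iff_left (by norm_num)).1 this
  have hkle : k ≤ 3 := Nat.le_of_dvd (by norm_num) hk3
  have hne18 : Nat.card C ≠ 18 := by
    intro hc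
    have : C = D := Subgroup.eq_of_le_of_card_ge hCD (by rw [hc, hD])
    exact hvC (this ▸ hv)
  interval_cases k <;> omega

theorem s_sq (h : Hyp G M x y s w) : s * s = 1 := by
  have := pow_orderOf_eq_one s
  rwa [h.os, pow_two] at this

theorem w_sq (h : Hyp G M x y s w) : w * w = 1 := by
  have := pow_orderOf_eq_one w
  rwa [h.ow, pow_two] at this

theorem s_inv (h : Hyp G M x y s w) : s⁻¹ = s := inv_eq_of_mul_eq_one_left (s_sq h)

theorem w_inv (h : Hyp G M x y s w) : w⁻¹ = w := inv_eq_of_mul_eq_one_left (w_sq h)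

theorem comm_x_s (h : Hyp G M x y s w) : Commute x s := by
  have := h.sx
  have e : s * x = x * s := by
    calc s * x = (s * x * s⁻¹) * s := by group
      _ = x * s := by rw [this]
  exact e.symm

theorem comm_xy_w (h : Hyp G M x y s w) : Commute (x * y) w := by
  have e : w * (x * y) = (x * y) * w := by
    calc w * (x * y) = (w * x * w⁻¹) * (w * y * w⁻¹) * w := by group
      _ = (x * y) * w := by rw [h.wx, h.wy, h.comm]
  exact e.symm

theorem order_xy (h : Hyp G M x y s w) : orderOf (x * y) = 3 := by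
  have : Fact (Nat.Prime 3) := ⟨by norm_num⟩
  exact orderOf_eq_prime (Cfsg.Agent.Lib.Helper43_D72_CENT.xy_pow_three h)
    (Cfsg.Agent.Lib.Helper9_D72_CONJ.xy_ne_one h)

theorem order_xs (h : Hyp G M x y s w) : orderOf (x * s) = 6 := by
  have := (comm_x_s h).orderOf_mul_eq_mul_orderOf_of_coprime (by rw [h.ox, h.os]; norm_num)
  rw [this, h.ox, h.os]

theorem order_xyw (h : Hyp G M x y s w) : orderOf (x * y * w) = 6 := by
  have := (comm_xy_w h).orderOf_mul_eq_mul_orderOf_of_coprime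
    (by rw [order_xy h, h.ow]; norm_num)
  rw [this, order_xy h, h.ow]

theorem xs_pow_four (h : Hyp G M x y s w) : (x * s) ^ 4 = x := by
  rw [(comm_x_s h).mul_pow]
  have hx4 : x ^ 4 = x := by
    rw [pow_succ, Cfsg.Agent.Lib.Helper9_D72_CONJ.x_cube h, one_mul]
  have hs4 : s ^ 4 = 1 := by
    have : s ^ 4 = (s * s) * (s * s) := by
      rw [← pow_two, ← pow_two, ← pow_mul]
    rw [this, s_sq h, one_mul]
  rw [hx4, hs4, mul_one]

theorem xyw_pow_four (h : Hyp G M x y s w) : (x * y * w) ^ 4 = x * y := by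
  rw [(comm_xy_w h).mul_pow]
  have hx4 : (x * y) ^ 4 = x * y := by
    rw [pow_succ, Cfsg.Agent.Lib.Helper43_D72_CENT.xy_pow_three h, one_mul]
  have hs4 : w ^ 4 = 1 := by
    have : w ^ 4 = (w * w) * (w * w) := by
      rw [← pow_two, ← pow_two, ← pow_mul]
    rw [this, w_sq h, one_mul]
  rw [hx4, hs4, mul_one]

omit [Finite G] in
theorem cent_le_cent_pow (g : G) (n : ℕ) :
    Subgroup.centralizer ({g} : Set G) ≤ Subgroup.centralizer ({g ^ n} : Set G) := by
  intro t ht
  rw [Subgroup.mem_centralizer_iff] at ht ⊢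
  intro z hz
  rw [Set.mem_singleton_iff] at hz
  subst hz
  have : Commute g t := ht g (Set.mem_singleton g)
  exact (this.pow_left n).eq

omit [Finite G] in
theorem self_mem_cent (g : G) : g ∈ Subgroup.centralizer ({g} : Set G) := by
  rw [Subgroup.mem_centralizer_iff]
  intro z hz
  rw [Set.mem_singleton_iff] at hz
  subst hz
  rfl

theorem card_cent_xs (h : Hyp G M x y s w) :
    Nat.card (Subgroup.centralizer ({x * s} : Set G)) = 6 := by
  have hle : Subgroup.centralizer ({x * s} : Set G) ≤ Subgroup.centralizer ({x} : Set G) := by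
    have := cent_le_cent_pow (x * s) 4
    rwa [xs_pow_four h] at this
  refine card_eq_six hle (Cfsg.Agent.Lib.Helper43_D72_CENT.card_cent h).1 (self_mem_cent _)
    (order_xs h) (Cfsg.Agent.Lib.Helper43_D72_CENT.le_cent_x h
      (Cfsg.Agent.Lib.Helper9_D72_CONJ.y_mem h)) ?_
  intro hy
  rw [Cfsg.Agent.Lib.Helper43_D72_CENT.mem_cent_singleton] at hy
  -- `y (x s) y⁻¹ = x s` gives `y s y⁻¹ = s`, so `s y s⁻¹ = y`
  have e1 : y * x * y⁻¹ = x := by
    rw [← h.comm, mul_inv_cancel_right]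
  have e2 : y * s * y⁻¹ = s := by
    have : y * (x * s) * y⁻¹ = (y * x * y⁻¹) * (y * s * y⁻¹) := by group
    rw [this, e1] at hy
    exact mul_left_cancel hy
  have e3 : s * y * s⁻¹ = y := by
    have : y * s = s * y := by
      calc y * s = (y * s * y⁻¹) * y := by group
        _ = s * y := by rw [e2]
    rw [← this, mul_inv_cancel_right]
  rw [h.sy] at e3
  exact Cfsg.Agent.Lib.Helper43_D72_CENT.inv_ne_self_of_orderOf_three h.oy e3

theorem card_cent_xyw (h : Hyp G M x y s w) :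
    Nat.card (Subgroup.centralizer ({x * y * w} : Set G)) = 6 := by
  have hle : Subgroup.centralizer ({x * y * w} : Set G) ≤
      Subgroup.centralizer ({x * y} : Set G) := by
    have := cent_le_cent_pow (x * y * w) 4
    rwa [xyw_pow_four h] at this
  refine card_eq_six hle (Cfsg.Agent.Lib.Helper43_D72_CENT.card_cent h).2 (self_mem_cent _)
    (order_xyw h) (Cfsg.Agent.Lib.Helper43_D72_CENT.le_cent_xy h
      (Cfsg.Agent.Lib.Helper9_D72_CONJ.x_mem h)) ?_
  intro hx
  rw [Cfsg.Agent.Lib.Helper43_D72_CENT.mem_cent_singleton] at hx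
  have e1 : x * (x * y) * x⁻¹ = x * y := by
    calc x * (x * y) * x⁻¹ = x * (y * x) * x⁻¹ := by rw [h.comm]
      _ = x * y := by group
  have e2 : x * w * x⁻¹ = w := by
    have : x * (x * y * w) * x⁻¹ = (x * (x * y) * x⁻¹) * (x * w * x⁻¹) := by group
    rw [this, e1] at hx
    exact mul_left_cancel hx
  have e3 : w * x * w⁻¹ = x := by
    have : x * w = w * x := by
      calc x * w = (x * w * x⁻¹) * x := by group
        _ = w * x := by rw [e2]
    rw [← this, mul_inv_cancel_right]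
  rw [h.wx] at e3
  exact h.hne e3

theorem real_xs (h : Hyp G M x y s w) : IsConj (x * s) (x * s)⁻¹ := by
  obtain ⟨c, _, _, hcx, _, hcs, _⟩ := Cfsg.Agent.Lib.Helper8_D72_INV.inv_elt h
  refine isConj_iff.mpr ⟨c, ?_⟩
  have e : c * s * c⁻¹ = s := by rw [hcs, mul_inv_cancel_right]
  rw [Cfsg.Agent.Lib.Helper9_D72_CONJ.conj_mul, hcx, e, mul_inv_rev, s_inv h]
  exact ((comm_x_s h).inv_left).eq

theorem real_xyw (h : Hyp G M x y s w) : IsConj (x * y * w) (x * y * w)⁻¹ := by
  obtain ⟨c, _, _, hcx, hcy, _, hcw⟩ := Cfsg.Agent.Lib.Helper8_D72_INV.inv_elt h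
  refine isConj_iff.mpr ⟨c, ?_⟩
  have e : c * w * c⁻¹ = w := by rw [hcw, mul_inv_cancel_right]
  rw [Cfsg.Agent.Lib.Helper9_D72_CONJ.conj_mul, Cfsg.Agent.Lib.Helper9_D72_CONJ.conj_mul, hcx, hcy,
    e, mul_inv_rev (x * y), w_inv h]
  have e2 : x⁻¹ * y⁻¹ = (x * y)⁻¹ := by rw [mul_inv_rev, Cfsg.Agent.Lib.Helper9_D72_CONJ.comm_xi_yi h]
  rw [e2]
  exact ((comm_xy_w h).inv_left).eq

theorem not_conj6 (h : Hyp G M x y s w) : ¬ IsConj (x * s) (x * y * w) := by
  intro hc
  obtain ⟨g, hg⟩ := isConj_iff.mp hc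
  apply Cfsg.Agent.Lib.Helper9_D72_CONJ.not_conj h
  refine isConj_iff.mpr ⟨g, ?_⟩
  have : g * (x * s) ^ 4 * g⁻¹ = (g * (x * s) * g⁻¹) ^ 4 := by
    rw [conj_pow]
  rw [xs_pow_four h, hg, xyw_pow_four h] at this
  exact this

/-! ### ORD6 -/
theorem ord6 (h : Hyp G M x y s w) :
    orderOf (x * s) = 6 ∧ orderOf (x * y * w) = 6 ∧
    Nat.card (Subgroup.centralizer ({x * s} : Set G)) = 6 ∧
    Nat.card (Subgroup.centralizer ({x * y * w} : Set G)) = 6 ∧
    IsConj (x * s) (x * s)⁻¹ ∧ IsConj (x * y * w) (x * y * w)⁻¹ ∧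
    ¬ IsConj (x * s) (x * y * w) :=
  ⟨order_xs h, order_xyw h, card_cent_xs h, card_cent_xyw h, real_xs h, real_xyw h, not_conj6 h⟩

end grp

end Cfsg.Agent.Lib.Helper9_D72_ORD6
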