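import Mathlib

/-!
S3716 package SUMTOOL (helper9, for helper1): a finite sum whose summand vanishes outside a
distinguished index `o` and an injective family `idx k`.
-/

set_option autoImplicit false

namespace Cfsg.Agent.Lib.Helper9_D8_SUMTOOL

theorem sum_shape {I A : Type*} [Fintype I] [DecidableEq I] [AddCommMonoid A] (o : I) {n : ℕ}
    (idx : Fin n → I) (hinj : Function.Injective idx) (hno : ∀ k, idx k ≠ o) (F : I → A)
    (hF : ∀ i, i ≠ o → (∀ k, i ≠ idx k) → F i = 0) :
    ∑ i, F i = F o + ∑ k, F (idx k) := by
  classical
  set S : Finset I := insert o (Finset.univ.image idx) with hS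
  have hsub : ∑ i ∈ S, F i = ∑ i, F i := by
    apply Finset.sum_subset (Finset.subset_univ S)
    intro i _ hi
    apply hF
    · intro hio
      apply hi
      rw [hS, hio]
      exact Finset.mem_insert_self _ _
    · intro k hk
      apply hi
      rw [hS, hk]
      exact Finset.mem_insert_of_mem (Finset.mem_image_of_mem idx (Finset.mem_univ k))
  rw [← hsub, hS, Finset.sum_insert, Finset.sum_image]
  · intro x _ y _ hxy
    exact hinj hxy
  · intro ho
    obtain ⟨k, _, hk⟩ := Finset.mem_image.1 ho
    exact hno k hk

end Cfsg.Agent.Lib.Helper9_D8_SUMTOOL
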