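import Mathlib
import Cfsg.Agent.Lib.Helper94_FrmDefs2
import Cfsg.Agent.Lib.Helper9_S2151_CNT
import Cfsg.Agent.Lib.Helper14_PSULocal1
import Cfsg.Agent.Lib.Helper8_FR_Q2E
import Cfsg.Agent.Lib.Helper91_FR_RC

/-!
# S5655 FR market, package FR-Q2A (architect helper94, proof helper9)

`|F| = 4`: nonzero scalars have norm one, the skew scalars are `0, 1`, and the transvections with centre
`a • e i + b • e j` are monomial.
-/

set_option autoImplicit false
set_option linter.unusedSectionVars false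

namespace Cfsg.Agent.Lib.Helper9_FR_Q2A

open Module Cfsg.Agent.Lib.Helper94_Symp Cfsg.Agent.Lib.Helper94_Herm
  Cfsg.Agent.Lib.Helper13_PSUSimple Cfsg.Agent.Lib.Helper27_UQDefs
  Cfsg.Agent.Lib.Helper94_FrmDefs Cfsg.Agent.Lib.Helper94_UDDefs
  Cfsg.Agent.Lib.Helper94_FrmDefs2 Cfsg.Agent.Lib.Helper27_UQ_KISO
  Cfsg.Agent.Lib.Helper94_HermTrans

variable {F W : Type*} [Field F] [AddCommGroup W] [Module F W] [Finite F] [FiniteDimensional F W]
variable {σ : F →+* F} {B : W →ₗ[F] W →ₛₗ[σ] F}
variable {ι : Type*} [Fintype ι] [DecidableEq ι] {e : ι → W} {L : Subgroup (W ≃ₗ[F] W)}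

/-- the skew scalars of the field with four elements -/
theorem skew_of_card_four (hσ : Invol σ) (hF4 : Nat.card F = 4) (c : F) (hc : σ c = -c) :
    c = 0 ∨ c = 1 := by
  have h2 : (2 : F) = 0 := Cfsg.Agent.Lib.Helper8_FR_Q2E.two_eq_zero_of_card_four hF4
  by_cases h0 : c = 0
  · left; exact h0
  · right
    have h1 := Cfsg.Agent.Lib.Helper8_FR_Q2E.norm_eq_one_of_card_four hσ hF4 h0
    rw [hc] at h1
    have h3 : (c - 1) * (c - 1) = 0 := by linear_combination (-1 : F) * h1 - c * h2
    exact sub_eq_zero.mp (mul_self_eq_zero.mp h3)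

/-- FR-Q2A. -/
theorem Q2A (hC : FCtx B e L) (hF4 : Nat.card F = 4) :
    (∀ a : F, a ≠ 0 → a * σ a = 1) ∧ (∀ c : F, σ c = -c → c = 0 ∨ c = 1) ∧
    (∀ i j : ι, i ≠ j → ∀ a b : F, a ≠ 0 → b ≠ 0 → a • e i + b • e j ∈ UU B L) := by
  have hσ := hC.hσ
  have hB := hC.hB
  have he := hC.he
  have h2 : (2 : F) = 0 := Cfsg.Agent.Lib.Helper8_FR_Q2E.two_eq_zero_of_card_four hF4
  have hN : ∀ a : F, a ≠ 0 → a * σ a = 1 := fun a ha =>
    Cfsg.Agent.Lib.Helper8_FR_Q2E.norm_eq_one_of_card_four hσ hF4 ha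
  refine ⟨hN, skew_of_card_four hσ hF4, ?_⟩
  intro i j hij a b ha hb
  have hji : j ≠ i := hij.symm
  have huu : B (a • e i + b • e j) (a • e i + b • e j) = 0 := by
    simp only [map_add, map_smul, map_smulₛₗ, LinearMap.add_apply, LinearMap.smul_apply, smul_eq_mul,
      he.unit, he.orth i j hij, he.orth j i hji, mul_zero, mul_one, add_zero, zero_add]
    rw [mul_comm (σ a), mul_comm (σ b), hN a ha, hN b hb]
    linear_combination h2
  have hBi : B (e i) (a • e i + b • e j) = σ a := by
    simp only [map_add, map_smulₛₗ, smul_eq_mul, he.unit, he.orth i j hij, mul_zero, mul_one,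
      add_zero]
  have hBj : B (e j) (a • e i + b • e j) = σ b := by
    simp only [map_add, map_smulₛₗ, smul_eq_mul, he.unit, he.orth j i hji, mul_zero, mul_one,
      zero_add]
  have hBk : ∀ k, k ≠ i → k ≠ j → B (e k) (a • e i + b • e j) = 0 := by
    intro k hki hkj
    simp only [map_add, map_smulₛₗ, smul_eq_mul, he.orth k i hki, he.orth k j hkj, mul_zero,
      add_zero]
  refine ⟨huu, fun c hc => ?_⟩
  rcases skew_of_card_four hσ hF4 c hc with rfl | rfl
  · have h1 : utv B (a • e i + b • e j) 0 = 1 := by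
      ext x
      rw [utv_apply B huu]
      simp
    rw [h1]
    exact L.one_mem
  · apply hC.hML
    apply Cfsg.Agent.Lib.Helper91_FR_RC.mem_Mono_of_forall he (utv_mem_uG hB _ hc)
    intro k
    by_cases hki : k = i
    · subst hki
      refine ⟨j, σ a * b, ?_⟩
      rw [utv_apply B huu, one_mul, hBi]
      have hz : 1 + σ a * a = 0 := by
        rw [mul_comm, hN a ha]
        linear_combination h2
      calc e k + σ a • (a • e k + b • e j) = (1 + σ a * a) • e k + (σ a * b) • e j := by module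
        _ = (σ a * b) • e j := by rw [hz, zero_smul, zero_add]
    · by_cases hkj : k = j
      · subst hkj
        refine ⟨i, σ b * a, ?_⟩
        rw [utv_apply B huu, one_mul, hBj]
        have hz : 1 + σ b * b = 0 := by
          rw [mul_comm, hN b hb]
          linear_combination h2
        calc e k + σ b • (a • e i + b • e k) = (1 + σ b * b) • e k + (σ b * a) • e i := by module
          _ = (σ b * a) • e i := by rw [hz, zero_smul, zero_add]
      · refine ⟨k, 1, ?_⟩
        rw [utv_fix B _ 1 (hBk k hki hkj), one_smul]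

end Cfsg.Agent.Lib.Helper9_FR_Q2A
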