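import Mathlib
import Cfsg.Agent.Lib.Helper94_FrmDefs2
import Cfsg.Agent.Lib.Helper9_S2151_CNT
import Cfsg.Agent.Lib.Helper14_PSULocal1
import Cfsg.Agent.Lib.Helper8_FR_Q2E
import Cfsg.Agent.Lib.Helper91_FR_RC

/-!
# S5655 FR market, package FR-Q2C (architect helper94, proof helper9)

`|F| = 4`: a root vector with support of size at least six gives one with support of size four.
-/

set_option autoImplicit false
set_option linter.unusedSectionVars false

namespace Cfsg.Agent.Lib.Helper9_FR_Q2C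

open Module Cfsg.Agent.Lib.Helper94_Symp Cfsg.Agent.Lib.Helper94_Herm
  Cfsg.Agent.Lib.Helper13_PSUSimple Cfsg.Agent.Lib.Helper27_UQDefs
  Cfsg.Agent.Lib.Helper94_FrmDefs Cfsg.Agent.Lib.Helper94_UDDefs
  Cfsg.Agent.Lib.Helper94_FrmDefs2 Cfsg.Agent.Lib.Helper27_UQ_KISO
  Cfsg.Agent.Lib.Helper94_HermTrans

variable {F W : Type*} [Field F] [AddCommGroup W] [Module F W] [Finite F] [FiniteDimensional F W]
variable {σ : F →+* F} {B : W →ₗ[F] W →ₛₗ[σ] F}
variable {ι : Type*} [Fintype ι] [DecidableEq ι] {e : ι → W} {L : Subgroup (W ≃ₗ[F] W)}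

/-- a quasi-reflection with centre a frame vector -/
theorem qr_frame_apply (he : OFrame B e) (i : ι) {ζ : F} (hζ : ζ ≠ 0) (v : W) :
    qr B (e i) ζ v = v + ((ζ - 1) * B v (e i)) • e i := by
  rw [qr_apply B _ hζ, he.unit, inv_one, mul_one]

/-- a primitive cube root of unity in the field with four elements -/
theorem exists_omega (hF4 : Nat.card F = 4) : ∃ ω : F, ω ≠ 0 ∧ ω ≠ 1 ∧ ω ^ 2 + ω + 1 = 0 := by
  classical
  have : Fintype F := Fintype.ofFinite F
  have hF' : Fintype.card F = 4 := by rw [← Nat.card_eq_fintype_card]; exact hF4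
  have hex : ∃ ω : F, ω ≠ 0 ∧ ω ≠ 1 := by
    by_contra hcon
    push Not at hcon
    have hsub : (Finset.univ : Finset F) ⊆ {0, 1} := by
      intro x _
      by_cases hx : x = 0
      · simp [hx]
      · simp [hcon x hx]
    have := Finset.card_le_card hsub
    rw [Finset.card_univ, hF'] at this
    have h2 : ({0, 1} : Finset F).card ≤ 2 := Finset.card_le_two
    omega
  obtain ⟨ω, hω0, hω1⟩ := hex
  refine ⟨ω, hω0, hω1, ?_⟩
  have h3 := FiniteField.pow_card_sub_one_eq_one ω hω0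
  rw [hF'] at h3
  have h4 : (ω - 1) * (ω ^ 2 + ω + 1) = 0 := by
    have : ω ^ 3 = 1 := h3
    linear_combination this
  rcases mul_eq_zero.mp h4 with h | h
  · exact absurd (sub_eq_zero.mp h) hω1
  · exact h

/-- FR-Q2C. -/
theorem Q2C (hC : FCtx B e L) (hF4 : Nat.card F = 4) {u : W} (hu : u ∈ UU B L)
    (h6 : 6 ≤ (supp B e u).card) : ∃ u' ∈ UU B L, (supp B e u').card = 4 := by
  classical
  have hσ := hC.hσ
  have hB := hC.hB
  have he := hC.he
  have h2 : (2 : F) = 0 := Cfsg.Agent.Lib.Helper8_FR_Q2E.two_eq_zero_of_card_four hF4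
  have hN : ∀ a : F, a ≠ 0 → a * σ a = 1 := fun a ha =>
    Cfsg.Agent.Lib.Helper8_FR_Q2E.norm_eq_one_of_card_four hσ hF4 ha
  obtain ⟨ω, hω0, hω1, hω⟩ := exists_omega (F := F) hF4
  have hω20 : ω ^ 2 ≠ 0 := pow_ne_zero 2 hω0
  have hωm : ω ∈ mu1 σ := hN ω hω0
  have hω2m : ω ^ 2 ∈ mu1 σ := hN _ hω20
  have hz1 : ω - 1 ≠ 0 := sub_ne_zero.mpr hω1
  have hz2 : ω ^ 2 - 1 ≠ 0 := by
    intro h
    apply hω0
    linear_combination hω - h - h2
  -- four indices in the support
  obtain ⟨t, hts, htc⟩ := Finset.exists_subset_card_eq (s := supp B e u) (n := 4) (by omega)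
  obtain ⟨i1, t', hi1, rfl, ht'⟩ := Finset.card_eq_succ.mp htc
  obtain ⟨i2, i3, i4, h23, h24, h34, rfl⟩ := Finset.card_eq_three.mp ht'
  have h12 : i1 ≠ i2 := fun h => hi1 (by simp [h])
  have h13 : i1 ≠ i3 := fun h => hi1 (by simp [h])
  have h14 : i1 ≠ i4 := fun h => hi1 (by simp [h])
  have hu1 : B u (e i1) ≠ 0 := mem_supp.mp (hts (by simp))
  have hu2 : B u (e i2) ≠ 0 := mem_supp.mp (hts (by simp))
  have hu3 : B u (e i3) ≠ 0 := mem_supp.mp (hts (by simp))
  have hu4 : B u (e i4) ≠ 0 := mem_supp.mp (hts (by simp))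
  set c1 : F := (ω - 1) * B u (e i1) with hc1
  set c2 : F := (ω ^ 2 - 1) * B u (e i2) with hc2
  set c3 : F := (ω ^ 2 - 1) * B u (e i3) with hc3
  set c4 : F := (ω ^ 2 - 1) * B u (e i4) with hc4
  have hc10 : c1 ≠ 0 := mul_ne_zero hz1 hu1
  have hc20 : c2 ≠ 0 := mul_ne_zero hz2 hu2
  have hc30 : c3 ≠ 0 := mul_ne_zero hz2 hu3
  have hc40 : c4 ≠ 0 := mul_ne_zero hz2 hu4
  set v : W := c1 • e i1 + c2 • e i2 + c3 • e i3 + c4 • e i4 with hv
  set d : W ≃ₗ[F] W := qr B (e i1) ω * qr B (e i2) (ω ^ 2) * qr B (e i3) (ω ^ 2) *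
    qr B (e i4) (ω ^ 2) with hd
  have hdL : d ∈ L := by
    apply hC.hML
    exact (Mono B e).mul_mem ((Mono B e).mul_mem ((Mono B e).mul_mem
      (Cfsg.Agent.Lib.Helper91_FR_RC.qr_frame_mem_Mono hB he i1 hωm)
      (Cfsg.Agent.Lib.Helper91_FR_RC.qr_frame_mem_Mono hB he i2 hω2m))
      (Cfsg.Agent.Lib.Helper91_FR_RC.qr_frame_mem_Mono hB he i3 hω2m))
      (Cfsg.Agent.Lib.Helper91_FR_RC.qr_frame_mem_Mono hB he i4 hω2m)
  have hdu : d u = u + v := by
    rw [hd, hv, LinearEquiv.mul_apply, LinearEquiv.mul_apply, LinearEquiv.mul_apply,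
      qr_frame_apply he i4 hω20, qr_frame_apply he i3 hω20, qr_frame_apply he i2 hω20,
      qr_frame_apply he i1 hω0]
    simp only [map_add, map_smul, LinearMap.add_apply, LinearMap.smul_apply, smul_eq_mul,
      he.orth i4 i3 h34.symm, he.orth i4 i2 h24.symm, he.orth i4 i1 h14.symm,
      he.orth i3 i2 h23.symm, he.orth i3 i1 h13.symm, he.orth i2 i1 h12.symm, mul_zero, add_zero]
    rw [hc1, hc2, hc3, hc4]
    abel
  -- coordinates of `v`
  have hvk : ∀ k, B v (e k) = c1 * B (e i1) (e k) + c2 * B (e i2) (e k) + c3 * B (e i3) (e k) +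
      c4 * B (e i4) (e k) := by
    intro k
    rw [hv]
    simp only [map_add, map_smul, LinearMap.add_apply, LinearMap.smul_apply, smul_eq_mul]
  have hsupp : supp B e v = insert i1 {i2, i3, i4} := by
    ext k
    rw [mem_supp, hvk k]
    simp only [Finset.mem_insert, Finset.mem_singleton]
    by_cases hk1 : k = i1
    · subst hk1
      simp only [he.unit, he.orth i2 k h12.symm, he.orth i3 k h13.symm, he.orth i4 k h14.symm,
        mul_zero, mul_one, add_zero, true_or, iff_true]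
      exact hc10
    by_cases hk2 : k = i2
    · subst hk2
      simp only [he.unit, he.orth i1 k h12, he.orth i3 k h23.symm, he.orth i4 k h24.symm,
        mul_zero, mul_one, add_zero, zero_add, true_or, or_true, iff_true]
      exact hc20
    by_cases hk3 : k = i3
    · subst hk3
      simp only [he.unit, he.orth i1 k h13, he.orth i2 k h23, he.orth i4 k h34.symm,
        mul_zero, mul_one, add_zero, zero_add, true_or, or_true, iff_true]
      exact hc30
    by_cases hk4 : k = i4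
    · subst hk4
      simp only [he.unit, he.orth i1 k h14, he.orth i2 k h24, he.orth i3 k h34,
        mul_zero, mul_one, zero_add, or_true, iff_true]
      exact hc40
    · simp only [he.orth i1 k (Ne.symm hk1), he.orth i2 k (Ne.symm hk2),
        he.orth i3 k (Ne.symm hk3), he.orth i4 k (Ne.symm hk4), mul_zero, add_zero, hk1, hk2, hk3,
        hk4, or_self, ne_eq, not_true_eq_false]
  -- the value `B u v`
  have hnorm : ∀ i, B u (e i) ≠ 0 → σ (B u (e i)) * B u (e i) = 1 := by
    intro i hi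
    rw [mul_comm]
    exact hN _ hi
  have huv : B u v = 1 := by
    rw [hv]
    simp only [map_add, map_smulₛₗ, smul_eq_mul, hc1, hc2, hc3, hc4, map_mul]
    rw [mul_assoc, mul_assoc, mul_assoc, mul_assoc, hnorm i1 hu1, hnorm i2 hu2, hnorm i3 hu3,
      hnorm i4 hu4]
    simp only [mul_one]
    rw [← map_add, ← map_add, ← map_add]
    have : ω - 1 + (ω ^ 2 - 1) + (ω ^ 2 - 1) + (ω ^ 2 - 1) = 1 := by
      linear_combination 3 * hω - (ω + 4) * h2
    rw [this, map_one]
  have hne : B u (d u) ≠ 0 := by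
    rw [hdu, map_add, hu.1, zero_add, huv]
    exact one_ne_zero
  have hsum : u + d u = v := by
    rw [hdu]
    calc u + (u + v) = (2 : F) • u + v := by module
      _ = v := by rw [h2, zero_smul, zero_add]
  have hdUU : d u ∈ UU B L := UU_map hC.hLU hdL hu
  have hw : B (u + d u) (u + d u) = 0 := by
    have h1 : B (d u) u = 1 := by
      rw [hB u (d u), hdu, map_add, hu.1, zero_add, huv, map_one]
    have h3 : B u (d u) = 1 := by rw [hdu, map_add, hu.1, zero_add, huv]
    simp only [map_add, LinearMap.add_apply, hu.1, hdUU.1, h1, h3]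
    linear_combination h2
  refine ⟨v, ?_, ?_⟩
  · rw [← hsum]
    exact UU_add hσ hB hC.hLU hu hdUU hne hw
  · rw [hsupp]
    exact htc

end Cfsg.Agent.Lib.Helper9_FR_Q2C
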