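import Mathlib
import Cfsg.Agent.Lib.Helper55_CosetSign

/-!
Groups with an involution whose centralizer has order four, part (a).

* `sign_of_sq_eq_one`: the sign of an involutory permutation.
* `centralizer_eq_four`: the four elements of the centralizer.
* `exists_normal_index_two`: if moreover `8 ∣ |G|` then the involution lies outside a normal
  subgroup of index two (sign of the action on the cosets of the subgroup it generates).
-/

set_option autoImplicit false

namespace Cfsg.Agent.Lib.Helper9_FourCent

open Equiv Subgroup

/-- The sign of a permutation of order dividing two. -/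
theorem sign_of_sq_eq_one {α : Type*} [Fintype α] [DecidableEq α] (σ : Perm α) (hσ : σ ^ 2 = 1) :
    Perm.sign σ = (-1) ^ (σ.support.card / 2) := by
  have hall : ∀ n ∈ σ.cycleType, n = 2 := by
    intro n hn
    have h1 : n ∣ 2 := (Perm.dvd_of_mem_cycleType hn).trans (orderOf_dvd_of_pow_eq_one hσ)
    have h2 : 2 ≤ n := Perm.two_le_of_mem_cycleType hn
    exact Nat.le_antisymm (Nat.le_of_dvd (by norm_num) h1) h2
  have hrep : σ.cycleType = Multiset.replicate (Multiset.card σ.cycleType) 2 :=
    Multiset.eq_replicate.2 ⟨rfl, hall⟩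
  have hsum : σ.cycleType.sum = σ.support.card := Perm.sum_cycleType σ
  rw [hrep, Multiset.sum_replicate, smul_eq_mul] at hsum
  have hk : σ.support.card / 2 = Multiset.card σ.cycleType := by omega
  rw [hk, Perm.sign_of_cycleType]
  have hs2 : σ.cycleType.sum = Multiset.card σ.cycleType * 2 := by
    rw [hrep, Multiset.sum_replicate, smul_eq_mul, Multiset.card_replicate]
  rw [hs2, pow_add, pow_mul, Int.units_sq, one_mul]

variable {G : Type*} [Group G]

/-- The centralizer of an involution, if of order four, consists of `1, x, z, x z`. -/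
theorem centralizer_eq_four [Finite G] (x : G) (hx : orderOf x = 2)
    (hC4 : Nat.card (centralizer ({x} : Set G)) = 4) :
    ∃ z : G, z ∈ centralizer ({x} : Set G) ∧ z ≠ 1 ∧ z ≠ x ∧
      ∀ c ∈ centralizer ({x} : Set G), c = 1 ∨ c = x ∨ c = z ∨ c = x * z := by
  classical
  have hx1 : x ≠ 1 := by
    rintro rfl
    rw [orderOf_one] at hx
    omega
  have hxC : x ∈ centralizer ({x} : Set G) := by
    rw [mem_centralizer_iff]
    intro y hy
    rw [Set.mem_singleton_iff.1 hy]
  have hncard : (centralizer ({x} : Set G) : Set G).ncard = 4 := by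
    rw [← hC4]
    exact (Nat.card_coe_set_eq _).symm
  -- an element outside `{1, x}`
  have hex : ∃ z ∈ (centralizer ({x} : Set G) : Set G), z ∉ ({1, x} : Set G) := by
    by_contra hcon
    push Not at hcon
    have hsub : (centralizer ({x} : Set G) : Set G) ⊆ ({1, x} : Set G) := hcon
    have h1 := Set.ncard_le_ncard hsub (Set.toFinite _)
    have h2 : ({1, x} : Set G).ncard ≤ 2 := by
      have := Set.ncard_insert_le (1 : G) ({x} : Set G)
      rw [Set.ncard_singleton] at this
      exact this
    omega
  obtain ⟨z, hzC, hz⟩ := hex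
  have hz1 : z ≠ 1 := fun h => hz (by rw [h]; exact Set.mem_insert _ _)
  have hzx : z ≠ x := fun h => hz (by rw [h]; exact Set.mem_insert_of_mem _ rfl)
  refine ⟨z, hzC, hz1, hzx, ?_⟩
  have hxz : x * x = 1 := by rw [← pow_two, ← hx, pow_orderOf_eq_one]
  let S : Finset G := {1, x, z, x * z}
  have hScard : S.card = 4 := by
    have h1 : (1 : G) ∉ ({x, z, x * z} : Finset G) := by
      simp only [Finset.mem_insert, Finset.mem_singleton, not_or]
      refine ⟨fun h => hx1 h.symm, fun h => hz1 h.symm, fun h => ?_⟩
      apply hzx
      have : x * z = x * x := by rw [← h, hxz]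
      exact mul_left_cancel this
    have h2 : x ∉ ({z, x * z} : Finset G) := by
      simp only [Finset.mem_insert, Finset.mem_singleton, not_or]
      refine ⟨fun h => hzx h.symm, fun h => ?_⟩
      apply hz1
      have : x * z = x * 1 := by rw [← h, mul_one]
      exact mul_left_cancel this
    have h3 : z ∉ ({x * z} : Finset G) := by
      simp only [Finset.mem_singleton]
      intro h
      apply hx1
      have : 1 * z = x * z := by rw [one_mul]; exact h
      exact (mul_right_cancel this).symm
    rw [Finset.card_insert_of_notMem h1, Finset.card_insert_of_notMem h2,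
      Finset.card_insert_of_notMem h3, Finset.card_singleton]
  have hSsub : (S : Set G) ⊆ (centralizer ({x} : Set G) : Set G) := by
    intro c hc
    simp only [S, Finset.coe_insert, Finset.coe_singleton, Set.mem_insert_iff,
      Set.mem_singleton_iff] at hc
    rcases hc with rfl | rfl | rfl | rfl
    · exact one_mem _
    · exact hxC
    · exact hzC
    · exact mul_mem hxC hzC
  have hSeq : (S : Set G) = (centralizer ({x} : Set G) : Set G) := by
    apply Set.eq_of_subset_of_ncard_le hSsub _ (Set.toFinite _)
    rw [hncard, Set.ncard_coe_finset, hScard]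
  intro c hc
  have hcS : c ∈ (S : Set G) := by rw [hSeq]; exact hc
  simpa [S] using hcS

/-- If an involution `x` has a centralizer of order four and `8` divides the group order, then
`x` lies outside some normal subgroup of index two. -/
theorem exists_normal_index_two [Finite G] (x : G) (hx : orderOf x = 2)
    (hC4 : Nat.card (centralizer ({x} : Set G)) = 4) (h8 : 8 ∣ Nat.card G) :
    ∃ H : Subgroup G, H.Normal ∧ H.index = 2 ∧ x ∉ H := by
  classical
  obtain ⟨z, hzC, hz1, hzx, hall⟩ := centralizer_eq_four x hx hC4
  have hxx : x * x = 1 := by rw [← pow_two, ← hx, pow_orderOf_eq_one]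
  have hxinv : x⁻¹ = x := inv_eq_of_mul_eq_one_right hxx
  set K : Subgroup G := zpowers x with hK
  have hKcard : Nat.card K = 2 := by rw [hK, Nat.card_zpowers, hx]
  have hKmem : ∀ g : G, g ∈ K ↔ g = 1 ∨ g = x := by
    intro g
    rw [hK, mem_zpowers_iff]
    constructor
    · rintro ⟨k, rfl⟩
      rcases Int.emod_two_eq_zero_or_one k with h | h
      · left
        have : k = 2 * (k / 2) := by omega
        rw [this, zpow_mul, zpow_ofNat, pow_two, hxx, one_zpow]
      · right
        have : k = 2 * (k / 2) + 1 := by omega
        rw [this, zpow_add, zpow_mul, zpow_ofNat, pow_two, hxx, one_zpow, one_mul, zpow_one]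
    · rintro (rfl | rfl)
      · exact ⟨0, zpow_zero _⟩
      · exact ⟨1, zpow_one _⟩
  let _ : Fintype (G ⧸ K) := Fintype.ofFinite _
  set σ : Perm (G ⧸ K) := MulAction.toPermHom G (G ⧸ K) x with hσ
  have hσ2 : σ ^ 2 = 1 := by rw [hσ, ← map_pow, pow_two, hxx, map_one]
  -- the fixed points of `σ`
  have hzx' : z * x = x * z := ((mem_centralizer_iff.1 hzC) x rfl).symm
  have hfix1 : ∀ g : G, σ (g : G ⧸ K) = (g : G ⧸ K) ↔ g ∈ centralizer ({x} : Set G) := by
    intro g
    have hσg : σ (g : G ⧸ K) = ((x * g : G) : G ⧸ K) := rfl
    rw [hσg, QuotientGroup.eq, hKmem, mem_centralizer_iff]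
    have e : (x * g)⁻¹ * g = g⁻¹ * x * g := by rw [mul_inv_rev, hxinv]
    rw [e]
    constructor
    · intro h y hy
      rw [Set.mem_singleton_iff.1 hy]
      rcases h with h | h
      · exfalso
        have h' : x = 1 := by
          calc x = g * (g⁻¹ * x * g) * g⁻¹ := by group
            _ = 1 := by rw [h]; group
        rw [h', orderOf_one] at hx
        omega
      · calc x * g = g * (g⁻¹ * x * g) := by group
          _ = g * x := by rw [h]
    · intro h
      right
      have h' : x * g = g * x := h x rfl
      calc g⁻¹ * x * g = g⁻¹ * (x * g) := by group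
        _ = g⁻¹ * (g * x) := by rw [h']
        _ = x := by group
  have hfix2 : ∀ g : G, g ∈ centralizer ({x} : Set G) →
      (g : G ⧸ K) = ((1 : G) : G ⧸ K) ∨ (g : G ⧸ K) = ((z : G) : G ⧸ K) := by
    intro g hg
    rcases hall g hg with h | h | h | h
    · left; rw [h]
    · left
      rw [h, eq_comm, QuotientGroup.eq, hKmem]
      right
      rw [inv_one, one_mul]
    · right; rw [h]
    · right
      rw [h, eq_comm, QuotientGroup.eq, hKmem]
      right
      calc z⁻¹ * (x * z) = z⁻¹ * (z * x) := by rw [hzx']
        _ = x := by group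
  have hfix : ∀ q : G ⧸ K, σ q = q ↔ q = ((1 : G) : G ⧸ K) ∨ q = ((z : G) : G ⧸ K) := by
    intro q
    induction q using QuotientGroup.induction_on with
    | H g =>
      constructor
      · intro h
        exact hfix2 g ((hfix1 g).1 h)
      · rintro (h | h)
        · rw [h]; exact (hfix1 1).2 (one_mem _)
        · rw [h]; exact (hfix1 z).2 hzC
  have hne : ((1 : G) : G ⧸ K) ≠ ((z : G) : G ⧸ K) := by
    intro h
    rw [QuotientGroup.eq, hKmem] at h
    rcases h with h | h
    · apply hz1
      have := congrArg (fun t => t) h
      simpa using this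
    · exact hzx (by simpa using h)
  have hfixcard : (Finset.univ.filter (fun q : G ⧸ K => σ q = q)).card = 2 := by
    have : Finset.univ.filter (fun q : G ⧸ K => σ q = q) =
        {((1 : G) : G ⧸ K), ((z : G) : G ⧸ K)} := by
      ext q
      simp only [Finset.mem_filter, Finset.mem_univ, true_and, Finset.mem_insert,
        Finset.mem_singleton]
      exact hfix q
    rw [this, Finset.card_insert_of_notMem (by simpa using hne), Finset.card_singleton]
  have hsupp : σ.support.card + 2 = Fintype.card (G ⧸ K) := by
    have h1 := Finset.card_filter_add_card_filter_not (s := (Finset.univ : Finset (G ⧸ K)))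
      (fun q : G ⧸ K => σ q = q)
    rw [hfixcard, Finset.card_univ] at h1
    have h2 : σ.support = Finset.univ.filter (fun q : G ⧸ K => ¬ σ q = q) := by
      ext q
      simp [Perm.mem_support]
    rw [h2]
    omega
  have hcardq : Fintype.card (G ⧸ K) * 2 = Nat.card G := by
    have := Subgroup.card_eq_card_quotient_mul_card_subgroup K
    rw [hKcard, Nat.card_eq_fintype_card (α := G ⧸ K)] at this
    exact this.symm
  have hodd : Odd (σ.support.card / 2) := by
    obtain ⟨m, hm⟩ := h8
    have : σ.support.card = 4 * m - 2 := by omega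
    have hm1 : 1 ≤ m := by
      rcases Nat.eq_zero_or_pos m with h | h
      · subst h
        have : 0 < Nat.card G := Nat.card_pos
        omega
      · exact h
    refine ⟨m - 1, ?_⟩
    omega
  have hsign : Perm.sign σ = -1 := by
    rw [sign_of_sq_eq_one σ hσ2]
    exact hodd.neg_one_pow
  let ψ : G →* ℤˣ := (Perm.sign).comp (MulAction.toPermHom G (G ⧸ K))
  have hψ : ψ x = -1 := hsign
  refine ⟨ψ.ker, inferInstance,
    Cfsg.Agent.Lib.Helper55_CosetSign.index_ker_of_apply_eq_neg_one ψ x hψ, ?_⟩
  rw [MonoidHom.mem_ker, hψ]
  decide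

end Cfsg.Agent.Lib.Helper9_FourCent
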