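import Mathlib
import Cfsg.Agent.Lib.Helper9_FourCentA

/-!
Groups with an involution whose centralizer has order four, part (b): if `x` lies outside a
normal subgroup `H` of index two and `x` is conjugate to `x z` (`z` in the centralizer of `x`),
then every involution of `H` commutes with `z`, and the normal closure of `z` is an elementary
abelian normal subgroup of order two or four.
-/

set_option autoImplicit false

namespace Cfsg.Agent.Lib.Helper9_FourCent

open Subgroup

variable {G : Type*} [Group G]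

/-- The centralizer of a conjugate has the same order (inequality form). -/
theorem card_centralizer_conj_le [Finite G] (g x : G) :
    Nat.card (centralizer ({g * x * g⁻¹} : Set G)) ≤ Nat.card (centralizer ({x} : Set G)) := by
  let f : centralizer ({g * x * g⁻¹} : Set G) → centralizer ({x} : Set G) := fun c =>
    ⟨g⁻¹ * c.1 * g, by
      rw [mem_centralizer_iff]
      intro y hy
      rw [Set.mem_singleton_iff.1 hy]
      have h := (mem_centralizer_iff.1 c.2) (g * x * g⁻¹) rfl
      calc x * (g⁻¹ * c.1 * g) = g⁻¹ * ((g * x * g⁻¹) * c.1) * g := by group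
        _ = g⁻¹ * (c.1 * (g * x * g⁻¹)) * g := by rw [h]
        _ = g⁻¹ * c.1 * g * x := by group⟩
  have hf : Function.Injective f := by
    intro a b hab
    have h : g⁻¹ * a.1 * g = g⁻¹ * b.1 * g := congrArg Subtype.val hab
    apply Subtype.ext
    calc a.1 = g * (g⁻¹ * a.1 * g) * g⁻¹ := by group
      _ = g * (g⁻¹ * b.1 * g) * g⁻¹ := by rw [h]
      _ = b.1 := by group
  exact Nat.card_le_card_of_injective f hf

/-- Key lemma: every involution of `H` commutes with `z`. -/
theorem commute_of_mem_index_two [Finite G] (x z g : G) (hx : orderOf x = 2)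
    (hzC : z ∈ centralizer ({x} : Set G))
    (hall : ∀ c ∈ centralizer ({x} : Set G), c = 1 ∨ c = x ∨ c = z ∨ c = x * z)
    (H : Subgroup G) [hN : H.Normal] (hH : H.index = 2) (hxH : x ∉ H)
    (hg : g * x * g⁻¹ = x * z) (u : G) (huH : u ∈ H) (hu : u * u = 1) : u * z = z * u := by
  have hxx : x * x = 1 := by rw [← pow_two, ← hx, pow_orderOf_eq_one]
  have hxinv : x⁻¹ = x := inv_eq_of_mul_eq_one_right hxx
  have huinv : u⁻¹ = u := inv_eq_of_mul_eq_one_right hu
  have hzx : z * x = x * z := ((mem_centralizer_iff.1 hzC) x rfl).symm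
  have hxC : x ∈ centralizer ({x} : Set G) := by
    rw [mem_centralizer_iff]
    intro y hy
    rw [Set.mem_singleton_iff.1 hy]
  -- `x z ∉ H`, `z ∈ H`
  have hxzH : x * z ∉ H := by
    intro h
    apply hxH
    have := hN.conj_mem (x * z) h g⁻¹
    rw [← hg] at this
    have e : g⁻¹ * (g * x * g⁻¹) * g⁻¹⁻¹ = x := by group
    rwa [e] at this
  have hzH : z ∈ H := by
    by_contra hz
    apply hxzH
    rw [mul_mem_iff_of_index_two hH]
    exact ⟨fun h => absurd h hxH, fun h => absurd h hz⟩
  -- elements of `C(x) ∩ H`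
  have hCH : ∀ c ∈ centralizer ({x} : Set G), c ∈ H → c = 1 ∨ c = z := by
    intro c hc hcH
    rcases hall c hc with h | h | h | h
    · exact Or.inl h
    · exact absurd (h ▸ hcH) hxH
    · exact Or.inr h
    · exact absurd (h ▸ hcH) hxzH
  -- `C(x z) = C(x)`
  have hCeq : centralizer ({x} : Set G) = centralizer ({x * z} : Set G) := by
    apply Subgroup.eq_of_le_of_card_ge
    · intro c hc
      rw [mem_centralizer_iff]
      intro y hy
      rw [Set.mem_singleton_iff.1 hy]
      have h1 : x * c = c * x := (mem_centralizer_iff.1 hc) x rfl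
      rcases hall c hc with h | h | h | h
      · rw [h, one_mul, mul_one]
      · rw [h]
        calc x * z * x = x * (z * x) := by group
          _ = x * (x * z) := by rw [hzx]
      · rw [h]
        calc x * z * z = (z * x) * z := by rw [hzx]
          _ = z * (x * z) := by group
      · rw [h]
    · rw [← hg]
      exact card_centralizer_conj_le g x
  -- the element `u` of `C(x) ∩ H` commutes with `z`
  have hfin : u ∈ centralizer ({x} : Set G) → u * z = z * u := by
    intro huC
    rcases hCH u huC huH with h | h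
    · rw [h, one_mul, mul_one]
    · rw [h]
  -- the dihedral argument
  set y : G := u * x with hy
  have hyH : y ∉ H := by
    rw [hy, mul_mem_iff_of_index_two hH]
    exact fun h => hxH (h.1 huH)
  have hpar : ∀ j : ℕ, y ^ j ∈ H ↔ Even j := by
    intro j
    induction j with
    | zero => simp
    | succ j ih =>
      rw [pow_succ, mul_mem_iff_of_index_two hH, ih, Nat.even_add_one]
      constructor
      · intro h he
        exact hyH (h.1 he)
      · intro h
        exact ⟨fun he => absurd he h, fun hy' => absurd hy' hyH⟩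
  have hm0 : 0 < orderOf y := orderOf_pos y
  have hmeven : Even (orderOf y) := by
    rw [← hpar, pow_orderOf_eq_one]
    exact one_mem _
  obtain ⟨k, hk⟩ := hmeven
  have hk1 : 1 ≤ k := by omega
  set w : G := y ^ k with hw
  have hw1 : w ≠ 1 := by
    apply pow_ne_one_of_lt_orderOf (by omega)
    omega
  have hww : w * w = 1 := by
    rw [hw, ← pow_add, ← hk, pow_orderOf_eq_one]
  have hwinv : w⁻¹ = w := inv_eq_of_mul_eq_one_right hww
  have hxy : x * y * x⁻¹ = y⁻¹ := by
    rw [hy, mul_inv_rev, hxinv, huinv]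
    calc x * (u * x) * x = x * u * (x * x) := by group
      _ = x * u := by rw [hxx, mul_one]
  have huy : u * y * u⁻¹ = y⁻¹ := by
    rw [hy, mul_inv_rev, hxinv, huinv]
    calc u * (u * x) * u = (u * u) * x * u := by group
      _ = x * u := by rw [hu, one_mul]
  have hxw : x * w * x⁻¹ = w := by
    rw [hw, ← conj_pow, hxy, inv_pow, ← hw, hwinv]
  have huw : u * w * u⁻¹ = w := by
    rw [hw, ← conj_pow, huy, inv_pow, ← hw, hwinv]
  have huw' : u * w = w * u := by
    calc u * w = (u * w * u⁻¹) * u := by group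
      _ = w * u := by rw [huw]
  have hwC : w ∈ centralizer ({x} : Set G) := by
    rw [mem_centralizer_iff]
    intro t ht
    rw [Set.mem_singleton_iff.1 ht]
    calc x * w = (x * w * x⁻¹) * x := by group
      _ = w * x := by rw [hxw]
  rcases hall w hwC with h | h | h | h
  · exact absurd h hw1
  · -- `w = x`
    apply hfin
    rw [mem_centralizer_iff]
    intro t ht
    rw [Set.mem_singleton_iff.1 ht, ← h]
    exact huw'.symm
  · rw [← h]; exact huw'
  · -- `w = x z`
    apply hfin
    rw [hCeq, mem_centralizer_iff]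
    intro t ht
    rw [Set.mem_singleton_iff.1 ht, ← h]
    exact huw'.symm

/-- The normal closure of `z` is elementary abelian of order two or four. -/
theorem exists_normal_elementary [Finite G] (x z g : G) (hx : orderOf x = 2)
    (hCe : ∀ c ∈ centralizer ({x} : Set G), c ^ 2 = 1)
    (hzC : z ∈ centralizer ({x} : Set G)) (hz1 : z ≠ 1)
    (hall : ∀ c ∈ centralizer ({x} : Set G), c = 1 ∨ c = x ∨ c = z ∨ c = x * z)
    (H : Subgroup G) [hN : H.Normal] (hH : H.index = 2) (hxH : x ∉ H)
    (hg : g * x * g⁻¹ = x * z) :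
    ∃ E : Subgroup G, E.Normal ∧ IsMulCommutative E ∧ (∀ a ∈ E, a ^ 2 = 1) ∧
      (Nat.card E = 2 ∨ Nat.card E = 4) := by
  have hxx : x * x = 1 := by rw [← pow_two, ← hx, pow_orderOf_eq_one]
  have hxinv : x⁻¹ = x := inv_eq_of_mul_eq_one_right hxx
  have hzz : z * z = 1 := by rw [← pow_two]; exact hCe z hzC
  have hzx : z * x = x * z := ((mem_centralizer_iff.1 hzC) x rfl).symm
  have hxzH : x * z ∉ H := by
    intro h
    apply hxH
    have := hN.conj_mem (x * z) h g⁻¹
    rw [← hg] at this
    have e : g⁻¹ * (g * x * g⁻¹) * g⁻¹⁻¹ = x := by group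
    rwa [e] at this
  have hzH : z ∈ H := by
    by_contra hz
    apply hxzH
    rw [mul_mem_iff_of_index_two hH]
    exact ⟨fun h => absurd h hxH, fun h => absurd h hz⟩
  have hCH : ∀ c ∈ centralizer ({x} : Set G), c ∈ H → c = 1 ∨ c = z := by
    intro c hc hcH
    rcases hall c hc with h | h | h | h
    · exact Or.inl h
    · exact absurd (h ▸ hcH) hxH
    · exact Or.inr h
    · exact absurd (h ▸ hcH) hxzH
  -- conjugates of `z` commute with `z`
  have hconj : ∀ h : G, (h * z * h⁻¹) * z = z * (h * z * h⁻¹) := by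
    intro h
    apply commute_of_mem_index_two x z g hx hzC hall H hH hxH hg
    · exact hN.conj_mem z hzH h
    · calc h * z * h⁻¹ * (h * z * h⁻¹) = h * (z * z) * h⁻¹ := by group
        _ = 1 := by rw [hzz]; group
  set S : Set G := Group.conjugatesOfSet ({z} : Set G) with hS
  have hSmem : ∀ a ∈ S, ∃ h : G, a = h * z * h⁻¹ := by
    intro a ha
    rw [hS, Group.mem_conjugatesOfSet_iff] at ha
    obtain ⟨b, hb, hba⟩ := ha
    rw [Set.mem_singleton_iff.1 hb, isConj_iff] at hba
    obtain ⟨c, hc⟩ := hba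
    exact ⟨c, hc.symm⟩
  have hScomm : ∀ a ∈ S, ∀ b ∈ S, a * b = b * a := by
    intro a ha b hb
    obtain ⟨h1, rfl⟩ := hSmem a ha
    obtain ⟨h2, rfl⟩ := hSmem b hb
    have := hconj (h2⁻¹ * h1)
    calc h1 * z * h1⁻¹ * (h2 * z * h2⁻¹)
        = h2 * ((h2⁻¹ * h1) * z * (h2⁻¹ * h1)⁻¹ * z) * h2⁻¹ := by group
      _ = h2 * (z * ((h2⁻¹ * h1) * z * (h2⁻¹ * h1)⁻¹)) * h2⁻¹ := by rw [this]
      _ = h2 * z * h2⁻¹ * (h1 * z * h1⁻¹) := by group
  set E : Subgroup G := normalClosure ({z} : Set G) with hE
  have hEcl : E = closure S := rfl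
  have hEcomm : IsMulCommutative E := by
    rw [hEcl]
    exact Subgroup.isMulCommutative_closure hScomm
  have hEc : ∀ a ∈ E, ∀ b ∈ E, a * b = b * a := by
    intro a ha b hb
    have := hEcomm.is_comm.comm ⟨a, ha⟩ ⟨b, hb⟩
    exact congrArg Subtype.val this
  have hEexp : ∀ a ∈ E, a * a = 1 := by
    intro a ha
    rw [hEcl] at ha
    induction ha using closure_induction with
    | mem a ha =>
      obtain ⟨h, rfl⟩ := hSmem a ha
      calc h * z * h⁻¹ * (h * z * h⁻¹) = h * (z * z) * h⁻¹ := by group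
        _ = 1 := by rw [hzz]; group
    | one => rw [one_mul]
    | mul a b ha hb iha ihb =>
      have hab : a * b = b * a := hEc a (by rw [hEcl]; exact ha) b (by rw [hEcl]; exact hb)
      calc a * b * (a * b) = a * (b * a) * b := by group
        _ = a * (a * b) * b := by rw [hab]
        _ = (a * a) * (b * b) := by group
        _ = 1 := by rw [iha, ihb, one_mul]
    | inv a ha iha =>
      calc a⁻¹ * a⁻¹ = (a * a)⁻¹ := by group
        _ = 1 := by rw [iha, inv_one]
  have hEH : E ≤ H := normalClosure_le_normal (by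
    intro a ha
    rw [Set.mem_singleton_iff.1 ha]
    exact hzH)
  have hzE : z ∈ E := subset_normalClosure (Set.mem_singleton z)
  have hEnormal : E.Normal := normalClosure_normal
  -- the homomorphism `e ↦ e * (x e x⁻¹)`
  have hmemf : ∀ e : E, e.1 * (x * e.1 * x⁻¹) ∈ E := fun e =>
    E.mul_mem e.2 (hEnormal.conj_mem e.1 e.2 x)
  let f : E →* E :=
    { toFun := fun e => ⟨e.1 * (x * e.1 * x⁻¹), hmemf e⟩
      map_one' := by
        apply Subtype.ext
        show (1 : G) * (x * 1 * x⁻¹) = 1
        group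
      map_mul' := by
        intro a b
        apply Subtype.ext
        show (a.1 * b.1) * (x * (a.1 * b.1) * x⁻¹) = (a.1 * (x * a.1 * x⁻¹)) * (b.1 * (x * b.1 * x⁻¹))
        have h1 : b.1 * (x * a.1 * x⁻¹) = (x * a.1 * x⁻¹) * b.1 :=
          hEc b.1 b.2 _ (hEnormal.conj_mem a.1 a.2 x)
        calc (a.1 * b.1) * (x * (a.1 * b.1) * x⁻¹)
            = a.1 * (b.1 * (x * a.1 * x⁻¹)) * (x * b.1 * x⁻¹) := by group
          _ = a.1 * ((x * a.1 * x⁻¹) * b.1) * (x * b.1 * x⁻¹) := by rw [h1]
          _ = (a.1 * (x * a.1 * x⁻¹)) * (b.1 * (x * b.1 * x⁻¹)) := by group }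
  have hfval : ∀ e : E, (f e).1 = e.1 * (x * e.1 * x⁻¹) := fun e => rfl
  -- values of `f` lie in `C(x) ∩ H`
  have hfC : ∀ e : E, (f e).1 = 1 ∨ (f e).1 = z := by
    intro e
    apply hCH
    · rw [mem_centralizer_iff]
      intro t ht
      rw [Set.mem_singleton_iff.1 ht, hfval]
      have h1 : e.1 * (x * e.1 * x⁻¹) = (x * e.1 * x⁻¹) * e.1 :=
        hEc e.1 e.2 _ (hEnormal.conj_mem e.1 e.2 x)
      calc x * (e.1 * (x * e.1 * x⁻¹)) = (x * e.1 * x⁻¹) * (x * x) * e.1 * x⁻¹ := by group
        _ = (x * e.1 * x⁻¹) * e.1 * x⁻¹ := by rw [hxx, mul_one]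
        _ = (e.1 * (x * e.1 * x⁻¹)) * x⁻¹ := by rw [h1]
        _ = e.1 * (x * e.1 * x⁻¹) * x := by rw [hxinv]
    · exact hEH (f e).2
  -- the kernel of `f` lies in `C(x) ∩ H`
  have hker : ∀ e : E, e ∈ f.ker → e.1 = 1 ∨ e.1 = z := by
    intro e he
    rw [MonoidHom.mem_ker] at he
    have h1 : e.1 * (x * e.1 * x⁻¹) = 1 := by
      have := congrArg Subtype.val he
      rwa [hfval] at this
    have hee : e.1 * e.1 = 1 := hEexp e.1 e.2
    have h2 : x * e.1 * x⁻¹ = e.1 := by
      have : e.1 * (x * e.1 * x⁻¹) = e.1 * e.1 := by rw [h1, hee]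
      exact mul_left_cancel this
    apply hCH _ _ (hEH e.2)
    rw [mem_centralizer_iff]
    intro t ht
    rw [Set.mem_singleton_iff.1 ht]
    calc x * e.1 = (x * e.1 * x⁻¹) * x := by group
      _ = e.1 * x := by rw [h2]
  -- cardinalities
  have hz2 : orderOf z = 2 := orderOf_eq_prime (by rw [pow_two]; exact hzz) hz1
  have hcardZ : Nat.card (zpowers z) = 2 := by rw [Nat.card_zpowers, hz2]
  have hzmem : ∀ a : G, (a = 1 ∨ a = z) → a ∈ zpowers z := by
    rintro a (rfl | rfl)
    · exact one_mem _
    · exact mem_zpowers _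
  have hkercard : Nat.card f.ker ≤ 2 := by
    rw [← hcardZ]
    let ι : f.ker → zpowers z := fun e => ⟨e.1.1, hzmem _ (hker e.1 e.2)⟩
    apply Nat.card_le_card_of_injective ι
    intro a b hab
    have : (ι a).1 = (ι b).1 := congrArg Subtype.val hab
    exact Subtype.ext (Subtype.ext this)
  have hrangecard : Nat.card f.range ≤ 2 := by
    rw [← hcardZ]
    let ι : f.range → zpowers z := fun e => ⟨e.1.1, by
      obtain ⟨e', he'⟩ := e.2
      rw [← he']
      exact hzmem _ (hfC e')⟩
    apply Nat.card_le_card_of_injective ι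
    intro a b hab
    have : (ι a).1 = (ι b).1 := congrArg Subtype.val hab
    exact Subtype.ext (Subtype.ext this)
  have hcardE : Nat.card E = Nat.card f.ker * Nat.card f.range := by
    rw [← Subgroup.index_ker, Subgroup.card_mul_index]
  have hEle : Nat.card E ≤ 4 := by
    rw [hcardE]
    calc Nat.card f.ker * Nat.card f.range ≤ 2 * 2 := Nat.mul_le_mul hkercard hrangecard
      _ = 4 := by norm_num
  -- `E` is a `2`-group containing `z`
  have hpg : IsPGroup 2 E := by
    intro e
    refine ⟨1, ?_⟩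
    apply Subtype.ext
    rw [pow_one, pow_two]
    exact hEexp e.1 e.2
  obtain ⟨n, hn⟩ := IsPGroup.iff_card.1 hpg
  have h2dvd : 2 ∣ Nat.card E := by
    have := Subgroup.card_dvd_of_le ((zpowers_le (H := E)).2 hzE)
    rwa [hcardZ] at this
  refine ⟨E, hEnormal, hEcomm, ?_, ?_⟩
  · intro a ha
    rw [pow_two]
    exact hEexp a ha
  · rw [hn] at hEle h2dvd ⊢
    have hn2 : n ≤ 2 := by
      by_contra hcon
      push Not at hcon
      have : 2 ^ 3 ≤ 2 ^ n := Nat.pow_le_pow_right (by norm_num) hcon
      omega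
    interval_cases n
    · norm_num at h2dvd
    · left; norm_num
    · right; norm_num

end Cfsg.Agent.Lib.Helper9_FourCent
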