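import Mathlib
import Cfsg.Prelude.Def_Transfer
import Cfsg.Agent.Lib.Helper9_FourCentB
import Cfsg.Agent.S1230
import Cfsg.Agent.S0252

/-!
Groups with an involution whose centralizer is elementary abelian of order four, part (c):
the two cases (`8 ∣ |G|`, and Sylow `2`-subgroups of order four) and the final theorem.
-/

set_option autoImplicit false

namespace Cfsg.Agent.Lib.Helper9_FourCent

open Subgroup

variable {G : Type*} [Group G]

theorem fact_prime_two_h9 : Fact (Nat.Prime 2) := ⟨Nat.prime_two⟩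

/-- A subgroup of exponent two is commutative. -/
theorem comm_of_sq_eq_one (K : Subgroup G) (h : ∀ c ∈ K, c ^ 2 = 1) :
    ∀ a ∈ K, ∀ b ∈ K, a * b = b * a := by
  intro a ha b hb
  have h1 : a * a = 1 := by rw [← pow_two]; exact h a ha
  have h2 : b * b = 1 := by rw [← pow_two]; exact h b hb
  have h3 : (a * b) * (a * b) = 1 := by rw [← pow_two]; exact h _ (K.mul_mem ha hb)
  calc a * b = (b * b) * (a * b) * (a * a) := by rw [h1, h2, one_mul, mul_one]
    _ = b * (b * a) * (b * a) * a := by group
    _ = b * ((b * a) * (b * a)) * a := by group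
    _ = b * a := by
      have h4 : (b * a) * (b * a) = 1 := by
        calc (b * a) * (b * a) = b * ((a * b) * (a * b)) * b⁻¹ := by group
          _ = 1 := by rw [h3]; group
      rw [h4, mul_one]

/-- The case `8 ∣ |G|` is impossible. -/
theorem false_of_eight_dvd [Finite G] (x : G) (hx : orderOf x = 2)
    (hC4 : Nat.card (centralizer ({x} : Set G)) = 4)
    (hCe : ∀ c ∈ centralizer ({x} : Set G), c ^ 2 = 1)
    (hne : ∀ E : Subgroup G, E.Normal → Cfsg.IsElementaryAbelian 2 E →
      Nat.card E ≠ 2 ∧ Nat.card E ≠ 4)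
    (h8 : 8 ∣ Nat.card G) : False := by
  have := fact_prime_two_h9
  obtain ⟨z, hzC, hz1, hzx, hall⟩ := centralizer_eq_four x hx hC4
  have hxx : x * x = 1 := by rw [← pow_two, ← hx, pow_orderOf_eq_one]
  have hxinv : x⁻¹ = x := inv_eq_of_mul_eq_one_right hxx
  have hx1 : x ≠ 1 := by
    rintro rfl
    rw [orderOf_one] at hx
    omega
  have hxC : x ∈ centralizer ({x} : Set G) := by
    rw [mem_centralizer_iff]
    intro y hy
    rw [Set.mem_singleton_iff.1 hy]
  have hzz : z * z = 1 := by rw [← pow_two]; exact hCe z hzC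
  have hzx' : z * x = x * z := ((mem_centralizer_iff.1 hzC) x rfl).symm
  -- a Sylow `2`-subgroup containing `C(x)`
  have hpg : IsPGroup 2 (centralizer ({x} : Set G)) := IsPGroup.of_card (n := 2) (by rw [hC4]; norm_num)
  obtain ⟨T, hle⟩ := hpg.exists_le_sylow
  have hTcard : 8 ≤ Nat.card T := by
    rw [T.card_eq_multiplicity]
    have h3 : 3 ≤ (Nat.card G).factorization 2 := by
      have h0 : Nat.card G ≠ 0 := Nat.card_pos.ne'
      have : 2 ^ 3 ∣ Nat.card G := by norm_num; exact h8
      exact (Nat.Prime.pow_dvd_iff_le_factorization Nat.prime_two h0).1 this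
    calc 8 = 2 ^ 3 := by norm_num
      _ ≤ 2 ^ (Nat.card G).factorization 2 := Nat.pow_le_pow_right (by norm_num) h3
  -- the normalizer condition in `T`
  have hnil : Group.IsNilpotent (T : Subgroup G) := T.isPGroup'.isNilpotent
  set V' : Subgroup (T : Subgroup G) := (centralizer ({x} : Set G)).subgroupOf (T : Subgroup G)
    with hV'
  have hV'card : Nat.card V' = 4 := by
    rw [hV', Nat.card_congr (Subgroup.subgroupOfEquivOfLe hle).toEquiv, hC4]
  have hV'lt : V' < ⊤ := by
    rw [lt_top_iff_ne_top]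
    intro h
    rw [h, Subgroup.card_top] at hV'card
    omega
  have hncond := Group.normalizerCondition_of_isNilpotent (G := (T : Subgroup G)) V' hV'lt
  obtain ⟨g, hgN, hgV⟩ := SetLike.exists_of_lt hncond
  have hgC : (g : G) ∉ centralizer ({x} : Set G) := by
    intro h
    exact hgV (Subgroup.mem_subgroupOf.2 h)
  have hxT : x ∈ (T : Subgroup G) := hle hxC
  have hw : (g : G) * x * (g : G)⁻¹ ∈ centralizer ({x} : Set G) := by
    have h1 : (⟨x, hxT⟩ : (T : Subgroup G)) ∈ V' := Subgroup.mem_subgroupOf.2 hxC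
    have h2 := (Subgroup.mem_normalizer_iff.1 hgN ⟨x, hxT⟩).1 h1
    exact Subgroup.mem_subgroupOf.1 h2
  -- the conjugate `w` of `x` is `z` or `x z`
  have key : ∀ z' : G, z' ∈ centralizer ({x} : Set G) → z' ≠ 1 →
      (∀ c ∈ centralizer ({x} : Set G), c = 1 ∨ c = x ∨ c = z' ∨ c = x * z') →
      (g : G) * x * (g : G)⁻¹ = x * z' → False := by
    intro z' hz'C hz'1 hall' hg
    obtain ⟨H, hHn, hH2, hxH⟩ := exists_normal_index_two x hx hC4 h8
    obtain ⟨E, hEn, hEc, hEe, hEcard⟩ :=
      exists_normal_elementary x z' (g : G) hx hCe hz'C hz'1 hall' H hH2 hxH hg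
    have := hne E hEn ⟨hEc, hEe⟩
    rcases hEcard with h | h
    · exact this.1 h
    · exact this.2 h
  rcases hall _ hw with h | h | h | h
  · -- `g x g⁻¹ = 1`
    apply hx1
    calc x = (g : G)⁻¹ * ((g : G) * x * (g : G)⁻¹) * (g : G) := by group
      _ = 1 := by rw [h]; group
  · -- `g x g⁻¹ = x`
    apply hgC
    rw [mem_centralizer_iff]
    intro y hy
    rw [Set.mem_singleton_iff.1 hy]
    calc x * (g : G) = ((g : G) * x * (g : G)⁻¹) * (g : G) := by rw [h]
      _ = (g : G) * x := by group
  · -- `g x g⁻¹ = z = x (x z)`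
    refine key (x * z) (mul_mem hxC hzC) ?_ ?_ ?_
    · intro h'
      apply hzx
      calc z = x⁻¹ * (x * z) := by group
        _ = x := by rw [h', mul_one, hxinv]
    · intro c hc
      have e : x * (x * z) = z := by rw [← mul_assoc, hxx, one_mul]
      rw [e]
      rcases hall c hc with h' | h' | h' | h'
      · exact Or.inl h'
      · exact Or.inr (Or.inl h')
      · exact Or.inr (Or.inr (Or.inr h'))
      · exact Or.inr (Or.inr (Or.inl h'))
    · rw [h, ← mul_assoc, hxx, one_mul]
  · exact key z hzC hz1 hall h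

/-- The case where the centralizer of `x` is a Sylow `2`-subgroup. -/
theorem iso_of_sylow_eq_centralizer [Finite G] (x : G) (hx : orderOf x = 2)
    (hC4 : Nat.card (centralizer ({x} : Set G)) = 4)
    (hCe : ∀ c ∈ centralizer ({x} : Set G), c ^ 2 = 1)
    (hnc : ¬ Cfsg.HasNormalPComplement 2 G)
    (hne : ∀ E : Subgroup G, E.Normal → Cfsg.IsElementaryAbelian 2 E →
      Nat.card E ≠ 2 ∧ Nat.card E ≠ 4)
    (T : Sylow 2 G) (hT : (T : Subgroup G) = centralizer ({x} : Set G)) :
    Nonempty (G ≃* alternatingGroup (Fin 5)) := by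
  have := fact_prime_two_h9
  obtain ⟨z, hzC, hz1, hzx, hall⟩ := centralizer_eq_four x hx hC4
  have hxx : x * x = 1 := by rw [← pow_two, ← hx, pow_orderOf_eq_one]
  have hxinv : x⁻¹ = x := inv_eq_of_mul_eq_one_right hxx
  have hx1 : x ≠ 1 := by
    rintro rfl
    rw [orderOf_one] at hx
    omega
  have hxC : x ∈ centralizer ({x} : Set G) := by
    rw [mem_centralizer_iff]
    intro y hy
    rw [Set.mem_singleton_iff.1 hy]
  have hzz : z * z = 1 := by rw [← pow_two]; exact hCe z hzC
  have hzx' : z * x = x * z := ((mem_centralizer_iff.1 hzC) x rfl).symm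
  have hcomm := comm_of_sq_eq_one _ hCe
  have hTcard : Nat.card T = 4 := by
    rw [← hC4]
    exact Nat.card_congr (Equiv.setCongr (congrArg SetLike.coe hT))
  -- `N(T)` is not contained in `C(T)`
  have hNC : ¬ (normalizer ((T : Subgroup G) : Set G) ≤ centralizer ((T : Subgroup G) : Set G)) := by
    intro hP
    apply hnc
    exact ⟨T, (MonoidHom.transferSylow T hP).ker, inferInstance,
      MonoidHom.ker_transferSylow_isComplement' T hP⟩
  obtain ⟨g, hgN, hgC⟩ := SetLike.not_le_iff_exists.1 hNC
  -- `g` does not commute with `x`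
  have hgx : (g * x * g⁻¹) ≠ x := by
    intro h
    apply hgC
    have hgCx : g ∈ centralizer ({x} : Set G) := by
      rw [mem_centralizer_iff]
      intro y hy
      rw [Set.mem_singleton_iff.1 hy]
      calc x * g = (g * x * g⁻¹) * g := by rw [h]
        _ = g * x := by group
    rw [mem_centralizer_iff]
    intro t ht
    have ht' : t ∈ centralizer ({x} : Set G) := by rw [← hT]; exact ht
    exact hcomm t ht' g hgCx
  have hconjT : ∀ t ∈ centralizer ({x} : Set G), g * t * g⁻¹ ∈ centralizer ({x} : Set G) := by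
    intro t ht
    rw [← hT] at ht ⊢
    exact (Subgroup.mem_normalizer_iff.1 hgN t).1 ht
  -- a `2`-element of `N(T)` lies in `T`
  have hsyl : ∀ k : G, k ∈ normalizer ((T : Subgroup G) : Set G) → k ^ 4 = 1 → k ∈ (T : Subgroup G) := by
    intro k hkN hk4
    have hord : orderOf k ∣ 2 ^ 2 := by
      have : orderOf k ∣ 4 := orderOf_dvd_of_pow_eq_one hk4
      simpa using this
    obtain ⟨j, _, hj⟩ := (Nat.dvd_prime_pow Nat.prime_two).1 hord
    have hpk : IsPGroup 2 (zpowers k) := IsPGroup.of_card (n := j) (by rw [Nat.card_zpowers, hj])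
    have h1 := hpk.inf_normalizer_sylow T
    have h2 : k ∈ zpowers k ⊓ normalizer (T : Set G) := ⟨mem_zpowers k, hkN⟩
    rw [h1] at h2
    exact h2.2
  -- the cycle lemma
  have cycle : ∀ z' : G, z' ∈ centralizer ({x} : Set G) → z' ≠ 1 → z' ≠ x →
      (∀ c ∈ centralizer ({x} : Set G), c = 1 ∨ c = x ∨ c = z' ∨ c = x * z') →
      g * x * g⁻¹ = z' → ∃ g' : G, g' * x * g'⁻¹ = x * z' := by
    intro z' hz'C hz'1 hz'x hall' hg
    have hb := hconjT z' hz'C
    rcases hall' _ hb with h | h | h | h
    · exfalso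
      apply hz'1
      calc z' = g⁻¹ * (g * z' * g⁻¹) * g := by group
        _ = 1 := by rw [h]; group
    · -- `g` swaps `x` and `z'`
      exfalso
      have hgg : (g * g) * x * (g * g)⁻¹ = x := by
        calc (g * g) * x * (g * g)⁻¹ = g * (g * x * g⁻¹) * g⁻¹ := by group
          _ = x := by rw [hg, h]
      have hggC : g * g ∈ centralizer ({x} : Set G) := by
        rw [mem_centralizer_iff]
        intro y hy
        rw [Set.mem_singleton_iff.1 hy]
        calc x * (g * g) = ((g * g) * x * (g * g)⁻¹) * (g * g) := by rw [hgg]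
          _ = (g * g) * x := by group
      have hg4 : g ^ 4 = 1 := by
        have := hCe _ hggC
        calc g ^ 4 = (g * g) ^ 2 := by rw [← pow_two, ← pow_mul]
          _ = 1 := this
      have hgT : g ∈ centralizer ({x} : Set G) := by
        rw [← hT]; exact hsyl g hgN hg4
      apply hgx
      have := (mem_centralizer_iff.1 hgT) x rfl
      calc g * x * g⁻¹ = (x * g) * g⁻¹ := by rw [this]
        _ = x := by group
    · exfalso
      apply hz'x
      have : g * z' * g⁻¹ = g * x * g⁻¹ := by rw [h, hg]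
      have h2 : g * z' = g * x := by
        have := congrArg (fun t => t * g) this
        simpa using this
      exact mul_left_cancel h2
    · refine ⟨g * g, ?_⟩
      calc (g * g) * x * (g * g)⁻¹ = g * (g * x * g⁻¹) * g⁻¹ := by group
        _ = x * z' := by rw [hg, h]
  -- `x` is conjugate to `z` and to `x z`
  have hxz1 : x * z ≠ 1 := by
    intro h'
    apply hzx
    calc z = x⁻¹ * (x * z) := by group
      _ = x := by rw [h', mul_one, hxinv]
  have hxzx : x * z ≠ x := by
    intro h'
    apply hz1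
    have : x * z = x * 1 := by rw [h', mul_one]
    exact mul_left_cancel this
  have hexz : x * (x * z) = z := by rw [← mul_assoc, hxx, one_mul]
  have hall2 : ∀ c ∈ centralizer ({x} : Set G), c = 1 ∨ c = x ∨ c = x * z ∨ c = x * (x * z) := by
    intro c hc
    rw [hexz]
    rcases hall c hc with h' | h' | h' | h'
    · exact Or.inl h'
    · exact Or.inr (Or.inl h')
    · exact Or.inr (Or.inr (Or.inr h'))
    · exact Or.inr (Or.inr (Or.inl h'))
  have hconj : (∃ g1 : G, g1 * x * g1⁻¹ = z) ∧ ∃ g2 : G, g2 * x * g2⁻¹ = x * z := by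
    rcases hall _ (hconjT x hxC) with h | h | h | h
    · exfalso
      apply hx1
      calc x = g⁻¹ * (g * x * g⁻¹) * g := by group
        _ = 1 := by rw [h]; group
    · exact absurd h hgx
    · exact ⟨⟨g, h⟩, cycle z hzC hz1 hzx hall h⟩
    · obtain ⟨g', hg'⟩ := cycle (x * z) (mul_mem hxC hzC) hxz1 hxzx hall2 h
      rw [hexz] at hg'
      exact ⟨⟨g', hg'⟩, ⟨g, h⟩⟩
  obtain ⟨⟨g1, hg1⟩, ⟨g2, hg2⟩⟩ := hconj
  -- every involution is conjugate to `x`
  have hinv : ∀ t : G, orderOf t = 2 → ∃ k : G, t = k * x * k⁻¹ := by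
    intro t ht
    have hpt : IsPGroup 2 (zpowers t) := IsPGroup.of_card (n := 1) (by rw [Nat.card_zpowers, ht, pow_one])
    obtain ⟨Q, hQ⟩ := hpt.exists_le_sylow
    obtain ⟨h, hh⟩ := MulAction.exists_smul_eq G Q T
    have htQ : t ∈ (Q : Subgroup G) := hQ (mem_zpowers t)
    have hmem : h * t * h⁻¹ ∈ (T : Subgroup G) := by
      rw [← hh, Sylow.coe_subgroup_smul, Subgroup.mem_pointwise_smul_iff_inv_smul_mem,
        MulAut.smul_def, MulAut.conj_inv_apply]
      have : h⁻¹ * (h * t * h⁻¹) * h = t := by group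
      rw [this]
      exact htQ
    rw [hT] at hmem
    have ht1 : t ≠ 1 := by
      rintro rfl
      rw [orderOf_one] at ht
      omega
    rcases hall _ hmem with h' | h' | h' | h'
    · exfalso
      apply ht1
      calc t = h⁻¹ * (h * t * h⁻¹) * h := by group
        _ = 1 := by rw [h']; group
    · refine ⟨h⁻¹, ?_⟩
      rw [inv_inv]
      calc t = h⁻¹ * (h * t * h⁻¹) * h := by group
        _ = h⁻¹ * x * h := by rw [h']
    · refine ⟨h⁻¹ * g1, ?_⟩
      calc t = h⁻¹ * (h * t * h⁻¹) * h := by group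
        _ = h⁻¹ * (g1 * x * g1⁻¹) * h := by rw [h', hg1]
        _ = h⁻¹ * g1 * x * (h⁻¹ * g1)⁻¹ := by group
    · refine ⟨h⁻¹ * g2, ?_⟩
      calc t = h⁻¹ * (h * t * h⁻¹) * h := by group
        _ = h⁻¹ * (g2 * x * g2⁻¹) * h := by rw [h', hg2]
        _ = h⁻¹ * g2 * x * (h⁻¹ * g2)⁻¹ := by group
  -- the centralizer of every involution is elementary abelian
  have hCIT : ∀ t : G, orderOf t = 2 →
      IsMulCommutative (Subgroup.centralizer ({t} : Set G)) ∧
        ∀ c ∈ Subgroup.centralizer ({t} : Set G), c ^ 2 = 1 := by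
    intro t ht
    obtain ⟨k, rfl⟩ := hinv t ht
    have hexp : ∀ c ∈ Subgroup.centralizer ({k * x * k⁻¹} : Set G), c ^ 2 = 1 := by
      intro c hc
      have hc' : k⁻¹ * c * k ∈ centralizer ({x} : Set G) := by
        rw [mem_centralizer_iff]
        intro y hy
        rw [Set.mem_singleton_iff.1 hy]
        have h := (mem_centralizer_iff.1 hc) (k * x * k⁻¹) rfl
        calc x * (k⁻¹ * c * k) = k⁻¹ * ((k * x * k⁻¹) * c) * k := by group
          _ = k⁻¹ * (c * (k * x * k⁻¹)) * k := by rw [h]
          _ = k⁻¹ * c * k * x := by group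
      have h2 := hCe _ hc'
      calc c ^ 2 = k * (k⁻¹ * c * k) ^ 2 * k⁻¹ := by
            rw [pow_two, pow_two]; group
        _ = 1 := by rw [h2]; group
    refine ⟨?_, hexp⟩
    rw [← Subgroup.le_centralizer_iff_isMulCommutative]
    intro a ha
    rw [mem_centralizer_iff]
    intro b hb
    exact comm_of_sq_eq_one _ hexp b hb a ha
  -- apply the Brauer--Suzuki--Wall theorem
  have hTnc : ¬ IsCyclic (T : Subgroup G) := by
    intro hcyc
    obtain ⟨⟨a, haT⟩, ha⟩ := hcyc.exists_generator
    have hord : orderOf (⟨a, haT⟩ : (T : Subgroup G)) = Nat.card (T : Subgroup G) :=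
      orderOf_eq_card_of_forall_mem_zpowers ha
    rw [hTcard] at hord
    have ha2 : a ^ 2 = 1 := hCe a (by rw [← hT]; exact haT)
    have : (⟨a, haT⟩ : (T : Subgroup G)) ^ 2 = 1 := Subtype.ext ha2
    have := orderOf_dvd_of_pow_eq_one this
    rw [hord] at this
    omega
  have hTnn : ¬ (T : Subgroup G).Normal := by
    intro hn
    have hel : Cfsg.IsElementaryAbelian 2 (T : Subgroup G) := by
      refine ⟨?_, ?_⟩
      · rw [← Subgroup.le_centralizer_iff_isMulCommutative]
        intro a ha
        rw [mem_centralizer_iff]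
        intro b hb
        rw [SetLike.mem_coe, hT] at hb
        rw [hT] at ha
        exact hcomm b hb a ha
      · intro a ha
        rw [hT] at ha
        exact hCe a ha
    exact (hne _ hn hel).2 hTcard
  obtain ⟨F, hF1, hF2, hFcard, ⟨e⟩⟩ := Cfsg.Agent.S1230.result T hTnc hTnn hCIT
  rw [hTcard] at hFcard
  obtain ⟨e2⟩ := Cfsg.Agent.S0252.result (F := F) hFcard
  exact ⟨e.trans e2⟩

/-- A finite group with an involution whose centralizer is elementary abelian of order four,
without normal `2`-complement and without normal elementary abelian subgroups of order two or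
four, is isomorphic to the alternating group of degree five. -/
theorem main [Finite G] (x : G) (hx : orderOf x = 2)
    (hC4 : Nat.card (centralizer ({x} : Set G)) = 4)
    (hCe : ∀ c ∈ centralizer ({x} : Set G), c ^ 2 = 1)
    (hnc : ¬ Cfsg.HasNormalPComplement 2 G)
    (hne : ∀ E : Subgroup G, E.Normal → Cfsg.IsElementaryAbelian 2 E →
      Nat.card E ≠ 2 ∧ Nat.card E ≠ 4) :
    Nonempty (G ≃* alternatingGroup (Fin 5)) := by
  have := fact_prime_two_h9
  by_cases h8 : 8 ∣ Nat.card G
  · exact (false_of_eight_dvd x hx hC4 hCe hne h8).elim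
  · have hpg : IsPGroup 2 (centralizer ({x} : Set G)) :=
      IsPGroup.of_card (n := 2) (by rw [hC4]; norm_num)
    obtain ⟨T, hle⟩ := hpg.exists_le_sylow
    obtain ⟨n, hn⟩ := IsPGroup.iff_card.1 T.isPGroup'
    have h4 : 4 ∣ Nat.card T := by
      rw [← hC4]
      exact Subgroup.card_dvd_of_le hle
    have hdvd : Nat.card T ∣ Nat.card G := Subgroup.card_subgroup_dvd_card _
    have hTcard : Nat.card T = 4 := by
      rw [hn] at h4 hdvd ⊢
      have hn3 : n < 3 := by
        by_contra hcon
        push Not at hcon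
        apply h8
        exact (pow_dvd_pow 2 hcon).trans hdvd
      interval_cases n
      · norm_num at h4
      · norm_num at h4
      · norm_num
    have hT : (T : Subgroup G) = centralizer ({x} : Set G) := by
      symm
      apply Subgroup.eq_of_le_of_card_ge hle
      rw [hC4, hTcard]
    exact iso_of_sylow_eq_centralizer x hx hC4 hCe hnc hne T hT

end Cfsg.Agent.Lib.Helper9_FourCent
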