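import Mathlib

/-!
# Lie ring structures on direct sums (helper9)

A biadditive bracket on a direct sum `⨁ k, A k` which satisfies the Lie ring identities on
homogeneous elements makes the direct sum a Lie ring.
-/

set_option autoImplicit false
set_option linter.unusedSectionVars false
set_option linter.style.haveILetI false
set_option linter.unusedSimpArgs false
set_option linter.unusedVariables false

namespace Cfsg.Agent.Lib.Helper9_GrLie

open DirectSum

universe u

variable {A : ℕ → Type u} [∀ k, AddCommGroup (A k)]

/-- a biadditive bracket on a direct sum satisfying the Lie identities on homogeneous elements -/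
structure GrLie (A : ℕ → Type u) [∀ k, AddCommGroup (A k)] where
  B : (⨁ k, A k) →+ (⨁ k, A k) →+ (⨁ k, A k)
  self : ∀ (i : ℕ) (a : A i), B (of A i a) (of A i a) = 0
  skew : ∀ (i j : ℕ) (a : A i) (b : A j), B (of A i a) (of A j b) + B (of A j b) (of A i a) = 0
  jac : ∀ (i j k : ℕ) (a : A i) (b : A j) (c : A k),
    B (of A i a) (B (of A j b) (of A k c)) =
      B (B (of A i a) (of A j b)) (of A k c) + B (of A j b) (B (of A i a) (of A k c))

variable (D : GrLie A)

theorem GrLie.skew_all (x y : ⨁ k, A k) : D.B x y + D.B y x = 0 := by
  induction x using DirectSum.induction_on with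
  | zero => simp
  | of i a =>
    induction y using DirectSum.induction_on with
    | zero => simp
    | of j b => exact D.skew i j a b
    | add y₁ y₂ h₁ h₂ =>
      rw [map_add, map_add, AddMonoidHom.add_apply]
      calc D.B (of A i a) y₁ + D.B (of A i a) y₂ + (D.B y₁ (of A i a) + D.B y₂ (of A i a))
          = (D.B (of A i a) y₁ + D.B y₁ (of A i a)) + (D.B (of A i a) y₂ + D.B y₂ (of A i a)) := by
            abel
        _ = 0 := by rw [h₁, h₂, add_zero]
  | add x₁ x₂ h₁ h₂ =>
    rw [map_add, map_add, AddMonoidHom.add_apply]
    calc D.B x₁ y + D.B x₂ y + (D.B y x₁ + D.B y x₂)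
        = (D.B x₁ y + D.B y x₁) + (D.B x₂ y + D.B y x₂) := by abel
      _ = 0 := by rw [h₁, h₂, add_zero]

theorem GrLie.self_all (x : ⨁ k, A k) : D.B x x = 0 := by
  induction x using DirectSum.induction_on with
  | zero => simp
  | of i a => exact D.self i a
  | add x₁ x₂ h₁ h₂ =>
    rw [map_add, map_add, AddMonoidHom.add_apply, AddMonoidHom.add_apply, h₁, h₂]
    have := D.skew_all x₁ x₂
    calc (0 : ⨁ k, A k) + D.B x₂ x₁ + (D.B x₁ x₂ + 0) = D.B x₁ x₂ + D.B x₂ x₁ := by abel
      _ = 0 := this

theorem GrLie.jac_all (x y z : ⨁ k, A k) :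
    D.B x (D.B y z) = D.B (D.B x y) z + D.B y (D.B x z) := by
  induction x using DirectSum.induction_on with
  | zero => simp
  | of i a =>
    induction y using DirectSum.induction_on with
    | zero => simp
    | of j b =>
      induction z using DirectSum.induction_on with
      | zero => simp
      | of k c => exact D.jac i j k a b c
      | add z₁ z₂ h₁ h₂ =>
        simp only [map_add, h₁, h₂]
        abel
    | add y₁ y₂ h₁ h₂ =>
      simp only [map_add, AddMonoidHom.add_apply, h₁, h₂]
      abel
  | add x₁ x₂ h₁ h₂ =>
    simp only [map_add, AddMonoidHom.add_apply, h₁, h₂]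
    abel

/-- the total space, as a type synonym carrying the Lie ring structure -/
def GrLie.Total (_D : GrLie A) : Type u := ⨁ k, A k

noncomputable instance : AddCommGroup D.Total := inferInstanceAs (AddCommGroup (⨁ k, A k))

noncomputable instance : LieRing D.Total where
  bracket x y := D.B x y
  add_lie x y z := by
    have h : ∀ x y z : ⨁ k, A k, D.B (x + y) z = D.B x z + D.B y z := fun x y z => by
      rw [map_add, AddMonoidHom.add_apply]
    exact h x y z
  lie_add x y z := by
    have h : ∀ x y z : ⨁ k, A k, D.B x (y + z) = D.B x y + D.B x z := fun x y z => by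
      rw [map_add]
    exact h x y z
  lie_self x := D.self_all x
  leibniz_lie x y z := D.jac_all x y z

/-- the identity map to the total space -/
def GrLie.toTotal : (⨁ k, A k) →+ D.Total := AddMonoidHom.id _

theorem GrLie.lie_def (x y : D.Total) : ⁅x, y⁆ = D.B x y := rfl

end Cfsg.Agent.Lib.Helper9_GrLie
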