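import Mathlib
import Cfsg.Agent.Lib.Helper9_GrossDefs
import Cfsg.Agent.Lib.Helper84_Gross_GG1
import Cfsg.Agent.Lib.Helper47_Gross_GG2
import Cfsg.Agent.Lib.Helper47_Gross_GG3
import Cfsg.Agent.Lib.Helper47_Gross_GG4
import Cfsg.Agent.Lib.Helper73_Gross_GG5
import Cfsg.Agent.Lib.Helper73_Gross_GFROB
import Cfsg.Agent.Lib.Helper64_ShultAut
import Cfsg.Agent.Lib.Helper71_HHBGroup

/-!
# Gross' theorem: a `q`-group acting on an `r₁`-group inside `Aut V` (helper9)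

`gross_lin`: `V` elementary abelian `r`-group, `τ` a fixed-point-free automorphism with
`τ ^ 2 ^ (N+1) = 1`, `Q` a `q`-subgroup and `R` an `r₁`-subgroup of `Aut V`, both normalised by
`τ`, `Q` normalising `R`, `τ` centralising no non-identity element of `R`.  Then
`[Q, τ ^ 2 ^ N]` centralises `R`.
-/

set_option autoImplicit false
set_option linter.unusedSectionVars false
set_option linter.unusedVariables false
set_option maxHeartbeats 1000000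

namespace Cfsg.Agent.Lib.Helper9_GrossLin

open Cfsg.Agent.Lib.Helper9_GrossDefs Cfsg.Agent.Lib.Helper64_ShultAut
  Cfsg.Agent.Lib.Helper71_HHBGroup
open scoped commutatorElement

universe u

theorem final_arith (q r₁ m t d' : ℕ) (hq : 3 ≤ q) (hr : 2 ≤ r₁) (hm : 1 < m)
    (hmd : m = r₁ ^ d') (ht : t = 1 ∨ t = r₁ ^ 2)
    (h : (m ^ 2) ^ (q + 1) = t ^ (2 * q)) : False := by
  rcases ht with rfl | rfl
  · rw [one_pow] at h
    have h1 : m ^ 2 = 1 := by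
      rcases (pow_eq_one_iff (M := ℕ) (n := q + 1)).1 h with h' | h'
      · exact h'
      · omega
    have h2 : m = 1 := by
      rcases (pow_eq_one_iff (M := ℕ) (n := 2)).1 h1 with h' | h'
      · exact h'
      · omega
    omega
  · subst hmd
    rw [← pow_mul, ← pow_mul, ← pow_mul] at h
    have h1 := Nat.pow_right_injective hr h
    have hd' : 1 ≤ d' := by
      rcases Nat.eq_zero_or_pos d' with h0 | h0
      · rw [h0, pow_zero] at hm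
        omega
      · exact h0
    rcases Nat.lt_or_ge d' 2 with h2 | h2
    · have : d' = 1 := by omega
      subst this
      omega
    · have : 2 * (q + 1) ≤ d' * (q + 1) := Nat.mul_le_mul_right _ h2
      nlinarith

theorem relIndex_mul_card' {G : Type*} [Group G] [Finite G] (H K : Subgroup G) (h : H ≤ K) :
    H.relIndex K * Nat.card H = Nat.card K := by
  have h1 := Subgroup.relIndex_mul_index h
  have h2 := H.card_mul_index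
  have h3 := K.card_mul_index
  have h4 : 0 < K.index := Nat.pos_of_ne_zero Subgroup.FiniteIndex.index_ne_zero
  apply Nat.eq_of_mul_eq_mul_right h4
  calc H.relIndex K * Nat.card H * K.index = Nat.card H * (H.relIndex K * K.index) := by ring
    _ = Nat.card H * H.index := by rw [h1]
    _ = Nat.card G := h2
    _ = Nat.card K * K.index := h3.symm

/-- conjugating a commutator -/
theorem conj_comm_eq {G : Type*} [Group G] (g a b : G) :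
    ⁅g * a * g⁻¹, b⁆ = g * ⁅a, g⁻¹ * b * g⁆ * g⁻¹ := by
  simp only [commutatorElement_def]
  group

/-- The statement of package GU (`gross_upper`) at universe `u`. -/
def UpperHyp : Prop :=
  ∀ (r₁ q : ℕ) [Fact r₁.Prime] [Fact q.Prime] (hq2 : q ≠ 2) (hqr : q ≠ r₁)
    (R : Type u) [CommGroup R] [Finite R] (hR : ∀ v : R, v ^ r₁ = 1)
    (x : MulAut R) (N : ℕ) (hx : x ^ 2 ^ (N + 1) = 1) (hfixR : ∀ v, x v = v → v = 1)
    (Q : Type u) [Group Q] [Finite Q] (hQ : IsPGroup q Q) (ψ : Q →* MulAut R) (α : MulAut Q)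
    (hαψ : ∀ g, x * ψ g * x⁻¹ = ψ (α g))
    (hmoved : ∃ g, ¬ Commute (x ^ 2 ^ N) (ψ g))
    (hmin : ∀ T : Subgroup Q, (∀ g ∈ T, α g ∈ T) → T ≠ ⊤ → ∀ g ∈ T, Commute (x ^ 2 ^ N) (ψ g))
    (hPfix : ∀ v : R, (∀ g, ψ g v = v) → v = 1)
    (A : Subgroup R) (hAP : ∀ g, ∀ a ∈ A, ψ g a ∈ A) (hAy : ∀ a ∈ A, (x ^ 2 ^ N) a ∈ A)
    (B : Subgroup R) (hB : ∀ v, v ∈ B ↔ (x ^ 2 ^ N) v * v ∈ A),
    A.index ^ (q + 1) = (A.relIndex B) ^ (2 * q)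

/-- The statement of package GL (`gross_lower`) at universe `u`. -/
def LowerHyp : Prop :=
  ∀ (r r₁ : ℕ) [Fact r.Prime] [Fact r₁.Prime] (hr₁2 : r₁ ≠ 2) (hr₁r : r₁ ≠ r)
    (V : Type u) [CommGroup V] [Finite V] (hV : ∀ v : V, v ^ r = 1)
    (τ : MulAut V) (N : ℕ) (hτ : τ ^ 2 ^ (N + 1) = 1) (hfixV : ∀ v, τ v = v → v = 1)
    (R₁ F ET C : Subgroup (MulAut V)) (hR₁ : IsPGroup r₁ R₁)
    (hτR₁ : ∀ a ∈ R₁, τ * a * τ⁻¹ ∈ R₁) (hFR : F ≤ R₁) (hτF : ∀ f ∈ F, τ * f * τ⁻¹ ∈ F)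
    (hFc : ∀ f ∈ F, ∀ a ∈ R₁, Commute f a) (hcomm : ∀ a ∈ R₁, ∀ b ∈ R₁, ⁅a, b⁆ ∈ F)
    (hnab : ∃ a ∈ R₁, ∃ b ∈ R₁, ⁅a, b⁆ ≠ 1)
    (hET : ∀ a, a ∈ ET ↔ a ∈ R₁ ∧ τ ^ 2 ^ N * a * (τ ^ 2 ^ N)⁻¹ * a ∈ F)
    (hCR : C ≤ R₁) (hETC : ∀ e ∈ ET, ∀ c ∈ C, Commute e c)
    (hprod : ∀ a ∈ R₁, ∃ e ∈ ET, ∃ c ∈ C, a = e * c),
    ∃ K₀ : Subgroup (MulAut V), K₀ ≤ F ∧ ∃ A : Subgroup (MulAut V),
      (∀ a, a ∈ A ↔ a ∈ R₁ ∧ ∀ b ∈ R₁, ⁅a, b⁆ ∈ K₀) ∧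
      (∃ m : ℕ, 1 < m ∧ Nat.card R₁ = Nat.card A * m ^ 2) ∧
      (Nat.card ET = Nat.card (ET ⊓ A : Subgroup (MulAut V)) ∨
        Nat.card ET = Nat.card (ET ⊓ A : Subgroup (MulAut V)) * r₁ ^ 2)

/-- `gross_lin`, given the upper-level count (GU) and the lower-level count (GL). -/
theorem gross_lin_of (hU : UpperHyp.{u}) (hL : LowerHyp.{u})
    {r r₁ q : ℕ} [Fact r.Prime] [Fact r₁.Prime] [Fact q.Prime] (hq2 : q ≠ 2)
    (hr₁2 : r₁ ≠ 2) (hqr₁ : q ≠ r₁) (hr₁r : r₁ ≠ r)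
    {V : Type u} [CommGroup V] [Finite V] (hV : ∀ v : V, v ^ r = 1)
    (τ : MulAut V) (N : ℕ) (hτ : τ ^ 2 ^ (N + 1) = 1) (hfixV : ∀ v, τ v = v → v = 1)
    (Q R : Subgroup (MulAut V)) (hQ : IsPGroup q Q) (hR : IsPGroup r₁ R)
    (hτQ : ∀ g ∈ Q, τ * g * τ⁻¹ ∈ Q) (hτR : ∀ a ∈ R, τ * a * τ⁻¹ ∈ R)
    (hQR : ∀ g ∈ Q, ∀ a ∈ R, g * a * g⁻¹ ∈ R)
    (hfixR : ∀ a ∈ R, τ * a * τ⁻¹ = a → a = 1) :
    ∀ g ∈ Q, ∀ a ∈ R, Commute (τ ^ 2 ^ N * g * (τ ^ 2 ^ N)⁻¹ * g⁻¹) a := by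
  classical
  have hqp : q.Prime := Fact.out
  have hrp : r.Prime := Fact.out
  have hr₁p : r₁.Prime := Fact.out
  have hfinA : Finite (MulAut V) := Finite.of_injective (fun f : MulAut V => (f : V → V))
    (fun f g h => MulEquiv.ext (fun v => congrFun h v))
  by_contra hcon
  push Not at hcon
  obtain ⟨Q₁, R₁, hQ₁Q, hR₁R, cfg⟩ := Helper84_Gross_GG1.exists_gcfg q r₁ N τ hτ Q R hQ hR hτQ hτR hQR hcon
  obtain ⟨τ₀, hτ₀def⟩ : ∃ τ₀ : MulAut V, τ₀ = τ ^ 2 ^ N := ⟨_, rfl⟩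
  have hτ₀2 : τ₀ ^ 2 = 1 := by
    rw [hτ₀def, ← pow_mul, ← pow_succ, hτ]
  have hττ₀ : Commute τ τ₀ := by
    rw [hτ₀def]
    exact (Commute.refl τ).pow_right _
  have hτ₀inv : τ₀⁻¹ = τ₀ := by
    have : τ₀ * τ₀ = 1 := by rw [← sq, hτ₀2]
    exact inv_eq_of_mul_eq_one_left this
  obtain ⟨F, hFdef⟩ : ∃ F : Subgroup (MulAut V), F = fixF Q₁ R₁ := ⟨_, rfl⟩
  have hFmem : ∀ a, a ∈ F ↔ a ∈ R₁ ∧ ∀ g ∈ Q₁, g * a = a * g := by
    intro a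
    rw [hFdef]
    exact mem_fixF
  have hFR : F ≤ R₁ := fun a ha => ((hFmem a).1 ha).1
  have hFnorm : ∀ a ∈ R₁, ∀ f ∈ F, a * f * a⁻¹ ∈ F := by
    rw [hFdef]; exact Helper47_Gross_GG3.fixF_conj_mem hq2 hqr₁ cfg
  have hcomm : ∀ a ∈ R₁, ∀ b ∈ R₁, ⁅a, b⁆ ∈ F := by
    rw [hFdef]; exact Helper47_Gross_GG3.comm_mem_fixF hq2 hqr₁ cfg
  have hpow : ∀ a ∈ R₁, a ^ r₁ ∈ F := by
    rw [hFdef]; exact Helper47_Gross_GG3.pow_mem_fixF hq2 hqr₁ cfg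
  have hFc : ∀ f ∈ F, ∀ a ∈ R₁, Commute f a := by
    rw [hFdef]; exact Helper47_Gross_GG4.fixF_central hq2 hqr₁ cfg
  -- invariance under `τ`, `τ⁻¹`
  have hτQ₁' := inv_conj_mem_of_finite Q₁ τ cfg.hτQ
  have hτR₁' := inv_conj_mem_of_finite R₁ τ cfg.hτR
  have hτF : ∀ f ∈ F, τ * f * τ⁻¹ ∈ F := by
    intro f hf
    rw [hFmem] at hf ⊢
    refine ⟨cfg.hτR f hf.1, ?_⟩
    intro g hg
    have h1 := hf.2 (τ⁻¹ * g * τ) (hτQ₁' g hg)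
    calc g * (τ * f * τ⁻¹) = τ * ((τ⁻¹ * g * τ) * f) * τ⁻¹ := by group
      _ = τ * (f * (τ⁻¹ * g * τ)) * τ⁻¹ := by rw [h1]
      _ = τ * f * τ⁻¹ * g := by group
  have hpowconj : ∀ (S : Subgroup (MulAut V)), (∀ a ∈ S, τ * a * τ⁻¹ ∈ S) →
      ∀ j : ℕ, ∀ a ∈ S, τ ^ j * a * (τ ^ j)⁻¹ ∈ S := by
    intro S hS j
    induction j with
    | zero => intro a ha; simpa using ha
    | succ j ih =>
      intro a ha
      have e : τ ^ (j + 1) * a * (τ ^ (j + 1))⁻¹ = τ * (τ ^ j * a * (τ ^ j)⁻¹) * τ⁻¹ := by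
        rw [pow_succ']; group
      rw [e]
      exact hS _ (ih a ha)
  have hτ₀R₁ : ∀ a ∈ R₁, τ₀ * a * τ₀⁻¹ ∈ R₁ := by
    rw [hτ₀def]; exact hpowconj R₁ cfg.hτR _
  have hτ₀Q₁ : ∀ g ∈ Q₁, τ₀ * g * τ₀⁻¹ ∈ Q₁ := by
    rw [hτ₀def]; exact hpowconj Q₁ cfg.hτQ _
  have hτ₀F : ∀ f ∈ F, τ₀ * f * τ₀⁻¹ ∈ F := by
    rw [hτ₀def]; exact hpowconj F hτF _
  -- cardinalities
  have hVp : IsPGroup r V := by
    intro v
    exact ⟨1, by rw [pow_one]; exact hV v⟩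
  obtain ⟨kV, hkV⟩ := IsPGroup.iff_card.1 hVp
  obtain ⟨kR, hkR⟩ := IsPGroup.iff_card.1 cfg.hR
  have hcopR₁ : (Nat.card R₁).Coprime (Nat.card V) := by
    rw [hkV, hkR]
    apply Nat.Coprime.pow
    exact (Nat.coprime_primes hr₁p hrp).2 hr₁r
  have hoddR₁ : Odd (Nat.card R₁) := by
    rw [hkR]
    apply Odd.pow
    exact hr₁p.odd_of_ne_two hr₁2
  have hsub_cop : ∀ S : Subgroup (MulAut V), S ≤ R₁ → (Nat.card S).Coprime (Nat.card V) := by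
    intro S hS
    exact Nat.Coprime.coprime_dvd_left (Subgroup.card_dvd_of_le hS) hcopR₁
  have hsub_odd : ∀ S : Subgroup (MulAut V), S ≤ R₁ → Odd (Nat.card S) := by
    intro S hS
    exact Odd.of_dvd_nat hoddR₁ (Subgroup.card_dvd_of_le hS)
  -- Lemma A
  have hFτ₀ : ∀ f ∈ F, Commute τ₀ f := by
    rw [hτ₀def]
    apply Helper73_Gross_GFROB.lemmaA τ N hτ hfixV F _ hτF (hsub_odd F hFR) (hsub_cop F hFR)
    intro a ha b hb
    exact hFc a ha b (hFR hb)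
  have hnab : ∃ a ∈ R₁, ∃ b ∈ R₁, ⁅a, b⁆ ≠ 1 := by
    by_contra hab
    push Not at hab
    have hRab : ∀ a ∈ R₁, ∀ b ∈ R₁, Commute a b := by
      intro a ha b hb
      exact commutatorElement_eq_one_iff_commute.1 (hab a ha b hb)
    have hτ₀c : ∀ a ∈ R₁, Commute τ₀ a := by
      rw [hτ₀def]
      exact Helper73_Gross_GFROB.lemmaA τ N hτ hfixV R₁ hRab cfg.hτR hoddR₁ hcopR₁
    obtain ⟨g, hg, a, ha, hga⟩ := cfg.hmoved
    apply hga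
    rw [← hτ₀def]
    have h1 : g⁻¹ * a * g ∈ R₁ := by
      have := cfg.hQR g⁻¹ (Q₁.inv_mem hg) a ha
      simpa using this
    have h2 := (hτ₀c _ h1).eq
    have h3 : g * (τ₀⁻¹ * a * τ₀) * g⁻¹ ∈ R₁ := by
      apply cfg.hQR g hg
      have := hτ₀R₁ a ha
      rw [hτ₀inv] at this ⊢
      exact this
    have h4 := (hτ₀c a ha).eq
    show τ₀ * g * τ₀⁻¹ * g⁻¹ * a = a * (τ₀ * g * τ₀⁻¹ * g⁻¹)
    have h5 : τ₀⁻¹ * a = a * τ₀⁻¹ := by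
      rw [hτ₀inv]; exact h4
    calc τ₀ * g * τ₀⁻¹ * g⁻¹ * a = τ₀ * g * τ₀⁻¹ * (g⁻¹ * a * g) * g⁻¹ := by group
      _ = τ₀ * g * (g⁻¹ * a * g) * τ₀⁻¹ * g⁻¹ := by
        have : τ₀⁻¹ * (g⁻¹ * a * g) = (g⁻¹ * a * g) * τ₀⁻¹ := by
          rw [hτ₀inv]; exact h2
        calc τ₀ * g * τ₀⁻¹ * (g⁻¹ * a * g) * g⁻¹ = τ₀ * g * (τ₀⁻¹ * (g⁻¹ * a * g)) * g⁻¹ := by group
          _ = τ₀ * g * ((g⁻¹ * a * g) * τ₀⁻¹) * g⁻¹ := by rw [this]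
          _ = τ₀ * g * (g⁻¹ * a * g) * τ₀⁻¹ * g⁻¹ := by group
      _ = (τ₀ * a) * g * τ₀⁻¹ * g⁻¹ := by group
      _ = (a * τ₀) * g * τ₀⁻¹ * g⁻¹ := by rw [h4]
      _ = a * (τ₀ * g * τ₀⁻¹ * g⁻¹) := by group
  -- the subgroups `ET` and `C`
  obtain ⟨ET, C, hET, hC, hETC, hprod, hBsub⟩ :=
    Helper73_Gross_GG5.exists_ET_C τ₀ hτ₀2 R₁ F hoddR₁ hτ₀R₁ hFR hFc hcomm hFτ₀
  have hETR : ET ≤ R₁ := fun a ha => ((hET a).1 ha).1
  have hCR : C ≤ R₁ := fun a ha => ((hC a).1 ha).1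
  -- lower level
  obtain ⟨K₀, hK₀F, A, hA, ⟨m, hm1, hcardA⟩, hcardET⟩ :=
    hL r r₁ hr₁2 hr₁r V hV τ N hτ hfixV R₁ F ET C cfg.hR cfg.hτR hFR hτF hFc hcomm hnab
      (by rw [← hτ₀def]; exact hET) hCR hETC hprod
  have hFA : F ≤ A := by
    intro f hf
    rw [hA]
    refine ⟨hFR hf, fun b hb => ?_⟩
    have : ⁅f, b⁆ = 1 := commutatorElement_eq_one_iff_commute.2 (hFc f hf b hb)
    rw [this]
    exact K₀.one_mem
  have hAR : A ≤ R₁ := fun a ha => ((hA a).1 ha).1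
  -- invariance of `A` under elements normalising `R₁` and centralising `F`
  have hAinv : ∀ w : MulAut V, (∀ a ∈ R₁, w * a * w⁻¹ ∈ R₁) → (∀ a ∈ R₁, w⁻¹ * a * w ∈ R₁) →
      (∀ f ∈ F, Commute w f) → ∀ a ∈ A, w * a * w⁻¹ ∈ A := by
    intro w hw hw' hwF a ha
    rw [hA] at ha ⊢
    refine ⟨hw a ha.1, fun b hb => ?_⟩
    rw [conj_comm_eq]
    have h1 := ha.2 _ (hw' b hb)
    have h2 := (hwF _ (hK₀F h1)).eq
    have h3 : w * ⁅a, w⁻¹ * b * w⁆ * w⁻¹ = ⁅a, w⁻¹ * b * w⁆ := by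
      rw [h2]; group
    rw [h3]
    exact h1
  have hQR' : ∀ g ∈ Q₁, ∀ a ∈ R₁, g⁻¹ * a * g ∈ R₁ := by
    intro g hg a ha
    have := cfg.hQR g⁻¹ (Q₁.inv_mem hg) a ha
    simpa using this
  have hR₁R₁' : ∀ c ∈ R₁, ∀ a ∈ R₁, c⁻¹ * a * c ∈ R₁ := by
    intro c hc a ha
    exact R₁.mul_mem (R₁.mul_mem (R₁.inv_mem hc) ha) hc
  have hτ₀R₁' : ∀ a ∈ R₁, τ₀⁻¹ * a * τ₀ ∈ R₁ := by
    intro a ha
    have := hτ₀R₁ a ha
    rw [hτ₀inv] at this ⊢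
    have e : τ₀ * a * τ₀ = τ₀ * a * τ₀⁻¹ := by rw [hτ₀inv]
    rw [hτ₀inv] at e
    exact this
  have hAnorm : ∀ c ∈ R₁, ∀ a ∈ A, c * a * c⁻¹ ∈ A := by
    intro c hc
    exact hAinv c (fun a ha => R₁.mul_mem (R₁.mul_mem hc ha) (R₁.inv_mem hc)) (hR₁R₁' c hc)
      (fun f hf => (hFc f hf c hc).symm)
  have hAQ : ∀ g ∈ Q₁, ∀ a ∈ A, g * a * g⁻¹ ∈ A := by
    intro g hg
    exact hAinv g (cfg.hQR g hg) (hQR' g hg) (fun f hf => ((hFmem f).1 hf).2 g hg)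
  have hAτ₀ : ∀ a ∈ A, τ₀ * a * τ₀⁻¹ ∈ A := hAinv τ₀ hτ₀R₁ hτ₀R₁' hFτ₀
  -- the quotient `R₁ / F`
  obtain ⟨F₁, hF₁⟩ : ∃ F₁ : Subgroup R₁, F₁ = F.subgroupOf R₁ := ⟨_, rfl⟩
  have hF₁mem : ∀ a : R₁, a ∈ F₁ ↔ (a : MulAut V) ∈ F := by
    intro a
    rw [hF₁]
    exact Subgroup.mem_subgroupOf
  have hF₁n : F₁.Normal := by
    constructor
    intro f hf a
    rw [hF₁mem] at hf ⊢
    exact hFnorm a a.2 f hf
  let instC : CommGroup (↥R₁ ⧸ F₁) :=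
    { (inferInstance : Group (↥R₁ ⧸ F₁)) with
      mul_comm := by
        intro s t
        obtain ⟨a, rfl⟩ := QuotientGroup.mk_surjective s
        obtain ⟨b, rfl⟩ := QuotientGroup.mk_surjective t
        rw [← QuotientGroup.mk_mul, ← QuotientGroup.mk_mul, QuotientGroup.eq, hF₁mem]
        have h1 := hcomm _ (R₁.inv_mem b.2) _ (R₁.inv_mem a.2)
        have e : (((a * b)⁻¹ * (b * a) : R₁) : MulAut V) = ⁅(b : MulAut V)⁻¹, (a : MulAut V)⁻¹⁆ := by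
          rw [commutatorElement_def]
          simp only [Subgroup.coe_mul, Subgroup.coe_inv]
          group
        rw [e]
        exact h1 }
  have hRexp : ∀ v : ↥R₁ ⧸ F₁, v ^ r₁ = 1 := by
    intro v
    obtain ⟨a, rfl⟩ := QuotientGroup.mk_surjective v
    rw [← QuotientGroup.mk_pow, QuotientGroup.eq_one_iff, hF₁mem, Subgroup.coe_pow]
    exact hpow a a.2
  -- the automorphism induced by `τ`
  obtain ⟨σR, hσR⟩ : ∃ σR : MulAut R₁, σR = conjAut R₁ τ cfg.hτR hτR₁' := ⟨_, rfl⟩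
  have hσRa : ∀ a : R₁, ((σR a : R₁) : MulAut V) = τ * a * τ⁻¹ := by
    intro a; rw [hσR]; rfl
  have hσRpowa : ∀ (j : ℕ) (a : R₁), (((σR ^ j) a : R₁) : MulAut V) = τ ^ j * a * (τ ^ j)⁻¹ := by
    intro j a
    rw [hσR]
    exact conjAut_pow_apply R₁ τ cfg.hτR hτR₁' j a
  have hσRF : ∀ a ∈ F₁, σR a ∈ F₁ := by
    intro a ha
    rw [hF₁mem] at ha ⊢
    rw [hσRa]
    exact hτF a ha
  have hmapF := map_eq_of_forall_mem F₁ σR hσRF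
  have hσRpow : σR ^ 2 ^ (N + 1) = 1 := by
    ext a
    rw [hσRpowa, hτ]
    simp
  have hσRfix : ∀ a, σR a = a → a = 1 := by
    intro a ha
    apply Subtype.ext
    apply hfixR a (hR₁R a.2)
    rw [← hσRa, ha]
  obtain ⟨xb, hxbdef⟩ : ∃ xb : MulAut (↥R₁ ⧸ F₁), xb = quotAut F₁ σR hmapF := ⟨_, rfl⟩
  have hxb : xb ^ 2 ^ (N + 1) = 1 := by
    rw [hxbdef]
    exact quotAut_pow_eq_one F₁ σR hmapF _ hσRpow
  have hxbfix : ∀ v, xb v = v → v = 1 := by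
    rw [hxbdef]
    exact quotAut_fpf F₁ σR hmapF 2 (N + 1) hσRpow hσRfix
  have hxbmk : ∀ (j : ℕ) (a : R₁), (xb ^ j) (a : ↥R₁ ⧸ F₁) = (((σR ^ j) a : R₁) : ↥R₁ ⧸ F₁) := by
    intro j a
    rw [hxbdef]
    exact quotAut_pow_mk F₁ σR hmapF j a
  -- the action of `Q₁`
  have hgF : ∀ g ∈ Q₁, ∀ f ∈ F, g * f * g⁻¹ = f := by
    intro g hg f hf
    have := ((hFmem f).1 hf).2 g hg
    rw [this]
    group
  obtain ⟨σg, hσg⟩ : ∃ σg : Q₁ → MulAut R₁, ∀ (g : Q₁) (a : R₁),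
      ((σg g a : R₁) : MulAut V) = g * a * (g : MulAut V)⁻¹ :=
    ⟨fun g => conjAut R₁ g (cfg.hQR g g.2) (hQR' g g.2), fun g a => rfl⟩
  have hσgF : ∀ (g : Q₁), ∀ a ∈ F₁, σg g a ∈ F₁ := by
    intro g a ha
    rw [hF₁mem] at ha ⊢
    rw [hσg, hgF g g.2 a ha]
    exact ha
  obtain ⟨ψf, hψf⟩ : ∃ ψf : Q₁ → MulAut (↥R₁ ⧸ F₁), ∀ (g : Q₁) (a : R₁),
      ψf g (a : ↥R₁ ⧸ F₁) = ((σg g a : R₁) : ↥R₁ ⧸ F₁) :=
    ⟨fun g => quotAut F₁ (σg g) (map_eq_of_forall_mem F₁ (σg g) (hσgF g)), fun g a => rfl⟩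
  obtain ⟨ψ, hψ⟩ : ∃ ψ : Q₁ →* MulAut (↥R₁ ⧸ F₁), ∀ g, ψ g = ψf g := by
    refine ⟨{ toFun := ψf, map_one' := ?_, map_mul' := ?_ }, fun g => rfl⟩
    · ext v
      obtain ⟨a, rfl⟩ := QuotientGroup.mk_surjective v
      rw [hψf, MulAut.one_apply]
      congr 1
      apply Subtype.ext
      rw [hσg]
      simp
    · intro g h
      ext v
      obtain ⟨a, rfl⟩ := QuotientGroup.mk_surjective v
      rw [MulAut.mul_apply, hψf, hψf, hψf]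
      congr 1
      apply Subtype.ext
      rw [hσg, hσg, hσg]
      simp only [Subgroup.coe_mul, mul_inv_rev]
      group
  have hψmk : ∀ (g : Q₁) (a : R₁), ψ g (a : ↥R₁ ⧸ F₁) = ((σg g a : R₁) : ↥R₁ ⧸ F₁) := by
    intro g a
    rw [hψ, hψf]
  obtain ⟨α, hα⟩ : ∃ α : MulAut Q₁, α = conjAut Q₁ τ cfg.hτQ hτQ₁' := ⟨_, rfl⟩
  have hαa : ∀ g : Q₁, ((α g : Q₁) : MulAut V) = τ * g * τ⁻¹ := by
    intro g; rw [hα]; rfl
  have hαpowa : ∀ (j : ℕ) (g : Q₁), (((α ^ j) g : Q₁) : MulAut V) = τ ^ j * g * (τ ^ j)⁻¹ := by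
    intro j g
    rw [hα]
    exact conjAut_pow_apply Q₁ τ cfg.hτQ hτQ₁' j g
  have hαψ' : ∀ g, xb * ψ g = ψ (α g) * xb := by
    intro g
    ext v
    obtain ⟨a, rfl⟩ := QuotientGroup.mk_surjective v
    have e1 := hxbmk 1
    simp only [pow_one] at e1
    rw [MulAut.mul_apply, MulAut.mul_apply, hψmk, e1, e1, hψmk]
    congr 1
    apply Subtype.ext
    rw [hσRa, hσg, hσg, hσRa, hαa]
    group
  have hαψ : ∀ g, xb * ψ g * xb⁻¹ = ψ (α g) := by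
    intro g
    rw [hαψ', mul_inv_cancel_right]
  have hαψpow : ∀ (j : ℕ) (g : Q₁), xb ^ j * ψ g * (xb ^ j)⁻¹ = ψ ((α ^ j) g) := by
    intro j
    induction j with
    | zero => intro g; simp
    | succ j ih =>
      intro g
      have e : xb ^ (j + 1) * ψ g * (xb ^ (j + 1))⁻¹ = xb * (xb ^ j * ψ g * (xb ^ j)⁻¹) * xb⁻¹ := by
        rw [pow_succ']
        group
      rw [e, ih, hαψ, pow_succ' α, MulAut.mul_apply]
  -- kernel of `ψ`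
  have hψtriv : ∀ c : Q₁, (∀ a ∈ R₁, Commute (c : MulAut V) a) → ψ c = 1 := by
    intro c hc
    ext v
    obtain ⟨a, rfl⟩ := QuotientGroup.mk_surjective v
    rw [hψmk, MulAut.one_apply]
    congr 1
    apply Subtype.ext
    rw [hσg, (hc a a.2).eq]
    group
  have hψker : ∀ c : Q₁, ψ c = 1 → ∀ a ∈ R₁, Commute (c : MulAut V) a := by
    intro c hc
    apply Helper47_Gross_GG2.faithful_mod hqr₁ cfg.hQ cfg.hR (c : MulAut V) c.2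
    intro a ha
    rw [← hFdef]
    have h1 := congrArg (fun f : MulAut (↥R₁ ⧸ F₁) => f ((⟨a, ha⟩ : R₁) : ↥R₁ ⧸ F₁)) hc
    simp only [MulAut.one_apply] at h1
    rw [hψmk, QuotientGroup.eq, hF₁mem] at h1
    have h2 := F.inv_mem h1
    have h3 := hFnorm a ha _ h2
    have e : a * (((σg c ⟨a, ha⟩)⁻¹ * (⟨a, ha⟩ : R₁) : R₁) : MulAut V)⁻¹ * a⁻¹ =
        (c : MulAut V) * a * (c : MulAut V)⁻¹ * a⁻¹ := by
      simp only [Subgroup.coe_mul, Subgroup.coe_inv, hσg]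
      group
    rw [e] at h3
    exact h3
  have hyb : ∀ g : Q₁, Commute (xb ^ 2 ^ N) (ψ g) ↔
      ∀ a ∈ R₁, Commute (τ₀ * g * τ₀⁻¹ * (g : MulAut V)⁻¹) a := by
    intro g
    have e1 : Commute (xb ^ 2 ^ N) (ψ g) ↔ ψ ((α ^ 2 ^ N) g * g⁻¹) = 1 := by
      rw [map_mul, map_inv, mul_inv_eq_one, ← hαψpow]
      constructor
      · intro h
        rw [h.eq, mul_inv_cancel_right]
      · intro h
        show xb ^ 2 ^ N * ψ g = ψ g * xb ^ 2 ^ N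
        have := congrArg (fun z => z * xb ^ 2 ^ N) h
        simpa [mul_assoc] using this
    have e2 : (((α ^ 2 ^ N) g * g⁻¹ : Q₁) : MulAut V) = τ₀ * g * τ₀⁻¹ * (g : MulAut V)⁻¹ := by
      rw [Subgroup.coe_mul, Subgroup.coe_inv, hαpowa, hτ₀def]
    rw [e1, ← e2]
    exact ⟨hψker _, hψtriv _⟩
  have hmoved' : ∃ g, ¬ Commute (xb ^ 2 ^ N) (ψ g) := by
    obtain ⟨g, hg, a, ha, hga⟩ := cfg.hmoved
    refine ⟨⟨g, hg⟩, ?_⟩
    intro h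
    apply hga
    rw [← hτ₀def]
    exact (hyb ⟨g, hg⟩).1 h a ha
  have hmin' : ∀ T : Subgroup Q₁, (∀ g ∈ T, α g ∈ T) → T ≠ ⊤ →
      ∀ g ∈ T, Commute (xb ^ 2 ^ N) (ψ g) := by
    intro T hT hTtop g hg
    rw [hyb]
    have h1 : T.map Q₁.subtype ≤ Q₁ := Subgroup.map_subtype_le T
    have h2 : ∀ g ∈ T.map Q₁.subtype, τ * g * τ⁻¹ ∈ T.map Q₁.subtype := by
      rintro _ ⟨s, hs, rfl⟩
      exact ⟨α s, hT s hs, hαa s⟩
    have h3 : T.map Q₁.subtype ≠ Q₁ := by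
      intro h
      apply hTtop
      rw [eq_top_iff]
      intro s _
      have : (s : MulAut V) ∈ T.map Q₁.subtype := by rw [h]; exact s.2
      obtain ⟨s', hs', hss'⟩ := this
      have : s' = s := Subtype.ext hss'
      rw [← this]
      exact hs'
    have h4 := cfg.m1 _ h1 h2 h3 (g : MulAut V) ⟨g, hg, rfl⟩
    rw [← hτ₀def] at h4
    exact h4
  have hPfix' : ∀ v : ↥R₁ ⧸ F₁, (∀ g, ψ g v = v) → v = 1 := by
    intro v hv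
    obtain ⟨a, rfl⟩ := QuotientGroup.mk_surjective v
    rw [QuotientGroup.eq_one_iff, hF₁mem, hFdef]
    apply Helper47_Gross_GG2.fixed_mod hqr₁ cfg.hQ cfg.hR cfg.hQR (a : MulAut V) a.2
    intro g hg
    rw [← hFdef]
    have h1 := hv ⟨g, hg⟩
    rw [hψmk, QuotientGroup.eq, hF₁mem] at h1
    have h2 := F.inv_mem h1
    have h3 := hFnorm a a.2 _ h2
    have e : (a : MulAut V) * (((σg ⟨g, hg⟩ a)⁻¹ * a : R₁) : MulAut V)⁻¹ * (a : MulAut V)⁻¹ =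
        g * a * g⁻¹ * (a : MulAut V)⁻¹ := by
      simp only [Subgroup.coe_mul, Subgroup.coe_inv, hσg]
      group
    rw [e] at h3
    exact h3
  -- the final stage: the images of `A` and of `B = ET * A`
  obtain ⟨A₁, hA₁⟩ : ∃ A₁ : Subgroup R₁, A₁ = A.subgroupOf R₁ := ⟨_, rfl⟩
  have hA₁mem : ∀ a : R₁, a ∈ A₁ ↔ (a : MulAut V) ∈ A := by
    intro a
    rw [hA₁]
    exact Subgroup.mem_subgroupOf
  have hF₁A₁ : F₁ ≤ A₁ := fun a ha => (hA₁mem a).2 (hFA ((hF₁mem a).1 ha))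
  have hA₁n : A₁.Normal := by
    constructor
    intro a ha c
    rw [hA₁mem] at ha ⊢
    exact hAnorm c c.2 a ha
  obtain ⟨Ab, hAb⟩ : ∃ Ab : Subgroup (↥R₁ ⧸ F₁), Ab = A₁.map (QuotientGroup.mk' F₁) := ⟨_, rfl⟩
  have hAbmem : ∀ a : R₁, (a : ↥R₁ ⧸ F₁) ∈ Ab ↔ a ∈ A₁ := by
    intro a
    rw [hAb]
    constructor
    · rintro ⟨b, hb, hba⟩
      have h1 : b⁻¹ * a ∈ F₁ := QuotientGroup.eq.1 hba
      have h2 := A₁.mul_mem hb (hF₁A₁ h1)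
      simpa using h2
    · intro ha
      exact ⟨a, ha, rfl⟩
  have hAP : ∀ g, ∀ v ∈ Ab, ψ g v ∈ Ab := by
    intro g v hv
    obtain ⟨a, rfl⟩ := QuotientGroup.mk_surjective v
    rw [hAbmem, hA₁mem] at hv
    rw [hψmk, hAbmem, hA₁mem, hσg]
    exact hAQ g g.2 a hv
  have hAy : ∀ v ∈ Ab, (xb ^ 2 ^ N) v ∈ Ab := by
    intro v hv
    obtain ⟨a, rfl⟩ := QuotientGroup.mk_surjective v
    rw [hAbmem, hA₁mem] at hv
    rw [hxbmk, hAbmem, hA₁mem, hσRpowa, ← hτ₀def]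
    exact hAτ₀ a hv
  obtain ⟨Bb, hBb⟩ : ∃ Bb : Subgroup (↥R₁ ⧸ F₁), ∀ v, v ∈ Bb ↔ (xb ^ 2 ^ N) v * v ∈ Ab := by
    refine ⟨{ carrier := {v | (xb ^ 2 ^ N) v * v ∈ Ab}, mul_mem' := ?_, one_mem' := ?_,
              inv_mem' := ?_ }, fun v => Iff.rfl⟩
    · intro v w hv hw
      show (xb ^ 2 ^ N) (v * w) * (v * w) ∈ Ab
      have e : (xb ^ 2 ^ N) (v * w) * (v * w) =
          ((xb ^ 2 ^ N) v * v) * ((xb ^ 2 ^ N) w * w) := by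
        rw [map_mul]
        exact mul_mul_mul_comm _ _ _ _
      rw [e]
      exact Ab.mul_mem hv hw
    · show (xb ^ 2 ^ N) 1 * 1 ∈ Ab
      rw [map_one, mul_one]
      exact Ab.one_mem
    · intro v hv
      show (xb ^ 2 ^ N) v⁻¹ * v⁻¹ ∈ Ab
      have e : (xb ^ 2 ^ N) v⁻¹ * v⁻¹ = ((xb ^ 2 ^ N) v * v)⁻¹ := by
        rw [map_inv, mul_inv]
      rw [e]
      exact Ab.inv_mem hv
  have hQ₁p : IsPGroup q ↥Q₁ := cfg.hQ
  have hmain := hU r₁ q hq2 hqr₁ (↥R₁ ⧸ F₁) hRexp xb N hxb hxbfix ↥Q₁ hQ₁p ψ α hαψ hmoved' hmin' hPfix'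
    Ab hAP hAy Bb hBb
  -- index bookkeeping
  have hmksurj : Function.Surjective (QuotientGroup.mk' F₁) := QuotientGroup.mk'_surjective F₁
  have hidx1 : Ab.index = A₁.index := by
    rw [hAb]
    apply Subgroup.index_map_eq _ hmksurj
    rw [QuotientGroup.ker_mk']
    exact hF₁A₁
  have hidx2 : A₁.index = m ^ 2 := by
    have h1 : A₁.index = A.relIndex R₁ := by rw [hA₁]; rfl
    have h2 := relIndex_mul_card' A R₁ hAR
    rw [hcardA] at h2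
    have h3 : 0 < Nat.card A := Nat.card_pos
    rw [h1]
    apply Nat.eq_of_mul_eq_mul_right h3
    rw [h2]
    ring
  obtain ⟨B₁, hB₁⟩ : ∃ B₁ : Subgroup R₁, B₁ = Bb.comap (QuotientGroup.mk' F₁) := ⟨_, rfl⟩
  have hB₁mem : ∀ b : R₁, b ∈ B₁ ↔ τ₀ * b * τ₀⁻¹ * (b : MulAut V) ∈ A := by
    intro b
    rw [hB₁, Subgroup.mem_comap]
    show (b : ↥R₁ ⧸ F₁) ∈ Bb ↔ _
    rw [hBb, hxbmk, ← QuotientGroup.mk_mul, hAbmem, hA₁mem, Subgroup.coe_mul, hσRpowa, ← hτ₀def]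
  obtain ⟨ET₁, hET₁⟩ : ∃ ET₁ : Subgroup R₁, ET₁ = ET.subgroupOf R₁ := ⟨_, rfl⟩
  have hET₁mem : ∀ a : R₁, a ∈ ET₁ ↔ (a : MulAut V) ∈ ET := by
    intro a
    rw [hET₁]
    exact Subgroup.mem_subgroupOf
  have hB₁eq : B₁ = ET₁ ⊔ A₁ := by
    apply le_antisymm
    · intro b hb
      rw [hB₁mem] at hb
      obtain ⟨e, he, a, ha, hbea⟩ := hBsub A hFA hAR b b.2 hb
      have e1 : b = (⟨e, hETR he⟩ : R₁) * (⟨a, hAR ha⟩ : R₁) := Subtype.ext hbea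
      rw [e1]
      apply Subgroup.mul_mem_sup
      · rw [hET₁mem]; exact he
      · rw [hA₁mem]; exact ha
    · apply sup_le
      · intro e he
        rw [hET₁mem, hET] at he
        rw [hB₁mem]
        exact hFA he.2
      · intro a ha
        rw [hA₁mem] at ha
        rw [hB₁mem]
        exact A.mul_mem (hAτ₀ a ha) ha
  have hidx3 : Ab.relIndex Bb = A.relIndex ET := by
    have h1 : Ab.comap (QuotientGroup.mk' F₁) = A₁ := by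
      rw [hAb]
      apply Subgroup.comap_map_eq_self
      rw [QuotientGroup.ker_mk']
      exact hF₁A₁
    have h2 : B₁.map (QuotientGroup.mk' F₁) = Bb := by
      rw [hB₁]
      exact Subgroup.map_comap_eq_self_of_surjective hmksurj Bb
    have h3 := Subgroup.relIndex_comap Ab (QuotientGroup.mk' F₁) B₁
    rw [h1, h2] at h3
    rw [← h3, hB₁eq, Subgroup.relIndex_sup_right, hA₁, hET₁, Subgroup.relIndex_subgroupOf hETR]
  obtain ⟨t, ht⟩ : ∃ t : ℕ, t = A.relIndex ET := ⟨_, rfl⟩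
  have htval : t = 1 ∨ t = r₁ ^ 2 := by
    have h1 : (A ⊓ ET).relIndex ET = t := by rw [ht]; exact Subgroup.inf_relIndex_right A ET
    have h2 := relIndex_mul_card' (A ⊓ ET) ET inf_le_right
    rw [h1, inf_comm] at h2
    have h3 : 0 < Nat.card (ET ⊓ A : Subgroup (MulAut V)) := Nat.card_pos
    rcases hcardET with h | h
    · left
      apply Nat.eq_of_mul_eq_mul_right h3
      rw [h2, one_mul]
      exact h
    · right
      apply Nat.eq_of_mul_eq_mul_right h3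
      rw [h2, h]
      ring
  obtain ⟨d', -, hmd⟩ : ∃ d' ≤ kR, m = r₁ ^ d' := by
    apply (Nat.dvd_prime_pow hr₁p).1
    rw [← hkR, hcardA]
    exact Dvd.dvd.mul_left (Dvd.intro_left (m ^ 1) (by ring)) _
  rw [hidx1, hidx2, hidx3, ← ht] at hmain
  have hq3 : 3 ≤ q := by
    have := hqp.two_le
    omega
  exact final_arith q r₁ m t d' hq3 hr₁p.two_le hm1 hmd htval hmain

end Cfsg.Agent.Lib.Helper9_GrossLin
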