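import Mathlib
import Cfsg.Agent.Lib.Helper9_GrossDefs
import Cfsg.Agent.Lib.Helper9_GrossLin
import Cfsg.Agent.Lib.Helper63_Gross_GCORE
import Cfsg.Agent.Lib.Helper87_Gross_GLaux
import Cfsg.Agent.Lib.Helper82_Gross_GIRRa
import Cfsg.Agent.Lib.Helper82_Gross_GA2a
import Cfsg.Agent.Lib.Helper5_Gross_GMAIN

/-!
# Gross' theorem: assembly of the packages (helper9)

`gross_chain_of_upper`: the chain of length `2 n - 2`, given only the statement of package GU
(`gross_upper`) as a hypothesis.  Everything else is taken from the landed packages: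
GCORE (helper63, on GES helper20, GSPAN helper8, GARITH helper5), GL (helper87), GLIN (helper9, on
GG1 helper84, GG2-GG4 helper47, GG5 and GFROB helper73), GIRR and GA2 (helper82), GMAIN (helper5).
-/

set_option autoImplicit false
set_option linter.unusedVariables false

namespace Cfsg.Agent.Lib.Helper9_GrossFinal

open Cfsg.Agent.Lib.Helper9_GrossDefs
open scoped commutatorElement

universe u

/-- package GL from GCORE -/
theorem lowerHyp : Cfsg.Agent.Lib.Helper9_GrossLin.LowerHyp.{u} := by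
  intro r r₁ _ _ hr₁2 hr₁r V _ _ hV τ N hτ hfixV R₁ F ET C hR₁ hτR₁ hFR hτF hFc hcomm hnab hET
    hCR hETC hprod
  exact Cfsg.Agent.Lib.Helper87_Gross_GLaux.gross_lower_of_core hr₁2 hr₁r
    (fun W _ _ _ s _ hs2 h2K hsK N x hx hfix E _ hE hnorm hcl hcent =>
      Cfsg.Agent.Lib.Helper63_Gross_GCORE.gross_core s hs2 h2K hsK N x hx hfix E hE hnorm hcl hcent)
    hV τ N hτ hfixV R₁ F ET C hR₁ hτR₁ hFR hτF hFc hcomm hnab hET hCR hETC hprod

/-- package GLIN from GU -/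
theorem linHyp (hU : Cfsg.Agent.Lib.Helper9_GrossLin.UpperHyp.{u}) (N : ℕ) :
    Cfsg.Agent.Lib.Helper82_Gross_GIRRa.LinHyp.{u} N := by
  intro r r₁ q _ _ _ hq2 hr₁2 hqr₁ hr₁r V _ _ hV τ hτ hfixV Q R hQ hR hτQ hτR hQR hfixR
  exact Cfsg.Agent.Lib.Helper9_GrossLin.gross_lin_of hU lowerHyp hq2 hr₁2 hqr₁ hr₁r hV τ N hτ hfixV
    Q R hQ hR hτQ hτR hQR hfixR

/-- package GIRR from GU -/
theorem irrHyp (hU : Cfsg.Agent.Lib.Helper9_GrossLin.UpperHyp.{u}) (N : ℕ) :
    Cfsg.Agent.Lib.Helper82_Gross_GA2a.IrrHyp.{u} N := by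
  intro r _ V _ _ hV τ hτ hfixV H hsol hτH hfixH hirr
  exact Cfsg.Agent.Lib.Helper82_Gross_GIRRa.gross_irreducible_of N (linHyp hU N) hV τ hτ hfixV H hsol
    hτH hfixH hirr

/-- Gross' theorem (chain form), given the statement of package GU. -/
theorem gross_chain_of_upper (hU : Cfsg.Agent.Lib.Helper9_GrossLin.UpperHyp.{u}) (n : ℕ)
    (hn : 2 ≤ n) :
    ∀ (G : Type u) [Group G] [Finite G] [Group.IsSolvable G] (σ : MulAut G),
      σ ^ 2 ^ n = 1 → (∀ g, σ g = g → g = 1) → HasChain G (2 * n - 2) :=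
  Cfsg.Agent.Lib.Helper5_Gross_GMAIN.gross_chain_of_A2
    (fun N => Cfsg.Agent.Lib.Helper82_Gross_GA2a.gross_theoremA2_of N (irrHyp hU N)) n hn

end Cfsg.Agent.Lib.Helper9_GrossFinal
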