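import Cfsg.Agent.Lib.Helper9_HigW
import Cfsg.Agent.Lib.Helper67_CW2

/-!
# Higman's theorem: the case of nonabelian `W` (helper9)
-/

set_option autoImplicit false
set_option linter.unusedSectionVars false
set_option linter.style.haveILetI false
set_option linter.unusedSimpArgs false
set_option linter.unusedVariables false

namespace Cfsg.Agent.Lib.Helper9_HigBase

universe u v

variable {K : Type v} [CommGroup K] {G : Type u} [Group G] {φ : K →* MulAut G}

/-- if `a⁻¹ b` squares to one and commutes suitably, they differ by a central involution -/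
theorem IsHig.eq_mul_of_sq_eq (h : IsHig φ) (a v : G) (hav : a * v = v * a) (hsq : v * v = a * a) :
    ∃ t ∈ Om G, a = t * v := by
  refine ⟨a * v⁻¹, ?_, by group⟩
  rw [h.mem_Om_iff]
  have h1 : v⁻¹ * a = a * v⁻¹ := by
    have : v⁻¹ * a = v⁻¹ * (a * v) * v⁻¹ := by group
    rw [this, hav]
    group
  calc a * v⁻¹ * (a * v⁻¹) = a * (v⁻¹ * a) * v⁻¹ := by group
    _ = a * (a * v⁻¹) * v⁻¹ := by rw [h1]
    _ = (a * a) * (v * v)⁻¹ := by group
    _ = 1 := by rw [hsq]; group

/-- the centre of a nonabelian `W` consists of the central involutions -/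
theorem IsHig.centre_W_le (h : IsHig φ) (hW : ∃ a ∈ W G, ∃ b ∈ W G, a * b ≠ b * a)
    (v : G) (hv : v ∈ W G) (hvc : ∀ w ∈ W G, v * w = w * v) : v ∈ Om G := by
  by_contra hvZ
  let H : Subgroup G := W G ⊓ Subgroup.centralizer (W G : Set G)
  have memH : ∀ x, x ∈ H ↔ x ∈ W G ∧ ∀ w ∈ W G, w * x = x * w := by
    intro x
    show x ∈ W G ⊓ Subgroup.centralizer (W G : Set G) ↔ _
    rw [Subgroup.mem_inf, Subgroup.mem_centralizer_iff]
    rfl
  have hH : ∀ k, ∀ x ∈ H, φ k x ∈ H := by
    intro k x hx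
    rw [memH] at hx ⊢
    refine ⟨h.W_inv k x hx.1, ?_⟩
    intro w hw
    have h1 := hx.2 (φ k⁻¹ w) (h.W_inv k⁻¹ w hw)
    have h2 := congrArg (φ k) h1
    rw [map_mul, map_mul, map_inv, MulAut.apply_inv_self] at h2
    exact h2
  have hvH : v ∈ H := by
    rw [memH]
    exact ⟨hv, fun w hw => (hvc w hw).symm⟩
  obtain ⟨a, ha, b, hb, hab⟩ := hW
  obtain ⟨v', hv', hv'2⟩ := h.sq_surj H hH v hvH (W_sq hv) hvZ (a * a) (W_sq ha)
  rw [memH] at hv'
  have hav' : a * v' = v' * a := hv'.2 a ha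
  obtain ⟨t, ht, hat⟩ := h.eq_mul_of_sq_eq a v' hav' hv'2
  apply hab
  have hbv' : b * v' = v' * b := hv'.2 b hb
  rw [hat]
  calc t * v' * b = t * (v' * b) := by group
    _ = t * (b * v') := by rw [hbv']
    _ = (t * b) * v' := by group
    _ = (b * t) * v' := by rw [Om_comm ht b]
    _ = b * (t * v') := by group

/-- the centralizer of a nonabelian `W` consists of the central involutions -/
theorem IsHig.centralizer_W_le (h : IsHig φ) (hW : ∃ a ∈ W G, ∃ b ∈ W G, a * b ≠ b * a)
    (c : G) (hc : ∀ w ∈ W G, c * w = w * c) : c ∈ Om G := by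
  haveI := h.fin
  by_contra hcZ
  obtain ⟨m, hm1, hm2⟩ := exists_pow_not_mem h.pgroup (Om G) c hcZ
  have hcm : ∀ w ∈ W G, c ^ m * w = w * c ^ m := by
    intro w hw
    exact ((Commute.pow_left (hc w hw : Commute c w) m) : Commute (c ^ m) w)
  obtain ⟨a, ha, b, hb, hab⟩ := hW
  have haZ : a ∉ Om G := fun h0 => hab (Om_comm h0 b).symm
  obtain ⟨w, hw, hw2⟩ := h.sq_surj (W G) h.W_inv a ha (W_sq ha) haZ _ hm2
  obtain ⟨t, ht, hct⟩ := h.eq_mul_of_sq_eq (c ^ m) w (hcm w hw) hw2
  have hcW : c ^ m ∈ W G := by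
    rw [hct]
    exact (W G).mul_mem (Om_le_W ht) hw
  exact hm1 (h.centre_W_le ⟨a, ha, b, hb, hab⟩ (c ^ m) hcW hcm)

/-- all squares are central involutions when `W` is nonabelian -/
theorem IsHig.sq_mem_of_W (h : IsHig φ) (hW : ∃ a ∈ W G, ∃ b ∈ W G, a * b ≠ b * a) (g : G) :
    g * g ∈ Om G := by
  apply h.centralizer_W_le hW
  intro w hw
  have hc := W_cm hw g
  have e1 : w * g = g * w * cm w g := by
    unfold cm; group
  symm
  calc w * (g * g) = (w * g) * g := by group
    _ = (g * w * cm w g) * g := by rw [e1]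
    _ = g * w * (cm w g * g) := by group
    _ = g * w * (g * cm w g) := by rw [Om_comm hc g]
    _ = g * (w * g) * cm w g := by group
    _ = g * (g * w * cm w g) * cm w g := by rw [e1]
    _ = g * g * w * (cm w g * cm w g) := by group
    _ = g * g * w := by rw [Om_sq hc, mul_one]

theorem IsHig.center_sq_of_W (h : IsHig φ) (hW : ∃ a ∈ W G, ∃ b ∈ W G, a * b ≠ b * a)
    (z : G) (hz : z ∈ Subgroup.center G) : z * z = 1 := by
  have hzc : ∀ g : G, g * z = z * g := Subgroup.mem_center_iff.mp hz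
  have hzW : z ∈ W G := by
    rw [mem_W]
    refine ⟨h.sq_mem_of_W hW z, ?_⟩
    intro g
    have : cm z g = 1 := by
      rw [cm_eq_one_iff]
      exact (hzc g).symm
    rw [this]
    exact (Om G).one_mem
  exact Om_sq (h.centre_W_le hW z hzW (fun w _ => (hzc w).symm))

/-- the counting bound: if all squares are central involutions then `|G| ≤ |Om G| ^ 3` -/
theorem IsHig.card_le_cube (h : IsHig φ) (hsq : ∀ g : G, g * g ∈ Om G) :
    Nat.card G ≤ Nat.card (Om G) ^ 3 := by
  haveI := h.fin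
  by_contra hcon
  push Not at hcon
  have hcmZ : ∀ x y : G, cm x y ∈ Om G := by
    intro x y
    rw [cm_eq_sq]
    have h1 : x⁻¹ * x⁻¹ ∈ Om G := by
      have := (Om G).inv_mem (hsq x)
      rwa [mul_inv_rev] at this
    exact (Om G).mul_mem ((Om G).mul_mem h1 (hsq _)) (hsq y)
  let q : G → Om G := fun x => ⟨x * x, hsq x⟩
  -- the polarization is the commutator
  have hpol : ∀ x y : G, q (x * y) * q x * q y = ⟨cm y x, hcmZ y x⟩ := by
    intro x y
    have e1 : q (x * y) = q x * q y * ⟨cm y x, hcmZ y x⟩ := by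
      apply Subtype.ext
      exact mul_sq_of_mem (hcmZ y x)
    rw [e1]
    have hx : q x * q x = 1 := Subtype.ext (Om_sq (hsq x))
    have hy : q y * q y = 1 := Subtype.ext (Om_sq (hsq y))
    calc q x * q y * ⟨cm y x, hcmZ y x⟩ * q x * q y
        = ⟨cm y x, hcmZ y x⟩ * (q x * q x) * (q y * q y) := by ac_rfl
      _ = ⟨cm y x, hcmZ y x⟩ := by rw [hx, hy, mul_one, mul_one]
  obtain ⟨x, hxZ, hx1⟩ := Cfsg.Agent.Lib.Helper67_CW2.exists_not_mem_zero (Om G)
    (fun e he x => (Om_comm he x).symm) hsq (fun w => Subtype.ext (Om_sq w.2)) q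
    (by
      intro x e he
      apply Subtype.ext
      show x * e * (x * e) = x * x
      calc x * e * (x * e) = x * (e * x) * e := by group
        _ = x * (x * e) * e := by rw [Om_comm he x]
        _ = x * x * (e * e) := by group
        _ = x * x := by rw [Om_sq he, mul_one])
    (by
      intro u u' v
      rw [hpol, hpol, hpol]
      apply Subtype.ext
      show cm v (u * u') = cm v u * cm v u'
      exact cm_mul_right_of_mem (hcmZ v u))
    (by
      rw [← pow_succ]
      exact hcon)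
  apply hxZ
  rw [h.mem_Om_iff]
  exact congrArg Subtype.val hx1

/-- **Case A**: the conclusion of Higman's theorem when `W` is nonabelian -/
theorem IsHig.caseA (h : IsHig φ) (hK : ∃ k : K, k ≠ 1)
    (hW : ∃ a ∈ W G, ∃ b ∈ W G, a * b ≠ b * a) :
    (∀ x : G, x * x ∈ Om G) ∧ (∀ z ∈ Subgroup.center G, z * z = 1) ∧
      (Nat.card G = Nat.card (Om G) ^ 2 ∨ Nat.card G = Nat.card (Om G) ^ 3) := by
  haveI := h.fin
  refine ⟨h.sq_mem_of_W hW, h.center_sq_of_W hW, ?_⟩
  obtain ⟨n, a, hn, hq, -, hG⟩ := h.exists_exponents hK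
  have hle := h.card_le_cube (h.sq_mem_of_W hW)
  rw [hq, hG] at hle ⊢
  have h2n : 2 ≤ 2 ^ n := by
    calc 2 = 2 ^ 1 := by norm_num
      _ ≤ 2 ^ n := Nat.pow_le_pow_right (by norm_num) (by omega)
  have ha3 : a ≤ 3 := (Nat.pow_le_pow_iff_right (by omega)).mp hle
  have ha0 : a ≠ 0 := by
    intro h0
    rw [h0, pow_zero] at hG
    have hle' : Nat.card (Om G) ≤ Nat.card G := Nat.card_le_card_of_injective _ Subtype.val_injective
    omega
  have ha1 : a ≠ 1 := by
    intro h1
    rw [h1, pow_one, ← hq] at hG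
    have htop : Om G = ⊤ := Subgroup.eq_top_of_card_eq _ hG.symm
    obtain ⟨x, hx, y, hy, hxy⟩ := hW
    apply hxy
    have hyZ : y ∈ Om G := by rw [htop]; exact Subgroup.mem_top y
    exact (Om_comm hyZ x)
  have : a = 2 ∨ a = 3 := by omega
  rcases this with h2 | h3
  · left; rw [h2]
  · right; rw [h3]

end Cfsg.Agent.Lib.Helper9_HigBase
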