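import Mathlib

/-!
# The field behind a regular action on an elementary abelian two-group (helper9)

If a commutative group `K` acts on an elementary abelian `2`-group `Z` by automorphisms, regularly
on the non-identity elements, then `Z` is the additive group of a finite field on which `K` acts
as the multiplicative group.
-/

set_option autoImplicit false
set_option linter.unusedSectionVars false
set_option linter.style.haveILetI false
set_option linter.unusedSimpArgs false
set_option linter.unusedVariables false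

namespace Cfsg.Agent.Lib.Helper9_HigField

universe u v

variable {Z : Type u} [CommGroup Z] {K : Type v} [CommGroup K]

/-- the hypotheses on the action -/
structure Reg (ρ : K →* MulAut Z) : Prop where
  exp : ∀ z : Z, z * z = 1
  reg : ∀ x y : Z, x ≠ 1 → y ≠ 1 → ∃! k : K, ρ k x = y
  ne : ∃ x : Z, x ≠ 1

/-- the action as additive endomorphisms -/
def rep (ρ : K →* MulAut Z) : K →* AddMonoid.End (Additive Z) where
  toFun k := MonoidHom.toAdditive ((ρ k : Z ≃* Z) : Z →* Z)
  map_one' := by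
    ext z
    rw [map_one]
    rfl
  map_mul' := by
    intro k k'
    ext z
    rw [map_mul]
    rfl

theorem rep_apply (ρ : K →* MulAut Z) (k : K) (z : Z) :
    rep ρ k (Additive.ofMul z) = Additive.ofMul (ρ k z) := rfl

/-- the subring generated by the action -/
def RR (ρ : K →* MulAut Z) : Subring (AddMonoid.End (Additive Z)) :=
  Subring.closure (Set.range (rep ρ))

theorem rep_mem (ρ : K →* MulAut Z) (k : K) : rep ρ k ∈ RR ρ :=
  Subring.subset_closure ⟨k, rfl⟩

theorem range_comm (ρ : K →* MulAut Z) :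
    ∀ x ∈ Set.range (rep ρ), ∀ y ∈ Set.range (rep ρ), x * y = y * x := by
  rintro _ ⟨k, rfl⟩ _ ⟨k', rfl⟩
  rw [← map_mul, ← map_mul, mul_comm]

instance instCommRingRR (ρ : K →* MulAut Z) : CommRing (RR ρ) :=
  { (inferInstance : Ring (RR ρ)) with
    mul_comm := by
      have h : IsMulCommutative (RR ρ) := Subring.isMulCommutative_closure (range_comm ρ)
      intro a b
      exact h.is_comm.comm a b }

theorem comm_rep (ρ : K →* MulAut Z) (r : RR ρ) (k : K) (a : Additive Z) :
    r.1 (rep ρ k a) = rep ρ k (r.1 a) := by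
  have h : r * ⟨rep ρ k, rep_mem ρ k⟩ = ⟨rep ρ k, rep_mem ρ k⟩ * r := mul_comm _ _
  have h2 := congrArg (fun x : RR ρ => x.1 a) h
  exact h2

theorem eq_zero_of_apply (ρ : K →* MulAut Z) (h : Reg ρ) (r : RR ρ) (a : Additive Z)
    (ha : a ≠ 0) (hra : r.1 a = 0) : r = 0 := by
  apply Subtype.ext
  ext b
  show r.1 b = 0
  by_cases hb : b = 0
  · rw [hb, map_zero]
  obtain ⟨k, hk, -⟩ := h.reg (Additive.toMul a) (Additive.toMul b) ha hb
  have hkb : rep ρ k a = b := hk
  rw [← hkb, comm_rep, hra, map_zero]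

theorem exists_ne_zero (ρ : K →* MulAut Z) (h : Reg ρ) : ∃ a : Additive Z, a ≠ 0 := by
  obtain ⟨x, hx⟩ := h.ne
  exact ⟨Additive.ofMul x, hx⟩

theorem instNontrivialRR (ρ : K →* MulAut Z) (h : Reg ρ) : Nontrivial (RR ρ) := by
  obtain ⟨a, ha⟩ := exists_ne_zero ρ h
  refine ⟨⟨0, 1, ?_⟩⟩
  intro h01
  have := congrArg (fun x : RR ρ => x.1 a) h01
  simp only [Subring.coe_zero, Subring.coe_one] at this
  exact ha this.symm

theorem noZeroDivisorsRR (ρ : K →* MulAut Z) (h : Reg ρ) : NoZeroDivisors (RR ρ) := by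
  constructor
  intro r r' hrr'
  by_cases hr' : r' = 0
  · exact Or.inr hr'
  left
  obtain ⟨a, ha⟩ := exists_ne_zero ρ h
  have h1 : r'.1 a ≠ 0 := fun h0 => hr' (eq_zero_of_apply ρ h r' a ha h0)
  apply eq_zero_of_apply ρ h r (r'.1 a) h1
  have := congrArg (fun x : RR ρ => x.1 a) hrr'
  exact this

theorem isDomainRR (ρ : K →* MulAut Z) (h : Reg ρ) : IsDomain (RR ρ) := by
  haveI := noZeroDivisorsRR ρ h
  haveI := instNontrivialRR ρ h
  exact NoZeroDivisors.to_isDomain _

theorem two_eq_zero_RR (ρ : K →* MulAut Z) (h : Reg ρ) : (2 : RR ρ) = 0 := by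
  apply Subtype.ext
  ext b
  show ((2 : RR ρ) : AddMonoid.End (Additive Z)) b = 0
  have h2 : ((2 : RR ρ) : AddMonoid.End (Additive Z)) = 1 + 1 := by
    rw [← one_add_one_eq_two]
    rfl
  rw [h2]
  show b + b = 0
  exact h.exp (Additive.toMul b)

/-- the field structure -/
theorem exists_field [Finite Z] (ρ : K →* MulAut Z) (h : Reg ρ) :
    ∃ (F : Type u) (_ : Field F) (_ : Fintype F) (_ : CharP F 2) (e : Z ≃ F) (χ : K →* Fˣ),
      Function.Surjective χ ∧ (∀ z z', e (z * z') = e z + e z') ∧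
        ∀ k z, e (ρ k z) = ((χ k : Fˣ) : F) * e z := by
  classical
  haveI := isDomainRR ρ h
  haveI : Finite (Additive Z) := Finite.of_equiv Z Additive.ofMul
  haveI : Finite (Additive Z →+ Additive Z) := DFunLike.finite _
  haveI : Finite (AddMonoid.End (Additive Z)) := ‹Finite (Additive Z →+ Additive Z)›
  haveI : Finite (RR ρ) := Subtype.finite
  haveI : Fintype (RR ρ) := Fintype.ofFinite _
  letI iF : Field (RR ρ) := Fintype.fieldOfDomain (RR ρ)
  obtain ⟨a₀, ha₀⟩ := exists_ne_zero ρ h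
  let ev : RR ρ → Z := fun r => Additive.toMul (r.1 a₀)
  have hev_add : ∀ r r' : RR ρ, ev (r + r') = ev r * ev r' := by
    intro r r'
    rfl
  have hev_inj : Function.Injective ev := by
    intro r r' hrr'
    have h1 : (r - r').1 a₀ = 0 := by
      show r.1 a₀ - r'.1 a₀ = 0
      rw [sub_eq_zero]
      exact hrr'
    have := eq_zero_of_apply ρ h (r - r') a₀ ha₀ h1
    exact sub_eq_zero.mp this
  have hev_surj : Function.Surjective ev := by
    intro z
    by_cases hz : z = 1
    · exact ⟨0, by rw [hz]; rfl⟩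
    obtain ⟨k, hk, -⟩ := h.reg (Additive.toMul a₀) z ha₀ hz
    exact ⟨⟨rep ρ k, rep_mem ρ k⟩, hk⟩
  let e : Z ≃ RR ρ := (Equiv.ofBijective ev ⟨hev_inj, hev_surj⟩).symm
  have hee : ∀ r : RR ρ, e (ev r) = r := fun r => (Equiv.ofBijective ev ⟨hev_inj, hev_surj⟩).symm_apply_apply r
  have hee' : ∀ z : Z, ev (e z) = z := fun z => (Equiv.ofBijective ev ⟨hev_inj, hev_surj⟩).apply_symm_apply z
  let χ0 : K →* RR ρ := (rep ρ).codRestrict (RR ρ) (rep_mem ρ)
  let χ : K →* (RR ρ)ˣ := (Units.map χ0).comp toUnits.toMonoidHom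
  have hχ : ∀ k, ((χ k : (RR ρ)ˣ) : RR ρ) = ⟨rep ρ k, rep_mem ρ k⟩ := fun k => rfl
  refine ⟨RR ρ, iF, inferInstance,
    CharTwo.of_one_ne_zero_of_two_eq_zero one_ne_zero (two_eq_zero_RR ρ h), e, χ, ?_, ?_, ?_⟩
  · intro w
    have hw : (w : RR ρ) ≠ 0 := w.ne_zero
    have h1 : ev (w : RR ρ) ≠ 1 := by
      intro h0
      apply hw
      apply hev_inj
      rw [h0]
      rfl
    obtain ⟨k, hk, -⟩ := h.reg (Additive.toMul a₀) (ev (w : RR ρ)) ha₀ h1
    refine ⟨k, ?_⟩
    apply Units.ext
    rw [hχ]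
    apply hev_inj
    exact hk
  · intro z z'
    apply hev_inj
    rw [hev_add, hee', hee', hee']
  · intro k z
    apply hev_inj
    rw [hee', hχ]
    show ρ k z = Additive.toMul (rep ρ k ((e z).1 a₀))
    have : (e z).1 a₀ = Additive.ofMul z := hee' z
    rw [this]
    rfl

end Cfsg.Agent.Lib.Helper9_HigField
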