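import Mathlib

/-!
# Linearized polynomials over a finite field of characteristic two (helper9)

Every additive map `F → F` of a finite field `F` with `2 ^ n` elements is uniquely of the form
`x ↦ ∑ s < n, c s * x ^ 2 ^ s`.
-/

set_option autoImplicit false
set_option linter.unusedSectionVars false
set_option linter.style.haveILetI false
set_option linter.unusedSimpArgs false

namespace Cfsg.Agent.Lib.Helper9_HigLP

open Polynomial

variable {F : Type*} [Field F] [Fintype F] [CharP F 2]

/-- the `s`-th power of the Frobenius map as an additive map -/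
def fr (s : ℕ) : F →+ F where
  toFun x := x ^ 2 ^ s
  map_zero' := by simp
  map_add' x y := by
    haveI : Fact (Nat.Prime 2) := ⟨Nat.prime_two⟩
    exact add_pow_char_pow x y 2 s

@[simp] theorem fr_apply (s : ℕ) (x : F) : fr s x = x ^ 2 ^ s := rfl

/-- the linearized polynomial map with coefficients `c` -/
def lin (n : ℕ) (c : Fin n → F) : F →+ F :=
  ∑ s : Fin n, (AddMonoidHom.mulLeft (c s)).comp (fr (s : ℕ))

theorem lin_apply (n : ℕ) (c : Fin n → F) (x : F) :
    lin n c x = ∑ s : Fin n, c s * x ^ 2 ^ (s : ℕ) := by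
  simp [lin, AddMonoidHom.finsetSum_apply]

theorem lin_add (n : ℕ) (c d : Fin n → F) : lin n (c + d) = lin n c + lin n d := by
  ext x
  simp [lin_apply, add_mul, Finset.sum_add_distrib]

/-- the polynomial behind `lin` -/
noncomputable def linPoly (n : ℕ) (c : Fin n → F) : F[X] :=
  ∑ s : Fin n, C (c s) * X ^ 2 ^ (s : ℕ)

theorem eval_linPoly (n : ℕ) (c : Fin n → F) (x : F) : (linPoly n c).eval x = lin n c x := by
  simp [linPoly, lin_apply, eval_finsetSum]

theorem coeff_linPoly (n : ℕ) (c : Fin n → F) (t : Fin n) :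
    (linPoly n c).coeff (2 ^ (t : ℕ)) = c t := by
  rw [linPoly, finsetSum_coeff]
  rw [Finset.sum_eq_single t]
  · simp
  · intro s _ hst
    rw [coeff_C_mul, coeff_X_pow, if_neg, mul_zero]
    intro h
    apply hst
    exact Fin.ext (Nat.pow_right_injective (le_refl 2) h).symm
  · intro h
    exact absurd (Finset.mem_univ t) h

theorem natDegree_linPoly_lt (n : ℕ) (hn : 0 < n) (c : Fin n → F) :
    (linPoly n c).natDegree < 2 ^ n := by
  have h1 : (linPoly n c).natDegree ≤ 2 ^ (n - 1) := by
    rw [linPoly]
    apply natDegree_sum_le_of_forall_le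
    intro s _
    calc (C (c s) * X ^ 2 ^ (s : ℕ)).natDegree ≤ 2 ^ (s : ℕ) := natDegree_C_mul_X_pow_le _ _
      _ ≤ 2 ^ (n - 1) := Nat.pow_le_pow_right (by norm_num) (by have := s.2; omega)
  have h2 : 2 ^ (n - 1) < 2 ^ n := Nat.pow_lt_pow_right (by norm_num) (by omega)
  omega

theorem lin_injective (n : ℕ) (hF : Fintype.card F = 2 ^ n) :
    Function.Injective (lin n : (Fin n → F) → (F →+ F)) := by
  have key : ∀ c : Fin n → F, lin n c = 0 → c = 0 := by
    intro c hc
    rcases Nat.eq_zero_or_pos n with hn | hn
    · subst hn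
      funext s
      exact s.elim0
    have hp : linPoly n c = 0 := by
      apply eq_zero_of_natDegree_lt_card_of_eval_eq_zero (linPoly n c) (f := (id : F → F))
        Function.injective_id
      · intro x
        simp only [id]
        rw [eval_linPoly, hc]
        rfl
      · rw [hF]
        exact natDegree_linPoly_lt n hn c
    funext t
    rw [← coeff_linPoly n c t, hp]
    simp
  intro c d hcd
  have : lin n (c - d) = 0 := by
    have h := lin_add n (c - d) d
    rw [sub_add_cancel, hcd] at h
    exact (add_eq_right.mp h.symm)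
  have := key _ this
  exact sub_eq_zero.mp this

theorem card_addHom (n : ℕ) (hF : Fintype.card F = 2 ^ n) :
    Nat.card (F →+ F) = 2 ^ (n * n) := by
  letI : Algebra (ZMod 2) F := ZMod.algebra F 2
  have e := (AddMonoidHom.toZModLinearMapEquiv 2 (M := F) (M₁ := F)).toEquiv
  rw [Nat.card_congr e]
  have hn : Module.finrank (ZMod 2) F = n := by
    have h := Module.card_eq_pow_finrank (K := ZMod 2) (V := F)
    rw [hF, ZMod.card] at h
    exact (Nat.pow_right_injective (le_refl 2) h).symm
  have hfr : Module.finrank (ZMod 2) (F →ₗ[ZMod 2] F) = n * n := by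
    rw [Module.finrank_linearMap, hn]
  haveI : Finite (F →ₗ[ZMod 2] F) := Module.finite_of_finite (ZMod 2)
  haveI : Fintype (F →ₗ[ZMod 2] F) := Fintype.ofFinite _
  rw [Nat.card_eq_fintype_card, Module.card_eq_pow_finrank (K := ZMod 2), hfr, ZMod.card]

theorem lin_bijective (n : ℕ) (hF : Fintype.card F = 2 ^ n) :
    Function.Bijective (lin n : (Fin n → F) → (F →+ F)) := by
  haveI : Finite (F →+ F) := by
    apply Nat.finite_of_card_ne_zero
    rw [card_addHom n hF]
    positivity
  rw [Nat.bijective_iff_injective_and_card]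
  refine ⟨lin_injective n hF, ?_⟩
  rw [card_addHom n hF, Nat.card_eq_fintype_card, Fintype.card_pi]
  simp [hF, ← pow_mul]

end Cfsg.Agent.Lib.Helper9_HigLP
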