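import Cfsg.Agent.Lib.Helper9_HigLP

/-!
# Torus-invariant subgroups of the additive endomorphisms of a finite field (helper9)

Coordinates `c : Fin n → F` stand for the additive map `x ↦ ∑ c s * x ^ 2 ^ s`; conjugation by the
multiplication by `κ` acts on coordinate `s` as multiplication by `mu s κ = κ * κ⁻¹ ^ 2 ^ s`.
A subgroup invariant under this action on which no `κ ≠ 1` fixes a nonzero vector is a sum of
coordinate lines.
-/

set_option autoImplicit false
set_option linter.unusedSectionVars false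
set_option linter.style.haveILetI false
set_option linter.unusedSimpArgs false
set_option linter.unusedVariables false

namespace Cfsg.Agent.Lib.Helper9_HigLine

open Cfsg.Agent.Lib.Helper9_HigLP

variable {F : Type*} [Field F] [Fintype F] [CharP F 2]

/-- the multiplier of conjugation by `κ` on the `s`-th coordinate -/
def mu (s : ℕ) (κ : Fˣ) : F := (κ : F) * ((κ⁻¹ : Fˣ) : F) ^ 2 ^ s

theorem mu_ne_zero (s : ℕ) (κ : Fˣ) : mu s κ ≠ (0 : F) := by
  unfold mu
  exact mul_ne_zero κ.ne_zero (pow_ne_zero _ (κ⁻¹).ne_zero)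

theorem mu_one (s : ℕ) : mu s (1 : Fˣ) = (1 : F) := by simp [mu]

theorem mu_mul (s : ℕ) (κ κ' : Fˣ) : mu s (κ * κ') = mu s κ * (mu s κ' : F) := by
  simp only [mu, Units.val_mul, mul_inv, mul_pow]
  ring

theorem mu_inv (s : ℕ) (κ : Fˣ) : mu s κ⁻¹ * mu s κ = (1 : F) := by
  rw [← mu_mul, inv_mul_cancel, mu_one]

theorem mu_zero (κ : Fˣ) : mu 0 κ = (1 : F) := by simp [mu]

variable (n : ℕ)

/-- the torus action on coordinates -/
def T (κ : Fˣ) (c : Fin n → F) : Fin n → F := fun s => mu (s : ℕ) κ * c s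

theorem T_add (κ : Fˣ) (c d : Fin n → F) : T n κ (c + d) = T n κ c + T n κ d := by
  funext s
  simp [T, mul_add]

theorem T_zero (κ : Fˣ) : T n κ (0 : Fin n → F) = 0 := by
  funext s
  simp [T]

theorem T_neg (κ : Fˣ) (c : Fin n → F) : T n κ (-c) = - T n κ c := by
  funext s
  simp [T]

theorem T_sub (κ : Fˣ) (c d : Fin n → F) : T n κ (c - d) = T n κ c - T n κ d := by
  funext s
  simp [T, mul_sub]

theorem T_one (c : Fin n → F) : T n 1 c = c := by
  funext s
  simp [T, mu_one]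

theorem T_mul (κ κ' : Fˣ) (c : Fin n → F) : T n (κ * κ') c = T n κ (T n κ' c) := by
  funext s
  simp [T, mu_mul, mul_assoc]

/-- conjugation of `lin n c` by the multiplication by `κ` is `lin n (T κ c)` -/
theorem lin_T (κ : Fˣ) (c : Fin n → F) (x : F) :
    lin n (T n κ c) x = (κ : F) * lin n c (((κ⁻¹ : Fˣ) : F) * x) := by
  rw [lin_apply, lin_apply, Finset.mul_sum]
  apply Finset.sum_congr rfl
  intro s _
  simp only [T, mu, mul_pow]
  ring

/-- invariance -/
def Inv (D : AddSubgroup (Fin n → F)) : Prop := ∀ κ : Fˣ, ∀ c ∈ D, T n κ c ∈ D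

/-- semiregularity -/
def SemiReg (D : AddSubgroup (Fin n → F)) : Prop :=
  ∀ κ : Fˣ, ∀ c ∈ D, c ≠ 0 → T n κ c = c → κ = 1

/-- the coordinate hyperplane `c s = 0` -/
def hyper (s : Fin n) : AddSubgroup (Fin n → F) where
  carrier := {c | c s = 0}
  zero_mem' := rfl
  add_mem' := by
    intro a b ha hb
    simp only [Set.mem_ofPred_eq, Pi.add_apply] at *
    rw [ha, hb, add_zero]
  neg_mem' := by
    intro a ha
    simp only [Set.mem_ofPred_eq, Pi.neg_apply] at *
    rw [ha, neg_zero]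

theorem mem_hyper (s : Fin n) (c : Fin n → F) : c ∈ hyper n s ↔ c s = 0 := Iff.rfl

/-- the coordinate line -/
def line (t : Fin n) : AddSubgroup (Fin n → F) where
  carrier := {c | ∀ s, s ≠ t → c s = 0}
  zero_mem' := fun _ _ => rfl
  add_mem' := by
    intro a b ha hb s hs
    simp only [Pi.add_apply]
    rw [ha s hs, hb s hs, add_zero]
  neg_mem' := by
    intro a ha s hs
    simp only [Pi.neg_apply]
    rw [ha s hs, neg_zero]

theorem mem_line (t : Fin n) (c : Fin n → F) : c ∈ line n t ↔ ∀ s, s ≠ t → c s = 0 := Iff.rfl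

theorem single_mem_line (t : Fin n) (a : F) : Pi.single t a ∈ line n t := by
  intro s hs
  simp [Pi.single_apply, hs]

theorem eq_single_of_mem_line (t : Fin n) (c : Fin n → F) (hc : c ∈ line n t) :
    c = Pi.single t (c t) := by
  funext s
  by_cases hs : s = t
  · subst hs
    simp
  · rw [hc s hs]
    simp [Pi.single_apply, hs]

theorem inv_inf_hyper {D : AddSubgroup (Fin n → F)} (hD : Inv n D) (s : Fin n) :
    Inv n (D ⊓ hyper n s) := by
  intro κ c hc
  refine ⟨hD κ c hc.1, ?_⟩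
  have h2 : c s = 0 := hc.2
  show mu (s : ℕ) κ * c s = 0
  rw [h2, mul_zero]

theorem semiReg_mono {D D' : AddSubgroup (Fin n → F)} (h : D' ≤ D) (hD : SemiReg n D) :
    SemiReg n D' := fun κ c hc hc0 hT => hD κ c (h hc) hc0 hT


/-! ### arithmetic -/

theorem two_pow_mod (n k : ℕ) (hn : 1 ≤ n) : 2 ^ k ≡ 2 ^ (k % n) [MOD 2 ^ n - 1] := by
  have h1 : 2 ^ n ≡ 1 [MOD 2 ^ n - 1] := by
    have hp : 1 ≤ 2 ^ n := Nat.one_le_two_pow
    have : 2 ^ n = (2 ^ n - 1) + 1 := by omega
    rw [Nat.ModEq]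
    conv_lhs => rw [this]
    simp
  conv_lhs => rw [← Nat.div_add_mod k n, pow_add, pow_mul]
  have h2 : (2 ^ n) ^ (k / n) ≡ 1 ^ (k / n) [MOD 2 ^ n - 1] := h1.pow _
  rw [one_pow] at h2
  have h3 := h2.mul_right (2 ^ (k % n))
  rwa [one_mul] at h3

theorem nat_key (n j s s' : ℕ) (hn : 2 ≤ n) (hj : j < n) (hs : s < n) (hs' : s' < n) (h1 : 1 ≤ s')
    (h : 2 ^ j + 2 ^ s' ≡ 1 + 2 ^ (s + j) [MOD 2 ^ n - 1]) : s = s' := by
  set u := (s + j) % n with hu
  have hun : u < n := Nat.mod_lt _ (by omega)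
  have h2 : 2 ^ j + 2 ^ s' ≡ 1 + 2 ^ u [MOD 2 ^ n - 1] :=
    h.trans ((two_pow_mod n (s + j) (by omega)).add_left 1)
  obtain ⟨P, hP⟩ : ∃ P, P = 2 ^ (n - 1) := ⟨_, rfl⟩
  have hPn : 2 ^ n = 2 * P := by
    rw [hP, ← pow_succ']
    congr 1
    omega
  have hP2 : 2 ≤ P := by
    rw [hP]
    calc 2 = 2 ^ 1 := by norm_num
      _ ≤ 2 ^ (n - 1) := Nat.pow_le_pow_right (by norm_num) (by omega)
  have hjP : 2 ^ j ≤ P := by rw [hP]; exact Nat.pow_le_pow_right (by norm_num) (by omega)
  have hsP : 2 ^ s' ≤ P := by rw [hP]; exact Nat.pow_le_pow_right (by norm_num) (by omega)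
  have huP : 2 ^ u ≤ P := by rw [hP]; exact Nat.pow_le_pow_right (by norm_num) (by omega)
  have hj1 : 1 ≤ 2 ^ j := Nat.one_le_two_pow
  have hu1 : 1 ≤ 2 ^ u := Nat.one_le_two_pow
  have hs2 : 2 ≤ 2 ^ s' := by
    calc 2 = 2 ^ 1 := by norm_num
      _ ≤ 2 ^ s' := Nat.pow_le_pow_right (by norm_num) h1
  have heq : 2 ^ j + 2 ^ s' = 1 + 2 ^ u := by
    have hd := (Nat.modEq_iff_dvd.mp h2)
    have hm : 2 ^ n - 1 + 1 = 2 * P := by omega
    generalize 2 ^ j = a at *
    generalize 2 ^ s' = b at *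
    generalize 2 ^ u = c at *
    generalize 2 ^ n - 1 = m at *
    have hz : ((1 + c : ℕ) : ℤ) - ((a + b : ℕ) : ℤ) = 0 := by
      apply Int.eq_zero_of_abs_lt_dvd hd
      rw [abs_lt]
      constructor <;> omega
    omega
  rcases Nat.eq_zero_or_pos j with hj0 | hj0
  · subst hj0
    have : 2 ^ s' = 2 ^ u := by omega
    have hsu : s' = u := Nat.pow_right_injective (le_refl 2) this
    rw [hsu, hu, add_zero, Nat.mod_eq_of_lt hs]
  · exfalso
    have hj2 : 2 ∣ 2 ^ j := dvd_pow_self 2 (by omega)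
    have hs2' : 2 ∣ 2 ^ s' := dvd_pow_self 2 (by omega)
    have hj22 : 2 ≤ 2 ^ j := Nat.le_of_dvd (by omega) hj2
    rcases Nat.eq_zero_or_pos u with hu0 | hu0
    · rw [hu0] at heq
      omega
    · have hu2 : 2 ∣ 2 ^ u := dvd_pow_self 2 (by omega)
      omega

theorem mu_compare (hF : Fintype.card F = 2 ^ n) (hn : 2 ≤ n) (s s' j : Fin n)
    (h1 : 1 ≤ (s' : ℕ))
    (h : ∀ κ : Fˣ, (mu (s : ℕ) κ) ^ 2 ^ (j : ℕ) = (mu (s' : ℕ) κ : F)) : s = s' := by
  obtain ⟨g, hg⟩ := IsCyclic.exists_generator (α := Fˣ)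
  have hord : orderOf g = 2 ^ n - 1 := by
    classical
    rw [orderOf_eq_card_of_forall_mem_zpowers hg, Nat.card_eq_fintype_card, Fintype.card_units, hF]
  have h2 := h g
  have hx : (g : F) ≠ 0 := g.ne_zero
  have h3 : g ^ (2 ^ (j : ℕ) + 2 ^ (s' : ℕ)) = g ^ (1 + 2 ^ ((s : ℕ) + (j : ℕ))) := by
    apply Units.ext
    simp only [mu, Units.val_inv_eq_inv_val, inv_pow, mul_pow] at h2
    push_cast
    rw [← pow_mul] at h2
    have ha : ((g : F) ^ (2 ^ (s : ℕ) * 2 ^ (j : ℕ))) ≠ 0 := pow_ne_zero _ hx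
    have hb : ((g : F) ^ 2 ^ (s' : ℕ)) ≠ 0 := pow_ne_zero _ hx
    rw [pow_add, pow_add, pow_one, pow_add (2 : ℕ)]
    field_simp at h2
    rw [h2]
    ring
  have h4 := pow_eq_pow_iff_modEq.mp h3
  rw [hord] at h4
  have := nat_key n j s s' hn j.2 s.2 s'.2 h1 h4
  exact Fin.ext this


/-! ### minimal invariant subgroups are coordinate lines -/

/-- every nonzero element of `F` is a value of `mu s` as soon as `mu s` is injective -/
theorem mu_surj_of_inj (s : ℕ) (hinj : ∀ κ : Fˣ, mu s κ = (1 : F) → κ = 1) (y : F) (hy : y ≠ 0) :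
    ∃ κ : Fˣ, mu s κ = y := by
  classical
  let f : Fˣ → Fˣ := fun κ => Units.mk0 (mu s κ) (mu_ne_zero s κ)
  have hf : Function.Injective f := by
    intro a b hab
    have h1 : mu s a = (mu s b : F) := congrArg Units.val hab
    have h2 : mu s (a * b⁻¹) = (1 : F) := by
      rw [mu_mul, h1, mul_comm, mu_inv]
    have := hinj _ h2
    rwa [mul_inv_eq_one] at this
  have hs : Function.Surjective f := Finite.surjective_of_injective hf
  obtain ⟨κ, hκ⟩ := hs (Units.mk0 y hy)
  exact ⟨κ, congrArg Units.val hκ⟩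

theorem line_of_minimal (hF : Fintype.card F = 2 ^ n) (hn : 2 ≤ n)
    (D : AddSubgroup (Fin n → F)) (hD : Inv n D) (hsr : SemiReg n D) (hne : D ≠ ⊥)
    (hmin : ∀ D' : AddSubgroup (Fin n → F), D' ≤ D → Inv n D' → D' = ⊥ ∨ D' = D) :
    ∃ t : Fin n, D = line n t := by
  classical
  -- a nonzero element
  obtain ⟨c₀, hc₀D, hc₀⟩ : ∃ c ∈ D, c ≠ 0 := by
    by_contra hcon
    push Not at hcon
    apply hne
    rw [eq_bot_iff]
    intro c hc
    rw [AddSubgroup.mem_bot]
    exact hcon c hc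
  -- dichotomy for coordinates
  have hdich : ∀ s : Fin n, (∀ c ∈ D, c s = 0) ∨ (∀ c ∈ D, c s = 0 → c = 0) := by
    intro s
    rcases hmin (D ⊓ hyper n s) inf_le_left (inv_inf_hyper n hD s) with h | h
    · right
      intro c hc hcs
      have : c ∈ D ⊓ hyper n s := ⟨hc, hcs⟩
      rw [h, AddSubgroup.mem_bot] at this
      exact this
    · left
      intro c hc
      have : c ∈ D ⊓ hyper n s := by rw [h]; exact hc
      exact this.2
  -- a coordinate in the support
  obtain ⟨t, ht⟩ : ∃ t : Fin n, c₀ t ≠ 0 := by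
    by_contra hcon
    push Not at hcon
    exact hc₀ (funext hcon)
  have hinjt : ∀ c ∈ D, c t = 0 → c = 0 := by
    rcases hdich t with h | h
    · exact absurd (h c₀ hc₀D) ht
    · exact h
  -- `mu s` is injective for `s` in the support
  have hmuinj : ∀ s : Fin n, (∀ c ∈ D, c s = 0 → c = 0) → ∀ κ : Fˣ, mu (s : ℕ) κ = (1 : F) → κ = 1 := by
    intro s hs κ hκ
    apply hsr κ c₀ hc₀D hc₀
    have h1 : T n κ c₀ - c₀ ∈ D := D.sub_mem (hD κ c₀ hc₀D) hc₀D
    have h2 : (T n κ c₀ - c₀) s = 0 := by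
      simp [T, hκ]
    have := hs _ h1 h2
    exact sub_eq_zero.mp this
  -- the projection onto a support coordinate is onto
  have hsurj : ∀ s : Fin n, (∀ c ∈ D, c s = 0 → c = 0) → ∀ y : F, ∃ c ∈ D, c s = y := by
    intro s hs y
    by_cases hy : y = 0
    · exact ⟨0, D.zero_mem, by simp [hy]⟩
    have hc0s : c₀ s ≠ 0 := fun h => hc₀ (hs c₀ hc₀D h)
    obtain ⟨κ, hκ⟩ := mu_surj_of_inj (s : ℕ) (hmuinj s hs) (y / c₀ s) (div_ne_zero hy hc0s)
    refine ⟨T n κ c₀, hD κ c₀ hc₀D, ?_⟩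
    show mu (s : ℕ) κ * c₀ s = y
    rw [hκ]
    field_simp
  -- every support coordinate equals `t`
  have hsupp : ∀ s : Fin n, (∀ c ∈ D, c s = 0 → c = 0) → s = t := by
    intro s hs
    -- `s ≠ 0` as a natural number
    have hs1 : 1 ≤ (s : ℕ) := by
      by_contra hcon
      have hs0 : (s : ℕ) = 0 := by omega
      have hone : ∀ κ : Fˣ, κ = 1 := by
        intro κ
        apply hmuinj s hs κ
        rw [hs0, mu_zero]
      have hcard : Fintype.card Fˣ = 2 ^ n - 1 := by rw [Fintype.card_units, hF]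
      have h4 : 4 ≤ 2 ^ n := by
        calc 4 = 2 ^ 2 := by norm_num
          _ ≤ 2 ^ n := Nat.pow_le_pow_right (by norm_num) hn
      have hle : Fintype.card Fˣ ≤ 1 := Fintype.card_le_one_iff.mpr (fun a b => by rw [hone a, hone b])
      omega
    -- the additive equivalence `D ≃ F` given by the coordinate `t`
    let pt : D →+ F := (Pi.evalAddMonoidHom (fun _ : Fin n => F) t).comp D.subtype
    have hptbij : Function.Bijective pt := by
      constructor
      · rw [injective_iff_map_eq_zero]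
        intro d hd
        exact Subtype.ext (hinjt d.1 d.2 hd)
      · intro y
        obtain ⟨c, hc, hcy⟩ := hsurj t hinjt y
        exact ⟨⟨c, hc⟩, hcy⟩
    let e : D ≃+ F := AddEquiv.ofBijective pt hptbij
    let ps : D →+ F := (Pi.evalAddMonoidHom (fun _ : Fin n => F) s).comp D.subtype
    let φ : F →+ F := ps.comp e.symm.toAddMonoidHom
    have hφ : ∀ d : D, φ (d.1 t) = d.1 s := by
      intro d
      have : e.symm (d.1 t) = d := by
        rw [AddEquiv.symm_apply_eq]
        rfl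
      show ps (e.symm (d.1 t)) = d.1 s
      rw [this]
      rfl
    obtain ⟨f, hf⟩ := (lin_bijective n hF).2 φ
    -- equivariance
    have hequiv : ∀ κ : Fˣ, ∀ x : F, φ (mu (t : ℕ) κ * x) = mu (s : ℕ) κ * φ x := by
      intro κ x
      obtain ⟨c, hc, hcx⟩ := hsurj t hinjt x
      have h1 := hφ ⟨T n κ c, hD κ c hc⟩
      have h2 := hφ ⟨c, hc⟩
      simp only [T] at h1
      rw [← hcx, h1, h2]
    have hcoef : ∀ κ : Fˣ, ∀ j : Fin n, f j * (mu (t : ℕ) κ) ^ 2 ^ (j : ℕ) = mu (s : ℕ) κ * f j := by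
      intro κ j
      have h1 : lin n (fun j => f j * (mu (t : ℕ) κ) ^ 2 ^ (j : ℕ)) = lin n (fun j => mu (s : ℕ) κ * f j) := by
        ext x
        rw [lin_apply, lin_apply]
        have h2 := hequiv κ x
        rw [← hf, lin_apply, lin_apply, Finset.mul_sum] at h2
        refine Eq.trans ?_ (h2.trans ?_)
        · apply Finset.sum_congr rfl
          intro i _
          rw [mul_pow]
          ring
        · apply Finset.sum_congr rfl
          intro i _
          ring
      exact congrFun (lin_injective n hF h1) j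
    -- `φ ≠ 0`
    have hφne : φ ≠ 0 := by
      intro h0
      have := hφ ⟨c₀, hc₀D⟩
      rw [h0] at this
      exact hc₀ (hs c₀ hc₀D this.symm)
    obtain ⟨j, hj⟩ : ∃ j : Fin n, f j ≠ 0 := by
      by_contra hcon
      push Not at hcon
      apply hφne
      rw [← hf]
      have : f = 0 := funext hcon
      rw [this]
      ext x
      simp [lin_apply]
    have hcmp : ∀ κ : Fˣ, (mu (t : ℕ) κ) ^ 2 ^ (j : ℕ) = (mu (s : ℕ) κ : F) := by
      intro κ
      have := hcoef κ j
      rw [mul_comm (mu (s : ℕ) κ)] at this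
      exact mul_left_cancel₀ hj this
    exact (mu_compare n hF hn t s j hs1 hcmp).symm
  refine ⟨t, le_antisymm ?_ ?_⟩
  · intro c hc s hst
    rcases hdich s with h | h
    · exact h c hc
    · exact absurd (hsupp s h) hst
  · intro c hc
    obtain ⟨d, hd, hdt⟩ := hsurj t hinjt (c t)
    have : d = c := by
      funext s
      by_cases hs : s = t
      · rw [hs, hdt]
      · rw [hc s hs]
        rcases hdich s with h | h
        · exact h d hd
        · exact absurd (hsupp s h) hs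
    rw [← this]
    exact hd

end Cfsg.Agent.Lib.Helper9_HigLine
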