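import Cfsg.Agent.Lib.Helper9_HigBase
import Cfsg.Agent.Lib.Helper9_HigLine

/-!
# Higman's theorem: the subgroup `W` and arithmetic (helper9)
-/

set_option autoImplicit false
set_option linter.unusedSectionVars false
set_option linter.style.haveILetI false
set_option linter.unusedSimpArgs false
set_option linter.unusedVariables false

namespace Cfsg.Agent.Lib.Helper9_HigBase

universe u v

variable {K : Type v} [CommGroup K] {G : Type u} [Group G] {φ : K →* MulAut G}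

/-! ### computations modulo central elements -/

theorem cm_mul_left_of_mem {x y g : G} (hc : cm x g ∈ Om G) :
    cm (x * y) g = cm x g * cm y g := by
  rw [cm_mul_left]
  have : y⁻¹ * cm x g * y = cm x g := by
    have h1 : y⁻¹ * cm x g * y = y⁻¹ * (cm x g * y) := by group
    rw [h1, ← Om_comm hc y]
    group
  rw [this]

theorem cm_mul_right_of_mem {x g k : G} (hc : cm x g ∈ Om G) :
    cm x (g * k) = cm x g * cm x k := by
  rw [cm_mul_right]
  have : k⁻¹ * cm x g * k = cm x g := by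
    have h1 : k⁻¹ * cm x g * k = k⁻¹ * (cm x g * k) := by group
    rw [h1, ← Om_comm hc k]
    group
  rw [this, Om_comm hc]

theorem mul_sq_of_mem {x y : G} (hc : cm y x ∈ Om G) :
    (x * y) * (x * y) = x * x * (y * y) * cm y x := by
  have h1 : y * x = x * y * cm y x := by
    unfold cm; group
  calc x * y * (x * y) = x * (y * x) * y := by group
    _ = x * (x * y * cm y x) * y := by rw [h1]
    _ = x * x * y * (cm y x * y) := by group
    _ = x * x * y * (y * cm y x) := by rw [Om_comm hc y]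
    _ = x * x * (y * y) * cm y x := by group

/-- conjugation by `g` fixes an element whose commutator with `g` is trivial -/
theorem conj_eq_of_cm_eq_one {x g : G} (hc : cm x g = 1) : g⁻¹ * x * g = x := by
  rw [conj_eq_mul_cm, hc, mul_one]

/-! ### invariance -/

theorem IsHig.cm_map (h : IsHig φ) (k : K) (x g : G) : φ k (cm x g) = cm (φ k x) (φ k g) := by
  unfold cm
  simp

theorem IsHig.W_inv (h : IsHig φ) : ∀ k, ∀ x ∈ W G, φ k x ∈ W G := by
  intro k x hx
  rw [mem_W] at hx ⊢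
  refine ⟨?_, ?_⟩
  · rw [← map_mul]
    exact h.Om_inv k _ hx.1
  · intro g
    have h1 : cm (φ k x) g = φ k (cm x (φ k⁻¹ g)) := by
      rw [h.cm_map, map_inv, MulAut.apply_inv_self]
    rw [h1]
    exact h.Om_inv k _ (hx.2 _)

theorem IsHig.exists_W_not_mem (h : IsHig φ) (hne : ∃ x : G, x ∉ Om G) :
    ∃ w ∈ W G, w ∉ Om G := by
  haveI := h.fin
  obtain ⟨x, hx⟩ := hne
  haveI : Nontrivial (G ⧸ Om G) := by
    refine ⟨⟨(x : G ⧸ Om G), 1, ?_⟩⟩
    rwa [Ne, QuotientGroup.eq_one_iff]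
  obtain ⟨z, hz, hz1⟩ := exists_Om_ne_one (h.pgroup.to_quotient (Om G))
  induction z using QuotientGroup.induction_on with
  | H w =>
    refine ⟨w, hz, ?_⟩
    rwa [Ne, QuotientGroup.eq_one_iff] at hz1

/-- squares of an invariant subgroup cover the central involutions -/
theorem IsHig.sq_surj (h : IsHig φ) (H : Subgroup G) (hH : ∀ k, ∀ x ∈ H, φ k x ∈ H)
    (v : G) (hv : v ∈ H) (hv2 : v * v ∈ Om G) (hvZ : v ∉ Om G) :
    ∀ z ∈ Om G, ∃ w ∈ H, w * w = z := by
  intro z hz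
  by_cases hz1 : z = 1
  · exact ⟨1, H.one_mem, by rw [hz1, mul_one]⟩
  have hv1 : v * v ≠ 1 := fun h0 => hvZ ((h.mem_Om_iff v).mpr h0)
  obtain ⟨k, hk, -⟩ := h.reg (v * v) z hv1 (Om_sq hv2) hz1 (Om_sq hz)
  exact ⟨φ k v, hH k v hv, by rw [← map_mul, hk]⟩

/-! ### arithmetic -/

theorem IsHig.exists_exponents (h : IsHig φ) (hK : ∃ k : K, k ≠ 1) :
    ∃ n a : ℕ, 2 ≤ n ∧ Nat.card (Om G) = 2 ^ n ∧ Nat.card K = 2 ^ n - 1 ∧
      Nat.card G = (2 ^ n) ^ a := by
  haveI := h.fin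
  haveI := h.finite_K
  haveI : Fact (Nat.Prime 2) := ⟨Nat.prime_two⟩
  obtain ⟨n, hn⟩ := (IsPGroup.iff_card.mp (h.pgroup.to_subgroup (Om G)))
  obtain ⟨b, hb⟩ := (IsPGroup.iff_card.mp h.pgroup)
  have hcK : Nat.card K = 2 ^ n - 1 := by
    have := h.card_Om
    omega
  have hK2 : 2 ≤ Nat.card K := by
    obtain ⟨k, hk⟩ := hK
    haveI : Nontrivial K := ⟨⟨k, 1, hk⟩⟩
    exact Finite.one_lt_card
  have hn2 : 2 ≤ n := by
    by_contra hcon
    have h1 : n ≤ 1 := by omega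
    have h2 : 2 ^ n ≤ 2 ^ 1 := Nat.pow_le_pow_right (by norm_num) h1
    omega
  have hdvd := h.card_dvd
  rw [hcK, hb] at hdvd
  have hmod : 1 ≡ 2 ^ b [MOD 2 ^ n - 1] := (Nat.modEq_iff_dvd' Nat.one_le_two_pow).mpr hdvd
  have hmod2 := hmod.trans (Cfsg.Agent.Lib.Helper9_HigLine.two_pow_mod n b (by omega))
  have hlt : b % n < n := Nat.mod_lt _ (by omega)
  have hle : 2 ^ (b % n) ≤ 2 ^ (n - 1) := Nat.pow_le_pow_right (by norm_num) (by omega)
  have hP : 2 ^ n = 2 * 2 ^ (n - 1) := by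
    rw [← pow_succ']
    congr 1
    omega
  have h2P : 2 ≤ 2 ^ (n - 1) := by
    calc 2 = 2 ^ 1 := by norm_num
      _ ≤ 2 ^ (n - 1) := Nat.pow_le_pow_right (by norm_num) (by omega)
  have h1 : 2 ^ (b % n) = 1 := by
    have h3 : 2 ^ (b % n) < 2 ^ n - 1 := by omega
    have h4 : (1 : ℕ) < 2 ^ n - 1 := by omega
    have := Nat.ModEq.eq_of_lt_of_lt hmod2 h4 h3
    exact this.symm
  have h0 : b % n = 0 := by
    by_contra hcon
    have : 2 ≤ 2 ^ (b % n) := by
      calc 2 = 2 ^ 1 := by norm_num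
        _ ≤ 2 ^ (b % n) := Nat.pow_le_pow_right (by norm_num) (by omega)
    omega
  refine ⟨n, b / n, hn2, hn, hcK, ?_⟩
  rw [hb, ← pow_mul]
  congr 1
  exact (Nat.mul_div_cancel' (Nat.dvd_of_mod_eq_zero h0)).symm

end Cfsg.Agent.Lib.Helper9_HigBase
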