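import Cfsg.Agent.Lib.Helper9_KKMain

/-!
# Lie rings with a fixed-point-free automorphism of prime order (helper9)

Scalar extension to a ring containing a primitive `p`-th root of unity, eigen-decomposition, and
transfer of the nilpotency bound for graded systems.
-/

set_option autoImplicit false
set_option linter.unusedSectionVars false
set_option linter.style.haveILetI false
set_option linter.unusedSimpArgs false
set_option linter.unusedVariables false

namespace Cfsg.Agent.Lib.Helper9_KK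

open scoped TensorProduct

universe u

section Eigen

variable {L : Type u} [LieRing L] {p : ℕ} [hp : Fact p.Prime]
variable {A : Type} [CommRing A]

/-- data: a `p`-th root of unity with vanishing power sum and a retraction onto `ℤ` -/
structure RootData (A : Type) [CommRing A] (p : ℕ) where
  ω : A
  pow_eq : ω ^ p = 1
  sum_eq : ∑ k ∈ Finset.range p, ω ^ k = 0
  ρ : A →ₗ[ℤ] ℤ
  ρ_one : ρ 1 = 1

variable (R : RootData A p)

theorem RootData.pow_mod (m : ℕ) : R.ω ^ (m % p) = R.ω ^ m := by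
  conv_rhs => rw [← Nat.div_add_mod m p, pow_add, pow_mul, R.pow_eq, one_pow, one_mul]

/-- the additive character `r ↦ ω ^ r` -/
def RootData.χ (r : ZMod p) : A := R.ω ^ r.val

theorem RootData.χ_natCast (m : ℕ) : R.χ (m : ZMod p) = R.ω ^ m := by
  unfold RootData.χ
  rw [ZMod.val_natCast, R.pow_mod]

theorem RootData.χ_add (r s : ZMod p) : R.χ (r + s) = R.χ r * R.χ s := by
  haveI : NeZero p := ⟨hp.out.ne_zero⟩
  unfold RootData.χ
  rw [ZMod.val_add, R.pow_mod, pow_add]

theorem RootData.χ_zero : R.χ (0 : ZMod p) = 1 := by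
  unfold RootData.χ
  rw [ZMod.val_zero, pow_zero]

theorem RootData.sum_χ : ∑ r : ZMod p, R.χ r = 0 := by
  haveI : NeZero p := ⟨hp.out.ne_zero⟩
  rw [← R.sum_eq]
  symm
  refine Finset.sum_bij (s := Finset.range p) (t := (Finset.univ : Finset (ZMod p)))
    (fun m _ => ((m : ℕ) : ZMod p)) ?_ ?_ ?_ ?_
  · intro m _; exact Finset.mem_univ _
  · intro m hm m' hm' h
    rw [ZMod.natCast_eq_natCast_iff', Nat.mod_eq_of_lt (Finset.mem_range.mp hm),
      Nat.mod_eq_of_lt (Finset.mem_range.mp hm')] at h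
    exact h
  · intro r _
    exact ⟨r.val, Finset.mem_range.mpr (ZMod.val_lt r), ZMod.natCast_zmod_val r⟩
  · intro m _
    rw [R.χ_natCast]

theorem RootData.sum_χ_mul {k : ZMod p} (hk : k ≠ 0) : ∑ i : ZMod p, R.χ (-(i * k)) = 0 := by
  rw [← R.sum_χ]
  apply Fintype.sum_bijective (fun i : ZMod p => -(i * k))
  · constructor
    · intro i j hij
      have : i * k = j * k := neg_injective hij
      exact mul_right_cancel₀ hk this
    · intro r
      refine ⟨-(r * k⁻¹), ?_⟩
      show -(-(r * k⁻¹) * k) = r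
      rw [neg_mul, neg_neg, mul_assoc, inv_mul_cancel₀ hk, mul_one]
  · intro i; rfl

end Eigen

section Tensor

attribute [-instance] LieAlgebra.ExtendScalars.instBracketTensorProduct
attribute [-instance] LieAlgebra.ExtendScalars.instLieRingModule
attribute [-instance] LieAlgebra.ExtendScalars.instLieModule

variable {L : Type u} [LieRing L] {p : ℕ} [hp : Fact p.Prime]
variable {A : Type} [CommRing A]

theorem tmul_lie_tmul (x y : A) (l m : L) :
    ⁅x ⊗ₜ[ℤ] l, y ⊗ₜ[ℤ] m⁆ = (x * y) ⊗ₜ[ℤ] ⁅l, m⁆ :=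
  LieAlgebra.ExtendScalars.bracket_tmul ℤ A L L x y l m

/-- the extension of an additive endomorphism of `L` to `A ⊗ L` -/
noncomputable def ext (A : Type) [CommRing A] (a : L →+ L) : A ⊗[ℤ] L →ₗ[A] A ⊗[ℤ] L :=
  (a.toIntLinearMap).baseChange A

@[simp] theorem ext_tmul (a : L →+ L) (x : A) (l : L) : ext A a (x ⊗ₜ[ℤ] l) = x ⊗ₜ[ℤ] a l := by
  unfold ext
  rw [LinearMap.baseChange_tmul]
  rfl

theorem ext_lie (a : L →+ L) (ha : ∀ x y, a ⁅x, y⁆ = ⁅a x, a y⁆) (s t : A ⊗[ℤ] L) :
    ext A a ⁅s, t⁆ = ⁅ext A a s, ext A a t⁆ := by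
  induction s using TensorProduct.induction_on with
  | zero => rw [zero_lie, map_zero, zero_lie]
  | tmul x l =>
    induction t using TensorProduct.induction_on with
    | zero => rw [lie_zero, map_zero, lie_zero]
    | tmul y m =>
      rw [tmul_lie_tmul, ext_tmul, ext_tmul, ext_tmul, tmul_lie_tmul, ha]
    | add t₁ t₂ h₁ h₂ => rw [lie_add, map_add, map_add, lie_add, h₁, h₂]
  | add s₁ s₂ h₁ h₂ => rw [add_lie, map_add, map_add, add_lie, h₁, h₂]

theorem ext_pow_tmul (a : L →+ L) (k : ℕ) (x : A) (l : L) :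
    (ext A a ^ k) (x ⊗ₜ[ℤ] l) = x ⊗ₜ[ℤ] (a^[k] l) := by
  induction k with
  | zero => simp
  | succ k ih =>
    rw [pow_succ', Module.End.mul_apply, ih, ext_tmul, Function.iterate_succ_apply']

theorem ext_pow_p (a : L →+ L) (hap : ∀ x, a^[p] x = x) (t : A ⊗[ℤ] L) :
    (ext A a ^ p) t = t := by
  induction t using TensorProduct.induction_on with
  | zero => simp
  | tmul x l => rw [ext_pow_tmul, hap]
  | add t₁ t₂ h₁ h₂ => rw [map_add, h₁, h₂]

theorem sum_iter_eq_zero (a : L →+ L) (hap : ∀ x, a^[p] x = x) (hfix : ∀ x, a x = x → x = 0)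
    (l : L) : ∑ k ∈ Finset.range p, a^[k] l = 0 := by
  apply hfix
  rw [map_sum]
  have h1 : ∀ k, a (a^[k] l) = a^[k + 1] l := fun k => (Function.iterate_succ_apply' a k l).symm
  simp_rw [h1]
  have e := (Finset.sum_range_succ' (fun k => a^[k] l) p).symm.trans
    (Finset.sum_range_succ (fun k => a^[k] l) p)
  simp only [hap, Function.iterate_zero, id_eq] at e
  exact add_right_cancel e

theorem sum_ext_pow_eq_zero (a : L →+ L) (hap : ∀ x, a^[p] x = x)
    (hfix : ∀ x, a x = x → x = 0) (t : A ⊗[ℤ] L) :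
    ∑ k ∈ Finset.range p, (ext A a ^ k) t = 0 := by
  induction t using TensorProduct.induction_on with
  | zero => simp
  | tmul x l =>
    simp_rw [ext_pow_tmul]
    rw [← TensorProduct.tmul_sum, sum_iter_eq_zero a hap hfix, TensorProduct.tmul_zero]
  | add t₁ t₂ h₁ h₂ =>
    simp_rw [map_add]
    rw [Finset.sum_add_distrib, h₁, h₂, add_zero]

/-- multiplication by `p` is injective on `A ⊗ L` -/
theorem tensor_torsion_free (d : L →+ L) (hd2 : ∀ x, d ((p : ℕ) • x) = x) (t : A ⊗[ℤ] L)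
    (ht : (p : ℕ) • t = 0) : t = 0 := by
  have key : ∀ t : A ⊗[ℤ] L, ext A d ((p : ℕ) • t) = t := by
    intro t
    induction t using TensorProduct.induction_on with
    | zero => simp
    | tmul x l =>
      rw [← TensorProduct.tmul_smul, ext_tmul, hd2]
    | add t₁ t₂ h₁ h₂ => rw [smul_add, map_add, h₁, h₂]
  rw [← key t, ht, map_zero]

/-- fixed points of the extended automorphism vanish -/
theorem ext_fix (a : L →+ L) (hap : ∀ x, a^[p] x = x) (hfix : ∀ x, a x = x → x = 0)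
    (d : L →+ L) (hd2 : ∀ x, d ((p : ℕ) • x) = x) (t : A ⊗[ℤ] L) (ht : ext A a t = t) :
    t = 0 := by
  apply tensor_torsion_free d hd2
  have h1 : ∀ k : ℕ, (ext A a ^ k) t = t := by
    intro k
    induction k with
    | zero => simp
    | succ k ih => rw [pow_succ', Module.End.mul_apply, ih, ht]
  have h2 := sum_ext_pow_eq_zero (A := A) a hap hfix t
  simp_rw [h1] at h2
  rwa [Finset.sum_const, Finset.card_range] at h2

/-! ### the eigen-system -/

variable (R : RootData A p)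

/-- eigen-subgroups of the extended automorphism -/
def eig (a : L →+ L) (i : ZMod p) : AddSubgroup (A ⊗[ℤ] L) where
  carrier := {t | ext A a t = R.χ i • t}
  zero_mem' := by simp
  add_mem' := by
    intro s t hs ht
    simp only [Set.mem_ofPred_eq] at hs ht ⊢
    rw [map_add, hs, ht, smul_add]
  neg_mem' := by
    intro s hs
    simp only [Set.mem_ofPred_eq] at hs ⊢
    rw [map_neg, hs, smul_neg]

theorem mem_eig (a : L →+ L) (i : ZMod p) (t : A ⊗[ℤ] L) :
    t ∈ eig R a i ↔ ext A a t = R.χ i • t := Iff.rfl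

/-- the graded system of eigen-subgroups -/
def eigSys (a : L →+ L) (ha : ∀ x y, a ⁅x, y⁆ = ⁅a x, a y⁆) (hap : ∀ x, a^[p] x = x)
    (hfix : ∀ x, a x = x → x = 0) (d : L →+ L) (hd2 : ∀ x, d ((p : ℕ) • x) = x) :
    Sys (A ⊗[ℤ] L) p where
  C := eig R a
  zero := by
    rw [eq_bot_iff]
    intro t ht
    rw [mem_eig, R.χ_zero, one_smul] at ht
    exact AddSubgroup.mem_bot.mpr (ext_fix a hap hfix d hd2 t ht)
  lie := by
    intro i j s t hs ht
    rw [mem_eig] at hs ht ⊢
    rw [ext_lie a ha, hs, ht, smul_lie (R.χ i) s (R.χ j • t), lie_smul (R.χ j) s t, smul_smul,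
      R.χ_add]

theorem ext_pow_mod (a : L →+ L) (hap : ∀ x, a^[p] x = x) (m : ℕ) (t : A ⊗[ℤ] L) :
    (ext A a ^ (m % p)) t = (ext A a ^ m) t := by
  have h1 : ext A a ^ p = 1 := LinearMap.ext (fun t => ext_pow_p a hap t)
  conv_rhs => rw [← Nat.div_add_mod m p, pow_add, pow_mul, h1, one_pow, one_mul]

/-- the projection onto the `i`-th eigen-subgroup, up to the factor `p` -/
noncomputable def proj (a : L →+ L) (i : ZMod p) (t : A ⊗[ℤ] L) : A ⊗[ℤ] L :=
  ∑ k : ZMod p, R.χ (-(i * k)) • (ext A a ^ k.val) t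

theorem proj_mem (a : L →+ L) (hap : ∀ x, a^[p] x = x) (i : ZMod p) (t : A ⊗[ℤ] L) :
    proj R a i t ∈ eig R a i := by
  haveI : NeZero p := ⟨hp.out.ne_zero⟩
  haveI : Fact (1 < p) := ⟨hp.out.one_lt⟩
  rw [mem_eig]
  unfold proj
  rw [map_sum, Finset.smul_sum]
  have h1 : ∀ k : ZMod p, ext A a (R.χ (-(i * k)) • (ext A a ^ k.val) t) =
      R.χ i • (R.χ (-(i * (k + 1))) • (ext A a ^ (k + 1).val) t) := by
    intro k
    rw [map_smul, smul_smul, ← R.χ_add]
    have e1 : i + -(i * (k + 1)) = -(i * k) := by ring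
    rw [e1]
    congr 1
    rw [ZMod.val_add, ZMod.val_one, ext_pow_mod a hap, pow_succ', Module.End.mul_apply]
  simp_rw [h1]
  exact Fintype.sum_equiv (Equiv.addRight (1 : ZMod p)) _ _ (fun k => rfl)

theorem sum_proj (a : L →+ L) (t : A ⊗[ℤ] L) : ∑ i : ZMod p, proj R a i t = (p : ℕ) • t := by
  haveI : NeZero p := ⟨hp.out.ne_zero⟩
  unfold proj
  rw [Finset.sum_comm]
  simp_rw [← Finset.sum_smul]
  rw [Finset.sum_eq_single (0 : ZMod p)]
  · simp only [mul_zero, neg_zero, R.χ_zero, Finset.sum_const, Finset.card_univ, ZMod.card,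
      ZMod.val_zero, pow_zero, Module.End.one_apply]
    rw [nsmul_eq_mul, mul_one, Nat.cast_smul_eq_nsmul]
  · intro k _ hk
    rw [R.sum_χ_mul hk, zero_smul]
  · intro h
    exact absurd (Finset.mem_univ _) h

theorem p_smul_mem_tot (a : L →+ L) (hap : ∀ x, a^[p] x = x) (t : A ⊗[ℤ] L) :
    (p : ℕ) • t ∈ tot (eig R a) := by
  rw [← sum_proj R a t]
  apply AddSubgroup.sum_mem
  intro i _
  exact le_tot _ i (proj_mem R a hap i t)

/-! ### transfer of the nilpotency bound -/

theorem lcT_lie_tot {n : ℕ} {L' : Type*} [LieRing L'] (E : Sys L' n) (m : ℕ) {w y : L'}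
    (hw : w ∈ lcT E m) (hy : y ∈ tot E.C) : ⁅w, y⁆ ∈ lcT E (m + 1) := by
  have : tot E.C ≤ (lcT E (m + 1)).comap (adL w) := by
    apply iSup_le
    intro j y hy
    exact mem_lcT_succ E m hw hy
  exact this hy

theorem pow_smul_itb_mem (a : L →+ L) (ha : ∀ x y, a ⁅x, y⁆ = ⁅a x, a y⁆)
    (hap : ∀ x, a^[p] x = x) (hfix : ∀ x, a x = x → x = 0) (d : L →+ L)
    (hd2 : ∀ x, d ((p : ℕ) • x) = x) (xs : List (A ⊗[ℤ] L)) :
    ∀ t : A ⊗[ℤ] L, (p ^ (xs.length + 1) : ℕ) • itb t xs ∈
      lcT (eigSys R a ha hap hfix d hd2) xs.length := by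
  induction xs using List.reverseRecOn with
  | nil =>
    intro t
    show (p ^ (0 + 1) : ℕ) • t ∈ tot (eig R a)
    rw [zero_add, pow_one]
    exact p_smul_mem_tot R a hap t
  | append_singleton ys y ih =>
    intro t
    rw [itb_concat, List.length_append, List.length_singleton]
    have h1 := ih t
    have h2 : (p : ℕ) • y ∈ tot (eigSys R a ha hap hfix d hd2).C := p_smul_mem_tot R a hap y
    have h3 := lcT_lie_tot _ _ h1 h2
    have e : (p ^ (ys.length + 1 + 1) : ℕ) • ⁅itb t ys, y⁆ =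
        ⁅(p ^ (ys.length + 1) : ℕ) • itb t ys, (p : ℕ) • y⁆ := by
      rw [nsmul_lie, lie_nsmul, ← mul_smul, pow_succ]
    rw [e]
    exact h3

theorem pow_torsion_free (d : L →+ L) (hd2 : ∀ x, d ((p : ℕ) • x) = x) (k : ℕ)
    (t : A ⊗[ℤ] L) (ht : (p ^ k : ℕ) • t = 0) : t = 0 := by
  induction k with
  | zero => simpa using ht
  | succ k ih =>
    apply ih
    apply tensor_torsion_free d hd2
    rw [← mul_smul, ← pow_succ']
    exact ht

/-- the canonical map `L → A ⊗ L` -/
noncomputable def iota (A : Type) [CommRing A] : L →+ A ⊗[ℤ] L where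
  toFun l := (1 : A) ⊗ₜ[ℤ] l
  map_zero' := TensorProduct.tmul_zero _ _
  map_add' l m := TensorProduct.tmul_add _ _ _

theorem iota_lie (l m : L) : iota A ⁅l, m⁆ = ⁅iota A l, iota A m⁆ := by
  show (1 : A) ⊗ₜ[ℤ] ⁅l, m⁆ = ⁅(1 : A) ⊗ₜ[ℤ] l, (1 : A) ⊗ₜ[ℤ] m⁆
  rw [tmul_lie_tmul, one_mul]

theorem iota_itb (l : L) (ls : List L) : iota A (itb l ls) = itb (iota A l) (ls.map (iota A)) := by
  induction ls generalizing l with
  | nil => rfl
  | cons m ls ih => rw [itb_cons, ih, iota_lie, List.map_cons, itb_cons]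

/-- the retraction `A ⊗ L → L` -/
noncomputable def retr : A ⊗[ℤ] L →ₗ[ℤ] L :=
  (TensorProduct.lid ℤ L).toLinearMap ∘ₗ (R.ρ.rTensor L)

theorem retr_iota (l : L) : retr R (iota A l) = l := by
  show (TensorProduct.lid ℤ L) ((R.ρ.rTensor L) ((1 : A) ⊗ₜ[ℤ] l)) = l
  rw [LinearMap.rTensor_tmul, TensorProduct.lid_tmul, R.ρ_one, one_smul]

/-- **Transfer**: a bound for graded systems gives a bound for Lie rings with a fixed-point-free
automorphism of order `p` on which `p` is invertible. -/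
theorem itb_eq_zero_of_rootData (R : RootData A p) (c : ℕ)
    (hc : ∀ (L' : Type u) [LieRing L'] (E : Sys L' p), lcT E c = ⊥)
    (a : L →+ L) (ha : ∀ x y, a ⁅x, y⁆ = ⁅a x, a y⁆) (hap : ∀ x, a^[p] x = x)
    (hfix : ∀ x, a x = x → x = 0) (d : L →+ L) (hd2 : ∀ x, d ((p : ℕ) • x) = x)
    (l : L) (ls : List L) (hls : ls.length = c) : itb l ls = 0 := by
  have h1 := pow_smul_itb_mem R a ha hap hfix d hd2 (ls.map (iota A)) (iota A l)
  rw [List.length_map, hls, hc (A ⊗[ℤ] L) _, AddSubgroup.mem_bot] at h1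
  have h2 := pow_torsion_free d hd2 _ _ h1
  rw [← iota_itb] at h2
  have h3 := congrArg (retr R) h2
  rwa [retr_iota, map_zero] at h3

end Tensor

/-! ### the cyclotomic ring -/

section Cyclo

variable (p : ℕ) [hp : Fact p.Prime]

/-- root data in `ℤ[X]/(Φ_p)` -/
noncomputable def cycloData : RootData (AdjoinRoot (Polynomial.cyclotomic p ℤ)) p := by
  have hmonic : (Polynomial.cyclotomic p ℤ).Monic := Polynomial.cyclotomic.monic p ℤ
  have hdeg : 0 < (Polynomial.cyclotomic p ℤ).natDegree := by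
    rw [Polynomial.natDegree_cyclotomic, Nat.totient_prime hp.out]
    have := hp.out.two_le
    omega
  have hsum : ∑ k ∈ Finset.range p, (AdjoinRoot.root (Polynomial.cyclotomic p ℤ)) ^ k = 0 := by
    have h1 : Polynomial.eval₂ (AdjoinRoot.of (Polynomial.cyclotomic p ℤ))
        (AdjoinRoot.root (Polynomial.cyclotomic p ℤ))
        (∑ i ∈ Finset.range p, (Polynomial.X : Polynomial ℤ) ^ i) = 0 := by
      rw [← Polynomial.cyclotomic_prime ℤ p]
      exact AdjoinRoot.eval₂_root _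
    rw [Polynomial.eval₂_finsetSum] at h1
    simpa using h1
  refine
    { ω := AdjoinRoot.root (Polynomial.cyclotomic p ℤ)
      pow_eq := ?_
      sum_eq := hsum
      ρ := (AdjoinRoot.powerBasis' hmonic).basis.coord ⟨0, by simpa using hdeg⟩
      ρ_one := ?_ }
  · -- `ω ^ p - 1 = (Σ ω^k) (ω - 1) = 0`
    have h2 := geom_sum_mul (AdjoinRoot.root (Polynomial.cyclotomic p ℤ)) p
    rw [hsum, zero_mul] at h2
    exact (sub_eq_zero.mp h2.symm)
  · have h3 : (1 : AdjoinRoot (Polynomial.cyclotomic p ℤ)) =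
        (AdjoinRoot.powerBasis' hmonic).basis ⟨0, by simpa using hdeg⟩ := by
      rw [PowerBasis.coe_basis]
      simp
    rw [h3, Module.Basis.coord_apply, Module.Basis.repr_self, Finsupp.single_eq_same]

end Cyclo

/-- **Lie rings with a fixed-point-free automorphism of prime order.** -/
theorem itb_eq_zero_of_fpf {L : Type u} [LieRing L] {p : ℕ} [hp : Fact p.Prime] (c : ℕ)
    (hc : ∀ (L' : Type u) [LieRing L'] (E : Sys L' p), lcT E c = ⊥)
    (a : L →+ L) (ha : ∀ x y, a ⁅x, y⁆ = ⁅a x, a y⁆) (hap : ∀ x, a^[p] x = x)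
    (hfix : ∀ x, a x = x → x = 0) (d : L →+ L) (hd2 : ∀ x, d ((p : ℕ) • x) = x)
    (l : L) (ls : List L) (hls : ls.length = c) : itb l ls = 0 :=
  itb_eq_zero_of_rootData (cycloData p) c hc a ha hap hfix d hd2 l ls hls

end Cfsg.Agent.Lib.Helper9_KK
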