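import Cfsg.Agent.Lib.Helper9_KKSys

/-!
# Kreknin's theorem for graded systems (helper9)

`(Sys.der^[2 ^ (n - 1) - 1] E).C i = ⊥` for every graded system `E` over `ZMod n`.
-/

set_option autoImplicit false
set_option linter.unusedSectionVars false
set_option linter.style.haveILetI false
set_option linter.unusedSimpArgs false
set_option linter.unusedVariables false

namespace Cfsg.Agent.Lib.Helper9_KK

variable {L : Type*} [LieRing L] {n : ℕ}

/-- The key lemma: a wrapped element of low degree `u < a` bracketed with any element of degree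
`v = a - u` lies in the closure of the components of index `> a`. -/
theorem key_lemma [NeZero n] (E : Sys L n) (a : ℕ) {idx : ZMod n} {c : L} (hc : W E a idx c) :
    ∀ (u v : ℕ) (z : L), idx = (u : ZMod n) → u < a → 1 ≤ v → u + v = a → a < n →
      z ∈ E.C (v : ZMod n) → W E (a + 1) (a : ZMod n) ⁅c, z⁆ := by
  induction hc with
  | @base j x hj hjn hx =>
    intro u v z hidx hu hv huv han hz
    exfalso
    -- (j : ZMod n) = u with u < a ≤ j < n
    rw [ZMod.natCast_eq_natCast_iff', Nat.mod_eq_of_lt hjn, Nat.mod_eq_of_lt (by omega)] at hidx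
    omega
  | zero i =>
    intro u v z hidx hu hv huv han hz
    rw [zero_lie]
    exact W.zero _
  | add _ _ h1 h2 =>
    intro u v z hidx hu hv huv han hz
    rw [add_lie]
    exact (h1 u v z hidx hu hv huv han hz).add (h2 u v z hidx hu hv huv han hz)
  | neg _ h1 =>
    intro u v z hidx hu hv huv han hz
    rw [neg_lie]
    exact (h1 u v z hidx hu hv huv han hz).neg
  | @brk i j c' g hc' hj hjn hg ih =>
    intro u v z hidx hu hv huv han hz
    -- natural representative of `i`
    set i' : ℕ := i.val with hi'
    have hi'n : i' < n := ZMod.val_lt i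
    have hii : ((i' : ℕ) : ZMod n) = i := ZMod.natCast_zmod_val i
    have hc'mem : c' ∈ E.C ((i' : ℕ) : ZMod n) := by rw [hii]; exact hc'.mem
    have hun : u < n := by omega
    -- `i' + j = u + n`
    have hsum : i' + j = u + n := by
      have h1 : ((i' : ZMod n) + (j : ZMod n)) = (u : ZMod n) := by rw [hii]; exact hidx
      rcases add_cases hi'n hjn hun h1 with h2 | h2
      · omega
      · exact h2
    -- Jacobi
    have e : ⁅⁅c', g⁆, z⁆ = ⁅⁅c', z⁆, g⁆ + ⁅c', ⁅g, z⁆⁆ := by
      have h1 : ⁅⁅c', g⁆, z⁆ = ⁅c', ⁅g, z⁆⁆ - ⁅g, ⁅c', z⁆⁆ := by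
        rw [leibniz_lie c' g z]; abel
      have h2 : ⁅g, ⁅c', z⁆⁆ = -⁅⁅c', z⁆, g⁆ := (lie_skew _ _).symm
      rw [h1, h2]; abel
    rw [e]
    apply W.add
    · -- first term ⁅⁅c', z⁆, g⁆
      by_cases hja : j = a
      · -- `i' + v = n`
        have h0 : ⁅c', z⁆ = 0 := E.lie_eq (i := i') (j := v) (by omega) hc'mem hz
        rw [h0, zero_lie]
        exact W.zero _
      · have hja' : a + 1 ≤ j := by omega
        have hcz : ⁅c', z⁆ ∈ E.C ((i' + v : ℕ) : ZMod n) := by
          rw [Nat.cast_add]
          exact E.lie hc'mem hz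
        have h1 : W E (a + 1) ((i' + v : ℕ) : ZMod n) ⁅c', z⁆ :=
          W.base (by omega) (by omega) hcz
        have h2 : W E (a + 1) (j : ZMod n) g := W.base hja' hjn hg
        have h3 := h2.lie h1
        refine h3.cast ?_
        rw [← Nat.cast_add]
        exact cast_wrap (by omega)
    · -- second term ⁅c', ⁅g, z⁆⁆
      rcases lt_trichotomy i' a with hia | hia | hia
      · -- wrap: ⁅g, z⁆ has degree `a - i'`
        have hgz : ⁅g, z⁆ ∈ E.C ((a - i' : ℕ) : ZMod n) := by
          have := E.lie hg hz
          rw [← Nat.cast_add] at this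
          rwa [cast_wrap (a := j + v) (b := a - i') (by omega)] at this
        exact ih i' (a - i') ⁅g, z⁆ hii.symm hia (by omega) (by omega) han hgz
      · have h0 : ⁅g, z⁆ = 0 := E.lie_eq (i := j) (j := v) (by omega) hg hz
        rw [h0, lie_zero]
        exact W.zero _
      · have hgz : ⁅g, z⁆ ∈ E.C ((j + v : ℕ) : ZMod n) := by
          rw [Nat.cast_add]
          exact E.lie hg hz
        have h1 : W E (a + 1) ((j + v : ℕ) : ZMod n) ⁅g, z⁆ :=
          W.base (by omega) (by omega) hgz
        have h2 : W E (a + 1) ((i' : ℕ) : ZMod n) c' := W.base (by omega) hi'n hc'mem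
        have h3 := h1.lie h2
        refine h3.cast ?_
        rw [← Nat.cast_add]
        exact cast_wrap (by omega)

/-- generators of the derived system, natural number indices -/
theorem der_le_of [NeZero n] (E : Sys L n) {k : ℕ} (hk : k < n) (P : AddSubgroup L)
    (h : ∀ u v : ℕ, u < n → v < n → (u + v = k ∨ u + v = k + n) →
      ∀ x ∈ E.C (u : ZMod n), ∀ y ∈ E.C (v : ZMod n), ⁅x, y⁆ ∈ P) :
    E.der.C (k : ZMod n) ≤ P := by
  apply brk_le_of
  intro i j x y hij hx hy
  have hi : ((i.val : ℕ) : ZMod n) = i := ZMod.natCast_zmod_val i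
  have hj : ((j.val : ℕ) : ZMod n) = j := ZMod.natCast_zmod_val j
  have hc := add_cases (ZMod.val_lt i) (ZMod.val_lt j) hk (by rw [hi, hj]; exact hij)
  exact h i.val j.val (ZMod.val_lt i) (ZMod.val_lt j) hc x (by rwa [hi]) y (by rwa [hj])

/-- the elimination claim -/
theorem claim [NeZero n] : ∀ (s : ℕ), s + 1 ≤ n → ∀ (E : Sys L n) (i : ZMod n) (x : L),
    x ∈ (Sys.der^[2 ^ s - 1] E).C i → W E (s + 1) i x := by
  intro s
  induction s with
  | zero =>
    intro hs E i x hx
    simp only [pow_zero, Nat.sub_self, Function.iterate_zero, id_eq] at hx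
    by_cases hi : i = 0
    · subst hi
      rw [E.mem_zero hx]
      exact W.zero _
    · apply W.of_mem hx
      have : i.val ≠ 0 := fun h => hi ((ZMod.val_eq_zero i).mp h)
      omega
  | succ s ih =>
    intro hs E i x hx
    set a := s + 1 with ha
    have han : a < n := by omega
    set m := 2 ^ s - 1 with hm
    have hpow : 2 ^ (s + 1) - 1 = m + (m + 1) := by
      have : 1 ≤ 2 ^ s := Nat.one_le_two_pow
      rw [pow_succ]; omega
    set D : Sys L n := Sys.der^[m] E with hD
    set M : Sys L n := D.der with hM
    have hMD : M = Sys.der^[m + 1] E := by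
      rw [hM, hD, Function.iterate_succ_apply']
    have hDle : ∀ k, D.C k ≤ E.C k := fun k => E.iter_der_le m k
    have hMle : ∀ k, M.C k ≤ E.C k := fun k => (D.der_le k).trans (hDle k)
    have ihE : ∀ (i : ZMod n) (x : L), x ∈ D.C i → W E a i x := ih (by omega) E
    -- (i) the component of index `a` of `M`
    have step1 : M.C (a : ZMod n) ≤
        { carrier := {x | W E (a + 1) (a : ZMod n) x}
          zero_mem' := W.zero _
          add_mem' := fun h1 h2 => W.add h1 h2
          neg_mem' := fun h1 => W.neg h1 } := by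
      apply der_le_of D han
      intro u v hu hv huv y hy z hz
      show W E (a + 1) (a : ZMod n) ⁅y, z⁆
      by_cases hu0 : u = 0
      · subst hu0
        rw [Nat.cast_zero] at hy
        rw [D.mem_zero hy, zero_lie]
        exact W.zero _
      by_cases hv0 : v = 0
      · subst hv0
        rw [Nat.cast_zero] at hz
        rw [D.mem_zero hz, lie_zero]
        exact W.zero _
      rcases huv with huv | huv
      · -- both indices are low
        have hy' : W E a (u : ZMod n) y := ihE _ _ hy
        exact key_lemma E a hy' u v z rfl (by omega) (by omega) huv han (hDle _ hz)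
      · -- both indices are high
        have h1 : W E (a + 1) (u : ZMod n) y := W.base (by omega) hu (hDle _ hy)
        have h2 : W E (a + 1) (v : ZMod n) z := W.base (by omega) hv (hDle _ hz)
        have h3 := h2.lie h1
        refine h3.cast ?_
        rw [← Nat.cast_add]
        exact cast_wrap huv
    -- (ii) the closure of the components `≥ a` of `M`
    have step2 : ∀ (i : ZMod n) (x : L), W M a i x → W E (a + 1) i x := by
      have hbase : ∀ (j : ℕ) (g : L), a ≤ j → j < n → g ∈ M.C (j : ZMod n) →
          W E (a + 1) (j : ZMod n) g := by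
        intro j g hj hjn hg
        by_cases hja : j = a
        · subst hja
          exact step1 hg
        · exact W.base (by omega) hjn (hMle _ hg)
      intro i x hx
      induction hx with
      | base hj hjn hg => exact hbase _ _ hj hjn hg
      | zero i => exact W.zero i
      | add _ _ h1 h2 => exact h1.add h2
      | neg _ h1 => exact h1.neg
      | brk _ hj hjn hg h1 => exact (hbase _ _ hj hjn hg).lie h1
    -- (iii)
    have hx' : x ∈ (Sys.der^[m] M).C i := by
      rw [hMD, ← Function.iterate_add_apply, ← hpow]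
      exact hx
    exact step2 i x (ih (by omega) M i x hx')

/-- **Kreknin's theorem** for graded systems. -/
theorem kreknin [NeZero n] (E : Sys L n) (i : ZMod n) :
    (Sys.der^[2 ^ (n - 1) - 1] E).C i = ⊥ := by
  have hn : 1 ≤ n := Nat.one_le_iff_ne_zero.mpr (NeZero.ne n)
  rw [eq_bot_iff]
  intro x hx
  have h1 := claim (n - 1) (by omega) E i x hx
  rw [Nat.sub_add_cancel hn] at h1
  exact AddSubgroup.mem_bot.mpr (W.eq_zero_of_le (le_refl n) h1)

end Cfsg.Agent.Lib.Helper9_KK
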