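import Cfsg.Agent.Lib.Helper9_KKNil

/-!
# The Higman–Kreknin–Kostrikin bound for graded systems (helper9)
-/

set_option autoImplicit false
set_option linter.unusedSectionVars false
set_option linter.style.haveILetI false
set_option linter.unusedSimpArgs false
set_option linter.unusedVariables false

namespace Cfsg.Agent.Lib.Helper9_KK

variable {L : Type*} [LieRing L] {n : ℕ}

/-- the (total) lower central series of a system; index `m` is the `(m+1)`-st term -/
def lcT (E : Sys L n) : ℕ → AddSubgroup L
  | 0 => tot E.C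
  | (m + 1) => AddSubgroup.closure {z | ∃ w y : L, ∃ j : ZMod n, w ∈ lcT E m ∧ y ∈ E.C j ∧
      z = ⁅w, y⁆}

theorem lcT_succ (E : Sys L n) (m : ℕ) : lcT E (m + 1) =
    AddSubgroup.closure {z | ∃ w y : L, ∃ j : ZMod n, w ∈ lcT E m ∧ y ∈ E.C j ∧ z = ⁅w, y⁆} :=
  rfl

theorem mem_lcT_succ (E : Sys L n) (m : ℕ) {w y : L} {j : ZMod n} (hw : w ∈ lcT E m)
    (hy : y ∈ E.C j) : ⁅w, y⁆ ∈ lcT E (m + 1) :=
  AddSubgroup.subset_closure ⟨w, y, j, hw, hy, rfl⟩

theorem lcT_succ_le (E : Sys L n) (m : ℕ) (P : AddSubgroup L)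
    (h : ∀ w y : L, ∀ j : ZMod n, w ∈ lcT E m → y ∈ E.C j → ⁅w, y⁆ ∈ P) : lcT E (m + 1) ≤ P := by
  rw [lcT_succ]
  apply (AddSubgroup.closure_le _).mpr
  rintro z ⟨w, y, j, hw, hy, rfl⟩
  exact h w y j hw hy

theorem tot_gam_le_lcT (M : Sys L n) (m : ℕ) : tot (gam M m) ≤ lcT M m := by
  induction m with
  | zero => exact le_refl _
  | succ m ih =>
    apply iSup_le
    intro k
    show brk (gam M m) M.C k ≤ lcT M (m + 1)
    apply brk_le_of
    intro i j x y _ hx hy
    exact mem_lcT_succ M m (ih (le_tot _ i hx)) hy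

section Prime

variable {p : ℕ} [hp : Fact p.Prime]

/-- `p - 1` further brackets push a term of the lower central family of the derived system into
the next one -/
theorem step (E : Sys L p) (m : ℕ) (xs : List (ZMod p × L)) (h : Hom E xs)
    (hlen : xs.length = p - 1) {f : L} (hf : f ∈ tot (gam E.der m)) :
    itb f (els xs) ∈ tot (gam E.der (m + 1)) := by
  have hp2 : 2 ≤ p := hp.out.two_le
  have : tot (gam E.der m) ≤ (tot (gam E.der (m + 1))).comap (itbHom (els xs)) := by
    apply iSup_le
    intro j f hf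
    show itb f (els xs) ∈ tot (gam E.der (m + 1))
    by_cases h0 : ∃ q ∈ xs, q.1 = 0
    · obtain ⟨q, hq, hq0⟩ := h0
      have hq2 : q.2 = 0 := by
        have := h q hq
        rw [hq0] at this
        exact E.mem_zero this
      have : (0 : L) ∈ els xs := by
        rw [← hq2]
        exact List.mem_map_of_mem hq
      rw [itb_eq_zero_of_mem _ _ this]
      exact AddSubgroup.zero_mem _
    · push Not at h0
      by_cases hj : j = 0
      · subst hj
        rw [E.mem_zero (gam_le E m 0 hf), itb_zero]
        exact AddSubgroup.zero_mem _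
      · have hds : ∀ d ∈ xs.map Prod.fst, d ≠ 0 := by
          intro d hd
          obtain ⟨q, hq, rfl⟩ := List.mem_map.mp hd
          exact h0 q hq
        obtain ⟨sub', hs1, hs2⟩ := exists_sublist_sum (xs.map Prod.fst) hds
          (by rw [List.length_map, hlen]; omega) (-j)
        obtain ⟨sub, hs3, rfl⟩ := List.sublist_map_iff.mp hs1
        apply P_lemma E m xs h j f hf
        refine ⟨sub, hs3, ?_⟩
        show j + (sub.map Prod.fst).sum = 0
        rw [hs2, add_neg_cancel]
  exact this hf

/-- the set of iterated brackets of length `r` over a term of the lower central family -/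
def Sset (E : Sys L p) (t r : ℕ) : AddSubgroup L :=
  AddSubgroup.closure {w | ∃ z : L, ∃ xs : List (ZMod p × L), z ∈ tot (gam E.der t) ∧ Hom E xs ∧
    xs.length = r ∧ w = itb z (els xs)}

theorem lcT_le_Sset (E : Sys L p) (t : ℕ) (N : ℕ) (hN : lcT E N ≤ tot (gam E.der t)) (r : ℕ) :
    lcT E (N + r) ≤ Sset E t r := by
  induction r with
  | zero =>
    intro z hz
    exact AddSubgroup.subset_closure ⟨z, [], hN hz, fun q hq => by simp at hq, rfl, rfl⟩
  | succ r ih =>
    rw [← add_assoc]
    apply lcT_succ_le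
    intro w y j hw hy
    have : Sset E t r ≤ (Sset E t (r + 1)).comap (adR y) := by
      apply (AddSubgroup.closure_le _).mpr
      rintro _ ⟨z, xs, hz, hxs, hlen, rfl⟩
      show ⁅itb z (els xs), y⁆ ∈ Sset E t (r + 1)
      apply AddSubgroup.subset_closure
      refine ⟨z, xs ++ [(j, y)], hz, ?_, by simp [hlen], ?_⟩
      · intro q hq
        rcases List.mem_append.mp hq with h1 | h1
        · exact hxs q h1
        · rw [List.mem_singleton] at h1
          subst h1
          exact hy
      · unfold els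
        rw [List.map_append, itb_append]
        rfl
    exact this (ih hw)

theorem lcT_step (E : Sys L p) (t : ℕ) : lcT E (1 + (p - 1) * t) ≤ tot (gam E.der t) := by
  induction t with
  | zero =>
    rw [Nat.mul_zero, add_zero]
    apply lcT_succ_le
    intro w y j hw hy
    have : tot E.C ≤ (tot (gam E.der 0)).comap (adR y) := by
      apply iSup_le
      intro k x hx
      exact le_tot (gam E.der 0) (k + j) (mem_brk E.C E.C hx hy)
    exact this hw
  | succ t ih =>
    have h1 := lcT_le_Sset E t _ ih (p - 1)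
    have e : 1 + (p - 1) * (t + 1) = 1 + (p - 1) * t + (p - 1) := by ring
    rw [e]
    refine h1.trans ?_
    apply (AddSubgroup.closure_le _).mpr
    rintro _ ⟨z, xs, hz, hxs, hlen, rfl⟩
    exact step E t xs hxs hlen hz

/-- **Kostrikin–Kreknin**: a graded system over `ZMod p` of derived length `k` is nilpotent of
class at most `1 + (p-1) + ⋯ + (p-1)^(k-1)`. -/
theorem kk (k : ℕ) : ∀ E : Sys L p, (∀ i, (Sys.der^[k] E).C i = ⊥) →
    lcT E (∑ i ∈ Finset.range k, (p - 1) ^ i) = ⊥ := by
  induction k with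
  | zero =>
    intro E h
    simp only [Function.iterate_zero, id_eq] at h
    show tot E.C = ⊥
    unfold tot
    rw [iSup_eq_bot]
    exact h
  | succ k ih =>
    intro E h
    have h' : ∀ i, (Sys.der^[k] E.der).C i = ⊥ := by
      intro i
      have := h i
      rwa [Function.iterate_succ_apply] at this
    have h1 := ih E.der h'
    have e : ∑ i ∈ Finset.range (k + 1), (p - 1) ^ i =
        1 + (p - 1) * ∑ i ∈ Finset.range k, (p - 1) ^ i := by
      rw [Finset.sum_range_succ', Finset.mul_sum, pow_zero, add_comm]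
      congr 1
      apply Finset.sum_congr rfl
      intro i _
      rw [pow_succ']
    rw [e, eq_bot_iff]
    refine (lcT_step E _).trans ?_
    refine (tot_gam_le_lcT E.der _).trans ?_
    rw [h1]

/-- **Higman–Kreknin–Kostrikin** for graded systems over `ZMod p`. -/
theorem hkk (E : Sys L p) :
    lcT E (∑ i ∈ Finset.range (2 ^ (p - 1) - 1), (p - 1) ^ i) = ⊥ := by
  haveI : NeZero p := ⟨hp.out.ne_zero⟩
  exact kk _ E (fun i => kreknin E i)

end Prime

/-- a graded system over `ZMod 3` has class at most two -/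
theorem lcT_three (E : Sys L 3) : lcT E 2 = ⊥ := by
  rw [eq_bot_iff]
  apply lcT_succ_le
  intro w z k hw hz
  rw [AddSubgroup.mem_bot]
  -- `w ∈ lcT E 1`
  have h1 : lcT E 1 ≤ (⊥ : AddSubgroup L).comap (adR z) := by
    apply lcT_succ_le
    intro u y j hu hy
    have h2 : tot E.C ≤ ((⊥ : AddSubgroup L).comap (adR z)).comap (adR y) := by
      apply iSup_le
      intro i u hu
      show ⁅⁅u, y⁆, z⁆ ∈ (⊥ : AddSubgroup L)
      rw [AddSubgroup.mem_bot]
      by_cases hi : i = 0
      · subst hi
        rw [E.mem_zero hu, zero_lie, zero_lie]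
      by_cases hj : j = 0
      · subst hj
        rw [E.mem_zero hy, lie_zero, zero_lie]
      by_cases hk : k = 0
      · subst hk
        rw [E.mem_zero hz, lie_zero]
      by_cases hij : i + j = 0
      · have := E.lie hu hy
        rw [hij] at this
        rw [E.mem_zero this, zero_lie]
      by_cases hijk : i + j + k = 0
      · have := E.lie (E.lie hu hy) hz
        rw [hijk] at this
        exact E.mem_zero this
      have key : ∀ i j k : ZMod 3, i ≠ 0 → j ≠ 0 → k ≠ 0 → i + j ≠ 0 → i + j + k ≠ 0 →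
          i + k = 0 ∧ j + k = 0 := by decide
      obtain ⟨hik, hjk⟩ := key i j k hi hj hk hij hijk
      have e : ⁅⁅u, y⁆, z⁆ = ⁅⁅u, z⁆, y⁆ + ⁅u, ⁅y, z⁆⁆ := by
        have h1 : ⁅⁅u, y⁆, z⁆ = ⁅u, ⁅y, z⁆⁆ - ⁅y, ⁅u, z⁆⁆ := by
          rw [leibniz_lie u y z]; abel
        have h2 : ⁅y, ⁅u, z⁆⁆ = -⁅⁅u, z⁆, y⁆ := (lie_skew _ _).symm
        rw [h1, h2]; abel
      have h3 : ⁅u, z⁆ = 0 := by
        have := E.lie hu hz
        rw [hik] at this
        exact E.mem_zero this
      have h4 : ⁅y, z⁆ = 0 := by
        have := E.lie hy hz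
        rw [hjk] at this
        exact E.mem_zero this
      rw [e, h3, h4, zero_lie, lie_zero, add_zero]
    exact h2 hu
  have := h1 hw
  exact (AddSubgroup.mem_bot).mp this

end Cfsg.Agent.Lib.Helper9_KK
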