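import Cfsg.Agent.Lib.Helper9_KKKrek

/-!
# Nilpotency of graded systems from solvability (Kostrikin–Kreknin) (helper9)
-/

set_option autoImplicit false
set_option linter.unusedSectionVars false
set_option linter.style.haveILetI false
set_option linter.unusedSimpArgs false
set_option linter.unusedVariables false

namespace Cfsg.Agent.Lib.Helper9_KK

variable {L : Type*} [LieRing L] {n : ℕ}

/-! ### iterated brackets -/

/-- the left-normed bracket `⁅⁅⁅f, x₁⁆, x₂⁆, …⁆` -/
def itb (f : L) (xs : List L) : L := xs.foldl (fun a x => ⁅a, x⁆) f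

@[simp] theorem itb_nil (f : L) : itb f [] = f := rfl

@[simp] theorem itb_cons (f x : L) (xs : List L) : itb f (x :: xs) = itb ⁅f, x⁆ xs := rfl

theorem itb_append (f : L) (xs ys : List L) : itb f (xs ++ ys) = itb (itb f xs) ys := by
  unfold itb
  rw [List.foldl_append]

theorem itb_concat (f x : L) (xs : List L) : itb f (xs ++ [x]) = ⁅itb f xs, x⁆ := by
  rw [itb_append]; rfl

theorem itb_zero (xs : List L) : itb (0 : L) xs = 0 := by
  induction xs with
  | nil => rfl
  | cons x xs ih => rw [itb_cons, zero_lie, ih]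

theorem itb_add (f g : L) (xs : List L) : itb (f + g) xs = itb f xs + itb g xs := by
  induction xs generalizing f g with
  | nil => rfl
  | cons x xs ih => rw [itb_cons, itb_cons, itb_cons, add_lie, ih]

theorem itb_neg (f : L) (xs : List L) : itb (-f) xs = -itb f xs := by
  induction xs generalizing f with
  | nil => rfl
  | cons x xs ih => rw [itb_cons, itb_cons, neg_lie, ih]

theorem itb_sub (f g : L) (xs : List L) : itb (f - g) xs = itb f xs - itb g xs := by
  rw [sub_eq_add_neg, itb_add, itb_neg, sub_eq_add_neg]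

/-- `itb · xs` as an additive map -/
def itbHom (xs : List L) : L →+ L where
  toFun f := itb f xs
  map_zero' := itb_zero xs
  map_add' f g := itb_add f g xs

@[simp] theorem itbHom_apply (xs : List L) (f : L) : itbHom xs f = itb f xs := rfl

theorem itb_eq_zero_of_mem (f : L) (xs : List L) (h : (0 : L) ∈ xs) : itb f xs = 0 := by
  induction xs generalizing f with
  | nil => simp at h
  | cons x xs ih =>
    rw [itb_cons]
    rcases List.mem_cons.mp h with h1 | h1
    · rw [← h1, lie_zero, itb_zero]
    · exact ih _ h1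

/-! ### homogeneous lists -/

/-- a list of homogeneous elements with their degrees -/
def Hom (E : Sys L n) (xs : List (ZMod n × L)) : Prop := ∀ q ∈ xs, q.2 ∈ E.C q.1

/-- the underlying elements -/
def els (xs : List (ZMod n × L)) : List L := xs.map Prod.snd

/-- the sum of the degrees -/
def dsum (xs : List (ZMod n × L)) : ZMod n := (xs.map Prod.fst).sum

@[simp] theorem els_nil : els ([] : List (ZMod n × L)) = [] := rfl
@[simp] theorem els_cons (q : ZMod n × L) (xs : List (ZMod n × L)) :
    els (q :: xs) = q.2 :: els xs := rfl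
@[simp] theorem dsum_nil : dsum ([] : List (ZMod n × L)) = 0 := rfl
@[simp] theorem dsum_cons (q : ZMod n × L) (xs : List (ZMod n × L)) :
    dsum (q :: xs) = q.1 + dsum xs := by
  unfold dsum; simp

theorem Hom.tail {E : Sys L n} {q : ZMod n × L} {xs : List (ZMod n × L)} (h : Hom E (q :: xs)) :
    Hom E xs := fun r hr => h r (List.mem_cons_of_mem _ hr)

theorem Hom.head {E : Sys L n} {q : ZMod n × L} {xs : List (ZMod n × L)} (h : Hom E (q :: xs)) :
    q.2 ∈ E.C q.1 := h q List.mem_cons_self

/-! ### the lower central family of the derived system -/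

/-- the total subgroup of a family -/
def tot (F : ZMod n → AddSubgroup L) : AddSubgroup L := ⨆ k, F k

theorem le_tot (F : ZMod n → AddSubgroup L) (k : ZMod n) : F k ≤ tot F := le_iSup F k

/-- lower central family of a system (index `m` is the `(m+1)`-st term) -/
def gam (M : Sys L n) : ℕ → ZMod n → AddSubgroup L
  | 0 => M.C
  | (m + 1) => brk (gam M m) M.C

theorem gam_le (E : Sys L n) (m : ℕ) (i : ZMod n) : gam E.der m i ≤ E.C i := by
  induction m generalizing i with
  | zero => exact E.der_le i
  | succ m ih =>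
    show brk (gam E.der m) E.der.C i ≤ E.C i
    apply brk_le_of
    intro u v x y huv hx hy
    rw [← huv]
    exact E.lie (ih u hx) (E.der_le v hy)

/-- the lower central family of the derived system is invariant under the system -/
theorem gam_inv (E : Sys L n) (m : ℕ) : ∀ {i j : ZMod n} {x y : L}, x ∈ gam E.der m i →
    y ∈ E.C j → ⁅x, y⁆ ∈ gam E.der m (i + j) := by
  induction m with
  | zero =>
    intro i j x y hx hy
    exact mem_brk E.C E.C (E.der_le i hx) hy
  | succ m ih =>
    intro i j x y hx hy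
    have : brk (gam E.der m) E.der.C i ≤ (gam E.der (m + 1) (i + j)).comap (adR y) := by
      apply brk_le_of
      intro u v f g huv hf hg
      show ⁅⁅f, g⁆, y⁆ ∈ gam E.der (m + 1) (i + j)
      have e : ⁅⁅f, g⁆, y⁆ = ⁅⁅f, y⁆, g⁆ + ⁅f, ⁅g, y⁆⁆ := by
        have h1 : ⁅⁅f, g⁆, y⁆ = ⁅f, ⁅g, y⁆⁆ - ⁅g, ⁅f, y⁆⁆ := by
          rw [leibniz_lie f g y]; abel
        have h2 : ⁅g, ⁅f, y⁆⁆ = -⁅⁅f, y⁆, g⁆ := (lie_skew _ _).symm
        rw [h1, h2]; abel
      rw [e]
      apply AddSubgroup.add_mem
      · exact mem_brk' (gam E.der m) E.der.C (ih hf hy) hg (by rw [← huv]; ring)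
      · have hgy : ⁅g, y⁆ ∈ E.der.C (v + j) := mem_brk E.C E.C (E.der_le v hg) hy
        exact mem_brk' (gam E.der m) E.der.C hf hgy (by rw [← huv]; ring)
    exact this hx

theorem itb_mem_gam (E : Sys L n) (m : ℕ) : ∀ (xs : List (ZMod n × L)), Hom E xs →
    ∀ (i : ZMod n) (f : L), f ∈ gam E.der m i → itb f (els xs) ∈ gam E.der m (i + dsum xs) := by
  intro xs
  induction xs with
  | nil =>
    intro _ i f hf
    simpa using hf
  | cons q xs ih =>
    intro h i f hf
    rw [els_cons, itb_cons, dsum_cons, ← add_assoc]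
    exact ih h.tail _ _ (gam_inv E m hf h.head)

theorem tot_inv (E : Sys L n) (m : ℕ) {j : ZMod n} {z y : L} (hz : z ∈ tot (gam E.der m))
    (hy : y ∈ E.C j) : ⁅z, y⁆ ∈ tot (gam E.der m) := by
  have : tot (gam E.der m) ≤ (tot (gam E.der m)).comap (adR y) := by
    apply iSup_le
    intro k x hx
    exact le_tot _ (k + j) (gam_inv E m hx hy)
  exact this hz

theorem itb_mem_tot (E : Sys L n) (m : ℕ) (xs : List (ZMod n × L)) (h : Hom E xs) {z : L}
    (hz : z ∈ tot (gam E.der m)) : itb z (els xs) ∈ tot (gam E.der m) := by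
  induction xs generalizing z with
  | nil => simpa using hz
  | cons q xs ih =>
    rw [els_cons, itb_cons]
    exact ih h.tail (tot_inv E m hz h.head)

/-- moving an element to the end, modulo the next term -/
theorem move (E : Sys L n) (m : ℕ) : ∀ (xs : List (ZMod n × L)), Hom E xs →
    ∀ (j u : ZMod n) (g x : L), g ∈ gam E.der m j → x ∈ E.C u →
      itb ⁅g, x⁆ (els xs) - ⁅itb g (els xs), x⁆ ∈ tot (gam E.der (m + 1)) := by
  intro xs
  induction xs with
  | nil =>
    intro _ j u g x _ _
    simp
  | cons q ys ih =>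
    intro h j u g x hg hx
    have hy : q.2 ∈ E.C q.1 := h.head
    rw [els_cons, itb_cons, itb_cons]
    have e : ⁅⁅g, x⁆, q.2⁆ = ⁅⁅g, q.2⁆, x⁆ + ⁅g, ⁅x, q.2⁆⁆ := by
      have h1 : ⁅⁅g, x⁆, q.2⁆ = ⁅g, ⁅x, q.2⁆⁆ - ⁅x, ⁅g, q.2⁆⁆ := by
        rw [leibniz_lie g x q.2]; abel
      have h2 : ⁅x, ⁅g, q.2⁆⁆ = -⁅⁅g, q.2⁆, x⁆ := (lie_skew _ _).symm
      rw [h1, h2]; abel
    rw [e, itb_add]
    have h1 := ih h.tail (j + q.1) u ⁅g, q.2⁆ x (gam_inv E m hg hy) hx
    have hxy : ⁅x, q.2⁆ ∈ E.der.C (u + q.1) := mem_brk E.C E.C hx hy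
    have h2 : ⁅g, ⁅x, q.2⁆⁆ ∈ gam E.der (m + 1) (j + (u + q.1)) :=
      mem_brk (gam E.der m) E.der.C hg hxy
    have h3 := le_tot _ _ (itb_mem_gam E (m + 1) ys h.tail _ _ h2)
    have : itb ⁅⁅g, q.2⁆, x⁆ (els ys) + itb ⁅g, ⁅x, q.2⁆⁆ (els ys) - ⁅itb ⁅g, q.2⁆ (els ys), x⁆ =
        (itb ⁅⁅g, q.2⁆, x⁆ (els ys) - ⁅itb ⁅g, q.2⁆ (els ys), x⁆) +
          itb ⁅g, ⁅x, q.2⁆⁆ (els ys) := by abel
    rw [this]
    exact AddSubgroup.add_mem _ h1 h3

/-- if some sub-sum of the degrees cancels the degree of `f`, the iterated bracket falls into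
the next term -/
theorem P_lemma (E : Sys L n) (m : ℕ) : ∀ (xs : List (ZMod n × L)), Hom E xs →
    ∀ (j : ZMod n) (f : L), f ∈ gam E.der m j → (∃ sub, List.Sublist sub xs ∧ j + dsum sub = 0) →
      itb f (els xs) ∈ tot (gam E.der (m + 1)) := by
  intro xs
  induction xs with
  | nil =>
    intro _ j f hf hsub
    obtain ⟨sub, hs, h0⟩ := hsub
    have : sub = [] := List.sublist_nil.mp hs
    subst this
    rw [dsum_nil, add_zero] at h0
    subst h0
    have := E.mem_zero (gam_le E m 0 hf)
    rw [this]
    exact AddSubgroup.zero_mem _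
  | cons q xs ih =>
    intro h j f hf hsub
    obtain ⟨sub, hs, h0⟩ := hsub
    rw [els_cons, itb_cons]
    cases hs with
    | cons _ hs' =>
      -- `q` is not used
      have h1 := ih h.tail j f hf ⟨sub, hs', h0⟩
      have h2 := move E m xs h.tail j q.1 f q.2 hf h.head
      have h3 := tot_inv E (m + 1) h1 h.head
      have : itb ⁅f, q.2⁆ (els xs) =
          (itb ⁅f, q.2⁆ (els xs) - ⁅itb f (els xs), q.2⁆) + ⁅itb f (els xs), q.2⁆ := by abel
      rw [this]
      exact AddSubgroup.add_mem _ h2 h3
    | cons_cons _ hs' =>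
      rename_i sub'
      rw [dsum_cons, ← add_assoc] at h0
      exact ih h.tail (j + q.1) ⁅f, q.2⁆ (gam_inv E m hf h.head) ⟨sub', hs', h0⟩

/-! ### sub-sums in `ZMod p` -/

section SubSums

variable {p : ℕ} [hp : Fact p.Prime]

/-- all sums of sublists -/
def ssums : List (ZMod p) → Finset (ZMod p)
  | [] => {0}
  | d :: ds => ssums ds ∪ (ssums ds).image (fun s => d + s)

theorem zero_mem_ssums (ds : List (ZMod p)) : (0 : ZMod p) ∈ ssums ds := by
  induction ds with
  | nil => simp [ssums]
  | cons d ds ih => exact Finset.mem_union_left _ ih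

theorem exists_of_mem_ssums : ∀ (ds : List (ZMod p)) (s : ZMod p), s ∈ ssums ds →
    ∃ sub, List.Sublist sub ds ∧ sub.sum = s := by
  intro ds
  induction ds with
  | nil =>
    intro s hs
    simp only [ssums, Finset.mem_singleton] at hs
    exact ⟨[], List.Sublist.slnil, by simp [hs]⟩
  | cons d ds ih =>
    intro s hs
    rcases Finset.mem_union.mp hs with h1 | h1
    · obtain ⟨sub, h2, h3⟩ := ih s h1
      exact ⟨sub, List.Sublist.cons d h2, h3⟩
    · obtain ⟨s', h2, rfl⟩ := Finset.mem_image.mp h1
      obtain ⟨sub, h3, h4⟩ := ih s' h2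
      exact ⟨d :: sub, List.Sublist.cons_cons d h3, by simp [h4]⟩

theorem card_ssums (ds : List (ZMod p)) (h : ∀ d ∈ ds, d ≠ 0) :
    min p (ds.length + 1) ≤ (ssums ds).card := by
  induction ds with
  | nil => simp [ssums]
  | cons d ds ih =>
    have hd : d ≠ 0 := h d List.mem_cons_self
    have ih' := ih (fun e he => h e (List.mem_cons_of_mem _ he))
    set S := ssums ds with hS
    have hcardle : S.card ≤ p := by
      have := Finset.card_le_univ S
      rwa [ZMod.card] at this
    show min p ((d :: ds).length + 1) ≤ (S ∪ S.image (fun s => d + s)).card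
    rw [List.length_cons]
    by_cases hfull : S.card = p
    · have : S.card ≤ (S ∪ S.image (fun s => d + s)).card :=
        Finset.card_le_card Finset.subset_union_left
      omega
    · have hlt : S.card < p := lt_of_le_of_ne hcardle hfull
      -- some translate leaves `S`
      have hex : ∃ t ∈ S.image (fun s => d + s), t ∉ S := by
        by_contra hcon
        push Not at hcon
        -- `S` is closed under adding `d`
        have hcl : ∀ s ∈ S, d + s ∈ S := fun s hs => hcon _ (Finset.mem_image_of_mem _ hs)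
        have hmul : ∀ k : ℕ, (k : ZMod p) * d ∈ S := by
          intro k
          induction k with
          | zero => simpa using zero_mem_ssums ds
          | succ k ihk =>
            have := hcl _ ihk
            have e : ((k + 1 : ℕ) : ZMod p) * d = d + (k : ZMod p) * d := by
              push_cast; ring
            rwa [e]
        have huniv : S = Finset.univ := by
          apply Finset.eq_univ_of_forall
          intro t
          have := hmul (t * d⁻¹).val
          rwa [ZMod.natCast_zmod_val, mul_assoc, inv_mul_cancel₀ hd, mul_one] at this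
        rw [huniv, Finset.card_univ, ZMod.card] at hlt
        exact lt_irrefl _ hlt
      obtain ⟨t, ht, htS⟩ := hex
      have hss : insert t S ⊆ S ∪ S.image (fun s => d + s) := by
        intro x hx
        rcases Finset.mem_insert.mp hx with rfl | hx
        · exact Finset.mem_union_right _ ht
        · exact Finset.mem_union_left _ hx
      have := Finset.card_le_card hss
      rw [Finset.card_insert_of_notMem htS] at this
      omega

theorem exists_sublist_sum (ds : List (ZMod p)) (h : ∀ d ∈ ds, d ≠ 0) (hlen : p ≤ ds.length + 1)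
    (s : ZMod p) : ∃ sub, List.Sublist sub ds ∧ sub.sum = s := by
  apply exists_of_mem_ssums
  have h1 := card_ssums ds h
  rw [min_eq_left hlen] at h1
  have h2 : ssums ds = Finset.univ := by
    apply Finset.eq_univ_of_card
    have := Finset.card_le_univ (ssums ds)
    rw [ZMod.card] at this ⊢
    omega
  rw [h2]
  exact Finset.mem_univ s

end SubSums

end Cfsg.Agent.Lib.Helper9_KK
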