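import Mathlib

/-!
# Graded systems of additive subgroups in a Lie ring (helper9)

A `Sys L n` is a family of additive subgroups `C i` (`i : ZMod n`) of a Lie ring `L` with
`⁅C i, C j⁆ ⊆ C (i + j)` and `C 0 = ⊥`.  We define the derived system and prove Kreknin's theorem:
the `(2 ^ (n - 1) - 1)`-th derived system vanishes.
-/

set_option autoImplicit false
set_option linter.unusedSectionVars false
set_option linter.style.haveILetI false
set_option linter.unusedSimpArgs false
set_option linter.unusedVariables false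

namespace Cfsg.Agent.Lib.Helper9_KK

variable {L : Type*} [LieRing L] {n : ℕ}

/-- right bracket as an additive map -/
def adR (y : L) : L →+ L where
  toFun x := ⁅x, y⁆
  map_zero' := zero_lie y
  map_add' a b := add_lie a b y

/-- left bracket as an additive map -/
def adL (x : L) : L →+ L where
  toFun y := ⁅x, y⁆
  map_zero' := lie_zero x
  map_add' a b := lie_add x a b

@[simp] theorem adR_apply (x y : L) : adR y x = ⁅x, y⁆ := rfl
@[simp] theorem adL_apply (x y : L) : adL x y = ⁅x, y⁆ := rfl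

/-- a graded system -/
structure Sys (L : Type*) [LieRing L] (n : ℕ) where
  C : ZMod n → AddSubgroup L
  zero : C 0 = ⊥
  lie : ∀ {i j : ZMod n} {x y : L}, x ∈ C i → y ∈ C j → ⁅x, y⁆ ∈ C (i + j)

/-- generators of the bracket of two families -/
def brkSet (F E : ZMod n → AddSubgroup L) (k : ZMod n) : Set L :=
  {z | ∃ i j : ZMod n, ∃ x y : L, i + j = k ∧ x ∈ F i ∧ y ∈ E j ∧ z = ⁅x, y⁆}

/-- bracket of two families -/
def brk (F E : ZMod n → AddSubgroup L) (k : ZMod n) : AddSubgroup L :=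
  AddSubgroup.closure (brkSet F E k)

theorem brk_le_of (F E : ZMod n → AddSubgroup L) (k : ZMod n) (P : AddSubgroup L)
    (h : ∀ i j x y, i + j = k → x ∈ F i → y ∈ E j → ⁅x, y⁆ ∈ P) : brk F E k ≤ P := by
  apply (AddSubgroup.closure_le _).mpr
  rintro z ⟨i, j, x, y, hij, hx, hy, rfl⟩
  exact h i j x y hij hx hy

theorem mem_brk (F E : ZMod n → AddSubgroup L) {i j : ZMod n} {x y : L} (hx : x ∈ F i)
    (hy : y ∈ E j) : ⁅x, y⁆ ∈ brk F E (i + j) :=
  AddSubgroup.subset_closure ⟨i, j, x, y, rfl, hx, hy, rfl⟩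

theorem mem_brk' (F E : ZMod n → AddSubgroup L) {i j k : ZMod n} {x y : L} (hx : x ∈ F i)
    (hy : y ∈ E j) (h : i + j = k) : ⁅x, y⁆ ∈ brk F E k := by
  subst h
  exact mem_brk F E hx hy

theorem Sys.brk_le (E : Sys L n) (k : ZMod n) : brk E.C E.C k ≤ E.C k := by
  apply brk_le_of
  intro i j x y hij hx hy
  rw [← hij]
  exact E.lie hx hy

/-- the derived system -/
def Sys.der (E : Sys L n) : Sys L n where
  C := brk E.C E.C
  zero := by
    rw [eq_bot_iff, ← E.zero]
    exact E.brk_le 0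
  lie := by
    intro i j x y hx hy
    exact mem_brk E.C E.C (E.brk_le i hx) (E.brk_le j hy)

theorem Sys.der_le (E : Sys L n) (k : ZMod n) : E.der.C k ≤ E.C k := E.brk_le k

theorem Sys.iter_der_le (E : Sys L n) (m : ℕ) (k : ZMod n) : (Sys.der^[m] E).C k ≤ E.C k := by
  induction m generalizing E with
  | zero => exact le_refl _
  | succ m ih =>
    rw [Function.iterate_succ_apply]
    exact (ih E.der).trans (E.der_le k)

theorem Sys.mem_zero (E : Sys L n) {x : L} (hx : x ∈ E.C 0) : x = 0 := by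
  rw [E.zero] at hx
  exact (AddSubgroup.mem_bot).mp hx

/-! ### natural number indices -/

theorem Sys.lie_eq (E : Sys L n) {i j : ℕ} (h : i + j = n) {x y : L} (hx : x ∈ E.C (i : ZMod n))
    (hy : y ∈ E.C (j : ZMod n)) : ⁅x, y⁆ = 0 := by
  apply E.mem_zero
  have := E.lie hx hy
  have h0 : ((i : ZMod n) + (j : ZMod n)) = 0 := by
    rw [← Nat.cast_add, h, ZMod.natCast_self]
  rwa [h0] at this

theorem Sys.lie_nat (E : Sys L n) {i j k : ℕ} (h : (i + j : ZMod n) = (k : ZMod n)) {x y : L}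
    (hx : x ∈ E.C (i : ZMod n)) (hy : y ∈ E.C (j : ZMod n)) : ⁅x, y⁆ ∈ E.C (k : ZMod n) := by
  have := E.lie hx hy
  rwa [h] at this

theorem cast_wrap {a b : ℕ} (h : a = b + n) : ((a : ℕ) : ZMod n) = (b : ZMod n) := by
  subst h
  rw [Nat.cast_add, ZMod.natCast_self, add_zero]

/-- if `a + b ≡ k` with `a, b, k < n` then `a + b = k` or `a + b = k + n` -/
theorem add_cases [NeZero n] {a b k : ℕ} (ha : a < n) (hb : b < n) (hk : k < n)
    (h : ((a : ZMod n) + (b : ZMod n)) = (k : ZMod n)) : a + b = k ∨ a + b = k + n := by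
  rw [← Nat.cast_add, ZMod.natCast_eq_natCast_iff'] at h
  rw [Nat.mod_eq_of_lt hk] at h
  by_cases hlt : a + b < n
  · left
    rwa [Nat.mod_eq_of_lt hlt] at h
  · right
    push Not at hlt
    rw [Nat.mod_eq_sub_mod hlt, Nat.mod_eq_of_lt (by omega)] at h
    omega

/-! ### the left-normed closure of the high components -/

/-- `W E a i x`: `x` is obtained from elements of the components `C j`, `a ≤ j < n`, by sums and
right brackets with such elements, and has degree `i`. -/
inductive W (E : Sys L n) (a : ℕ) : ZMod n → L → Prop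
  | base {j : ℕ} {x : L} : a ≤ j → j < n → x ∈ E.C (j : ZMod n) → W E a (j : ZMod n) x
  | zero (i : ZMod n) : W E a i 0
  | add {i : ZMod n} {x y : L} : W E a i x → W E a i y → W E a i (x + y)
  | neg {i : ZMod n} {x : L} : W E a i x → W E a i (-x)
  | brk {i : ZMod n} {j : ℕ} {x g : L} : W E a i x → a ≤ j → j < n → g ∈ E.C (j : ZMod n) →
      W E a (i + (j : ZMod n)) ⁅x, g⁆

theorem W.mem {E : Sys L n} {a : ℕ} {i : ZMod n} {x : L} (h : W E a i x) : x ∈ E.C i := by
  induction h with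
  | base _ _ hx => exact hx
  | zero i => exact (E.C i).zero_mem
  | add _ _ h1 h2 => exact (E.C _).add_mem h1 h2
  | neg _ h1 => exact (E.C _).neg_mem h1
  | brk _ _ _ hg h1 => exact E.lie h1 hg

theorem W.cast {E : Sys L n} {a : ℕ} {i j : ZMod n} {x : L} (h : W E a i x) (hij : i = j) :
    W E a j x := hij ▸ h

theorem W.sub {E : Sys L n} {a : ℕ} {i : ZMod n} {x y : L} (hx : W E a i x) (hy : W E a i y) :
    W E a i (x - y) := by
  rw [sub_eq_add_neg]
  exact hx.add hy.neg

/-- the left-normed closure is closed under brackets -/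
theorem W.lie {E : Sys L n} {a : ℕ} {k : ZMod n} {y : L} (hy : W E a k y) :
    ∀ {i : ZMod n} {x : L}, W E a i x → W E a (i + k) ⁅x, y⁆ := by
  induction hy with
  | base hj hjn hg =>
    intro i x hx
    exact W.brk hx hj hjn hg
  | zero k =>
    intro i x hx
    rw [lie_zero]
    exact W.zero _
  | add _ _ h1 h2 =>
    intro i x hx
    rw [lie_add]
    exact (h1 hx).add (h2 hx)
  | neg _ h1 =>
    intro i x hx
    rw [lie_neg]
    exact (h1 hx).neg
  | @brk k' j y' g hy' hj hjn hg ih =>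
    intro i x hx
    -- ⁅x, ⁅y', g⁆⁆ = ⁅⁅x, y'⁆, g⁆ - ⁅⁅x, g⁆, y'⁆
    have e : ⁅x, ⁅y', g⁆⁆ = ⁅⁅x, y'⁆, g⁆ - ⁅⁅x, g⁆, y'⁆ := by
      rw [leibniz_lie x y' g]
      have : ⁅y', ⁅x, g⁆⁆ = -⁅⁅x, g⁆, y'⁆ := (lie_skew _ _).symm
      rw [this]
      abel
    rw [e]
    have h1 : W E a (i + k' + (j : ZMod n)) ⁅⁅x, y'⁆, g⁆ := W.brk (ih hx) hj hjn hg
    have h2 : W E a (i + (j : ZMod n) + k') ⁅⁅x, g⁆, y'⁆ := ih (W.brk hx hj hjn hg)
    exact (h1.cast (by ring)).sub (h2.cast (by ring))

theorem W.mono {E : Sys L n} {a : ℕ} {i : ZMod n} {x : L} (h : W E (a + 1) i x) : W E a i x := by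
  induction h with
  | base hj hjn hx => exact W.base (by omega) hjn hx
  | zero i => exact W.zero i
  | add _ _ h1 h2 => exact h1.add h2
  | neg _ h1 => exact h1.neg
  | brk _ hj hjn hg h1 => exact W.brk h1 (by omega) hjn hg

theorem W.eq_zero_of_le {E : Sys L n} {a : ℕ} (ha : n ≤ a) {i : ZMod n} {x : L} (h : W E a i x) :
    x = 0 := by
  induction h with
  | base hj hjn hx => omega
  | zero i => rfl
  | add _ _ h1 h2 => rw [h1, h2, add_zero]
  | neg _ h1 => rw [h1, neg_zero]
  | brk _ hj hjn hg h1 => omega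

/-- an element of a component of index `≥ a` -/
theorem W.of_mem [NeZero n] {E : Sys L n} {a : ℕ} {i : ZMod n} {x : L} (hx : x ∈ E.C i)
    (hi : a ≤ i.val) : W E a i x := by
  have h1 : W E a ((i.val : ℕ) : ZMod n) x :=
    W.base hi (ZMod.val_lt i) (by rwa [ZMod.natCast_zmod_val])
  rwa [ZMod.natCast_zmod_val] at h1

theorem W.of_mem_nat {E : Sys L n} {a j : ℕ} {x : L} (hx : x ∈ E.C (j : ZMod n))
    (hj : a ≤ j) (hjn : j < n) : W E a (j : ZMod n) x := W.base hj hjn hx

end Cfsg.Agent.Lib.Helper9_KK
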