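import Cfsg.Agent.Lib.Helper9_GrLie

/-!
# The Lie ring associated with the lower central series of a group (helper9)
-/

set_option autoImplicit false
set_option linter.unusedSectionVars false
set_option linter.style.haveILetI false
set_option linter.unusedSimpArgs false
set_option linter.unusedVariables false

namespace Cfsg.Agent.Lib.Helper9_LieGrp

open DirectSum Cfsg.Agent.Lib.Helper9_GrLie
open scoped commutatorElement

universe u

/-- the three subgroups lemma modulo a normal subgroup -/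
theorem three_subgroups {G : Type*} [Group G] (N X Y Z : Subgroup G) [N.Normal]
    (h1 : ⁅⁅Y, Z⁆, X⁆ ≤ N) (h2 : ⁅⁅Z, X⁆, Y⁆ ≤ N) : ⁅⁅X, Y⁆, Z⁆ ≤ N := by
  have key : ∀ H : Subgroup G, H ≤ N ↔ H.map (QuotientGroup.mk' N) = ⊥ := by
    intro H
    rw [(Subgroup.map_eq_bot_iff H), QuotientGroup.ker_mk']
  rw [key] at h1 h2 ⊢
  rw [Subgroup.map_commutator, Subgroup.map_commutator] at h1 h2 ⊢
  exact Subgroup.commutator_commutator_eq_bot_of_rotate h1 h2

variable (G : Type u) [Group G]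

/-- the lower central series, `lcs G k = γ_{k+1}(G)` -/
abbrev lcs (k : ℕ) : Subgroup G := (⊤ : Subgroup G).lowerCentralSeries k

theorem lcs_succ (k : ℕ) : lcs G (k + 1) = ⁅lcs G k, (⊤ : Subgroup G)⁆ := rfl

theorem lcs_anti {i j : ℕ} (h : i ≤ j) : lcs G j ≤ lcs G i :=
  Subgroup.lowerCentralSeries_antitone _ h

theorem comm_lcs_le : ∀ (j i : ℕ), ⁅lcs G i, lcs G j⁆ ≤ lcs G (i + j + 1)
  | 0, i => le_of_eq rfl
  | j + 1, i => by
    rw [Subgroup.commutator_comm, lcs_succ G j]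
    apply three_subgroups (lcs G (i + (j + 1) + 1)) (lcs G j) ⊤ (lcs G i)
    · rw [Subgroup.commutator_comm ⊤ (lcs G i), ← lcs_succ]
      have := comm_lcs_le j (i + 1)
      have e : i + (j + 1) + 1 = i + 1 + j + 1 := by omega
      rw [e]
      exact this
    · calc ⁅⁅lcs G i, lcs G j⁆, (⊤ : Subgroup G)⁆
          ≤ ⁅lcs G (i + j + 1), (⊤ : Subgroup G)⁆ :=
            Subgroup.commutator_mono (comm_lcs_le j i) le_rfl
        _ = lcs G (i + (j + 1) + 1) := rfl

variable {G}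

theorem comm_mem {i j : ℕ} {x y : G} (hx : x ∈ lcs G i) (hy : y ∈ lcs G j) :
    ⁅x, y⁆ ∈ lcs G (i + j + 1) :=
  comm_lcs_le G j i (Subgroup.commutator_mem_commutator hx hy)

theorem comm_mem_succ {k : ℕ} {x y : G} (hx : x ∈ lcs G k) : ⁅x, y⁆ ∈ lcs G (k + 1) :=
  Subgroup.commutator_mem_commutator hx (Subgroup.mem_top y)

theorem comm_mem_succ' {k : ℕ} {x y : G} (hy : y ∈ lcs G k) : ⁅x, y⁆ ∈ lcs G (k + 1) := by
  have : ⁅x, y⁆ = (⁅y, x⁆)⁻¹ := (commutatorElement_inv y x).symm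
  rw [this]
  exact inv_mem (comm_mem_succ hy)

variable (G)

/-- the image of `γ_{k+1}` in `G ⧸ γ_{k+2}` -/
def Q (k : ℕ) : Subgroup (G ⧸ lcs G (k + 1)) :=
  (lcs G k).map (QuotientGroup.mk' (lcs G (k + 1)))

theorem Q_comm (k : ℕ) (a b : Q G k) : a * b = b * a := by
  obtain ⟨_, ⟨g, hg, rfl⟩⟩ := a
  obtain ⟨_, ⟨h, hh, rfl⟩⟩ := b
  apply Subtype.ext
  show QuotientGroup.mk' _ g * QuotientGroup.mk' _ h =
    QuotientGroup.mk' _ h * QuotientGroup.mk' _ g
  rw [← map_mul, ← map_mul]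
  apply (QuotientGroup.eq).mpr
  have : (g * h)⁻¹ * (h * g) = ⁅h⁻¹, g⁻¹⁆ := by
    rw [commutatorElement_def]; group
  rw [this]
  exact comm_mem_succ (inv_mem hh)

instance (k : ℕ) : CommGroup (Q G k) :=
  { (inferInstance : Group (Q G k)) with mul_comm := Q_comm G k }

/-- the homogeneous component of the associated Lie ring -/
abbrev A (k : ℕ) : Type u := Additive (Q G k)

variable {G}

/-- the class of an element of `γ_{k+1}` -/
def cls (k : ℕ) (g : G) (hg : g ∈ lcs G k) : A G k :=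
  Additive.ofMul (⟨QuotientGroup.mk' (lcs G (k + 1)) g, Subgroup.mem_map_of_mem _ hg⟩ : Q G k)

theorem toMul_cls (k : ℕ) (g : G) (hg : g ∈ lcs G k) :
    ((Additive.toMul (cls k g hg) : Q G k) : G ⧸ lcs G (k + 1)) =
      QuotientGroup.mk' (lcs G (k + 1)) g := rfl

theorem cls_ext {k : ℕ} {a b : A G k}
    (h : ((Additive.toMul a : Q G k) : G ⧸ lcs G (k + 1)) = ((Additive.toMul b : Q G k) : _)) :
    a = b := by
  apply Additive.toMul.injective
  exact Subtype.ext h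

theorem cls_surj {k : ℕ} (a : A G k) : ∃ (g : G) (hg : g ∈ lcs G k), cls k g hg = a := by
  obtain ⟨g, hg, hgq⟩ := Subgroup.mem_map.mp (Additive.toMul a : Q G k).2
  exact ⟨g, hg, cls_ext (by rw [toMul_cls]; exact hgq)⟩

theorem cls_eq_iff {k : ℕ} {g g' : G} (hg : g ∈ lcs G k) (hg' : g' ∈ lcs G k) :
    cls k g hg = cls k g' hg' ↔ g⁻¹ * g' ∈ lcs G (k + 1) := by
  constructor
  · intro h
    have h1 := congrArg (fun a => ((Additive.toMul a : Q G k) : G ⧸ lcs G (k + 1))) h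
    simp only [toMul_cls] at h1
    exact QuotientGroup.eq.mp h1
  · intro h
    apply cls_ext
    rw [toMul_cls, toMul_cls]
    exact QuotientGroup.eq.mpr h

theorem cls_congr {k : ℕ} {g g' : G} (h : g = g') (hg : g ∈ lcs G k) :
    cls k g hg = cls k g' (h ▸ hg) := by
  subst h; rfl

theorem cls_mul {k : ℕ} {g g' : G} (hg : g ∈ lcs G k) (hg' : g' ∈ lcs G k) :
    cls k (g * g') (mul_mem hg hg') = cls k g hg + cls k g' hg' := by
  apply cls_ext
  rw [toMul_cls, toMul_add, Subgroup.coe_mul, toMul_cls, toMul_cls, map_mul]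

theorem cls_one (k : ℕ) : cls k (1 : G) (one_mem _) = 0 := by
  apply cls_ext
  rw [toMul_cls, toMul_zero, Subgroup.coe_one, map_one]

theorem cls_eq_zero_iff {k : ℕ} {g : G} (hg : g ∈ lcs G k) :
    cls k g hg = 0 ↔ g ∈ lcs G (k + 1) := by
  rw [← cls_one k, cls_eq_iff]
  constructor
  · intro h
    have := inv_mem h
    simpa using this
  · intro h
    simpa using inv_mem h

theorem cls_inv {k : ℕ} {g : G} (hg : g ∈ lcs G k) :
    cls k g⁻¹ (inv_mem hg) = -cls k g hg := by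
  have h1 := cls_mul hg (inv_mem hg)
  have h2 : cls k (g * g⁻¹) (mul_mem hg (inv_mem hg)) = 0 := by
    rw [cls_congr (mul_inv_cancel g)]
    exact cls_one k
  rw [h2] at h1
  exact (neg_eq_of_add_eq_zero_right h1.symm).symm

theorem cls_conj {k : ℕ} {g : G} (u : G) (hg : g ∈ lcs G k) :
    cls k (u * g * u⁻¹) ((inferInstance : (lcs G k).Normal).conj_mem g hg u) = cls k g hg := by
  rw [cls_eq_iff]
  have : (u * g * u⁻¹)⁻¹ * g = ⁅u, g⁻¹⁆ := by
    rw [commutatorElement_def]; group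
  rw [this]
  exact comm_mem_succ' (inv_mem hg)

/-! ### commutators modulo the next term -/

theorem lcs_cast {m m' : ℕ} (h : m = m') {g : G} (hg : g ∈ lcs G m) : g ∈ lcs G m' := h ▸ hg

theorem comm_mul_left (x x' y : G) : ⁅x * x', y⁆ = x * ⁅x', y⁆ * x⁻¹ * ⁅x, y⁆ := by
  simp only [commutatorElement_def]; group

theorem comm_mul_right (x y y' : G) : ⁅x, y * y'⁆ = ⁅x, y⁆ * (y * ⁅x, y'⁆ * y⁻¹) := by
  simp only [commutatorElement_def]; group

theorem hall_witt (a b c : G) :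
    a * ⁅b, ⁅a⁻¹, c⁆⁆ * a⁻¹ * (c * ⁅a, ⁅c⁻¹, b⁆⁆ * c⁻¹) * (b * ⁅c, ⁅b⁻¹, a⁆⁆ * b⁻¹) = 1 := by
  simp only [commutatorElement_def]; group

theorem cls_comm_mul_left {i j : ℕ} {x x' y : G} (hx : x ∈ lcs G i) (hx' : x' ∈ lcs G i)
    (hy : y ∈ lcs G j) :
    cls (i + j + 1) ⁅x * x', y⁆ (comm_mem (mul_mem hx hx') hy) =
      cls (i + j + 1) ⁅x, y⁆ (comm_mem hx hy) + cls (i + j + 1) ⁅x', y⁆ (comm_mem hx' hy) := by
  have h1 : x * ⁅x', y⁆ * x⁻¹ ∈ lcs G (i + j + 1) :=
    (inferInstance : (lcs G (i + j + 1)).Normal).conj_mem _ (comm_mem hx' hy) x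
  rw [cls_congr (comm_mul_left x x' y), cls_mul h1 (comm_mem hx hy), cls_conj x (comm_mem hx' hy)]
  exact add_comm _ _

theorem cls_comm_mul_right {i j : ℕ} {x y y' : G} (hx : x ∈ lcs G i) (hy : y ∈ lcs G j)
    (hy' : y' ∈ lcs G j) :
    cls (i + j + 1) ⁅x, y * y'⁆ (comm_mem hx (mul_mem hy hy')) =
      cls (i + j + 1) ⁅x, y⁆ (comm_mem hx hy) + cls (i + j + 1) ⁅x, y'⁆ (comm_mem hx hy') := by
  have h1 : y * ⁅x, y'⁆ * y⁻¹ ∈ lcs G (i + j + 1) :=
    (inferInstance : (lcs G (i + j + 1)).Normal).conj_mem _ (comm_mem hx hy') y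
  rw [cls_congr (comm_mul_right x y y'), cls_mul (comm_mem hx hy) h1, cls_conj y (comm_mem hx hy')]

theorem cls_comm_eq_zero_left {i j : ℕ} {t y : G} (ht : t ∈ lcs G (i + 1)) (hy : y ∈ lcs G j) :
    cls (i + j + 1) ⁅t, y⁆ (comm_mem (lcs_anti G (Nat.le_succ i) ht) hy) = 0 := by
  rw [cls_eq_zero_iff]
  exact lcs_cast (by omega) (comm_mem ht hy)

theorem cls_comm_eq_zero_right {i j : ℕ} {x s : G} (hx : x ∈ lcs G i) (hs : s ∈ lcs G (j + 1)) :
    cls (i + j + 1) ⁅x, s⁆ (comm_mem hx (lcs_anti G (Nat.le_succ j) hs)) = 0 := by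
  rw [cls_eq_zero_iff]
  exact lcs_cast (by omega) (comm_mem hx hs)

theorem cls_comm_congr {i j : ℕ} {x x' y y' : G} (hx : x ∈ lcs G i) (hx' : x' ∈ lcs G i)
    (hy : y ∈ lcs G j) (hy' : y' ∈ lcs G j) (h1 : x⁻¹ * x' ∈ lcs G (i + 1))
    (h2 : y⁻¹ * y' ∈ lcs G (j + 1)) :
    cls (i + j + 1) ⁅x, y⁆ (comm_mem hx hy) = cls (i + j + 1) ⁅x', y'⁆ (comm_mem hx' hy') := by
  have e1 : x' = x * (x⁻¹ * x') := by group
  have e2 : y' = y * (y⁻¹ * y') := by group
  have ht : x⁻¹ * x' ∈ lcs G i := lcs_anti G (Nat.le_succ i) h1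
  have hs : y⁻¹ * y' ∈ lcs G j := lcs_anti G (Nat.le_succ j) h2
  have step1 : cls (i + j + 1) ⁅x', y'⁆ (comm_mem hx' hy') =
      cls (i + j + 1) ⁅x, y'⁆ (comm_mem hx hy') := by
    have := cls_comm_mul_left hx ht hy'
    rw [cls_comm_eq_zero_left h1 hy', add_zero] at this
    rw [← this]
    exact cls_congr (by rw [← e1]) _
  have step2 : cls (i + j + 1) ⁅x, y'⁆ (comm_mem hx hy') =
      cls (i + j + 1) ⁅x, y⁆ (comm_mem hx hy) := by
    have := cls_comm_mul_right hx hy hs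
    rw [cls_comm_eq_zero_right hx h2, add_zero] at this
    rw [← this]
    exact cls_congr (by rw [← e2]) _
  rw [step1, step2]

/-! ### the bracket on the components -/

/-- a representative of a class -/
noncomputable def rep {k : ℕ} (a : A G k) : G := Classical.choose (cls_surj a)

theorem rep_mem {k : ℕ} (a : A G k) : rep a ∈ lcs G k :=
  Classical.choose (Classical.choose_spec (cls_surj a))

theorem cls_rep {k : ℕ} (a : A G k) : cls k (rep a) (rep_mem a) = a :=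
  Classical.choose_spec (Classical.choose_spec (cls_surj a))

/-- the bracket of two classes -/
noncomputable def brFun (i j : ℕ) (a : A G i) (b : A G j) : A G (i + j + 1) :=
  cls (i + j + 1) ⁅rep a, rep b⁆ (comm_mem (rep_mem a) (rep_mem b))

theorem brFun_cls {i j : ℕ} {x y : G} (hx : x ∈ lcs G i) (hy : y ∈ lcs G j) :
    brFun i j (cls i x hx) (cls j y hy) = cls (i + j + 1) ⁅x, y⁆ (comm_mem hx hy) := by
  unfold brFun
  exact cls_comm_congr (rep_mem _) hx (rep_mem _) hy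
    ((cls_eq_iff _ _).mp (cls_rep (cls i x hx))) ((cls_eq_iff _ _).mp (cls_rep (cls j y hy)))

theorem brFun_add_left {i j : ℕ} (a a' : A G i) (b : A G j) :
    brFun i j (a + a') b = brFun i j a b + brFun i j a' b := by
  obtain ⟨x, hx, rfl⟩ := cls_surj a
  obtain ⟨x', hx', rfl⟩ := cls_surj a'
  obtain ⟨y, hy, rfl⟩ := cls_surj b
  rw [← cls_mul hx hx', brFun_cls, brFun_cls, brFun_cls, cls_comm_mul_left hx hx' hy]

theorem brFun_add_right {i j : ℕ} (a : A G i) (b b' : A G j) :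
    brFun i j a (b + b') = brFun i j a b + brFun i j a b' := by
  obtain ⟨x, hx, rfl⟩ := cls_surj a
  obtain ⟨y, hy, rfl⟩ := cls_surj b
  obtain ⟨y', hy', rfl⟩ := cls_surj b'
  rw [← cls_mul hy hy', brFun_cls, brFun_cls, brFun_cls, cls_comm_mul_right hx hy hy']

/-- the bracket as a biadditive map -/
noncomputable def br (i j : ℕ) : A G i →+ A G j →+ A G (i + j + 1) :=
  AddMonoidHom.mk' (fun a => AddMonoidHom.mk' (brFun i j a) (brFun_add_right a))
    (by
      intro a a'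
      apply AddMonoidHom.ext
      intro b
      exact brFun_add_left a a' b)

theorem br_cls {i j : ℕ} {x y : G} (hx : x ∈ lcs G i) (hy : y ∈ lcs G j) :
    br i j (cls i x hx) (cls j y hy) = cls (i + j + 1) ⁅x, y⁆ (comm_mem hx hy) :=
  brFun_cls hx hy

end Cfsg.Agent.Lib.Helper9_LieGrp
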