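import Cfsg.Agent.Lib.Helper9_LieGrp

/-!
# The Lie ring associated with the lower central series of a group, part 2 (helper9)
-/

set_option autoImplicit false
set_option linter.unusedSectionVars false
set_option linter.style.haveILetI false
set_option linter.unusedSimpArgs false
set_option linter.unusedVariables false

namespace Cfsg.Agent.Lib.Helper9_LieGrp

open DirectSum Cfsg.Agent.Lib.Helper9_GrLie
open scoped commutatorElement

universe u

variable {G : Type u} [Group G]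

/-- the total bracket -/
noncomputable def Btot : (⨁ k, A G k) →+ (⨁ k, A G k) →+ (⨁ k, A G k) :=
  DirectSum.toAddMonoid fun i =>
    AddMonoidHom.flip <| DirectSum.toAddMonoid fun j =>
      AddMonoidHom.flip <| (DirectSum.of (A G) (i + j + 1)).compHom.comp <| br i j

theorem Btot_of_of {i j : ℕ} (a : A G i) (b : A G j) :
    Btot (of (A G) i a) (of (A G) j b) = of (A G) (i + j + 1) (br i j a b) := by
  unfold Btot
  rw [DirectSum.toAddMonoid_of, AddMonoidHom.flip_apply, DirectSum.toAddMonoid_of,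
    AddMonoidHom.flip_apply]
  rfl

/-- a homogeneous element of the direct sum -/
noncomputable def ofc (k : ℕ) (g : G) (hg : g ∈ lcs G k) : ⨁ k, A G k := of (A G) k (cls k g hg)

theorem ofc_cast {k k' : ℕ} (h : k = k') {g : G} (hg : g ∈ lcs G k) :
    ofc k g hg = ofc k' g (lcs_cast h hg) := by
  subst h; rfl

theorem ofc_congr {k : ℕ} {g g' : G} (h : g = g') (hg : g ∈ lcs G k) :
    ofc k g hg = ofc k g' (h ▸ hg) := by
  subst h; rfl

theorem ofc_mul {k : ℕ} {g g' : G} (hg : g ∈ lcs G k) (hg' : g' ∈ lcs G k) :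
    ofc k (g * g') (mul_mem hg hg') = ofc k g hg + ofc k g' hg' := by
  unfold ofc
  rw [cls_mul hg hg', map_add]

theorem ofc_one (k : ℕ) : ofc k (1 : G) (one_mem _) = 0 := by
  unfold ofc
  rw [cls_one, map_zero]

theorem ofc_inv {k : ℕ} {g : G} (hg : g ∈ lcs G k) : ofc k g⁻¹ (inv_mem hg) = -ofc k g hg := by
  unfold ofc
  rw [cls_inv hg, map_neg]

theorem ofc_conj {k : ℕ} {g : G} (u : G) (hg : g ∈ lcs G k) :
    ofc k (u * g * u⁻¹) ((inferInstance : (lcs G k).Normal).conj_mem g hg u) = ofc k g hg := by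
  unfold ofc
  rw [cls_conj u hg]

theorem exists_ofc {k : ℕ} (a : A G k) : ∃ (g : G) (hg : g ∈ lcs G k), of (A G) k a = ofc k g hg := by
  obtain ⟨g, hg, rfl⟩ := cls_surj a
  exact ⟨g, hg, rfl⟩

theorem Btot_ofc {i j : ℕ} {x y : G} (hx : x ∈ lcs G i) (hy : y ∈ lcs G j) :
    Btot (ofc i x hx) (ofc j y hy) = ofc (i + j + 1) ⁅x, y⁆ (comm_mem hx hy) := by
  unfold ofc
  rw [Btot_of_of, br_cls]

theorem Btot_self_ofc {i : ℕ} {x : G} (hx : x ∈ lcs G i) : Btot (ofc i x hx) (ofc i x hx) = 0 := by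
  rw [Btot_ofc, ofc_congr (commutatorElement_self x)]
  exact ofc_one _

theorem Btot_skew_ofc {i j : ℕ} {x y : G} (hx : x ∈ lcs G i) (hy : y ∈ lcs G j) :
    Btot (ofc i x hx) (ofc j y hy) + Btot (ofc j y hy) (ofc i x hx) = 0 := by
  rw [Btot_ofc, Btot_ofc, ofc_cast (show j + i + 1 = i + j + 1 by omega), ← ofc_mul,
    ofc_congr (show ⁅x, y⁆ * ⁅y, x⁆ = 1 by rw [← commutatorElement_inv x y, mul_inv_cancel])]
  exact ofc_one _

theorem Btot_skew_ofc' {i j : ℕ} {x y : G} (hx : x ∈ lcs G i) (hy : y ∈ lcs G j) :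
    Btot (ofc j y hy) (ofc i x hx) = -Btot (ofc i x hx) (ofc j y hy) :=
  eq_neg_of_add_eq_zero_right (Btot_skew_ofc hx hy)

theorem Btot_jac_ofc {i j k : ℕ} {x y z : G} (hx : x ∈ lcs G i) (hy : y ∈ lcs G j)
    (hz : z ∈ lcs G k) :
    Btot (ofc i x hx) (Btot (ofc j y hy) (ofc k z hz)) =
      Btot (Btot (ofc i x hx) (ofc j y hy)) (ofc k z hz) +
        Btot (ofc j y hy) (Btot (ofc i x hx) (ofc k z hz)) := by
  -- the three terms of the Hall–Witt identity
  have hT1 : ⁅y, ⁅x⁻¹, z⁆⁆ ∈ lcs G (j + (i + k + 1) + 1) := comm_mem hy (comm_mem (inv_mem hx) hz)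
  have hT2 : ⁅x, ⁅z⁻¹, y⁆⁆ ∈ lcs G (i + (k + j + 1) + 1) := comm_mem hx (comm_mem (inv_mem hz) hy)
  have hT3 : ⁅z, ⁅y⁻¹, x⁆⁆ ∈ lcs G (k + (j + i + 1) + 1) := comm_mem hz (comm_mem (inv_mem hy) hx)
  set N := i + j + k + 2 with hN
  have hT1' : ⁅y, ⁅x⁻¹, z⁆⁆ ∈ lcs G N := lcs_cast (by omega) hT1
  have hT2' : ⁅x, ⁅z⁻¹, y⁆⁆ ∈ lcs G N := lcs_cast (by omega) hT2
  have hT3' : ⁅z, ⁅y⁻¹, x⁆⁆ ∈ lcs G N := lcs_cast (by omega) hT3
  have hn : (lcs G N).Normal := inferInstance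
  have hsum : ofc N _ hT1' + ofc N _ hT2' + ofc N _ hT3' = 0 := by
    have h1 := ofc_conj x hT1'
    have h2 := ofc_conj z hT2'
    have h3 := ofc_conj y hT3'
    rw [← h1, ← h2, ← h3, ← ofc_mul, ← ofc_mul, ofc_congr (hall_witt x y z)]
    exact ofc_one _
  -- rewrite the three terms as iterated brackets
  have e1 : ofc N _ hT1' = -Btot (ofc j y hy) (Btot (ofc i x hx) (ofc k z hz)) := by
    rw [← ofc_cast (show j + (i + k + 1) + 1 = N by omega) hT1,
      ← Btot_ofc hy (comm_mem (inv_mem hx) hz), ← Btot_ofc (inv_mem hx) hz, ofc_inv hx,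
      map_neg, AddMonoidHom.neg_apply, map_neg]
  have e2 : ofc N _ hT2' = Btot (ofc i x hx) (Btot (ofc j y hy) (ofc k z hz)) := by
    rw [← ofc_cast (show i + (k + j + 1) + 1 = N by omega) hT2,
      ← Btot_ofc hx (comm_mem (inv_mem hz) hy), ← Btot_ofc (inv_mem hz) hy, ofc_inv hz,
      map_neg, AddMonoidHom.neg_apply, map_neg, Btot_skew_ofc' hy hz, map_neg, neg_neg]
  have e3 : ofc N _ hT3' = -Btot (Btot (ofc i x hx) (ofc j y hy)) (ofc k z hz) := by
    rw [← ofc_cast (show k + (j + i + 1) + 1 = N by omega) hT3,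
      ← Btot_ofc hz (comm_mem (inv_mem hy) hx), ← Btot_ofc (inv_mem hy) hx, ofc_inv hy,
      map_neg, AddMonoidHom.neg_apply, map_neg, Btot_skew_ofc' hx hy, map_neg, neg_neg,
      Btot_ofc hx hy, Btot_skew_ofc' (comm_mem hx hy) hz]
  rw [e1, e2, e3] at hsum
  -- `-b + a + -c = 0`
  have : Btot (ofc i x hx) (Btot (ofc j y hy) (ofc k z hz)) =
      Btot (Btot (ofc i x hx) (ofc j y hy)) (ofc k z hz) +
        Btot (ofc j y hy) (Btot (ofc i x hx) (ofc k z hz)) := by
    have h := hsum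
    rw [add_comm (-_) _, add_assoc, ← neg_add, add_neg_eq_zero] at h
    rw [h, add_comm]
  exact this

variable (G)

/-- the graded Lie data of a group -/
noncomputable def grLie : GrLie (A G) where
  B := Btot
  self := by
    intro i a
    obtain ⟨x, hx, h⟩ := exists_ofc a
    rw [h]
    exact Btot_self_ofc hx
  skew := by
    intro i j a b
    obtain ⟨x, hx, h⟩ := exists_ofc a
    obtain ⟨y, hy, h'⟩ := exists_ofc b
    rw [h, h']
    exact Btot_skew_ofc hx hy
  jac := by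
    intro i j k a b c
    obtain ⟨x, hx, h⟩ := exists_ofc a
    obtain ⟨y, hy, h'⟩ := exists_ofc b
    obtain ⟨z, hz, h''⟩ := exists_ofc c
    rw [h, h', h'']
    exact Btot_jac_ofc hx hy hz

/-- the Lie ring of a group -/
abbrev LieOf : Type u := (grLie G).Total

end Cfsg.Agent.Lib.Helper9_LieGrp
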