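import Cfsg.Agent.Lib.Helper9_LieGrp2
import Cfsg.Agent.Lib.Helper9_KKEigen

/-!
# Automorphisms of the Lie ring of a group and the class bound (helper9)
-/

set_option autoImplicit false
set_option linter.unusedSectionVars false
set_option linter.style.haveILetI false
set_option linter.unusedSimpArgs false
set_option linter.unusedVariables false

namespace Cfsg.Agent.Lib.Helper9_LieGrp

open DirectSum Cfsg.Agent.Lib.Helper9_GrLie Cfsg.Agent.Lib.Helper9_KK
open scoped commutatorElement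

universe u

variable {G : Type u} [Group G]

/-! ### the induced automorphism -/

theorem map_mem_lcs (φ : G ≃* G) {k : ℕ} {g : G} (hg : g ∈ lcs G k) : φ g ∈ lcs G k := by
  have h := (Subgroup.characteristic_iff_comap_eq.mp
    (inferInstance : (lcs G k).Characteristic)) φ
  have : g ∈ (lcs G k).comap φ.toMonoidHom := by rw [h]; exact hg
  exact this

/-- the induced map on a component -/
noncomputable def phiFun (φ : G ≃* G) (k : ℕ) (a : A G k) : A G k :=
  cls k (φ (rep a)) (map_mem_lcs φ (rep_mem a))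

theorem phiFun_cls (φ : G ≃* G) {k : ℕ} {g : G} (hg : g ∈ lcs G k) :
    phiFun φ k (cls k g hg) = cls k (φ g) (map_mem_lcs φ hg) := by
  unfold phiFun
  rw [cls_eq_iff]
  have h1 : (rep (cls k g hg))⁻¹ * g ∈ lcs G (k + 1) :=
    (cls_eq_iff _ _).mp (cls_rep (cls k g hg))
  have h2 := map_mem_lcs φ h1
  rwa [map_mul, map_inv] at h2

/-- the induced additive map on a component -/
noncomputable def phiA (φ : G ≃* G) (k : ℕ) : A G k →+ A G k :=
  AddMonoidHom.mk' (phiFun φ k) (by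
    intro a b
    obtain ⟨x, hx, rfl⟩ := cls_surj a
    obtain ⟨y, hy, rfl⟩ := cls_surj b
    rw [← cls_mul hx hy, phiFun_cls, phiFun_cls, phiFun_cls, ← cls_mul]
    exact cls_congr (map_mul φ x y) _)

theorem phiA_cls (φ : G ≃* G) {k : ℕ} {g : G} (hg : g ∈ lcs G k) :
    phiA φ k (cls k g hg) = cls k (φ g) (map_mem_lcs φ hg) := phiFun_cls φ hg

/-- the induced additive map on the direct sum -/
noncomputable def Phi (φ : G ≃* G) : (⨁ k, A G k) →+ (⨁ k, A G k) :=
  DirectSum.map (fun k => phiA φ k)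

theorem Phi_ofc (φ : G ≃* G) {k : ℕ} {g : G} (hg : g ∈ lcs G k) :
    Phi φ (ofc k g hg) = ofc k (φ g) (map_mem_lcs φ hg) := by
  unfold Phi ofc
  rw [DirectSum.map_of, phiA_cls]

theorem Phi_Btot (φ : G ≃* G) (x y : ⨁ k, A G k) :
    Phi φ (Btot x y) = Btot (Phi φ x) (Phi φ y) := by
  induction x using DirectSum.induction_on with
  | zero => simp
  | of i a =>
    induction y using DirectSum.induction_on with
    | zero => simp
    | of j b =>
      obtain ⟨g, hg, h⟩ := exists_ofc a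
      obtain ⟨g', hg', h'⟩ := exists_ofc b
      rw [h, h', Btot_ofc, Phi_ofc, Phi_ofc, Phi_ofc, Btot_ofc]
      exact ofc_congr (map_commutatorElement φ g g') _
    | add y₁ y₂ h₁ h₂ => simp only [map_add, h₁, h₂]
  | add x₁ x₂ h₁ h₂ => simp only [map_add, AddMonoidHom.add_apply, h₁, h₂]

theorem Phi_iterate_ofc (φ : G ≃* G) (n : ℕ) {k : ℕ} {g : G} (hg : g ∈ lcs G k) :
    ∃ h : (φ^[n]) g ∈ lcs G k, (Phi φ)^[n] (ofc k g hg) = ofc k ((φ^[n]) g) h := by
  induction n with
  | zero => exact ⟨hg, rfl⟩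
  | succ n ih =>
    obtain ⟨h, e⟩ := ih
    refine ⟨by rw [Function.iterate_succ_apply']; exact map_mem_lcs φ h, ?_⟩
    rw [Function.iterate_succ_apply', e, Phi_ofc]
    exact ofc_congr (Function.iterate_succ_apply' φ n g).symm _

theorem Phi_iterate_eq (φ : G ≃* G) (n : ℕ) (hn : ∀ g, (φ^[n]) g = g) (x : ⨁ k, A G k) :
    (Phi φ)^[n] x = x := by
  induction x using DirectSum.induction_on with
  | zero => exact iterate_map_zero _ _
  | of i a =>
    obtain ⟨g, hg, h⟩ := exists_ofc a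
    obtain ⟨h', e⟩ := Phi_iterate_ofc φ n hg
    rw [h, e]
    exact ofc_congr (hn g) _
  | add x₁ x₂ h₁ h₂ => rw [iterate_map_add, h₁, h₂]

/-! ### fixed points -/

/-- fixed-point-free automorphisms act fixed-point-freely on invariant sections -/
theorem mem_of_fpf [Finite G] (φ : G ≃* G) (hfpf : ∀ g, φ g = g → g = 1) (Z : Subgroup G)
    (hZ : ∀ z ∈ Z, φ z ∈ Z) {x : G} (hx : (φ x)⁻¹ * x ∈ Z) : x ∈ Z := by
  -- `w ↦ w (φ w)⁻¹` is a bijection of `Z`
  let ψ : Z → Z := fun w => ⟨(w : G) * (φ w)⁻¹, Z.mul_mem w.2 (Z.inv_mem (hZ _ w.2))⟩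
  have hinj : Function.Injective ψ := by
    intro w w' h
    have h1 : (w : G) * (φ w)⁻¹ = (w' : G) * (φ w')⁻¹ := congrArg Subtype.val h
    have h2 : φ ((w' : G)⁻¹ * w) = (w' : G)⁻¹ * w := by
      rw [map_mul, map_inv]
      have h3 : φ (w : G) = ((w' : G) * (φ w')⁻¹)⁻¹ * w := by
        rw [← h1]; group
      rw [h3]; group
    have h4 := hfpf _ h2
    apply Subtype.ext
    have : (w : G) = (w' : G) * ((w' : G)⁻¹ * w) := by group
    rw [this, h4, mul_one]
  have hsurj := Finite.injective_iff_surjective.mp hinj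
  obtain ⟨w, hw⟩ := hsurj ⟨((φ x)⁻¹ * x)⁻¹, Z.inv_mem hx⟩
  have hw' : (w : G) * (φ w)⁻¹ = ((φ x)⁻¹ * x)⁻¹ := congrArg Subtype.val hw
  have hfix : φ (x * (w : G)) = x * (w : G) := by
    rw [map_mul]
    have h3 : φ (w : G) = ((φ x)⁻¹ * x) * (w : G) := by
      have : φ (w : G) = ((w : G) * (φ w)⁻¹)⁻¹ * w := by group
      rw [this, hw', inv_inv]
    rw [h3]; group
  have h1 := hfpf _ hfix
  have hxw : x = (w : G)⁻¹ := eq_inv_of_mul_eq_one_left h1
  rw [hxw]
  exact Z.inv_mem w.2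

theorem phiA_fix [Finite G] (φ : G ≃* G) (hfpf : ∀ g, φ g = g → g = 1) {k : ℕ} (a : A G k)
    (ha : phiA φ k a = a) : a = 0 := by
  obtain ⟨g, hg, rfl⟩ := cls_surj a
  rw [phiA_cls, cls_eq_iff] at ha
  rw [cls_eq_zero_iff]
  exact mem_of_fpf φ hfpf (lcs G (k + 1)) (fun z hz => map_mem_lcs φ hz) ha

theorem Phi_fix [Finite G] (φ : G ≃* G) (hfpf : ∀ g, φ g = g → g = 1) (x : ⨁ k, A G k)
    (hx : Phi φ x = x) : x = 0 := by
  apply DFinsupp.ext
  intro k
  have h1 : (Phi φ x) k = x k := by rw [hx]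
  unfold Phi at h1
  rw [DirectSum.map_apply] at h1
  exact phiA_fix φ hfpf (x k) h1

end Cfsg.Agent.Lib.Helper9_LieGrp
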