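import Mathlib
import Cfsg.Agent.Lib.Helper94_OD3Defs
import Cfsg.Agent.Lib.Helper74_OD_BASIC
import Cfsg.Agent.Lib.Helper10_OD_IRR3
import Cfsg.Agent.Lib.Helper2_OD3_SIEGH

set_option autoImplicit false
set_option linter.unusedSectionVars false
set_option linter.unusedVariables false

/-!
OD3 market (architect helper94), package OD3-FINO (helper9): the final contradiction of case (A) in odd
characteristic.  `FINO_of` takes the verbatim statements of OD3-NOTS, OD3-VALUE and OD3-KEY as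
hypotheses.
-/

namespace Cfsg.Agent.Lib.Helper9_OD3_FINO

open Module Cfsg.Agent.Lib.Helper94_Symp Cfsg.Agent.Lib.Helper94_OrthSmall
  Cfsg.Agent.Lib.Helper94_OrthSiegel Cfsg.Agent.Lib.Helper94_OrthNondeg
  Cfsg.Agent.Lib.Helper29_ODDefs Cfsg.Agent.Lib.Helper94_Q2Defs Cfsg.Agent.Lib.Helper94_OD3Defs

variable {F V : Type*} [Field F] [AddCommGroup V] [Module F V] [Finite F] [FiniteDimensional F V]
  {Q : V → F} {B : LinearMap.BilinForm F V} {t k : ℕ} {D : Fin t → Submodule F V}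
  {S M L : Subgroup (V ≃ₗ[F] V)}

/-- the part of `A` orthogonal to `y` -/
def T0 (B : LinearMap.BilinForm F V) (A : Submodule F V) (y : V) : Submodule F V :=
  A ⊓ LinearMap.ker (B y)

theorem mem_T0 {A : Submodule F V} {y v : V} : v ∈ T0 B A y ↔ v ∈ A ∧ B y v = 0 := by
  unfold T0
  rw [Submodule.mem_inf, LinearMap.mem_ker]

theorem T0_le (A : Submodule F V) (y : V) : T0 B A y ≤ A := inf_le_left

/-- `A ∩ y^⊥` is nondegenerate when `A` is and `y ∈ A` is not isotropic -/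
theorem T0_nondeg (hsymm : ∀ u v : V, B u v = B v u) {A : Submodule F V}
    (hA : ∀ a ∈ A, a ≠ 0 → ∃ x ∈ A, B x a ≠ 0) {y : V} (hy : y ∈ A) (hyy : B y y ≠ 0) :
    ∀ a ∈ T0 B A y, a ≠ 0 → ∃ x ∈ T0 B A y, B x a ≠ 0 := by
  intro a ha ha0
  obtain ⟨haA, hya⟩ := mem_T0.1 ha
  obtain ⟨x, hxA, hxa⟩ := hA a haA ha0
  refine ⟨x - (B y x / B y y) • y, mem_T0.2 ⟨A.sub_mem hxA (A.smul_mem _ hy), ?_⟩, ?_⟩
  · rw [map_sub, map_smul, smul_eq_mul, div_mul_cancel₀ _ hyy, sub_self]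
  · rw [map_sub, LinearMap.sub_apply, map_smul, LinearMap.smul_apply, hya, smul_zero, sub_zero]
    exact hxa

/-- `A ∩ y^⊥` has codimension at most one in `A` -/
theorem finrank_T0 (A : Submodule F V) (y : V) : finrank F A ≤ finrank F (T0 B A y) + 1 := by
  set f : A →ₗ[F] F := (B y).domRestrict A with hf
  have h1 := LinearMap.finrank_range_add_finrank_ker f
  have h2 : finrank F (LinearMap.range f) ≤ 1 := by
    have := Submodule.finrank_le (LinearMap.range f)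
    rwa [finrank_self] at this
  have h3 : T0 B A y = (LinearMap.ker f).map A.subtype := by
    ext v
    rw [mem_T0, Submodule.mem_map]
    constructor
    · rintro ⟨hvA, hyv⟩
      exact ⟨⟨v, hvA⟩, LinearMap.mem_ker.2 hyv, rfl⟩
    · rintro ⟨w, hw, rfl⟩
      exact ⟨w.2, LinearMap.mem_ker.1 hw⟩
  rw [h3, Submodule.finrank_map_subtype_eq]
  omega

/-- orthogonal decomposition along a nondegenerate subspace -/
theorem exists_decomp (hsymm : ∀ u v : V, B u v = B v u) {A : Submodule F V}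
    (hA : ∀ a ∈ A, a ≠ 0 → ∃ x ∈ A, B x a ≠ 0) (w : V) :
    ∃ a a' : V, a + a' = w ∧ a ∈ A ∧ ∀ n ∈ A, B n a' = 0 := by
  have hR : B.IsRefl := fun x y hxy => by rw [hsymm, hxy]
  have hcompl : IsCompl A (B.orthogonal A) := by
    refine (LinearMap.BilinForm.isCompl_orthogonal_iff_disjoint hR).mpr ?_
    rw [disjoint_iff, eq_bot_iff]
    intro z hz
    obtain ⟨hz1, hz2⟩ := Submodule.mem_inf.mp hz
    by_contra hz0
    obtain ⟨y, hy, hyz⟩ := hA z hz1 hz0
    exact hyz ((mem_orth B).mp hz2 y hy)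
  have hw : w ∈ A ⊔ B.orthogonal A := by rw [hcompl.sup_eq_top]; exact Submodule.mem_top
  obtain ⟨a, ha, a', ha', hsum⟩ := Submodule.mem_sup.1 hw
  exact ⟨a, a', hsum, ha, (mem_orth B).mp ha'⟩

/-- `Ω ≤ O` -/
theorem comm_le_oG : ⁅oG Q, oG Q⁆ ≤ oG Q := by
  rw [Subgroup.commutator_le]
  intro g₁ hg₁ g₂ hg₂
  exact (oG Q).mul_mem ((oG Q).mul_mem ((oG Q).mul_mem hg₁ hg₂)
    ((oG Q).inv_mem hg₁)) ((oG Q).inv_mem hg₂)

/-- the images of the blocks under an invertible map span `V` -/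
theorem iSup_map_eq_top (hsup : iSup D = ⊤) (g : V ≃ₗ[F] V) :
    ⨆ j, (D j).map (g : V →ₗ[F] V) = ⊤ := by
  rw [← Submodule.map_iSup, hsup, Submodule.map_top]
  exact LinearMap.range_eq_top.2 g.surjective

/-- a vector not orthogonal to `a₀` in one of the images of the blocks -/
theorem exists_block_not_perp (hN : B.Nondegenerate) (hsup : iSup D = ⊤) (g : V ≃ₗ[F] V)
    {a₀ : V} (ha₀ : a₀ ≠ 0) :
    ∃ j, ∃ w ∈ (D j).map (g : V →ₗ[F] V), B w a₀ ≠ 0 := by
  by_contra hcon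
  push Not at hcon
  apply ha₀
  apply hN.2
  intro w
  have hw : w ∈ ⨆ j, (D j).map (g : V →ₗ[F] V) := by
    rw [iSup_map_eq_top hsup g]; exact Submodule.mem_top
  refine Submodule.iSup_induction _ (motive := fun w => B w a₀ = 0) hw ?_ ?_ ?_
  · intro j x hx
    exact hcon j x hx
  · simp
  · intro x y hx hy
    rw [map_add, LinearMap.add_apply, hx, hy, add_zero]

/-- **OD3-FINO**, with the statements of OD3-NOTS, OD3-VALUE, OD3-KEY as hypotheses. -/
theorem FINO_of (hC : Ctx3 Q B k D S M)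
    (hNOTS : ∃ g ∈ M, g ∉ S)
    (hVALUE : ∀ A : Submodule F V, (∀ a ∈ A, a ≠ 0 → ∃ x ∈ A, B x a ≠ 0) → 2 ≤ finrank F A →
      ∀ c : F, ∃ x ∈ A, Q x = c)
    (hKEY : ∀ {g c : V ≃ₗ[F] V}, g ∈ oG Q → ∀ W : Submodule F V, finrank F W < k →
      (∀ v, c v - v ∈ W) →
      (∀ j, ∃ j', ((D j).map (g : V →ₗ[F] V)).map (c : V →ₗ[F] V) =
        (D j').map (g : V →ₗ[F] V)) →
      ∀ j, ((D j).map (g : V →ₗ[F] V)).map (c : V →ₗ[F] V) = (D j).map (g : V →ₗ[F] V))
    (h2 : (2 : F) ≠ 0) {x₀ : V} (hx₀ : IsBlN Q D x₀)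
    (hCs : ∀ x, IsBlN Q D x → Q x = Q x₀ → CStarA S M x)
    (hFS : ∀ g ∈ M, g ∉ S → ∀ x, IsBlN Q D x → Q x = Q x₀ → ∀ l, ¬ Perp B D (g x) l) :
    False := by
  classical
  have hQs := hC.hQs
  have hQp := hC.hQp
  have hsymm := B_symm Q B hQp
  obtain ⟨g, hgM, hgS⟩ := hNOTS
  have hgO : g ∈ oG Q := comm_le_oG (hC.hMO hgM)
  obtain ⟨π, hπ⟩ := Cfsg.Agent.Lib.Helper74_OD_BASIC.exists_projs hQs hQp hC.hN hC.hD
  set y := g x₀ with hy
  have hQy : Q y = Q x₀ := hgO x₀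
  -- a nonsingular component of `y`
  obtain ⟨l, hl⟩ : ∃ l, Q (π l y) ≠ 0 := by
    by_contra hcon
    push Not at hcon
    apply hx₀.1
    rw [← hQy, hπ.Q_sum y]
    exact Finset.sum_eq_zero fun j _ => hcon j
  set yl := π l y with hyl
  have hylD : yl ∈ D l := hπ.mem l y
  have hylyl : B yl yl ≠ 0 := by
    rw [B_self Q B hQs hQp]
    exact mul_ne_zero h2 hl
  -- the subspace `T₀`
  set T := T0 B (D l) yl with hT
  have hTnd : ∀ a ∈ T, a ≠ 0 → ∃ x ∈ T, B x a ≠ 0 :=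
    T0_nondeg hsymm (hC.hD.nd l) hylD hylyl
  have hTfr : k ≤ finrank F T + 1 := by
    have := finrank_T0 (B := B) (D l) yl
    rwa [hC.hD.fr l] at this
  have hk := hC.hk
  have hT3 : 3 ≤ finrank F T := by omega
  -- `y` is orthogonal to `T₀`
  have hyT : ∀ v ∈ T, B y v = 0 := by
    intro v hv
    obtain ⟨hvD, hv0⟩ := mem_T0.1 hv
    rw [hπ.B_left l y v hvD]
    exact hv0
  -- the Siegel elements of `T₀` stabilise every `g (D j)`
  have hstab : ∀ u ∈ T, ∀ v ∈ T, Q u = 0 → B u v = 0 → ∀ j,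
      ∀ x ∈ (D j).map (g : V →ₗ[F] V), sieg Q B u v x ∈ (D j).map (g : V →ₗ[F] V) := by
    intro u hu v hv hQu huv j x hx
    set c := sieg Q B u v with hc
    have huD : u ∈ D l := T0_le _ _ hu
    have hvD : v ∈ D l := T0_le _ _ hv
    have hcH : c ∈ S ⊓ ⁅oG Q, oG Q⁆ :=
      Cfsg.Agent.Lib.Helper2_OD3_SIEGH.SIEGH hQs hQp hC.hD hC.hS hC.hG2 huD hvD hQu huv
    have hcM : c ∈ M := hC.hmin.le hcH
    have hfix : c y = y := by
      rw [hc, sieg_apply Q B hQs hQp hQu huv, hyT u hu, hyT v hv]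
      simp
    have hconjM : g⁻¹ * c * g ∈ M := M.mul_mem (M.mul_mem (M.inv_mem hgM) hcM) hgM
    have hconjx : (g⁻¹ * c * g) x₀ = (1 : F) • x₀ := by
      rw [LinearEquiv.mul_apply, LinearEquiv.mul_apply, ← hy, hfix, one_smul, hy]
      exact inv_apply_apply' g x₀
    have hconjS : g⁻¹ * c * g ∈ S := hCs x₀ hx₀ rfl _ hconjM ⟨1, hconjx⟩
    obtain ⟨σ, hσ⟩ := (hC.hS _).mp hconjS
    have hperm : ∀ j, ∃ j', ((D j).map (g : V →ₗ[F] V)).map (c : V →ₗ[F] V) =
        (D j').map (g : V →ₗ[F] V) := by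
      intro j
      refine ⟨σ j, ?_⟩
      rw [← hσ j]
      ext z
      simp only [Submodule.mem_map]
      constructor
      · rintro ⟨y₁, ⟨y₀, hy₀, rfl⟩, rfl⟩
        refine ⟨(g⁻¹ * c * g) y₀, ⟨y₀, hy₀, rfl⟩, ?_⟩
        change g ((g⁻¹ * c * g) y₀) = c (g y₀)
        rw [LinearEquiv.mul_apply, LinearEquiv.mul_apply]
        exact apply_inv_apply' g _
      · rintro ⟨y₁, ⟨y₀, hy₀, rfl⟩, rfl⟩
        refine ⟨g y₀, ⟨y₀, hy₀, rfl⟩, ?_⟩
        change c (g y₀) = g ((g⁻¹ * c * g) y₀)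
        rw [LinearEquiv.mul_apply, LinearEquiv.mul_apply]
        exact (apply_inv_apply' g _).symm
    -- the range of `c - 1` lies in the plane `⟨u, v⟩`
    have hW : finrank F (Submodule.span F ({u, v} : Set V)) < k := by
      have h1 : finrank F (Submodule.span F ({u, v} : Set V)) ≤ 2 := by
        have := finrank_span_le_card (R := F) ({u, v} : Set V)
        have h2 : ({u, v} : Set V).toFinset.card ≤ 2 := by
          rw [Set.toFinset_insert, Set.toFinset_singleton]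
          exact Finset.card_insert_le _ _ |>.trans (by simp)
        exact le_trans this h2
      omega
    have hcW : ∀ z, c z - z ∈ Submodule.span F ({u, v} : Set V) := by
      intro z
      rw [hc, sieg_apply Q B hQs hQp hQu huv]
      have hu' : u ∈ Submodule.span F ({u, v} : Set V) :=
        Submodule.subset_span (Set.mem_insert _ _)
      have hv' : v ∈ Submodule.span F ({u, v} : Set V) :=
        Submodule.subset_span (Set.mem_insert_of_mem _ rfl)
      have e : z + B z u • v - B z v • u - (Q v * B z u) • u - z =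
          B z u • v - B z v • u - (Q v * B z u) • u := by abel
      rw [e]
      exact Submodule.sub_mem _ (Submodule.sub_mem _ (Submodule.smul_mem _ _ hv')
        (Submodule.smul_mem _ _ hu')) (Submodule.smul_mem _ _ hu')
    have hkey := hKEY hgO _ hW hcW hperm j
    rw [← hkey]
    exact Submodule.mem_map.2 ⟨x, hx, rfl⟩
  -- a vector of some `g (D j)` not orthogonal to `T₀`
  obtain ⟨a₀, ha₀T, ha₀⟩ : ∃ a₀ ∈ T, a₀ ≠ 0 := by
    have hpos : 0 < finrank F T := by omega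
    have : Nontrivial T := Module.finrank_pos_iff.1 hpos
    obtain ⟨z, hz⟩ := exists_ne (0 : T)
    exact ⟨z.1, z.2, fun h => hz (Subtype.ext h)⟩
  obtain ⟨a₁, ha₁T, ha₁⟩ := hTnd a₀ ha₀T ha₀
  have ha₁0 : a₁ ≠ 0 := by
    rintro rfl
    simp at ha₁
  obtain ⟨j, w, hwX, hwa⟩ := exists_block_not_perp hC.hN hC.hD.sup g ha₁0
  obtain ⟨a, a', haw, haT, ha'⟩ := exists_decomp hsymm hTnd w
  have ha0 : a ≠ 0 := by
    rintro rfl
    apply hwa
    rw [← haw, zero_add, hsymm]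
    exact ha' a₁ ha₁T
  -- irreducibility: `T₀ ≤ g (D j)`
  have hirr := Cfsg.Agent.Lib.Helper10_OD_IRR3.irr3 hQs hQp h2
  have hTX : T ≤ (D j).map (g : V →ₗ[F] V) :=
    hirr T ((D j).map (g : V →ₗ[F] V)) hTnd hT3
      (fun u hu v hv hQu huv x hx => hstab u hu v hv hQu huv j x hx)
      a a' (by rw [haw]; exact hwX) haT ha0 ha'
  -- a vector of `T₀` of norm `Q x₀`
  obtain ⟨e, heT, hQe⟩ := hVALUE T hTnd (by omega) (Q x₀)
  obtain ⟨e₀, he₀D, he₀⟩ := Submodule.mem_map.1 (hTX heT)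
  have he₀' : g e₀ = e := he₀
  have hQe₀ : Q e₀ = Q x₀ := by rw [← hQe, ← he₀', hgO e₀]
  have hBl : IsBlN Q D e₀ := ⟨by rw [hQe₀]; exact hx₀.1, j, he₀D⟩
  -- another block
  have ht := hC.ht
  obtain ⟨l', hl'⟩ : ∃ l' : Fin t, l' ≠ l := by
    by_cases h0 : l = ⟨0, by omega⟩
    · exact ⟨⟨1, by omega⟩, by rw [h0]; intro h; exact absurd (Fin.ext_iff.1 h) (by norm_num)⟩
    · exact ⟨⟨0, by omega⟩, fun h => h0 h.symm⟩
  apply hFS g hgM hgS e₀ hBl hQe₀ l'
  intro d hd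
  rw [he₀']
  exact hC.hD.orth l l' (Ne.symm hl') e (T0_le _ _ heT) d hd

end Cfsg.Agent.Lib.Helper9_OD3_FINO
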