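import Mathlib
import Cfsg.Agent.Lib.Helper17_Sylow

/-!
Counting `p`-singular elements when the Sylow `p`-subgroups have order `p`, and a few general
facts on Sylow subgroups of prime order in simple groups.
-/

set_option autoImplicit false
set_option linter.unusedSectionVars false
set_option linter.unusedVariables false

namespace Cfsg.Agent.Lib.Helper9_PSingular

open Subgroup Cfsg.Agent.Lib.Helper17_Sylow

variable {G : Type*} [Group G] [Finite G] {p : ℕ} [hp : Fact p.Prime]

/-- In a group with a central Sylow `p`-subgroup of order `p`, at most `|H| / p` elements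
have order prime to `p`. -/
theorem card_not_dvd_orderOf_le {H : Type*} [Group H] [Finite H] (k : ℕ) (P : Sylow p H)
    (hP : Nat.card (P : Subgroup H) = p) (hH : Nat.card H = p * k)
    (hcent : ∀ h : H, ∀ z ∈ (P : Subgroup H), z * h = h * z) :
    Nat.card {h : H // ¬ p ∣ orderOf h} ≤ k := by
  have hNC : normalizer ((P : Subgroup H) : Set H) ≤ centralizer ((P : Subgroup H) : Set H) := by
    intro h _
    rw [Subgroup.mem_centralizer_iff]
    intro z hz
    exact hcent h z hz
  have hcompl := MonoidHom.ker_transferSylow_isComplement' P hNC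
  have hk : Nat.card (MonoidHom.transferSylow P hNC).ker = k := by
    have h4 := hcompl.card_mul_card
    rw [hP, hH, mul_comm] at h4
    exact Nat.eq_of_mul_eq_mul_left hp.out.pos h4
  rw [← hk]
  let f : {h : H // ¬ p ∣ orderOf h} → (MonoidHom.transferSylow P hNC).ker := fun h =>
    ⟨h.1, by
      rw [MonoidHom.mem_ker]
      have h1 : orderOf (MonoidHom.transferSylow P hNC h.1) ∣ orderOf h.1 := orderOf_map_dvd _ _
      have h2 : orderOf (MonoidHom.transferSylow P hNC h.1) ∣ p := by
        have := orderOf_dvd_natCard (MonoidHom.transferSylow P hNC h.1)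
        rwa [hP] at this
      rcases (Nat.dvd_prime hp.out).mp h2 with h3 | h3
      · exact orderOf_eq_one_iff.mp h3
      · rw [h3] at h1
        exact absurd h1 h.2⟩
  apply Nat.card_le_card_of_injective f
  intro a b hab
  apply Subtype.ext
  have h5 := congrArg (fun x : (MonoidHom.transferSylow P hNC).ker => (x : H)) hab
  exact h5

/-- For a Sylow subgroup `P` of order `p` with `|C(P)| = p * k`, at least `(p - 1) * k` elements
of `C(P)` have order divisible by `p`. -/
theorem card_psingular_centralizer_ge (k : ℕ) (P : Sylow p G)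
    (hP : Nat.card (P : Subgroup G) = p)
    (hC : Nat.card (centralizer ((P : Subgroup G) : Set G)) = p * k) :
    (p - 1) * k ≤
      Nat.card {g : G // g ∈ centralizer ((P : Subgroup G) : Set G) ∧ p ∣ orderOf g} := by
  classical
  set H := centralizer ((P : Subgroup G) : Set G) with hHdef
  have hcyc : IsCyclic (P : Subgroup G) := isCyclic_of_prime_card hP
  have hPH : (P : Subgroup G) ≤ H := le_centralizer_of_isCyclic _
  have hP' : Nat.card ((P.subtype hPH : Sylow p H) : Subgroup H) = p := by
    rw [Sylow.coe_subtype, Nat.card_congr (Subgroup.subgroupOfEquivOfLe hPH).toEquiv, hP]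
  have hcent : ∀ h : H, ∀ z ∈ ((P.subtype hPH : Sylow p H) : Subgroup H), z * h = h * z := by
    intro h z hz
    rw [Sylow.coe_subtype, Subgroup.mem_subgroupOf] at hz
    apply Subtype.ext
    rw [Subgroup.coe_mul, Subgroup.coe_mul]
    exact Subgroup.mem_centralizer_iff.mp h.2 _ hz
  have h1 := card_not_dvd_orderOf_le k (P.subtype hPH) hP' hC hcent
  have h2 : Nat.card {h : H // p ∣ orderOf h} + Nat.card {h : H // ¬ p ∣ orderOf h} =
      Nat.card H := by
    rw [← Nat.card_sum]
    exact Nat.card_congr (Equiv.sumCompl (fun h : H => p ∣ orderOf h))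
  have h3 : Nat.card {g : G // g ∈ H ∧ p ∣ orderOf g} = Nat.card {h : H // p ∣ orderOf h} := by
    refine Nat.card_congr
      { toFun := fun g => ⟨⟨g.1, g.2.1⟩, by rw [← Subgroup.orderOf_coe]; exact g.2.2⟩
        invFun := fun h => ⟨h.1.1, h.1.2, by rw [Subgroup.orderOf_coe]; exact h.2⟩
        left_inv := fun g => rfl
        right_inv := fun h => rfl }
  rw [h3]
  rw [hC] at h2
  have h4 : (p - 1) * k = p * k - k := by
    rw [Nat.sub_mul, one_mul]
  omega

/-- An element of the centralizer of a Sylow subgroup `P` of order `p` whose order is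
divisible by `p` determines `P`. -/
theorem sylow_eq_of_mem_centralizer (hPc : ∀ P : Sylow p G, Nat.card (P : Subgroup G) = p)
    (P : Sylow p G) {g : G} (hg : g ∈ centralizer ((P : Subgroup G) : Set G))
    (hpg : p ∣ orderOf g) : (P : Subgroup G) = zpowers (g ^ (orderOf g / p)) := by
  have ho : orderOf (g ^ (orderOf g / p)) = p :=
    orderOf_pow_orderOf_div (orderOf_pos g).ne' hpg
  have hz : g ^ (orderOf g / p) ∈ centralizer ((P : Subgroup G) : Set G) := Subgroup.pow_mem _ hg _
  have hzN : g ^ (orderOf g / p) ∈ normalizer ((P : Subgroup G) : Set G) :=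
    centralizer_le_normalizer _ hz
  have hpg' : IsPGroup p (zpowers (g ^ (orderOf g / p))) := by
    apply IsPGroup.of_card (n := 1)
    rw [Nat.card_zpowers, ho, pow_one]
  have h1 := hpg'.inf_normalizer_sylow P
  have h2 : g ^ (orderOf g / p) ∈ zpowers (g ^ (orderOf g / p)) ⊓
      normalizer ((P : Subgroup G) : Set G) := ⟨mem_zpowers _, hzN⟩
  have h3 : g ^ (orderOf g / p) ∈ zpowers (g ^ (orderOf g / p)) ⊓ (P : Subgroup G) := by
    rw [← h1]
    exact h2
  exact sylow_eq_zpowers P (hPc P) _ h3.2 ho

/-- Lower bound for the number of `p`-singular elements. -/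
theorem card_psingular_ge (k : ℕ) (hPc : ∀ P : Sylow p G, Nat.card (P : Subgroup G) = p)
    (hC : ∀ P : Sylow p G, Nat.card (centralizer ((P : Subgroup G) : Set G)) = p * k) :
    Nat.card (Sylow p G) * ((p - 1) * k) ≤ Nat.card {g : G // p ∣ orderOf g} := by
  classical
  let f : (Σ P : Sylow p G,
      {g : G // g ∈ centralizer ((P : Subgroup G) : Set G) ∧ p ∣ orderOf g}) →
      {g : G // p ∣ orderOf g} := fun x => ⟨x.2.1, x.2.2.2⟩
  have hf : Function.Injective f := by
    rintro ⟨P, g, hg, hpg⟩ ⟨Q, g', hg', hpg'⟩ hfg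
    have hgg : g = g' := congrArg Subtype.val hfg
    subst hgg
    have hPQ : P = Q := Sylow.ext ((sylow_eq_of_mem_centralizer hPc P hg hpg).trans
      (sylow_eq_of_mem_centralizer hPc Q hg' hpg).symm)
    subst hPQ
    rfl
  have h1 := Nat.card_le_card_of_injective f hf
  have : Fintype (Sylow p G) := Fintype.ofFinite _
  rw [Nat.card_sigma] at h1
  refine le_trans ?_ h1
  have h2 : ∀ P : Sylow p G, (p - 1) * k ≤
      Nat.card {g : G // g ∈ centralizer ((P : Subgroup G) : Set G) ∧ p ∣ orderOf g} :=
    fun P => card_psingular_centralizer_ge k P (hPc P) (hC P)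
  calc Nat.card (Sylow p G) * ((p - 1) * k) = ∑ _P : Sylow p G, (p - 1) * k := by
        rw [Finset.sum_const, Finset.card_univ, Nat.card_eq_fintype_card, smul_eq_mul]
    _ ≤ _ := Finset.sum_le_sum (fun P _ => h2 P)

/-- The centralizers of two Sylow `p`-subgroups have the same order. -/
theorem card_centralizer_sylow_eq (P Q : Sylow p G) :
    Nat.card (centralizer ((P : Subgroup G) : Set G)) =
      Nat.card (centralizer ((Q : Subgroup G) : Set G)) := by
  obtain ⟨g, hg⟩ := MulAction.exists_smul_eq G P Q
  have hmem : ∀ x : G, x ∈ (Q : Subgroup G) ↔ g⁻¹ * x * g ∈ (P : Subgroup G) := by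
    intro x
    rw [← hg, Sylow.coe_subgroup_smul, Subgroup.mem_pointwise_smul_iff_inv_smul_mem,
      MulAut.smul_def, MulAut.conj_inv_apply]
  refine Nat.card_congr
    { toFun := fun c => ⟨g * c.1 * g⁻¹, ?_⟩
      invFun := fun c => ⟨g⁻¹ * c.1 * g, ?_⟩
      left_inv := fun c => by apply Subtype.ext; simp only; group
      right_inv := fun c => by apply Subtype.ext; simp only; group }
  · rw [Subgroup.mem_centralizer_iff]
    intro x hx
    have hx' := (hmem x).mp hx
    have h1 := Subgroup.mem_centralizer_iff.mp c.2 _ hx'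
    have h2 : x * (g * c.1 * g⁻¹) = g * ((g⁻¹ * x * g) * c.1) * g⁻¹ := by group
    rw [h2, h1]
    group
  · rw [Subgroup.mem_centralizer_iff]
    intro x hx
    have hx' : g * x * g⁻¹ ∈ (Q : Subgroup G) := by
      rw [hmem]
      have : g⁻¹ * (g * x * g⁻¹) * g = x := by group
      rw [this]
      exact hx
    have h1 := Subgroup.mem_centralizer_iff.mp c.2 _ hx'
    have h2 : x * (g⁻¹ * c.1 * g) = g⁻¹ * ((g * x * g⁻¹) * c.1) * g := by group
    rw [h2, h1]
    group

/-- In a simple group, a Sylow subgroup of prime order `p` (proper, nontrivial) satisfies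
`|N(P)| = e * |C(P)|` with `e ∣ p - 1` and `e ≠ 1`. -/
theorem exists_normalizer_eq_mul [IsSimpleGroup G] (P : Sylow p G)
    (hP : Nat.card (P : Subgroup G) = p) (hG : Nat.card G ≠ p) :
    ∃ e : ℕ, e ∣ p - 1 ∧ e ≠ 1 ∧
      Nat.card (normalizer ((P : Subgroup G) : Set G)) =
        Nat.card (centralizer ((P : Subgroup G) : Set G)) * e := by
  have hCN : centralizer ((P : Subgroup G) : Set G) ≤ normalizer ((P : Subgroup G) : Set G) :=
    centralizer_le_normalizer _
  refine ⟨(centralizer ((P : Subgroup G) : Set G)).relIndex (normalizer ((P : Subgroup G) : Set G)),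
    relIndex_centralizer_normalizer_dvd_pred (P : Subgroup G) hP, ?_,
    (card_mul_relIndex_of_le hCN).symm⟩
  intro h1
  have hNC := Subgroup.relIndex_eq_one.mp h1
  rcases sylow_eq_bot_or_top_of_normalizer_le_centralizer P hNC with hb | ht
  · rw [hb, Subgroup.card_bot] at hP
    exact hp.out.one_lt.ne hP
  · rw [ht, Subgroup.card_top] at hP
    exact hG hP

/-- `p` divides the order of the centralizer of a Sylow subgroup of order `p`. -/
theorem dvd_card_centralizer (P : Sylow p G) (hP : Nat.card (P : Subgroup G) = p) :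
    p ∣ Nat.card (centralizer ((P : Subgroup G) : Set G)) := by
  have hcyc : IsCyclic (P : Subgroup G) := isCyclic_of_prime_card hP
  have hPH : (P : Subgroup G) ≤ centralizer ((P : Subgroup G) : Set G) :=
    le_centralizer_of_isCyclic _
  have := Subgroup.card_dvd_of_le hPH
  rwa [hP] at this

end Cfsg.Agent.Lib.Helper9_PSingular
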