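import Mathlib
import Cfsg.Agent.Lib.Helper17_Sylow
import Cfsg.Agent.Lib.Helper9_PSingular

/-!
Simple groups of order 4080, part (a): Sylow numerics for the primes 17, 5, 3.
-/

set_option autoImplicit false
set_option linter.unusedSectionVars false
set_option linter.unusedVariables false

namespace Cfsg.Agent.Lib.Helper9_Order4080

open Subgroup Cfsg.Agent.Lib.Helper9_PSingular
open Cfsg.Agent.Lib.Helper17_Sylow (card_normalizer_mul_card_sylow card_sylow_eq_index card_sylow_eq_pow card_sylow_mem_candidates exists_sylow_eq_zpowers index_gt_of_not_dvd_factorial le_centralizer_of_isCyclic normalizer_sylow_ne_top not_isMulCommutative_of_not_prime one_lt_card_sylow_of_card sylowCandidates)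

instance fact_prime_seventeen_h9 : Fact (Nat.Prime 17) := ⟨by norm_num⟩

instance fact_prime_five_h9 : Fact (Nat.Prime 5) := ⟨by norm_num⟩

variable {G : Type*} [Group G] [Finite G] [IsSimpleGroup G]

theorem not_comm (h : Nat.card G = 4080) : ¬ IsMulCommutative G :=
  not_isMulCommutative_of_not_prime (by rw [h]; norm_num)

theorem card_eq17 (h : Nat.card G = 4080) : Nat.card G = 17 ^ 1 * 240 := by rw [h]; norm_num

theorem card_eq5 (h : Nat.card G = 4080) : Nat.card G = 5 ^ 1 * 816 := by rw [h]; norm_num

theorem card_eq3 (h : Nat.card G = 4080) : Nat.card G = 3 ^ 1 * 1360 := by rw [h]; norm_num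

theorem card_eq2 (h : Nat.card G = 4080) : Nat.card G = 2 ^ 4 * 255 := by rw [h]; norm_num

theorem card_sylow17 (h : Nat.card G = 4080) (P : Sylow 17 G) :
    Nat.card (P : Subgroup G) = 17 := by
  have := card_sylow_eq_pow (card_eq17 h) (by norm_num) P
  simpa using this

theorem card_sylow5 (h : Nat.card G = 4080) (P : Sylow 5 G) : Nat.card (P : Subgroup G) = 5 := by
  have := card_sylow_eq_pow (card_eq5 h) (by norm_num) P
  simpa using this

theorem card_sylow3 (h : Nat.card G = 4080) (P : Sylow 3 G) : Nat.card (P : Subgroup G) = 3 := by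
  have := card_sylow_eq_pow (card_eq3 h) (by norm_num) P
  simpa using this

theorem card_sylow2 (h : Nat.card G = 4080) (P : Sylow 2 G) : Nat.card (P : Subgroup G) = 16 := by
  have := card_sylow_eq_pow (card_eq2 h) (by norm_num) P
  simpa using this

/-- Every proper subgroup has index at least 17. -/
theorem seventeen_le_index (h : Nat.card G = 4080) (H : Subgroup G) (hH : H ≠ ⊤) :
    17 ≤ H.index := by
  have h16 : 16 < H.index := index_gt_of_not_dvd_factorial H hH 16 (by
    rw [h]
    intro hd
    have h17 : 17 ∣ Nat.factorial 16 := Dvd.dvd.trans (by norm_num) hd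
    have := (Nat.Prime.dvd_factorial (by norm_num : Nat.Prime 17)).mp h17
    omega)
  omega

theorem card_sylow17_eq (h : Nat.card G = 4080) : Nat.card (Sylow 17 G) = 120 := by
  have h1 := card_sylow_mem_candidates (card_eq17 h) (by norm_num)
  have hc : sylowCandidates 17 240 = [1, 120] := by decide
  rw [hc] at h1
  have h2 := one_lt_card_sylow_of_card (card_eq17 h) (by norm_num) (by norm_num) (by norm_num)
  simp only [List.mem_cons, List.not_mem_nil, or_false] at h1
  omega

theorem card_normalizer_sylow17 (h : Nat.card G = 4080) (P : Sylow 17 G) :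
    Nat.card (normalizer ((P : Subgroup G) : Set G)) = 34 := by
  have hN := card_normalizer_mul_card_sylow P
  rw [h, card_sylow17_eq h] at hN
  omega

theorem card_centralizer_sylow17 (h : Nat.card G = 4080) (P : Sylow 17 G) :
    Nat.card (centralizer ((P : Subgroup G) : Set G)) = 17 := by
  obtain ⟨e, he, he1, hN⟩ := exists_normalizer_eq_mul P (card_sylow17 h P) (by rw [h]; norm_num)
  rw [card_normalizer_sylow17 h P] at hN
  obtain ⟨c, hc⟩ := dvd_card_centralizer P (card_sylow17 h P)
  rw [hc] at hN ⊢
  have hce : c * e = 2 := by nlinarith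
  have hc2 : c ∣ 2 := Dvd.intro _ hce
  have hcle : c ≤ 2 := Nat.le_of_dvd (by norm_num) hc2
  interval_cases c
  · simp at hce
  · rfl
  · exfalso
    have : e = 1 := by omega
    exact he1 this

/-- An element commuting with an element of order 17 is a power of it. -/
theorem mem_zpowers_of_commute (h : Nat.card G = 4080) {x y : G} (hy : orderOf y = 17)
    (hxy : Commute x y) : x ∈ zpowers y := by
  obtain ⟨P, hP⟩ := exists_sylow_eq_zpowers (card_sylow17 h) y hy
  have hcyc : IsCyclic (P : Subgroup G) := isCyclic_of_prime_card (card_sylow17 h P)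
  have hPC : (P : Subgroup G) ≤ centralizer ((P : Subgroup G) : Set G) :=
    le_centralizer_of_isCyclic _
  have heq : (P : Subgroup G) = centralizer ((P : Subgroup G) : Set G) := by
    apply Subgroup.eq_of_le_of_card_ge hPC
    rw [card_centralizer_sylow17 h P, card_sylow17 h P]
  rw [← hP, heq, hP]
  rw [Subgroup.mem_centralizer_iff]
  intro z hz
  obtain ⟨k, rfl⟩ := mem_zpowers_iff.mp hz
  exact ((hxy.zpow_right k).eq).symm

/-- A subgroup centralized by an element whose order does not divide 17 has order prime
to 17. -/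
theorem not_dvd_card_of_commute (h : Nat.card G = 4080) {x : G} (hx : ¬ orderOf x ∣ 17)
    (H : Subgroup G) (hH : ∀ z ∈ H, Commute x z) : ¬ 17 ∣ Nat.card H := by
  intro hd
  obtain ⟨y, hy⟩ := exists_prime_orderOf_dvd_card' 17 hd
  have hy' : orderOf (y : G) = 17 := by rw [Subgroup.orderOf_coe]; exact hy
  have hm := mem_zpowers_of_commute h hy' (hH y y.2)
  have := orderOf_dvd_of_mem_zpowers hm
  rw [hy'] at this
  exact hx this

theorem card_sylow5_cases (h : Nat.card G = 4080) :
    Nat.card (Sylow 5 G) = 51 ∨ Nat.card (Sylow 5 G) = 136 := by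
  have h1 := card_sylow_mem_candidates (card_eq5 h) (by norm_num)
  have hc : sylowCandidates 5 816 = [1, 6, 16, 51, 136, 816] := by decide
  rw [hc] at h1
  have h2 := one_lt_card_sylow_of_card (card_eq5 h) (by norm_num) (by norm_num) (by norm_num)
  simp only [List.mem_cons, List.not_mem_nil, or_false] at h1
  obtain ⟨P⟩ : Nonempty (Sylow 5 G) := inferInstance
  have h3 := seventeen_le_index h _ (normalizer_sylow_ne_top P h2)
  rw [← card_sylow_eq_index P] at h3
  have h4 : Nat.card (Sylow 5 G) ≠ 816 := by
    intro h816
    have hN := card_normalizer_mul_card_sylow P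
    rw [h, h816] at hN
    have hN5 : Nat.card (normalizer ((P : Subgroup G) : Set G)) = 5 := by omega
    obtain ⟨e, he, he1, hNe⟩ := exists_normalizer_eq_mul P (card_sylow5 h P) (by rw [h]; norm_num)
    rw [hN5] at hNe
    obtain ⟨c, hc⟩ := dvd_card_centralizer P (card_sylow5 h P)
    rw [hc] at hNe
    have hce : c * e = 1 := by nlinarith
    have : e = 1 := Nat.eq_one_of_mul_eq_one_left hce
    exact he1 this
  omega

end Cfsg.Agent.Lib.Helper9_Order4080
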