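import Mathlib
import Cfsg.Agent.Lib.Helper9_Order4080a

/-!
Simple groups of order 4080, part (b): counting singular elements; there are 136 Sylow
5-subgroups, with centralizers of order 15.
-/

set_option autoImplicit false
set_option linter.unusedSectionVars false
set_option linter.unusedVariables false

namespace Cfsg.Agent.Lib.Helper9_Order4080

open Subgroup Cfsg.Agent.Lib.Helper9_PSingular
open Cfsg.Agent.Lib.Helper17_Sylow (card_normalizer_mul_card_sylow card_orderOf_eq_prime exists_sylow_eq_zpowers)

variable {G : Type*} [Group G] [Finite G] [IsSimpleGroup G]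

theorem card_seventeen_elements (h : Nat.card G = 4080) :
    Nat.card {g : G // orderOf g = 17} = 1920 := by
  rw [card_orderOf_eq_prime (card_sylow17 h), card_sylow17_eq h]

theorem card_three_singular_ge (h : Nat.card G = 4080) :
    1360 ≤ Nat.card {g : G // 3 ∣ orderOf g} := by
  obtain ⟨P₀⟩ : Nonempty (Sylow 3 G) := inferInstance
  obtain ⟨e, he, he1, hN⟩ := exists_normalizer_eq_mul P₀ (card_sylow3 h P₀) (by rw [h]; norm_num)
  obtain ⟨k, hk⟩ := dvd_card_centralizer P₀ (card_sylow3 h P₀)
  have he2 : e = 2 := by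
    have : e ≤ 2 := Nat.le_of_dvd (by norm_num) he
    have : e ≠ 0 := by rintro rfl; simp at he
    omega
  have hC : ∀ P : Sylow 3 G, Nat.card (centralizer ((P : Subgroup G) : Set G)) = 3 * k :=
    fun P => (card_centralizer_sylow_eq P P₀).trans hk
  have hb := card_psingular_ge k (card_sylow3 h) hC
  have hNS := card_normalizer_mul_card_sylow P₀
  rw [h, hN, hk, he2] at hNS
  have : Nat.card (Sylow 3 G) * ((3 - 1) * k) = 1360 := by nlinarith
  omega

theorem card_five_singular_ge (h : Nat.card G = 4080) :
    816 ≤ Nat.card {g : G // 5 ∣ orderOf g} := by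
  obtain ⟨P₀⟩ : Nonempty (Sylow 5 G) := inferInstance
  obtain ⟨e, he, he1, hN⟩ := exists_normalizer_eq_mul P₀ (card_sylow5 h P₀) (by rw [h]; norm_num)
  obtain ⟨k, hk⟩ := dvd_card_centralizer P₀ (card_sylow5 h P₀)
  have he4 : e ≤ 4 := Nat.le_of_dvd (by norm_num) he
  have hC : ∀ P : Sylow 5 G, Nat.card (centralizer ((P : Subgroup G) : Set G)) = 5 * k :=
    fun P => (card_centralizer_sylow_eq P P₀).trans hk
  have hb := card_psingular_ge k (card_sylow5 h) hC
  have hNS := card_normalizer_mul_card_sylow P₀
  rw [h, hN, hk] at hNS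
  have h1 : Nat.card (Sylow 5 G) * k * e = 816 := by nlinarith
  have h2 : Nat.card (Sylow 5 G) * k * e ≤ Nat.card (Sylow 5 G) * k * 4 :=
    Nat.mul_le_mul_left _ he4
  have h3 : Nat.card (Sylow 5 G) * ((5 - 1) * k) = Nat.card (Sylow 5 G) * k * 4 := by ring
  omega

/-- If an element has order divisible by 15 then 3 divides the order of the centralizer of a
Sylow 5-subgroup. -/
theorem three_dvd_card_centralizer_sylow5 (h : Nat.card G = 4080) {g : G} (h3 : 3 ∣ orderOf g)
    (h5 : 5 ∣ orderOf g) :
    ∃ P : Sylow 5 G, 3 ∣ Nat.card (centralizer ((P : Subgroup G) : Set G)) := by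
  have hoy : orderOf (g ^ (orderOf g / 5)) = 5 := orderOf_pow_orderOf_div (orderOf_pos g).ne' h5
  have hox : orderOf (g ^ (orderOf g / 3)) = 3 := orderOf_pow_orderOf_div (orderOf_pos g).ne' h3
  obtain ⟨P, hP⟩ := exists_sylow_eq_zpowers (card_sylow5 h) _ hoy
  refine ⟨P, ?_⟩
  have hx : g ^ (orderOf g / 3) ∈ centralizer ((P : Subgroup G) : Set G) := by
    rw [Subgroup.mem_centralizer_iff]
    intro z hz
    have hz' : z ∈ zpowers (g ^ (orderOf g / 5)) := by rw [← hP]; exact hz
    obtain ⟨k, rfl⟩ := mem_zpowers_iff.mp hz'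
    have hc : Commute (g ^ (orderOf g / 5)) (g ^ (orderOf g / 3)) :=
      (Commute.refl g).pow_pow _ _
    exact (hc.zpow_left k).eq
  have := orderOf_dvd_natCard (⟨_, hx⟩ : centralizer ((P : Subgroup G) : Set G))
  rwa [Subgroup.orderOf_mk, hox] at this

theorem card_sylow5_eq (h : Nat.card G = 4080) : Nat.card (Sylow 5 G) = 136 := by
  rcases card_sylow5_cases h with h51 | h136
  swap
  · exact h136
  exfalso
  -- no element of order divisible by 15
  have hno : ∀ g : G, 3 ∣ orderOf g → 5 ∣ orderOf g → False := by
    intro g h3 h5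
    obtain ⟨P, hP⟩ := three_dvd_card_centralizer_sylow5 h h3 h5
    have hN := card_normalizer_mul_card_sylow P
    rw [h, h51] at hN
    have hN80 : Nat.card (normalizer ((P : Subgroup G) : Set G)) = 80 := by omega
    have hCN : centralizer ((P : Subgroup G) : Set G) ≤ normalizer ((P : Subgroup G) : Set G) :=
      centralizer_le_normalizer _
    have hd := Subgroup.card_dvd_of_le hCN
    rw [hN80] at hd
    have : 3 ∣ 80 := Dvd.dvd.trans hP hd
    omega
  let X := {g : G // orderOf g = 17} ⊕ ({g : G // 3 ∣ orderOf g} ⊕ {g : G // 5 ∣ orderOf g})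
  let f : X → G := Sum.elim Subtype.val (Sum.elim Subtype.val Subtype.val)
  have hinj : Function.Injective f := by
    rintro (a | a | a) (b | b | b) hab
    · have hab' : a.1 = b.1 := hab
      rw [Subtype.ext hab']
    · exfalso
      have hab' : a.1 = b.1 := hab
      have h1 := a.2
      have h2 := b.2
      rw [← hab', h1] at h2
      omega
    · exfalso
      have hab' : a.1 = b.1 := hab
      have h1 := a.2
      have h2 := b.2
      rw [← hab', h1] at h2
      omega
    · exfalso
      have hab' : a.1 = b.1 := hab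
      have h1 := a.2
      have h2 := b.2
      rw [hab', h2] at h1
      omega
    · have hab' : a.1 = b.1 := hab
      rw [Subtype.ext hab']
    · exfalso
      have hab' : a.1 = b.1 := hab
      have h1 := a.2
      have h2 := b.2
      rw [← hab'] at h2
      exact hno _ h1 h2
    · exfalso
      have hab' : a.1 = b.1 := hab
      have h1 := a.2
      have h2 := b.2
      rw [hab', h2] at h1
      omega
    · exfalso
      have hab' : a.1 = b.1 := hab
      have h1 := a.2
      have h2 := b.2
      rw [hab'] at h1
      exact hno _ h2 h1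
    · have hab' : a.1 = b.1 := hab
      rw [Subtype.ext hab']
  have hX : Nat.card X = 1920 + (Nat.card {g : G // 3 ∣ orderOf g} +
      Nat.card {g : G // 5 ∣ orderOf g}) := by
    simp only [X]
    rw [Nat.card_sum, Nat.card_sum, card_seventeen_elements h]
  have hXle : Nat.card X ≤ 4080 := by
    have := Nat.card_le_card_of_injective f hinj
    rwa [h] at this
  have h3 := card_three_singular_ge h
  have h5 := card_five_singular_ge h
  omega

theorem card_normalizer_sylow5 (h : Nat.card G = 4080) (P : Sylow 5 G) :
    Nat.card (normalizer ((P : Subgroup G) : Set G)) = 30 := by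
  have hN := card_normalizer_mul_card_sylow P
  rw [h, card_sylow5_eq h] at hN
  omega

theorem card_centralizer_sylow5 (h : Nat.card G = 4080) (P : Sylow 5 G) :
    Nat.card (centralizer ((P : Subgroup G) : Set G)) = 15 := by
  obtain ⟨e, he, he1, hN⟩ := exists_normalizer_eq_mul P (card_sylow5 h P) (by rw [h]; norm_num)
  rw [card_normalizer_sylow5 h P] at hN
  obtain ⟨c, hc⟩ := dvd_card_centralizer P (card_sylow5 h P)
  rw [hc] at hN ⊢
  have hce : c * e = 6 := by nlinarith
  have he4 : e ≤ 4 := Nat.le_of_dvd (by norm_num) he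
  have he0 : e ≠ 0 := by rintro rfl; simp at he
  have hcases : e = 2 ∨ e = 3 ∨ e = 4 := by omega
  rcases hcases with rfl | rfl | rfl
  · have : c = 3 := by omega
    rw [this]
  · exfalso
    revert he; decide
  · exfalso
    omega

/-- An element commuting with an element of order 5 has order dividing 15. -/
theorem orderOf_dvd_of_commute_five (h : Nat.card G = 4080) {t y : G} (hy : orderOf y = 5)
    (hty : Commute t y) : orderOf t ∣ 15 := by
  obtain ⟨P, hP⟩ := exists_sylow_eq_zpowers (card_sylow5 h) y hy
  have ht : t ∈ centralizer ((P : Subgroup G) : Set G) := by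
    rw [Subgroup.mem_centralizer_iff]
    intro z hz
    have hz' : z ∈ zpowers y := by rw [← hP]; exact hz
    obtain ⟨k, rfl⟩ := mem_zpowers_iff.mp hz'
    exact ((hty.zpow_right k).eq).symm
  have := orderOf_dvd_natCard (⟨t, ht⟩ : centralizer ((P : Subgroup G) : Set G))
  rwa [Subgroup.orderOf_mk, card_centralizer_sylow5 h P] at this

end Cfsg.Agent.Lib.Helper9_Order4080
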