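import Mathlib
import Cfsg.Agent.Lib.Helper17_Sylow
import Cfsg.Agent.Lib.Helper17_SylowPerm
import Cfsg.Agent.Lib.Helper45_SylowTransfer

/-!
Simple groups of order 504, part (a): Sylow numerics for the primes 7 and 3.
-/

set_option autoImplicit false
set_option linter.unusedSectionVars false
set_option linter.unusedVariables false

namespace Cfsg.Agent.Lib.Helper9_Order504

open Subgroup Cfsg.Agent.Lib.Helper17_Sylow

instance fact_prime_seven_h9 : Fact (Nat.Prime 7) := ⟨by norm_num⟩

variable {G : Type*} [Group G] [Finite G] [IsSimpleGroup G]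

theorem not_comm (h : Nat.card G = 504) : ¬ IsMulCommutative G :=
  not_isMulCommutative_of_not_prime (by rw [h]; norm_num)

theorem card_eq7 (h : Nat.card G = 504) : Nat.card G = 7 ^ 1 * 72 := by rw [h]; norm_num

theorem card_eq3 (h : Nat.card G = 504) : Nat.card G = 3 ^ 2 * 56 := by rw [h]; norm_num

theorem card_eq2 (h : Nat.card G = 504) : Nat.card G = 2 ^ 3 * 63 := by rw [h]; norm_num

theorem card_sylow7 (h : Nat.card G = 504) (P : Sylow 7 G) : Nat.card (P : Subgroup G) = 7 := by
  have := card_sylow_eq_pow (card_eq7 h) (by norm_num) P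
  simpa using this

theorem card_sylow3 (h : Nat.card G = 504) (P : Sylow 3 G) : Nat.card (P : Subgroup G) = 9 := by
  have := card_sylow_eq_pow (card_eq3 h) (by norm_num) P
  simpa using this

theorem card_sylow2 (h : Nat.card G = 504) (P : Sylow 2 G) : Nat.card (P : Subgroup G) = 8 := by
  have := card_sylow_eq_pow (card_eq2 h) (by norm_num) P
  simpa using this

theorem card_sylow7_cases (h : Nat.card G = 504) :
    Nat.card (Sylow 7 G) = 8 ∨ Nat.card (Sylow 7 G) = 36 := by
  have h1 := card_sylow_mem_candidates (card_eq7 h) (by norm_num)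
  have hc : sylowCandidates 7 72 = [1, 8, 36] := by decide
  rw [hc] at h1
  have h2 := one_lt_card_sylow_of_card (card_eq7 h) (by norm_num) (by norm_num) (by norm_num)
  simp only [List.mem_cons, List.not_mem_nil, or_false] at h1
  omega

/-- Every proper subgroup has index at least 9. -/
theorem nine_le_index (h : Nat.card G = 504) (H : Subgroup G) (hH : H ≠ ⊤) : 9 ≤ H.index := by
  have h6 : 6 < H.index := index_gt_of_not_dvd_factorial H hH 6 (by rw [h]; decide)
  by_contra hlt
  have h78 : H.index = 7 ∨ H.index = 7 + 1 := by omega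
  obtain ⟨P⟩ : Nonempty (Sylow 7 G) := inferInstance
  have hd := Cfsg.Agent.Lib.Helper17_SylowPerm.two_mul_card_normalizer_dvd (not_comm h) H hH 7
    (by norm_num) h78 P (card_sylow7 h P)
  have hN := card_normalizer_mul_card_sylow P
  rw [h] at hN
  rcases card_sylow7_cases h with h7 | h7
  · rw [h7] at hN
    have : Nat.card (normalizer ((P : Subgroup G) : Set G)) = 63 := by omega
    rw [this] at hd
    revert hd; decide
  · rw [h7] at hN
    have : Nat.card (normalizer ((P : Subgroup G) : Set G)) = 14 := by omega
    rw [this] at hd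
    revert hd; decide

theorem card_sylow7_eq (h : Nat.card G = 504) : Nat.card (Sylow 7 G) = 36 := by
  rcases card_sylow7_cases h with h7 | h7
  · exfalso
    obtain ⟨P⟩ : Nonempty (Sylow 7 G) := inferInstance
    have h1 := nine_le_index h _ (normalizer_sylow_ne_top P (by rw [h7]; norm_num))
    rw [← card_sylow_eq_index P, h7] at h1
    omega
  · exact h7

theorem card_normalizer_sylow7 (h : Nat.card G = 504) (P : Sylow 7 G) :
    Nat.card (normalizer ((P : Subgroup G) : Set G)) = 14 := by
  have hN := card_normalizer_mul_card_sylow P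
  rw [h, card_sylow7_eq h] at hN
  omega

theorem card_centralizer_sylow7 (h : Nat.card G = 504) (P : Sylow 7 G) :
    Nat.card (centralizer ((P : Subgroup G) : Set G)) = 7 := by
  have hP := card_sylow7 h P
  have hcyc : IsCyclic (P : Subgroup G) := isCyclic_of_prime_card hP
  have hPC : (P : Subgroup G) ≤ centralizer ((P : Subgroup G) : Set G) :=
    le_centralizer_of_isCyclic _
  have hCN : centralizer ((P : Subgroup G) : Set G) ≤ normalizer ((P : Subgroup G) : Set G) :=
    centralizer_le_normalizer _
  have h1 := card_mul_relIndex_of_le hCN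
  rw [card_normalizer_sylow7 h P] at h1
  have h2 : 7 ∣ Nat.card (centralizer ((P : Subgroup G) : Set G)) := by
    have := Subgroup.card_dvd_of_le hPC
    rwa [hP] at this
  have h3 : Nat.card (centralizer ((P : Subgroup G) : Set G)) ∣ 14 := Dvd.intro _ h1
  have h4 : Nat.card (centralizer ((P : Subgroup G) : Set G)) = 7 ∨
      Nat.card (centralizer ((P : Subgroup G) : Set G)) = 14 := by
    have hle : Nat.card (centralizer ((P : Subgroup G) : Set G)) ≤ 14 := Nat.le_of_dvd (by norm_num) h3
    obtain ⟨c, hc⟩ := h2
    rw [hc] at h3 hle ⊢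
    have : c = 1 ∨ c = 2 := by
      have : c ≤ 2 := by omega
      interval_cases c
      · simp at h3
      · left; rfl
      · right; rfl
    rcases this with rfl | rfl <;> simp
  rcases h4 with h4 | h4
  · exact h4
  · exfalso
    have hNC : normalizer ((P : Subgroup G) : Set G) ≤ centralizer ((P : Subgroup G) : Set G) := by
      have : centralizer ((P : Subgroup G) : Set G) = normalizer ((P : Subgroup G) : Set G) := by
        apply Subgroup.eq_of_le_of_card_ge hCN
        rw [h4, card_normalizer_sylow7 h P]
      rw [this]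
    rcases sylow_eq_bot_or_top_of_normalizer_le_centralizer P hNC with hb | ht
    · rw [hb, Subgroup.card_bot] at hP; omega
    · rw [ht, Subgroup.card_top, h] at hP; omega

/-- An element commuting with an element of order 7 is a power of it. -/
theorem mem_zpowers_of_commute (h : Nat.card G = 504) {x y : G} (hy : orderOf y = 7)
    (hxy : Commute x y) : x ∈ zpowers y := by
  obtain ⟨P, hP⟩ := exists_sylow_eq_zpowers (card_sylow7 h) y hy
  have hcyc : IsCyclic (P : Subgroup G) := isCyclic_of_prime_card (card_sylow7 h P)
  have hPC : (P : Subgroup G) ≤ centralizer ((P : Subgroup G) : Set G) :=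
    le_centralizer_of_isCyclic _
  have heq : (P : Subgroup G) = centralizer ((P : Subgroup G) : Set G) := by
    apply Subgroup.eq_of_le_of_card_ge hPC
    rw [card_centralizer_sylow7 h P, card_sylow7 h P]
  rw [← hP, heq, hP]
  rw [Subgroup.mem_centralizer_iff]
  intro z hz
  obtain ⟨k, rfl⟩ := mem_zpowers_iff.mp hz
  exact ((hxy.zpow_right k).eq).symm

/-- The centralizer of an element whose order does not divide 7 has order prime to 7. -/
theorem not_dvd_card_centralizer (h : Nat.card G = 504) {x : G} (hx : ¬ orderOf x ∣ 7) :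
    ¬ 7 ∣ Nat.card (centralizer ({x} : Set G)) := by
  intro hd
  obtain ⟨y, hy⟩ := exists_prime_orderOf_dvd_card' 7 hd
  have hy' : orderOf (y : G) = 7 := by rw [Subgroup.orderOf_coe]; exact hy
  have hc : Commute x (y : G) := by
    have := Subgroup.mem_centralizer_iff.mp y.2 x (Set.mem_singleton x)
    exact this
  have hm := mem_zpowers_of_commute h hy' hc
  have := orderOf_dvd_of_mem_zpowers hm
  rw [hy'] at this
  exact hx this

theorem card_sylow3_eq (h : Nat.card G = 504) : Nat.card (Sylow 3 G) = 28 := by
  have h1 := card_sylow_mem_candidates (card_eq3 h) (by norm_num)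
  have hc : sylowCandidates 3 56 = [1, 4, 7, 28] := by decide
  rw [hc] at h1
  have h2 := one_lt_card_sylow_of_card (card_eq3 h) (by norm_num) (by norm_num) (by norm_num)
  simp only [List.mem_cons, List.not_mem_nil, or_false] at h1
  obtain ⟨P⟩ : Nonempty (Sylow 3 G) := inferInstance
  have h3 := nine_le_index h _ (normalizer_sylow_ne_top P h2)
  rw [← card_sylow_eq_index P] at h3
  omega

theorem card_normalizer_sylow3 (h : Nat.card G = 504) (P : Sylow 3 G) :
    Nat.card (normalizer ((P : Subgroup G) : Set G)) = 18 := by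
  have hN := card_normalizer_mul_card_sylow P
  rw [h, card_sylow3_eq h] at hN
  omega

theorem sylow3_comm (h : Nat.card G = 504) (P : Sylow 3 G) :
    ∀ a ∈ (P : Subgroup G), ∀ b ∈ (P : Subgroup G), a * b = b * a := by
  intro a ha b hb
  have h9 : Nat.card (P : Subgroup G) = 3 ^ 2 := by rw [card_sylow3 h P]; norm_num
  have hc : IsMulCommutative (P : Subgroup G) := IsPGroup.isMulCommutative_of_card_eq_prime_sq h9
  have := hc.is_comm.comm ⟨a, ha⟩ ⟨b, hb⟩
  exact congrArg Subtype.val this

theorem sylow3_le_centralizer (h : Nat.card G = 504) (P : Sylow 3 G) :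
    (P : Subgroup G) ≤ centralizer ((P : Subgroup G) : Set G) := by
  intro a ha
  rw [Subgroup.mem_centralizer_iff]
  intro b hb
  exact sylow3_comm h P b hb a ha

theorem card_centralizer_sylow3 (h : Nat.card G = 504) (P : Sylow 3 G) :
    Nat.card (centralizer ((P : Subgroup G) : Set G)) = 9 := by
  have hP := card_sylow3 h P
  have hPC := sylow3_le_centralizer h P
  have hCN : centralizer ((P : Subgroup G) : Set G) ≤ normalizer ((P : Subgroup G) : Set G) :=
    centralizer_le_normalizer _
  have h1 := card_mul_relIndex_of_le hCN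
  rw [card_normalizer_sylow3 h P] at h1
  have h2 : 9 ∣ Nat.card (centralizer ((P : Subgroup G) : Set G)) := by
    have := Subgroup.card_dvd_of_le hPC
    rwa [hP] at this
  have h3 : Nat.card (centralizer ((P : Subgroup G) : Set G)) ∣ 18 := Dvd.intro _ h1
  have h4 : Nat.card (centralizer ((P : Subgroup G) : Set G)) = 9 ∨
      Nat.card (centralizer ((P : Subgroup G) : Set G)) = 18 := by
    have hle : Nat.card (centralizer ((P : Subgroup G) : Set G)) ≤ 18 := Nat.le_of_dvd (by norm_num) h3
    obtain ⟨c, hc⟩ := h2
    rw [hc] at h3 hle ⊢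
    have : c = 1 ∨ c = 2 := by
      have : c ≤ 2 := by omega
      interval_cases c
      · simp at h3
      · left; rfl
      · right; rfl
    rcases this with rfl | rfl <;> simp
  rcases h4 with h4 | h4
  · exact h4
  · exfalso
    have hNC : normalizer ((P : Subgroup G) : Set G) ≤ centralizer ((P : Subgroup G) : Set G) := by
      have : centralizer ((P : Subgroup G) : Set G) = normalizer ((P : Subgroup G) : Set G) := by
        apply Subgroup.eq_of_le_of_card_ge hCN
        rw [h4, card_normalizer_sylow3 h P]
      rw [this]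
    rcases sylow_eq_bot_or_top_of_normalizer_le_centralizer P hNC with hb | ht
    · rw [hb, Subgroup.card_bot] at hP; omega
    · rw [ht, Subgroup.card_top, h] at hP; omega

/-- A nonidentity element of a Sylow 3-subgroup has order not dividing 7. -/
theorem not_orderOf_dvd_seven (h : Nat.card G = 504) (P : Sylow 3 G) {x : G}
    (hx : x ∈ (P : Subgroup G)) (hx1 : x ≠ 1) : ¬ orderOf x ∣ 7 := by
  intro hd
  have h1 : orderOf (⟨x, hx⟩ : (P : Subgroup G)) ∣ 9 := by
    have := orderOf_dvd_natCard (⟨x, hx⟩ : (P : Subgroup G))
    rwa [card_sylow3 h P] at this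
  rw [Subgroup.orderOf_mk] at h1
  have h2 : orderOf x ∣ Nat.gcd 9 7 := Nat.dvd_gcd h1 hd
  have h3 : orderOf x = 1 := by
    have : Nat.gcd 9 7 = 1 := by norm_num
    rw [this] at h2
    exact Nat.dvd_one.mp h2
  exact hx1 (orderOf_eq_one_iff.mp h3)

end Cfsg.Agent.Lib.Helper9_Order504
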