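import Mathlib
import Cfsg.Agent.Lib.Helper9_Order504a

/-!
Simple groups of order 504, part (b): the Sylow 3-subgroups intersect trivially.
-/

set_option autoImplicit false
set_option linter.unusedSectionVars false
set_option linter.unusedVariables false

namespace Cfsg.Agent.Lib.Helper9_Order504

open Subgroup Cfsg.Agent.Lib.Helper17_Sylow

variable {G : Type*} [Group G] [Finite G] [IsSimpleGroup G]

/-- A subgroup of order 36 with more than one Sylow 3-subgroup has a normal subgroup of
order 4. -/
theorem exists_normal_four {C : Type*} [Group C] [Finite C] (hC : Nat.card C = 36)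
    (P Q : Sylow 3 C) (hPQ : P ≠ Q)
    (hcomm : ∀ a ∈ (P : Subgroup C), ∀ b ∈ (P : Subgroup C), a * b = b * a) :
    ∃ K : Subgroup C, K.Normal ∧ Nat.card K = 4 := by
  have hC' : Nat.card C = 3 ^ 2 * 4 := by rw [hC]; norm_num
  have hP : Nat.card (P : Subgroup C) = 9 := by
    have := card_sylow_eq_pow hC' (by norm_num) P
    simpa using this
  have h1 := card_sylow_mem_candidates hC' (by norm_num)
  have hc : sylowCandidates 3 4 = [1, 4] := by decide
  rw [hc] at h1
  simp only [List.mem_cons, List.not_mem_nil, or_false] at h1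
  have h2 : 1 < Nat.card (Sylow 3 C) := by
    rw [Finite.one_lt_card_iff_nontrivial]
    exact ⟨⟨P, Q, hPQ⟩⟩
  have h3 : Nat.card (Sylow 3 C) = 4 := by omega
  have hN := card_normalizer_mul_card_sylow P
  rw [hC, h3] at hN
  have hN9 : Nat.card (normalizer ((P : Subgroup C) : Set C)) = 9 := by omega
  have hNP : normalizer ((P : Subgroup C) : Set C) = (P : Subgroup C) := by
    symm
    apply Subgroup.eq_of_le_of_card_ge le_normalizer
    rw [hN9, hP]
  have hNC : normalizer ((P : Subgroup C) : Set C) ≤ centralizer ((P : Subgroup C) : Set C) := by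
    rw [hNP]
    intro a ha
    rw [Subgroup.mem_centralizer_iff]
    intro b hb
    exact hcomm b hb a ha
  have hcompl := MonoidHom.ker_transferSylow_isComplement' P hNC
  refine ⟨(MonoidHom.transferSylow P hNC).ker, MonoidHom.normal_ker _, ?_⟩
  have h4 := hcompl.card_mul_card
  rw [hP, hC] at h4
  omega

theorem sylow3_TI (h : Nat.card G = 504) (P Q : Sylow 3 G) {x : G}
    (hxP : x ∈ (P : Subgroup G)) (hxQ : x ∈ (Q : Subgroup G)) (hx1 : x ≠ 1) : P = Q := by
  by_contra hne
  set C := centralizer ({x} : Set G) with hCdef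
  have hPC : (P : Subgroup G) ≤ C := by
    intro a ha
    rw [hCdef, Subgroup.mem_centralizer_iff]
    intro b hb
    rw [Set.mem_singleton_iff] at hb
    subst hb
    exact sylow3_comm h P b hxP a ha
  have hQC : (Q : Subgroup G) ≤ C := by
    intro a ha
    rw [hCdef, Subgroup.mem_centralizer_iff]
    intro b hb
    rw [Set.mem_singleton_iff] at hb
    subst hb
    exact sylow3_comm h Q b hxQ a ha
  obtain ⟨n, hn4, hn3, hnd⟩ := succ_mul_card_sylow_le_card P Q hne C hPC hQC
  rw [card_sylow3 h P] at hnd
  have h7 : ¬ 7 ∣ Nat.card C := not_dvd_card_centralizer h (not_orderOf_dvd_seven h P hxP hx1)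
  have hd504 : Nat.card C ∣ 7 * 72 := by
    have := Subgroup.card_subgroup_dvd_card C
    rwa [h] at this
  have hd72 : Nat.card C ∣ 72 := by
    have hcop : Nat.Coprime (Nat.card C) 7 :=
      Nat.Coprime.symm ((Nat.Prime.coprime_iff_not_dvd (by norm_num)).mpr h7)
    exact hcop.dvd_of_dvd_mul_left hd504
  have hcard : Nat.card C = 36 ∨ Nat.card C = 72 := by
    obtain ⟨k, hk⟩ := hnd
    obtain ⟨j, hj⟩ := hd72
    rw [hk] at hj
    have h8 : n * (k * j) = 8 := by nlinarith
    unfold Nat.ModEq at hn3
    obtain ⟨m, hm⟩ : ∃ m, m = k * j := ⟨_, rfl⟩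
    rw [← hm] at h8
    have hm2 : m ≤ 2 := by nlinarith
    have hn : n = 4 ∧ m = 2 := by
      interval_cases m <;> omega
    obtain ⟨hn, hm2'⟩ := hn
    subst hn
    have hkj : k * j = 2 := by omega
    have hk2 : k ∣ 2 := Dvd.intro _ hkj
    have hkle : k ≤ 2 := Nat.le_of_dvd (by norm_num) hk2
    interval_cases k
    · simp at hkj
    · left; rw [hk]
    · right; rw [hk]
  have hCtop : C ≠ ⊤ := by
    intro ht
    have : Nat.card C = 504 := by rw [ht, Subgroup.card_top, h]
    omega
  have hidx := Subgroup.card_mul_index C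
  rw [h] at hidx
  have h9 := nine_le_index h C hCtop
  rcases hcard with hc36 | hc72
  swap
  · rw [hc72] at hidx
    omega
  -- `C` has order 36
  have hPQ' : P.subtype hPC ≠ Q.subtype hQC := fun h' => hne (Sylow.subtype_injective h')
  have hcomm' : ∀ a ∈ ((P.subtype hPC : Sylow 3 C) : Subgroup C),
      ∀ b ∈ ((P.subtype hPC : Sylow 3 C) : Subgroup C), a * b = b * a := by
    intro a ha b hb
    rw [Sylow.coe_subtype, Subgroup.mem_subgroupOf] at ha hb
    apply Subtype.ext
    exact sylow3_comm h P _ ha _ hb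
  obtain ⟨K, hKn, hK4⟩ := exists_normal_four hc36 (P.subtype hPC) (Q.subtype hQC) hPQ' hcomm'
  set V := K.map C.subtype with hVdef
  have hV4 : Nat.card V = 4 := by
    rw [hVdef, Subgroup.card_map_of_injective (Subgroup.subtype_injective C), hK4]
  have hCN : C ≤ normalizer (V : Set G) := by
    intro c hc
    have h1 := Subgroup.le_normalizer_map C.subtype (H := K)
    apply h1
    refine ⟨⟨c, hc⟩, ?_, rfl⟩
    rw [Subgroup.normalizer_eq_top]
    trivial
  have hV2 : IsPGroup 2 V := IsPGroup.of_card (n := 2) (by rw [hV4]; norm_num)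
  obtain ⟨T, hVT⟩ := hV2.exists_le_sylow
  have hT8 := card_sylow2 h T
  have hrel : V.relIndex (T : Subgroup G) = 2 := by
    have := card_mul_relIndex_of_le hVT
    rw [hV4, hT8] at this
    omega
  have hTN : (T : Subgroup G) ≤ normalizer (V : Set G) :=
    le_normalizer_of_relIndex_eq_prime (T : Subgroup G) V T.2 hVT hrel
  have hd36 : 36 ∣ Nat.card (normalizer (V : Set G)) := by
    have := Subgroup.card_dvd_of_le hCN
    rwa [hc36] at this
  have hd8 : 8 ∣ Nat.card (normalizer (V : Set G)) := by
    have := Subgroup.card_dvd_of_le hTN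
    rwa [hT8] at this
  have hd72' : 72 ∣ Nat.card (normalizer (V : Set G)) := by
    have hd9 : 9 ∣ Nat.card (normalizer (V : Set G)) := Dvd.dvd.trans (by norm_num) hd36
    have : Nat.Coprime 8 9 := by norm_num
    exact this.mul_dvd_of_dvd_of_dvd hd8 hd9
  have hidxN := Subgroup.card_mul_index (normalizer (V : Set G))
  rw [h] at hidxN
  by_cases hNtop : normalizer (V : Set G) = ⊤
  · have hVn : V.Normal := Subgroup.normalizer_eq_top_iff.mp hNtop
    rcases hVn.eq_bot_or_eq_top with hb | ht
    · rw [hb, Subgroup.card_bot] at hV4; omega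
    · rw [ht, Subgroup.card_top, h] at hV4; omega
  · have h9' := nine_le_index h _ hNtop
    obtain ⟨m, hm⟩ := hd72'
    rw [hm] at hidxN
    have hm0 : m ≠ 0 := by
      rintro rfl
      simp at hidxN
    have : m * (normalizer (V : Set G)).index = 7 := by nlinarith
    have hle : (normalizer (V : Set G)).index ≤ 7 := by
      apply Nat.le_of_dvd (by norm_num)
      exact Dvd.intro_left _ this
    omega

end Cfsg.Agent.Lib.Helper9_Order504
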