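import Mathlib
import Cfsg.Agent.Lib.Helper9_Order504b

/-!
Simple groups of order 504, part (c): no element of order 3 commutes with an involution.
-/

set_option autoImplicit false
set_option linter.unusedSectionVars false
set_option linter.unusedVariables false

namespace Cfsg.Agent.Lib.Helper9_Order504

open Subgroup Cfsg.Agent.Lib.Helper17_Sylow

theorem mem_smul_sylow_iff {G : Type*} [Group G] {p : ℕ} (g x : G) (P : Sylow p G) :
    x ∈ ((g • P : Sylow p G) : Subgroup G) ↔ g⁻¹ * x * g ∈ (P : Subgroup G) := by
  rw [Sylow.coe_subgroup_smul, Subgroup.mem_pointwise_smul_iff_inv_smul_mem, MulAut.smul_def,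
    MulAut.conj_inv_apply]

variable {G : Type*} [Group G] [Finite G] [IsSimpleGroup G]

theorem not_commute_three_two (h : Nat.card G = 504) {x t : G} (hx : orderOf x = 3)
    (ht : orderOf t = 2) : ¬ Commute x t := by
  intro hc
  have hpg : IsPGroup 3 (zpowers x) :=
    IsPGroup.of_card (n := 1) (by rw [Nat.card_zpowers, hx, pow_one])
  obtain ⟨P, hle⟩ := hpg.exists_le_sylow
  have hxP : x ∈ (P : Subgroup G) := hle (mem_zpowers x)
  have hx1 : x ≠ 1 := by
    rintro rfl
    rw [orderOf_one] at hx
    omega
  set C := centralizer ({x} : Set G) with hCdef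
  -- TI consequence
  have hTI : ∀ (k y : G), y ∈ (P : Subgroup G) → y ≠ 1 → k⁻¹ * y * k ∈ (P : Subgroup G) →
      k ∈ normalizer ((P : Subgroup G) : Set G) := by
    intro k y hy hy1 hk
    have h1 : y ∈ ((k • P : Sylow 3 G) : Subgroup G) := (mem_smul_sylow_iff k y P).mpr hk
    have h2 : P = k • P := sylow3_TI h P (k • P) hy h1 hy1
    exact Sylow.smul_eq_iff_mem_normalizer.mp h2.symm
  have hCN : C ≤ normalizer ((P : Subgroup G) : Set G) := by
    intro g hg
    apply hTI g x hxP hx1
    have h1 : x * g = g * x := Subgroup.mem_centralizer_iff.mp hg x (Set.mem_singleton x)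
    have h2 : g⁻¹ * x * g = x := by rw [mul_assoc, h1, ← mul_assoc, inv_mul_cancel, one_mul]
    rw [h2]
    exact hxP
  have hPC : (P : Subgroup G) ≤ C := by
    intro a ha
    rw [hCdef, Subgroup.mem_centralizer_iff]
    intro b hb
    rw [Set.mem_singleton_iff] at hb
    subst hb
    exact sylow3_comm h P b hxP a ha
  have htC : t ∈ C := by
    rw [hCdef, Subgroup.mem_centralizer_iff]
    intro b hb
    rw [Set.mem_singleton_iff] at hb
    subst hb
    exact hc.eq
  have hC18 : Nat.card C = 18 := by
    have h9 : 9 ∣ Nat.card C := by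
      have := Subgroup.card_dvd_of_le hPC
      rwa [card_sylow3 h P] at this
    have h2 : 2 ∣ Nat.card C := by
      have := orderOf_dvd_natCard (⟨t, htC⟩ : C)
      rwa [Subgroup.orderOf_mk, ht] at this
    have h18 : Nat.card C ∣ 18 := by
      have := Subgroup.card_dvd_of_le hCN
      rwa [card_normalizer_sylow3 h P] at this
    have h18' : 18 ∣ Nat.card C := by
      have : Nat.Coprime 2 9 := by norm_num
      exact this.mul_dvd_of_dvd_of_dvd h2 h9
    exact Nat.dvd_antisymm h18 h18'
  have hCeq : C = normalizer ((P : Subgroup G) : Set G) := by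
    apply Subgroup.eq_of_le_of_card_ge hCN
    rw [hC18, card_normalizer_sylow3 h P]
  -- the key property for the transfer
  have key : ∀ (n : ℕ) (k : G), k⁻¹ * x ^ n * k ∈ (P : Subgroup G) → k⁻¹ * x ^ n * k = x ^ n := by
    intro n k hk
    by_cases hxn : x ^ n = 1
    · rw [hxn, mul_one, inv_mul_cancel]
    · have hkN := hTI k (x ^ n) (Subgroup.pow_mem _ hxP n) hxn hk
      rw [← hCeq] at hkN
      have h1 : x * k = k * x := Subgroup.mem_centralizer_iff.mp hkN x (Set.mem_singleton x)
      have h2 : Commute x k := h1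
      have h3 : x ^ n * k = k * x ^ n := (h2.pow_left n).eq
      rw [mul_assoc, h3, ← mul_assoc, inv_mul_cancel, one_mul]
  let _ : CommGroup (P : Subgroup G) :=
    { (inferInstance : Group (P : Subgroup G)) with
      mul_comm := fun a b => Subtype.ext (sylow3_comm h P a a.2 b b.2) }
  have htr := Cfsg.Agent.Lib.Helper45_SylowTransfer.transfer_eq_pow_of_forall
    (H := (P : Subgroup G)) (MonoidHom.id (P : Subgroup G)) x ⟨x, hxP⟩ (by
      intro n k hk
      apply Subtype.ext
      rw [MonoidHom.id_apply]
      simp only [SubmonoidClass.coe_pow]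
      exact key n k hk)
  have hidx : (P : Subgroup G).index = 56 := index_sylow_eq (card_eq3 h) (by norm_num) P
  rw [hidx] at htr
  have hne : (⟨x, hxP⟩ : (P : Subgroup G)) ^ 56 ≠ 1 := by
    intro h1
    have h2 : x ^ 56 = 1 := by
      have := congrArg Subtype.val h1
      simpa using this
    have h3 : orderOf x ∣ 56 := orderOf_dvd_of_pow_eq_one h2
    rw [hx] at h3
    revert h3; decide
  set τ := MonoidHom.transfer (H := (P : Subgroup G)) (MonoidHom.id (P : Subgroup G)) with hτ
  rcases (MonoidHom.normal_ker τ).eq_bot_or_eq_top with hb | htop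
  · have hinj : Function.Injective τ := (MonoidHom.ker_eq_bot_iff τ).mp hb
    have := Nat.card_le_card_of_injective τ hinj
    rw [h, card_sylow3 h P] at this
    omega
  · have : x ∈ τ.ker := by rw [htop]; trivial
    rw [MonoidHom.mem_ker, htr] at this
    exact hne this

end Cfsg.Agent.Lib.Helper9_Order504
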