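import Mathlib
import Cfsg.Agent.Lib.Helper9_Order504c

/-!
Simple groups of order 504, part (d): counting, and the centralizers of involutions
are elementary abelian.
-/

set_option autoImplicit false
set_option linter.unusedSectionVars false
set_option linter.unusedVariables false

namespace Cfsg.Agent.Lib.Helper9_Order504

open Subgroup Cfsg.Agent.Lib.Helper17_Sylow

theorem card_isConj_mul {G : Type*} [Group G] [Finite G] (c : G) :
    Nat.card {y : G // IsConj c y} * Nat.card (centralizer ({c} : Set G)) = Nat.card G := by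
  have key := Subgroup.index_comap_of_surjective (MulAction.stabilizer (ConjAct G) c)
    (f := (ConjAct.toConjAct (G := G)).toMonoidHom) (ConjAct.toConjAct (G := G)).surjective
  have e1 : (centralizer ({c} : Set G)).index = (MulAction.stabilizer (ConjAct G) c).index := by
    rw [Subgroup.centralizer_eq_comap_stabilizer]
    exact key
  have e2 : Nat.card {y : G // IsConj c y} = (centralizer ({c} : Set G)).index := by
    rw [e1, MulAction.index_stabilizer, ← Nat.card_coe_set_eq]
    refine Nat.card_congr (Equiv.subtypeEquivRight ?_)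
    intro y
    rw [ConjAct.mem_orbit_conjAct, isConj_comm]
  rw [e2, mul_comm]
  exact Subgroup.card_mul_index _

theorem orderOf_of_isConj {G : Type*} [Group G] {t g : G} (h : IsConj t g) :
    orderOf g = orderOf t := by
  obtain ⟨c, hc⟩ := isConj_iff.mp h
  have hs : SemiconjBy c t g := by
    unfold SemiconjBy
    rw [← hc]
    group
  exact (hs.orderOf_eq c).symm

variable {G : Type*} [Group G] [Finite G] [IsSimpleGroup G]

theorem card_seven_elements (h : Nat.card G = 504) :
    Nat.card {g : G // orderOf g = 7} = 216 := by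
  rw [card_orderOf_eq_prime (card_sylow7 h), card_sylow7_eq h]

theorem card_three_elements (h : Nat.card G = 504) :
    Nat.card {g : G // g ≠ 1 ∧ ∃ P : Sylow 3 G, g ∈ (P : Subgroup G)} = 224 := by
  classical
  let f : (Σ P : Sylow 3 G, {g : G // g ∈ (P : Subgroup G) ∧ g ≠ 1}) →
      {g : G // g ≠ 1 ∧ ∃ P : Sylow 3 G, g ∈ (P : Subgroup G)} :=
    fun x => ⟨x.2.1, x.2.2.2, x.1, x.2.2.1⟩
  have hf : Function.Bijective f := by
    constructor
    · rintro ⟨P, g, hg, hg1⟩ ⟨Q, g', hg', hg1'⟩ hfg
      have hgg : g = g' := congrArg Subtype.val hfg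
      subst hgg
      have hPQ : P = Q := sylow3_TI h P Q hg hg' hg1
      subst hPQ
      rfl
    · rintro ⟨g, hg1, P, hg⟩
      exact ⟨⟨P, g, hg, hg1⟩, rfl⟩
  have : Fintype (Sylow 3 G) := Fintype.ofFinite _
  rw [← Nat.card_congr (Equiv.ofBijective f hf), Nat.card_sigma]
  have h8 : ∀ P : Sylow 3 G, Nat.card {g : G // g ∈ (P : Subgroup G) ∧ g ≠ 1} = 8 := by
    intro P
    rw [card_mem_ne_one, card_sylow3 h P]
  simp only [h8]
  rw [Finset.sum_const, Finset.card_univ, ← Nat.card_eq_fintype_card, card_sylow3_eq h,
    smul_eq_mul]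

theorem orderOf_three_element (h : Nat.card G = 504) {g : G} (hg1 : g ≠ 1) (P : Sylow 3 G)
    (hg : g ∈ (P : Subgroup G)) : orderOf g = 3 ∨ orderOf g = 9 := by
  have h1 : orderOf (⟨g, hg⟩ : (P : Subgroup G)) ∣ 3 ^ 2 := by
    have := orderOf_dvd_natCard (⟨g, hg⟩ : (P : Subgroup G))
    rwa [card_sylow3 h P] at this
  rw [Subgroup.orderOf_mk] at h1
  obtain ⟨k, hk, hk'⟩ := (Nat.dvd_prime_pow Nat.prime_three).mp h1
  interval_cases k
  · exfalso
    rw [pow_zero] at hk'
    exact hg1 (orderOf_eq_one_iff.mp hk')
  · left; rw [hk']; norm_num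
  · right; rw [hk']; norm_num

theorem card_centralizer_involution_dvd (h : Nat.card G = 504) {t : G} (ht : orderOf t = 2) :
    Nat.card (centralizer ({t} : Set G)) ∣ 8 := by
  set C := centralizer ({t} : Set G) with hCdef
  have h7 : ¬ 7 ∣ Nat.card C := not_dvd_card_centralizer h (by rw [ht]; decide)
  have h3 : ¬ 3 ∣ Nat.card C := by
    intro hd
    obtain ⟨x, hx⟩ := exists_prime_orderOf_dvd_card' 3 hd
    have hx' : orderOf (x : G) = 3 := by rw [Subgroup.orderOf_coe]; exact hx
    have hcomm : Commute (x : G) t := by
      have := Subgroup.mem_centralizer_iff.mp x.2 t (Set.mem_singleton t)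
      exact this.symm
    exact not_commute_three_two h hx' ht hcomm
  have hd : Nat.card C ∣ 63 * 8 := by
    have := Subgroup.card_subgroup_dvd_card C
    rwa [h] at this
  have hcop : Nat.Coprime (Nat.card C) 63 := by
    have h3' : Nat.Coprime (Nat.card C) 3 :=
      ((Nat.Prime.coprime_iff_not_dvd Nat.prime_three).mpr h3).symm
    have h7' : Nat.Coprime (Nat.card C) 7 :=
      ((Nat.Prime.coprime_iff_not_dvd (by norm_num)).mpr h7).symm
    have : (63 : ℕ) = 3 * 3 * 7 := by norm_num
    rw [this]
    exact (h3'.mul_right h3').mul_right h7'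
  exact hcop.dvd_of_dvd_mul_left hd

/-- In a simple group of order 504 the centralizer of every involution is an elementary
abelian 2-group. -/
theorem cit (h : Nat.card G = 504) (t : G) (ht : orderOf t = 2) :
    IsMulCommutative (centralizer ({t} : Set G)) ∧
      ∀ c ∈ centralizer ({t} : Set G), c ^ 2 = 1 := by
  set C := centralizer ({t} : Set G) with hCdef
  have hd8 := card_centralizer_involution_dvd h ht
  rw [← hCdef] at hd8
  have hle8 : Nat.card C ≤ 8 := Nat.le_of_dvd (by norm_num) hd8
  have hcl := card_isConj_mul t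
  rw [h, ← hCdef] at hcl
  let X := Unit ⊕ ({g : G // orderOf g = 7} ⊕
    ({g : G // g ≠ 1 ∧ ∃ P : Sylow 3 G, g ∈ (P : Subgroup G)} ⊕ {g : G // IsConj t g}))
  let f : X → G :=
    Sum.elim (fun _ => 1) (Sum.elim Subtype.val (Sum.elim Subtype.val Subtype.val))
  have o7 : ∀ a : {g : G // orderOf g = 7}, orderOf a.1 = 7 := fun a => a.2
  have o3 : ∀ a : {g : G // g ≠ 1 ∧ ∃ P : Sylow 3 G, g ∈ (P : Subgroup G)},
      orderOf a.1 = 3 ∨ orderOf a.1 = 9 := by
    rintro ⟨g, hg1, P, hg⟩
    exact orderOf_three_element h hg1 P hg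
  have o2 : ∀ a : {g : G // IsConj t g}, orderOf a.1 = 2 := by
    rintro ⟨g, hg⟩
    rw [Cfsg.Agent.Lib.Helper9_Order504.orderOf_of_isConj hg, ht]
  have hinj : Function.Injective f := by
    rintro (a | a | a | a) (b | b | b | b) hab
    · rfl
    · exfalso
      have hab' : (1 : G) = b.1 := hab
      have := o7 b
      rw [← hab', orderOf_one] at this
      omega
    · exfalso
      have hab' : (1 : G) = b.1 := hab
      have := o3 b
      rw [← hab', orderOf_one] at this
      omega
    · exfalso
      have hab' : (1 : G) = b.1 := hab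
      have := o2 b
      rw [← hab', orderOf_one] at this
      omega
    · exfalso
      have hab' : a.1 = (1 : G) := hab
      have := o7 a
      rw [hab', orderOf_one] at this
      omega
    · have hab' : a.1 = b.1 := hab
      rw [Subtype.ext hab']
    · exfalso
      have hab' : a.1 = b.1 := hab
      have h1 := o7 a
      have h2 := o3 b
      rw [hab'] at h1
      omega
    · exfalso
      have hab' : a.1 = b.1 := hab
      have h1 := o7 a
      have h2 := o2 b
      rw [hab'] at h1
      omega
    · exfalso
      have hab' : a.1 = (1 : G) := hab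
      have := o3 a
      rw [hab', orderOf_one] at this
      omega
    · exfalso
      have hab' : a.1 = b.1 := hab
      have h1 := o3 a
      have h2 := o7 b
      rw [hab'] at h1
      omega
    · have hab' : a.1 = b.1 := hab
      rw [Subtype.ext hab']
    · exfalso
      have hab' : a.1 = b.1 := hab
      have h1 := o3 a
      have h2 := o2 b
      rw [hab'] at h1
      omega
    · exfalso
      have hab' : a.1 = (1 : G) := hab
      have := o2 a
      rw [hab', orderOf_one] at this
      omega
    · exfalso
      have hab' : a.1 = b.1 := hab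
      have h1 := o2 a
      have h2 := o7 b
      rw [hab'] at h1
      omega
    · exfalso
      have hab' : a.1 = b.1 := hab
      have h1 := o2 a
      have h2 := o3 b
      rw [hab'] at h1
      omega
    · have hab' : a.1 = b.1 := hab
      rw [Subtype.ext hab']
  have hX : Nat.card X = 1 + (216 + (224 + Nat.card {g : G // IsConj t g})) := by
    simp only [X]
    rw [Nat.card_sum, Nat.card_sum, Nat.card_sum, card_seven_elements h, card_three_elements h,
      Nat.card_unique]
  have hXle : Nat.card X ≤ 504 := by
    have := Nat.card_le_card_of_injective f hinj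
    rwa [h] at this
  have hcls : Nat.card {g : G // IsConj t g} = 63 := by
    have h1 : Nat.card {g : G // IsConj t g} ≤ 63 := by omega
    have h2 : 63 ≤ Nat.card {g : G // IsConj t g} := by nlinarith
    omega
  have hC8 : Nat.card C = 8 := by
    rw [hcls] at hcl
    omega
  have hbij : Function.Bijective f := by
    apply hinj.bijective_of_nat_card_le
    rw [h, hX, hcls]
  have hsq : ∀ c ∈ C, c ^ 2 = 1 := by
    intro c hc
    have hoc : orderOf c ∣ 8 := by
      have := orderOf_dvd_natCard (⟨c, hc⟩ : C)
      rwa [Subgroup.orderOf_mk, hC8] at this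
    obtain ⟨a, ha⟩ := hbij.surjective c
    rcases a with a | a | a | a
    · have : (1 : G) = c := ha
      rw [← this, one_pow]
    · exfalso
      have ha' : a.1 = c := ha
      have := o7 a
      rw [ha'] at this
      rw [this] at hoc
      revert hoc; decide
    · exfalso
      have ha' : a.1 = c := ha
      have := o3 a
      rw [ha'] at this
      rcases this with h3 | h9
      · rw [h3] at hoc
        revert hoc; decide
      · rw [h9] at hoc
        revert hoc; decide
    · have ha' : a.1 = c := ha
      have := o2 a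
      rw [ha'] at this
      rw [← this]
      exact pow_orderOf_eq_one c
  refine ⟨⟨⟨fun a b => ?_⟩⟩, hsq⟩
  have ha : a.1 * a.1 = 1 := by rw [← pow_two]; exact hsq a.1 a.2
  have hb : b.1 * b.1 = 1 := by rw [← pow_two]; exact hsq b.1 b.2
  have hab : (a.1 * b.1) * (a.1 * b.1) = 1 := by
    rw [← pow_two]; exact hsq _ (Subgroup.mul_mem _ a.2 b.2)
  apply Subtype.ext
  rw [Subgroup.coe_mul, Subgroup.coe_mul]
  symm
  calc b.1 * a.1 = b.1 * a.1 * ((a.1 * b.1) * (a.1 * b.1)) := by rw [hab, mul_one]
    _ = b.1 * (a.1 * a.1) * b.1 * (a.1 * b.1) := by simp only [mul_assoc]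
    _ = a.1 * b.1 := by rw [ha, mul_one, hb, one_mul]

end Cfsg.Agent.Lib.Helper9_Order504
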