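import Mathlib
import Cfsg.Agent.Lib.Helper9_Order4080b
import Cfsg.Agent.Lib.Helper17_SylowPerm
import Cfsg.Agent.Lib.Helper9_Order504d

/-!
Simple groups of order 4080, part (c): centralizers of Sylow 3-subgroups have order 15, and
the centralizers of involutions are elementary abelian.
-/

set_option autoImplicit false
set_option linter.unusedSectionVars false
set_option linter.unusedVariables false

namespace Cfsg.Agent.Lib.Helper9_Order4080

open Subgroup Cfsg.Agent.Lib.Helper9_PSingular
open Cfsg.Agent.Lib.Helper17_Sylow (card_normalizer_mul_card_sylow card_orderOf_eq_prime card_sylow_mem_candidates exists_sylow_eq_zpowers le_centralizer_of_isCyclic sylowCandidates)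

variable {G : Type*} [Group G] [Finite G] [IsSimpleGroup G]

/-- A group of order 60 has no Sylow 5-subgroup whose normalizer has order divisible by 3 and
dividing 30. -/
theorem false_of_card_sixty {C : Type*} [Group C] [Finite C] (hC : Nat.card C = 60)
    (Q : Sylow 5 C) (h3 : 3 ∣ Nat.card (normalizer ((Q : Subgroup C) : Set C)))
    (h30 : Nat.card (normalizer ((Q : Subgroup C) : Set C)) ∣ 30) : False := by
  have hC' : Nat.card C = 5 ^ 1 * 12 := by rw [hC]; norm_num
  have h1 := card_sylow_mem_candidates hC' (by norm_num)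
  have hc : sylowCandidates 5 12 = [1, 6] := by decide
  rw [hc] at h1
  simp only [List.mem_cons, List.not_mem_nil, or_false] at h1
  have hN := card_normalizer_mul_card_sylow Q
  rw [hC] at hN
  rcases h1 with h1 | h1
  · rw [h1] at hN
    have : Nat.card (normalizer ((Q : Subgroup C) : Set C)) = 60 := by omega
    rw [this] at h30
    revert h30; decide
  · rw [h1] at hN
    have : Nat.card (normalizer ((Q : Subgroup C) : Set C)) = 10 := by omega
    rw [this] at h3
    revert h3; decide

theorem card_centralizer_sylow3 (h : Nat.card G = 4080) (P : Sylow 3 G) :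
    Nat.card (centralizer ((P : Subgroup G) : Set G)) = 15 := by
  obtain ⟨Q⟩ : Nonempty (Sylow 5 G) := inferInstance
  have hQ15 := card_centralizer_sylow5 h Q
  obtain ⟨x', hx'⟩ := exists_prime_orderOf_dvd_card' (G := centralizer ((Q : Subgroup G) : Set G)) 3
    (by rw [hQ15]; norm_num)
  have hox : orderOf (x' : G) = 3 := by rw [Subgroup.orderOf_coe]; exact hx'
  obtain ⟨P', hP'⟩ := exists_sylow_eq_zpowers (card_sylow3 h) (x' : G) hox
  rw [card_centralizer_sylow_eq P P']
  set x : G := (x' : G) with hxdef
  have hxQ : ∀ q ∈ (Q : Subgroup G), Commute x q := by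
    intro q hq
    exact (Subgroup.mem_centralizer_iff.mp x'.2 q hq).symm
  have hxP' : x ∈ (P' : Subgroup G) := by rw [hP']; exact mem_zpowers x
  have hcyc : IsCyclic (P' : Subgroup G) := isCyclic_of_prime_card (card_sylow3 h P')
  have hP'C : (P' : Subgroup G) ≤ centralizer ((P' : Subgroup G) : Set G) :=
    le_centralizer_of_isCyclic _
  have hxC : x ∈ centralizer ((P' : Subgroup G) : Set G) := hP'C hxP'
  have hQC : (Q : Subgroup G) ≤ centralizer ((P' : Subgroup G) : Set G) := by
    intro q hq
    rw [Subgroup.mem_centralizer_iff]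
    intro z hz
    have hz' : z ∈ zpowers x := by rw [← hP']; exact hz
    obtain ⟨k, rfl⟩ := mem_zpowers_iff.mp hz'
    exact ((hxQ q hq).zpow_left k).eq
  set c := Nat.card (centralizer ((P' : Subgroup G) : Set G)) with hcdef
  have h3c : 3 ∣ c := dvd_card_centralizer P' (card_sylow3 h P')
  have h5c : 5 ∣ c := by
    have := Subgroup.card_dvd_of_le hQC
    rwa [card_sylow5 h Q] at this
  have h17c : ¬ 17 ∣ c := by
    apply not_dvd_card_of_commute h (x := x) (by rw [hox]; decide)
    intro z hz
    exact Subgroup.mem_centralizer_iff.mp hz x hxP'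
  have hc240 : c ∣ 240 := by
    have hd : c ∣ 17 * 240 := by
      have := Subgroup.card_subgroup_dvd_card (centralizer ((P' : Subgroup G) : Set G))
      rwa [h] at this
    have hcop : Nat.Coprime c 17 :=
      ((Nat.Prime.coprime_iff_not_dvd (by norm_num)).mpr h17c).symm
    exact hcop.dvd_of_dvd_mul_left hd
  have h15c : 15 ∣ c := by
    have : Nat.Coprime 3 5 := by norm_num
    exact this.mul_dvd_of_dvd_of_dvd h3c h5c
  obtain ⟨e, he, he1, hN⟩ := exists_normalizer_eq_mul P' (card_sylow3 h P') (by rw [h]; norm_num)
  have he2 : e = 2 := by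
    have : e ≤ 2 := Nat.le_of_dvd (by norm_num) he
    have : e ≠ 0 := by rintro rfl; simp at he
    omega
  have hNS := card_normalizer_mul_card_sylow P'
  rw [h, hN, he2, ← hcdef] at hNS
  have hmod := card_sylow_modEq_one 3 G
  unfold Nat.ModEq at hmod
  obtain ⟨m, hm⟩ := h15c
  have hm16 : m ∣ 16 := by
    rw [hm] at hc240
    exact Nat.dvd_of_mul_dvd_mul_left (by norm_num : 0 < 15) (by simpa using hc240)
  have hmle : m ≤ 16 := Nat.le_of_dvd (by norm_num) hm16
  rw [hm] at hNS
  have hnm : Nat.card (Sylow 3 G) * m = 136 := by nlinarith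
  have hm14 : m = 1 ∨ m = 4 := by
    interval_cases m <;> omega
  rcases hm14 with rfl | rfl
  · rw [hm]
  · exfalso
    have hc60 : c = 60 := by rw [hm]
    -- the Sylow 5-subgroup `Q` inside the centralizer
    have hinj : Function.Injective (centralizer ((P' : Subgroup G) : Set G)).subtype :=
      Subgroup.subtype_injective _
    have hmap : ((Q.subtype hQC : Sylow 5 (centralizer ((P' : Subgroup G) : Set G))) :
        Subgroup (centralizer ((P' : Subgroup G) : Set G))).map
        (centralizer ((P' : Subgroup G) : Set G)).subtype = (Q : Subgroup G) := by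
      rw [Sylow.coe_subtype, Subgroup.subgroupOf_map_subtype, inf_eq_left]
      exact hQC
    have h30 := Cfsg.Agent.Lib.Helper17_SylowPerm.card_normalizer_dvd_of_injective _ hinj
      ((Q.subtype hQC : Sylow 5 (centralizer ((P' : Subgroup G) : Set G))) :
        Subgroup (centralizer ((P' : Subgroup G) : Set G)))
    rw [hmap, card_normalizer_sylow5 h Q] at h30
    have h3 : 3 ∣ Nat.card (normalizer (((Q.subtype hQC :
        Sylow 5 (centralizer ((P' : Subgroup G) : Set G))) :
        Subgroup (centralizer ((P' : Subgroup G) : Set G))) :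
        Set (centralizer ((P' : Subgroup G) : Set G)))) := by
      have hxN : (⟨x, hxC⟩ : centralizer ((P' : Subgroup G) : Set G)) ∈
          normalizer (((Q.subtype hQC : Sylow 5 (centralizer ((P' : Subgroup G) : Set G))) :
          Subgroup (centralizer ((P' : Subgroup G) : Set G))) :
          Set (centralizer ((P' : Subgroup G) : Set G))) := by
        apply centralizer_le_normalizer
        rw [Subgroup.mem_centralizer_iff]
        intro z hz
        rw [SetLike.mem_coe, Sylow.coe_subtype, Subgroup.mem_subgroupOf] at hz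
        apply Subtype.ext
        rw [Subgroup.coe_mul, Subgroup.coe_mul]
        exact ((hxQ _ hz).eq).symm
      have := orderOf_dvd_natCard (⟨⟨x, hxC⟩, hxN⟩ : normalizer (((Q.subtype hQC :
        Sylow 5 (centralizer ((P' : Subgroup G) : Set G))) :
        Subgroup (centralizer ((P' : Subgroup G) : Set G))) :
        Set (centralizer ((P' : Subgroup G) : Set G))))
      rwa [Subgroup.orderOf_mk, Subgroup.orderOf_mk, hox] at this
    exact false_of_card_sixty (hcdef ▸ hc60) (Q.subtype hQC) h3 h30

theorem not_commute_three_two (h : Nat.card G = 4080) {x t : G} (hx : orderOf x = 3)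
    (ht : orderOf t = 2) : ¬ Commute x t := by
  intro hc
  obtain ⟨P, hP⟩ := exists_sylow_eq_zpowers (card_sylow3 h) x hx
  have htC : t ∈ centralizer ((P : Subgroup G) : Set G) := by
    rw [Subgroup.mem_centralizer_iff]
    intro z hz
    have hz' : z ∈ zpowers x := by rw [← hP]; exact hz
    obtain ⟨k, rfl⟩ := mem_zpowers_iff.mp hz'
    exact (hc.zpow_left k).eq
  have := orderOf_dvd_natCard (⟨t, htC⟩ : centralizer ((P : Subgroup G) : Set G))
  rw [Subgroup.orderOf_mk, ht, card_centralizer_sylow3 h P] at this
  revert this; decide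

theorem card_centralizer_involution_dvd (h : Nat.card G = 4080) {t : G} (ht : orderOf t = 2) :
    Nat.card (centralizer ({t} : Set G)) ∣ 16 := by
  set C := centralizer ({t} : Set G) with hCdef
  have hcomm : ∀ z ∈ C, Commute t z := by
    intro z hz
    exact Subgroup.mem_centralizer_iff.mp hz t (Set.mem_singleton t)
  have h17 : ¬ 17 ∣ Nat.card C := not_dvd_card_of_commute h (by rw [ht]; decide) C hcomm
  have h3 : ¬ 3 ∣ Nat.card C := by
    intro hd
    obtain ⟨x, hx⟩ := exists_prime_orderOf_dvd_card' 3 hd
    have hx' : orderOf (x : G) = 3 := by rw [Subgroup.orderOf_coe]; exact hx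
    exact not_commute_three_two h hx' ht (hcomm x x.2).symm
  have h5 : ¬ 5 ∣ Nat.card C := by
    intro hd
    obtain ⟨y, hy⟩ := exists_prime_orderOf_dvd_card' 5 hd
    have hy' : orderOf (y : G) = 5 := by rw [Subgroup.orderOf_coe]; exact hy
    have := orderOf_dvd_of_commute_five h hy' (hcomm y y.2)
    rw [ht] at this
    revert this; decide
  have hd : Nat.card C ∣ 255 * 16 := by
    have := Subgroup.card_subgroup_dvd_card C
    rwa [h] at this
  have hcop : Nat.Coprime (Nat.card C) 255 := by
    have h3' : Nat.Coprime (Nat.card C) 3 :=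
      ((Nat.Prime.coprime_iff_not_dvd Nat.prime_three).mpr h3).symm
    have h5' : Nat.Coprime (Nat.card C) 5 :=
      ((Nat.Prime.coprime_iff_not_dvd (by norm_num)).mpr h5).symm
    have h17' : Nat.Coprime (Nat.card C) 17 :=
      ((Nat.Prime.coprime_iff_not_dvd (by norm_num)).mpr h17).symm
    have : (255 : ℕ) = 3 * 5 * 17 := by norm_num
    rw [this]
    exact (h3'.mul_right h5').mul_right h17'
  exact hcop.dvd_of_dvd_mul_left hd

theorem card_five_elements (h : Nat.card G = 4080) :
    Nat.card {g : G // orderOf g = 5} = 544 := by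
  rw [card_orderOf_eq_prime (card_sylow5 h), card_sylow5_eq h]

end Cfsg.Agent.Lib.Helper9_Order4080
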