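import Mathlib
import Cfsg.Agent.Lib.Helper9_Order4080c

/-!
Simple groups of order 4080, part (d): the centralizers of involutions are elementary abelian.
-/

set_option autoImplicit false
set_option linter.unusedSectionVars false
set_option linter.unusedVariables false

namespace Cfsg.Agent.Lib.Helper9_Order4080

open Subgroup Cfsg.Agent.Lib.Helper9_PSingular
open Cfsg.Agent.Lib.Helper9_Order504 (card_isConj_mul)

variable {G : Type*} [Group G] [Finite G] [IsSimpleGroup G]

/-- In a simple group of order 4080 the centralizer of every involution is an elementary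
abelian 2-group. -/
theorem cit (h : Nat.card G = 4080) (t : G) (ht : orderOf t = 2) :
    IsMulCommutative (centralizer ({t} : Set G)) ∧
      ∀ c ∈ centralizer ({t} : Set G), c ^ 2 = 1 := by
  set C := centralizer ({t} : Set G) with hCdef
  have hd16 := card_centralizer_involution_dvd h ht
  rw [← hCdef] at hd16
  have hle16 : Nat.card C ≤ 16 := Nat.le_of_dvd (by norm_num) hd16
  have hcl := card_isConj_mul t
  rw [h, ← hCdef] at hcl
  let X := Unit ⊕ ({g : G // orderOf g = 17} ⊕ ({g : G // orderOf g = 5} ⊕
    ({g : G // 3 ∣ orderOf g} ⊕ {g : G // IsConj t g})))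
  let f : X → G :=
    Sum.elim (fun _ => 1) (Sum.elim Subtype.val (Sum.elim Subtype.val
      (Sum.elim Subtype.val Subtype.val)))
  have o2 : ∀ a : {g : G // IsConj t g}, orderOf a.1 = 2 := by
    rintro ⟨g, hg⟩
    rw [Cfsg.Agent.Lib.Helper9_Order504.orderOf_of_isConj hg, ht]
  -- a numerical invariant separating the five kinds of elements
  have hkind : ∀ a : X, (match a with
      | Sum.inl _ => orderOf (f a) = 1
      | Sum.inr (Sum.inl _) => orderOf (f a) = 17
      | Sum.inr (Sum.inr (Sum.inl _)) => orderOf (f a) = 5
      | Sum.inr (Sum.inr (Sum.inr (Sum.inl _))) => 3 ∣ orderOf (f a)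
      | Sum.inr (Sum.inr (Sum.inr (Sum.inr _))) => orderOf (f a) = 2) := by
    rintro (a | a | a | a | a)
    · exact orderOf_one
    · exact a.2
    · exact a.2
    · exact a.2
    · exact o2 a
  have hinj : Function.Injective f := by
    intro a b hab
    have ha := hkind a
    have hb := hkind b
    rw [hab] at ha
    rcases a with a | a | a | a | a <;> rcases b with b | b | b | b | b <;>
      dsimp only at ha hb <;>
      first
        | rfl
        | (exfalso; omega)
        | (have hab' : a.1 = b.1 := hab
           rw [Subtype.ext hab'])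
  have hX : Nat.card X = 1 + (1920 + (544 + (Nat.card {g : G // 3 ∣ orderOf g} +
      Nat.card {g : G // IsConj t g}))) := by
    simp only [X]
    rw [Nat.card_sum, Nat.card_sum, Nat.card_sum, Nat.card_sum, card_seventeen_elements h,
      card_five_elements h, Nat.card_unique]
  have hXle : Nat.card X ≤ 4080 := by
    have := Nat.card_le_card_of_injective f hinj
    rwa [h] at this
  have h3 := card_three_singular_ge h
  have hcls : Nat.card {g : G // IsConj t g} = 255 := by
    have h1 : Nat.card {g : G // IsConj t g} ≤ 255 := by omega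
    have h2 : 255 ≤ Nat.card {g : G // IsConj t g} := by nlinarith
    omega
  have h3eq : Nat.card {g : G // 3 ∣ orderOf g} = 1360 := by omega
  have hC16 : Nat.card C = 16 := by
    rw [hcls] at hcl
    omega
  have hbij : Function.Bijective f := by
    apply hinj.bijective_of_nat_card_le
    rw [h, hX, hcls, h3eq]
  have hsq : ∀ c ∈ C, c ^ 2 = 1 := by
    intro c hc
    have hoc : orderOf c ∣ 16 := by
      have := orderOf_dvd_natCard (⟨c, hc⟩ : C)
      rwa [Subgroup.orderOf_mk, hC16] at this
    obtain ⟨a, ha⟩ := hbij.surjective c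
    have hk := hkind a
    rw [ha] at hk
    rcases a with a | a | a | a | a <;> dsimp only at hk
    · rw [orderOf_eq_one_iff.mp hk, one_pow]
    · exfalso
      rw [hk] at hoc
      revert hoc; decide
    · exfalso
      rw [hk] at hoc
      revert hoc; decide
    · exfalso
      have : 3 ∣ 16 := Dvd.dvd.trans hk hoc
      omega
    · rw [← hk]
      exact pow_orderOf_eq_one c
  refine ⟨⟨⟨fun a b => ?_⟩⟩, hsq⟩
  have ha : a.1 * a.1 = 1 := by rw [← pow_two]; exact hsq a.1 a.2
  have hb : b.1 * b.1 = 1 := by rw [← pow_two]; exact hsq b.1 b.2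
  have hab : (a.1 * b.1) * (a.1 * b.1) = 1 := by
    rw [← pow_two]; exact hsq _ (Subgroup.mul_mem _ a.2 b.2)
  apply Subtype.ext
  rw [Subgroup.coe_mul, Subgroup.coe_mul]
  symm
  calc b.1 * a.1 = b.1 * a.1 * ((a.1 * b.1) * (a.1 * b.1)) := by rw [hab, mul_one]
    _ = b.1 * (a.1 * a.1) * b.1 * (a.1 * b.1) := by simp only [mul_assoc]
    _ = a.1 * b.1 := by rw [ha, mul_one, hb, one_mul]

end Cfsg.Agent.Lib.Helper9_Order4080
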