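import Mathlib
import Cfsg.Agent.Lib.Helper56_PGDefs
import Cfsg.Agent.Lib.Helper89_PG_CYC
import Cfsg.Agent.Lib.Helper73_PG_ARITH
import Cfsg.Agent.Lib.Helper89_PG_L2
import Cfsg.Agent.Lib.Helper8_PG_L3
import Cfsg.Agent.Lib.Helper73_PG_COUNTA
import Cfsg.Agent.Lib.Helper10_PG_COUNTBa
import Cfsg.Agent.Lib.Helper52_PG_L6

/-!
S4085 package ODDB (helper9, for helper56): the criterion `PhiOdd` for `p q` odd, backward direction.
-/

set_option linter.unusedVariables false

namespace Cfsg.Agent.Lib.Helper9_PG_ODDB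
open Cfsg.Agent.Lib.Helper56_PGDefs
open Cfsg.Agent.Lib.Helper89_PG_CYC Cfsg.Agent.Lib.Helper73_PG_ARITH Cfsg.Agent.Lib.Helper89_PG_L2
open Cfsg.Agent.Lib.Helper8_PG_L3 Cfsg.Agent.Lib.Helper73_PG_COUNTA Cfsg.Agent.Lib.Helper10_PG_COUNTBa
open Cfsg.Agent.Lib.Helper52_PG_L6

/-- two elements of a cyclic group of prime power order are comparable -/
theorem cmp_of_isPrimePow {G : Type*} [Group G] [Finite G] {x a b : G}
    (hx : IsPrimePow (orderOf x)) (ha : a ∈ Subgroup.zpowers x) (hb : b ∈ Subgroup.zpowers x) :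
    Cmp a b := by
  obtain ⟨r, k, hr, hk, hrk⟩ := hx
  have hr' : r.Prime := hr.nat_prime
  have hoa : orderOf a ∣ r ^ k := by rw [hrk]; exact orderOf_dvd_of_mem_zpowers ha
  have hob : orderOf b ∣ r ^ k := by rw [hrk]; exact orderOf_dvd_of_mem_zpowers hb
  obtain ⟨i, hi, hia⟩ := (Nat.dvd_prime_pow hr').1 hoa
  obtain ⟨j, hj, hjb⟩ := (Nat.dvd_prime_pow hr').1 hob
  rcases le_total i j with hij | hij
  · left
    rw [mem_zpowers_iff_orderOf_dvd ha hb, hia, hjb]
    exact pow_dvd_pow r hij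
  · right
    rw [mem_zpowers_iff_orderOf_dvd hb ha, hia, hjb]
    exact pow_dvd_pow r hij

section main
variable {G : Type*} [Group G] [Finite G] (hS : ∀ x : G, Dom (Cmp (G := G)) x → x = 1)
include hS

theorem orderOf_of_phiOdd {p q : ℕ} (hp : p.Prime) (hq : q.Prime) (hpq : p ≠ q)
    (hp2 : p ≠ 2) (hq2 : q ≠ 2) (h : PhiOdd (Cmp (G := G)) (p * q)) :
    ∃ g : G, orderOf g = p * q := by
  obtain ⟨x, ⟨a, ha, b, hb, hab⟩, hsum⟩ := h
  have hpo : Odd p := hp.odd_of_ne_two hp2
  have hqo : Odd q := hq.odd_of_ne_two hq2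
  have hodd : Odd (p * q) := hpo.mul hqo
  -- x is not the identity
  have hx1 : x ≠ 1 := by
    rintro rfl
    have h1 := ha.2
    rw [cls_one hS] at h1
    have := cls_pos (Cmp (G := G)) a
    omega
  have hn0 : orderOf x ≠ 0 := (orderOf_pos x).ne'
  rcases npp_trichotomy hn0 with h1 | hpp | hnpp
  · exact absurd (orderOf_eq_one_iff.1 h1) hx1
  · exact absurd (cmp_of_isPrimePow hpp (lo_subset_zpowers hS x ha) (lo_subset_zpowers hS x hb)) hab
  · refine ⟨x, ?_⟩
    rw [cls_of_npp hS hnpp, card_lo_of_npp_of (cls_of_npp hS) (cls_of_mem_zpowers_npp hS) (lo_subset_zpowers hS) card_totient_lt hnpp] at hsum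
    have hle := Nat.totient_le (orderOf x)
    by_cases h4 : orderOf x % 4 = 2
    · exfalso
      rw [if_pos h4] at hsum
      have hn2 : 2 < orderOf x := by
        obtain ⟨r, s, hr, hs, hrs, hrn, hsn⟩ := hnpp
        by_contra hlt
        have h2 : orderOf x = 2 := by omega
        rw [h2] at hrn hsn
        have e1 := (Nat.prime_dvd_prime_iff_eq hr Nat.prime_two).1 hrn
        have e2 := (Nat.prime_dvd_prime_iff_eq hs Nat.prime_two).1 hsn
        exact hrs (e1.trans e2.symm)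
      have hev := Nat.totient_even hn2
      obtain ⟨t, ht⟩ := hev
      have := Nat.odd_iff.1 hodd
      omega
    · rw [if_neg h4] at hsum
      omega

end main
end Cfsg.Agent.Lib.Helper9_PG_ODDB
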