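import Mathlib
import Cfsg.Agent.Lib.Helper56_PGDefs
import Cfsg.Agent.Lib.Helper89_PG_CYC
import Cfsg.Agent.Lib.Helper73_PG_ARITH
import Cfsg.Agent.Lib.Helper89_PG_L2
import Cfsg.Agent.Lib.Helper8_PG_L3
import Cfsg.Agent.Lib.Helper73_PG_COUNTA
import Cfsg.Agent.Lib.Helper10_PG_COUNTBa
import Cfsg.Agent.Lib.Helper52_PG_L6

/-!
S4085 package ODDF (helper9, for helper56): the criterion `PhiOdd` for `p q` odd, forward direction.
-/

set_option linter.unusedVariables false

namespace Cfsg.Agent.Lib.Helper9_PG_ODDF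
open Cfsg.Agent.Lib.Helper56_PGDefs
open Cfsg.Agent.Lib.Helper89_PG_CYC Cfsg.Agent.Lib.Helper73_PG_ARITH Cfsg.Agent.Lib.Helper89_PG_L2
open Cfsg.Agent.Lib.Helper8_PG_L3 Cfsg.Agent.Lib.Helper73_PG_COUNTA Cfsg.Agent.Lib.Helper10_PG_COUNTBa
open Cfsg.Agent.Lib.Helper52_PG_L6

section main
variable {G : Type*} [Group G] [Finite G] (hS : ∀ x : G, Dom (Cmp (G := G)) x → x = 1)
include hS

theorem phiOdd_of_orderOf {p q : ℕ} (hp : p.Prime) (hq : q.Prime) (hpq : p ≠ q)
    (hp2 : p ≠ 2) (hq2 : q ≠ 2) {g : G} (hg : orderOf g = p * q) :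
    PhiOdd (Cmp (G := G)) (p * q) := by
  have hnpp : NPP (orderOf g) := by rw [hg]; exact npp_mul hp hq hpq
  have hpo : Odd p := hp.odd_of_ne_two hp2
  have hqo : Odd q := hq.odd_of_ne_two hq2
  have hp3 : 3 ≤ p := by
    have := hp.two_le
    omega
  have hq3 : 3 ≤ q := by
    have := hq.two_le
    omega
  have hcop : Nat.Coprime p q := (Nat.coprime_primes hp hq).2 hpq
  have htot : Nat.totient (p * q) = (p - 1) * (q - 1) := by
    rw [Nat.totient_mul hcop, Nat.totient_prime hp, Nat.totient_prime hq]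
  -- orders of the two powers
  have hoa : orderOf (g ^ q) = p := by
    rw [orderOf_pow_of_dvd hq.ne_zero (by rw [hg]; exact Dvd.intro_left p rfl), hg,
      Nat.mul_div_cancel _ hq.pos]
  have hob : orderOf (g ^ p) = q := by
    rw [orderOf_pow_of_dvd hp.ne_zero (by rw [hg]; exact Dvd.intro q rfl), hg,
      Nat.mul_div_cancel_left _ hp.pos]
  have hlo := lo_eq_of_npp_of (cls_of_npp hS) (cls_of_mem_zpowers_npp hS) (lo_subset_zpowers hS) hnpp
  refine ⟨g, ⟨g ^ q, ?_, g ^ p, ?_, ?_⟩, ?_⟩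
  · rw [hlo]
    refine ⟨Subgroup.pow_mem _ (Subgroup.mem_zpowers g) q, ?_⟩
    rw [hoa, hg, htot, Nat.totient_prime hp]
    have h1 : 0 < p - 1 := by omega
    have h2 : 1 < q - 1 := by omega
    nlinarith
  · rw [hlo]
    refine ⟨Subgroup.pow_mem _ (Subgroup.mem_zpowers g) p, ?_⟩
    rw [hob, hg, htot, Nat.totient_prime hq]
    have h1 : 1 < p - 1 := by omega
    have h2 : 0 < q - 1 := by omega
    nlinarith
  · rintro (h | h)
    · have := orderOf_dvd_of_mem_zpowers h
      rw [hoa, hob] at this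
      exact hpq ((Nat.prime_dvd_prime_iff_eq hp hq).1 this)
    · have := orderOf_dvd_of_mem_zpowers h
      rw [hoa, hob] at this
      exact hpq ((Nat.prime_dvd_prime_iff_eq hq hp).1 this).symm
  · rw [cls_of_npp hS hnpp, card_lo_of_npp_of (cls_of_npp hS) (cls_of_mem_zpowers_npp hS) (lo_subset_zpowers hS) card_totient_lt hnpp, hg]
    have hodd : Odd (p * q) := hpo.mul hqo
    have h4 : ¬ (p * q % 4 = 2) := by
      intro h
      have := Nat.odd_iff.1 hodd
      omega
    rw [if_neg h4]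
    have := Nat.totient_le (p * q)
    omega

end main
end Cfsg.Agent.Lib.Helper9_PG_ODDF
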