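import Mathlib

/-!
Recognition of `PSL(2,p)` among the simple groups of order `p(p^2-1)/2`, part 1:
the action on the `p+1` Sylow `p`-subgroups and the coordinates on it.
-/

set_option autoImplicit false
set_option linter.unusedSectionVars false
set_option linter.unusedVariables false

open scoped Pointwise

namespace Cfsg.Agent.Lib.Helper9_PSLRecog

variable {G : Type*} [Group G] [Finite G] {p : ℕ} [Fact p.Prime]

/-- In a Sylow subgroup `Q` of prime order every element is a power of a nontrivial element. -/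
theorem exists_zpow_eq {Q : Sylow p G} (hQ : Nat.card (Q : Subgroup G) = p) {v : G}
    (hv : v ∈ (Q : Subgroup G)) (hv1 : v ≠ 1) {w : G} (hw : w ∈ (Q : Subgroup G)) :
    ∃ k : ℤ, w = v ^ k := by
  have hne : (⟨v, hv⟩ : (Q : Subgroup G)) ≠ 1 := fun h => hv1 (congrArg Subtype.val h)
  have htop := zpowers_eq_top_of_prime_card (G := (Q : Subgroup G)) hQ hne
  have hmem : (⟨w, hw⟩ : (Q : Subgroup G)) ∈ Subgroup.zpowers (⟨v, hv⟩ : (Q : Subgroup G)) := by
    rw [htop]; trivial
  obtain ⟨k, hk⟩ := Subgroup.mem_zpowers_iff.mp hmem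
  refine ⟨k, ?_⟩
  have := congrArg Subtype.val hk
  simpa using this.symm

/-- A nontrivial element of a Sylow subgroup `Q` of prime order fixes no other Sylow subgroup. -/
theorem eq_of_smul_eq {Q R : Sylow p G} (hQ : Nat.card (Q : Subgroup G) = p) {v : G}
    (hv : v ∈ (Q : Subgroup G)) (hv1 : v ≠ 1) (h : v • R = R) : R = Q := by
  have h1 : v ∈ Subgroup.normalizer ((R : Subgroup G) : Set G) :=
    Sylow.smul_eq_iff_mem_normalizer.mp h
  have h2 : v ∈ (R : Subgroup G) := by
    have h3 := IsPGroup.inf_normalizer_sylow Q.2 R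
    exact (Subgroup.mem_inf.1 (h3.le (Subgroup.mem_inf.2 ⟨hv, h1⟩))).2
  have hle : (Q : Subgroup G) ≤ R := by
    intro w hw
    obtain ⟨k, rfl⟩ := exists_zpow_eq hQ hv hv1 hw
    exact Subgroup.zpow_mem _ h2 k
  exact Sylow.ext (Q.is_maximal' R.isPGroup' hle)

theorem smul_eq_of_mem {Q : Sylow p G} {v : G} (hv : v ∈ (Q : Subgroup G)) : v • Q = Q :=
  Sylow.smul_eq_iff_mem_normalizer.mpr (Subgroup.le_normalizer hv)

/-- The additive coordinate on a cyclic group of order `p`. -/
def phi (v : G) (x : ZMod p) : G := v ^ x.val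

theorem phi_zero (v : G) : phi v (0 : ZMod p) = 1 := by
  simp [phi]

theorem phi_add {v : G} (hv : v ^ p = 1) (x y : ZMod p) : phi v (x + y) = phi v x * phi v y := by
  unfold phi
  rw [ZMod.val_add, ← pow_add, ← pow_eq_pow_mod _ hv]

theorem phi_one {v : G} : phi v (1 : ZMod p) = v := by
  unfold phi
  have : (1 : ZMod p).val = 1 := by
    have : Fact (1 < p) := ⟨(Fact.out : p.Prime).one_lt⟩
    exact ZMod.val_one p
  rw [this, pow_one]

theorem phi_neg {v : G} (hv : v ^ p = 1) (x : ZMod p) : phi v (-x) = (phi v x)⁻¹ := by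
  have h := phi_add hv (-x) x
  rw [neg_add_cancel, phi_zero] at h
  exact eq_inv_of_mul_eq_one_left h.symm

theorem phi_eq_one {v : G} (hv : orderOf v = p) {x : ZMod p} (h : phi v x = 1) : x = 0 := by
  unfold phi at h
  have h1 : orderOf v ∣ x.val := orderOf_dvd_of_pow_eq_one h
  rw [hv] at h1
  have h2 : x.val < p := ZMod.val_lt x
  have h3 : x.val = 0 := Nat.eq_zero_of_dvd_of_lt h1 h2
  exact (ZMod.val_eq_zero x).mp h3

theorem phi_mem {v : G} {K : Subgroup G} (hv : v ∈ K) (x : ZMod p) : phi v x ∈ K :=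
  Subgroup.pow_mem _ hv _

theorem phi_natCast_mul {v : G} (hv : v ^ p = 1) (k : ℕ) (x : ZMod p) :
    phi v ((k : ZMod p) * x) = (phi v x) ^ k := by
  induction k with
  | zero => simp [phi_zero]
  | succ k ih =>
    rw [Nat.cast_succ, add_mul, one_mul, phi_add hv, ih, pow_succ]

theorem phi_mul {v : G} (hv : v ^ p = 1) (s x : ZMod p) :
    phi v (s * x) = (phi v x) ^ s.val := by
  have := phi_natCast_mul hv s.val x
  rwa [ZMod.natCast_zmod_val] at this

theorem exists_phi_eq {Q : Sylow p G} (hQ : Nat.card (Q : Subgroup G) = p) {v : G}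
    (hv : v ∈ (Q : Subgroup G)) (hv1 : v ≠ 1) {w : G} (hw : w ∈ (Q : Subgroup G)) :
    ∃ x : ZMod p, w = phi v x := by
  obtain ⟨k, rfl⟩ := exists_zpow_eq hQ hv hv1 hw
  have hvp : v ^ p = 1 := by
    have h0 : (⟨v, hv⟩ : (Q : Subgroup G)) ^ Nat.card (Q : Subgroup G) = 1 := pow_card_eq_one'
    rw [hQ] at h0
    simpa using congrArg Subtype.val h0
  refine ⟨(k : ZMod p), ?_⟩
  unfold phi
  have h1 : ((k : ZMod p).val : ℤ) = k % (p : ℤ) := ZMod.val_intCast k
  rw [← zpow_natCast, h1]
  exact zpow_eq_zpow_emod' k hvp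

/-- All Sylow `p`-subgroups have the same order. -/
theorem card_sylow_eq {P : Sylow p G} (hP : Nat.card (P : Subgroup G) = p) (Q : Sylow p G) :
    Nat.card (Q : Subgroup G) = p := by
  rw [Sylow.card_eq_multiplicity] at hP ⊢
  exact hP

theorem pow_prime_eq_one {Q : Sylow p G} (hQ : Nat.card (Q : Subgroup G) = p) {v : G}
    (hv : v ∈ (Q : Subgroup G)) : v ^ p = 1 := by
  have h0 : (⟨v, hv⟩ : (Q : Subgroup G)) ^ Nat.card (Q : Subgroup G) = 1 := pow_card_eq_one'
  rw [hQ] at h0
  simpa using congrArg Subtype.val h0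

theorem orderOf_eq_prime' {Q : Sylow p G} (hQ : Nat.card (Q : Subgroup G) = p) {v : G}
    (hv : v ∈ (Q : Subgroup G)) (hv1 : v ≠ 1) : orderOf v = p :=
  orderOf_eq_prime (pow_prime_eq_one hQ hv) hv1

/-- The coordinate map from the projective line to the Sylow subgroups. -/
def beta (Q R : Sylow p G) (v : G) (X : Option (ZMod p)) : Sylow p G :=
  X.elim Q (fun x => phi v x • R)

@[simp] theorem beta_none (Q R : Sylow p G) (v : G) : beta Q R v none = Q := rfl
@[simp] theorem beta_some (Q R : Sylow p G) (v : G) (x : ZMod p) :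
    beta Q R v (some x) = phi v x • R := rfl

theorem beta_zero (Q R : Sylow p G) (v : G) : beta Q R v (some 0) = R := by
  rw [beta_some, phi_zero, one_smul]

theorem phi_smul_ne {Q R : Sylow p G} {v : G} (hv : v ∈ (Q : Subgroup G)) (hR : R ≠ Q)
    (x : ZMod p) : phi v x • R ≠ Q := by
  intro h
  apply hR
  have h1 : (phi v x)⁻¹ • Q = Q := smul_eq_of_mem (Subgroup.inv_mem _ (phi_mem hv x))
  rw [← h1, ← h, inv_smul_smul]

theorem beta_injective {Q R : Sylow p G} (hQ : Nat.card (Q : Subgroup G) = p) {v : G}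
    (hv : v ∈ (Q : Subgroup G)) (hv1 : v ≠ 1) (hR : R ≠ Q) :
    Function.Injective (beta Q R v) := by
  have hvp := pow_prime_eq_one hQ hv
  have hord := orderOf_eq_prime' hQ hv hv1
  intro X Y hXY
  rcases X with _ | x <;> rcases Y with _ | y
  · rfl
  · exact absurd hXY.symm (phi_smul_ne hv hR y)
  · exact absurd hXY (phi_smul_ne hv hR x)
  · simp only [beta_some] at hXY
    have h1 : phi v (x - y) • R = R := by
      rw [sub_eq_neg_add, phi_add hvp, phi_neg hvp, mul_smul, hXY, inv_smul_smul]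
    by_cases hxy : x - y = 0
    · rw [sub_eq_zero.mp hxy]
    · exfalso
      apply hR
      refine eq_of_smul_eq hQ (phi_mem hv (x - y)) ?_ h1
      intro h
      exact hxy (phi_eq_one hord h)

theorem beta_bijective {Q R : Sylow p G} (hQ : Nat.card (Q : Subgroup G) = p) {v : G}
    (hv : v ∈ (Q : Subgroup G)) (hv1 : v ≠ 1) (hR : R ≠ Q)
    (hS : Nat.card (Sylow p G) = p + 1) : Function.Bijective (beta Q R v) := by
  apply (beta_injective hQ hv hv1 hR).bijective_of_nat_card_le
  rw [hS, Finite.card_option, Nat.card_zmod]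

/-- A Sylow subgroup of order `p` is transitive on the other `p` Sylow subgroups. -/
theorem exists_phi_smul_eq {Q R R' : Sylow p G} (hQ : Nat.card (Q : Subgroup G) = p) {v : G}
    (hv : v ∈ (Q : Subgroup G)) (hv1 : v ≠ 1) (hR : R ≠ Q) (hR' : R' ≠ Q)
    (hS : Nat.card (Sylow p G) = p + 1) : ∃ x : ZMod p, phi v x • R = R' := by
  obtain ⟨X, hX⟩ := (beta_bijective hQ hv hv1 hR hS).2 R'
  rcases X with _ | x
  · exact absurd hX.symm hR'
  · exact ⟨x, hX⟩

/-- There is an element interchanging two given Sylow subgroups. -/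
theorem exists_swap {P O : Sylow p G} (hP : Nat.card (P : Subgroup G) = p) (hOP : O ≠ P)
    (hS : Nat.card (Sylow p G) = p + 1) : ∃ t : G, t • P = O ∧ t • O = P := by
  obtain ⟨g, hg⟩ := MulAction.exists_smul_eq G P O
  have hO := card_sylow_eq hP O
  -- a nontrivial element of `O`
  obtain ⟨v, hv, hv1⟩ : ∃ v : G, v ∈ (O : Subgroup G) ∧ v ≠ 1 := by
    by_contra hne
    push Not at hne
    have hbot : (O : Subgroup G) = ⊥ := (Subgroup.eq_bot_iff_forall _).mpr hne
    rw [hbot, Subgroup.card_bot] at hO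
    exact (Fact.out : p.Prime).one_lt.ne hO
  have h1 : g • O ≠ O := by
    intro h
    apply hOP
    have := h.trans hg.symm
    exact (MulAction.injective g) this
  obtain ⟨x, hx⟩ := exists_phi_smul_eq hO hv hv1 h1 hOP.symm hS
  refine ⟨phi v x * g, ?_, ?_⟩
  · rw [mul_smul, hg]
    exact smul_eq_of_mem (phi_mem hv x)
  · rw [mul_smul, hx]

end Cfsg.Agent.Lib.Helper9_PSLRecog
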