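import Mathlib
import Cfsg.Agent.Lib.Helper9_PSLRecog1

/-!
Recognition of `PSL(2,p)`, part 2: the normalizer of a Sylow `p`-subgroup acts by affine maps.
-/

set_option autoImplicit false
set_option linter.unusedSectionVars false
set_option linter.unusedVariables false

open scoped Pointwise

namespace Cfsg.Agent.Lib.Helper9_PSLRecog

/-- Translation of the projective line. -/
def addP {p : ℕ} (b : ZMod p) : Option (ZMod p) → Option (ZMod p)
  | none => none
  | some x => some (b + x)

/-- Affine map of the projective line. -/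
def affP {p : ℕ} (s c : ZMod p) : Option (ZMod p) → Option (ZMod p)
  | none => none
  | some x => some (s * x + c)

@[simp] theorem addP_none {p : ℕ} (b : ZMod p) : addP b none = none := rfl
@[simp] theorem addP_some {p : ℕ} (b x : ZMod p) : addP b (some x) = some (b + x) := rfl
@[simp] theorem affP_none {p : ℕ} (s c : ZMod p) : affP s c none = none := rfl
@[simp] theorem affP_some {p : ℕ} (s c x : ZMod p) : affP s c (some x) = some (s * x + c) := rfl

variable {G : Type*} [Group G] [Finite G] {p : ℕ} [Fact p.Prime]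

section Setting

variable {P O : Sylow p G} {u : G}

/-- `n` acts on the coordinates as `x ↦ s x + b`. -/
def IsAff (P O : Sylow p G) (u : G) (n : G) (s b : ZMod p) : Prop :=
  ∀ X, n • beta P O u X = beta P O u (affP s b X)

theorem phi_smul_beta (hP : Nat.card (P : Subgroup G) = p) (hu : u ∈ (P : Subgroup G))
    (b : ZMod p) (X : Option (ZMod p)) :
    phi u b • beta P O u X = beta P O u (addP b X) := by
  rcases X with _ | x
  · exact smul_eq_of_mem (phi_mem hu b)
  · simp only [beta_some, addP_some]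
    rw [← mul_smul, ← phi_add (pow_prime_eq_one hP hu)]

theorem IsAff.smul_P {n : G} {s b : ZMod p} (h : IsAff P O u n s b) : n • P = P := h none

theorem IsAff.unique (hP : Nat.card (P : Subgroup G) = p) (hu : u ∈ (P : Subgroup G))
    (hu1 : u ≠ 1) (hOP : O ≠ P) {n : G} {s b s' b' : ZMod p}
    (h : IsAff P O u n s b) (h' : IsAff P O u n s' b') : s = s' ∧ b = b' := by
  have hinj := beta_injective hP hu hu1 hOP
  have h0 : affP s b (some 0) = affP s' b' (some 0) := hinj ((h _).symm.trans (h' _))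
  have h1 : affP s b (some 1) = affP s' b' (some 1) := hinj ((h _).symm.trans (h' _))
  simp only [affP_some, mul_zero, zero_add, mul_one, Option.some.injEq] at h0 h1
  subst h0
  exact ⟨add_right_cancel h1, rfl⟩

theorem isAff_one : IsAff P O u 1 1 0 := by
  intro X
  rcases X with _ | x
  · simp
  · simp

theorem IsAff.mul {n n' : G} {s b s' b' : ZMod p} (h : IsAff P O u n s b)
    (h' : IsAff P O u n' s' b') : IsAff P O u (n * n') (s * s') (s * b' + b) := by
  intro X
  rw [mul_smul, h', h]
  rcases X with _ | x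
  · rfl
  · simp only [affP_some]
    congr 2
    ring

theorem IsAff.pow {n : G} {s b : ZMod p} (h : IsAff P O u n s b) (k : ℕ) :
    ∃ b', IsAff P O u (n ^ k) (s ^ k) b' := by
  induction k with
  | zero => exact ⟨0, by simpa using isAff_one⟩
  | succ k ih =>
    obtain ⟨b', hb'⟩ := ih
    refine ⟨s ^ k * b + b', ?_⟩
    rw [pow_succ, pow_succ]
    exact hb'.mul h

theorem IsAff.inv (hP : Nat.card (P : Subgroup G) = p) (hu : u ∈ (P : Subgroup G))
    (hu1 : u ≠ 1) (hOP : O ≠ P) {n : G} {s b : ZMod p} (hs : s ≠ 0)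
    (h : IsAff P O u n s b) : IsAff P O u n⁻¹ s⁻¹ (-(s⁻¹ * b)) := by
  intro X
  have hinj := beta_injective hP hu hu1 hOP
  rw [inv_smul_eq_iff, h]
  rcases X with _ | x
  · rfl
  · simp only [affP_some]
    congr 2
    field_simp
    ring

/-- Elements of the normalizer of `P` act by affine maps. -/
theorem exists_isAff (hP : Nat.card (P : Subgroup G) = p) (hu : u ∈ (P : Subgroup G))
    (hu1 : u ≠ 1) (hOP : O ≠ P) (hS : Nat.card (Sylow p G) = p + 1) {n : G} (hn : n • P = P) :
    ∃ s b : ZMod p, s ≠ 0 ∧ IsAff P O u n s b := by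
  have hvp := pow_prime_eq_one hP hu
  have hnN : n ∈ Subgroup.normalizer ((P : Subgroup G) : Set G) :=
    Sylow.smul_eq_iff_mem_normalizer.mp hn
  have hconj : n * u * n⁻¹ ∈ (P : Subgroup G) := (Subgroup.mem_normalizer_iff.mp hnN u).mp hu
  obtain ⟨s, hs⟩ := exists_phi_eq hP hu hu1 hconj
  have hs0 : s ≠ 0 := by
    rintro rfl
    rw [phi_zero] at hs
    apply hu1
    have : u = n⁻¹ * (n * u * n⁻¹) * n := by group
    rw [this, hs]; group
  have hconjx : ∀ x : ZMod p, n * phi u x * n⁻¹ = phi u (s * x) := by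
    intro x
    have h1 : n * phi u x * n⁻¹ = (n * u * n⁻¹) ^ x.val := by
      unfold phi; rw [conj_pow]
    rw [h1, hs, ← phi_natCast_mul hvp, ZMod.natCast_zmod_val, mul_comm]
  have hnO : n • O ≠ P := by
    intro h
    exact hOP (MulAction.injective n (h.trans hn.symm))
  obtain ⟨b, hb⟩ := exists_phi_smul_eq hP hu hu1 hOP hnO hS
  refine ⟨s, b, hs0, ?_⟩
  intro X
  rcases X with _ | x
  · exact hn
  · simp only [beta_some, affP_some]
    have h2 : n • phi u x • O = (n * phi u x * n⁻¹) • n • O := by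
      rw [← mul_smul, ← mul_smul]; congr 1; group
    rw [h2, hconjx, ← hb, ← mul_smul, ← phi_add hvp]

/-- Multipliers of elements of the normalizer are squares. -/
theorem IsAff.pow_eq_one (hP : Nat.card (P : Subgroup G) = p) (hu : u ∈ (P : Subgroup G))
    (hu1 : u ≠ 1) (hOP : O ≠ P)
    (hN : Nat.card (Subgroup.normalizer ((P : Subgroup G) : Set G)) = p * ((p - 1) / 2))
    {n : G} {s b : ZMod p} (h : IsAff P O u n s b) : s ^ ((p - 1) / 2) = 1 := by
  have hnN : n ∈ Subgroup.normalizer ((P : Subgroup G) : Set G) :=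
    Sylow.smul_eq_iff_mem_normalizer.mp h.smul_P
  have h0 : (⟨n, hnN⟩ : Subgroup.normalizer ((P : Subgroup G) : Set G)) ^
      Nat.card (Subgroup.normalizer ((P : Subgroup G) : Set G)) = 1 := pow_card_eq_one'
  rw [hN] at h0
  have h1 : n ^ (p * ((p - 1) / 2)) = 1 := by simpa using congrArg Subtype.val h0
  obtain ⟨b', hb'⟩ := h.pow (p * ((p - 1) / 2))
  rw [h1] at hb'
  have h2 := (hb'.unique hP hu hu1 hOP isAff_one).1
  rwa [pow_mul, ZMod.pow_card] at h2

theorem card_pow_eq_one_le (m : ℕ) (hm : 0 < m) :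
    Nat.card {s : ZMod p // s ^ m = 1} ≤ m := by
  have hsub : {s : ZMod p | s ^ m = 1} ⊆
      ((Polynomial.nthRoots m (1 : ZMod p)).toFinset : Set (ZMod p)) := by
    intro s hs
    simp only [Finset.mem_coe, Multiset.mem_toFinset]
    exact (Polynomial.mem_nthRoots hm).mpr hs
  calc Nat.card {s : ZMod p // s ^ m = 1} = Set.ncard {s : ZMod p | s ^ m = 1} := rfl
    _ ≤ Set.ncard ((Polynomial.nthRoots m (1 : ZMod p)).toFinset : Set (ZMod p)) :=
        Set.ncard_le_ncard hsub (Finset.finite_toSet _)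
    _ = (Polynomial.nthRoots m (1 : ZMod p)).toFinset.card := Set.ncard_coe_finset _
    _ ≤ Multiset.card (Polynomial.nthRoots m (1 : ZMod p)) := Multiset.toFinset_card_le _
    _ ≤ m := Polynomial.card_nthRoots m 1

/-- Every affine map with square multiplier is induced by an element of the normalizer. -/
theorem exists_isAff_of_pow_eq_one (hP : Nat.card (P : Subgroup G) = p)
    (hu : u ∈ (P : Subgroup G)) (hu1 : u ≠ 1) (hOP : O ≠ P)
    (hS : Nat.card (Sylow p G) = p + 1)
    (hF : ∀ g : G, (∀ Q : Sylow p G, g • Q = Q) → g = 1)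
    (hN : Nat.card (Subgroup.normalizer ((P : Subgroup G) : Set G)) = p * ((p - 1) / 2))
    {s b : ZMod p} (hs : s ^ ((p - 1) / 2) = 1) : ∃ n : G, IsAff P O u n s b := by
  have hm : 0 < (p - 1) / 2 := by
    rcases Nat.eq_zero_or_pos ((p - 1) / 2) with h | h
    · rw [h, mul_zero] at hN
      exact absurd hN Nat.card_pos.ne'
    · exact h
  have hsurj := beta_bijective hP hu hu1 hOP hS
  have hex : ∀ n : Subgroup.normalizer ((P : Subgroup G) : Set G),
      ∃ sb : ZMod p × ZMod p, sb.1 ≠ 0 ∧ IsAff P O u n.1 sb.1 sb.2 := by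
    intro n
    obtain ⟨s, b, hs, h⟩ := exists_isAff hP hu hu1 hOP hS
      (Sylow.smul_eq_iff_mem_normalizer.mpr n.2)
    exact ⟨(s, b), hs, h⟩
  choose f hf0 hf using hex
  let F : Subgroup.normalizer ((P : Subgroup G) : Set G) →
      {s : ZMod p // s ^ ((p - 1) / 2) = 1} × ZMod p :=
    fun n => (⟨(f n).1, (hf n).pow_eq_one hP hu hu1 hOP hN⟩, (f n).2)
  have hFinj : Function.Injective F := by
    intro n n' hnn'
    have h1 : (f n).1 = (f n').1 := congrArg (fun z => z.1.1) hnn'
    have h2 : (f n).2 = (f n').2 := congrArg (fun z => z.2) hnn'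
    have h3 : ∀ Q : Sylow p G, (n.1⁻¹ * n'.1) • Q = Q := by
      intro Q
      obtain ⟨X, rfl⟩ := hsurj.2 Q
      rw [mul_smul, hf n' X, ← h1, ← h2, ← hf n X, inv_smul_smul]
    have h4 := hF _ h3
    exact Subtype.ext (inv_mul_eq_one.mp h4)
  have hcard : Nat.card ({s : ZMod p // s ^ ((p - 1) / 2) = 1} × ZMod p) ≤
      Nat.card (Subgroup.normalizer ((P : Subgroup G) : Set G)) := by
    rw [hN, Nat.card_prod, Nat.card_zmod, mul_comm]
    exact Nat.mul_le_mul_left _ (card_pow_eq_one_le _ hm)
  obtain ⟨n, hn⟩ := (hFinj.bijective_of_nat_card_le hcard).2 (⟨s, hs⟩, b)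
  refine ⟨n.1, ?_⟩
  have h1 : (f n).1 = s := congrArg (fun z => z.1.1) hn
  have h2 : (f n).2 = b := congrArg (fun z => z.2) hn
  rw [← h1, ← h2]
  exact hf n

end Setting

end Cfsg.Agent.Lib.Helper9_PSLRecog
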