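import Mathlib
import Cfsg.Agent.Lib.Helper9_PSLRecog2

/-!
Recognition of `PSL(2,p)`, part 3: the arithmetic check that pins down the inversion.
-/

set_option autoImplicit false
set_option linter.unusedSectionVars false
set_option linter.unusedVariables false

namespace Cfsg.Agent.Lib.Helper9_PSLRecog

/-- Extension of a map on the nonzero residues to the projective line, interchanging `0` and
infinity. -/
def hat {p : ℕ} (f : ZMod p → ZMod p) : Option (ZMod p) → Option (ZMod p)
  | none => some 0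
  | some x => if x = 0 then none else some (f x)

@[simp] theorem hat_none {p : ℕ} (f : ZMod p → ZMod p) : hat f none = some 0 := rfl
theorem hat_some {p : ℕ} (f : ZMod p → ZMod p) (x : ZMod p) :
    hat f (some x) = if x = 0 then none else some (f x) := rfl
@[simp] theorem hat_zero {p : ℕ} (f : ZMod p → ZMod p) : hat f (some 0) = none := by
  simp [hat_some]
theorem hat_of_ne {p : ℕ} (f : ZMod p → ZMod p) {x : ZMod p} (hx : x ≠ 0) :
    hat f (some x) = some (f x) := by
  simp [hat_some, hx]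

/-- The candidate inversion determined by a discrete logarithm table `dl`, the multiplier `z`
and the two values `a1`, `ag`. -/
def tab (p : ℕ) (dl : List ℕ) (z a1 ag : ZMod p) (x : ZMod p) : ZMod p :=
  z ^ (dl.getD x.val 0 / 2) * (if dl.getD x.val 0 % 2 = 0 then a1 else ag)

/-- `dl` is a table of discrete logarithms to the base `g`. -/
def DlogOK (p : ℕ) (g : ZMod p) (dl : List ℕ) : Prop :=
  ∀ x : ZMod p, x ≠ 0 → g ^ (dl.getD x.val 0) = x

/-- The finite check: the only candidates satisfying the relation `t u t ∈ U t N` are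
the maps `x ↦ a/x` with `-a` a square. -/
def ArithCheck (p : ℕ) (g : ZMod p) (dl : List ℕ) (zbad : ZMod p) : Prop :=
  ∀ z : ZMod p, z ^ ((p - 1) / 2) = 1 → z ≠ zbad → ∀ a1 : ZMod p, (a1 = -1 ∨ a1 = -g) →
    ∀ ag : ZMod p, ag ≠ 0 →
    ∀ c : ZMod p, tab p dl z a1 ag c = - a1 → ∀ s : ZMod p, s ^ ((p - 1) / 2) = 1 →
    (∀ X : Option (ZMod p), hat (tab p dl z a1 ag) (addP 1 (hat (tab p dl z a1 ag) X))
      = addP a1 (hat (tab p dl z a1 ag) (affP s c X))) →
    (∀ x : ZMod p, x ≠ 0 → tab p dl z a1 ag x * x = a1) ∧ (-a1) ^ ((p - 1) / 2) = 1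

instance (p : ℕ) [NeZero p] (g : ZMod p) (dl : List ℕ) : Decidable (DlogOK p g dl) := by
  unfold DlogOK; infer_instance

instance (p : ℕ) [NeZero p] (g : ZMod p) (dl : List ℕ) (zbad : ZMod p) :
    Decidable (ArithCheck p g dl zbad) := by
  unfold ArithCheck; infer_instance

theorem arith_main {p : ℕ} [Fact p.Prime] (g : ZMod p) (dl : List ℕ) (zbad : ZMod p)
    (hg : g ≠ 0) (hdl : DlogOK p g dl) (hchk : ArithCheck p g dl zbad)
    (τ : ZMod p → ZMod p) (hτ0 : ∀ x, x ≠ 0 → τ x ≠ 0) (hnorm : τ 1 = -1 ∨ τ 1 = -g)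
    (z : ZMod p) (hz : z ^ ((p - 1) / 2) = 1) (hzbad : z ≠ zbad)
    (hequiv : ∀ x, x ≠ 0 → τ (g ^ 2 * x) = z * τ x)
    (s c : ZMod p) (hs : s ^ ((p - 1) / 2) = 1)
    (hid : ∀ X, hat τ (addP 1 (hat τ X)) = addP (τ 1) (hat τ (affP s c X))) :
    (∀ x, x ≠ 0 → τ x * x = τ 1) ∧ (- τ 1) ^ ((p - 1) / 2) = 1 := by
  have hgi : ∀ i : ℕ, g ^ i ≠ 0 := fun i => pow_ne_zero i hg
  -- the values of `τ` on the powers of `g`
  have hpow : ∀ i : ℕ, τ (g ^ i) = z ^ (i / 2) * (if i % 2 = 0 then τ 1 else τ g) ∧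
      τ (g ^ (i + 1)) = z ^ ((i + 1) / 2) * (if (i + 1) % 2 = 0 then τ 1 else τ g) := by
    intro i
    induction i with
    | zero => simp
    | succ i ih =>
      refine ⟨ih.2, ?_⟩
      have h1 : g ^ (i + 1 + 1) = g ^ 2 * g ^ i := by ring
      rw [h1, hequiv _ (hgi i), ih.1]
      have h2 : (i + 1 + 1) / 2 = i / 2 + 1 := by omega
      have h3 : (i + 1 + 1) % 2 = i % 2 := by omega
      rw [h2, h3, pow_succ]
      ring
  have htab : ∀ x, x ≠ 0 → τ x = tab p dl z (τ 1) (τ g) x := by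
    intro x hx
    have h1 := hdl x hx
    conv_lhs => rw [← h1]
    rw [(hpow _).1]
    rfl
  have hhat : hat τ = hat (tab p dl z (τ 1) (τ g)) := by
    funext X
    rcases X with _ | x
    · rfl
    · by_cases hx : x = 0
      · subst hx; simp
      · rw [hat_of_ne _ hx, hat_of_ne _ hx, htab x hx]
  -- the relation at `0`
  have h0 := hid (some 0)
  simp only [hat_zero, addP_none, hat_none, affP_some, mul_zero, zero_add] at h0
  have hc0 : c ≠ 0 := by
    rintro rfl
    simp at h0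
  rw [hat_of_ne _ hc0, addP_some] at h0
  have hc : tab p dl z (τ 1) (τ g) c = - τ 1 := by
    rw [← htab c hc0]
    have h1 : (0 : ZMod p) = τ 1 + τ c := Option.some.inj h0
    exact eq_neg_of_add_eq_zero_right h1.symm
  rw [hhat] at hid
  have hres := hchk z hz hzbad (τ 1) hnorm (τ g) (hτ0 g hg) c hc s hs hid
  refine ⟨fun x hx => ?_, hres.2⟩
  rw [htab x hx]
  exact hres.1 x hx

end Cfsg.Agent.Lib.Helper9_PSLRecog
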