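import Mathlib
import Cfsg.Agent.Lib.Helper9_PSLRecog3

/-!
Recognition of `PSL(2,p)`, part 4: the inversion `x ↦ -1/x` is induced by an element of the group.
-/

set_option autoImplicit false
set_option linter.unusedSectionVars false
set_option linter.unusedVariables false

open scoped Pointwise

namespace Cfsg.Agent.Lib.Helper9_PSLRecog

variable {G : Type*} [Group G] [Finite G] {p : ℕ} [Fact p.Prime]

theorem two_mul_half (hp2 : p ≠ 2) : 2 * ((p - 1) / 2) = p - 1 := by
  have hpr : p.Prime := Fact.out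
  rcases hpr.eq_two_or_odd' with h | h
  · exact absurd h hp2
  · obtain ⟨k, hk⟩ := h
    subst hk
    omega

theorem sq_pow_half (hp2 : p ≠ 2) {g : ZMod p} (hg : g ≠ 0) : (g ^ 2) ^ ((p - 1) / 2) = 1 := by
  rw [← pow_mul, two_mul_half hp2]
  exact ZMod.pow_card_sub_one_eq_one hg

theorem pow_half_eq (hp2 : p ≠ 2) {x : ZMod p} (hx : x ≠ 0) :
    x ^ ((p - 1) / 2) = 1 ∨ x ^ ((p - 1) / 2) = -1 := by
  have h1 : (x ^ ((p - 1) / 2)) ^ 2 = 1 := by
    rw [← pow_mul, mul_comm, two_mul_half hp2]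
    exact ZMod.pow_card_sub_one_eq_one hx
  have h2 : (x ^ ((p - 1) / 2) - 1) * (x ^ ((p - 1) / 2) + 1) = 0 := by
    have : (x ^ ((p - 1) / 2) - 1) * (x ^ ((p - 1) / 2) + 1) = (x ^ ((p - 1) / 2)) ^ 2 - 1 := by
      ring
    rw [this, h1, sub_self]
  rcases mul_eq_zero.mp h2 with h | h
  · exact Or.inl (sub_eq_zero.mp h)
  · exact Or.inr (eq_neg_of_add_eq_zero_left h)

/-- An element interchanging `P` and `O` moves the other points among themselves. -/
theorem exists_tau {P O : Sylow p G} {u : G}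
    (hP : Nat.card (P : Subgroup G) = p) (hu : u ∈ (P : Subgroup G))
    (hu1 : u ≠ 1) (hOP : O ≠ P) (hS : Nat.card (Sylow p G) = p + 1)
    {t : G} (htP : t • P = O) (htO : t • O = P) (x : ZMod p) (hx : x ≠ 0) :
    ∃ y : ZMod p, y ≠ 0 ∧ t • beta P O u (some x) = beta P O u (some y) := by
  have hbij := beta_bijective hP hu hu1 hOP hS
  have hinj := hbij.1
  have hβ0 : beta P O u (some 0) = O := beta_zero P O u
  obtain ⟨Y, hY⟩ := hbij.2 (t • beta P O u (some x))
  rcases Y with _ | y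
  · exfalso
    have h1 : t • O = t • beta P O u (some x) := htO.trans hY
    have h2 : beta P O u (some 0) = beta P O u (some x) := by
      rw [hβ0]; exact MulAction.injective t h1
    exact hx (Option.some.inj (hinj h2)).symm
  · refine ⟨y, ?_, hY.symm⟩
    rintro rfl
    have h1 : t • P = t • beta P O u (some x) := by rw [htP, ← hY, hβ0]
    have h2 : beta P O u none = beta P O u (some x) := MulAction.injective t h1
    exact absurd (hinj h2) (by simp)

/-- There is an element interchanging `P` and `O` and sending `1` to `-1` or to `-g`. -/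
theorem exists_swap_normalized {P O : Sylow p G} {u : G}
    (hP : Nat.card (P : Subgroup G) = p) (hu : u ∈ (P : Subgroup G))
    (hu1 : u ≠ 1) (hOP : O ≠ P) (hS : Nat.card (Sylow p G) = p + 1)
    (hF : ∀ g : G, (∀ Q : Sylow p G, g • Q = Q) → g = 1)
    (hN : Nat.card (Subgroup.normalizer ((P : Subgroup G) : Set G)) = p * ((p - 1) / 2))
    (hp2 : p ≠ 2) (g : ZMod p) (hg : g ≠ 0) (hgm : g ^ ((p - 1) / 2) ≠ 1) :
    ∃ t : G, t • P = O ∧ t • O = P ∧ ∃ y : ZMod p, (y = -1 ∨ y = -g) ∧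
      t • beta P O u (some 1) = beta P O u (some y) := by
  have hβ0 : beta P O u (some 0) = O := beta_zero P O u
  obtain ⟨t, htP, htO⟩ := exists_swap hP hOP hS
  obtain ⟨y0, hy0, hty0⟩ := exists_tau hP hu hu1 hOP hS htP htO 1 one_ne_zero
  have hgm' : g ^ ((p - 1) / 2) = -1 := (pow_half_eq hp2 hg).resolve_left hgm
  -- the multiplier of the correcting diagonal element
  obtain ⟨s, hs, hsy⟩ : ∃ s : ZMod p, s ^ ((p - 1) / 2) = 1 ∧ (s * y0 = -1 ∨ s * y0 = -g) := by
    have hy0' : -y0⁻¹ ≠ 0 := neg_ne_zero.mpr (inv_ne_zero hy0)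
    rcases pow_half_eq hp2 hy0' with h | h
    · refine ⟨-y0⁻¹, h, Or.inl ?_⟩
      rw [neg_mul, inv_mul_cancel₀ hy0]
    · refine ⟨g * -y0⁻¹, ?_, Or.inr ?_⟩
      · rw [mul_pow, hgm', h]; ring
      · rw [mul_assoc, neg_mul, inv_mul_cancel₀ hy0]; ring
  obtain ⟨h, hh⟩ := exists_isAff_of_pow_eq_one (b := 0) hP hu hu1 hOP hS hF hN hs
  have hhO : h • O = O := by
    have := hh (some 0)
    simpa [hβ0] using this
  refine ⟨h * t, ?_, ?_, s * y0, hsy, ?_⟩
  · rw [mul_smul, htP, hhO]
  · rw [mul_smul, htO, hh.smul_P]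
  · rw [mul_smul, hty0, hh (some y0), affP_some, add_zero]

/-- The inversion `x ↦ -1/x` of the projective line is induced by an element of `G`. -/
theorem exists_inversion {P O : Sylow p G} {u : G}
    (hP : Nat.card (P : Subgroup G) = p) (hu : u ∈ (P : Subgroup G))
    (hu1 : u ≠ 1) (hOP : O ≠ P) (hS : Nat.card (Sylow p G) = p + 1)
    (hF : ∀ g : G, (∀ Q : Sylow p G, g • Q = Q) → g = 1)
    (hN : Nat.card (Subgroup.normalizer ((P : Subgroup G) : Set G)) = p * ((p - 1) / 2))
    (hp2 : p ≠ 2) (g : ZMod p) (dl : List ℕ) (zbad : ZMod p)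
    (hg : g ≠ 0) (hgm : g ^ ((p - 1) / 2) ≠ 1) (hdl : DlogOK p g dl)
    (hchk : ArithCheck p g dl zbad)
    (hbad : ∀ (t h0 : G) (z : ZMod p), t • P = O → t • O = P → IsAff P O u h0 (g ^ 2) 0 →
      IsAff P O u (t * h0 * t⁻¹) z 0 → z ≠ zbad) :
    ∃ w : G, w • P = O ∧ w • O = P ∧
      ∀ x : ZMod p, x ≠ 0 → w • beta P O u (some x) = beta P O u (some (-x⁻¹)) := by
  have hvp := pow_prime_eq_one hP hu
  have hbij := beta_bijective hP hu hu1 hOP hS
  have hinj := hbij.1
  have hβ0 : beta P O u (some 0) = O := beta_zero P O u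
  obtain ⟨t, htP, htO, y1, hy1, hty1⟩ :=
    exists_swap_normalized hP hu hu1 hOP hS hF hN hp2 g hg hgm
  have htO' : t⁻¹ • P = O := by rw [inv_smul_eq_iff, htO]
  have htP' : t⁻¹ • O = P := by rw [inv_smul_eq_iff, htP]
  -- the map induced by `t` on the nonzero residues
  have hex : ∀ x : ZMod p, x ≠ 0 → ∃ y : ZMod p, y ≠ 0 ∧
      t • beta P O u (some x) = beta P O u (some y) :=
    fun x hx => exists_tau hP hu hu1 hOP hS htP htO x hx
  choose! τ hτ0 hτ using hex
  have hnorm : τ 1 = -1 ∨ τ 1 = -g := by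
    have h1 : τ 1 = y1 := Option.some.inj (hinj ((hτ 1 one_ne_zero).symm.trans hty1))
    rw [h1]; exact hy1
  have hthat : ∀ X, t • beta P O u X = beta P O u (hat τ X) := by
    intro X
    rcases X with _ | x
    · rw [beta_none, hat_none, hβ0, htP]
    · by_cases hx : x = 0
      · subst hx
        rw [hat_zero, hβ0, beta_none, htO]
      · rw [hat_of_ne _ hx, hτ x hx]
  -- the generator of the two point stabilizer
  obtain ⟨h0, hh0⟩ := exists_isAff_of_pow_eq_one (b := 0) hP hu hu1 hOP hS hF hN (sq_pow_half hp2 hg)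
  have hh0O : h0 • O = O := by
    have := hh0 (some 0)
    simpa [hβ0] using this
  have hh1P : (t * h0 * t⁻¹) • P = P := by
    rw [mul_smul, mul_smul, htO', hh0O, htO]
  have hh1O : (t * h0 * t⁻¹) • O = O := by
    rw [mul_smul, mul_smul, htP', hh0.smul_P, htP]
  obtain ⟨z, c1, hz0, hh1⟩ := exists_isAff hP hu hu1 hOP hS hh1P
  have hc1 : c1 = 0 := by
    have h1 := hh1 (some 0)
    rw [hβ0, hh1O, affP_some, mul_zero, zero_add] at h1
    have h2 : beta P O u (some 0) = beta P O u (some c1) := by rw [hβ0]; exact h1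
    exact (Option.some.inj (hinj h2)).symm
  subst hc1
  have hz := hh1.pow_eq_one hP hu hu1 hOP hN
  have hzbad := hbad t h0 z htP htO hh0 hh1
  have hequiv : ∀ x, x ≠ 0 → τ (g ^ 2 * x) = z * τ x := by
    intro x hx
    have hgx : g ^ 2 * x ≠ 0 := mul_ne_zero (pow_ne_zero 2 hg) hx
    have e1 : t • h0 • beta P O u (some x) = beta P O u (some (τ (g ^ 2 * x))) := by
      rw [hh0 (some x), affP_some, add_zero, hτ _ hgx]
    have e2 : (t * h0 * t⁻¹) • t • beta P O u (some x) = beta P O u (some (z * τ x)) := by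
      rw [hτ x hx, hh1 (some (τ x)), affP_some, add_zero]
    have e3 : t • h0 • beta P O u (some x) = (t * h0 * t⁻¹) • t • beta P O u (some x) := by
      rw [← mul_smul, ← mul_smul]; congr 1; group
    exact Option.some.inj (hinj (e1.symm.trans (e3.trans e2)))
  -- the relation `t u t ∈ U t N`
  have husmul : ∀ X, u • beta P O u X = beta P O u (addP 1 X) := by
    intro X
    have h1 := phi_smul_beta (O := O) hP hu 1 X
    rwa [phi_one] at h1
  have hτ1 : τ 1 ≠ 0 := hτ0 1 one_ne_zero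
  have hyP : (t * u * t) • P = beta P O u (some (τ 1)) := by
    rw [mul_smul, mul_smul, htP, ← hτ 1 one_ne_zero]
    congr 1
    have h1 := husmul (some 0)
    rwa [hβ0, addP_some, add_zero] at h1
  have hnP : (t⁻¹ * phi u (-(τ 1)) * (t * u * t)) • P = P := by
    rw [mul_smul, mul_smul (t⁻¹), hyP, phi_smul_beta hP hu, addP_some, neg_add_cancel, hβ0, htP']
  obtain ⟨s, c, hs0, hn⟩ := exists_isAff hP hu hu1 hOP hS hnP
  have hs := hn.pow_eq_one hP hu hu1 hOP hN
  have hid : ∀ X, hat τ (addP 1 (hat τ X)) = addP (τ 1) (hat τ (affP s c X)) := by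
    intro X
    apply hinj
    have e1 : (t * u * t) • beta P O u X = beta P O u (hat τ (addP 1 (hat τ X))) := by
      rw [mul_smul, mul_smul, hthat, husmul, hthat]
    have e2 : (phi u (τ 1) * t * (t⁻¹ * phi u (-(τ 1)) * (t * u * t))) • beta P O u X =
        beta P O u (addP (τ 1) (hat τ (affP s c X))) := by
      rw [mul_smul, mul_smul, hn X, hthat, phi_smul_beta hP hu]
    have e3 : phi u (τ 1) * t * (t⁻¹ * phi u (-(τ 1)) * (t * u * t)) = t * u * t := by
      rw [phi_neg hvp]; group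
    rw [e3] at e2
    exact e1.symm.trans e2
  obtain ⟨hmain, hneg⟩ := arith_main g dl zbad hg hdl hchk τ hτ0 hnorm z hz hzbad hequiv s c hs hid
  -- adjust by a diagonal element
  have hneg' : ((-(τ 1))⁻¹) ^ ((p - 1) / 2) = 1 := by rw [inv_pow, hneg, inv_one]
  obtain ⟨h, hh⟩ := exists_isAff_of_pow_eq_one (b := 0) hP hu hu1 hOP hS hF hN hneg'
  have hhO : h • O = O := by
    have := hh (some 0)
    simpa [hβ0] using this
  refine ⟨h * t, ?_, ?_, ?_⟩
  · rw [mul_smul, htP, hhO]
  · rw [mul_smul, htO, hh.smul_P]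
  · intro x hx
    rw [mul_smul, hτ x hx, hh (some (τ x)), affP_some, add_zero]
    congr 2
    have h1 := hmain x hx
    have h2 : τ x = τ 1 * x⁻¹ := by
      rw [← h1, mul_assoc, mul_inv_cancel₀ hx, mul_one]
    rw [h2]
    field_simp

end Cfsg.Agent.Lib.Helper9_PSLRecog
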