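import Mathlib
import Cfsg.Agent.Lib.Helper9_PSLRecog4
import Cfsg.Agent.Lib.Helper5_SLGen
import Cfsg.Agent.Lib.Helper35_PSL2Card
import Cfsg.Agent.Lib.Helper61_TableHom

/-!
Recognition of `PSL(2,p)`, part 5: from the coordinates to the isomorphism.
-/

set_option autoImplicit false
set_option linter.unusedSectionVars false
set_option linter.unusedVariables false
set_option linter.unusedSimpArgs false

open scoped Pointwise

namespace Cfsg.Agent.Lib.Helper9_PSLRecog

open Matrix

section SL
variable {F : Type*} [Field F] [DecidableEq F]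

/-- The action of `SL(2,F)` on the projective line. -/
def slSmul (A : SpecialLinearGroup (Fin 2) F) (X : Option F) : Option F :=
  @HSMul.hSMul (GL (Fin 2) F) (OnePoint F) (OnePoint F) _ (SpecialLinearGroup.toGL A) X

theorem slSmul_mul (A B : SpecialLinearGroup (Fin 2) F) (X : Option F) :
    slSmul (A * B) X = slSmul A (slSmul B X) := by
  unfold slSmul
  rw [map_mul]
  exact @mul_smul (GL (Fin 2) F) (OnePoint F) _ _ _ _ X

theorem slSmul_one (X : Option F) : slSmul (1 : SpecialLinearGroup (Fin 2) F) X = X := by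
  unfold slSmul
  rw [map_one]
  exact @one_smul (GL (Fin 2) F) (OnePoint F) _ _ X

theorem slSmul_none (A : SpecialLinearGroup (Fin 2) F) :
    slSmul A none = if A 1 0 = 0 then none else some (A 0 0 / A 1 0) :=
  OnePoint.smul_infty_eq_ite _

theorem slSmul_some (A : SpecialLinearGroup (Fin 2) F) (k : F) :
    slSmul A (some k) = if A 1 0 * k + A 1 1 = 0 then none
      else some ((A 0 0 * k + A 0 1) / (A 1 0 * k + A 1 1)) :=
  OnePoint.smul_some_eq_ite

/-- The Weyl element `x ↦ -1/x`. -/
def wS : SpecialLinearGroup (Fin 2) F :=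
  ⟨!![0, -1; 1, 0], by simp [Matrix.det_fin_two]⟩

theorem wS_coe : ((wS : SpecialLinearGroup (Fin 2) F) : Matrix (Fin 2) (Fin 2) F) = !![0, -1; 1, 0] :=
  rfl

theorem slSmul_wS_none : slSmul (wS : SpecialLinearGroup (Fin 2) F) none = some 0 := by
  rw [slSmul_none]
  simp [wS]

theorem slSmul_wS_zero : slSmul (wS : SpecialLinearGroup (Fin 2) F) (some 0) = none := by
  rw [slSmul_some]
  simp [wS]

theorem slSmul_wS_some {x : F} (hx : x ≠ 0) :
    slSmul (wS : SpecialLinearGroup (Fin 2) F) (some x) = some (-x⁻¹) := by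
  rw [slSmul_some]
  simp [wS, hx, neg_div]

theorem transvection_upper_coe (b : F) :
    ((SpecialLinearGroup.transvection (show (0 : Fin 2) ≠ 1 by decide) b :
      SpecialLinearGroup (Fin 2) F) : Matrix (Fin 2) (Fin 2) F) = !![1, b; 0, 1] := by
  rw [Matrix.SpecialLinearGroup.transvection_coe]
  ext i j
  fin_cases i <;> fin_cases j <;> simp [Matrix.transvection, Matrix.single_apply]

theorem transvection_lower_coe (b : F) :
    ((SpecialLinearGroup.transvection (show (1 : Fin 2) ≠ 0 by decide) b :
      SpecialLinearGroup (Fin 2) F) : Matrix (Fin 2) (Fin 2) F) = !![1, 0; b, 1] := by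
  rw [Matrix.SpecialLinearGroup.transvection_coe]
  ext i j
  fin_cases i <;> fin_cases j <;> simp [Matrix.transvection, Matrix.single_apply]

theorem transvection_lower_eq (b : F) :
    (SpecialLinearGroup.transvection (show (1 : Fin 2) ≠ 0 by decide) b :
      SpecialLinearGroup (Fin 2) F)
      = wS * SpecialLinearGroup.transvection (show (0 : Fin 2) ≠ 1 by decide) (-b) *
          (wS * wS * wS) := by
  have h : ((SpecialLinearGroup.transvection (show (1 : Fin 2) ≠ 0 by decide) b :
      SpecialLinearGroup (Fin 2) F) : Matrix (Fin 2) (Fin 2) F)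
      = ((wS * SpecialLinearGroup.transvection (show (0 : Fin 2) ≠ 1 by decide) (-b) *
          (wS * wS * wS) :
        SpecialLinearGroup (Fin 2) F) : Matrix (Fin 2) (Fin 2) F) := by
    rw [Matrix.SpecialLinearGroup.coe_mul, Matrix.SpecialLinearGroup.coe_mul,
      Matrix.SpecialLinearGroup.coe_mul, Matrix.SpecialLinearGroup.coe_mul,
      transvection_upper_coe, transvection_lower_coe, wS_coe, Matrix.mul_fin_two,
      Matrix.mul_fin_two, Matrix.mul_fin_two, Matrix.mul_fin_two]
    simp
  exact Subtype.ext h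

theorem slSmul_upper_none (b : F) :
    slSmul (SpecialLinearGroup.transvection (show (0 : Fin 2) ≠ 1 by decide) b) none = none := by
  rw [slSmul_none]
  simp [Matrix.SpecialLinearGroup.transvection_coe, Matrix.transvection, Matrix.single_apply]

theorem slSmul_upper_some (b x : F) :
    slSmul (SpecialLinearGroup.transvection (show (0 : Fin 2) ≠ 1 by decide) b) (some x)
      = some (b + x) := by
  rw [slSmul_some]
  simp [Matrix.SpecialLinearGroup.transvection_coe, Matrix.transvection, Matrix.single_apply,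
    add_comm]

/-- A matrix acting trivially on the projective line is scalar. -/
theorem mem_center_of_slSmul (A : SpecialLinearGroup (Fin 2) F)
    (h : ∀ X, slSmul A X = X) : A ∈ Subgroup.center (SpecialLinearGroup (Fin 2) F) := by
  have h10 : A 1 0 = 0 := by
    have := h none
    rw [slSmul_none] at this
    by_contra hne
    rw [if_neg hne] at this
    exact Option.some_ne_none _ this
  have h0 := h (some 0)
  rw [slSmul_some, h10] at h0
  simp only [mul_zero, zero_add] at h0
  have h11 : A 1 1 ≠ 0 := by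
    intro h11
    rw [if_pos h11] at h0
    exact Option.some_ne_none _ h0.symm
  rw [if_neg h11] at h0
  have h01 : A 0 1 = 0 := by
    have := Option.some.inj h0
    rcases div_eq_zero_iff.mp this with h | h
    · exact h
    · exact absurd h h11
  have h1 := h (some 1)
  rw [slSmul_some, h10, h01] at h1
  simp only [mul_one, zero_add, add_zero] at h1
  rw [if_neg h11] at h1
  have h00 : A 0 0 = A 1 1 := by
    have := Option.some.inj h1
    exact (div_eq_one_iff_eq h11).mp this
  rw [Matrix.SpecialLinearGroup.mem_center_iff]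
  refine ⟨A 1 1, ?_, ?_⟩
  · have hdet := A.det_coe
    rw [Matrix.det_fin_two, h10, h01, h00] at hdet
    simp only [Fintype.card_fin]
    rw [sq]
    simpa using hdet
  · ext i j
    fin_cases i <;> fin_cases j <;> simp [h10, h01, h00, Matrix.scalar_apply]

theorem slSmul_of_mem_center (A : SpecialLinearGroup (Fin 2) F)
    (hA : A ∈ Subgroup.center (SpecialLinearGroup (Fin 2) F)) (X : Option F) :
    slSmul A X = X := by
  rw [Matrix.SpecialLinearGroup.mem_center_iff] at hA
  obtain ⟨r, hr, hrA⟩ := hA
  have hr0 : r ≠ 0 := by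
    rintro rfl
    simp at hr
  have h00 : A 0 0 = r := by rw [← hrA]; simp [Matrix.scalar_apply]
  have h01 : A 0 1 = 0 := by rw [← hrA]; simp [Matrix.scalar_apply]
  have h10 : A 1 0 = 0 := by rw [← hrA]; simp [Matrix.scalar_apply]
  have h11 : A 1 1 = r := by rw [← hrA]; simp [Matrix.scalar_apply]
  rcases X with _ | x
  · rw [slSmul_none, h10]; simp
  · rw [slSmul_some, h10, h11, h00, h01]
    simp [hr0]

end SL

section Main

variable {G : Type*} [Group G] [Finite G] {p : ℕ} [Fact p.Prime]

theorem card_normalizer_of_card {P : Sylow p G} (hS : Nat.card (Sylow p G) = p + 1)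
    (hG : Nat.card G = (p + 1) * p * ((p - 1) / 2)) :
    Nat.card (Subgroup.normalizer ((P : Subgroup G) : Set G)) = p * ((p - 1) / 2) := by
  have h1 := (Subgroup.normalizer ((P : Subgroup G) : Set G)).index_mul_card
  have h0 : Nat.card (Sylow p G) = (Subgroup.normalizer ((P : Subgroup G) : Set G)).index :=
    P.card_eq_index_normalizer
  rw [← h0, hS, hG, mul_assoc] at h1
  exact Nat.eq_of_mul_eq_mul_left (Nat.succ_pos p) h1

theorem two_ne_zero_zmod (hp2 : p ≠ 2) : (2 : ZMod p) ≠ 0 := by
  intro h
  have h1 : ((2 : ℕ) : ZMod p) = 0 := by exact_mod_cast h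
  rw [ZMod.natCast_eq_zero_iff] at h1
  have hpr : p.Prime := Fact.out
  have := Nat.le_of_dvd (by norm_num) h1
  have := hpr.two_le
  omega

/-- The recognition theorem: a group of order `p(p^2-1)/2` acting faithfully on its `p+1` Sylow
`p`-subgroups, for which the arithmetic check holds, is `PSL(2,p)`. -/
theorem nonempty_mulEquiv_PSL {P O : Sylow p G} {u : G}
    (hP : Nat.card (P : Subgroup G) = p) (hu : u ∈ (P : Subgroup G))
    (hu1 : u ≠ 1) (hOP : O ≠ P) (hS : Nat.card (Sylow p G) = p + 1)
    (hF : ∀ g : G, (∀ Q : Sylow p G, g • Q = Q) → g = 1)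
    (hG : Nat.card G = (p + 1) * p * ((p - 1) / 2))
    (hp2 : p ≠ 2) (g : ZMod p) (dl : List ℕ) (zbad : ZMod p)
    (hg : g ≠ 0) (hgm : g ^ ((p - 1) / 2) ≠ 1) (hdl : DlogOK p g dl)
    (hchk : ArithCheck p g dl zbad)
    (hbad : ∀ (t h0 : G) (z : ZMod p), t • P = O → t • O = P → IsAff P O u h0 (g ^ 2) 0 →
      IsAff P O u (t * h0 * t⁻¹) z 0 → z ≠ zbad) :
    Nonempty (G ≃* ProjectiveSpecialLinearGroup (Fin 2) (ZMod p)) := by
  have hN := card_normalizer_of_card (P := P) hS hG
  obtain ⟨w, hwP, hwO, hw⟩ :=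
    exists_inversion hP hu hu1 hOP hS hF hN hp2 g dl zbad hg hgm hdl hchk hbad
  have hbij := beta_bijective hP hu hu1 hOP hS
  have hβ0 : beta P O u (some 0) = O := beta_zero P O u
  have hmul : ∀ A B : SpecialLinearGroup (Fin 2) (ZMod p),
      (∃ g : G, ∀ X, g • beta P O u X = beta P O u (slSmul A X)) →
      (∃ g : G, ∀ X, g • beta P O u X = beta P O u (slSmul B X)) →
      ∃ g : G, ∀ X, g • beta P O u X = beta P O u (slSmul (A * B) X) := by
    rintro A B ⟨gA, hA⟩ ⟨gB, hB⟩
    exact ⟨gA * gB, fun X => by rw [mul_smul, hB, hA, slSmul_mul]⟩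
  have hupper : ∀ b : ZMod p, ∃ g : G, ∀ X, g • beta P O u X
      = beta P O u (slSmul (SpecialLinearGroup.transvection (show (0 : Fin 2) ≠ 1 by decide) b) X) := by
    intro b
    refine ⟨phi u b, fun X => ?_⟩
    rw [phi_smul_beta hP hu]
    rcases X with _ | x
    · rw [slSmul_upper_none, addP_none]
    · rw [slSmul_upper_some, addP_some]
  have hwS : ∃ g : G, ∀ X, g • beta P O u X
      = beta P O u (slSmul (wS : SpecialLinearGroup (Fin 2) (ZMod p)) X) := by
    refine ⟨w, fun X => ?_⟩
    rcases X with _ | x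
    · rw [slSmul_wS_none, beta_none, hβ0, hwP]
    · by_cases hx : x = 0
      · subst hx
        rw [slSmul_wS_zero, hβ0, beta_none, hwO]
      · rw [slSmul_wS_some hx, hw x hx]
  have hall : ∀ A : SpecialLinearGroup (Fin 2) (ZMod p),
      ∃ g : G, ∀ X, g • beta P O u X = beta P O u (slSmul A X) := by
    intro A
    refine Cfsg.Agent.Lib.Helper5_SLGen.transvection_induction
      (fun A => ∃ g : G, ∀ X, g • beta P O u X = beta P O u (slSmul A X)) ?_ hmul A
    intro i j hij b
    fin_cases i <;> fin_cases j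
    · exact absurd rfl hij
    · exact hupper b
    · have := transvection_lower_eq (F := ZMod p) b
      simp only [Fin.mk_one, Fin.zero_eta, Fin.isValue] at this ⊢
      rw [this]
      exact hmul _ _ (hmul _ _ hwS (hupper (-b))) (hmul _ _ (hmul _ _ hwS hwS) hwS)
    · exact absurd rfl hij
  have hfaith : ∀ g g' : G, (∀ X, g • beta P O u X = g' • beta P O u X) → g = g' := by
    intro g g' h
    have h1 : ∀ Q : Sylow p G, (g'⁻¹ * g) • Q = Q := by
      intro Q
      obtain ⟨X, rfl⟩ := hbij.2 Q
      rw [mul_smul, h X, inv_smul_smul]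
    have h2 := hF _ h1
    exact (inv_mul_eq_one.mp h2).symm
  choose f hf using hall
  let φ : SpecialLinearGroup (Fin 2) (ZMod p) →* G :=
    { toFun := f
      map_one' := by
        apply hfaith
        intro X
        rw [hf, slSmul_one, one_smul]
      map_mul' := by
        intro A B
        apply hfaith
        intro X
        rw [hf, mul_smul, hf B, hf A, slSmul_mul] }
  have hφ : ∀ A X, φ A • beta P O u X = beta P O u (slSmul A X) := hf
  have hker : φ.ker = Subgroup.center (SpecialLinearGroup (Fin 2) (ZMod p)) := by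
    ext A
    rw [MonoidHom.mem_ker]
    constructor
    · intro hA
      apply mem_center_of_slSmul
      intro X
      apply hbij.1
      rw [← hφ, hA, one_smul]
    · intro hA
      apply hfaith
      intro X
      rw [hφ, slSmul_of_mem_center A hA, one_smul]
  have hsurj : Function.Surjective φ := by
    rw [← MonoidHom.range_eq_top]
    apply Subgroup.eq_top_of_card_eq
    have h1 := Cfsg.Agent.Lib.Helper35_PSL2Card.card_SL2_mul (F := ZMod p)
    rw [ZMod.card] at h1
    have h2 := Subgroup.card_eq_card_quotient_mul_card_subgroup φ.ker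
    have h3 : Nat.card (SpecialLinearGroup (Fin 2) (ZMod p) ⧸ φ.ker) = Nat.card φ.range :=
      Nat.card_congr (QuotientGroup.quotientKerEquivRange φ).toEquiv
    have h4 : Nat.card φ.ker = 2 := by
      rw [hker, Cfsg.Agent.Lib.Helper35_PSL2Card.card_center_SL2,
        Cfsg.Agent.Lib.Helper35_PSL2Card.card_rootsOfUnity_two_of_ne (two_ne_zero_zmod hp2)]
    rw [h3, h4] at h2
    rw [h2] at h1
    rw [hG]
    obtain ⟨r, hr⟩ : ∃ r, Nat.card φ.range = r := ⟨_, rfl⟩
    rw [hr] at h1 ⊢
    clear h2 h3 h4 hr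
    have h5 := two_mul_half hp2
    obtain ⟨m, hm⟩ : ∃ m, (p - 1) / 2 = m := ⟨_, rfl⟩
    rw [hm] at h5 ⊢
    have hpr : p.Prime := Fact.out
    have hp1 : p = 2 * m + 1 := by have := hpr.two_le; omega
    rw [hp1] at h1 ⊢
    have hm0 : 0 < m := by have := hpr.two_le; omega
    have e1 : 2 * m + 1 - 1 = 2 * m := by omega
    have e2 : (2 * m + 1) ^ 2 - 1 = 4 * m * m + 4 * m := by
      have : (2 * m + 1) ^ 2 = 4 * m * m + 4 * m + 1 := by ring
      omega
    have e3 : (2 * m + 1) ^ 2 - (2 * m + 1) = (2 * m + 1) * (2 * m) := by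
      have : (2 * m + 1) ^ 2 = (2 * m + 1) * (2 * m) + (2 * m + 1) := by ring
      omega
    rw [e1, e2, e3] at h1
    have h6 : r * (4 * m) = ((2 * m + 1 + 1) * (2 * m + 1) * m) * (4 * m) := by
      calc r * (4 * m) = r * 2 * (2 * m) := by ring
        _ = (4 * m * m + 4 * m) * ((2 * m + 1) * (2 * m)) := h1
        _ = ((2 * m + 1 + 1) * (2 * m + 1) * m) * (4 * m) := by ring
    exact Nat.eq_of_mul_eq_mul_right (by omega) h6
  exact ⟨(Cfsg.Agent.Lib.Helper61_TableHom.pslEquivOfKer φ hker hsurj).symm⟩

end Main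

end Cfsg.Agent.Lib.Helper9_PSLRecog
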