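import Mathlib
import Cfsg.Agent.Lib.Helper9_PSLRecog5

/-!
Recognition of `PSL(2,p)`, part 6: simple groups of order `p(p^2-1)/2`.
-/

set_option autoImplicit false
set_option linter.unusedSectionVars false
set_option linter.unusedVariables false

open scoped Pointwise

namespace Cfsg.Agent.Lib.Helper9_PSLRecog

open Matrix

variable {G : Type*} [Group G] [Finite G] {p : ℕ} [Fact p.Prime]

theorem IsAff.ne_zero {P O : Sylow p G} {u : G}
    (hP : Nat.card (P : Subgroup G) = p) (hu : u ∈ (P : Subgroup G))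
    (hu1 : u ≠ 1) (hOP : O ≠ P) {n : G} {s b : ZMod p} (h : IsAff P O u n s b) : s ≠ 0 := by
  rintro rfl
  have hinj := beta_injective hP hu hu1 hOP
  have h0 := h (some 0)
  have h1 := h (some 1)
  simp only [affP_some, zero_mul, zero_add] at h0 h1
  have h2 : beta P O u (some 0) = beta P O u (some 1) :=
    MulAction.injective n (h0.trans h1.symm)
  have h3 : (0 : ZMod p) = 1 := Option.some.inj (hinj h2)
  exact zero_ne_one h3

theorem factorization_prime_mul {q c : ℕ} (hq : q.Prime) (hc : ¬ q ∣ c) (hc0 : c ≠ 0) :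
    (q * c).factorization q = 1 := by
  rw [Nat.factorization_mul hq.ne_zero hc0]
  simp [hq.factorization_self, Nat.factorization_eq_zero_of_not_dvd hc]

theorem half_lt (hp2 : p ≠ 2) : 0 < (p - 1) / 2 ∧ (p - 1) / 2 < p := by
  have hpr : p.Prime := Fact.out
  have := hpr.two_le
  omega

theorem not_dvd_cofactor (hp2 : p ≠ 2) : ¬ p ∣ (p + 1) * ((p - 1) / 2) := by
  have hpr : p.Prime := Fact.out
  intro h
  rcases hpr.dvd_mul.mp h with h1 | h1
  · have : p ∣ 1 := (Nat.dvd_add_right (dvd_refl p)).mp h1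
    exact hpr.one_lt.ne' (Nat.dvd_one.mp this)
  · obtain ⟨h2, h3⟩ := half_lt (p := p) hp2
    exact absurd (Nat.le_of_dvd h2 h1) (not_le.mpr h3)

/-- The setting of the recognition theorem holds in a simple group of order `p(p^2-1)/2`
whose order admits only `p+1` as number of Sylow `p`-subgroups. -/
theorem exists_setting [IsSimpleGroup G] (hp2 : p ≠ 2)
    (hG : Nat.card G = (p + 1) * p * ((p - 1) / 2))
    (hdiv : ∀ d, d ∣ (p + 1) * ((p - 1) / 2) → d % p = 1 → d = 1 ∨ d = p + 1) :
    ∃ (P O : Sylow p G) (u : G), Nat.card (P : Subgroup G) = p ∧ u ∈ (P : Subgroup G) ∧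
      u ≠ 1 ∧ O ≠ P ∧ Nat.card (Sylow p G) = p + 1 ∧
      ∀ g : G, (∀ Q : Sylow p G, g • Q = Q) → g = 1 := by
  have hpr : p.Prime := Fact.out
  obtain ⟨hm0, hmp⟩ := half_lt (p := p) hp2
  have hG' : Nat.card G = p * ((p + 1) * ((p - 1) / 2)) := by rw [hG]; ring
  have hc0 : (p + 1) * ((p - 1) / 2) ≠ 0 := Nat.mul_ne_zero (Nat.succ_ne_zero p) hm0.ne'
  obtain ⟨P⟩ : Nonempty (Sylow p G) := Sylow.nonempty
  have hP : Nat.card (P : Subgroup G) = p := by
    rw [Sylow.card_eq_multiplicity, hG', factorization_prime_mul hpr (not_dvd_cofactor hp2) hc0,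
      pow_one]
  -- the number of Sylow subgroups
  have hidx : (P : Subgroup G).index = (p + 1) * ((p - 1) / 2) := by
    have h1 := (P : Subgroup G).index_mul_card
    rw [hP, hG', mul_comm] at h1
    exact Nat.eq_of_mul_eq_mul_left hpr.pos h1
  have hS : Nat.card (Sylow p G) = p + 1 := by
    have h1 : Nat.card (Sylow p G) ∣ (p + 1) * ((p - 1) / 2) := hidx ▸ P.card_dvd_index
    have h2 : Nat.card (Sylow p G) % p = 1 := by
      have := card_sylow_modEq_one p G
      rw [Nat.ModEq, Nat.mod_eq_of_lt hpr.one_lt] at this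
      exact this
    rcases hdiv _ h1 h2 with h | h
    · exfalso
      have hsub : Subsingleton (Sylow p G) := (Nat.card_eq_one_iff_unique.mp h).1
      have hnorm : (P : Subgroup G).Normal := Sylow.normal_of_subsingleton P
      rcases hnorm.eq_bot_or_eq_top with hb | ht
      · rw [hb, Subgroup.card_bot] at hP
        exact hpr.one_lt.ne hP
      · have h3 : Nat.card (P : Subgroup G) = Nat.card G := by rw [ht, Subgroup.card_top]
        rw [hP, hG'] at h3
        have h4 : (p + 1) * ((p - 1) / 2) = 1 := by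
          have h6 : p * 1 = p * ((p + 1) * ((p - 1) / 2)) := by rw [mul_one]; exact h3
          exact (Nat.eq_of_mul_eq_mul_left hpr.pos h6).symm
        have h5 : p + 1 ∣ 1 := Dvd.intro _ h4
        have := Nat.le_of_dvd one_pos h5
        have := hpr.two_le
        omega
    · exact h
  -- a second Sylow subgroup
  have hnontriv : Nontrivial (Sylow p G) := by
    rw [← Finite.one_lt_card_iff_nontrivial, hS]
    have := hpr.two_le
    omega
  obtain ⟨O, hOP⟩ := exists_ne P
  -- a generator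
  obtain ⟨u, hu, hu1⟩ : ∃ u : G, u ∈ (P : Subgroup G) ∧ u ≠ 1 := by
    by_contra hne
    push Not at hne
    have hbot : (P : Subgroup G) = ⊥ := (Subgroup.eq_bot_iff_forall _).mpr hne
    rw [hbot, Subgroup.card_bot] at hP
    exact hpr.one_lt.ne hP
  refine ⟨P, O, u, hP, hu, hu1, hOP, hS, ?_⟩
  -- faithfulness
  have hker : (MulAction.toPermHom G (Sylow p G)).ker = ⊥ := by
    rcases (MulAction.toPermHom G (Sylow p G)).normal_ker.eq_bot_or_eq_top with h | h
    · exact h
    · exfalso
      obtain ⟨g, hg⟩ := MulAction.exists_smul_eq G P O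
      have hgk : g ∈ (MulAction.toPermHom G (Sylow p G)).ker := by rw [h]; trivial
      rw [MonoidHom.mem_ker] at hgk
      have : (MulAction.toPermHom G (Sylow p G) g) P = P := by rw [hgk]; rfl
      rw [MulAction.toPermHom_apply, MulAction.toPerm_apply, hg] at this
      exact hOP this
  intro g hg
  have hgk : g ∈ (MulAction.toPermHom G (Sylow p G)).ker := by
    rw [MonoidHom.mem_ker]
    ext Q
    rw [MulAction.toPermHom_apply, MulAction.toPerm_apply, hg Q]
    rfl
  rw [hker] at hgk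
  exact Subgroup.mem_bot.mp hgk

/-- Simple groups of order `p(p^2-1)/2` passing the arithmetic check (with no excluded
multiplier) are isomorphic to `PSL(2,p)`. -/
theorem nonempty_mulEquiv_PSL_of_simple [IsSimpleGroup G] (hp2 : p ≠ 2)
    (hG : Nat.card G = (p + 1) * p * ((p - 1) / 2))
    (hdiv : ∀ d, d ∣ (p + 1) * ((p - 1) / 2) → d % p = 1 → d = 1 ∨ d = p + 1)
    (g : ZMod p) (dl : List ℕ) (hg : g ≠ 0) (hgm : g ^ ((p - 1) / 2) ≠ 1)
    (hdl : DlogOK p g dl) (hchk : ArithCheck p g dl 0) :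
    Nonempty (G ≃* ProjectiveSpecialLinearGroup (Fin 2) (ZMod p)) := by
  obtain ⟨P, O, u, hP, hu, hu1, hOP, hS, hF⟩ := exists_setting (G := G) hp2 hG hdiv
  refine nonempty_mulEquiv_PSL hP hu hu1 hOP hS hF hG hp2 g dl 0 hg hgm hdl hchk ?_
  intro t h0 z _ _ _ h1
  exact h1.ne_zero hP hu hu1 hOP

theorem hdiv_of_divisors {n q : ℕ} (hn : n ≠ 0)
    (h : ∀ d ∈ Nat.divisors n, d % q = 1 → d = 1 ∨ d = q + 1) :
    ∀ d, d ∣ n → d % q = 1 → d = 1 ∨ d = q + 1 :=
  fun d hd => h d (Nat.mem_divisors.mpr ⟨hd, hn⟩)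

/-- Transfer to an arbitrary field with `p` elements. -/
theorem nonempty_mulEquiv_PSL_field {F : Type*} [Field F] [Fintype F]
    (hF : Fintype.card F = p)
    (h : Nonempty (G ≃* ProjectiveSpecialLinearGroup (Fin 2) (ZMod p))) :
    Nonempty (G ≃* ProjectiveSpecialLinearGroup (Fin 2) F) := by
  obtain ⟨e⟩ := h
  have hpr : p.Prime := Fact.out
  exact ⟨e.trans (Cfsg.Agent.Lib.Helper61_TableHom.pslEquiv (ZMod.ringEquivOfPrime F hpr hF))⟩

end Cfsg.Agent.Lib.Helper9_PSLRecog
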