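import Mathlib
import Cfsg.Agent.Lib.Helper9_PSLRecog6

/-!
A simple group of order 660 is isomorphic to `PSL(2,11)`: the arithmetic check for `p = 11`.
-/

set_option autoImplicit false

namespace Cfsg.Agent.Lib.Helper9_PSLRecog

/-- discrete logarithms modulo 11 to the base 2 -/
def dl11 : List ℕ := [0, 0, 1, 8, 2, 4, 9, 7, 3, 6, 5]

set_option maxRecDepth 100000 in
theorem dl11_ok : DlogOK 11 2 dl11 := by decide +kernel

set_option maxRecDepth 100000 in
theorem check11 : ArithCheck 11 2 dl11 0 := by decide +kernel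

theorem gen11_ne : (2 : ZMod 11) ≠ 0 := by decide

theorem gen11_pow : (2 : ZMod 11) ^ ((11 - 1) / 2) ≠ 1 := by decide

theorem hdiv11 : ∀ d, d ∣ (11 + 1) * ((11 - 1) / 2) → d % 11 = 1 → d = 1 ∨ d = 11 + 1 :=
  hdiv_of_divisors (by norm_num) (by decide +kernel)

/-- A simple group of order 660 is isomorphic to `PSL(2,11)`. -/
theorem recog11 {G : Type*} [Group G] [Finite G] [IsSimpleGroup G] (h : Nat.card G = 660)
    {F : Type*} [Field F] [Fintype F] (hF : Fintype.card F = 11) :
    Nonempty (G ≃* Matrix.ProjectiveSpecialLinearGroup (Fin 2) F) := by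
  have : Fact (Nat.Prime 11) := ⟨by norm_num⟩
  apply nonempty_mulEquiv_PSL_field (p := 11) hF
  exact nonempty_mulEquiv_PSL_of_simple (p := 11) (by norm_num) (by rw [h]) hdiv11
    (2 : ZMod 11) dl11 gen11_ne gen11_pow dl11_ok check11

end Cfsg.Agent.Lib.Helper9_PSLRecog
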