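import Mathlib
import Cfsg.Agent.Lib.Helper9_PSLRecog6

/-!
A simple group of order 1092 is isomorphic to `PSL(2,13)`: the arithmetic check for `p = 13`.
-/

set_option autoImplicit false

namespace Cfsg.Agent.Lib.Helper9_PSLRecog

/-- discrete logarithms modulo 13 to the base 2 -/
def dl13 : List ℕ := [0, 0, 1, 4, 2, 9, 5, 11, 3, 8, 10, 7, 6]

set_option maxRecDepth 100000 in
theorem dl13_ok : DlogOK 13 2 dl13 := by decide +kernel

set_option maxRecDepth 100000 in
theorem check13 : ArithCheck 13 2 dl13 0 := by decide +kernel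

theorem gen13_ne : (2 : ZMod 13) ≠ 0 := by decide

theorem gen13_pow : (2 : ZMod 13) ^ ((13 - 1) / 2) ≠ 1 := by decide

theorem hdiv13 : ∀ d, d ∣ (13 + 1) * ((13 - 1) / 2) → d % 13 = 1 → d = 1 ∨ d = 13 + 1 :=
  hdiv_of_divisors (by norm_num) (by decide +kernel)

/-- A simple group of order 1092 is isomorphic to `PSL(2,13)`. -/
theorem recog13 {G : Type*} [Group G] [Finite G] [IsSimpleGroup G] (h : Nat.card G = 1092)
    {F : Type*} [Field F] [Fintype F] (hF : Fintype.card F = 13) :
    Nonempty (G ≃* Matrix.ProjectiveSpecialLinearGroup (Fin 2) F) := by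
  have : Fact (Nat.Prime 13) := ⟨by norm_num⟩
  apply nonempty_mulEquiv_PSL_field (p := 13) hF
  exact nonempty_mulEquiv_PSL_of_simple (p := 13) (by norm_num) (by rw [h]) hdiv13
    (2 : ZMod 13) dl13 gen13_ne gen13_pow dl13_ok check13

end Cfsg.Agent.Lib.Helper9_PSLRecog
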