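import Mathlib
import Cfsg.Agent.Lib.Helper9_PSLRecog6

/-!
A simple group of order 2448 is isomorphic to `PSL(2,17)`: the arithmetic check for `p = 17`.
-/

set_option autoImplicit false

namespace Cfsg.Agent.Lib.Helper9_PSLRecog

/-- discrete logarithms modulo 17 to the base 3 -/
def dl17 : List ℕ := [0, 0, 14, 1, 12, 5, 15, 11, 10, 2, 3, 7, 13, 4, 9, 6, 8]

set_option maxRecDepth 100000 in
theorem dl17_ok : DlogOK 17 3 dl17 := by decide +kernel

set_option maxRecDepth 100000 in
theorem check17 : ArithCheck 17 3 dl17 0 := by decide +kernel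

theorem gen17_ne : (3 : ZMod 17) ≠ 0 := by decide

theorem gen17_pow : (3 : ZMod 17) ^ ((17 - 1) / 2) ≠ 1 := by decide

theorem hdiv17 : ∀ d, d ∣ (17 + 1) * ((17 - 1) / 2) → d % 17 = 1 → d = 1 ∨ d = 17 + 1 :=
  hdiv_of_divisors (by norm_num) (by decide +kernel)

/-- A simple group of order 2448 is isomorphic to `PSL(2,17)`. -/
theorem recog17 {G : Type*} [Group G] [Finite G] [IsSimpleGroup G] (h : Nat.card G = 2448)
    {F : Type*} [Field F] [Fintype F] (hF : Fintype.card F = 17) :
    Nonempty (G ≃* Matrix.ProjectiveSpecialLinearGroup (Fin 2) F) := by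
  have : Fact (Nat.Prime 17) := ⟨by norm_num⟩
  apply nonempty_mulEquiv_PSL_field (p := 17) hF
  exact nonempty_mulEquiv_PSL_of_simple (p := 17) (by norm_num) (by rw [h]) hdiv17
    (3 : ZMod 17) dl17 gen17_ne gen17_pow dl17_ok check17

end Cfsg.Agent.Lib.Helper9_PSLRecog
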