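import Mathlib
import Cfsg.Agent.Lib.Helper9_PSLRecog6

/-!
A simple group of order 3420 is isomorphic to `PSL(2,19)`: the arithmetic check for `p = 19`.
-/

set_option autoImplicit false

namespace Cfsg.Agent.Lib.Helper9_PSLRecog

/-- discrete logarithms modulo 19 to the base 2 -/
def dl19 : List ℕ := [0, 0, 1, 13, 2, 16, 14, 6, 3, 8, 17, 12, 15, 5, 7, 11, 4, 10, 9]

set_option maxRecDepth 100000 in
theorem dl19_ok : DlogOK 19 2 dl19 := by decide +kernel

set_option maxRecDepth 100000 in
theorem check19 : ArithCheck 19 2 dl19 0 := by decide +kernel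

theorem gen19_ne : (2 : ZMod 19) ≠ 0 := by decide

theorem gen19_pow : (2 : ZMod 19) ^ ((19 - 1) / 2) ≠ 1 := by decide

theorem hdiv19 : ∀ d, d ∣ (19 + 1) * ((19 - 1) / 2) → d % 19 = 1 → d = 1 ∨ d = 19 + 1 :=
  hdiv_of_divisors (by norm_num) (by decide +kernel)

/-- A simple group of order 3420 is isomorphic to `PSL(2,19)`. -/
theorem recog19 {G : Type*} [Group G] [Finite G] [IsSimpleGroup G] (h : Nat.card G = 3420)
    {F : Type*} [Field F] [Fintype F] (hF : Fintype.card F = 19) :
    Nonempty (G ≃* Matrix.ProjectiveSpecialLinearGroup (Fin 2) F) := by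
  have : Fact (Nat.Prime 19) := ⟨by norm_num⟩
  apply nonempty_mulEquiv_PSL_field (p := 19) hF
  exact nonempty_mulEquiv_PSL_of_simple (p := 19) (by norm_num) (by rw [h]) hdiv19
    (2 : ZMod 19) dl19 gen19_ne gen19_pow dl19_ok check19

end Cfsg.Agent.Lib.Helper9_PSLRecog
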