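import Mathlib
import Cfsg.Agent.Lib.Helper9_PSLRecog6

/-!
A simple group of order 6072 is isomorphic to `PSL(2,23)`: the arithmetic check for `p = 23`.
-/

set_option autoImplicit false

namespace Cfsg.Agent.Lib.Helper9_PSLRecog

/-- discrete logarithms modulo 23 to the base 5 -/
def dl23 : List ℕ := [0, 0, 2, 16, 4, 1, 18, 19, 6, 10, 3, 9, 20, 14, 21, 17, 8, 7, 12, 15, 5, 13, 11]

set_option maxRecDepth 100000 in
theorem dl23_ok : DlogOK 23 5 dl23 := by decide +kernel

set_option maxRecDepth 100000 in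
theorem check23 : ArithCheck 23 5 dl23 0 := by decide +kernel

theorem gen23_ne : (5 : ZMod 23) ≠ 0 := by decide

theorem gen23_pow : (5 : ZMod 23) ^ ((23 - 1) / 2) ≠ 1 := by decide

theorem hdiv23 : ∀ d, d ∣ (23 + 1) * ((23 - 1) / 2) → d % 23 = 1 → d = 1 ∨ d = 23 + 1 :=
  hdiv_of_divisors (by norm_num) (by decide +kernel)

/-- A simple group of order 6072 is isomorphic to `PSL(2,23)`. -/
theorem recog23 {G : Type*} [Group G] [Finite G] [IsSimpleGroup G] (h : Nat.card G = 6072)
    {F : Type*} [Field F] [Fintype F] (hF : Fintype.card F = 23) :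
    Nonempty (G ≃* Matrix.ProjectiveSpecialLinearGroup (Fin 2) F) := by
  have : Fact (Nat.Prime 23) := ⟨by norm_num⟩
  apply nonempty_mulEquiv_PSL_field (p := 23) hF
  exact nonempty_mulEquiv_PSL_of_simple (p := 23) (by norm_num) (by rw [h]) hdiv23
    (5 : ZMod 23) dl23 gen23_ne gen23_pow dl23_ok check23

end Cfsg.Agent.Lib.Helper9_PSLRecog
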