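import Mathlib
import Cfsg.Agent.Lib.Helper40_Palindromic

set_option autoImplicit false

/-!
S2262-POLY34U: the twisted self-reciprocal monic cubics over the field with four elements
divide `X ^ N - C s` for some `N ≤ 10`.
-/

namespace Cfsg.Agent.Lib.Helper9_S2262_POLY34U

open Polynomial Cfsg.Agent.Lib.Helper40_Palindromic

/-- coefficient `k` of the reciprocal polynomial of a polynomial of degree `n` -/
theorem recip_coeff {F : Type*} [Field F] (f : F[X]) (n k : ℕ) (hn : f.natDegree = n)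
    (hk : k ≤ n) : (recip f).coeff k = (f.coeff 0)⁻¹ * f.coeff (n - k) := by
  unfold recip
  rw [coeff_C_mul, coeff_reverse, revAt_le (by omega), hn]

/-- a polynomial of degree three written out -/
theorem eq_of_natDegree_three {F : Type*} [Field F] (f : F[X]) (hf : f.natDegree = 3) :
    f = C (f.coeff 3) * X ^ 3 + C (f.coeff 2) * X ^ 2 + C (f.coeff 1) * X + C (f.coeff 0) := by
  ext n
  simp only [coeff_add, coeff_C_mul, coeff_X_pow, coeff_X, coeff_C]
  by_cases h3 : n = 3
  · subst h3; simp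
  by_cases h2 : n = 2
  · subst h2; simp
  by_cases h1 : n = 1
  · subst h1; simp
  by_cases h0 : n = 0
  · subst h0; simp
  · have : f.coeff n = 0 := coeff_eq_zero_of_natDegree_lt (by omega)
    rw [this]
    simp [h3, h2, h0, Ne.symm h1]

section four

variable {F : Type*} [Field F] [Fintype F]

theorem charP_two (hq : Fintype.card F = 4) : CharP F 2 :=
  charP_of_card_eq_prime_pow (p := 2) (f := 2) (by rw [hq]; norm_num)

theorem two_eq_zero (hq : Fintype.card F = 4) : (2 : F) = 0 := by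
  have := charP_two hq
  exact CharTwo.two_eq_zero

theorem two_eq_zero_poly (hq : Fintype.card F = 4) : (2 : F[X]) = 0 := by
  have h := two_eq_zero hq
  have : (2 : F[X]) = C (2 : F) := (C_ofNat 2).symm
  rw [this, h, C_0]

theorem pow_four (hq : Fintype.card F = 4) (x : F) : x ^ 4 = x := by
  have := FiniteField.pow_card x
  rwa [hq] at this

theorem pow_three (hq : Fintype.card F = 4) (x : F) (hx : x ≠ 0) : x ^ 3 = 1 := by
  have h := pow_four hq x
  have : x * x ^ 3 = x * 1 := by
    rw [mul_one]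
    calc x * x ^ 3 = x ^ 4 := by ring
      _ = x := h
  exact mul_left_cancel₀ hx this

theorem quad (hq : Fintype.card F = 4) (x : F) (hx : x ≠ 0) (hx1 : x ≠ 1) :
    x ^ 2 + x + 1 = 0 := by
  have h := pow_three hq x hx
  have : (x - 1) * (x ^ 2 + x + 1) = 0 := by linear_combination h
  rcases mul_eq_zero.1 this with h' | h'
  · exact absurd (sub_eq_zero.1 h') hx1
  · exact h'

/-- a nontrivial automorphism of the field with four elements is the squaring map -/
theorem sigma_eq_sq (hq : Fintype.card F = 4) (σ : F ≃+* F) (hσ1 : σ ≠ 1) (x : F) :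
    σ x = x ^ 2 := by
  have h2 := two_eq_zero hq
  -- an element moved by σ
  obtain ⟨y, hy⟩ : ∃ y, σ y ≠ y := by
    by_contra hcon
    push Not at hcon
    exact hσ1 (RingEquiv.ext hcon)
  have hy0 : y ≠ 0 := by
    rintro rfl
    exact hy (map_zero σ)
  have hy1 : y ≠ 1 := by
    rintro rfl
    exact hy (map_one σ)
  have hqy := quad hq y hy0 hy1
  have hσy0 : σ y ≠ 0 := by
    intro h
    exact hy0 ((map_eq_zero_iff σ σ.injective).1 h)
  have hσy1 : σ y ≠ 1 := by
    intro h
    apply hy1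
    apply σ.injective
    rw [h, map_one]
  have hqσy := quad hq (σ y) hσy0 hσy1
  have hσy : σ y = y ^ 2 := by
    have : (σ y - y) * (σ y + y + 1) = 0 := by linear_combination hqσy - hqy
    rcases mul_eq_zero.1 this with h' | h'
    · exact absurd (sub_eq_zero.1 h') hy
    · linear_combination h' - hqy
  by_cases hx0 : x = 0
  · subst hx0; simp
  by_cases hx1 : x = 1
  · subst hx1; simp
  have hqx := quad hq x hx0 hx1
  have : (x - y) * (x + y + 1) = 0 := by linear_combination hqx - hqy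
  rcases mul_eq_zero.1 this with h' | h'
  · have : x = y := sub_eq_zero.1 h'
    rw [this, hσy]
  · have hxy : x = y ^ 2 := by linear_combination h' - hqy
    rw [hxy, map_pow, hσy]

end four

theorem poly_twisted34 {F : Type*} [Field F] [Fintype F] (hq : Fintype.card F = 4) (σ : F ≃+* F)
    (hσ1 : σ ≠ 1) (χ : F[X]) (hχm : χ.Monic) (h0 : χ.coeff 0 ≠ 0) (hdeg : χ.natDegree = 3)
    (hr : recip χ = χ.map (σ : F →+* F)) :
    ∃ (N : ℕ) (s : F), 0 < N ∧ N ≤ 10 ∧ χ ∣ X ^ N - C s := by
  have h2 := two_eq_zero_poly hq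
  have h2F := two_eq_zero hq
  have hc3 : χ.coeff 3 = 1 := by
    have := hχm.coeff_natDegree
    rwa [hdeg] at this
  -- the relation b = a² c
  have hb : χ.coeff 1 = (χ.coeff 2) ^ 2 * χ.coeff 0 := by
    have h := recip_coeff χ 3 2 hdeg (by norm_num)
    rw [hr, coeff_map] at h
    have hσ : (σ : F →+* F) (χ.coeff 2) = (χ.coeff 2) ^ 2 := sigma_eq_sq hq σ hσ1 _
    rw [hσ] at h
    have h3 : (3 - 2 : ℕ) = 1 := rfl
    rw [h3] at h
    field_simp at h
    linear_combination -h
  have hχ := eq_of_natDegree_three χ hdeg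
  rw [hc3, hb] at hχ
  set a := χ.coeff 2 with ha
  set c := χ.coeff 0 with hc
  have hcc : c ^ 3 = 1 := pow_three hq c h0
  have hE3 : (C c : F[X]) ^ 3 = 1 := by rw [← C_pow, hcc, C_1]
  by_cases ha0 : a = 0
  · -- χ = X³ + c
    refine ⟨3, c, by norm_num, by norm_num, ⟨1, ?_⟩⟩
    rw [hχ, ha0]
    simp only [C_0, C_1, C_mul, C_pow]
    linear_combination (-(C c : F[X])) * h2
  have haa : a ^ 3 = 1 := pow_three hq a ha0
  have hA3 : (C a : F[X]) ^ 3 = 1 := by rw [← C_pow, haa, C_1]
  by_cases hc1 : c = 1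
  · refine ⟨4, a, by norm_num, by norm_num, ⟨X + C a, ?_⟩⟩
    rw [hχ, hc1]
    simp only [C_1, C_mul, C_pow]
    linear_combination (-(C a + C a * X ^ 3 + C a ^ 2 * X ^ 2 + X : F[X])) * h2 + (-X) * hA3
  · have hqc := quad hq c h0 hc1
    have hE : (C c : F[X]) ^ 2 + C c + 1 = 0 := by
      rw [← C_pow, ← C_add, ← C_1, ← C_add, hqc, C_0]
    refine ⟨6, 1, by norm_num, by norm_num, ⟨(X + C a) * (X ^ 2 + C a ^ 2 * C c ^ 2), ?_⟩⟩
    rw [hχ]
    simp only [C_1, C_mul, C_pow]
    linear_combination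
      (-(C a * X ^ 5 + C a ^ 3 * C c ^ 2 * X ^ 3 + C c * X ^ 3 + C a ^ 2 * C c ^ 3 * X + 1 : F[X]))
          * h2
        + (-(C c * X ^ 3 + (C a * C c ^ 2 + C a * C c ^ 3) * X ^ 2 + C a ^ 2 * C c ^ 3 * X
            + C c ^ 3 : F[X])) * hA3
        + (-(C a ^ 2 * X ^ 4 + C a * C c * X ^ 2 + (C c - 1) : F[X])) * hE

end Cfsg.Agent.Lib.Helper9_S2262_POLY34U
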