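import Mathlib
import Cfsg.Agent.Lib.Helper97_SpTensBasic

set_option autoImplicit false
set_option linter.unusedSectionVars false
set_option linter.unusedVariables false
set_option linter.unnecessarySeqFocus false
set_option linter.unusedSimpArgs false

/-!
# SP3 package SYM3 (architect helper97, proof helper9)

Linear algebra in `(B, be)`: a subspace `U` of operators, self-adjoint for `S0`, containing `1`, stable under conjugation
by `O(S0)` and containing a non-scalar operator contains `single 0 2 1` (`q ≥ 5` odd).  Polynomial interpolation on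
`c ↦ Q_c T Q_c⁻¹` for the lower unipotent elements `Q_c` of `O(S0)`, and the swap `S0`.
-/

namespace Cfsg.Agent.Lib.Helper9_SP3_SYM3

open Matrix Module
open Cfsg.Agent.Lib.Helper98_ExtDefs Cfsg.Agent.Lib.Helper97_TensDefs
  Cfsg.Agent.Lib.Helper97_SpTensDefs Cfsg.Agent.Lib.Helper97_SpTensBasic

variable {F : Type*} [Field F] [Fintype F] {m : ℕ}

local notation "V" => Matrix (Fin m ⊕ Fin m) (Fin 3) F

/-- interpolation: a polynomial map of degree `≤ n < |F|` into a subspace has all its coefficients in the subspace -/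
theorem coeff_mem_of_eval_mem {M : Type*} [AddCommGroup M] [Module F M] (U : Submodule F M)
    (D : ℕ → M) (n : ℕ) (hn : n < Fintype.card F)
    (h : ∀ c : F, ∑ k ∈ Finset.range (n + 1), c ^ k • D k ∈ U) (k : ℕ) (hk : k ≤ n) : D k ∈ U := by
  classical
  rw [← Submodule.Quotient.mk_eq_zero U, ← Module.forall_dual_apply_eq_zero_iff F]
  intro φ
  let P : Polynomial F := ∑ j ∈ Finset.range (n + 1),
    Polynomial.C (φ (Submodule.Quotient.mk (D j))) * Polynomial.X ^ j
  have hdeg : P.natDegree < Fintype.card F := by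
    apply lt_of_le_of_lt _ hn
    apply Polynomial.natDegree_sum_le_of_forall_le
    intro j hj
    apply (Polynomial.natDegree_C_mul_X_pow_le _ _).trans
    exact Nat.lt_succ_iff.mp (Finset.mem_range.mp hj)
  have heval : ∀ c ∈ (Finset.univ : Finset F), P.eval c = 0 := by
    intro c _
    simp only [P, Polynomial.eval_finsetSum, Polynomial.eval_mul, Polynomial.eval_C,
      Polynomial.eval_pow, Polynomial.eval_X]
    have h1 := h c
    rw [← Submodule.Quotient.mk_eq_zero U] at h1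
    have h2 := congrArg φ h1
    rw [map_zero] at h2
    rw [← h2, ← Submodule.mkQ_apply, map_sum, map_sum]
    refine Finset.sum_congr rfl fun j _ => ?_
    rw [map_smul, map_smul, smul_eq_mul, mul_comm, Submodule.mkQ_apply]
  have hP : P = 0 := Polynomial.eq_zero_of_natDegree_lt_card_of_eval_eq_zero' P Finset.univ heval
    (by rwa [Finset.card_univ])
  have hc : P.coeff k = φ (Submodule.Quotient.mk (D k)) := by
    simp only [P, Polynomial.finsetSum_coeff, Polynomial.coeff_C_mul_X_pow]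
    rw [Finset.sum_eq_single k]
    · simp
    · intro j _ hj
      simp [hj.symm]
    · intro hk'
      exfalso
      exact hk' (Finset.mem_range.mpr (Nat.lt_succ_of_le hk))
  rw [← hc, hP, Polynomial.coeff_zero]

/-- the lower unipotent element of `O(S0)` -/
def Qc (c : F) : Matrix (Fin 3) (Fin 3) F := !![1, 0, 0; -2 * c, 1, 0; -2 * c ^ 2, 2 * c, 1]

theorem Qc_orth (c : F) : (Qc c)ᵀ * S0 F * Qc c = S0 F := by
  ext i j
  fin_cases i <;> fin_cases j <;>
    simp [Qc, S0, Matrix.mul_apply, Fin.sum_univ_three] <;> ring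

theorem S0_orth : (S0 F)ᵀ * S0 F * S0 F = S0 F := by
  ext i j
  fin_cases i <;> fin_cases j <;>
    simp [S0, Matrix.mul_apply, Fin.sum_univ_three]

/-- the coefficients of `c ↦ Q_c T Q_c⁻¹` -/
def Dk (T : Matrix (Fin 3) (Fin 3) F) : ℕ → Matrix (Fin 3) (Fin 3) F
  | 0 => T
  | 1 => !![2 * T 0 1, -2 * T 0 2, 0; 2 * (T 1 1 - T 0 0), -4 * T 0 1, -2 * T 0 2;
        4 * T 1 0, 2 * (T 1 1 - T 0 0), 2 * T 0 1]
  | 2 => !![-2 * T 0 2, 0, 0; -6 * T 0 1, 4 * T 0 2, 0; 4 * (T 1 1 - T 0 0), -6 * T 0 1, -2 * T 0 2]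
  | 3 => !![0, 0, 0; 4 * T 0 2, 0, 0; -8 * T 0 1, 4 * T 0 2, 0]
  | 4 => !![0, 0, 0; 0, 0, 0; 4 * T 0 2, 0, 0]
  | _ => 0

theorem shape (T : Matrix (Fin 3) (Fin 3) F) (hs : (S0 F * T)ᵀ = S0 F * T) :
    T 2 1 = T 1 0 ∧ T 2 2 = T 0 0 ∧ T 1 2 = T 0 1 := by
  refine ⟨?_, ?_, ?_⟩
  · have := congrFun (congrFun hs 0) 1
    simpa [S0, Matrix.mul_apply, Fin.sum_univ_three, Matrix.vecMul, dotProduct] using this.symm
  · have := congrFun (congrFun hs 0) 2
    simpa [S0, Matrix.mul_apply, Fin.sum_univ_three, Matrix.vecMul, dotProduct] using this.symm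
  · have := congrFun (congrFun hs 1) 2
    simpa [S0, Matrix.mul_apply, Fin.sum_univ_three, Matrix.vecMul, dotProduct] using this.symm

theorem conj_eq_sum (T : Matrix (Fin 3) (Fin 3) F) (hs : (S0 F * T)ᵀ = S0 F * T) (c : F) :
    Qc c * T * (S0 F * (Qc c)ᵀ * S0 F) = ∑ k ∈ Finset.range (4 + 1), c ^ k • Dk T k := by
  obtain ⟨h01, h02, h12⟩ := shape T hs
  ext i j
  fin_cases i <;> fin_cases j <;>
    simp [Finset.sum_range_succ, Dk, Qc, S0, Matrix.mul_apply, Fin.sum_univ_three, h01, h02, h12,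
      Matrix.vecMul, dotProduct, Matrix.transpose_apply] <;> ring

/-- the swap -/
theorem swap_apply (T : Matrix (Fin 3) (Fin 3) F) (i j : Fin 3) :
    (S0 F * T * (S0 F * (S0 F)ᵀ * S0 F)) i j = T (2 - i) (2 - j) := by
  fin_cases i <;> fin_cases j <;>
    simp [S0, Matrix.mul_apply, Fin.sum_univ_three, Matrix.vecMul, dotProduct, Matrix.transpose_apply]

section main

variable (h2 : (2 : F) ≠ 0) (hq : 5 ≤ Fintype.card F)
    (U : Submodule F (Matrix (Fin 3) (Fin 3) F))
    (hsa : ∀ T ∈ U, (S0 F * T)ᵀ = S0 F * T)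
    (hconj : ∀ Q : Matrix (Fin 3) (Fin 3) F, Qᵀ * S0 F * Q = S0 F → ∀ T ∈ U,
      Q * T * (S0 F * Qᵀ * S0 F) ∈ U)

include hq hsa hconj in
theorem Dk_mem (T : Matrix (Fin 3) (Fin 3) F) (hT : T ∈ U) (k : ℕ) (hk : k ≤ 4) : Dk T k ∈ U := by
  apply coeff_mem_of_eval_mem U (Dk T) 4 (by omega) _ k hk
  intro c
  rw [← conj_eq_sum T (hsa T hT) c]
  exact hconj (Qc c) (Qc_orth c) T hT

include h2 hq hsa hconj in
theorem e20_mem_of (T : Matrix (Fin 3) (Fin 3) F) (hT : T ∈ U)
    (h : T 0 2 ≠ 0 ∨ T 0 1 ≠ 0 ∨ T 1 1 ≠ T 0 0) :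
    Matrix.single (2 : Fin 3) (0 : Fin 3) (1 : F) ∈ U := by
  have h4 : (4 : F) ≠ 0 := by
    have : (4 : F) = 2 * 2 := by norm_num
    rw [this]
    exact mul_ne_zero h2 h2
  have h8 : (8 : F) ≠ 0 := by
    have : (8 : F) = 2 * 4 := by norm_num
    rw [this]
    exact mul_ne_zero h2 h4
  by_cases hd : T 0 2 = 0
  · by_cases hb : T 0 1 = 0
    · have hf : T 1 1 ≠ T 0 0 := by
        rcases h with h | h | h
        · exact absurd hd h
        · exact absurd hb h
        · exact h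
      have h1 := Dk_mem hq U hsa hconj T hT 2 (by omega)
      have e : Dk T 2 = (4 * (T 1 1 - T 0 0)) • Matrix.single (2 : Fin 3) (0 : Fin 3) (1 : F) := by
        ext i j
        fin_cases i <;> fin_cases j <;> simp [Dk, hd, hb, Matrix.single_apply]
      rw [e] at h1
      exact (Submodule.smul_mem_iff _ (mul_ne_zero h4 (sub_ne_zero.mpr hf))).mp h1
    · have h1 := Dk_mem hq U hsa hconj T hT 3 (by omega)
      have e : Dk T 3 = (-8 * T 0 1) • Matrix.single (2 : Fin 3) (0 : Fin 3) (1 : F) := by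
        ext i j
        fin_cases i <;> fin_cases j <;> simp [Dk, hd, Matrix.single_apply]
      rw [e] at h1
      exact (Submodule.smul_mem_iff _ (mul_ne_zero (neg_ne_zero.mpr h8) hb)).mp h1
  · have h1 := Dk_mem hq U hsa hconj T hT 4 (by omega)
    have e : Dk T 4 = (4 * T 0 2) • Matrix.single (2 : Fin 3) (0 : Fin 3) (1 : F) := by
      ext i j
      fin_cases i <;> fin_cases j <;> simp [Dk, Matrix.single_apply]
    rw [e] at h1
    exact (Submodule.smul_mem_iff _ (mul_ne_zero h4 hd)).mp h1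

end main

/-- **SYM3** (L). -/
theorem sym3 (h2 : (2 : F) ≠ 0) (hq : 5 ≤ Fintype.card F)
    (U : Submodule F (Matrix (Fin 3) (Fin 3) F))
    (hsa : ∀ T ∈ U, (S0 F * T)ᵀ = S0 F * T)
    (h1 : (1 : Matrix (Fin 3) (Fin 3) F) ∈ U)
    (hconj : ∀ Q : Matrix (Fin 3) (Fin 3) F, Qᵀ * S0 F * Q = S0 F → ∀ T ∈ U,
      Q * T * (S0 F * Qᵀ * S0 F) ∈ U)
    (T₀ : Matrix (Fin 3) (Fin 3) F) (hT₀ : T₀ ∈ U) (hns : ∀ c : F, T₀ ≠ c • 1) :
    Matrix.single (0 : Fin 3) (2 : Fin 3) (1 : F) ∈ U := by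
  have hE20 : Matrix.single (2 : Fin 3) (0 : Fin 3) (1 : F) ∈ U := by
    by_cases hA : T₀ 0 2 ≠ 0 ∨ T₀ 0 1 ≠ 0 ∨ T₀ 1 1 ≠ T₀ 0 0
    · exact e20_mem_of h2 hq U hsa hconj T₀ hT₀ hA
    · push Not at hA
      obtain ⟨hd, hb, hf⟩ := hA
      obtain ⟨h01, h02, h12⟩ := shape T₀ (hsa T₀ hT₀)
      have hT₁ : S0 F * T₀ * (S0 F * (S0 F)ᵀ * S0 F) ∈ U := hconj (S0 F) S0_orth T₀ hT₀
      by_cases hB : T₀ 2 0 ≠ 0 ∨ T₀ 2 1 ≠ 0
      · apply e20_mem_of h2 hq U hsa hconj _ hT₁
        rw [swap_apply, swap_apply, swap_apply, swap_apply]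
        rcases hB with hB | hB
        · left; simpa using hB
        · right; left; simpa using hB
      · push Not at hB
        obtain ⟨hg, he⟩ := hB
        exfalso
        apply hns (T₀ 0 0)
        ext i j
        fin_cases i <;> fin_cases j <;>
          simp [hd, hb, hf, hg, he, h01 ▸ he, h02, h12]
  have := hconj (S0 F) S0_orth _ hE20
  have e : S0 F * Matrix.single (2 : Fin 3) (0 : Fin 3) (1 : F) * (S0 F * (S0 F)ᵀ * S0 F) =
      Matrix.single (0 : Fin 3) (2 : Fin 3) (1 : F) := by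
    ext i j
    rw [swap_apply]
    fin_cases i <;> fin_cases j <;> simp [Matrix.single_apply]
  rw [e] at this
  exact this

end Cfsg.Agent.Lib.Helper9_SP3_SYM3
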