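import Mathlib
import Cfsg.Agent.Lib.Helper68_StSpDefs
import Cfsg.Agent.Lib.Helper44_SpUT

/-!
# S2545 package GENA (architect helper68, proof helper9)

The group generated by the representatives of the distinguished generators of the Weyl group of `Sp_{2m}(F)` moves
`e_0` to a multiple of every basis vector.
-/

set_option autoImplicit false

namespace Cfsg.Agent.Lib.Helper9_StSp_GENA

open Matrix Cfsg.Agent.Lib.Helper68_MatGrp Cfsg.Agent.Lib.Helper5_SpPerfect
  Cfsg.Agent.Lib.Helper68_StSpDefs Cfsg.Agent.Lib.Helper13_SympTrans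

variable {m : ℕ} {F : Type*} [Field F]

theorem mulVec_single' (M : Matrix (Fin m ⊕ Fin m) (Fin m ⊕ Fin m) F) (b : Fin m ⊕ Fin m) (ε : F)
    (a : Fin m ⊕ Fin m) : (M *ᵥ Pi.single b ε) a = M a b * ε := by
  rw [Matrix.mulVec, dotProduct, Finset.sum_eq_single b]
  · rw [Pi.single_eq_same]
  · intro c _ hc
    rw [Pi.single_eq_of_ne hc, mul_zero]
  · intro h
    exact absurd (Finset.mem_univ _) h

/-- short step up -/
theorem wL_up (j k : Fin m) (ε : F) :
    (wL j k : ↥(symplecticGroup (Fin m) F)).1 *ᵥ Pi.single (Sum.inl j) ε = Pi.single (Sum.inl k) ε := by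
  ext a
  rw [mulVec_single', wL_val]
  rcases a with x | x
  · rw [Matrix.fromBlocks_apply₁₁, swapMat_apply, Equiv.swap_apply_left]
    by_cases h : x = k
    · subst h
      rw [if_pos rfl, one_mul, Pi.single_eq_same]
    · rw [if_neg h, zero_mul, Pi.single_eq_of_ne]
      intro h'
      exact h (Sum.inl_injective h')
  · rw [Matrix.fromBlocks_apply₂₁, Matrix.zero_apply, zero_mul, Pi.single_eq_of_ne]
    exact Sum.inr_ne_inl

/-- short step down -/
theorem wL_down (j k : Fin m) (ε : F) :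
    (wL j k : ↥(symplecticGroup (Fin m) F)).1 *ᵥ Pi.single (Sum.inr k) ε = Pi.single (Sum.inr j) ε := by
  ext a
  rw [mulVec_single', wL_val]
  rcases a with x | x
  · rw [Matrix.fromBlocks_apply₁₂, Matrix.zero_apply, zero_mul, Pi.single_eq_of_ne]
    exact Sum.inl_ne_inr
  · rw [Matrix.fromBlocks_apply₂₂, swapMat_apply, Equiv.swap_apply_right]
    by_cases h : x = j
    · subst h
      rw [if_pos rfl, one_mul, Pi.single_eq_same]
    · rw [if_neg h, zero_mul, Pi.single_eq_of_ne]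
      intro h'
      exact h (Sum.inr_injective h')

/-- the long step -/
theorem wX_step (j : Fin m) (ε : F) :
    (wX j : ↥(symplecticGroup (Fin m) F)).1 *ᵥ Pi.single (Sum.inl j) ε = Pi.single (Sum.inr j) ε := by
  ext a
  rw [mulVec_single', wX_val]
  rcases a with x | x
  · rw [Matrix.fromBlocks_apply₁₁, Matrix.sub_apply, Matrix.one_apply, Matrix.single_apply,
      Pi.single_eq_of_ne Sum.inl_ne_inr]
    by_cases h : x = j
    · subst h
      simp
    · have h' : ¬ (j = x ∧ j = j) := fun hh => h hh.1.symm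
      rw [if_neg h, if_neg h']
      simp
  · rw [Matrix.fromBlocks_apply₂₁, Matrix.single_apply]
    by_cases h : x = j
    · subst h
      simp
    · have h' : ¬ (j = x ∧ j = j) := fun hh => h hh.1.symm
      rw [if_neg h', zero_mul, Pi.single_eq_of_ne]
      intro h''
      exact h (Sum.inr_injective h'')

theorem ss_short (j : Fin m) (h : j.val + 1 < m) :
    (ss j : ↥(symplecticGroup (Fin m) F)) = wL j ⟨j.val + 1, h⟩ := by
  unfold ss
  rw [dif_pos h]

theorem ss_long (j : Fin m) (h : ¬ j.val + 1 < m) :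
    (ss j : ↥(symplecticGroup (Fin m) F)) = wX j := by
  unfold ss
  rw [dif_neg h]

theorem step (n s : ↥(symplecticGroup (Fin m) F)) (v : Fin m ⊕ Fin m → F) (b c : Fin m ⊕ Fin m) (ε : F)
    (hn : n.1 *ᵥ v = Pi.single b ε) (hs : s.1 *ᵥ Pi.single b ε = Pi.single c ε) :
    (s * n).1 *ᵥ v = Pi.single c ε := by
  have : (s * n).1 = s.1 * n.1 := rfl
  rw [this, ← Matrix.mulVec_mulVec, hn, hs]

theorem genA_inl (hm : 0 < m) (k : ℕ) (hk : k < m) :
    ∃ n ∈ Subgroup.closure (Set.range (ss (m := m) (F := F))), ∃ ε : F,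
      n.1 *ᵥ (Pi.single (Sum.inl ⟨0, hm⟩) 1) = Pi.single (Sum.inl ⟨k, hk⟩) ε := by
  induction k with
  | zero =>
    refine ⟨1, Subgroup.one_mem _, 1, ?_⟩
    show (1 : Matrix (Fin m ⊕ Fin m) (Fin m ⊕ Fin m) F) *ᵥ _ = _
    rw [Matrix.one_mulVec]
  | succ k ih =>
    obtain ⟨n, hn, ε, e⟩ := ih (by omega)
    refine ⟨ss ⟨k, by omega⟩ * n, Subgroup.mul_mem _ (Subgroup.subset_closure ⟨_, rfl⟩) hn, ε, ?_⟩
    apply step n _ _ _ _ ε e
    rw [ss_short ⟨k, by omega⟩ (by simpa using hk)]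
    exact wL_up _ _ ε

theorem genA_inr (hm : 0 < m) (d : ℕ) : ∀ i : Fin m, i.val + d + 1 = m →
    ∃ n ∈ Subgroup.closure (Set.range (ss (m := m) (F := F))), ∃ ε : F,
      n.1 *ᵥ (Pi.single (Sum.inl ⟨0, hm⟩) 1) = Pi.single (Sum.inr i) ε := by
  induction d with
  | zero =>
    intro i hi
    obtain ⟨n, hn, ε, e⟩ := genA_inl (F := F) hm i.val i.2
    refine ⟨ss i * n, Subgroup.mul_mem _ (Subgroup.subset_closure ⟨_, rfl⟩) hn, ε, ?_⟩
    apply step n _ _ _ _ ε e
    rw [ss_long i (by omega)]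
    exact wX_step i ε
  | succ d ih =>
    intro i hi
    obtain ⟨n, hn, ε, e⟩ := ih ⟨i.val + 1, by omega⟩ (by simp only; omega)
    refine ⟨ss i * n, Subgroup.mul_mem _ (Subgroup.subset_closure ⟨_, rfl⟩) hn, ε, ?_⟩
    apply step n _ _ _ _ ε e
    rw [ss_short i (by omega)]
    exact wL_down _ _ ε

theorem genA (hm : 0 < m) (a : Fin m ⊕ Fin m) :
    ∃ n ∈ Subgroup.closure (Set.range (ss (m := m) (F := F))), ∃ ε : F,
      n.1 *ᵥ (Pi.single (Sum.inl ⟨0, hm⟩) 1) = Pi.single a ε := by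
  rcases a with i | i
  · exact genA_inl hm i.val i.2
  · exact genA_inr hm (m - 1 - i.val) i (by have := i.2; omega)

end Cfsg.Agent.Lib.Helper9_StSp_GENA
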