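import Mathlib
import Cfsg.Agent.Lib.Helper45_SylowTwoP
import Cfsg.Agent.Lib.Helper45_SylowTransfer

/-!
helper9: general lemmas on the conjugation action of a finite (simple) group on its Sylow
`p`-subgroups: fixed points of commuting elements, semiregular subgroups, orders of centralizers
via the centralizer in the symmetric group.  Used for "no group has exactly 22 Sylow 3-subgroups".
-/

set_option autoImplicit false
set_option linter.unusedSectionVars false

namespace Cfsg.Agent.Lib.Helper9_Syl22

open Subgroup MulAction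
open scoped Pointwise
open Cfsg.Agent.Lib.Helper45_SylowTwoP (mem_of_smul_eq card_fixedBy_modEq card_fixedBy_modEq_prime
  toPermHom_ker_eq_bot sign_toPermHom card_of_isComplement' relIndex_dvd_card_mulAut
  card_sylow_eq smul_self_of_mem)

variable {G : Type*} [Group G] [Finite G] {p : ℕ} [hp : Fact p.Prime]

/-- number of Sylow subgroups fixed by `g` -/
noncomputable def fix (p : ℕ) [Fact p.Prime] (g : G) : ℕ := Nat.card {R : Sylow p G // g • R = R}

theorem fix_le (g : G) : fix p g ≤ Nat.card (Sylow p G) :=
  Nat.card_le_card_of_injective _ Subtype.val_injective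

/-- an element fixing every Sylow subgroup of a simple group (with `n_p ≠ 1`) is trivial -/
theorem eq_one_of_fix_eq (hS : IsSimpleGroup G) (hn : Nat.card (Sylow p G) ≠ 1) {g : G}
    (h : fix p g = Nat.card (Sylow p G)) : g = 1 := by
  have hall : ∀ R : Sylow p G, g • R = R := by
    have hinj : Function.Injective (Subtype.val :
        {R : Sylow p G // g • R = R} → Sylow p G) := Subtype.val_injective
    have hbij : Function.Bijective (Subtype.val :
        {R : Sylow p G // g • R = R} → Sylow p G) := by
      rw [Nat.bijective_iff_injective_and_card]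
      exact ⟨hinj, h⟩
    intro R
    obtain ⟨⟨R', hR'⟩, rfl⟩ := hbij.2 R
    exact hR'
  have hck : g ∈ (MulAction.toPermHom G (Sylow p G)).ker := by
    rw [MonoidHom.mem_ker]
    apply Equiv.ext
    intro R
    simpa using hall R
  rw [toPermHom_ker_eq_bot hS hn, mem_bot] at hck
  exact hck

/-- fixed points of an element of prime order `r`: `fix g ≡ n_p mod r` -/
theorem fix_modEq_prime (c : G) {r : ℕ} [hr : Fact r.Prime] (hc : orderOf c = r) :
    Nat.card (Sylow p G) ≡ fix p c [MOD r] :=
  card_fixedBy_modEq_prime c hc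

/-- an element centralizing a Sylow subgroup: `fix c ≡ 1 mod p` -/
theorem fix_modEq_of_mem_centralizer (P : Sylow p G) {c : G}
    (hc : c ∈ centralizer ((P : Subgroup G) : Set G)) : fix p c ≡ 1 [MOD p] :=
  card_fixedBy_modEq P hc

/-- parity of the number of fixed points of an involution in a simple group:
`(n_p - fix z) / 2` is even -/
theorem even_half_of_involution (hS : IsSimpleGroup G) (hn : Nat.card (Sylow p G) ≠ 1) {z : G}
    (hz : orderOf z = 2) : Even ((Nat.card (Sylow p G) - fix p z) / 2) := by
  classical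
  have : Fintype (Sylow p G) := Fintype.ofFinite _
  set σ : Equiv.Perm (Sylow p G) := MulAction.toPermHom G (Sylow p G) z with hσ
  have hσ2 : σ ^ 2 = 1 := by
    rw [hσ, ← map_pow, ← hz, pow_orderOf_eq_one, map_one]
  have hsign := Equiv.Perm.sign_of_pow_two_eq_one hσ2
  have hfix : Fintype.card (Function.fixedPoints σ) = fix p z := by
    rw [← Nat.card_eq_fintype_card, fix]
    apply Nat.card_congr
    apply Equiv.subtypeEquivRight
    intro R
    rfl
  rw [hfix, ← Nat.card_eq_fintype_card, sign_toPermHom hS hn z] at hsign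
  by_contra hodd
  rw [Nat.not_even_iff_odd] at hodd
  rw [hodd.neg_one_pow] at hsign
  exact absurd hsign (by decide)

/-- an involution: `fix z ≡ n_p mod 2` -/
theorem fix_involution_parity {z : G} (hz : orderOf z = 2) :
    Nat.card (Sylow p G) ≡ fix p z [MOD 2] := by
  have : Fact (Nat.Prime 2) := ⟨Nat.prime_two⟩
  exact fix_modEq_prime z hz

/-- If `z` of prime order `q` commutes with `g`, then `fix g ≡ #(common fixed points) mod q`. -/
theorem fix_modEq_common {g z : G} {q : ℕ} [hq : Fact q.Prime] (hz : orderOf z = q)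
    (hcomm : z * g = g * z) :
    fix p g ≡ Nat.card {R : Sylow p G // g • R = R ∧ z • R = R} [MOD q] := by
  have h0 : IsPGroup q (zpowers z) :=
    IsPGroup.of_card (n := 1) (by rw [Nat.card_zpowers, hz, pow_one])
  let T : SubMulAction (zpowers z) (Sylow p G) :=
    { carrier := {R | g • R = R}
      smul_mem' := by
        intro x R hR
        have hR' : g • R = R := hR
        show g • (x • R) = x • R
        have h1 : (x : G) • R = x • R := rfl
        obtain ⟨k, hk⟩ := mem_zpowers_iff.1 x.2
        have hc : Commute z g := hcomm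
        have hc' : (x : G) * g = g * (x : G) := by
          rw [← hk]; exact (hc.zpow_left k).eq
        rw [← h1, smul_smul, ← hc', mul_smul, hR'] }
  have h1 := h0.card_modEq_card_fixedPoints T
  have h2 : Nat.card T = fix p g := rfl
  have h3 : Nat.card (fixedPoints (zpowers z) T)
      = Nat.card {R : Sylow p G // g • R = R ∧ z • R = R} := by
    apply Nat.card_congr
    refine
      { toFun := fun a => ⟨a.1.1, a.1.2, ?_⟩
        invFun := fun b => ⟨⟨b.1, b.2.1⟩, ?_⟩
        left_inv := fun a => rfl
        right_inv := fun b => rfl }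
    · have h4 := a.2
      rw [mem_fixedPoints] at h4
      have h5 := congrArg Subtype.val (h4 ⟨z, mem_zpowers z⟩)
      exact h5
    · rw [mem_fixedPoints]
      intro x
      apply Subtype.ext
      have h3' : zpowers z ≤ stabilizer G b.1 := (zpowers_le).2 (mem_stabilizer_iff.2 b.2.2)
      exact mem_stabilizer_iff.1 (h3' x.2)
  rw [h2, h3] at h1
  exact h1

/-- If `z` of prime order `q` has no fixed point and commutes with `g`, then `q ∣ fix g`. -/
theorem dvd_fix_of_commute {g z : G} {q : ℕ} [hq : Fact q.Prime] (hz : orderOf z = q)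
    (hcomm : z * g = g * z) (hfree : fix p z = 0) : q ∣ fix p g := by
  have h1 := fix_modEq_common (p := p) hz hcomm
  have h2 : Nat.card {R : Sylow p G // g • R = R ∧ z • R = R} = 0 := by
    have h3 : Nat.card {R : Sylow p G // g • R = R ∧ z • R = R} ≤ fix p z :=
      Nat.card_le_card_of_injective (fun a => (⟨a.1, a.2.2⟩ : {R : Sylow p G // z • R = R}))
        (fun a b hab => Subtype.ext (by
          have := congrArg Subtype.val hab
          exact this))
    omega
  rw [h2] at h1
  exact (Nat.modEq_zero_iff_dvd).1 h1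

/-- If `z` of prime order `q` commutes with `g`, `z` has exactly one fixed point `P`, and `g`
fixes `P` too (automatic), then `fix g ≡ 1 mod q`. -/
theorem fix_modEq_one_of_commute {g z : G} {q : ℕ} [hq : Fact q.Prime] (hz : orderOf z = q)
    (hcomm : z * g = g * z) (hone : fix p z = 1) : fix p g ≡ 1 [MOD q] := by
  have h1 := fix_modEq_common (p := p) hz hcomm
  have h2 : Nat.card {R : Sylow p G // g • R = R ∧ z • R = R} = 1 := by
    -- the unique fixed point of `z`
    have huniq : ∃ P : Sylow p G, z • P = P ∧ ∀ R : Sylow p G, z • R = R → R = P := by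
      have h3 : Nat.card {R : Sylow p G // z • R = R} = 1 := hone
      rw [Nat.card_eq_one_iff_unique] at h3
      obtain ⟨hsub, ⟨P, hP⟩⟩ := h3
      refine ⟨P, hP, fun R hR => ?_⟩
      exact congrArg Subtype.val (@Subsingleton.elim _ hsub ⟨R, hR⟩ ⟨P, hP⟩)
    obtain ⟨P, hP, hPu⟩ := huniq
    have hgP : g • P = P := by
      apply hPu
      rw [smul_smul, hcomm, mul_smul, hP]
    rw [Nat.card_eq_one_iff_unique]
    refine ⟨⟨fun a b => ?_⟩, ⟨⟨P, hgP, hP⟩⟩⟩
    apply Subtype.ext
    rw [hPu a.1 a.2.2, hPu b.1 b.2.2]
  rw [h2] at h1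
  exact h1


open scoped Nat in
/-- order of the centralizer of a permutation of prime order -/
theorem card_centralizer_perm_prime {α : Type*} [Fintype α] [DecidableEq α] (σ : Equiv.Perm α)
    {q m : ℕ} (hq : q.Prime) (hσ : orderOf σ = q)
    (hm : Fintype.card α - Fintype.card (Function.fixedPoints σ) = m * q) :
    Nat.card (centralizer ({σ} : Set (Equiv.Perm α)))
      = (Fintype.card (Function.fixedPoints σ))! * q ^ m * m ! := by
  obtain ⟨k, hk⟩ := Equiv.Perm.cycleType_prime_order (σ := σ) (by rw [hσ]; exact hq)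
  rw [hσ] at hk
  have hsum : σ.cycleType.sum = (k + 1) * q := by
    rw [hk, Multiset.sum_replicate, smul_eq_mul]
  have hfp := Equiv.Perm.card_fixedPoints σ
  have hle := Equiv.Perm.sum_cycleType_le σ
  have hmk : m = k + 1 := by
    have h1 : m * q = (k + 1) * q := by
      rw [← hm, hfp, hsum]
      rw [hsum] at hle
      omega
    exact Nat.eq_of_mul_eq_mul_right hq.pos h1
  rw [Equiv.Perm.nat_card_centralizer, hfp, hsum]
  have hprod : σ.cycleType.prod = q ^ (k + 1) := by
    rw [hk, Multiset.prod_replicate]
  have hfin : σ.cycleType.toFinset = {q} := by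
    rw [hk, Multiset.toFinset_replicate, if_neg (Nat.succ_ne_zero k)]
  have hcount : σ.cycleType.count q = k + 1 := by
    rw [hk, Multiset.count_replicate_self]
  rw [hprod, hfin, Finset.prod_singleton, hcount, hmk]

open scoped Nat in
/-- In a simple group acting on its `n_p ≠ 1` Sylow subgroups, the centralizer of an element `g`
of prime order `q` with `fix g = n_p - m q` has order dividing `(fix g)! * q ^ m * m!`. -/
theorem card_centralizer_dvd_of_prime (hS : IsSimpleGroup G) (hn : Nat.card (Sylow p G) ≠ 1)
    {g : G} {q m : ℕ} (hq : q.Prime) (hg : orderOf g = q)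
    (hm : Nat.card (Sylow p G) - fix p g = m * q) :
    Nat.card (centralizer ({g} : Set G)) ∣ (fix p g)! * q ^ m * m ! := by
  classical
  have : Fintype (Sylow p G) := Fintype.ofFinite _
  set tp := MulAction.toPermHom G (Sylow p G) with htpdef
  have hinj : Function.Injective tp :=
    (MonoidHom.ker_eq_bot_iff tp).1 (toPermHom_ker_eq_bot hS hn)
  have hfix : Fintype.card (Function.fixedPoints (tp g)) = fix p g := by
    rw [← Nat.card_eq_fintype_card, fix]
    apply Nat.card_congr
    apply Equiv.subtypeEquivRight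
    intro R
    rfl
  have hord : orderOf (tp g) = q := by rw [orderOf_injective tp hinj g, hg]
  have hm' : Fintype.card (Sylow p G) - Fintype.card (Function.fixedPoints (tp g)) = m * q := by
    rw [hfix, ← Nat.card_eq_fintype_card, hm]
  have hcard := card_centralizer_perm_prime (tp g) hq hord hm'
  rw [hfix] at hcard
  rw [← hcard]
  let f : centralizer ({g} : Set G) →* centralizer ({tp g} : Set (Equiv.Perm (Sylow p G))) :=
    (tp.comp (centralizer ({g} : Set G)).subtype).codRestrict _ (by
      intro x
      rw [mem_centralizer_singleton_iff]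
      have hx := mem_centralizer_singleton_iff.1 x.2
      show tp (x : G) * tp g = tp g * tp (x : G)
      rw [← map_mul, ← map_mul, hx])
  have hf : Function.Injective f := by
    intro x y hxy
    have h1 : tp (x : G) = tp (y : G) := congrArg Subtype.val hxy
    exact Subtype.ext (hinj h1)
  exact Subgroup.card_dvd_of_injective f hf

/-- If a cyclic subgroup `⟨y⟩` of prime order `q` acts without fixed points, then an element `u`
normalizing but not centralizing it has at most `n_p / q` fixed points. -/
theorem mul_fix_le_of_free {y u : G} {q : ℕ} [hq : Fact q.Prime] (hy : orderOf y = q)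
    (hfree : fix p y = 0) (hnorm : u * y * u⁻¹ ∈ zpowers y) (hnc : u * y ≠ y * u) :
    q * fix p u ≤ Nat.card (Sylow p G) := by
  have hcardY : Nat.card (zpowers y) = q := by rw [Nat.card_zpowers, hy]
  -- elements of `⟨y⟩` fixing a point are trivial
  have hfree' : ∀ (s : G), s ∈ zpowers y → ∀ R : Sylow p G, s • R = R → s = 1 := by
    intro s hs R hR
    by_contra hs1
    have hne1 : (⟨s, hs⟩ : zpowers y) ≠ 1 := fun h1 => hs1 (congrArg Subtype.val h1)
    have h2 : (⟨y, mem_zpowers y⟩ : zpowers y) ∈ zpowers (⟨s, hs⟩ : zpowers y) :=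
      mem_zpowers_of_prime_card hcardY hne1
    obtain ⟨k, hk⟩ := mem_zpowers_iff.1 h2
    have h3 : s ^ k = y := by
      have := congrArg Subtype.val hk
      simpa using this
    have h4 : zpowers s ≤ stabilizer G R := (zpowers_le).2 (mem_stabilizer_iff.2 hR)
    have h5 : y • R = R := by
      rw [← h3]
      exact mem_stabilizer_iff.1 (h4 (zpow_mem (mem_zpowers s) k))
    have h6 : 0 < fix p y := Nat.card_pos_iff.2 ⟨⟨⟨R, h5⟩⟩, inferInstance⟩
    omega
  -- `u` normalizes `⟨y⟩`
  have hnorm' : ∀ t : G, t ∈ zpowers y → u * t * u⁻¹ ∈ zpowers y := by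
    intro t ht
    obtain ⟨k, rfl⟩ := mem_zpowers_iff.1 ht
    have : u * y ^ k * u⁻¹ = (u * y * u⁻¹) ^ k := by
      rw [conj_zpow]
    rw [this]
    exact zpow_mem hnorm k
  have hcardD : Nat.card (zpowers y × {R : Sylow p G // u • R = R}) = q * fix p u := by
    rw [Nat.card_prod, hcardY, fix]
  rw [← hcardD]
  apply Nat.card_le_card_of_injective (fun a => (a.1 : G) • a.2.1)
  rintro ⟨s, R, hR⟩ ⟨s', R', hR'⟩ heq
  have heq' : (s : G) • R = (s' : G) • R' := heq
  set t : G := (s' : G)⁻¹ * (s : G) with ht
  have htY : t ∈ zpowers y := mul_mem (inv_mem s'.2) s.2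
  have hR't : R' = t • R := by
    rw [ht, mul_smul, heq', inv_smul_smul]
  -- `u t u⁻¹` and `t` act the same on `R`
  have h7 : (u * t * u⁻¹) • R = t • R := by
    have : (u * t * u⁻¹) • R = u • (t • (u⁻¹ • R)) := by rw [mul_smul, mul_smul]
    rw [this]
    have h8 : u⁻¹ • R = R := by
      calc u⁻¹ • R = u⁻¹ • (u • R) := by rw [hR]
        _ = R := inv_smul_smul _ _
    rw [h8, ← hR't, hR']
  have h9 : (t⁻¹ * (u * t * u⁻¹)) • R = R := by
    rw [mul_smul, h7, inv_smul_smul]
  have h10 : t⁻¹ * (u * t * u⁻¹) = 1 :=
    hfree' _ (mul_mem (inv_mem htY) (hnorm' t htY)) R h9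
  have h11 : u * t = t * u := by
    have h12 : u * t * u⁻¹ = t := by
      have := congrArg (fun z => t * z) h10
      simpa [mul_assoc] using this
    calc u * t = (u * t * u⁻¹) * u := by group
      _ = t * u := by rw [h12]
  have ht1 : t = 1 := by
    by_contra ht1
    apply hnc
    have hne1 : (⟨t, htY⟩ : zpowers y) ≠ 1 := fun h1 => ht1 (congrArg Subtype.val h1)
    have h2 : (⟨y, mem_zpowers y⟩ : zpowers y) ∈ zpowers (⟨t, htY⟩ : zpowers y) :=
      mem_zpowers_of_prime_card hcardY hne1
    obtain ⟨k, hk⟩ := mem_zpowers_iff.1 h2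
    have h3 : t ^ k = y := by
      have := congrArg Subtype.val hk
      simpa using this
    rw [← h3]
    have hc : Commute u t := h11
    exact (hc.zpow_right k).eq
  have hss : s = s' := by
    apply Subtype.ext
    have : (s' : G)⁻¹ * (s : G) = 1 := ht1
    calc (s : G) = (s' : G) * ((s' : G)⁻¹ * (s : G)) := by group
      _ = (s' : G) := by rw [this, mul_one]
  have hRR : R = R' := by rw [hR't, ht1, one_smul]
  subst hss
  subst hRR
  rfl

/-- In a simple group a nontrivial proper Sylow subgroup is not central in its normalizer. -/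
theorem not_normalizer_le_centralizer (hS : IsSimpleGroup G) (Q : Sylow p G)
    (h1 : Nat.card (Q : Subgroup G) ≠ 1) (h2 : Nat.card (Q : Subgroup G) ≠ Nat.card G) :
    ¬ normalizer ((Q : Subgroup G) : Set G) ≤ centralizer ((Q : Subgroup G) : Set G) := by
  intro h4
  have h5 := MonoidHom.ker_transferSylow_isComplement' Q h4
  rcases card_of_isComplement' hS Q _ (MonoidHom.normal_ker _) h5 with h | h
  · exact h1 h
  · exact h2 h

/-- an element normalizing `Q` whose order is prime to `|Aut Q|` centralizes `Q` -/
theorem mem_centralizer_of_coprime (Q : Subgroup G) {g : G}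
    (hg : g ∈ normalizer (Q : Set G)) (hcop : (orderOf g).Coprime (Nat.card (MulAut Q))) :
    g ∈ centralizer (Q : Set G) := by
  have h1 : orderOf (Q.normalizerMonoidHom ⟨g, hg⟩) ∣ orderOf g := by
    have := orderOf_map_dvd Q.normalizerMonoidHom (⟨g, hg⟩ : normalizer (Q : Set G))
    rwa [Subgroup.orderOf_mk] at this
  have h2 : orderOf (Q.normalizerMonoidHom ⟨g, hg⟩) ∣ Nat.card (MulAut Q) := orderOf_dvd_natCard _
  have h3 : orderOf (Q.normalizerMonoidHom ⟨g, hg⟩) = 1 := Nat.eq_one_of_dvd_coprimes hcop h1 h2
  rw [orderOf_eq_one_iff] at h3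
  have h4 : (⟨g, hg⟩ : normalizer (Q : Set G)) ∈ Q.normalizerMonoidHom.ker := h3
  rw [normalizerMonoidHom_ker, mem_subgroupOf] at h4
  exact h4

/-- `|Aut Q| = q - 1` for a group of prime order `q` -/
theorem card_mulAut_of_prime_card (Q : Subgroup G) {q : ℕ} (hq : q.Prime)
    (hQ : Nat.card Q = q) : Nat.card (MulAut Q) = q - 1 := by
  have hF : Fact q.Prime := ⟨hq⟩
  have hQc : IsCyclic Q := isCyclic_of_prime_card hQ
  rw [IsCyclic.card_mulAut Q, hQ, Nat.totient_prime hq]

end Cfsg.Agent.Lib.Helper9_Syl22
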