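import Mathlib
import Cfsg.Agent.Lib.Helper9_Syl22A
import Cfsg.Agent.S0985

/-!
helper9: in a simple group with exactly 22 Sylow 3-subgroups, the Sylow 3-subgroups have order 3.
Graph-theoretic analysis of the Sylow intersections of index 3.
-/

set_option autoImplicit false
set_option linter.unusedSectionVars false

namespace Cfsg.Agent.Lib.Helper9_Syl22

open Subgroup MulAction
open scoped Pointwise
open Cfsg.Agent.Lib.Helper45_SylowTwoP (mem_of_smul_eq card_sylow_eq smul_self_of_mem
  relIndex_pow relIndex_ne_one relIndex_eq_ncard_orbit card_over_modEq iInf_sylow_normal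
  stabilizer_eq)

variable {G : Type*} [Group G] [Finite G] {p : ℕ} [hp : Fact p.Prime]

/-- adjacency of Sylow subgroups: the intersection has index `p` -/
def Adj (P Q : Sylow p G) : Prop :=
  Nat.card ((P : Subgroup G) ⊓ Q : Subgroup G) * p = Nat.card (P : Subgroup G)

theorem Adj.symm {P Q : Sylow p G} (h : Adj P Q) : Adj Q P := by
  unfold Adj at h ⊢
  rw [inf_comm, h, card_sylow_eq P Q]

theorem Adj.ne {P Q : Sylow p G} (h : Adj P Q) : P ≠ Q := by
  rintro rfl
  unfold Adj at h
  rw [inf_idem] at h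
  have h1 : 0 < Nat.card (P : Subgroup G) := Nat.card_pos
  have h2 : p = 1 := by
    have : Nat.card (P : Subgroup G) * p = Nat.card (P : Subgroup G) * 1 := by rw [h, mul_one]
    exact Nat.eq_of_mul_eq_mul_left h1 this
  exact hp.out.one_lt.ne' h2

theorem card_smul_subgroup (g : G) (H : Subgroup G) :
    Nat.card (MulAut.conj g • H : Subgroup G) = Nat.card H :=
  (Nat.card_congr (Subgroup.equivSMul (MulAut.conj g) H).toEquiv).symm

theorem adj_smul_iff (g : G) (P Q : Sylow p G) : Adj (g • P) (g • Q) ↔ Adj P Q := by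
  unfold Adj
  rw [Sylow.coe_subgroup_smul, Sylow.coe_subgroup_smul, ← Subgroup.smul_inf, card_smul_subgroup,
    card_smul_subgroup]

/-- for distinct Sylow subgroups the intersection has index at least `p` -/
theorem card_inf_mul_le {P Q : Sylow p G} (h : P ≠ Q) :
    Nat.card ((P : Subgroup G) ⊓ Q : Subgroup G) * p ≤ Nat.card (P : Subgroup G) := by
  obtain ⟨j, hj⟩ := relIndex_pow P Q
  have h1 := relIndex_ne_one P Q h
  have h2 : Nat.card ((P : Subgroup G) ⊓ Q : Subgroup G) * (Q : Subgroup G).relIndex (P : Subgroup G)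
      = Nat.card (P : Subgroup G) := by
    rw [← inf_relIndex_left (H := (P : Subgroup G)) (K := (Q : Subgroup G)), ← relIndex_bot_left,
      ← relIndex_bot_left, relIndex_mul_relIndex _ _ _ bot_le inf_le_left]
  rw [← h2, hj]
  apply Nat.mul_le_mul_left
  rcases j with _ | j
  · rw [hj, pow_zero] at h1; exact absurd rfl h1
  · rw [pow_succ]
    exact Nat.le_mul_of_pos_left _ (pow_pos hp.out.pos j)

/-- adjacency in terms of `relIndex` -/
theorem adj_iff_relIndex {P Q : Sylow p G} : Adj P Q ↔ (Q : Subgroup G).relIndex (P : Subgroup G) = p := by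
  have h2 : Nat.card ((P : Subgroup G) ⊓ Q : Subgroup G) * (Q : Subgroup G).relIndex (P : Subgroup G)
      = Nat.card (P : Subgroup G) := by
    rw [← inf_relIndex_left (H := (P : Subgroup G)) (K := (Q : Subgroup G)), ← relIndex_bot_left,
      ← relIndex_bot_left, relIndex_mul_relIndex _ _ _ bot_le inf_le_left]
  unfold Adj
  constructor
  · intro h
    rw [← h2] at h
    exact (Nat.eq_of_mul_eq_mul_left Nat.card_pos h).symm
  · intro h
    rw [← h2, h]

/-- a common subgroup of index `p` is the intersection -/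
theorem inf_eq_of_le {P Q P' Q' : Sylow p G} (h : Adj P Q) (h' : P' ≠ Q')
    (h1 : (P : Subgroup G) ⊓ Q ≤ (P' : Subgroup G)) (h2 : (P : Subgroup G) ⊓ Q ≤ (Q' : Subgroup G)) :
    (P' : Subgroup G) ⊓ Q' = (P : Subgroup G) ⊓ Q := by
  symm
  apply eq_of_le_of_card_ge (le_inf h1 h2)
  have e1 : Nat.card ((P : Subgroup G) ⊓ Q : Subgroup G) * p = Nat.card (P : Subgroup G) := h
  have e2 := card_inf_mul_le h'
  rw [card_sylow_eq P' P, ← e1] at e2
  exact Nat.le_of_mul_le_mul_right e2 hp.out.pos

theorem adj_of_le {P Q P' Q' : Sylow p G} (h : Adj P Q) (h' : P' ≠ Q')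
    (h1 : (P : Subgroup G) ⊓ Q ≤ (P' : Subgroup G)) (h2 : (P : Subgroup G) ⊓ Q ≤ (Q' : Subgroup G)) :
    Adj P' Q' := by
  unfold Adj
  rw [inf_eq_of_le h h' h1 h2, card_sylow_eq P' P]
  exact h

/-- the intersection of adjacent Sylow subgroups is normal in each -/
theorem Adj.normal {P Q : Sylow p G} (h : Adj P Q) :
    (((P : Subgroup G) ⊓ Q).subgroupOf (P : Subgroup G)).Normal := by
  apply normal_of_index_eq_minFac_card
  have h1 := adj_iff_relIndex.1 h
  rw [← inf_relIndex_right, inf_comm] at h1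
  have h2 : (((P : Subgroup G) ⊓ Q).subgroupOf (P : Subgroup G)).index = p := h1
  rw [h2]
  obtain ⟨a, ha⟩ := IsPGroup.iff_card.1 P.isPGroup'
  have ha0 : a ≠ 0 := by
    rintro rfl
    have h3 : Nat.card ((P : Subgroup G) ⊓ Q : Subgroup G) * p = Nat.card (P : Subgroup G) := h
    rw [ha, pow_zero] at h3
    have := Nat.eq_one_of_mul_eq_one_left h3
    exact hp.out.one_lt.ne' this
  rw [ha, hp.out.pow_minFac ha0]

/-- conjugation by an element of `P` fixes the intersection with an adjacent Sylow subgroup -/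
theorem Adj.conj_inf {P Q : Sylow p G} (h : Adj P Q) {d : G} (hd : d ∈ (P : Subgroup G)) :
    MulAut.conj d • ((P : Subgroup G) ⊓ Q) = (P : Subgroup G) ⊓ Q := by
  have hn := h.normal
  apply le_antisymm
  · rintro - ⟨g, hg, rfl⟩
    have hgP : g ∈ (P : Subgroup G) := hg.1
    have h1 := hn.conj_mem ⟨g, hgP⟩ (mem_subgroupOf.2 hg) ⟨d, hd⟩
    rw [mem_subgroupOf] at h1
    simpa [MulAut.smul_def] using h1
  · intro g hg
    rw [mem_pointwise_smul_iff_inv_smul_mem]
    have hgP : g ∈ (P : Subgroup G) := hg.1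
    have h1 := hn.conj_mem ⟨g, hgP⟩ (mem_subgroupOf.2 hg) ⟨d, hd⟩⁻¹
    rw [mem_subgroupOf] at h1
    simpa [MulAut.smul_def] using h1

/-- triangles lie in a clique: if `P, Q, X` are pairwise adjacent then `P ⊓ Q ≤ X` -/
theorem le_of_triangle {P Q X : Sylow p G} (hPQ : Adj P Q) (hPX : Adj P X) (hQX : Adj Q X) :
    (P : Subgroup G) ⊓ Q ≤ (X : Subgroup G) := by
  by_contra hcon
  obtain ⟨d, hdD, hdX⟩ := SetLike.not_le_iff_exists.1 hcon
  have hdP : d ∈ (P : Subgroup G) := hdD.1
  have hdQ : d ∈ (Q : Subgroup G) := hdD.2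
  have hne : X ≠ d • X := by
    intro h
    exact hdX (mem_of_smul_eq P X hdP h.symm)
  -- `P ⊓ X ≤ d • X` and `Q ⊓ X ≤ d • X`
  have h1 : (P : Subgroup G) ⊓ X ≤ ((d • X : Sylow p G) : Subgroup G) := by
    rw [Sylow.coe_subgroup_smul, ← hPX.conj_inf hdP, pointwise_smul_le_pointwise_smul_iff]
    exact inf_le_right
  have h2 : (Q : Subgroup G) ⊓ X ≤ ((d • X : Sylow p G) : Subgroup G) := by
    rw [Sylow.coe_subgroup_smul, ← hQX.conj_inf hdQ, pointwise_smul_le_pointwise_smul_iff]
    exact inf_le_right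
  have e1 := inf_eq_of_le hPX hne inf_le_right h1
  have e2 := inf_eq_of_le hQX hne inf_le_right h2
  have e3 : (P : Subgroup G) ⊓ X = (Q : Subgroup G) ⊓ X := e1.symm.trans e2
  -- then `P ⊓ X ≤ P ⊓ Q`, and they have the same order
  have h3 : (P : Subgroup G) ⊓ X ≤ (P : Subgroup G) ⊓ Q := by
    apply le_inf inf_le_left
    rw [e3]; exact inf_le_left
  have h4 : (P : Subgroup G) ⊓ X = (P : Subgroup G) ⊓ Q := by
    apply eq_of_le_of_card_ge h3
    have c1 : Nat.card ((P : Subgroup G) ⊓ Q : Subgroup G) * p = Nat.card (P : Subgroup G) := hPQ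
    have c2 : Nat.card ((P : Subgroup G) ⊓ X : Subgroup G) * p = Nat.card (P : Subgroup G) := hPX
    rw [← c2] at c1
    exact (Nat.eq_of_mul_eq_mul_right hp.out.pos c1).le
  apply hcon
  rw [← h4]
  exact inf_le_right


theorem Adj.le_normalizer {P Q : Sylow p G} (h : Adj P Q) :
    (P : Subgroup G) ≤ normalizer (((P : Subgroup G) ⊓ Q : Subgroup G) : Set G) := by
  intro d hd
  have h1 := h.conj_inf hd
  rw [mem_normalizer_iff]
  intro g
  constructor
  · intro hg
    rw [← h1]
    exact ⟨g, hg, rfl⟩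
  · intro hg
    rw [← h1] at hg
    obtain ⟨g', hg', he⟩ := hg
    have he' : d * g' * d⁻¹ = d * g * d⁻¹ := he
    have : g' = g := by
      have h2 := mul_left_cancel (mul_right_cancel he')
      exact h2
    rw [← this]; exact hg'

/-- number of Sylow subgroups containing `D` -/
noncomputable def nOver (p : ℕ) [Fact p.Prime] (D : Subgroup G) : ℕ :=
  Nat.card {R : Sylow p G // D ≤ (R : Subgroup G)}

theorem nOver_le (D : Subgroup G) : nOver p D ≤ Nat.card (Sylow p G) :=
  Nat.card_le_card_of_injective _ Subtype.val_injective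

theorem Adj.nOver_modEq {P Q : Sylow p G} (h : Adj P Q) :
    nOver p ((P : Subgroup G) ⊓ Q) ≡ 1 [MOD p] :=
  card_over_modEq P _ inf_le_left h.normal

theorem Adj.two_le_nOver {P Q : Sylow p G} (h : Adj P Q) : 2 ≤ nOver p ((P : Subgroup G) ⊓ Q) := by
  by_contra hlt
  have hle : nOver p ((P : Subgroup G) ⊓ Q) ≤ 1 := by omega
  have hsub : Subsingleton {R : Sylow p G // (P : Subgroup G) ⊓ Q ≤ (R : Subgroup G)} :=
    (Finite.card_le_one_iff_subsingleton).1 hle
  have := @Subsingleton.elim _ hsub ⟨P, inf_le_left⟩ ⟨Q, inf_le_right⟩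
  exact h.ne (congrArg Subtype.val this)

/-- in a simple group a nontrivial subgroup is not contained in all Sylow subgroups
(when there are several) -/
theorem nOver_ne_card (hS : IsSimpleGroup G) (hn : Nat.card (Sylow p G) ≠ 1) {D : Subgroup G}
    (hD : D ≠ ⊥) : nOver p D ≠ Nat.card (Sylow p G) := by
  intro heq
  have hall : ∀ R : Sylow p G, D ≤ (R : Subgroup G) := by
    have hinj : Function.Injective (Subtype.val :
        {R : Sylow p G // D ≤ (R : Subgroup G)} → Sylow p G) := Subtype.val_injective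
    have hbij : Function.Bijective (Subtype.val :
        {R : Sylow p G // D ≤ (R : Subgroup G)} → Sylow p G) := by
      rw [Nat.bijective_iff_injective_and_card]
      exact ⟨hinj, heq⟩
    intro R
    obtain ⟨⟨R', hR'⟩, rfl⟩ := hbij.2 R
    exact hR'
  have hK := iInf_sylow_normal (G := G) (p := p)
  have hle : D ≤ ⨅ R : Sylow p G, (R : Subgroup G) := le_iInf hall
  rcases hS.eq_bot_or_eq_top_of_normal _ hK with hb | ht
  · apply hD
    rw [eq_bot_iff, ← hb]; exact hle
  · apply hn
    rw [Nat.card_eq_one_iff_unique]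
    have P₀ : Sylow p G := default
    refine ⟨⟨fun R R' => ?_⟩, ⟨P₀⟩⟩
    have h1 : (R : Subgroup G) = ⊤ := by rw [eq_top_iff, ← ht]; exact iInf_le _ R
    have h2 : (R' : Subgroup G) = ⊤ := by rw [eq_top_iff, ← ht]; exact iInf_le _ R'
    exact Sylow.ext (h1.trans h2.symm)

/-- the normalizer of `D = P ⊓ Q` (adjacent pair) is transitive on the Sylow subgroups over `D` -/
theorem Adj.orbit_eq {P Q : Sylow p G} (h : Adj P Q) :
    orbit (normalizer (((P : Subgroup G) ⊓ Q : Subgroup G) : Set G)) P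
      = {R : Sylow p G | (P : Subgroup G) ⊓ Q ≤ (R : Subgroup G)} := by
  set D : Subgroup G := (P : Subgroup G) ⊓ Q with hD
  ext R
  constructor
  · rintro ⟨m, rfl⟩
    show D ≤ ((m • P : Sylow p G) : Subgroup G)
    intro d hd
    have h1 : (m • P : Sylow p G) = (m : G) • P := rfl
    rw [h1, Sylow.coe_subgroup_smul, mem_pointwise_smul_iff_inv_smul_mem]
    have h2 : (m : G)⁻¹ ∈ normalizer (D : Set G) := inv_mem m.2
    have h3 := (mem_normalizer_iff.1 h2 d).1 hd
    have h4 : (m : G)⁻¹ * d * (m : G)⁻¹⁻¹ ∈ (P : Subgroup G) := (inf_le_left : D ≤ P) h3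
    simpa [MulAut.smul_def] using h4
  · intro hR
    have hR' : D ≤ (R : Subgroup G) := hR
    by_cases hRP : R = P
    · rw [hRP]; exact mem_orbit_self P
    · have hPR : Adj P R := adj_of_le h (Ne.symm hRP) inf_le_left hR'
      have hinf : (P : Subgroup G) ⊓ R = D := inf_eq_of_le h (Ne.symm hRP) inf_le_left hR'
      have hPM : (P : Subgroup G) ≤ normalizer (D : Set G) := h.le_normalizer
      have hRM : (R : Subgroup G) ≤ normalizer (D : Set G) := by
        have := hPR.symm.le_normalizer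
        rwa [inf_comm, hinf] at this
      obtain ⟨m, hm⟩ := MulAction.exists_smul_eq (normalizer (D : Set G)) (P.subtype hPM)
        (R.subtype hRM)
      rw [Sylow.smul_subtype] at hm
      exact ⟨m, Sylow.subtype_injective hm⟩

theorem Adj.nOver_eq_relIndex {P Q : Sylow p G} (h : Adj P Q) :
    nOver p ((P : Subgroup G) ⊓ Q) = (normalizer ((P : Subgroup G) : Set G)).relIndex
      (normalizer (((P : Subgroup G) ⊓ Q : Subgroup G) : Set G)) := by
  set D : Subgroup G := (P : Subgroup G) ⊓ Q with hD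
  have h1 : stabilizer (normalizer (D : Set G)) P
      = (normalizer ((P : Subgroup G) : Set G)).subgroupOf (normalizer (D : Set G)) := by
    ext m
    rw [mem_stabilizer_iff, mem_subgroupOf]
    have h2 : m • P = (m : G) • P := rfl
    rw [h2, Sylow.smul_eq_iff_mem_normalizer]
    exact Iff.rfl
  have h3 := MulAction.index_stabilizer (G := normalizer (D : Set G)) (x := P)
  rw [h1, h.orbit_eq] at h3
  rw [relIndex, h3, nOver, ← hD]
  exact (Nat.card_coe_set_eq _)


/-- valency of the adjacency graph -/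
noncomputable def deg (P : Sylow p G) : ℕ := Nat.card {X : Sylow p G // Adj P X}

theorem deg_smul (g : G) (P : Sylow p G) : deg (g • P) = deg P := by
  unfold deg
  apply Nat.card_congr
  refine
    { toFun := fun X => ⟨g⁻¹ • X.1, ?_⟩
      invFun := fun X => ⟨g • X.1, ?_⟩
      left_inv := fun X => Subtype.ext (smul_inv_smul g X.1)
      right_inv := fun X => Subtype.ext (inv_smul_smul g X.1) }
  · have h1 := X.2
    rw [← adj_smul_iff g⁻¹, inv_smul_smul] at h1
    exact h1
  · have h1 := X.2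
    rw [← adj_smul_iff g] at h1
    exact h1

theorem deg_eq (P P' : Sylow p G) : deg P = deg P' := by
  obtain ⟨g, rfl⟩ := MulAction.exists_smul_eq G P' P
  exact deg_smul g P'

/-- the index arithmetic for an adjacent pair -/
theorem Adj.index_arith {P Q : Sylow p G} (h : Adj P Q) :
    ∃ u v : ℕ, 0 < u ∧ Nat.card (Sylow p G) * u = nOver p ((P : Subgroup G) ⊓ Q) * v ∧
      p * u ≤ deg P := by
  set D : Subgroup G := (P : Subgroup G) ⊓ Q with hD
  set M : Subgroup G := normalizer (D : Set G) with hM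
  set N : Subgroup G := normalizer ((P : Subgroup G) : Set G) with hN
  set NQ : Subgroup G := N ⊓ normalizer ((Q : Subgroup G) : Set G) with hNQ
  have hf : nOver p D = N.relIndex M := h.nOver_eq_relIndex
  have hNQM : NQ ≤ M := by
    intro g hg
    have hgP : g ∈ normalizer ((P : Subgroup G) : Set G) := hg.1
    have hgQ : g ∈ normalizer ((Q : Subgroup G) : Set G) := hg.2
    rw [hM, mem_normalizer_iff]
    intro x
    rw [hD, mem_inf, mem_inf, (mem_normalizer_iff.1 hgP x), (mem_normalizer_iff.1 hgQ x)]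
  have hNQN : NQ ≤ N := inf_le_left
  have hNQMN : NQ ≤ M ⊓ N := le_inf hNQM hNQN
  have hPM : (P : Subgroup G) ≤ M := h.le_normalizer
  have hPN : (P : Subgroup G) ≤ N := Subgroup.le_normalizer
  have hrel : ∀ H K : Subgroup G, H.relIndex K ≠ 0 := fun H K => Subgroup.index_ne_zero_of_finite
  have hNidx : N.index = Nat.card (Sylow p G) := (Sylow.card_eq_index_normalizer P).symm
  -- the two chains
  have c1 : NQ.index = NQ.relIndex (M ⊓ N) * M.relIndex N * Nat.card (Sylow p G) := by
    rw [← hNidx, ← relIndex_mul_index hNQN, ← relIndex_mul_relIndex _ _ _ hNQMN inf_le_right,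
      inf_relIndex_right]
  have c2 : NQ.index = NQ.relIndex (M ⊓ N) * N.relIndex M * M.index := by
    rw [← relIndex_mul_index hNQM, ← relIndex_mul_relIndex _ _ _ hNQMN inf_le_left,
      inf_relIndex_left]
  have htpos : 0 < NQ.relIndex (M ⊓ N) := Nat.pos_of_ne_zero (hrel _ _)
  have hupos : 0 < M.relIndex N := Nat.pos_of_ne_zero (hrel _ _)
  refine ⟨M.relIndex N, M.index, hupos, ?_, ?_⟩
  · rw [hf]
    have h1 : NQ.relIndex (M ⊓ N) * (Nat.card (Sylow p G) * M.relIndex N)
        = NQ.relIndex (M ⊓ N) * (N.relIndex M * M.index) := by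
      calc NQ.relIndex (M ⊓ N) * (Nat.card (Sylow p G) * M.relIndex N)
          = NQ.relIndex (M ⊓ N) * M.relIndex N * Nat.card (Sylow p G) := by ring
        _ = NQ.index := c1.symm
        _ = NQ.relIndex (M ⊓ N) * N.relIndex M * M.index := c2
        _ = NQ.relIndex (M ⊓ N) * (N.relIndex M * M.index) := by ring
    exact Nat.eq_of_mul_eq_mul_left htpos h1
  · -- the orbit of `Q` under `N`
    have h1 : stabilizer N Q = (normalizer ((Q : Subgroup G) : Set G)).subgroupOf N := by
      ext m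
      rw [mem_stabilizer_iff, mem_subgroupOf]
      have h2 : m • Q = (m : G) • Q := rfl
      rw [h2, Sylow.smul_eq_iff_mem_normalizer]
      exact Iff.rfl
    have h3 := MulAction.index_stabilizer (G := N) (x := Q)
    rw [h1] at h3
    have h4 : (orbit N Q).ncard = NQ.relIndex N := by
      rw [← h3, hNQ, inf_relIndex_left]
      rfl
    have h5 : orbit N Q ⊆ {X : Sylow p G | Adj P X} := by
      rintro X ⟨n, rfl⟩
      show Adj P (n • Q)
      have h6 : n • Q = (n : G) • Q := rfl
      have h7 : (n : G) • P = P := Sylow.smul_eq_iff_mem_normalizer.2 n.2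
      have h8 : Adj ((n : G) • P) ((n : G) • Q) := (adj_smul_iff (n : G) P Q).2 h
      rw [h7] at h8
      rw [h6]
      exact h8
    have h8 : (orbit N Q).ncard ≤ deg P := by
      rw [deg, ← Nat.card_coe_set_eq]
      exact Nat.card_le_card_of_injective (Set.inclusion h5) (Set.inclusion_injective h5)
    have h9 : NQ.relIndex N = NQ.relIndex (M ⊓ N) * M.relIndex N := by
      rw [← relIndex_mul_relIndex _ _ _ hNQMN inf_le_right, inf_relIndex_right]
    -- `t ≥ p`
    have h10 : p ≤ NQ.relIndex (M ⊓ N) := by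
      have h11 : NQ.relIndex (P : Subgroup G) ≤ NQ.relIndex (M ⊓ N) :=
        relIndex_le_of_le_right (le_inf hPM hPN) (hrel _ _)
      have h12 : NQ.relIndex (P : Subgroup G) = p := by
        rw [← inf_relIndex_right]
        have h13 : NQ ⊓ (P : Subgroup G) = (P : Subgroup G) ⊓ Q := by
          rw [hNQ]
          have h14 : (P : Subgroup G) ⊓ normalizer ((Q : Subgroup G) : Set G)
              = (P : Subgroup G) ⊓ Q := P.isPGroup'.inf_normalizer_sylow Q
          apply le_antisymm
          · intro g hg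
            have : g ∈ (P : Subgroup G) ⊓ normalizer ((Q : Subgroup G) : Set G) := ⟨hg.2, hg.1.2⟩
            rw [h14] at this
            exact this
          · intro g hg
            refine ⟨⟨hPN hg.1, ?_⟩, hg.1⟩
            exact Subgroup.le_normalizer hg.2
        rw [h13, inf_relIndex_left]
        exact adj_iff_relIndex.1 h
      rw [← h12]; exact h11
    calc p * M.relIndex N ≤ NQ.relIndex (M ⊓ N) * M.relIndex N := Nat.mul_le_mul_right _ h10
      _ = NQ.relIndex N := h9.symm
      _ = (orbit N Q).ncard := h4.symm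
      _ ≤ deg P := h8


/-- if all point stabilizers have index `m`, then `m` divides the cardinality -/
theorem dvd_card_of_index_stabilizer {H X : Type*} [Group H] [Finite H] [MulAction H X] [Finite X]
    (m : ℕ) (h : ∀ x : X, (stabilizer H x).index = m) : m ∣ Nat.card X := by
  classical
  have : Fintype (orbitRel.Quotient H X) := Fintype.ofFinite _
  rw [Nat.card_congr (selfEquivSigmaOrbits H X), Nat.card_sigma]
  apply Finset.dvd_sum
  intro ω _
  show m ∣ Nat.card (orbit H ω.out)
  rw [Nat.card_coe_set_eq, ← index_stabilizer, h]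

/-- second adjacency: the intersection has index `p ^ 2` -/
def Adj2 (P Q : Sylow p G) : Prop :=
  Nat.card ((P : Subgroup G) ⊓ Q : Subgroup G) * p ^ 2 = Nat.card (P : Subgroup G)

theorem adj2_smul_iff (g : G) (P Q : Sylow p G) : Adj2 (g • P) (g • Q) ↔ Adj2 P Q := by
  unfold Adj2
  rw [Sylow.coe_subgroup_smul, Sylow.coe_subgroup_smul, ← Subgroup.smul_inf, card_smul_subgroup,
    card_smul_subgroup]

theorem adj2_iff_relIndex {P Q : Sylow p G} :
    Adj2 P Q ↔ (Q : Subgroup G).relIndex (P : Subgroup G) = p ^ 2 := by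
  have h2 : Nat.card ((P : Subgroup G) ⊓ Q : Subgroup G) * (Q : Subgroup G).relIndex (P : Subgroup G)
      = Nat.card (P : Subgroup G) := by
    rw [← inf_relIndex_left (H := (P : Subgroup G)) (K := (Q : Subgroup G)), ← relIndex_bot_left,
      ← relIndex_bot_left, relIndex_mul_relIndex _ _ _ bot_le inf_le_left]
  unfold Adj2
  constructor
  · intro h
    rw [← h2] at h
    exact (Nat.eq_of_mul_eq_mul_left Nat.card_pos h).symm
  · intro h
    rw [← h2, h]

noncomputable def deg2 (P : Sylow p G) : ℕ := Nat.card {X : Sylow p G // Adj2 P X}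

/-- `p ^ 2` divides the number of Sylow subgroups at "distance" `p ^ 2` from `P` -/
theorem sq_dvd_deg2 (P : Sylow p G) : p ^ 2 ∣ deg2 P := by
  let T : SubMulAction (P : Subgroup G) (Sylow p G) :=
    { carrier := {X | Adj2 P X}
      smul_mem' := by
        intro x X hX
        have h1 : x • X = (x : G) • X := rfl
        have h2 : (x : G) • P = P := smul_self_of_mem P x.2
        show Adj2 P (x • X)
        have h3 : Adj2 ((x : G) • P) ((x : G) • X) := (adj2_smul_iff (x : G) P X).2 hX
        rw [h2] at h3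
        rw [h1]
        exact h3 }
  have h0 : deg2 P = Nat.card T := rfl
  rw [h0]
  apply dvd_card_of_index_stabilizer (H := (P : Subgroup G)) (X := T)
  intro X
  rw [SubMulAction.stabilizer_of_subMul, stabilizer_eq]
  exact adj2_iff_relIndex.1 X.2

/-- with 22 Sylow 3-subgroups, two distinct ones intersect in index 3 or 9 -/
theorem adj_or_adj2 [Fact (Nat.Prime 3)] (hn : Nat.card (Sylow 3 G) = 22) {P Q : Sylow 3 G}
    (h : P ≠ Q) : Adj P Q ∨ Adj2 P Q := by
  obtain ⟨j, hj⟩ := relIndex_pow P Q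
  have h1 := relIndex_ne_one P Q h
  have h2 : (Q : Subgroup G).relIndex (P : Subgroup G) ≤ 21 := by
    rw [relIndex_eq_ncard_orbit]
    calc (orbit (P : Subgroup G) Q).ncard ≤ (Set.univ \ {P} : Set (Sylow 3 G)).ncard :=
          Set.ncard_le_ncard (Cfsg.Agent.Lib.Helper45_SylowTwoP.orbit_subset P Q h) (Set.toFinite _)
      _ = 21 := by
          rw [Set.ncard_sdiff_singleton_of_mem (Set.mem_univ _), Set.ncard_univ, hn]
  rcases j with _ | _ | _ | j
  · rw [hj, pow_zero] at h1; exact absurd rfl h1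
  · left
    rw [adj_iff_relIndex, hj, pow_one]
  · right
    rw [adj2_iff_relIndex, hj]
  · exfalso
    rw [hj] at h2
    have h3 : (3 : ℕ) ^ (j + 1 + 1 + 1) = 27 * 3 ^ j := by ring
    have h4 : 1 ≤ 3 ^ j := Nat.one_le_pow _ _ (by norm_num)
    omega

theorem Adj2.ne {P Q : Sylow p G} (h : Adj2 P Q) : P ≠ Q := by
  rintro rfl
  unfold Adj2 at h
  rw [inf_idem] at h
  have h1 : 0 < Nat.card (P : Subgroup G) := Nat.card_pos
  have h2 : p ^ 2 = 1 := by
    have : Nat.card (P : Subgroup G) * p ^ 2 = Nat.card (P : Subgroup G) * 1 := by rw [h, mul_one]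
    exact Nat.eq_of_mul_eq_mul_left h1 this
  have h3 : 1 < p ^ 2 := Nat.one_lt_pow (by norm_num) hp.out.one_lt
  omega

theorem not_adj_and_adj2 {P Q : Sylow p G} (h : Adj P Q) (h' : Adj2 P Q) : False := by
  unfold Adj at h
  unfold Adj2 at h'
  rw [← h, pow_two, ← mul_assoc] at h'
  have h1 : 0 < Nat.card ((P : Subgroup G) ⊓ Q : Subgroup G) * p :=
    Nat.mul_pos Nat.card_pos hp.out.pos
  have h2 : p = 1 := by
    have : Nat.card ((P : Subgroup G) ⊓ Q : Subgroup G) * p * p
        = Nat.card ((P : Subgroup G) ⊓ Q : Subgroup G) * p * 1 := by rw [h', mul_one]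
    exact Nat.eq_of_mul_eq_mul_left h1 this
  exact hp.out.one_lt.ne' h2

/-- counting the other Sylow subgroups -/
theorem deg_add_deg2 [Fact (Nat.Prime 3)] (hn : Nat.card (Sylow 3 G) = 22) (P : Sylow 3 G) :
    deg P + deg2 P = 21 := by
  classical
  have : Fintype (Sylow 3 G) := Fintype.ofFinite _
  have h1 : deg P = (Finset.univ.filter (fun X : Sylow 3 G => Adj P X)).card := by
    rw [deg, Nat.card_eq_fintype_card, Fintype.card_subtype]
  have h2 : deg2 P = (Finset.univ.filter (fun X : Sylow 3 G => Adj2 P X)).card := by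
    rw [deg2, Nat.card_eq_fintype_card, Fintype.card_subtype]
  have h3 : (Finset.univ : Finset (Sylow 3 G)) = insert P
      (Finset.univ.filter (fun X : Sylow 3 G => Adj P X) ∪
        Finset.univ.filter (fun X : Sylow 3 G => Adj2 P X)) := by
    ext X
    simp only [Finset.mem_univ, Finset.mem_insert, Finset.mem_union, Finset.mem_filter, true_and,
      true_iff]
    by_cases hXP : X = P
    · left; exact hXP
    · right; exact adj_or_adj2 hn (Ne.symm hXP)
  have h4 : Disjoint (Finset.univ.filter (fun X : Sylow 3 G => Adj P X))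
      (Finset.univ.filter (fun X : Sylow 3 G => Adj2 P X)) := by
    rw [Finset.disjoint_filter]
    intro X _ hX hX'
    exact not_adj_and_adj2 hX hX'
  have h5 : P ∉ (Finset.univ.filter (fun X : Sylow 3 G => Adj P X) ∪
        Finset.univ.filter (fun X : Sylow 3 G => Adj2 P X)) := by
    simp only [Finset.mem_union, Finset.mem_filter, Finset.mem_univ, true_and, not_or]
    exact ⟨fun h => h.ne rfl, fun h => h.ne rfl⟩
  have h6 := congrArg Finset.card h3
  rw [Finset.card_univ, ← Nat.card_eq_fintype_card, hn, Finset.card_insert_of_notMem h5,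
    Finset.card_union_of_disjoint h4, ← h1, ← h2] at h6
  omega


/-- existence of an adjacent pair when `n_3 = 22` -/
theorem exists_adj [Fact (Nat.Prime 3)] (hn : Nat.card (Sylow 3 G) = 22) :
    ∃ P Q : Sylow 3 G, Adj P Q := by
  have h0 : ¬ Nat.card (Sylow 3 G) ≡ 1 [MOD 3 ^ 2] := by
    rw [hn, Nat.ModEq]; norm_num
  obtain ⟨P, R, hPR, hle⟩ := Cfsg.Agent.S0985.result (G := G) 3 2 h0
  refine ⟨P, R, ?_⟩
  rcases adj_or_adj2 hn hPR with h | h
  · exact h
  · exfalso
    have h1 := adj2_iff_relIndex.1 h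
    have h2 : ((R : Subgroup G).subgroupOf (P : Subgroup G)).index = 3 ^ 2 := h1
    rw [h2] at hle
    norm_num at hle

/-- the clique numbers and valency when the Sylow subgroups are not of order 3 -/
theorem clique_facts [Fact (Nat.Prime 3)] (hS : IsSimpleGroup G) (hn : Nat.card (Sylow 3 G) = 22)
    (hne : ∃ P₀ : Sylow 3 G, Nat.card (P₀ : Subgroup G) ≠ 3) :
    (∀ P : Sylow 3 G, deg P = 12) ∧
      ∀ P Q : Sylow 3 G, Adj P Q → nOver 3 ((P : Subgroup G) ⊓ Q) = 4 := by
  have hn1 : Nat.card (Sylow 3 G) ≠ 1 := by rw [hn]; norm_num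
  obtain ⟨P₀, hP₀⟩ := hne
  have hcardne : ∀ P : Sylow 3 G, Nat.card (P : Subgroup G) ≠ 3 := fun P => by
    rw [card_sylow_eq P P₀]; exact hP₀
  -- facts for an adjacent pair
  have key : ∀ P Q : Sylow 3 G, Adj P Q →
      ∃ f u v : ℕ, f = nOver 3 ((P : Subgroup G) ⊓ Q) ∧ 0 < u ∧ 22 * u = f * v ∧ 3 * u ≤ deg P ∧
        f % 3 = 1 ∧ 2 ≤ f ∧ f < 22 := by
    intro P Q h
    obtain ⟨u, v, hu, huv, hdeg⟩ := h.index_arith
    have hD : (P : Subgroup G) ⊓ Q ≠ ⊥ := by
      intro hb
      have h1 : Nat.card ((P : Subgroup G) ⊓ Q : Subgroup G) * 3 = Nat.card (P : Subgroup G) := h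
      rw [hb, card_bot, one_mul] at h1
      exact hcardne P h1.symm
    have h2 := nOver_ne_card hS hn1 hD
    have h3 := nOver_le (p := 3) ((P : Subgroup G) ⊓ Q)
    have h4 := h.nOver_modEq
    rw [hn] at h2 h3 huv
    rw [Nat.ModEq] at h4
    refine ⟨_, u, v, rfl, hu, huv, hdeg, h4, h.two_le_nOver, ?_⟩
    omega
  obtain ⟨P₁, Q₁, h₁⟩ := exists_adj hn
  -- the valency
  have hdeg3 : ∀ P : Sylow 3 G, deg P = 3 ∨ deg P = 12 ∨ deg P = 21 := by
    intro P
    have h1 := deg_add_deg2 hn P
    obtain ⟨j, hj⟩ := sq_dvd_deg2 P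
    omega
  have hdeg21 : ∀ P : Sylow 3 G, deg P ≠ 21 := by
    intro P h21
    have h21' : ∀ P' : Sylow 3 G, deg2 P' = 0 := by
      intro P'
      have h1 := deg_add_deg2 hn P'
      rw [deg_eq P' P, h21] at h1
      omega
    have hall : ∀ P' X : Sylow 3 G, P' ≠ X → Adj P' X := by
      intro P' X hne'
      rcases adj_or_adj2 hn hne' with h | h
      · exact h
      · exfalso
        have h2 : 0 < deg2 P' := Nat.card_pos_iff.2 ⟨⟨⟨X, h⟩⟩, inferInstance⟩
        rw [h21' P'] at h2
        exact lt_irrefl 0 h2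
    obtain ⟨f, u, v, hf, -, -, -, -, -, hlt⟩ := key P₁ Q₁ h₁
    have hall' : ∀ R : Sylow 3 G, (P₁ : Subgroup G) ⊓ Q₁ ≤ (R : Subgroup G) := by
      intro R
      by_cases h1 : R = P₁
      · rw [h1]; exact inf_le_left
      by_cases h2 : R = Q₁
      · rw [h2]; exact inf_le_right
      exact le_of_triangle h₁ (hall P₁ R (Ne.symm h1)) (hall Q₁ R (Ne.symm h2))
    have h3 : nOver 3 ((P₁ : Subgroup G) ⊓ Q₁) = Nat.card (Sylow 3 G) :=
      Nat.card_congr (Equiv.subtypeUnivEquiv hall')
    rw [← hf, hn] at h3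
    omega
  have hdeg12 : ∀ P : Sylow 3 G, deg P = 12 := by
    intro P
    rw [deg_eq P P₁]
    obtain ⟨f, u, v, hf, hu, huv, hdeg, hmod, h2, hlt⟩ := key P₁ Q₁ h₁
    rcases hdeg3 P₁ with h | h | h
    · exfalso
      rw [h] at hdeg
      have hu1 : u = 1 := by omega
      rw [hu1] at huv
      have : f = 4 ∨ f = 7 ∨ f = 10 ∨ f = 13 ∨ f = 16 ∨ f = 19 := by omega
      rcases this with rfl | rfl | rfl | rfl | rfl | rfl <;> omega
    · exact h
    · exact absurd h (hdeg21 P₁)
  refine ⟨hdeg12, ?_⟩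
  intro P Q h
  obtain ⟨f, u, v, hf, hu, huv, hdeg, hmod, h2, hlt⟩ := key P Q h
  rw [hdeg12 P] at hdeg
  rw [← hf]
  have : f = 4 ∨ f = 7 ∨ f = 10 ∨ f = 13 ∨ f = 16 ∨ f = 19 := by omega
  rcases this with rfl | rfl | rfl | rfl | rfl | rfl
  · rfl
  all_goals (exfalso; omega)


/-- In a simple group with exactly 22 Sylow 3-subgroups, these have order 3. -/
theorem card_eq_three_of_card_sylow [Fact (Nat.Prime 3)] (hS : IsSimpleGroup G)
    (hn : Nat.card (Sylow 3 G) = 22) (P₀ : Sylow 3 G) : Nat.card (P₀ : Subgroup G) = 3 := by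
  classical
  by_contra hP₀
  obtain ⟨hdeg, hfour⟩ := clique_facts hS hn ⟨P₀, hP₀⟩
  have : Fintype (Sylow 3 G) := Fintype.ofFinite _
  have hcardΩ : (Finset.univ : Finset (Sylow 3 G)).card = 22 := by
    rw [Finset.card_univ, ← Nat.card_eq_fintype_card, hn]
  -- neighbourhoods as finsets
  have hΓ : ∀ P : Sylow 3 G, (Finset.univ.filter (fun X : Sylow 3 G => Adj P X)).card = 12 := by
    intro P
    rw [← hdeg P, deg, Nat.card_eq_fintype_card, Fintype.card_subtype]
  have hCl : ∀ P Q : Sylow 3 G, Adj P Q →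
      (Finset.univ.filter (fun R : Sylow 3 G => (P : Subgroup G) ⊓ Q ≤ (R : Subgroup G))).card = 4 := by
    intro P Q h
    rw [← hfour P Q h, nOver, Nat.card_eq_fintype_card, Fintype.card_subtype]
  -- the non-neighbours
  have hN : ∀ P : Sylow 3 G,
      (Finset.univ.filter (fun X : Sylow 3 G => X ≠ P ∧ ¬ Adj P X)).card = 9 := by
    intro P
    have h3 : (Finset.univ : Finset (Sylow 3 G)) = insert P
        (Finset.univ.filter (fun X : Sylow 3 G => Adj P X) ∪
          Finset.univ.filter (fun X : Sylow 3 G => X ≠ P ∧ ¬ Adj P X)) := by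
      ext X
      simp only [Finset.mem_univ, Finset.mem_insert, Finset.mem_union, Finset.mem_filter, true_and,
        true_iff]
      by_cases hXP : X = P
      · left; exact hXP
      · by_cases hA : Adj P X
        · right; left; exact hA
        · right; right; exact ⟨hXP, hA⟩
    have h4 : Disjoint (Finset.univ.filter (fun X : Sylow 3 G => Adj P X))
        (Finset.univ.filter (fun X : Sylow 3 G => X ≠ P ∧ ¬ Adj P X)) := by
      rw [Finset.disjoint_filter]
      intro X _ hX hX'
      exact hX'.2 hX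
    have h5 : P ∉ (Finset.univ.filter (fun X : Sylow 3 G => Adj P X) ∪
          Finset.univ.filter (fun X : Sylow 3 G => X ≠ P ∧ ¬ Adj P X)) := by
      simp only [Finset.mem_union, Finset.mem_filter, Finset.mem_univ, true_and, not_or]
      exact ⟨fun h => h.ne rfl, fun h => h.1 rfl⟩
    have h6 := congrArg Finset.card h3
    rw [hcardΩ, Finset.card_insert_of_notMem h5, Finset.card_union_of_disjoint h4, hΓ P] at h6
    omega
  -- Claim Y
  have claimY : ∀ P Q X : Sylow 3 G, Adj P Q → X ≠ P → ¬ Adj P X → Adj Q X := by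
    intro P Q X hPQ hXP hPX
    by_contra hQX
    set A := Finset.univ.filter (fun Z : Sylow 3 G => Adj Q Z) with hA
    set C := (Finset.univ.filter (fun R : Sylow 3 G => (P : Subgroup G) ⊓ Q ≤ (R : Subgroup G))) with hC
    set B := Finset.univ.filter (fun Z : Sylow 3 G => Z ≠ P ∧ ¬ Adj P Z) with hB
    have hsub : A ⊆ insert P ((C.erase P).erase Q ∪ B.erase X) := by
      intro Z hZ
      rw [hA, Finset.mem_filter] at hZ
      have hQZ : Adj Q Z := hZ.2
      rw [Finset.mem_insert, Finset.mem_union]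
      by_cases hZP : Z = P
      · left; exact hZP
      · right
        by_cases hPZ : Adj P Z
        · left
          rw [Finset.mem_erase, Finset.mem_erase, hC, Finset.mem_filter]
          exact ⟨fun h => hQZ.ne h.symm, hZP, Finset.mem_univ _, le_of_triangle hPQ hPZ hQZ⟩
        · right
          rw [Finset.mem_erase, hB, Finset.mem_filter]
          refine ⟨?_, Finset.mem_univ _, hZP, hPZ⟩
          rintro rfl
          exact hQX hQZ
    have hPC : P ∈ C := by
      rw [hC, Finset.mem_filter]; exact ⟨Finset.mem_univ _, inf_le_left⟩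
    have hQC : Q ∈ C.erase P := by
      rw [Finset.mem_erase, hC, Finset.mem_filter]
      exact ⟨fun h => hPQ.ne h.symm, Finset.mem_univ _, inf_le_right⟩
    have hXB : X ∈ B := by
      rw [hB, Finset.mem_filter]; exact ⟨Finset.mem_univ _, hXP, hPX⟩
    have c1 : ((C.erase P).erase Q).card = 2 := by
      rw [Finset.card_erase_of_mem hQC, Finset.card_erase_of_mem hPC, hC, hCl P Q hPQ]
    have c2 : (B.erase X).card = 8 := by
      rw [Finset.card_erase_of_mem hXB, hB, hN P]
    have c3 := Finset.card_le_card hsub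
    have c4 : (insert P ((C.erase P).erase Q ∪ B.erase X)).card ≤ 1 + (2 + 8) := by
      calc (insert P ((C.erase P).erase Q ∪ B.erase X)).card
          ≤ ((C.erase P).erase Q ∪ B.erase X).card + 1 := Finset.card_insert_le _ _
        _ ≤ (((C.erase P).erase Q).card + (B.erase X).card) + 1 :=
            Nat.add_le_add_right (Finset.card_union_le _ _) 1
        _ = 1 + (2 + 8) := by rw [c1, c2]
    rw [hA, hΓ Q] at c3
    omega
  -- Claim Z
  obtain ⟨P, Q, hPQ⟩ := exists_adj hn
  have hBne : (Finset.univ.filter (fun X : Sylow 3 G => X ≠ P ∧ ¬ Adj P X)).Nonempty := by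
    rw [← Finset.card_pos, hN P]; norm_num
  obtain ⟨R, hR⟩ := hBne
  rw [Finset.mem_filter] at hR
  obtain ⟨-, hRP, hPR⟩ := hR
  have hΓeq : Finset.univ.filter (fun X : Sylow 3 G => Adj P X)
      = Finset.univ.filter (fun X : Sylow 3 G => Adj R X) := by
    apply Finset.eq_of_subset_of_card_le
    · intro Z hZ
      rw [Finset.mem_filter] at hZ ⊢
      exact ⟨Finset.mem_univ _, (claimY P Z R hZ.2 hRP hPR).symm⟩
    · rw [hΓ P, hΓ R]
  have hQR : Adj Q R := claimY P Q R hPQ hRP hPR
  have hRQ : Adj R Q := hQR.symm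
  -- a third point of the clique through `R` and `Q`
  have hex : ∃ X : Sylow 3 G, (R : Subgroup G) ⊓ Q ≤ (X : Subgroup G) ∧ X ≠ R ∧ X ≠ Q := by
    set C := (Finset.univ.filter (fun X : Sylow 3 G => (R : Subgroup G) ⊓ Q ≤ (X : Subgroup G))) with hC
    have hRC : R ∈ C := by
      rw [hC, Finset.mem_filter]; exact ⟨Finset.mem_univ _, inf_le_left⟩
    have hQC : Q ∈ C.erase R := by
      rw [Finset.mem_erase, hC, Finset.mem_filter]
      exact ⟨fun h => hRQ.ne h.symm, Finset.mem_univ _, inf_le_right⟩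
    have c1 : ((C.erase R).erase Q).card = 2 := by
      rw [Finset.card_erase_of_mem hQC, Finset.card_erase_of_mem hRC, hC, hCl R Q hRQ]
    have hne : ((C.erase R).erase Q).Nonempty := by
      rw [← Finset.card_pos, c1]; norm_num
    obtain ⟨X, hX⟩ := hne
    rw [Finset.mem_erase, Finset.mem_erase, hC, Finset.mem_filter] at hX
    exact ⟨X, hX.2.2.2, hX.2.1, hX.1⟩
  obtain ⟨X, hX, hXR, hXQ⟩ := hex
  have hRX : Adj R X := adj_of_le hRQ (Ne.symm hXR) inf_le_left hX
  have hQX : Adj Q X := adj_of_le hRQ (Ne.symm hXQ) inf_le_right hX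
  have e1 : (Q : Subgroup G) ⊓ X = (R : Subgroup G) ⊓ Q :=
    inf_eq_of_le hRQ (Ne.symm hXQ) inf_le_right hX
  have hPX : Adj P X := by
    have h1 : X ∈ Finset.univ.filter (fun X : Sylow 3 G => Adj R X) := by
      rw [Finset.mem_filter]; exact ⟨Finset.mem_univ _, hRX⟩
    rw [← hΓeq, Finset.mem_filter] at h1
    exact h1.2
  have hle : (P : Subgroup G) ⊓ Q ≤ (X : Subgroup G) := le_of_triangle hPQ hPX hQX
  have e2 : (Q : Subgroup G) ⊓ X = (P : Subgroup G) ⊓ Q :=
    inf_eq_of_le hPQ (Ne.symm hXQ) inf_le_right hle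
  have e3 : (P : Subgroup G) ⊓ Q = (R : Subgroup G) ⊓ Q := e2.symm.trans e1
  have hle' : (P : Subgroup G) ⊓ Q ≤ (R : Subgroup G) := by rw [e3]; exact inf_le_left
  exact hPR (adj_of_le hPQ (Ne.symm hRP) inf_le_left hle')

end Cfsg.Agent.Lib.Helper9_Syl22
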