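import Mathlib
import Cfsg.Agent.Lib.Helper9_Syl22A

/-!
helper9: no simple group has exactly 22 Sylow 3-subgroups of order 3.
-/

set_option autoImplicit false
set_option linter.unusedSectionVars false

namespace Cfsg.Agent.Lib.Helper9_Syl22

open Subgroup MulAction
open scoped Pointwise
open Cfsg.Agent.Lib.Helper45_SylowTwoP (mem_of_smul_eq relIndex_dvd_card_mulAut
  card_sylow_eq_prime)

variable {G : Type*} [Group G] [Finite G] {p : ℕ} [hp : Fact p.Prime]

/-- a subgroup of prime order has a generator -/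
theorem exists_generator (Q : Subgroup G) {q : ℕ} (hq : q.Prime) (hQ : Nat.card Q = q) :
    ∃ x : G, x ∈ Q ∧ orderOf x = q ∧ zpowers x = Q := by
  have hF : Fact q.Prime := ⟨hq⟩
  obtain ⟨x, hx⟩ := exists_prime_orderOf_dvd_card' (G := Q) q (by rw [hQ])
  refine ⟨(x : G), x.2, by rw [Subgroup.orderOf_coe, hx], ?_⟩
  apply Subgroup.eq_of_le_of_card_ge (zpowers_le.2 x.2)
  rw [Nat.card_zpowers, Subgroup.orderOf_coe, hx, hQ]

/-- a generator of a Sylow subgroup fixes only that Sylow subgroup -/
theorem fix_generator (P : Sylow p G) {x : G} (hx : zpowers x = (P : Subgroup G)) :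
    fix p x = 1 := by
  have hxP : x ∈ (P : Subgroup G) := by rw [← hx]; exact mem_zpowers x
  rw [fix, Nat.card_eq_one_iff_unique]
  refine ⟨⟨fun a b => ?_⟩, ⟨⟨P, Cfsg.Agent.Lib.Helper45_SylowTwoP.smul_self_of_mem P hxP⟩⟩⟩
  have key : ∀ R : Sylow p G, x • R = R → R = P := by
    intro R hR
    have h1 : x ∈ (R : Subgroup G) := mem_of_smul_eq P R hxP hR
    have h2 : (P : Subgroup G) ≤ (R : Subgroup G) := by
      rw [← hx]; exact zpowers_le.2 h1
    exact (Sylow.ext (P.is_maximal' R.isPGroup' h2))
  apply Subtype.ext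
  rw [key a.1 a.2, key b.1 b.2]

theorem centralizer_generator {Q : Subgroup G} {x : G} (hx : zpowers x = Q) :
    centralizer (Q : Set G) = centralizer {x} := by
  rw [← hx, zpowers_eq_closure, centralizer_closure]

theorem not_sq_dvd_of_card_sylow (Q : Sylow p G) (hQ : Nat.card (Q : Subgroup G) = p) :
    ¬ p ^ 2 ∣ Nat.card G := by
  have h1 := Q.card_eq_multiplicity
  rw [hQ] at h1
  have h2 : (Nat.card G).factorization p = 1 := by
    have h3 : p ^ 1 = p ^ (Nat.card G).factorization p := by rw [pow_one]; exact h1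
    exact (Nat.pow_right_injective hp.out.two_le h3).symm
  have h4 := Nat.pow_succ_factorization_not_dvd (Nat.card_pos (α := G)).ne' hp.out
  rw [h2] at h4
  exact h4

/-- order formula for a Sylow subgroup of prime order in a simple group -/
theorem card_eq_of_prime_sylow (hS : IsSimpleGroup G) (Q : Sylow p G)
    (hQ : Nat.card (Q : Subgroup G) = p) (hne : Nat.card G ≠ p) :
    ∃ e : ℕ, e ∣ p - 1 ∧ e ≠ 1 ∧
      Nat.card (normalizer ((Q : Subgroup G) : Set G))
        = Nat.card (centralizer ((Q : Subgroup G) : Set G)) * e ∧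
      Nat.card G = Nat.card (Sylow p G) *
        (Nat.card (centralizer ((Q : Subgroup G) : Set G)) * e) := by
  refine ⟨(centralizer ((Q : Subgroup G) : Set G)).relIndex
    (normalizer ((Q : Subgroup G) : Set G)), ?_, ?_, ?_, ?_⟩
  · have h1 := relIndex_dvd_card_mulAut (Q : Subgroup G)
    rw [card_mulAut_of_prime_card (Q : Subgroup G) hp.out hQ] at h1
    exact h1
  · intro h1
    have h2 : normalizer ((Q : Subgroup G) : Set G) ≤ centralizer ((Q : Subgroup G) : Set G) :=
      relIndex_eq_one.mp h1
    refine not_normalizer_le_centralizer hS Q ?_ ?_ h2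
    · rw [hQ]; exact hp.out.one_lt.ne'
    · rw [hQ]; exact fun h => hne h.symm
  · rw [← relIndex_bot_left, ← relIndex_bot_left,
      relIndex_mul_relIndex _ _ _ bot_le (centralizer_le_normalizer _)]
  · have h1 : (normalizer ((Q : Subgroup G) : Set G)).index = Nat.card (Sylow p G) :=
      (Sylow.card_eq_index_normalizer Q).symm
    have h2 : Nat.card (centralizer ((Q : Subgroup G) : Set G)) *
        (centralizer ((Q : Subgroup G) : Set G)).relIndex (normalizer ((Q : Subgroup G) : Set G))
        = Nat.card (normalizer ((Q : Subgroup G) : Set G)) := by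
      rw [← relIndex_bot_left, ← relIndex_bot_left,
        relIndex_mul_relIndex _ _ _ bot_le (centralizer_le_normalizer _)]
    have h3 := (normalizer ((Q : Subgroup G) : Set G)).index_mul_card
    rw [h1, ← h2] at h3
    exact h3.symm

/-- an element of a subgroup of prime order dividing the order: Cauchy inside a subgroup -/
theorem exists_orderOf_eq_of_dvd_card (H : Subgroup G) (r : ℕ) [hr : Fact r.Prime]
    (h : r ∣ Nat.card H) : ∃ g : G, g ∈ H ∧ orderOf g = r := by
  obtain ⟨x, hx⟩ := exists_prime_orderOf_dvd_card' (G := H) r h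
  exact ⟨(x : G), x.2, by rw [Subgroup.orderOf_coe, hx]⟩

/-- an element of order prime to 2 fixing a Sylow 3-subgroup of order 3: `fix ≡ 1 mod 3` -/
theorem fix_modEq_of_fixes (hcard : ∀ P : Sylow 3 G, Nat.card (P : Subgroup G) = 3)
    [Fact (Nat.Prime 3)] {g : G} (hodd : (orderOf g).Coprime 2) (hpos : 0 < fix 3 g) :
    fix 3 g ≡ 1 [MOD 3] := by
  obtain ⟨⟨R, hR⟩⟩ := (Nat.card_pos_iff.1 hpos).1
  have hgN : g ∈ normalizer ((R : Subgroup G) : Set G) := Sylow.smul_eq_iff_mem_normalizer.1 hR
  have hgC : g ∈ centralizer ((R : Subgroup G) : Set G) := by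
    apply mem_centralizer_of_coprime _ hgN
    rw [card_mulAut_of_prime_card (R : Subgroup G) (by norm_num) (hcard R)]
    exact hodd
  exact fix_modEq_of_mem_centralizer R hgC


/-- arithmetic: the possible values of `k` -/
theorem arith_k {k : ℕ} (hk : k ∣ 560) (hmod : (6 * k) % 11 = 1) : k = 2 ∨ k = 35 ∨ k = 112 := by
  have h1 : k ∈ Nat.divisors 560 := Nat.mem_divisors.2 ⟨hk, by norm_num⟩
  have h2 : Nat.divisors 560 = {1, 2, 4, 5, 7, 8, 10, 14, 16, 20, 28, 35, 40, 56, 70, 80, 112, 140,
      280, 560} := by decide +kernel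
  rw [h2] at h1
  simp only [Finset.mem_insert, Finset.mem_singleton] at h1
  rcases h1 with rfl | rfl | rfl | rfl | rfl | rfl | rfl | rfl | rfl | rfl | rfl | rfl | rfl | rfl |
    rfl | rfl | rfl | rfl | rfl | rfl <;> omega

/-- No simple group has exactly 22 Sylow 3-subgroups, all of order 3. -/
theorem false_of_card_three (hS : IsSimpleGroup G) (hn : Nat.card (Sylow 3 G) = 22)
    (hcard : ∀ P : Sylow 3 G, Nat.card (P : Subgroup G) = 3) : False := by
  have h3F : Fact (Nat.Prime 3) := ⟨by norm_num⟩
  have h2F : Fact (Nat.Prime 2) := ⟨by norm_num⟩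
  have h5F : Fact (Nat.Prime 5) := ⟨by norm_num⟩
  have h7F : Fact (Nat.Prime 7) := ⟨by norm_num⟩
  have h11F : Fact (Nat.Prime 11) := ⟨by norm_num⟩
  have hn1 : Nat.card (Sylow 3 G) ≠ 1 := by rw [hn]; norm_num
  have P : Sylow 3 G := default
  obtain ⟨x, hxP, hxo, hxz⟩ := exists_generator (P : Subgroup G) (by norm_num) (hcard P)
  have hfx : fix 3 x = 1 := fix_generator P hxz
  have hCx : centralizer ((P : Subgroup G) : Set G) = centralizer {x} := centralizer_generator hxz
  -- the order of `C(x)` divides `1! * 3^7 * 7!`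
  have hdvd1 := card_centralizer_dvd_of_prime (p := 3) hS hn1 (g := x) (q := 3) (m := 7)
    (by norm_num) hxo (by rw [hn, hfx])
  rw [hfx] at hdvd1
  have h22 : 22 ∣ Nat.card G := by
    rw [← hn]
    exact (Sylow.card_dvd_index P).trans (Subgroup.index_dvd_card _)
  have hG3 : Nat.card G ≠ 3 := by
    intro h
    rw [h] at h22
    norm_num at h22
  obtain ⟨e, he, he1, -, hG⟩ := card_eq_of_prime_sylow hS P (hcard P) hG3
  have he2 : e = 2 := by
    have h1 : e ∣ 2 := he
    have h2 := Nat.le_of_dvd (by norm_num) h1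
    have h3 : e ≠ 0 := fun h => by rw [h] at h1; norm_num at h1
    omega
  rw [hn, he2, hCx] at hG
  set c0 := Nat.card (centralizer ({x} : Set G)) with hc0
  have h9 : ¬ 3 ^ 2 ∣ Nat.card G := not_sq_dvd_of_card_sylow P (hcard P)
  have h3c0 : 3 ∣ c0 := by
    have h1 : x ∈ centralizer ({x} : Set G) := mem_centralizer_singleton_iff.2 rfl
    have h2 := Subgroup.orderOf_dvd_natCard _ h1
    rwa [hxo] at h2
  obtain ⟨k, hk⟩ := h3c0
  have hk3 : ¬ 3 ∣ k := by
    rintro ⟨j, hj⟩
    apply h9
    rw [hG, hk, hj]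
    exact ⟨22 * (j * 2), by ring⟩
  have hk560 : k ∣ 560 := by
    have h1 : 3 * k ∣ 3 * (3 ^ 8 * 560) := by
      rw [← hk]
      refine hdvd1.trans (dvd_of_eq ?_)
      decide +kernel
    have h2 : k ∣ 3 ^ 8 * 560 := Nat.dvd_of_mul_dvd_mul_left (by norm_num) h1
    have h3 : Nat.Coprime k (3 ^ 8) :=
      Nat.Coprime.pow_right 8 ((Nat.Prime.coprime_iff_not_dvd (by norm_num)).2 hk3).symm
    exact h3.dvd_of_dvd_mul_left h2
  have hGk : Nat.card G = 132 * k := by rw [hG, hk]; ring
  have hkpos : 0 < k := Nat.pos_of_ne_zero (fun h => by rw [h] at hk560; norm_num at hk560)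
  -- the prime 11
  have h11G : 11 ∣ Nat.card G := dvd_trans (by norm_num) h22
  have h121 : ¬ 11 ^ 2 ∣ Nat.card G := by
    rw [hGk]
    intro h
    have h1 : 11 ∣ 12 * k := by
      have h2 : 11 * 11 ∣ 11 * (12 * k) := by
        have : 11 * (12 * k) = 132 * k := by ring
        rw [this]; exact h
      exact Nat.dvd_of_mul_dvd_mul_left (by norm_num) h2
    have h3 : 11 ∣ k := (Nat.Coprime.dvd_of_dvd_mul_left (by norm_num) h1)
    have h4 : 11 ∣ 560 := h3.trans hk560
    norm_num at h4
  have Q : Sylow 11 G := default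
  have hQ : Nat.card (Q : Subgroup G) = 11 := card_sylow_eq_prime Q h11G h121
  obtain ⟨y, hyQ, hyo, hyz⟩ := exists_generator (Q : Subgroup G) (by norm_num) hQ
  have hCy : centralizer ((Q : Subgroup G) : Set G) = centralizer {y} := centralizer_generator hyz
  -- `y` has no fixed points
  have hfy : fix 3 y = 0 := by
    have h1 := fix_modEq_prime (p := 3) y hyo
    rw [hn] at h1
    have h2 := fix_le (p := 3) y
    rw [hn] at h2
    have h3 : fix 3 y ≠ 22 := by
      intro h
      have h4 := eq_one_of_fix_eq hS hn1 (g := y) (by rw [h, hn])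
      rw [h4, orderOf_one] at hyo
      norm_num at hyo
    by_contra h0
    have h5 : fix 3 y = 11 := by
      rw [Nat.ModEq] at h1
      omega
    have h6 := fix_modEq_of_fixes hcard (g := y) (by rw [hyo]; norm_num) (by omega)
    rw [h5, Nat.ModEq] at h6
    norm_num at h6
  -- the centralizer of `y` has order dividing `0! * 11^2 * 2!`
  have hdvd2 := card_centralizer_dvd_of_prime (p := 3) hS hn1 (g := y) (q := 11) (m := 2)
    (by norm_num) hyo (by rw [hn, hfy])
  rw [hfy] at hdvd2
  have hG11 : Nat.card G ≠ 11 := by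
    intro h
    rw [h] at h22
    norm_num at h22
  obtain ⟨e1, he1d, he1ne, hN1, hG1⟩ := card_eq_of_prime_sylow hS Q hQ hG11
  rw [hCy] at hN1 hG1
  set c1 := Nat.card (centralizer ({y} : Set G)) with hc1
  have h11c1 : 11 ∣ c1 := by
    have h1 : y ∈ centralizer ({y} : Set G) := mem_centralizer_singleton_iff.2 rfl
    have h2 := Subgroup.orderOf_dvd_natCard _ h1
    rwa [hyo] at h2
  have hc1G : c1 ∣ Nat.card G := Subgroup.card_subgroup_dvd_card _
  have hc1 : c1 = 11 := by
    have h1 : c1 ∣ 242 := hdvd2.trans (dvd_of_eq (by decide +kernel))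
    have h2 : c1 ∈ Nat.divisors 242 := Nat.mem_divisors.2 ⟨h1, by norm_num⟩
    have h3 : Nat.divisors 242 = {1, 2, 11, 22, 121, 242} := by decide +kernel
    rw [h3] at h2
    simp only [Finset.mem_insert, Finset.mem_singleton] at h2
    have h121' : ¬ 121 ∣ c1 := fun h => h121 ((show (11 : ℕ) ^ 2 = 121 by norm_num) ▸ h.trans hc1G)
    rcases h2 with h | h | h | h | h | h
    · rw [h] at h11c1; norm_num at h11c1
    · rw [h] at h11c1; norm_num at h11c1
    · exact h
    · -- an involution centralizing `y`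
      exfalso
      obtain ⟨c, hcC, hco⟩ := exists_orderOf_eq_of_dvd_card (centralizer ({y} : Set G)) 2
        (by rw [← hc1, h]; norm_num)
      have hcomm : y * c = c * y := (mem_centralizer_singleton_iff.1 hcC).symm
      have h4 := dvd_fix_of_commute (p := 3) hyo hcomm hfy
      have h5 := fix_le (p := 3) c
      rw [hn] at h5
      have h6 := fix_involution_parity (p := 3) hco
      rw [hn, Nat.ModEq] at h6
      have h7 := even_half_of_involution hS hn1 hco
      rw [hn] at h7
      have h8 : fix 3 c ≠ 22 := by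
        intro h'
        have h9 := eq_one_of_fix_eq hS hn1 (g := c) (by rw [h', hn])
        rw [h9, orderOf_one] at hco
        norm_num at hco
      obtain ⟨j, hj⟩ := h4
      have h10 : fix 3 c = 0 := by omega
      rw [h10] at h7
      norm_num at h7
    · exact absurd ⟨1, by rw [h]⟩ h121'
    · exact absurd ⟨2, by rw [h]⟩ h121'
  rw [hc1] at hN1 hG1
  -- `e1 = 2`
  have he1two : e1 = 2 := by
    have h1 : e1 ∈ Nat.divisors 10 := Nat.mem_divisors.2 ⟨he1d, by norm_num⟩
    have h2 : Nat.divisors 10 = {1, 2, 5, 10} := by decide +kernel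
    rw [h2] at h1
    simp only [Finset.mem_insert, Finset.mem_singleton] at h1
    have key : 5 ∣ e1 → False := by
      intro h5
      have h6 : 5 ∣ Nat.card (normalizer ((Q : Subgroup G) : Set G)) := by
        rw [hN1]; exact dvd_mul_of_dvd_right h5 _
      obtain ⟨u, huN, huo⟩ := exists_orderOf_eq_of_dvd_card _ 5 h6
      have hnorm : u * y * u⁻¹ ∈ zpowers y := by
        rw [hyz]
        exact (mem_normalizer_iff.1 huN y).1 hyQ
      have hnc : u * y ≠ y * u := by
        intro hc
        have h7 : u ∈ centralizer ({y} : Set G) := mem_centralizer_singleton_iff.2 hc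
        have h8 : orderOf u ∣ c1 := Subgroup.orderOf_dvd_natCard _ h7
        rw [huo, hc1] at h8
        norm_num at h8
      have h9 := mul_fix_le_of_free (p := 3) hyo hfy hnorm hnc
      rw [hn] at h9
      have h10 := fix_modEq_prime (p := 3) u huo
      rw [hn, Nat.ModEq] at h10
      have h11 : fix 3 u = 2 := by omega
      have h12 := fix_modEq_of_fixes hcard (g := u) (by rw [huo]; norm_num) (by omega)
      rw [h11, Nat.ModEq] at h12
      norm_num at h12
    rcases h1 with h | h | h | h
    · exact absurd h he1ne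
    · exact h
    · exact (key ⟨1, by rw [h]⟩).elim
    · exact (key ⟨2, by rw [h]⟩).elim
  rw [he1two] at hN1 hG1
  -- `n_11 = 6 k`
  have hn11 : Nat.card (Sylow 11 G) = 6 * k := by
    have : Nat.card (Sylow 11 G) * (11 * 2) = 132 * k := by rw [← hG1, hGk]
    omega
  have hmod11 : (6 * k) % 11 = 1 := by
    have h1 := card_sylow_modEq_one 11 G
    rw [hn11, Nat.ModEq] at h1
    exact h1
  -- the prime 7
  have h7case : 7 ∣ k → ¬ 7 ^ 2 ∣ Nat.card G →
      ∃ n7 : ℕ, Nat.card G = n7 * 42 ∧ n7 % 7 = 1 := by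
    intro h7k h49
    obtain ⟨c, hcC, hco⟩ := exists_orderOf_eq_of_dvd_card (centralizer ({x} : Set G)) 7
      (by rw [← hc0, hk]; exact dvd_mul_of_dvd_right h7k _)
    have hcP : c ∈ centralizer ((P : Subgroup G) : Set G) := by rw [hCx]; exact hcC
    have hfc : fix 3 c = 1 := by
      have h1 := fix_modEq_of_mem_centralizer P hcP
      have h2 := fix_modEq_prime (p := 3) c hco
      have h3 := fix_le (p := 3) c
      rw [hn] at h2 h3
      have h4 : fix 3 c ≠ 22 := by
        intro h'
        have h9 := eq_one_of_fix_eq hS hn1 (g := c) (by rw [h', hn])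
        rw [h9, orderOf_one] at hco
        norm_num at hco
      rw [Nat.ModEq] at h1 h2
      omega
    have hdvd3 := card_centralizer_dvd_of_prime (p := 3) hS hn1 (g := c) (q := 7) (m := 3)
      (by norm_num) hco (by rw [hn, hfc])
    rw [hfc] at hdvd3
    set c7 := Nat.card (centralizer ({c} : Set G)) with hc7
    have hc7G : c7 ∣ Nat.card G := Subgroup.card_subgroup_dvd_card _
    have h3c7 : 3 ∣ c7 := by
      have h1 : x ∈ centralizer ({c} : Set G) :=
        mem_centralizer_singleton_iff.2 (mem_centralizer_singleton_iff.1 hcC).symm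
      have h2 : orderOf x ∣ c7 := Subgroup.orderOf_dvd_natCard _ h1
      rwa [hxo] at h2
    have h7c7 : 7 ∣ c7 := by
      have h1 : c ∈ centralizer ({c} : Set G) := mem_centralizer_singleton_iff.2 rfl
      have h2 : orderOf c ∣ c7 := Subgroup.orderOf_dvd_natCard _ h1
      rwa [hco] at h2
    have h2c7 : ¬ 2 ∣ c7 := by
      intro h2
      obtain ⟨g, hgC, hgo⟩ := exists_orderOf_eq_of_dvd_card (centralizer ({c} : Set G)) 2 h2
      have hcomm : c * g = g * c := (mem_centralizer_singleton_iff.1 hgC).symm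
      have h4 := fix_modEq_one_of_commute (p := 3) hco hcomm hfc
      have h5 := fix_le (p := 3) g
      rw [hn] at h5
      have h6 := fix_involution_parity (p := 3) hgo
      rw [hn, Nat.ModEq] at h6
      have h7 := even_half_of_involution hS hn1 hgo
      rw [hn] at h7
      have h8 : fix 3 g ≠ 22 := by
        intro h'
        have h9 := eq_one_of_fix_eq hS hn1 (g := g) (by rw [h', hn])
        rw [h9, orderOf_one] at hgo
        norm_num at hgo
      rw [Nat.ModEq] at h4
      have h10 : fix 3 g = 8 := by omega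
      rw [h10] at h7
      norm_num at h7
    have hc7eq : c7 = 21 := by
      have h1 : c7 ∣ 2058 := hdvd3.trans (dvd_of_eq (by decide +kernel))
      have h2 : c7 ∈ Nat.divisors 2058 := Nat.mem_divisors.2 ⟨h1, by norm_num⟩
      have h3 : Nat.divisors 2058 = {1, 2, 3, 6, 7, 14, 21, 42, 49, 98, 147, 294, 343, 686, 1029,
          2058} := by decide +kernel
      rw [h3] at h2
      simp only [Finset.mem_insert, Finset.mem_singleton] at h2
      have h49' : ¬ 49 ∣ c7 := fun h => h49 ((show (7 : ℕ) ^ 2 = 49 by norm_num) ▸ h.trans hc7G)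
      rcases h2 with h | h | h | h | h | h | h | h | h | h | h | h | h | h | h | h <;>
        first
        | exact h
        | (exfalso; rw [h] at h3c7; norm_num at h3c7; done)
        | (exfalso; rw [h] at h7c7; norm_num at h7c7; done)
        | (exfalso; rw [h] at h2c7; norm_num at h2c7; done)
        | (exfalso; rw [h] at h49'; norm_num at h49'; done)
    have h7G : 7 ∣ Nat.card G := h7c7.trans hc7G
    have hpg : IsPGroup 7 (zpowers c) :=
      IsPGroup.of_card (n := 1) (by rw [Nat.card_zpowers, hco, pow_one])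
    obtain ⟨Q7, hQ7⟩ := hpg.exists_le_sylow
    have hQ7c : Nat.card (Q7 : Subgroup G) = 7 := card_sylow_eq_prime Q7 h7G h49
    have hcz : zpowers c = (Q7 : Subgroup G) := by
      apply Subgroup.eq_of_le_of_card_ge hQ7
      rw [Nat.card_zpowers, hco, hQ7c]
    have hCc : centralizer ((Q7 : Subgroup G) : Set G) = centralizer {c} :=
      centralizer_generator hcz
    have hG7 : Nat.card G ≠ 7 := by
      intro h
      rw [h] at h22
      norm_num at h22
    obtain ⟨e7, he7d, he7ne, -, hG7'⟩ := card_eq_of_prime_sylow hS Q7 hQ7c hG7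
    rw [hCc, ← hc7, hc7eq] at hG7'
    have he7 : e7 = 2 := by
      have h1 : e7 ∈ Nat.divisors 6 := Nat.mem_divisors.2 ⟨he7d, by norm_num⟩
      have h2 : Nat.divisors 6 = {1, 2, 3, 6} := by decide +kernel
      rw [h2] at h1
      simp only [Finset.mem_insert, Finset.mem_singleton] at h1
      rcases h1 with h | h | h | h
      · exact absurd h he7ne
      · exact h
      · exfalso
        apply h9
        rw [hG7', h]
        exact ⟨Nat.card (Sylow 7 G) * 7, by ring⟩
      · exfalso
        apply h9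
        rw [hG7', h]
        exact ⟨Nat.card (Sylow 7 G) * 14, by ring⟩
    refine ⟨Nat.card (Sylow 7 G), ?_, ?_⟩
    · rw [hG7', he7]
    · have h1 := card_sylow_modEq_one 7 G
      rw [Nat.ModEq] at h1
      exact h1
  rcases arith_k hk560 hmod11 with rfl | rfl | rfl
  · -- `k = 2`: `|G| = 264`, `n_11 = 12`
    have hn11' : Nat.card (Sylow 11 G) = 12 := by rw [hn11]
    have hn11ne : Nat.card (Sylow 11 G) ≠ 1 := by rw [hn11']; norm_num
    obtain ⟨w, hwN, hwo⟩ := exists_orderOf_eq_of_dvd_card
      (normalizer ((Q : Subgroup G) : Set G)) 2 (by rw [hN1]; norm_num)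
    have hwC : w ∉ centralizer ((Q : Subgroup G) : Set G) := by
      intro h
      rw [hCy] at h
      have h8 : orderOf w ∣ c1 := Subgroup.orderOf_dvd_natCard _ h
      rw [hwo, hc1] at h8
      norm_num at h8
    have h1 := Cfsg.Agent.Lib.Helper45_SylowTransfer.card_fixedBy_le Q hQ hwN hwC
    have hwQ : w • Q = Q := Sylow.smul_eq_iff_mem_normalizer.2 hwN
    have hpos : 0 < fix 11 w := Nat.card_pos_iff.2 ⟨⟨⟨Q, hwQ⟩⟩, inferInstance⟩
    have h2 := fix_involution_parity (p := 11) hwo
    have h3 := even_half_of_involution hS hn11ne hwo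
    rw [hn11'] at h1 h2 h3
    change 11 * (fix 11 w - 1) ≤ 12 - 1 at h1
    have h4 : fix 11 w = 2 := by
      rw [Nat.ModEq] at h2
      omega
    rw [h4] at h3
    norm_num at h3
  · -- `k = 35`
    obtain ⟨n7, h1, h2⟩ := h7case (by norm_num) (by rw [hGk]; norm_num)
    rw [hGk] at h1
    omega
  · -- `k = 112`
    obtain ⟨n7, h1, h2⟩ := h7case (by norm_num) (by rw [hGk]; norm_num)
    rw [hGk] at h1
    omega

end Cfsg.Agent.Lib.Helper9_Syl22
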