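import Mathlib
import Cfsg.Agent.S1248
import Cfsg.Agent.Lib.Helper56_U320Defs
import Cfsg.Agent.Lib.Helper56_U320Model

set_option autoImplicit false
set_option linter.unusedSectionVars false

/-!
S1903 package TRANS (helper9, for helper56): `SU₃(4)` has trivial centre, so `SU₃(4) ≃* PSU₃(4)` via the
quotient map, and this carries `C(mSU p0)` onto `C(muHom p0)`; `muHom p0` is an involution.
-/

namespace Cfsg.Agent.Lib.Helper9_U320_TRANS

open Matrix Cfsg.Agent.S1248 Cfsg.Agent.Lib.Helper56_U320Defs Cfsg.Agent.Lib.Helper56_U320Model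

/-- a `MulEquiv` carries the centralizer of `u` onto the centralizer of `e u` -/
theorem map_centralizer_singleton {G H : Type*} [Group G] [Group H] (e : G ≃* H) (u : G) :
    (Subgroup.centralizer ({u} : Set G)).map e.toMonoidHom = Subgroup.centralizer ({e u} : Set H) := by
  ext h
  constructor
  · rintro ⟨g, hg, rfl⟩
    rw [SetLike.mem_coe, Subgroup.mem_centralizer_iff] at hg
    rw [Subgroup.mem_centralizer_iff]
    intro z hz
    rw [Set.mem_singleton_iff] at hz
    subst hz
    have := hg u (Set.mem_singleton u)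
    change e u * e g = e g * e u
    rw [← map_mul, ← map_mul, this]
  · intro hh
    rw [Subgroup.mem_centralizer_iff] at hh
    refine ⟨e.symm h, ?_, by simp⟩
    rw [SetLike.mem_coe, Subgroup.mem_centralizer_iff]
    intro z hz
    rw [Set.mem_singleton_iff] at hz
    subst hz
    have := hh (e z) (Set.mem_singleton _)
    apply e.injective
    rw [map_mul, map_mul, e.apply_symm_apply]
    exact this

/-- the centralizers of `u` and `e u` are isomorphic -/
noncomputable def centralizerEquiv {G H : Type*} [Group G] [Group H] (e : G ≃* H) (u : G) :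
    ↥(Subgroup.centralizer ({u} : Set G)) ≃* ↥(Subgroup.centralizer ({e u} : Set H)) :=
  (e.subgroupMap (Subgroup.centralizer ({u} : Set G))).trans
    (MulEquiv.subgroupCongr (map_centralizer_singleton e u))

section
variable {F : Type*} [Field F] [CharP F 2] [h16 : Fact (∀ x : F, x ^ 16 = x)]
variable [Fintype F]

/-- the quotient map `SU₃(4) → PSU₃(4)` as an isomorphism -/
noncomputable def suEquiv (hF : Fintype.card F = 16) : Cfsg.SU 3 F 4 ≃* Cfsg.PSU 3 F 4 :=
  MulEquiv.ofBijective (QuotientGroup.mk' (Subgroup.center (Cfsg.SU 3 F 4))) (by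
    constructor
    · rw [← MonoidHom.ker_eq_bot_iff, QuotientGroup.ker_mk', center_eq_bot hF]
    · exact QuotientGroup.mk'_surjective _)

theorem suEquiv_mSU (hF : Fintype.card F = 16) (p : PF F) : suEquiv hF (mSU hF p) = muHom hF p := rfl

theorem p0_ne_one : (p0 : PF F) ≠ 1 := by
  intro h
  have := congrArg PF.c h
  exact one_ne_zero this

theorem p0_mul_self : (p0 : PF F) * p0 = 1 := PF.mul_self_eq_one_of_b p0 rfl

theorem orderOf_muHom_p0 (hF : Fintype.card F = 16) : orderOf (muHom hF (p0 : PF F)) = 2 := by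
  have : Fact (Nat.Prime 2) := ⟨Nat.prime_two⟩
  apply orderOf_eq_prime
  · rw [pow_two, ← map_mul, p0_mul_self, map_one]
  · intro h
    rw [← map_one (muHom hF)] at h
    exact p0_ne_one (muHom_injective hF h)

theorem centralizer_equiv (hF : Fintype.card F = 16) :
    orderOf (muHom hF (p0 : PF F)) = 2 ∧
    Nonempty (↥(Subgroup.centralizer ({mSU hF (p0 : PF F)} : Set (Cfsg.SU 3 F 4))) ≃*
      ↥(Subgroup.centralizer ({muHom hF (p0 : PF F)} : Set (Cfsg.PSU 3 F 4)))) :=
  ⟨orderOf_muHom_p0 hF, ⟨centralizerEquiv (suEquiv hF) (mSU hF p0)⟩⟩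

end

end Cfsg.Agent.Lib.Helper9_U320_TRANS
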