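import Mathlib
import Cfsg.Prelude.Def_Classical
import Cfsg.Prelude.Def_ClassicalGeometry
import Cfsg.Agent.S0782
import Cfsg.Agent.Lib.Helper5_SUCenter
import Cfsg.Agent.Lib.Helper5_SUOrder

set_option autoImplicit false
set_option linter.unusedSectionVars false
set_option linter.unusedSimpArgs false

/-!
# U4 BR-EX (helper9): `PSU_4(q)` has a subgroup of index `(q+1)(q^3+1)`

The image in `PSU_4(q)` of the stabiliser in `SU_4(q)` of a totally isotropic line; order of the stabiliser from the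
landed S0782 (`n = 4`, `k = 2`) and the order of `SU_4(q)` from `Helper5_SUOrder.card_SU`.
-/

namespace Cfsg.Agent.Lib.Helper9_U4_BREX

open Matrix

variable {F : Type*} [Field F] [Fintype F] {q : ℕ}

/-- the stabilizer in `SU_n(q)` of a subspace -/
def stabSUW (n : ℕ) (q : ℕ) (W : Submodule F (Fin n → F)) : Subgroup ↥(Cfsg.SU n F q) :=
  (Cfsg.stabilizing (Cfsg.slToMat n F) ((W : Submodule F (Fin n → F)) : Set (Fin n → F))).subgroupOf
    (Cfsg.SU n F q)

/-- the centre of `SU_n(q)` stabilizes every subspace -/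
theorem center_le_stabSUW (hF : Fintype.card F = q ^ 2) (n : ℕ) (i0 : Fin n) (W : Submodule F (Fin n → F)) :
    Subgroup.center ↥(Cfsg.SU n F q) ≤ stabSUW n q W := by
  intro z hz
  have hsm := Cfsg.Agent.Lib.Helper5_SUCenter.center_eq_smul hF z hz i0
  set r : F := (z.1 : Matrix (Fin n) (Fin n) F) i0 i0 with hr
  have hr0 : r ≠ 0 := by
    intro h0
    have hdet : (z.1 : Matrix (Fin n) (Fin n) F).det = 1 := z.1.2
    have : Nonempty (Fin n) := ⟨i0⟩
    rw [hsm, h0, zero_smul, Matrix.det_zero] at hdet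
    exact zero_ne_one hdet
  show (z : Matrix.SpecialLinearGroup (Fin n) F) ∈
    Cfsg.stabilizing (Cfsg.slToMat n F) _
  intro v
  have hmat : Cfsg.slToMat n F (z : Matrix.SpecialLinearGroup (Fin n) F)
      = (z.1 : Matrix (Fin n) (Fin n) F) := rfl
  rw [hmat, hsm, Matrix.smul_mulVec, Matrix.one_mulVec]
  simp only [SetLike.mem_coe]
  exact (Submodule.smul_mem_iff _ hr0).symm

/-- the two spanning vectors of the totally isotropic line -/
def w1 (c : F) : Fin 4 → F := ![1, c, 0, 0]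
def w2 (c : F) : Fin 4 → F := ![0, 0, 1, c]

theorem herm_w (hq0 : q ≠ 0) (c : F) (hc : c * c ^ q = -1) :
    Cfsg.hermForm 4 F q (w1 c) (w1 c) = 0 ∧ Cfsg.hermForm 4 F q (w1 c) (w2 c) = 0 ∧
    Cfsg.hermForm 4 F q (w2 c) (w1 c) = 0 ∧ Cfsg.hermForm 4 F q (w2 c) (w2 c) = 0 := by
  unfold Cfsg.hermForm w1 w2
  simp only [Fin.sum_univ_four]
  refine ⟨?_, ?_, ?_, ?_⟩ <;> simp [hq0, hc]

theorem herm_add_left (n : ℕ) (u u' v : Fin n → F) :
    Cfsg.hermForm n F q (u + u') v = Cfsg.hermForm n F q u v + Cfsg.hermForm n F q u' v := by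
  unfold Cfsg.hermForm
  simp [add_mul, Finset.sum_add_distrib]

theorem herm_smul_left (n : ℕ) (a : F) (u v : Fin n → F) :
    Cfsg.hermForm n F q (a • u) v = a * Cfsg.hermForm n F q u v := by
  unfold Cfsg.hermForm
  simp [Finset.mul_sum, mul_assoc]

theorem herm_add_right (hF : Fintype.card F = q ^ 2) (n : ℕ) (u v v' : Fin n → F) :
    Cfsg.hermForm n F q u (v + v') = Cfsg.hermForm n F q u v + Cfsg.hermForm n F q u v' := by
  unfold Cfsg.hermForm
  simp only [Pi.add_apply, Cfsg.Agent.Lib.Helper13_Herm.add_pow_q hF, mul_add, Finset.sum_add_distrib]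

theorem herm_smul_right (n : ℕ) (a : F) (u v : Fin n → F) :
    Cfsg.hermForm n F q u (a • v) = a ^ q * Cfsg.hermForm n F q u v := by
  unfold Cfsg.hermForm
  simp only [Pi.smul_apply, smul_eq_mul, mul_pow, Finset.mul_sum]
  refine Finset.sum_congr rfl fun i _ => ?_
  ring

/-- the totally isotropic line -/
def tiLine (c : F) : Submodule F (Fin 4 → F) := Submodule.span F {w1 c, w2 c}

theorem tiLine_isotropic (hF : Fintype.card F = q ^ 2) (hq0 : q ≠ 0) (c : F) (hc : c * c ^ q = -1) :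
    ∀ u ∈ tiLine c, ∀ v ∈ tiLine c, Cfsg.hermForm 4 F q u v = 0 := by
  obtain ⟨h11, h12, h21, h22⟩ := herm_w hq0 c hc
  intro u hu v hv
  obtain ⟨a, b, rfl⟩ := Submodule.mem_span_pair.mp hu
  obtain ⟨a', b', rfl⟩ := Submodule.mem_span_pair.mp hv
  rw [herm_add_left, herm_smul_left, herm_smul_left, herm_add_right hF, herm_add_right hF,
    herm_smul_right, herm_smul_right, herm_smul_right, herm_smul_right, h11, h12, h21, h22]
  ring

theorem tiLine_finrank (c : F) : Module.finrank F (tiLine c) = 2 := by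
  have hli : LinearIndependent F ![w1 c, w2 c] := by
    rw [LinearIndependent.pair_iff]
    intro s t hst
    have h0 := congrFun hst 0
    have h2 := congrFun hst 2
    simp [w1, w2] at h0 h2
    exact ⟨h0, h2⟩
  have hspan : tiLine c = Submodule.span F (Set.range ![w1 c, w2 c]) := by
    unfold tiLine
    congr 1
    ext x
    simp only [Set.mem_insert_iff, Set.mem_singleton_iff, Matrix.range_cons, Matrix.range_empty,
      Set.union_empty, Set.union_singleton]
    exact or_comm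
  rw [hspan, finrank_span_eq_card hli]
  simp

theorem index_stabSUW (hF : Fintype.card F = q ^ 2) (c : F) (hc : c * c ^ q = -1) :
    (stabSUW 4 q (tiLine c)).index = (q + 1) * (q ^ 3 + 1) := by
  have hq2 : 2 ≤ q := Cfsg.Agent.Lib.Helper13_Herm.two_le_q hF
  have hq0 : q ≠ 0 := by omega
  have h1 := Cfsg.Agent.S0782.result hF 4 2 (by omega) (by omega) (tiLine c) (tiLine_finrank c)
    (tiLine_isotropic hF hq0 c hc)
  have h2 := Cfsg.Agent.Lib.Helper5_SUOrder.card_SU hF 4 (by omega)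
  have h3 := Subgroup.index_mul_card (stabSUW 4 q (tiLine c))
  set S : ℕ := Nat.card ↥(stabSUW 4 q (tiLine c)) with hS
  set I : ℕ := (stabSUW 4 q (tiLine c)).index with hI
  have h1' : (q + 1) * S = q ^ 4 * ((q ^ 4 - 1) * (q ^ 4 - q ^ 2)) := by
    have := h1
    simp only [Fin.prod_univ_two, Fin.val_zero, Fin.val_one, pow_zero, pow_one, Finset.range_zero,
      Finset.prod_empty, Nat.sub_self, zero_mul, Nat.zero_div, mul_one] at this
    have e : 2 * (2 * 4 - 3 * 2) = 4 := by norm_num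
    rw [e] at this
    have e2 : (q ^ 2) ^ 2 = q ^ 4 := by ring
    rw [e2] at this
    exact this
  have h2' : (q + 1) * Nat.card ↥(Cfsg.SU 4 F q) =
      q ^ 6 * ((q + 1) * (q ^ 2 - 1) * (q ^ 3 + 1) * (q ^ 4 - 1)) := by
    have := h2
    simp only [Finset.prod_range_succ, Finset.range_zero, Finset.prod_empty, one_mul] at this
    norm_num at this
    have e : ¬ Even 1 := by decide
    have e3 : ¬ Even 3 := by decide
    simpa [e, e3, mul_assoc] using this
  -- arithmetic
  have hq4 : q ^ 4 - q ^ 2 = q ^ 2 * (q ^ 2 - 1) := by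
    have : q ^ 4 = q ^ 2 * q ^ 2 := by ring
    rw [this, Nat.mul_sub, mul_one]
  have hpos1 : 0 < q ^ 2 - 1 := by
    have : 4 ≤ q ^ 2 := by nlinarith
    omega
  have hpos2 : 0 < q ^ 4 - 1 := by
    have : 16 ≤ q ^ 4 := by
      calc 16 = 2 ^ 4 := by norm_num
        _ ≤ q ^ 4 := Nat.pow_le_pow_left hq2 4
    omega
  have hkey : (q ^ 6 * (q ^ 2 - 1) * (q ^ 4 - 1)) * I = (q ^ 6 * (q ^ 2 - 1) * (q ^ 4 - 1)) * ((q + 1) * (q ^ 3 + 1)) := by
    have hA : (q + 1) * (I * S) = q ^ 6 * ((q + 1) * (q ^ 2 - 1) * (q ^ 3 + 1) * (q ^ 4 - 1)) := by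
      rw [h3]; exact h2'
    have hB : I * ((q + 1) * S) = q ^ 6 * ((q + 1) * (q ^ 2 - 1) * (q ^ 3 + 1) * (q ^ 4 - 1)) := by
      rw [← hA]; ring
    rw [h1', hq4] at hB
    have : q ^ 6 * (q ^ 2 - 1) * (q ^ 4 - 1) * I = I * (q ^ 4 * ((q ^ 4 - 1) * (q ^ 2 * (q ^ 2 - 1)))) := by ring
    rw [this, hB]; ring
  exact Nat.eq_of_mul_eq_mul_left (by positivity) hkey

/-- BR-EX: existence (stabiliser of a t.i. line; S0782 with `n = 4, k = 2` + card_SU). -/
theorem br_exists (hF : Fintype.card F = q ^ 2) (_hq : 2 ≤ q) :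
    ∃ H : Subgroup (Cfsg.PSU 4 F q), H.index = (q + 1) * (q ^ 3 + 1) := by
  obtain ⟨c, hc⟩ := Cfsg.Agent.Lib.Helper5_SUCenter.exists_norm_neg_one (F := F) hF
  refine ⟨(stabSUW 4 q (tiLine c)).map (QuotientGroup.mk' (Subgroup.center ↥(Cfsg.SU 4 F q))), ?_⟩
  rw [Subgroup.index_map_eq _ (QuotientGroup.mk'_surjective _)
    (by rw [QuotientGroup.ker_mk']; exact center_le_stabSUW hF 4 0 (tiLine c))]
  exact index_stabSUW hF c hc

end Cfsg.Agent.Lib.Helper9_U4_BREX
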