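import Cfsg.Agent.Lib.Lead_J1Vec
import Cfsg.Agent.Lib.Lead_J1Cent

/-!
# The test on the candidates for the image of the second generator (lead)

For `g = K c * B j` in `J₁`: if `g ^ 3 = 1`, `(t g) ^ 7 = 1` and `(t g t g g) ^ 19 = 1`, then
`g = n b n⁻¹` for some `n` of the table of the centralizer of `t`.  The three relations are
first tested on the first row only.
-/

set_option autoImplicit false

namespace Cfsg.Agent.Lib.Lead_J1OutChk

open Cfsg.Agent.Lib.Helper90_J1Core Cfsg.Agent.Lib.Helper90_J1Table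
  Cfsg.Agent.Lib.Helper90_J1Data Cfsg.Agent.Lib.Lead_J1Vec Cfsg.Agent.Lib.Lead_J1Cent

/-- `f 0 || f 1 || … || f (n - 1)`. -/
def anyLt (n : ℕ) (f : ℕ → Bool) : Bool :=
  Nat.rec (motive := fun _ => Bool) false (fun i r => or (f i) r) n

theorem anyLt_spec {n : ℕ} {f : ℕ → Bool} (h : anyLt n f = true) : ∃ i < n, f i = true := by
  induction n with
  | zero => exact absurd (show false = true from h) (by decide)
  | succ n ih =>
    have h' : (f n || anyLt n f) = true := h
    rw [Bool.or_eq_true] at h'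
    rcases h' with h1 | h1
    · exact ⟨n, Nat.lt_succ_self n, h1⟩
    · obtain ⟨i, hi, hfi⟩ := ih h1
      exact ⟨i, Nat.lt_succ_of_lt hi, hfi⟩

/-- iteration by the primitive recursor -/
def iter (n : ℕ) (f : ℕ → ℕ) (v : ℕ) : ℕ := Nat.rec (motive := fun _ => ℕ) v (fun _ r => f r) n

theorem iter_succ (n : ℕ) (f : ℕ → ℕ) (v : ℕ) : iter (n + 1) f v = f (iter n f v) := rfl

/-- `v ↦ v * g` for `g = kc * bj` -/
def gstep (v kc bj : ℕ) : ℕ := vmulR (vmulR v kc) bj

/-- `v ↦ v * t * g` -/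
def tgstep (v kc bj : ℕ) : ℕ := gstep (vmulR v tcode) kc bj

/-- `v ↦ v * (t * g * t * g * g)` -/
def wstep (v kc bj : ℕ) : ℕ := gstep (gstep (vmulR (tgstep v kc bj) tcode) kc bj) kc bj

/-- the test at the element `K c * B j` -/
def chk (c j : ℕ) : Bool :=
  force (Ktab c) fun kc => force (Btab j) fun bj =>
  force (vmulR kc bj) fun v1 =>
  or (not (Nat.beq (gstep (gstep v1 kc bj) kc bj) 1))
  (or (not (Nat.beq (iter 7 (fun v => tgstep v kc bj) 1) 1))
  (or (not (Nat.beq (iter 19 (fun v => wstep v kc bj) 1) 1))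
  (force (cmulR kc bj) fun g => anyLt 120 fun i => force (Ctab i) fun n =>
    and (Nat.beq (vmulR n bcode) (vmulR v1 n)) (Nat.beq (cmulR n bcode) (cmulR g n)))))

/-- the test on a range of the first index -/
def chkRange (lo n : ℕ) : Bool := allLt n fun i => allLt 266 fun j => chk (Nat.add lo i) j

theorem chk_of_range {lo n : ℕ} (h : chkRange lo n = true) {c j : ℕ} (h1 : lo ≤ c)
    (h2 : c < lo + n) (hj : j < 266) : chk c j = true := by
  have h3 := allLt_spec (allLt_spec h (c - lo) (by omega)) j hj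
  have e : Nat.add lo (c - lo) = c := by show lo + (c - lo) = c; omega
  rw [e] at h3
  exact h3

theorem rowv_gstep (v kc bj : ℕ) :
    rowv (gstep v kc bj) = Matrix.vecMul (rowv v) (toMat kc * toMat bj) := by
  unfold gstep
  rw [vmulR_eq, vmulR_eq, rowv_vmul, rowv_vmul, Matrix.vecMul_vecMul]

theorem rowv_tgstep (v kc bj : ℕ) :
    rowv (tgstep v kc bj) = Matrix.vecMul (rowv v) (toMat tcode * (toMat kc * toMat bj)) := by
  unfold tgstep
  rw [rowv_gstep, vmulR_eq, rowv_vmul, Matrix.vecMul_vecMul]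

theorem rowv_wstep (v kc bj : ℕ) :
    rowv (wstep v kc bj) = Matrix.vecMul (rowv v)
      (toMat tcode * (toMat kc * toMat bj) * toMat tcode * (toMat kc * toMat bj) *
        (toMat kc * toMat bj)) := by
  unfold wstep
  rw [rowv_gstep, rowv_gstep, vmulR_eq, rowv_vmul, rowv_tgstep]
  simp only [Matrix.vecMul_vecMul, mul_assoc]

theorem gstep_eq_one {v kc bj : ℕ} (h : rowv (gstep v kc bj) = Pi.single 0 1) :
    gstep v kc bj = 1 := by
  unfold gstep at h ⊢
  rw [vmulR_eq] at h ⊢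
  exact vmul_eq_one _ _ h

theorem rowv_iter (f : ℕ → ℕ) (M : M7)
    (hf : ∀ v, rowv (f v) = Matrix.vecMul (rowv v) M) (n : ℕ) :
    rowv (iter n f 1) = (M ^ n) 0 := by
  induction n with
  | zero =>
    show rowv 1 = _
    rw [rowv_one, pow_zero, one_row_zero]
  | succ n ih =>
    rw [iter_succ, hf, ih, pow_succ, Matrix.mul_apply_eq_vecMul]

theorem tgstep_eq_one {v kc bj : ℕ} (h : rowv (tgstep v kc bj) = Pi.single 0 1) :
    tgstep v kc bj = 1 := by
  unfold tgstep at h ⊢
  exact gstep_eq_one h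

theorem wstep_eq_one {v kc bj : ℕ} (h : rowv (wstep v kc bj) = Pi.single 0 1) :
    wstep v kc bj = 1 := by
  unfold wstep at h ⊢
  exact gstep_eq_one h

/-- the three tests on rows succeed if the relations hold -/
theorem rows_ok (kc bj : ℕ) (G : M7) (hG : toMat kc * toMat bj = G) (h3 : G ^ 3 = 1)
    (h7 : (toMat tcode * G) ^ 7 = 1)
    (h19 : (toMat tcode * G * toMat tcode * G * G) ^ 19 = 1) :
    gstep (gstep (vmulR kc bj) kc bj) kc bj = 1 ∧
    iter 7 (fun v => tgstep v kc bj) 1 = 1 ∧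
    iter 19 (fun v => wstep v kc bj) 1 = 1 := by
  have hv1 : rowv (vmulR kc bj) = G 0 := by
    rw [vmulR_eq, rowv_vmul, rowv_eq_toMat, ← hG, Matrix.mul_apply_eq_vecMul]
  have hg : ∀ v, rowv (gstep v kc bj) = Matrix.vecMul (rowv v) G := by
    intro v; rw [rowv_gstep, hG]
  have htg : ∀ v, rowv (tgstep v kc bj) = Matrix.vecMul (rowv v) (toMat tcode * G) := by
    intro v; rw [rowv_tgstep, hG]
  have hw : ∀ v, rowv (wstep v kc bj) =
      Matrix.vecMul (rowv v) (toMat tcode * G * toMat tcode * G * G) := by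
    intro v; rw [rowv_wstep, hG]
  refine ⟨?_, ?_, ?_⟩
  · apply gstep_eq_one
    have hGGG : G ^ 3 = G * (G * G) := by rw [pow_succ, pow_two, mul_assoc]
    rw [hg, hg, hv1, Matrix.vecMul_vecMul, ← Matrix.mul_apply_eq_vecMul, ← hGGG, h3,
      one_row_zero]
  · have hr := rowv_iter (fun v => tgstep v kc bj) (toMat tcode * G) htg 7
    rw [h7, one_row_zero] at hr
    have e : iter 7 (fun v => tgstep v kc bj) 1 =
        (fun v => tgstep v kc bj) (iter 6 (fun v => tgstep v kc bj) 1) :=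
      iter_succ 6 _ 1
    rw [e] at hr ⊢
    exact tgstep_eq_one hr
  · have hr := rowv_iter (fun v => wstep v kc bj) (toMat tcode * G * toMat tcode * G * G) hw 19
    rw [h19, one_row_zero] at hr
    have e : iter 19 (fun v => wstep v kc bj) 1 =
        (fun v => wstep v kc bj) (iter 18 (fun v => wstep v kc bj) 1) :=
      iter_succ 18 _ 1
    rw [e] at hr ⊢
    exact wstep_eq_one hr

theorem chk_sound {c j : ℕ} (h : chk c j = true)
    (h3 : (toMat (Ktab c) * toMat (Btab j)) ^ 3 = 1)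
    (h7 : (toMat tcode * (toMat (Ktab c) * toMat (Btab j))) ^ 7 = 1)
    (h19 : (toMat tcode * (toMat (Ktab c) * toMat (Btab j)) * toMat tcode *
      (toMat (Ktab c) * toMat (Btab j)) * (toMat (Ktab c) * toMat (Btab j))) ^ 19 = 1) :
    ∃ i < 120, toMat (Ctab i) * toMat bcode =
      toMat (Ktab c) * toMat (Btab j) * toMat (Ctab i) := by
  obtain ⟨e1, e2, e3⟩ := rows_ok (Ktab c) (Btab j) _ rfl h3 h7 h19
  unfold chk at h
  simp only [force_eq] at h
  rw [e1, e2, e3] at h
  simp only [Nat.beq_refl, Bool.not_true, Bool.false_or] at h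
  obtain ⟨i, hi, hfi⟩ := anyLt_spec h
  rw [Bool.and_eq_true] at hfi
  have h4 := Nat.eq_of_beq_eq_true hfi.2
  refine ⟨i, hi, ?_⟩
  rw [← toMat_cmulR, h4, toMat_cmulR, toMat_cmulR]

end Cfsg.Agent.Lib.Lead_J1OutChk
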