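import Cfsg.Agent.Lib.Lead_J1OutChk

/-!
# The test on the candidates `K c * B j` with `220 ≤ c < 330` (lead)
-/

set_option autoImplicit false

namespace Cfsg.Agent.Lib.Lead_J1OutPass2

open Cfsg.Agent.Lib.Lead_J1OutChk

set_option maxRecDepth 1000000 in
theorem pass0 : chkRange 220 22 = true := by decide +kernel

set_option maxRecDepth 1000000 in
theorem pass1 : chkRange 242 22 = true := by decide +kernel

set_option maxRecDepth 1000000 in
theorem pass2 : chkRange 264 22 = true := by decide +kernel

set_option maxRecDepth 1000000 in
theorem pass3 : chkRange 286 22 = true := by decide +kernel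

set_option maxRecDepth 1000000 in
theorem pass4 : chkRange 308 22 = true := by decide +kernel

theorem pass {c j : ℕ} (h1 : 220 ≤ c) (h2 : c < 330) (hj : j < 266) : chk c j = true := by
  rcases Nat.lt_or_ge c 242 with h | h
  · exact chk_of_range pass0 h1 (by omega) hj
  rcases Nat.lt_or_ge c 264 with h' | h'
  · exact chk_of_range pass1 h (by omega) hj
  rcases Nat.lt_or_ge c 286 with h'' | h''
  · exact chk_of_range pass2 h' (by omega) hj
  rcases Nat.lt_or_ge c 308 with h3 | h3
  · exact chk_of_range pass3 h'' (by omega) hj
  · exact chk_of_range pass4 h3 (by omega) hj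

end Cfsg.Agent.Lib.Lead_J1OutPass2
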