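import Cfsg.Agent.Lib.Helper90_J1Data

/-!
# Row vectors over `ZMod 11` in packed form, for kernel evaluation (lead)

On top of helper90's packed 7 × 7 matrices: the product of a packed row vector (the low seven
fields of a code, that is the row 0 of the matrix it codes) with a packed matrix, and the
necessary conditions `e₀ * M ^ n = e₀` of relations `M ^ n = 1`, evaluated on rows only.
-/

set_option autoImplicit false

namespace Cfsg.Agent.Lib.Lead_J1Vec

open Cfsg.Agent.Lib.Helper90_J1Core Cfsg.Agent.Lib.Helper90_J1Table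

/-- the row vector coded by the low seven fields of `v` -/
def rowv (v : ℕ) : Fin 7 → ZMod 11 := fun j => ((ent v j.val : ℕ) : ZMod 11)

theorem rowv_eq_toMat (a : ℕ) : rowv a = toMat a 0 := by
  funext j
  unfold rowv toMat
  simp

/-- the product of the row vector `v` with the matrix `b` -/
def vmul (v b : ℕ) : ℕ :=
  packL ((List.range 7).map fun j => dot v (Nat.shiftRight b (Nat.mul 4 j)))

/-- the product of a row vector with a matrix (unrolled, strict) -/
def vmulR (v b : ℕ) : ℕ :=
  force v fun v => force b fun b =>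
  force (Nat.shiftRight b 0) fun b0 =>
  force (Nat.shiftRight b 4) fun b1 =>
  force (Nat.shiftRight b 8) fun b2 =>
  force (Nat.shiftRight b 12) fun b3 =>
  force (Nat.shiftRight b 16) fun b4 =>
  force (Nat.shiftRight b 20) fun b5 =>
  force (Nat.shiftRight b 24) fun b6 => rowR v b0 b1 b2 b3 b4 b5 b6 0

theorem vmulR_eq (v b : ℕ) : vmulR v b = vmul v b := rfl

theorem ent_vmul (v b j : ℕ) (hj : j < 7) :
    ent (vmul v b) j = dot v (Nat.shiftRight b (Nat.mul 4 j)) := by
  unfold vmul
  rw [ent_packL]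
  · simp [List.getD_eq_getElem?_getD, hj]
  · intro x hx
    obtain ⟨m, _, rfl⟩ := List.mem_map.mp hx
    exact dot_lt _ _

theorem dot_lt_eleven (a b : ℕ) : dot a b < 11 := by
  unfold dot
  exact Nat.mod_lt _ (by norm_num)

theorem dot_shift_eq (v b j : ℕ) :
    dot v (Nat.shiftRight b (Nat.mul 4 j)) =
      (ent v 0 * ent b j + (ent v 1 * ent b (7 + j) + (ent v 2 * ent b (14 + j) +
        (ent v 3 * ent b (21 + j) + (ent v 4 * ent b (28 + j) + (ent v 5 * ent b (35 + j) +
          ent v 6 * ent b (42 + j))))))) % 11 := by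
  unfold dot ent
  simp only [fld_shiftRight]
  show (_ : ℕ) % 11 = _
  simp only [Nat.mul_eq, Nat.add_eq] at *
  congr 1
  have b0 : 4 * j + 0 = 4 * j := by omega
  have b1 : 4 * j + 28 = 4 * (7 + j) := by omega
  have b2 : 4 * j + 56 = 4 * (14 + j) := by omega
  have b3 : 4 * j + 84 = 4 * (21 + j) := by omega
  have b4 : 4 * j + 112 = 4 * (28 + j) := by omega
  have b5 : 4 * j + 140 = 4 * (35 + j) := by omega
  have b6 : 4 * j + 168 = 4 * (42 + j) := by omega
  rw [b0, b1, b2, b3, b4, b5, b6]

theorem rowv_vmul (v b : ℕ) : rowv (vmul v b) = Matrix.vecMul (rowv v) (toMat b) := by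
  funext j
  unfold rowv
  rw [ent_vmul v b j.val j.2, dot_shift_eq, ZMod.natCast_mod]
  unfold Matrix.vecMul dotProduct
  rw [Fin.sum_univ_seven]
  unfold toMat
  push_cast
  simp only [Fin.val_zero, Fin.val_one, Fin.val_two, mul_zero, zero_add, mul_one]
  have e3 : ((3 : Fin 7) : ℕ) = 3 := rfl
  have e4 : ((4 : Fin 7) : ℕ) = 4 := rfl
  have e5 : ((5 : Fin 7) : ℕ) = 5 := rfl
  have e6 : ((6 : Fin 7) : ℕ) = 6 := rfl
  rw [e3, e4, e5, e6]
  norm_num
  ring

/-- the code of the first basis vector -/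
theorem rowv_one : rowv 1 = Pi.single 0 1 := by
  funext j
  fin_cases j <;> rfl

theorem one_row_zero : (1 : M7) 0 = Pi.single 0 1 := by
  funext j
  fin_cases j <;> rfl

/-- a product of a row vector with a matrix is a normal form -/
theorem vmul_eq_one (v b : ℕ) (h : rowv (vmul v b) = Pi.single 0 1) : vmul v b = 1 := by
  have key : ∀ j : Fin 7, dot v (Nat.shiftRight b (Nat.mul 4 j.val)) = if j = 0 then 1 else 0 := by
    intro j
    have h1 := congrFun h j
    unfold rowv at h1
    rw [ent_vmul v b j.val j.2] at h1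
    have hlt := dot_lt_eleven v (Nat.shiftRight b (Nat.mul 4 j.val))
    by_cases hj : j = 0
    · subst hj
      rw [if_pos rfl]
      rw [Pi.single_eq_same] at h1
      have h2 : ((dot v (Nat.shiftRight b (Nat.mul 4 (0 : Fin 7).val)) : ℕ) : ZMod 11) =
          ((1 : ℕ) : ZMod 11) := by rw [h1]; norm_num
      have h3 := (ZMod.natCast_eq_natCast_iff' _ _ _).mp h2
      omega
    · rw [if_neg hj]
      rw [Pi.single_eq_of_ne hj] at h1
      have h2 : ((dot v (Nat.shiftRight b (Nat.mul 4 j.val)) : ℕ) : ZMod 11) =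
          ((0 : ℕ) : ZMod 11) := by rw [h1]; norm_num
      have h3 := (ZMod.natCast_eq_natCast_iff' _ _ _).mp h2
      omega
  unfold vmul
  have h0 := key 0
  have h1 := key 1
  have h2 := key 2
  have h3 := key 3
  have h4 := key 4
  have h5 := key 5
  have h6 := key 6
  simp only [Fin.val_zero, Fin.val_one, Fin.val_two] at h0 h1 h2
  have e3 : ((3 : Fin 7) : ℕ) = 3 := rfl
  have e4 : ((4 : Fin 7) : ℕ) = 4 := rfl
  have e5 : ((5 : Fin 7) : ℕ) = 5 := rfl
  have e6 : ((6 : Fin 7) : ℕ) = 6 := rfl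
  rw [e3] at h3
  rw [e4] at h4
  rw [e5] at h5
  rw [e6] at h6
  have hr : List.range 7 = [0, 1, 2, 3, 4, 5, 6] := by decide
  rw [hr]
  simp only [List.map_cons, List.map_nil]
  rw [h0, h1, h2, h3, h4, h5, h6]
  decide

end Cfsg.Agent.Lib.Lead_J1Vec
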