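import Mathlib
import Cfsg.Agent.Lib.Lead_StemLocal

/-!
The semidihedral group of order sixteen inside a group: for `r, s` with `r ^ 8 = 1`, `r ^ 4 ≠ 1`,
`s * s = 1`, `s * r = r ^ 3 * s`, the subgroup `P` generated by `r` and `s`: normal form of its
elements, its automorphisms of odd order are trivial, and a nontrivial subgroup normalised by `P`
contains `r ^ 4`.
-/

set_option autoImplicit false

namespace Cfsg.Agent.Lib.Lead_SD16

variable {G : Type*} [Group G]

/-- the relations of the semidihedral group of order sixteen -/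
structure Rel (r s : G) : Prop where
  r8 : r ^ 8 = 1
  r4 : r ^ 4 ≠ 1
  s2 : s * s = 1
  sr : s * r = r ^ 3 * s

namespace Rel

variable {r s : G}

theorem s_inv (h : Rel r s) : s⁻¹ = s := inv_eq_of_mul_eq_one_left h.s2

theorem conj_r (h : Rel r s) : s * r * s⁻¹ = r ^ 3 := by rw [h.sr]; group

theorem conj_pow (h : Rel r s) (i : ℕ) : s * r ^ i * s⁻¹ = r ^ (3 * i) := by
  rw [← _root_.conj_pow, h.conj_r, ← pow_mul]

theorem s_mul_pow (h : Rel r s) (i : ℕ) : s * r ^ i = r ^ (3 * i) * s := by
  rw [← h.conj_pow i]; group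

theorem orderOf_r (h : Rel r s) : orderOf r = 8 := by
  have : Fact (Nat.Prime 2) := ⟨by norm_num⟩
  have := orderOf_eq_prime_pow (p := 2) (n := 2) (x := r) (by norm_num; exact h.r4)
    (by norm_num; exact h.r8)
  norm_num at this
  exact this

theorem pow_eq_pow_mod (h : Rel r s) (i : ℕ) : r ^ i = r ^ (i % 8) := by
  rw [← h.orderOf_r, pow_mod_orderOf]

theorem pow_eq_one_iff (h : Rel r s) (i : ℕ) : r ^ i = 1 ↔ 8 ∣ i := by
  rw [← h.orderOf_r, orderOf_dvd_iff_pow_eq_one]

theorem s_not_mem (h : Rel r s) : s ∉ Subgroup.zpowers r := by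
  intro hmem
  obtain ⟨i, hi⟩ := Subgroup.mem_zpowers_iff.mp hmem
  have h1 : s * r = r * s := by
    rw [← hi]
    exact ((Commute.refl r).zpow_left i).eq
  rw [h.sr] at h1
  have h2 : r ^ 3 = r := mul_right_cancel h1
  have h3 : r ^ 2 = 1 := by
    have : r * r ^ 2 = r * 1 := by rw [mul_one, ← pow_succ']; exact h2
    exact mul_left_cancel this
  apply h.r4
  rw [show 4 = 2 * 2 from rfl, pow_mul, h3, one_pow]

/-- every element of the cyclic group of `r` is a power with exponent below eight -/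
theorem exists_pow_of_mem_zpowers (h : Rel r s) {x : G} (hx : x ∈ Subgroup.zpowers r) :
    ∃ i : ℕ, i < 8 ∧ x = r ^ i := by
  have hfin : IsOfFinOrder r := isOfFinOrder_iff_pow_eq_one.mpr ⟨8, by norm_num, h.r8⟩
  obtain ⟨j, rfl⟩ := (hfin.mem_powers_iff_mem_zpowers).mpr hx
  exact ⟨j % 8, Nat.mod_lt _ (by norm_num), h.pow_eq_pow_mod j⟩

/-- normal form of the elements of the subgroup generated by `r` and `s` -/
theorem normal_form (h : Rel r s) {x : G} (hx : x ∈ Subgroup.closure ({r, s} : Set G)) :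
    ∃ i : ℕ, i < 8 ∧ (x = r ^ i ∨ x = s * r ^ i) := by
  set N := Subgroup.zpowers r with hN
  have hs2 : s * s ∈ N := by rw [h.s2]; exact N.one_mem
  have h1 : ∀ n ∈ N, s * n * s⁻¹ ∈ N := by
    intro n hn
    obtain ⟨i, rfl⟩ := Subgroup.mem_zpowers_iff.mp hn
    rw [← conj_zpow, h.conj_r]
    exact Subgroup.zpow_mem _ (Subgroup.pow_mem _ (Subgroup.mem_zpowers r) 3) i
  have h1' : ∀ n ∈ N, s⁻¹ * n * s ∈ N := by
    intro n hn
    have := h1 n hn
    rw [h.s_inv] at this ⊢
    exact this
  have h2 : x ∈ N ∨ s⁻¹ * x ∈ N := by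
    induction hx using Subgroup.closure_induction with
    | mem x hx =>
      rcases hx with rfl | hx
      · exact Or.inl (Subgroup.mem_zpowers _)
      · rw [Set.mem_singleton_iff] at hx
        subst hx
        right; rw [inv_mul_cancel]; exact N.one_mem
    | one => exact Or.inl N.one_mem
    | mul x y _ _ hx hy =>
      rcases hx with hx | hx <;> rcases hy with hy | hy
      · exact Or.inl (N.mul_mem hx hy)
      · right
        have e : s⁻¹ * (x * y) = (s⁻¹ * x * s) * (s⁻¹ * y) := by group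
        rw [e]; exact N.mul_mem (h1' x hx) hy
      · right
        have e : s⁻¹ * (x * y) = (s⁻¹ * x) * y := by group
        rw [e]; exact N.mul_mem hx hy
      · left
        have e : x * y = (s * (s⁻¹ * x) * s⁻¹) * (s * s) * (s⁻¹ * y) := by group
        rw [e]; exact N.mul_mem (N.mul_mem (h1 _ hx) hs2) hy
    | inv x _ hx =>
      rcases hx with hx | hx
      · exact Or.inl (N.inv_mem hx)
      · right
        have e : s⁻¹ * x⁻¹ = (s * s)⁻¹ * (s * (s⁻¹ * x)⁻¹ * s⁻¹) := by group
        rw [e]; exact N.mul_mem (N.inv_mem hs2) (h1 _ (N.inv_mem hx))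
  rcases h2 with h2 | h2
  · obtain ⟨i, hi, rfl⟩ := h.exists_pow_of_mem_zpowers h2
    exact ⟨i, hi, Or.inl rfl⟩
  · obtain ⟨i, hi, hx⟩ := h.exists_pow_of_mem_zpowers h2
    refine ⟨i, hi, Or.inr ?_⟩
    rw [← hx]; group

/-- the square of an element outside the cyclic group of `r` -/
theorem sq_s_mul_pow (h : Rel r s) (i : ℕ) : (s * r ^ i) * (s * r ^ i) = r ^ (4 * i) := by
  calc (s * r ^ i) * (s * r ^ i) = (s * r ^ i * s⁻¹) * (s * s) * r ^ i := by group
    _ = r ^ (3 * i) * r ^ i := by rw [h.conj_pow, h.s2, mul_one]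
    _ = r ^ (4 * i) := by rw [← pow_add]; congr 1; ring

theorem pow_four_s_mul_pow (h : Rel r s) (i : ℕ) : (s * r ^ i) ^ 4 = 1 := by
  have e : (s * r ^ i) ^ 4 = ((s * r ^ i) * (s * r ^ i)) ^ 2 := by
    rw [← pow_two, ← pow_mul]
  rw [e, h.sq_s_mul_pow, ← pow_mul, show 4 * i * 2 = 8 * i by ring, pow_mul, h.r8, one_pow]

/-- a nontrivial subgroup normalised by the group generated by `r` and `s`, and contained in it,
contains the central involution `r ^ 4` -/
theorem pow_four_mem_of_normal (h : Rel r s) (T : Subgroup G) (hT : T ≠ ⊥)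
    (hTP : T ≤ Subgroup.closure ({r, s} : Set G))
    (hnorm : ∀ g ∈ Subgroup.closure ({r, s} : Set G), ∀ t ∈ T, g * t * g⁻¹ ∈ T) : r ^ 4 ∈ T := by
  obtain ⟨x, hxT, hx1⟩ : ∃ x ∈ T, x ≠ 1 := by
    by_contra hcon
    apply hT
    rw [Subgroup.eq_bot_iff_forall]
    intro x hx
    by_contra hx1
    exact hcon ⟨x, hx, hx1⟩
  obtain ⟨i, hi, hx | hx⟩ := h.normal_form (hTP hxT)
  · -- a power of `r`
    have hi0 : i ≠ 0 := by
      rintro rfl
      exact hx1 (by rw [hx, pow_zero])
    have key : ∀ k : ℕ, (i * k) % 8 = 4 → r ^ 4 ∈ T := by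
      intro k hk
      have := T.pow_mem hxT k
      rwa [hx, ← pow_mul, h.pow_eq_pow_mod, hk] at this
    interval_cases i
    · exact absurd rfl hi0
    · exact key 4 (by norm_num)
    · exact key 2 (by norm_num)
    · exact key 4 (by norm_num)
    · exact key 1 (by norm_num)
    · exact key 4 (by norm_num)
    · exact key 2 (by norm_num)
    · exact key 4 (by norm_num)
  · -- an element outside the cyclic group: its commutator with `r` is `r ^ (-2)`
    have hrP : r ∈ Subgroup.closure ({r, s} : Set G) := Subgroup.subset_closure (by simp)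
    have hy : r * x * r⁻¹ * x⁻¹ ∈ T := T.mul_mem (hnorm r hrP x hxT) (T.inv_mem hxT)
    have e : r * x * r⁻¹ * x⁻¹ = (r ^ 2)⁻¹ := by
      rw [hx]
      have e1 : r * (s * r ^ i) * r⁻¹ * (s * r ^ i)⁻¹ = r * (s * r * s⁻¹)⁻¹ := by group
      rw [e1, h.conj_r]; group
    rw [e] at hy
    have := T.pow_mem (T.inv_mem hy) 2
    rwa [inv_inv, ← pow_mul] at this

/-- an automorphism of odd order of the group generated by `r` and `s` is trivial -/
theorem aut_eq_one_of_odd (h : Rel r s) (α : MulAut ↥(Subgroup.closure ({r, s} : Set G))) (m : ℕ)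
    (hm : Odd m) (hα : α ^ m = 1) : α = 1 := by
  have hrP : r ∈ Subgroup.closure ({r, s} : Set G) := Subgroup.subset_closure (by simp)
  have hsP : s ∈ Subgroup.closure ({r, s} : Set G) := Subgroup.subset_closure (by simp)
  obtain ⟨rP, hrPv⟩ : ∃ rP : ↥(Subgroup.closure ({r, s} : Set G)), (rP : G) = r := ⟨⟨r, hrP⟩, rfl⟩
  obtain ⟨sP, hsPv⟩ : ∃ sP : ↥(Subgroup.closure ({r, s} : Set G)), (sP : G) = s := ⟨⟨s, hsP⟩, rfl⟩
  have hord : orderOf rP = 8 := by
    have h1 : orderOf (rP : G) = 8 := by rw [hrPv]; exact h.orderOf_r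
    rw [← Subgroup.orderOf_coe]; exact h1
  -- the image of `r`
  obtain ⟨i, hi, hαr⟩ : ∃ i : ℕ, i < 8 ∧ α rP = rP ^ i := by
    obtain ⟨i, hi, hx | hx⟩ := h.normal_form (α rP).2
    · refine ⟨i, hi, Subtype.ext ?_⟩
      rw [hx, Subgroup.coe_pow, hrPv]
    · exfalso
      have h1 : (α rP) ^ 4 = 1 := by
        apply Subtype.ext
        rw [Subgroup.coe_pow, hx, h.pow_four_s_mul_pow, Subgroup.coe_one]
      have h2 : orderOf (α rP) = 8 := by rw [MulEquiv.orderOf_eq, hord]
      have h3 := orderOf_dvd_of_pow_eq_one h1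
      rw [h2] at h3
      omega
  have hpow : ∀ j : ℕ, (α ^ j) rP = rP ^ (i ^ j) := by
    intro j
    induction j with
    | zero => simp
    | succ j ih =>
      rw [pow_succ', MulAut.mul_apply, ih, map_pow, hαr, ← pow_mul, pow_succ']
  have hi1 : i = 1 := by
    have h1 := hpow m
    rw [hα, MulAut.one_apply] at h1
    have h2 : rP ^ (i ^ m) = rP ^ 1 := by rw [← h1, pow_one]
    rw [pow_inj_mod, hord] at h2
    obtain ⟨t, rfl⟩ := hm
    have h3 : (i ^ (2 * t + 1)) % 8 = ((i ^ 2 % 8) ^ t % 8 * (i % 8)) % 8 := by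
      rw [pow_succ, pow_mul, Nat.mul_mod, Nat.pow_mod]
    have hodd : i % 2 = 1 := by
      by_contra hev
      have h2i : 2 ∣ i := by omega
      have h2p : 2 ∣ i ^ (2 * t + 1) := dvd_pow h2i (by omega)
      generalize i ^ (2 * t + 1) = X at h2 h2p
      omega
    rw [h3] at h2
    interval_cases i
    · omega
    · rfl
    · omega
    · exfalso; revert h2; norm_num
    · omega
    · exfalso; revert h2; norm_num
    · omega
    · exfalso; revert h2; norm_num
  subst hi1
  rw [pow_one] at hαr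
  have hαrpow : ∀ k : ℕ, α (rP ^ k) = rP ^ k := fun k => by rw [map_pow, hαr]
  -- the image of `s`
  obtain ⟨j, hj, hαs⟩ : ∃ j : ℕ, j < 8 ∧ α sP = sP * rP ^ j := by
    obtain ⟨j, hj, hx | hx⟩ := h.normal_form (α sP).2
    · exfalso
      have h1 : α sP = α (rP ^ j) := by
        rw [hαrpow]
        apply Subtype.ext
        rw [hx, Subgroup.coe_pow, hrPv]
      have h2 : sP = rP ^ j := α.injective h1
      apply h.s_not_mem
      have h3 : s = r ^ j := by
        rw [← hsPv, h2, Subgroup.coe_pow, hrPv]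
      rw [h3]
      exact Subgroup.pow_mem _ (Subgroup.mem_zpowers r) j
    · refine ⟨j, hj, Subtype.ext ?_⟩
      rw [hx, Subgroup.coe_mul, Subgroup.coe_pow, hrPv, hsPv]
  have hpows : ∀ t : ℕ, (α ^ t) sP = sP * rP ^ (t * j) := by
    intro t
    induction t with
    | zero => simp
    | succ t ih =>
      rw [pow_succ', MulAut.mul_apply, ih, map_mul, hαs, hαrpow, mul_assoc, ← pow_add]
      congr 2
      ring
  have hj0 : j = 0 := by
    have h1 := hpows m
    rw [hα, MulAut.one_apply] at h1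
    have h2 : rP ^ (m * j) = 1 := by
      have : sP * rP ^ (m * j) = sP * 1 := by rw [mul_one]; exact h1.symm
      exact mul_left_cancel this
    have h3 := orderOf_dvd_of_pow_eq_one h2
    rw [hord] at h3
    have hcop : Nat.Coprime 8 m := by
      have h2m : Nat.Coprime 2 m := by
        rw [Nat.coprime_two_left]
        exact hm
      exact Nat.Coprime.pow_left 3 h2m
    have h4 : 8 ∣ j := hcop.dvd_of_dvd_mul_left h3
    omega
  subst hj0
  rw [pow_zero, mul_one] at hαs
  -- `α` fixes the generators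
  have htop : Subgroup.closure ({rP, sP} : Set ↥(Subgroup.closure ({r, s} : Set G))) = ⊤ := by
    rw [← Subgroup.closure_closure_coe_preimage (k := ({r, s} : Set G))]
    congr 1
    ext x
    constructor
    · rintro (rfl | hx)
      · show (x : G) ∈ ({r, s} : Set G)
        rw [hrPv]; simp
      · rw [Set.mem_singleton_iff] at hx
        subst hx
        show (x : G) ∈ ({r, s} : Set G)
        rw [hsPv]; simp
    · intro hx
      have hx' : (x : G) = r ∨ (x : G) = s := by simpa using hx
      rcases hx' with hx' | hx'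
      · left; exact Subtype.ext (hx'.trans hrPv.symm)
      · right; exact Subtype.ext (hx'.trans hsPv.symm)
  apply MulEquiv.ext
  intro x
  have hle : Subgroup.closure ({rP, sP} : Set ↥(Subgroup.closure ({r, s} : Set G))) ≤
      α.toMonoidHom.eqLocus (MonoidHom.id ↥(Subgroup.closure ({r, s} : Set G))) := by
    rw [Subgroup.closure_le]
    rintro y (rfl | hy)
    · exact hαr
    · rw [Set.mem_singleton_iff] at hy
      subst hy
      exact hαs
  have hmem : x ∈ α.toMonoidHom.eqLocus (MonoidHom.id ↥(Subgroup.closure ({r, s} : Set G))) := by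
    apply hle
    rw [htop]
    exact Subgroup.mem_top x
  exact hmem

end Rel

end Cfsg.Agent.Lib.Lead_SD16
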