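import Mathlib
import Cfsg.Agent.S5160
import Cfsg.Agent.Lib.Lead_SD16

/-!
The 2-fusion system of a finite group whose Sylow 2-subgroup is semidihedral of order sixteen,
generated by `r` and `s`, with the central involution `r ^ 4` conjugate to `s` and `r ^ 2`
conjugate to `s * r`, is simple.
-/

set_option autoImplicit false
open Cfsg Cfsg.FusionSystem

namespace Cfsg.Agent.Lib.Lead_SD16Fusion

open Cfsg.Agent.Lib.Lead_SD16 Cfsg.Agent.Lib.Helper85_Fusion Cfsg.Agent.Lib.Helper85_GroupFusion

universe u

variable {G : Type u} [Group G]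

/-- in the fusion system of `G` on `S`, a strongly closed subgroup contains every conjugate, lying
in `S`, of each of its elements -/
theorem conj_mem_of_stronglyClosed {S T : Subgroup G}
    (hT : (groupFusionSystem S).StronglyClosed T) {x : G} (hx : x ∈ T) (g : G)
    (hg : g * x * g⁻¹ ∈ S) : g * x * g⁻¹ ∈ T := by
  have hle : Subgroup.zpowers x ≤ T := by rw [Subgroup.zpowers_le]; exact hx
  have hmem : conjHom (Subgroup.zpowers x) g ∈ (groupFusionSystem S).Hom (Subgroup.zpowers x) := by
    refine ⟨hle.trans hT.1, ?_, g, fun y => rfl⟩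
    rintro ⟨y, hy⟩
    obtain ⟨k, rfl⟩ := Subgroup.mem_zpowers_iff.mp hy
    show g * x ^ k * g⁻¹ ∈ S
    rw [← conj_zpow]
    exact S.zpow_mem hg k
  exact hT.2 (Subgroup.zpowers x) hle _ hmem ⟨x, Subgroup.mem_zpowers x⟩

/-- the odd-order lemma for a subgroup equal to the group generated by `r` and `s` -/
theorem aut_eq_one_of_odd' {r s : G} (h : Rel r s) (P : Subgroup G)
    (hP : P = Subgroup.closure ({r, s} : Set G)) (α : MulAut ↥P) (m : ℕ) (hm : Odd m)
    (hα : α ^ m = 1) : α = 1 := by
  subst hP
  exact h.aut_eq_one_of_odd α m hm hα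

/-- a group of automorphisms of the group generated by `r` and `s` is a 2-group -/
theorem isPGroup_aut {r s : G} [Finite G] (h : Rel r s) (P : Subgroup G)
    (hP : P = Subgroup.closure ({r, s} : Set G)) (A : Subgroup (MulAut ↥P)) : IsPGroup 2 ↥A := by
  intro α
  have hfin : Finite (MulAut ↥P) := Finite.of_injective (fun α : MulAut ↥P => (α : ↥P → ↥P))
    (fun α β hαβ => MulEquiv.ext (congrFun hαβ))
  have hne : orderOf α ≠ 0 := (orderOf_pos α).ne'
  obtain ⟨k, m, hm, hkm⟩ := Nat.exists_eq_two_pow_mul_odd hne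
  refine ⟨k, ?_⟩
  have h1 : ((α : MulAut ↥P) ^ 2 ^ k) ^ m = 1 := by
    rw [← pow_mul, ← Subgroup.coe_pow, ← hkm, pow_orderOf_eq_one, Subgroup.coe_one]
  have h2 := aut_eq_one_of_odd' h P hP _ m hm h1
  apply Subtype.ext
  rw [Subgroup.coe_pow, h2, Subgroup.coe_one]

theorem isSimple_of_sd16 [Finite G] (S : Sylow 2 G) (r s g₁ g₂ : G) (h : Rel r s)
    (hS : (S : Subgroup G) = Subgroup.closure ({r, s} : Set G))
    (h1 : g₁ * r ^ 4 * g₁⁻¹ = s) (h2 : g₂ * r ^ 2 * g₂⁻¹ = s * r) :
    (groupFusionSystem (S : Subgroup G)).IsSimple 2 := by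
  have : Fact (Nat.Prime 2) := ⟨Nat.prime_two⟩
  have hrS : r ∈ (S : Subgroup G) := by rw [hS]; exact Subgroup.subset_closure (by simp)
  have hsS : s ∈ (S : Subgroup G) := by rw [hS]; exact Subgroup.subset_closure (by simp)
  apply Cfsg.Agent.S5160.result 2 S
  · -- `S` is not trivial
    intro hbot
    rw [hbot, Subgroup.mem_bot] at hrS
    apply h.r4
    rw [hrS, one_pow]
  · -- strongly closed subgroups
    intro T hT
    by_cases hTbot : T = ⊥
    · exact Or.inl hTbot
    right
    have hTS : T ≤ (S : Subgroup G) := hT.1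
    have hnorm : ∀ g ∈ Subgroup.closure ({r, s} : Set G), ∀ t ∈ T, g * t * g⁻¹ ∈ T := by
      intro g hg t ht
      rw [← hS] at hg
      exact conj_mem_of_stronglyClosed hT ht g
        (Subgroup.mul_mem _ (Subgroup.mul_mem _ hg (hTS ht)) (Subgroup.inv_mem _ hg))
    have hr4 : r ^ 4 ∈ T := h.pow_four_mem_of_normal T hTbot (hS ▸ hTS) hnorm
    have hsT : s ∈ T := by
      have := conj_mem_of_stronglyClosed hT hr4 g₁ (by rw [h1]; exact hsS)
      rwa [h1] at this
    have hr2 : r ^ 2 ∈ T := by
      have h3 : r * s * r⁻¹ ∈ T := hnorm r (by rw [← hS]; exact hrS) s hsT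
      have e : r ^ 2 = s * (r * s * r⁻¹) := by
        have e1 : s * (r * s * r⁻¹) = (s * r * s⁻¹) * (s * s) * r⁻¹ := by group
        rw [e1, h.conj_r, h.s2, mul_one]
        group
      rw [e]
      exact T.mul_mem hsT h3
    have hsr : s * r ∈ T := by
      have := conj_mem_of_stronglyClosed hT hr2 g₂ (by rw [h2]; exact Subgroup.mul_mem _ hsS hrS)
      rwa [h2] at this
    have hrT : r ∈ T := by
      have e : r = s * (s * r) := by rw [← mul_assoc, h.s2, one_mul]
      rw [e]
      exact T.mul_mem hsT hsr
    apply le_antisymm hTS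
    rw [hS, Subgroup.closure_le]
    rintro x (rfl | hx)
    · exact hrT
    · rw [Set.mem_singleton_iff] at hx
      subst hx
      exact hsT
  · -- the automorphisms induced by `G`
    have hSS : (S : Subgroup G) ≤ Subgroup.normalizer ((S : Subgroup G) : Set G) :=
      Subgroup.le_normalizer
    -- the automorphism group induced by `G` is induced by `S`
    have hle : autInducedBy ⊤ (S : Subgroup G) ≤ autInducedBy (S : Subgroup G) (S : Subgroup G) := by
      have hsyl : IsSylowIn 2 (normalizerIn (S : Subgroup G) (S : Subgroup G))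
          (Subgroup.normalizer ((S : Subgroup G) : Set G)) := by
        have e : normalizerIn (S : Subgroup G) (S : Subgroup G) = (S : Subgroup G) := by
          unfold normalizerIn
          exact inf_eq_left.mpr hSS
        rw [e]
        exact isSylowIn_of_sylow_le S hSS
      obtain ⟨R, hR⟩ := aut_sylow_of_normalizer hsyl (autInducedBy ⊤ (S : Subgroup G))
        (mem_autInducedBy_top_iff (S : Subgroup G))
      have hpg : IsPGroup 2 ↥(autInducedBy ⊤ (S : Subgroup G)) := isPGroup_aut h _ hS _
      have htop : (R : Subgroup ↥(autInducedBy ⊤ (S : Subgroup G))) = ⊤ := by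
        have hpg' : IsPGroup 2 ↥(⊤ : Subgroup ↥(autInducedBy ⊤ (S : Subgroup G))) :=
          hpg.to_subgroup ⊤
        exact (R.is_maximal' hpg' le_top).symm
      rw [htop] at hR
      intro α hα
      have : (⟨α, hα⟩ : ↥(autInducedBy ⊤ (S : Subgroup G))) ∈
          (autInducedBy (S : Subgroup G) (S : Subgroup G)).subgroupOf
            (autInducedBy ⊤ (S : Subgroup G)) := by
        rw [← hR]; exact Subgroup.mem_top _
      exact Subgroup.mem_subgroupOf.mp this
    apply le_antisymm
    · -- the term for `R = S`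
      have hfn : (groupFusionSystem (S : Subgroup G)).IsFullyNormalized (S : Subgroup G) := by
        refine ⟨le_rfl, fun Q _ => ?_⟩
        apply Nat.card_le_card_of_injective
          (Subgroup.inclusion (show normalizerIn (S : Subgroup G) Q ≤
            normalizerIn (S : Subgroup G) (S : Subgroup G) from fun x hx => ⟨hx.1, hSS hx.1⟩))
        exact Subgroup.inclusion_injective _
      have hcen : (groupFusionSystem (S : Subgroup G)).IsCentric (S : Subgroup G) := by
        refine ⟨le_rfl, fun Q hQ => ?_⟩
        obtain ⟨φ, hφ, hφQ⟩ := hQ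
        -- a conjugate of `S` inside `S` is `S`
        have hQS : Q = (S : Subgroup G) := by
          have hQle : Q ≤ (S : Subgroup G) := by
            rw [← hφQ]
            rintro _ ⟨x, rfl⟩
            exact hφ.2.1 x
          apply Subgroup.eq_of_le_of_card_ge hQle
          rw [← hφQ]
          exact (Nat.card_congr (MonoidHom.ofInjective
            ((groupFusionSystem (S : Subgroup G)).injective_of_mem hφ)).toEquiv).le
        rw [hQS]
        exact inf_le_left
      have hinn : autInducedBy (S : Subgroup G) (S : Subgroup G) = Inn (S : Subgroup G) := by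
        apply le_antisymm
        · intro α hα
          obtain ⟨g, hg, hα⟩ := (mem_autInducedBy_iff _ _ α).1 hα
          refine ⟨⟨g, hg⟩, ?_⟩
          ext x
          rw [hα]
          rfl
        · rintro _ ⟨g, rfl⟩
          exact (mem_autInducedBy_iff _ _ _).2 ⟨g, g.2, fun x => rfl⟩
      have haut : (groupFusionSystem (S : Subgroup G)).autGroup (S : Subgroup G) =
          autInducedBy ⊤ (S : Subgroup G) := by
        ext α
        rw [group_mem_autGroup_iff le_rfl, mem_autInducedBy_top_iff]
      have hrad : (groupFusionSystem (S : Subgroup G)).IsRadical 2 (S : Subgroup G) := by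
        refine ⟨le_rfl, ?_⟩
        have hA : (groupFusionSystem (S : Subgroup G)).autGroup (S : Subgroup G) =
            Inn (S : Subgroup G) := by
          rw [haut, ← hinn]
          apply le_antisymm hle
          intro α hα
          obtain ⟨g, -, hα⟩ := (mem_autInducedBy_iff _ _ α).1 hα
          exact (mem_autInducedBy_top_iff _ α).2 ⟨g, hα⟩
        have hpc : pCore 2 ↥((groupFusionSystem (S : Subgroup G)).autGroup (S : Subgroup G)) = ⊤ := by
          rw [eq_top_iff]
          apply le_sSup
          exact ⟨inferInstance, (isPGroup_aut h _ hS _).to_subgroup ⊤⟩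
        rw [hpc, ← MonoidHom.range_eq_map, Subgroup.range_subtype, hA]
      refine le_trans hle (le_trans ?_ (le_iSup₂ (f := fun (R : Subgroup G)
        (_ : (groupFusionSystem (S : Subgroup G)).IsFullyNormalized R ∧
          (groupFusionSystem (S : Subgroup G)).IsRadical 2 R ∧
          (groupFusionSystem (S : Subgroup G)).IsCentric R) =>
        autInducedBy (Subgroup.closure {g : G | g ∈ Subgroup.normalizer (R : Set G) ∧
          ∃ k : ℕ, orderOf g = 2 ^ k}) (S : Subgroup G)) (S : Subgroup G) ⟨hfn, hrad, hcen⟩))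
      -- monotonicity
      intro α hα
      obtain ⟨g, hg, hα⟩ := (mem_autInducedBy_iff _ _ α).1 hα
      refine (mem_autInducedBy_iff _ _ α).2 ⟨g, Subgroup.subset_closure ⟨hSS hg, ?_⟩, hα⟩
      obtain ⟨k, hk⟩ := (IsPGroup.iff_orderOf.mp S.isPGroup') ⟨g, hg⟩
      exact ⟨k, by rw [← hk, Subgroup.orderOf_mk]⟩
    · apply iSup₂_le
      intro R _ α hα
      obtain ⟨g, -, hα⟩ := (mem_autInducedBy_iff _ _ α).1 hα
      exact (mem_autInducedBy_top_iff _ α).2 ⟨g, hα⟩

/-- the relations are preserved by an isomorphism -/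
theorem rel_map {H : Type*} [Group H] {r s : G} (h : Rel r s) (φ : G ≃* H) : Rel (φ r) (φ s) where
  r8 := by rw [← map_pow, h.r8, map_one]
  r4 := by
    rw [← map_pow]
    intro h4
    exact h.r4 (φ.injective (h4.trans (map_one φ).symm))
  s2 := by rw [← map_mul, h.s2, map_one]
  sr := by rw [← map_mul, h.sr, map_mul, map_pow]

open scoped Pointwise in
/-- a finite group whose order has 2-part sixteen, containing `r`, `s` with the semidihedral
relations and the two fusion relations, has simple 2-fusion system on every Sylow 2-subgroup -/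
theorem isSimple_of_sd16_card [Finite G] (hcard : (Nat.card G).factorization 2 = 4)
    (r s g₁ g₂ : G) (h : Rel r s) (h1 : g₁ * r ^ 4 = s * g₁) (h2 : g₂ * r ^ 2 = s * r * g₂)
    (S : Sylow 2 G) : (groupFusionSystem (S : Subgroup G)).IsSimple 2 := by
  have : Fact (Nat.Prime 2) := ⟨Nat.prime_two⟩
  have hc : Nat.card ↥(Subgroup.closure ({r, s} : Set G)) = 2 ^ (Nat.card G).factorization 2 := by
    rw [hcard, Cfsg.Agent.Lib.Lead_StemLocal.card_closure_pair r s
      (by rw [h.s2]; exact Subgroup.one_mem _)
      (by rw [h.conj_r]; exact Subgroup.pow_mem _ (Subgroup.mem_zpowers r) 3) h.s_not_mem,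
      h.orderOf_r]
    norm_num
  obtain ⟨g, hg⟩ := MulAction.exists_smul_eq G (Sylow.ofCard _ hc) S
  have hS : (S : Subgroup G) = Subgroup.closure ({MulAut.conj g r, MulAut.conj g s} : Set G) := by
    rw [← hg, Sylow.coe_subgroup_smul, Sylow.coe_ofCard, Subgroup.smul_closure]
    congr 1
    ext x
    simp only [Set.mem_smul_set, Set.mem_insert_iff, Set.mem_singleton_iff]
    constructor
    · rintro ⟨y, rfl | rfl, rfl⟩
      · left; rfl
      · right; rfl
    · rintro (rfl | rfl)
      · exact ⟨r, Or.inl rfl, rfl⟩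
      · exact ⟨s, Or.inr rfl, rfl⟩
  apply isSimple_of_sd16 S (MulAut.conj g r) (MulAut.conj g s) (MulAut.conj g g₁)
    (MulAut.conj g g₂) (rel_map h (MulAut.conj g)) hS
  · rw [← map_pow, ← map_mul, h1, map_mul, mul_inv_cancel_right]
  · rw [← map_pow, ← map_mul, h2, map_mul, map_mul, mul_inv_cancel_right]

end Cfsg.Agent.Lib.Lead_SD16Fusion
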