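import Mathlib
import Cfsg.Prelude.Def_KGroupFacts

/-!
# A criterion for `|Out G| = 2` through a cyclic Sylow subgroup (helper19)

`G` is a finite group whose order is divisible by the prime `p` exactly once, generated by an element
`y` of order `p` and an element `t`.  The centraliser of `y` has order `c0`, and Sylow counting
forces `|N_G(⟨y⟩) : C_G(y)| = m` with `m` odd and `2 m = p - 1`.  If an involutory automorphism `σ`
inverts `y`, and every automorphism fixing `y` maps `t` to a conjugate under `C_G(y)`, then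
`Out G` has order 2.
-/

set_option autoImplicit false
open Cfsg

namespace Cfsg.Agent.Lib.helper19_OutSylow

variable {G : Type*} [Group G]

/-- The restriction of an automorphism to an invariant subgroup. -/
def restr (P : Subgroup G) (β : MulAut G) (h : ∀ x, β x ∈ P ↔ x ∈ P) : MulAut P where
  toFun x := ⟨β x, (h x).2 x.2⟩
  invFun x := ⟨β⁻¹ x, (h _).1 (by rw [MulAut.apply_inv_self]; exact x.2)⟩
  left_inv x := by
    apply Subtype.ext
    simp
  right_inv x := by
    apply Subtype.ext
    simp
  map_mul' x z := by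
    apply Subtype.ext
    simp

theorem restr_apply (P : Subgroup G) (β : MulAut G) (h : ∀ x, β x ∈ P ↔ x ∈ P) (x : P) :
    ((restr P β h x : P) : G) = β x := rfl

theorem restr_mul (P : Subgroup G) (β γ : MulAut G) (hβ : ∀ x, β x ∈ P ↔ x ∈ P)
    (hγ : ∀ x, γ x ∈ P ↔ x ∈ P) (hβγ : ∀ x, (β * γ) x ∈ P ↔ x ∈ P) :
    restr P (β * γ) hβγ = restr P β hβ * restr P γ hγ := by
  ext x
  rfl

/-- An automorphism mapping the generator of a finite cyclic subgroup into it preserves it. -/
theorem preserves_zpowers [Finite G] (β : MulAut G) (y : G) (h : β y ∈ Subgroup.zpowers y) :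
    ∀ x, β x ∈ Subgroup.zpowers y ↔ x ∈ Subgroup.zpowers y := by
  have hle : (Subgroup.zpowers y).map β.toMonoidHom ≤ Subgroup.zpowers y := by
    rw [MonoidHom.map_zpowers, Subgroup.zpowers_le]
    exact h
  have hcard : Nat.card ((Subgroup.zpowers y).map β.toMonoidHom) = Nat.card (Subgroup.zpowers y) :=
    Subgroup.card_map_of_injective β.injective
  have heq : (Subgroup.zpowers y).map β.toMonoidHom = Subgroup.zpowers y :=
    Subgroup.eq_of_le_of_card_ge hle (le_of_eq hcard.symm)
  intro x
  constructor
  · intro hx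
    rw [← heq] at hx
    obtain ⟨z, hz, hzx⟩ := Subgroup.mem_map.mp hx
    have : z = x := β.injective hzx
    rwa [← this]
  · intro hx
    rw [← heq]
    exact Subgroup.mem_map_of_mem _ hx

theorem eq_one_of_fix (δ : MulAut G) {y t : G} (hgen : Subgroup.closure {y, t} = ⊤)
    (hy : δ y = y) (ht : δ t = t) : δ = 1 := by
  have h : δ.toMonoidHom = MonoidHom.id G := by
    apply MonoidHom.eq_of_eqOn_dense hgen
    rintro x (rfl | rfl)
    · exact hy
    · exact ht
  ext x
  exact DFunLike.congr_fun h x

theorem mk_conj (g : G) : (QuotientGroup.mk (MulAut.conj g) : Out G) = 1 := by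
  rw [QuotientGroup.eq_one_iff]
  exact ⟨g, rfl⟩

/-- The criterion. -/
theorem card_out_eq_two [Finite G] (p : ℕ) [hp : Fact p.Prime] {s c0 m : ℕ}
    (hcard : Nat.card G = p * s) (hs : ¬ p ∣ s)
    (y t : G) (hy : orderOf y = p) (hgen : Subgroup.closure {y, t} = ⊤)
    (hC : Nat.card (Subgroup.centralizer ({y} : Set G)) = c0)
    (hm2 : 2 * m = p - 1) (hmodd : ¬ 2 ∣ m)
    (hsyl : ∀ m', m' ∣ p - 1 → (Nat.card G / (c0 * m')) % p = 1 → m' = m)
    (σ : MulAut G) (hσ2 : σ * σ = 1) (hσy : σ y = y⁻¹)
    (hsurv : ∀ α : MulAut G, α y = y → ∃ c : G, c * y = y * c ∧ α t = c * t * c⁻¹) :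
    Nat.card (Out G) = 2 := by
  classical
  have hp1 : 1 < p := hp.out.one_lt
  have hs0 : s ≠ 0 := by
    rintro rfl
    simp at hs
  have hfac : (Nat.card G).factorization p = 1 := by
    rw [hcard, Nat.factorization_mul hp.out.ne_zero hs0]
    have h55 : (Nat.factorization p) p = 1 := Nat.Prime.factorization_self hp.out
    simp [h55, Nat.factorization_eq_zero_of_not_dvd hs]
  set P : Subgroup G := Subgroup.zpowers y with hPdef
  have hyP : y ∈ P := Subgroup.mem_zpowers y
  have hPcard : Nat.card P = p := by rw [Nat.card_zpowers, hy]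
  let PS : Sylow p G := Sylow.ofCard P (by rw [hPcard, hfac, pow_one])
  have hPS : (PS : Subgroup G) = P := rfl
  -- the normalizer and its homomorphism
  let N : Subgroup G := Subgroup.normalizer (P : Set G)
  let φ : N →* MulAut P := P.normalizerMonoidHom
  have hφ : ∀ (n : N) (x : P), ((φ n x : P) : G) = (n : G) * x * (n : G)⁻¹ := fun n x => rfl
  -- centralizer of P is centralizer of y
  have hcent : Subgroup.centralizer (P : Set G) = Subgroup.centralizer ({y} : Set G) := by
    ext g
    rw [Subgroup.mem_centralizer_iff, Subgroup.mem_centralizer_iff]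
    constructor
    · intro h x hx
      rw [Set.mem_singleton_iff] at hx
      rw [hx]
      exact h y hyP
    · intro h x hx
      obtain ⟨k, rfl⟩ := Subgroup.mem_zpowers_iff.mp hx
      have h1 : y * g = g * y := h y rfl
      exact (Commute.zpow_left h1 k).eq
  have hker : Nat.card φ.ker = c0 := by
    rw [Subgroup.normalizerMonoidHom_ker, ← hC, ← hcent]
    exact Nat.card_congr
      (Subgroup.subgroupOfEquivOfLe (Subgroup.centralizer_le_normalizer (P : Set G))).toEquiv
  -- the image
  let I : Subgroup (MulAut P) := φ.range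
  have hNcard : Nat.card N = c0 * Nat.card I := by
    have h1 := Subgroup.card_eq_card_quotient_mul_card_subgroup φ.ker
    rw [hker, Nat.card_congr (QuotientGroup.quotientKerEquivRange φ).toEquiv] at h1
    rw [h1, Nat.mul_comm]
  have : IsCyclic P := by
    rw [hPdef]; infer_instance
  have hAut : Nat.card (MulAut P) = p - 1 := by
    rw [IsCyclic.card_mulAut, hPcard, Nat.totient_prime hp.out]
  have hIdvd : Nat.card I ∣ p - 1 := by
    rw [← hAut]
    exact Subgroup.card_subgroup_dvd_card I
  have hindex : N.index = Nat.card G / (c0 * Nat.card I) := by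
    have h1 := Subgroup.index_mul_card N
    rw [hNcard] at h1
    have hpos : 0 < c0 * Nat.card I := by
      rw [← hNcard]; exact Nat.card_pos
    rw [← h1, Nat.mul_div_cancel _ hpos]
  have hmod : N.index % p = 1 := by
    have h1 : Nat.card (Sylow p G) ≡ 1 [MOD p] := card_sylow_modEq_one p G
    rw [Sylow.card_eq_index_normalizer PS] at h1
    have h1' : N.index ≡ 1 [MOD p] := h1
    have h2 : (1 : ℕ) % p = 1 := Nat.mod_eq_of_lt hp1
    rw [Nat.ModEq, h2] at h1'
    exact h1'
  have hIcard : Nat.card I = m := hsyl _ hIdvd (by rw [← hindex]; exact hmod)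
  have hIindex : I.index = 2 := by
    have h1 := Subgroup.index_mul_card I
    rw [hIcard, hAut, ← hm2] at h1
    have hm0 : 0 < m := by
      rcases Nat.eq_zero_or_pos m with h | h
      · rw [h] at hm2; omega
      · exact h
    exact Nat.eq_of_mul_eq_mul_right hm0 h1
  -- σ preserves P
  have hσP : ∀ x, σ x ∈ P ↔ x ∈ P := preserves_zpowers σ y (by
    rw [hσy]; exact Subgroup.inv_mem _ hyP)
  let ι : MulAut P := restr P σ hσP
  have hy1 : y ≠ 1 := by
    intro h
    rw [h, orderOf_one] at hy
    omega
  have hp2 : p ≠ 2 := by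
    rintro rfl
    have : m = 0 ∨ 2 * m = 1 := by omega
    omega
  have hιne : ι ≠ 1 := by
    intro h
    have h1 : ((ι ⟨y, hyP⟩ : P) : G) = y := by rw [h]; rfl
    rw [restr_apply] at h1
    change σ y = y at h1
    rw [hσy] at h1
    have h2 : y ^ 2 = 1 := by
      rw [pow_two]
      nth_rewrite 1 [← h1]
      exact inv_mul_cancel y
    have h3 : p ∣ 2 := hy ▸ orderOf_dvd_of_pow_eq_one h2
    have h4 : p ≤ 2 := Nat.le_of_dvd (by norm_num) h3
    omega
  have hι2 : ι * ι = 1 := by
    ext x
    show σ (σ x) = x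
    have := DFunLike.congr_fun hσ2 (x : G)
    exact this
  have hιI : ι ∉ I := by
    intro h
    have ho : orderOf ι = 2 := by
      apply orderOf_eq_prime
      · rw [pow_two]; exact hι2
      · exact hιne
    have h1 : orderOf (⟨ι, h⟩ : I) = 2 := by
      rw [← Subgroup.orderOf_coe]; exact ho
    have h2 : 2 ∣ Nat.card I := h1 ▸ orderOf_dvd_natCard _
    rw [hIcard] at h2
    exact hmodd h2
  -- automorphisms preserving P with restriction in I are inner
  have inner_of_mem : ∀ β : MulAut G, ∀ hβ : (∀ x, β x ∈ P ↔ x ∈ P), restr P β hβ ∈ I →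
      ∃ g : G, β = MulAut.conj g := by
    intro β hβ hI
    obtain ⟨n, hn⟩ := hI
    have h1 : (n : G) * y * (n : G)⁻¹ = β y := by
      have := congrArg (fun f : MulAut P => ((f ⟨y, hyP⟩ : P) : G)) hn
      exact this
    set γ : MulAut G := (MulAut.conj (n : G))⁻¹ * β with hγ
    have hγy : γ y = y := by
      rw [hγ, MulAut.mul_apply, ← h1, ← map_inv, MulAut.conj_apply, inv_inv]
      group
    obtain ⟨c, hc, hct⟩ := hsurv γ hγy
    have hδ : (MulAut.conj c)⁻¹ * γ = 1 := by
      apply eq_one_of_fix _ hgen
      · rw [MulAut.mul_apply, hγy, ← map_inv, MulAut.conj_apply, inv_inv]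
        rw [mul_assoc, ← hc, ← mul_assoc, inv_mul_cancel, one_mul]
      · rw [MulAut.mul_apply, hct, ← map_inv, MulAut.conj_apply, inv_inv]
        group
    refine ⟨(n : G) * c, ?_⟩
    have hγ' : γ = MulAut.conj c := by
      rw [← mul_one (MulAut.conj c), ← hδ, mul_inv_cancel_left]
    rw [map_mul, ← hγ', hγ, mul_inv_cancel_left]
  -- every automorphism is inner or σ times inner
  have key : ∀ α : MulAut G, (QuotientGroup.mk α : Out G) = 1 ∨
      (QuotientGroup.mk α : Out G) = QuotientGroup.mk σ := by
    intro α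
    -- move α(P) back to P
    let Q : Sylow p G := Sylow.ofCard (P.map α.toMonoidHom) (by
      rw [Subgroup.card_map_of_injective α.injective, hPcard, hfac, pow_one])
    obtain ⟨g, hg⟩ := MulAction.exists_smul_eq G PS Q
    set β : MulAut G := MulAut.conj g⁻¹ * α with hβdef
    have hβy : β y ∈ P := by
      have h1 : α y ∈ (Q : Subgroup G) := Subgroup.mem_map_of_mem _ hyP
      rw [← hg, Sylow.coe_subgroup_smul, Subgroup.mem_pointwise_smul_iff_inv_smul_mem] at h1
      have h2 : (MulAut.conj g)⁻¹ • α y = g⁻¹ * α y * g := by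
        rw [← map_inv, MulAut.smul_def, MulAut.conj_apply, inv_inv]
      rw [h2] at h1
      rw [hβdef, MulAut.mul_apply, MulAut.conj_apply, inv_inv]
      exact h1
    have hβP : ∀ x, β x ∈ P ↔ x ∈ P := preserves_zpowers β y hβy
    have hαβ : (QuotientGroup.mk α : Out G) = QuotientGroup.mk β := by
      rw [hβdef, QuotientGroup.mk_mul, mk_conj, one_mul]
    by_cases hI : restr P β hβP ∈ I
    · left
      obtain ⟨c, hc⟩ := inner_of_mem β hβP hI
      rw [hαβ, hc]
      exact mk_conj c
    · right
      have hσβP : ∀ x, (σ * β) x ∈ P ↔ x ∈ P := by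
        intro x
        rw [MulAut.mul_apply, hσP, hβP]
      have hmem : restr P (σ * β) hσβP ∈ I := by
        rw [restr_mul P σ β hσP hβP hσβP]
        rw [Subgroup.mul_mem_iff_of_index_two hIindex]
        exact ⟨fun h => absurd h hιI, fun h => absurd h hI⟩
      obtain ⟨c, hc⟩ := inner_of_mem (σ * β) hσβP hmem
      have h1 : (QuotientGroup.mk (σ * β) : Out G) = 1 := by
        rw [hc]; exact mk_conj c
      rw [QuotientGroup.mk_mul] at h1
      have hσq : (QuotientGroup.mk σ : Out G) * QuotientGroup.mk σ = 1 := by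
        rw [← QuotientGroup.mk_mul, hσ2]; rfl
      rw [hαβ]
      calc (QuotientGroup.mk β : Out G) = (QuotientGroup.mk σ * QuotientGroup.mk σ) * QuotientGroup.mk β := by
            rw [hσq, one_mul]
        _ = QuotientGroup.mk σ * (QuotientGroup.mk σ * QuotientGroup.mk β) := by rw [mul_assoc]
        _ = QuotientGroup.mk σ := by rw [h1, mul_one]
  -- σ is not inner
  have hσout : (QuotientGroup.mk σ : Out G) ≠ 1 := by
    intro h
    rw [QuotientGroup.eq_one_iff] at h
    obtain ⟨x, hx⟩ := h
    have hxy : x * y * x⁻¹ = y⁻¹ := by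
      have := DFunLike.congr_fun hx y
      rw [MulAut.conj_apply] at this
      rw [this, hσy]
    have hxN : x ∈ N := by
      have hconj : ∀ z, MulAut.conj x z ∈ P ↔ z ∈ P := by
        rw [hx]; exact hσP
      rw [Subgroup.mem_normalizer_iff]
      intro z
      have := hconj z
      rw [MulAut.conj_apply] at this
      exact this.symm
    apply hιI
    refine ⟨⟨x, hxN⟩, ?_⟩
    ext z
    show x * (z : G) * x⁻¹ = σ z
    rw [← hx, MulAut.conj_apply]
  -- conclusion
  have hcard2 : ∀ q : Out G, q = 1 ∨ q = QuotientGroup.mk σ := by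
    intro q
    induction q using QuotientGroup.induction_on with
    | H α => exact key α
  have htop : Subgroup.zpowers (QuotientGroup.mk σ : Out G) = ⊤ := by
    rw [eq_top_iff]
    rintro q -
    rcases hcard2 q with h | h
    · rw [h]; exact Subgroup.one_mem _
    · rw [h]; exact Subgroup.mem_zpowers _
  have hcardO : Nat.card (Out G) = orderOf (QuotientGroup.mk σ : Out G) := by
    rw [← Nat.card_zpowers, htop, Subgroup.card_top]
  rw [hcardO]
  apply orderOf_eq_prime
  · rw [pow_two, ← QuotientGroup.mk_mul, hσ2]; rfl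
  · exact hσout

end Cfsg.Agent.Lib.helper19_OutSylow
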