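import Mathlib
import Cfsg.Prelude.Def_KGroupFacts
import Cfsg.Agent.Lib.helper19_OutSylow

/-!
# Automorphisms of a transitive group through a point stabiliser (helper19)

`N` is a finite group acting faithfully and transitively on `Ω`, `H` is the stabiliser of `o`.
* `invol_fix`: if an element `x` of order 11 has exactly three fixed points and the centraliser of `x`
  in each point stabiliser has at most 44 elements, among them `⟨x⟩ × ⟨t1, t2⟩`, then every involution
  commuting with `x` fixes all three points.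
* `exists_conj_stab`: if `H = ⟨y, x, t1, t2, t3⟩` with `y` of order `p` (a Sylow subgroup) having the
  unique fixed point `o`, `x` of order `q` normalising `⟨y⟩` and the `t i` involutions commuting with `x`,
  then every automorphism maps `H` to a conjugate of `H`.
* `aut_fixing_stab`: an automorphism fixing `H` pointwise is `1` or `θ`, if the only maps of `Ω`
  commuting with `H` are the identity and `l`.
* `card_out_eq_two`: the assembly.
-/

set_option autoImplicit false
set_option linter.unusedSimpArgs false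
set_option linter.unusedVariables false
set_option linter.unusedSectionVars false
open Cfsg

namespace Cfsg.Agent.Lib.helper19_AutStab

open Cfsg.Agent.Lib.helper19_OutSylow

section Inj

variable {G : Type*} [Group G]

/-- the elements `y ^ k * d1 ^ e1 * d2 ^ e2` are pairwise different. -/
theorem prod_inj (y d1 d2 : G) (n : ℕ) (hn : Odd n) (hy : orderOf y = n)
    (c12 : d1 * d2 = d2 * d1)
    (s1 : d1 * d1 = 1) (s2 : d2 * d2 = 1) (n1 : d1 ≠ 1) (n2 : d2 ≠ 1) (n12 : d1 ≠ d2) :
    Function.Injective (fun t : Fin n × Fin 2 × Fin 2 =>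
      y ^ (t.1 : ℕ) * d1 ^ (t.2.1 : ℕ) * d2 ^ (t.2.2 : ℕ)) := by
  have hyn : y ^ n = 1 := by rw [← hy]; exact pow_orderOf_eq_one y
  rintro ⟨k, e1, e2⟩ ⟨k', e1', e2'⟩ h
  have h0 : y ^ (k : ℕ) * d1 ^ (e1 : ℕ) * d2 ^ (e2 : ℕ) =
      y ^ (k' : ℕ) * d1 ^ (e1' : ℕ) * d2 ^ (e2' : ℕ) := h
  obtain ⟨z, hz⟩ : ∃ z : G, z = d1 ^ (e1 : ℕ) * d2 ^ (e2 : ℕ) := ⟨_, rfl⟩
  obtain ⟨z', hz'⟩ : ∃ z' : G, z' = d1 ^ (e1' : ℕ) * d2 ^ (e2' : ℕ) := ⟨_, rfl⟩
  have hc12 : Commute d1 d2 := c12
  have sqz : ∀ e f : ℕ, (d1 ^ e * d2 ^ f) * (d1 ^ e * d2 ^ f) = 1 := by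
    intro e f
    have hc : Commute (d1 ^ e) (d2 ^ f) := hc12.pow_pow e f
    calc d1 ^ e * d2 ^ f * (d1 ^ e * d2 ^ f) = d1 ^ e * (d2 ^ f * d1 ^ e) * d2 ^ f := by group
      _ = d1 ^ e * (d1 ^ e * d2 ^ f) * d2 ^ f := by rw [hc.eq]
      _ = (d1 ^ e * d1 ^ e) * (d2 ^ f * d2 ^ f) := by group
      _ = 1 := by
        rw [← pow_add, ← pow_add, ← two_mul, ← two_mul, pow_mul, pow_mul, pow_two, pow_two, s1, s2,
          one_pow, one_pow, one_mul]
  have hzz : z * z = 1 := by rw [hz]; exact sqz _ _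
  have hzz' : z' * z' = 1 := by rw [hz']; exact sqz _ _
  have hzc : Commute z z' := by
    rw [hz, hz']
    have a1 : Commute (d1 ^ (e1 : ℕ)) (d1 ^ (e1' : ℕ)) := (Commute.refl d1).pow_pow _ _
    have a2 : Commute (d1 ^ (e1 : ℕ)) (d2 ^ (e2' : ℕ)) := hc12.pow_pow _ _
    have a3 : Commute (d2 ^ (e2 : ℕ)) (d1 ^ (e1' : ℕ)) := (hc12.pow_pow _ _).symm
    have a4 : Commute (d2 ^ (e2 : ℕ)) (d2 ^ (e2' : ℕ)) := (Commute.refl d2).pow_pow _ _
    exact (a1.mul_right a2).mul_left (a3.mul_right a4)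
  have h1 : y ^ (k : ℕ) * z = y ^ (k' : ℕ) * z' := by
    rw [hz, hz', ← mul_assoc, ← mul_assoc]; exact h0
  have h2 : (y ^ (k' : ℕ))⁻¹ * y ^ (k : ℕ) = z' * z⁻¹ := by
    calc (y ^ (k' : ℕ))⁻¹ * y ^ (k : ℕ) = (y ^ (k' : ℕ))⁻¹ * (y ^ (k : ℕ) * z) * z⁻¹ := by group
      _ = (y ^ (k' : ℕ))⁻¹ * (y ^ (k' : ℕ) * z') * z⁻¹ := by rw [h1]
      _ = z' * z⁻¹ := by group
  obtain ⟨w, hw⟩ : ∃ w : G, w = (y ^ (k' : ℕ))⁻¹ * y ^ (k : ℕ) := ⟨_, rfl⟩
  have hzi : z⁻¹ = z := inv_eq_of_mul_eq_one_left hzz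
  have hw2 : w ^ 2 = 1 := by
    rw [hw, h2, hzi, pow_two]
    calc z' * z * (z' * z) = z' * (z * z') * z := by group
      _ = z' * (z' * z) * z := by rw [hzc.eq]
      _ = (z' * z') * (z * z) := by group
      _ = 1 := by rw [hzz, hzz', one_mul]
  have hwn : w ^ n = 1 := by
    have hc : Commute ((y ^ (k' : ℕ))⁻¹) (y ^ (k : ℕ)) :=
      ((Commute.refl y).pow_pow _ _).inv_left
    rw [hw, hc.mul_pow, inv_pow, ← pow_mul, ← pow_mul, mul_comm (k' : ℕ) n, mul_comm (k : ℕ) n,
      pow_mul, pow_mul, hyn, one_pow, one_pow, inv_one, one_mul]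
  have hw1 : w = 1 := by
    have h2' := orderOf_dvd_of_pow_eq_one hw2
    have h3 := orderOf_dvd_of_pow_eq_one hwn
    have h4 : orderOf w ∣ Nat.gcd 2 n := Nat.dvd_gcd h2' h3
    have h5 : Nat.gcd 2 n = 1 := by
      obtain ⟨j, hj⟩ := hn
      rw [hj]
      simp
    rw [h5, Nat.dvd_one] at h4
    exact orderOf_eq_one_iff.mp h4
  have hkk : y ^ (k : ℕ) = y ^ (k' : ℕ) := by
    rw [hw] at hw1
    calc y ^ (k : ℕ) = y ^ (k' : ℕ) * ((y ^ (k' : ℕ))⁻¹ * y ^ (k : ℕ)) := by group
      _ = y ^ (k' : ℕ) := by rw [hw1, mul_one]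
  have hk : k = k' := by
    have hlt : (k : ℕ) < orderOf y := by rw [hy]; exact k.2
    have hlt' : (k' : ℕ) < orderOf y := by rw [hy]; exact k'.2
    exact Fin.ext (pow_injOn_Iio_orderOf hlt hlt' hkk)
  have hzz'' : z = z' := by
    rw [hkk] at h1
    exact mul_left_cancel h1
  have he : e1 = e1' ∧ e2 = e2' := by
    rw [hz, hz'] at hzz''
    have d1d2 : d1 * d2 ≠ 1 := by
      intro h
      apply n12
      calc d1 = d1 * (d2 * d2) := by rw [s2, mul_one]
        _ = (d1 * d2) * d2 := by group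
        _ = d2 := by rw [h, one_mul]
    fin_cases e1 <;> fin_cases e2 <;> fin_cases e1' <;> fin_cases e2' <;>
      simp only [Fin.zero_eta, Fin.mk_one, Fin.isValue, Fin.val_zero, Fin.val_one, pow_zero, pow_one,
        one_mul, mul_one] at hzz'' <;>
      first
        | exact ⟨rfl, rfl⟩
        | (exfalso; first
            | exact n1 hzz''
            | exact n1 hzz''.symm
            | exact n2 hzz''
            | exact n2 hzz''.symm
            | exact n12 hzz''
            | exact n12 hzz''.symm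
            | exact d1d2 hzz''
            | exact d1d2 hzz''.symm
            | exact n1 (mul_right_cancel (b := d2) (by rw [one_mul]; exact hzz''))
            | exact n1 (mul_right_cancel (b := d2) (by rw [one_mul]; exact hzz''.symm))
            | exact n2 (mul_left_cancel (a := d1) (by rw [mul_one]; exact hzz''))
            | exact n2 (mul_left_cancel (a := d1) (by rw [mul_one]; exact hzz''.symm)))
  rw [hk, he.1, he.2]

end Inj

section Invol

variable {N : Type*} [Group N] [Finite N] {Ω : Type*} [MulAction N Ω]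

/-- an element of the centraliser of `x` fixing a fixed point `ω` of `x` fixes `o`, by counting. -/
theorem fix_of_card (x t1 t2 : N) (o ω : Ω) (hx : orderOf x = 11)
    (c1 : t1 * x = x * t1) (c2 : t2 * x = x * t2) (c12 : t1 * t2 = t2 * t1)
    (s1 : t1 * t1 = 1) (s2 : t2 * t2 = 1) (n1 : t1 ≠ 1) (n2 : t2 ≠ 1) (n12 : t1 ≠ t2)
    (hxo : x • o = o) (f1o : t1 • o = o) (f2o : t2 • o = o)
    (hxω : x • ω = ω) (f1ω : t1 • ω = ω) (f2ω : t2 • ω = ω)
    (hcard : Nat.card {c : N // c • ω = ω ∧ c * x = x * c} ≤ 44)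
    (c : N) (hcω : c • ω = ω) (hcx : c * x = x * c) : c • o = o := by
  have hpowfix : ∀ (g : N) (p : Ω), g • p = p → ∀ e : ℕ, g ^ e • p = p := by
    intro g p hg e
    induction e with
    | zero => simp
    | succ e ih => rw [pow_succ, mul_smul, hg, ih]
  have hc1 : Commute t1 x := c1
  have hc2 : Commute t2 x := c2
  have hmem : ∀ t : Fin 11 × Fin 2 × Fin 2,
      (x ^ (t.1 : ℕ) * t1 ^ (t.2.1 : ℕ) * t2 ^ (t.2.2 : ℕ)) • ω = ω ∧
      (x ^ (t.1 : ℕ) * t1 ^ (t.2.1 : ℕ) * t2 ^ (t.2.2 : ℕ)) * x =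
        x * (x ^ (t.1 : ℕ) * t1 ^ (t.2.1 : ℕ) * t2 ^ (t.2.2 : ℕ)) := by
    intro t
    constructor
    · rw [mul_smul, mul_smul, hpowfix t2 ω f2ω, hpowfix t1 ω f1ω, hpowfix x ω hxω]
    · have h3 : Commute (x ^ (t.1 : ℕ)) x := Commute.pow_left (Commute.refl x) _
      exact ((h3.mul_left (hc1.pow_left _)).mul_left (hc2.pow_left _)).eq
  let f : Fin 11 × Fin 2 × Fin 2 → {c : N // c • ω = ω ∧ c * x = x * c} :=
    fun t => ⟨x ^ (t.1 : ℕ) * t1 ^ (t.2.1 : ℕ) * t2 ^ (t.2.2 : ℕ), hmem t⟩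
  have hinj : Function.Injective f := by
    intro t t' h
    exact prod_inj x t1 t2 11 ⟨5, by norm_num⟩ hx c12 s1 s2 n1 n2 n12 (congrArg Subtype.val h)
  have hdom : Nat.card (Fin 11 × Fin 2 × Fin 2) = 44 := by
    rw [Nat.card_eq_fintype_card, Fintype.card_prod, Fintype.card_prod, Fintype.card_fin,
      Fintype.card_fin]
  have hbij : Function.Bijective f :=
    hinj.bijective_of_nat_card_le (by rw [hdom]; exact hcard)
  obtain ⟨t, ht⟩ := hbij.2 ⟨c, hcω, hcx⟩
  have hc : c = x ^ (t.1 : ℕ) * t1 ^ (t.2.1 : ℕ) * t2 ^ (t.2.2 : ℕ) :=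
    (congrArg Subtype.val ht).symm
  rw [hc, mul_smul, mul_smul, hpowfix t2 o f2o, hpowfix t1 o f1o, hpowfix x o hxo]

/-- every involution commuting with `x` fixes the point `o`. -/
theorem invol_fix (x t1 t2 : N) (o p1 p2 : Ω) (hx : orderOf x = 11)
    (h01 : o ≠ p1) (h02 : o ≠ p2) (h12 : p1 ≠ p2)
    (hfix : ∀ ω : Ω, x • ω = ω → ω = o ∨ ω = p1 ∨ ω = p2)
    (hxo : x • o = o) (hx1 : x • p1 = p1) (hx2 : x • p2 = p2)
    (c1 : t1 * x = x * t1) (c2 : t2 * x = x * t2) (c12 : t1 * t2 = t2 * t1)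
    (s1 : t1 * t1 = 1) (s2 : t2 * t2 = 1) (n1 : t1 ≠ 1) (n2 : t2 ≠ 1) (n12 : t1 ≠ t2)
    (f1o : t1 • o = o) (f1p1 : t1 • p1 = p1) (f1p2 : t1 • p2 = p2)
    (f2o : t2 • o = o) (f2p1 : t2 • p1 = p1) (f2p2 : t2 • p2 = p2)
    (hcard : ∀ ω : Ω, x • ω = ω → Nat.card {c : N // c • ω = ω ∧ c * x = x * c} ≤ 44)
    (u : N) (hu2 : u * u = 1) (hux : u * x = x * u) : u • o = o := by
  have hperm : ∀ ω : Ω, x • ω = ω → x • (u • ω) = u • ω := by
    intro ω h
    rw [← mul_smul, ← hux, mul_smul, h]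
  have huu : ∀ ω : Ω, u • u • ω = ω := by
    intro ω
    rw [← mul_smul, hu2, one_smul]
  have hinj : ∀ a b : Ω, u • a = u • b → a = b := fun a b h => smul_left_cancel u h
  rcases hfix _ (hperm o hxo) with h | h | h
  · exact h
  · -- u swaps o and p1, hence fixes p2
    exfalso
    have hp1 : u • p1 = o := by rw [← h, huu]
    have hp2 : u • p2 = p2 := by
      rcases hfix _ (hperm p2 hx2) with h' | h' | h'
      · exact absurd (hinj _ _ (h'.trans hp1.symm)) h12.symm
      · exact absurd (hinj _ _ (h'.trans h.symm)) h02.symm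
      · exact h'
    have := fix_of_card x t1 t2 o p2 hx c1 c2 c12 s1 s2 n1 n2 n12 hxo f1o f2o hx2 f1p2 f2p2
      (hcard p2 hx2) u hp2 hux
    exact h01 (this.symm.trans h)
  · exfalso
    have hp2 : u • p2 = o := by rw [← h, huu]
    have hp1 : u • p1 = p1 := by
      rcases hfix _ (hperm p1 hx1) with h' | h' | h'
      · exact absurd (hinj _ _ (h'.trans hp2.symm)) h12
      · exact h'
      · exact absurd (hinj _ _ (h'.trans h.symm)) h01.symm
    have := fix_of_card x t1 t2 o p1 hx c1 c2 c12 s1 s2 n1 n2 n12 hxo f1o f2o hx1 f1p1 f2p1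
      (hcard p1 hx1) u hp1 hux
    exact h02 (this.symm.trans h)

end Invol

section Conj

variable {N : Type*} [Group N] [Finite N] {Ω : Type*} [MulAction N Ω]

/-- automorphisms preserving a subgroup preserve its normaliser. -/
theorem normalizer_pres (P : Subgroup N) (γ : MulAut N) (hγ : ∀ g, γ g ∈ P ↔ g ∈ P) (n : N)
    (hn : n ∈ Subgroup.normalizer (P : Set N)) : γ n ∈ Subgroup.normalizer (P : Set N) := by
  rw [Subgroup.mem_normalizer_iff] at hn ⊢
  intro h
  have h1 : h = γ (γ⁻¹ h) := by simp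
  rw [h1, hγ, hn (γ⁻¹ h), ← hγ (n * γ⁻¹ h * n⁻¹), map_mul, map_mul, map_inv]

/-- every automorphism maps the point stabiliser `⟨y, x, t1, t2, t3⟩` to a conjugate. -/
theorem exists_conj_stab (p q : ℕ) [hp : Fact p.Prime] [hq : Fact q.Prime] {s s' : ℕ} (o : Ω)
    (hN : Nat.card N = p * s) (hs : ¬ p ∣ s)
    (hH : Nat.card (MulAction.stabilizer N o) = q * s') (hs' : ¬ q ∣ s')
    (y x t1 t2 t3 : N) (hy : orderOf y = p) (hx : orderOf x = q)
    (hyo : ∀ ω : Ω, y • ω = ω ↔ ω = o)
    (hxo : x • o = o)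
    (hxy : x * y * x⁻¹ ∈ Subgroup.zpowers y)
    (hinv : ∀ u : N, u * u = 1 → u * x = x * u → u • o = o)
    (ht1 : t1 * t1 = 1 ∧ t1 * x = x * t1) (ht2 : t2 * t2 = 1 ∧ t2 * x = x * t2)
    (ht3 : t3 * t3 = 1 ∧ t3 * x = x * t3)
    (hgen : MulAction.stabilizer N o ≤ Subgroup.closure {y, x, t1, t2, t3}) :
    ∀ α : MulAut N, ∃ n : N, ∀ g : N,
      (MulAut.conj n * α) g ∈ MulAction.stabilizer N o ↔ g ∈ MulAction.stabilizer N o := by
  intro α
  classical
  have hs0 : s ≠ 0 := by
    rintro rfl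
    simp at hs
  have hfac : (Nat.card N).factorization p = 1 := by
    rw [hN, Nat.factorization_mul hp.out.ne_zero hs0]
    have h55 : (Nat.factorization p) p = 1 := Nat.Prime.factorization_self hp.out
    simp [h55, Nat.factorization_eq_zero_of_not_dvd hs]
  set P : Subgroup N := Subgroup.zpowers y with hPdef
  have hyP : y ∈ P := Subgroup.mem_zpowers y
  have hPcard : Nat.card P = p := by rw [Nat.card_zpowers, hy]
  let PS : Sylow p N := Sylow.ofCard P (by rw [hPcard, hfac, pow_one])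
  let Q : Sylow p N := Sylow.ofCard (P.map α.toMonoidHom) (by
    rw [Subgroup.card_map_of_injective α.injective, hPcard, hfac, pow_one])
  obtain ⟨g, hg⟩ := MulAction.exists_smul_eq N PS Q
  refine ⟨g⁻¹, ?_⟩
  set β : MulAut N := MulAut.conj g⁻¹ * α with hβdef
  have hβy : β y ∈ P := by
    have h1 : α y ∈ (Q : Subgroup N) := Subgroup.mem_map_of_mem _ hyP
    rw [← hg, Sylow.coe_subgroup_smul, Subgroup.mem_pointwise_smul_iff_inv_smul_mem] at h1
    have h2 : (MulAut.conj g)⁻¹ • α y = g⁻¹ * α y * g := by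
      rw [← map_inv, MulAut.smul_def, MulAut.conj_apply, inv_inv]
    rw [h2] at h1
    rw [hβdef, MulAut.mul_apply, MulAut.conj_apply, inv_inv]
    exact h1
  have hβP : ∀ x, β x ∈ P ↔ x ∈ P := preserves_zpowers β y hβy
  have hβP' : ∀ x, β⁻¹ x ∈ P ↔ x ∈ P := by
    intro x
    rw [← hβP (β⁻¹ x)]
    simp
  set H : Subgroup N := MulAction.stabilizer N o with hHdef
  set NP : Subgroup N := Subgroup.normalizer (P : Set N) with hNPdef
  have hyo' : y • o = o := (hyo o).2 rfl
  -- the normaliser fixes the point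
  have hNPH : NP ≤ H := by
    intro n hn
    rw [hHdef, MulAction.mem_stabilizer_iff]
    have h1 : n * y * n⁻¹ ∈ P := (Subgroup.mem_normalizer_iff.mp hn y).mp hyP
    have hord : orderOf (n * y * n⁻¹) = p := by
      have : n * y * n⁻¹ = MulAut.conj n y := rfl
      rw [this, MulEquiv.orderOf_eq, hy]
    have hle : Subgroup.zpowers (n * y * n⁻¹) ≤ P := by
      rw [Subgroup.zpowers_le]; exact h1
    have heq : Subgroup.zpowers (n * y * n⁻¹) = P := by
      apply Subgroup.eq_of_le_of_card_ge hle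
      rw [hPcard, Nat.card_zpowers, hord]
    have hy' : y ∈ Subgroup.zpowers (n * y * n⁻¹) := by rw [heq]; exact hyP
    obtain ⟨k, hk⟩ := Subgroup.mem_zpowers_iff.mp hy'
    have hfix : (n * y * n⁻¹) • (n • o) = n • o := by
      rw [← mul_smul, inv_mul_cancel_right, mul_smul, hyo']
    have hfixk : (n * y * n⁻¹) ^ k • (n • o) = n • o := by
      have hmem : n * y * n⁻¹ ∈ MulAction.stabilizer N (n • o) := MulAction.mem_stabilizer_iff.mpr hfix
      exact MulAction.mem_stabilizer_iff.mp (Subgroup.zpow_mem _ hmem k)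
    rw [hk] at hfixk
    exact (hyo _).1 hfixk
  have hxH : x ∈ H := MulAction.mem_stabilizer_iff.mpr hxo
  -- the canonical set of involutions
  let W : Set N := {u | u * u = 1 ∧ ∃ n ∈ NP, orderOf n = q ∧ u * n = n * u}
  have hqfac : (Nat.card H).factorization q = 1 := by
    have hs0' : s' ≠ 0 := by
      rintro rfl
      simp at hs'
    rw [hH, Nat.factorization_mul hq.out.ne_zero hs0']
    have h55 : (Nat.factorization q) q = 1 := Nat.Prime.factorization_self hq.out
    simp [h55, Nat.factorization_eq_zero_of_not_dvd hs']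
  have hWH : W ⊆ (H : Set N) := by
    rintro u ⟨hu2, n, hnNP, hnq, hun⟩
    have hnH : n ∈ H := hNPH hnNP
    -- Sylow subgroups of `H`
    let n' : H := ⟨n, hnH⟩
    let x' : H := ⟨x, hxH⟩
    have hn'q : orderOf n' = q := by rw [← Subgroup.orderOf_coe]; exact hnq
    have hx'q : orderOf x' = q := by rw [← Subgroup.orderOf_coe]; exact hx
    let S1 : Sylow q H := Sylow.ofCard (Subgroup.zpowers n') (by
      rw [Nat.card_zpowers, hn'q, hqfac, pow_one])
    let S2 : Sylow q H := Sylow.ofCard (Subgroup.zpowers x') (by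
      rw [Nat.card_zpowers, hx'q, hqfac, pow_one])
    obtain ⟨h, hh⟩ := MulAction.exists_smul_eq H S1 S2
    have h1 : x' ∈ (S2 : Subgroup H) := Subgroup.mem_zpowers x'
    rw [← hh, Sylow.coe_subgroup_smul, Subgroup.mem_pointwise_smul_iff_inv_smul_mem] at h1
    have h2 : (MulAut.conj h)⁻¹ • x' = h⁻¹ * x' * h := by
      rw [← map_inv, MulAut.smul_def, MulAut.conj_apply, inv_inv]
    rw [h2] at h1
    obtain ⟨k, hk⟩ := Subgroup.mem_zpowers_iff.mp h1
    have hk' : n ^ k = (h : N)⁻¹ * x * (h : N) := by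
      have := congrArg Subtype.val hk
      simpa using this
    -- `u` commutes with `h⁻¹ x h`
    have hc : Commute u (n ^ k) := (show Commute u n from hun).zpow_right k
    rw [hk'] at hc
    have hc' : ((h : N) * u * (h : N)⁻¹) * x = x * ((h : N) * u * (h : N)⁻¹) := by
      have e := hc.eq
      calc (h : N) * u * (h : N)⁻¹ * x = (h : N) * (u * ((h : N)⁻¹ * x * (h : N))) * (h : N)⁻¹ := by group
        _ = (h : N) * (((h : N)⁻¹ * x * (h : N)) * u) * (h : N)⁻¹ := by rw [e]
        _ = x * ((h : N) * u * (h : N)⁻¹) := by group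
    have hsq : ((h : N) * u * (h : N)⁻¹) * ((h : N) * u * (h : N)⁻¹) = 1 := by
      calc (h : N) * u * (h : N)⁻¹ * ((h : N) * u * (h : N)⁻¹) = (h : N) * (u * u) * (h : N)⁻¹ := by group
        _ = 1 := by rw [hu2]; group
    have h3 := hinv _ hsq hc'
    have hho : (h : N) • o = o := MulAction.mem_stabilizer_iff.mp h.2
    show u ∈ H
    rw [hHdef, MulAction.mem_stabilizer_iff]
    have h4 : (h : N) • u • o = o := by
      have : ((h : N) * u * (h : N)⁻¹) • (h : N) • o = o := by rw [hho]; exact h3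
      rwa [← mul_smul, inv_mul_cancel_right, mul_smul] at this
    have h5 : (h : N)⁻¹ • (h : N) • u • o = (h : N)⁻¹ • o := by rw [h4]
    rw [inv_smul_smul] at h5
    rw [h5]
    exact inv_smul_eq_iff.mpr hho.symm
  -- the subgroup generated by the canonical data
  set M : Subgroup N := Subgroup.closure ((NP : Set N) ∪ W) with hMdef
  have hMH : M ≤ H := by
    rw [hMdef, Subgroup.closure_le]
    rintro g (hg | hg)
    · exact hNPH hg
    · exact hWH hg
  have hxNP : x ∈ NP := by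
    rw [hNPdef, Subgroup.mem_normalizer_iff]
    intro h
    have := preserves_zpowers (MulAut.conj x) y (by rw [MulAut.conj_apply]; exact hxy) h
    rw [MulAut.conj_apply] at this
    exact this.symm
  have hHM : H ≤ M := by
    refine le_trans hgen ?_
    rw [Subgroup.closure_le]
    have hW : ∀ t : N, t * t = 1 ∧ t * x = x * t → t ∈ M := by
      intro t ht
      apply Subgroup.subset_closure
      right
      exact ⟨ht.1, x, hxNP, hx, ht.2⟩
    intro z hz
    simp only [Set.mem_insert_iff, Set.mem_singleton_iff] at hz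
    rcases hz with rfl | rfl | rfl | rfl | rfl
    · exact Subgroup.subset_closure (Or.inl (Subgroup.le_normalizer hyP))
    · exact Subgroup.subset_closure (Or.inl hxNP)
    · exact hW _ ht1
    · exact hW _ ht2
    · exact hW _ ht3
  have hMeq : M = H := le_antisymm hMH hHM
  -- automorphisms preserving `P` preserve `M`
  have pres : ∀ γ : MulAut N, (∀ g, γ g ∈ P ↔ g ∈ P) → ∀ g ∈ M, γ g ∈ M := by
    intro γ hγ
    have hle : M ≤ M.comap γ.toMonoidHom := by
      rw [hMdef, Subgroup.closure_le]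
      rintro z (hz | hz)
      · exact Subgroup.subset_closure (Or.inl (normalizer_pres P γ hγ z hz))
      · obtain ⟨hz2, n, hnNP, hnq, hzn⟩ := hz
        apply Subgroup.subset_closure
        right
        refine ⟨?_, γ n, normalizer_pres P γ hγ n hnNP, ?_, ?_⟩
        · show γ z * γ z = 1
          rw [← map_mul, hz2, map_one]
        · rw [MulEquiv.orderOf_eq, hnq]
        · show γ z * γ n = γ n * γ z
          rw [← map_mul, ← map_mul, hzn]
    intro g hg
    exact hle hg
  intro z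
  rw [← hMeq]
  constructor
  · intro h
    have := pres β⁻¹ hβP' _ h
    simpa using this
  · exact pres β hβP z

end Conj

section Cent

variable {N : Type*} [Group N] {Ω : Type*} [MulAction N Ω]

/-- an automorphism fixing the point stabiliser pointwise is trivial or `θ`. -/
theorem aut_fixing_stab (o : Ω) (htrans : ∀ ω : Ω, ∃ g : N, g • o = ω)
    (hfaith : ∀ g : N, (∀ ω : Ω, g • ω = ω) → g = 1)
    (l : Ω → Ω) (hl : Function.Surjective l) (θ : MulAut N)
    (hθ : ∀ (g : N) (ω : Ω), θ g • l ω = l (g • ω))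
    (hζ : ∀ ζ : Ω → Ω, ζ o = o → Function.Injective ζ →
      (∀ h ∈ MulAction.stabilizer N o, ∀ ω, ζ (h • ω) = h • ζ ω) →
      (∀ ω, ζ ω = ω) ∨ (∀ ω, ζ ω = l ω))
    (β : MulAut N) (hβ : ∀ h ∈ MulAction.stabilizer N o, β h = h) : β = 1 ∨ β = θ := by
  classical
  choose r hr using htrans
  let ζ : Ω → Ω := fun ω => β (r ω) • o
  have hβ' : ∀ h ∈ MulAction.stabilizer N o, β⁻¹ h = h := by
    intro h hh
    have := hβ h hh
    nth_rewrite 1 [← this]
    simp
  have key : ∀ g : N, ζ (g • o) = β g • o := by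
    intro g
    have h1 : (r (g • o))⁻¹ * g ∈ MulAction.stabilizer N o := by
      rw [MulAction.mem_stabilizer_iff, mul_smul]
      exact inv_smul_eq_iff.mpr (hr _).symm
    have h2 := hβ _ h1
    have h3 : β g = β (r (g • o)) * ((r (g • o))⁻¹ * g) := by
      rw [← h2, ← map_mul, mul_inv_cancel_left]
    show β (r (g • o)) • o = β g • o
    rw [h3, mul_smul, MulAction.mem_stabilizer_iff.mp h1]
  have equiv : ∀ (g : N) (ω : Ω), ζ (g • ω) = β g • ζ ω := by
    intro g ω
    obtain ⟨g', rfl⟩ : ∃ g', g' • o = ω := ⟨r ω, hr ω⟩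
    rw [← mul_smul, key, key, map_mul, mul_smul]
  have hζo : ζ o = o := by
    have := key 1
    rwa [one_smul, map_one, one_smul] at this
  have hinj : Function.Injective ζ := by
    intro a b hab
    obtain ⟨ga, rfl⟩ : ∃ g', g' • o = a := ⟨r a, hr a⟩
    obtain ⟨gb, rfl⟩ : ∃ g', g' • o = b := ⟨r b, hr b⟩
    rw [key, key] at hab
    have h1 : β (gb⁻¹ * ga) ∈ MulAction.stabilizer N o := by
      rw [MulAction.mem_stabilizer_iff, map_mul, map_inv, mul_smul, hab, inv_smul_smul]
    have h2 := hβ' _ h1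
    have h3 : gb⁻¹ * ga ∈ MulAction.stabilizer N o := by
      have : β⁻¹ (β (gb⁻¹ * ga)) = gb⁻¹ * ga := by simp
      rw [← this, h2]
      exact h1
    rw [MulAction.mem_stabilizer_iff, mul_smul] at h3
    have := congrArg (fun z => gb • z) h3
    simpa using this
  have hcomm : ∀ h ∈ MulAction.stabilizer N o, ∀ ω, ζ (h • ω) = h • ζ ω := by
    intro h hh ω
    rw [equiv, hβ h hh]
  rcases hζ ζ hζo hinj hcomm with h | h
  · left
    ext g
    show β g = g
    have h1 : (g⁻¹ * β g) = 1 := by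
      apply hfaith
      intro ω
      have := equiv g ω
      rw [h, h] at this
      rw [mul_smul, ← this, inv_smul_smul]
    calc β g = g * (g⁻¹ * β g) := by group
      _ = g := by rw [h1, mul_one]
  · right
    ext g
    have h1 : ((θ g)⁻¹ * β g) = 1 := by
      apply hfaith
      intro ω
      obtain ⟨ω', rfl⟩ := hl ω
      have := equiv g ω'
      rw [h, h, ← hθ] at this
      rw [mul_smul, ← this, inv_smul_smul]
    calc β g = θ g * ((θ g)⁻¹ * β g) := by group
      _ = θ g := by rw [h1, mul_one]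

end Cent

section Assembly

variable {N : Type*} [Group N]

/-- the assembly: `Out N` has order 2. -/
theorem card_out_eq_two (H : Subgroup N) (θ : MulAut N)
    (hconj : ∀ α : MulAut N, ∃ n : N, ∀ g : N, (MulAut.conj n * α) g ∈ H ↔ g ∈ H)
    (hinn : ∀ γ : MulAut H, ∃ h0 : H, ∀ h : H, γ h = h0 * h * h0⁻¹)
    (hcent : ∀ β : MulAut N, (∀ h ∈ H, β h = h) → β = 1 ∨ β = θ)
    (hθ : ∀ g : N, θ ≠ MulAut.conj g) :
    Nat.card (Out N) = 2 := by
  have key : ∀ α : MulAut N, (QuotientGroup.mk α : Out N) = 1 ∨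
      (QuotientGroup.mk α : Out N) = QuotientGroup.mk θ := by
    intro α
    obtain ⟨n, hn⟩ := hconj α
    set α1 : MulAut N := MulAut.conj n * α with hα1
    obtain ⟨h0, hh0⟩ := hinn (restr H α1 hn)
    set β : MulAut N := (MulAut.conj (h0 : N))⁻¹ * α1 with hβ
    have hβH : ∀ h ∈ H, β h = h := by
      intro h hh
      have h1 := congrArg Subtype.val (hh0 ⟨h, hh⟩)
      rw [restr_apply] at h1
      have h2 : α1 h = (h0 : N) * h * (h0 : N)⁻¹ := by simpa using h1
      rw [hβ, MulAut.mul_apply, h2, ← map_inv, MulAut.conj_apply, inv_inv]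
      group
    have hα : α = (MulAut.conj n)⁻¹ * (MulAut.conj (h0 : N) * β) := by
      rw [hβ, hα1]; group
    have hmk : (QuotientGroup.mk α : Out N) = QuotientGroup.mk β := by
      rw [hα, QuotientGroup.mk_mul, QuotientGroup.mk_mul, QuotientGroup.mk_inv, mk_conj, mk_conj,
        inv_one, one_mul, one_mul]
    rcases hcent β hβH with h | h
    · left; rw [hmk, h]; rfl
    · right; rw [hmk, h]
  have hne : (QuotientGroup.mk θ : Out N) ≠ 1 := by
    intro h
    rw [QuotientGroup.eq_one_iff] at h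
    obtain ⟨g, hg⟩ := h
    exact hθ g hg.symm
  rw [Nat.card_eq_two_iff]
  refine ⟨1, QuotientGroup.mk θ, hne.symm, ?_⟩
  ext z
  simp only [Set.mem_insert_iff, Set.mem_singleton_iff, Set.mem_univ, iff_true]
  obtain ⟨α, rfl⟩ := QuotientGroup.mk_surjective z
  exact key α

end Assembly

end Cfsg.Agent.Lib.helper19_AutStab
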