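import Mathlib
import Cfsg.Prelude.Def_KGroupFacts

/-!
# Transfer lemmas for centralisers and inner automorphisms (helper19)
-/

set_option autoImplicit false
set_option linter.unusedVariables false
set_option linter.unusedSectionVars false
open Cfsg

namespace Cfsg.Agent.Lib.helper19_AutStab2

section Basic

variable {A : Type*} [Group A]

/-- if `Out A` is trivial then every automorphism is inner. -/
theorem inner_of_card_out (h : Nat.card (Out A) = 1) (γ : MulAut A) :
    ∃ g : A, ∀ a : A, γ a = g * a * g⁻¹ := by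
  have h1 : (Inn A).index = 1 := h
  rw [Subgroup.index_eq_one] at h1
  have h2 : γ ∈ Inn A := by rw [h1]; exact Subgroup.mem_top _
  obtain ⟨g, hg⟩ := h2
  exact ⟨g, fun a => by rw [← hg]; rfl⟩

/-- the centraliser of an element is the centraliser of the cyclic group it generates. -/
theorem centralizer_zpowers (a : A) :
    Subgroup.centralizer ((Subgroup.zpowers a : Subgroup A) : Set A) = Subgroup.centralizer {a} := by
  ext g
  rw [Subgroup.mem_centralizer_iff, Subgroup.mem_centralizer_iff]
  constructor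
  · intro h x hx
    rw [Set.mem_singleton_iff] at hx
    rw [hx]
    exact h a (Subgroup.mem_zpowers a)
  · intro h x hx
    obtain ⟨k, rfl⟩ := Subgroup.mem_zpowers_iff.mp hx
    have h1 : a * g = g * a := h a rfl
    exact (Commute.zpow_left h1 k).eq

/-- conjugate elements have centralisers of the same order. -/
theorem card_centralizer_conj (g a : A) :
    Nat.card (Subgroup.centralizer ({g * a * g⁻¹} : Set A)) = Nat.card (Subgroup.centralizer ({a} : Set A)) := by
  apply Nat.card_congr
  refine ⟨fun c => ⟨g⁻¹ * c * g, ?_⟩, fun c => ⟨g * c * g⁻¹, ?_⟩, ?_, ?_⟩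
  · have hc := c.2
    rw [Subgroup.mem_centralizer_iff] at hc ⊢
    intro x hx
    rw [Set.mem_singleton_iff] at hx
    subst hx
    have h1 := hc (g * x * g⁻¹) rfl
    calc x * (g⁻¹ * c * g) = g⁻¹ * ((g * x * g⁻¹) * c) * g := by group
      _ = g⁻¹ * (c * (g * x * g⁻¹)) * g := by rw [h1]
      _ = g⁻¹ * c * g * x := by group
  · have hc := c.2
    rw [Subgroup.mem_centralizer_iff] at hc ⊢
    intro x hx
    rw [Set.mem_singleton_iff] at hx
    subst hx
    have h1 := hc a rfl
    calc g * a * g⁻¹ * (g * c * g⁻¹) = g * (a * c) * g⁻¹ := by group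
      _ = g * (c * a) * g⁻¹ := by rw [h1]
      _ = g * c * g⁻¹ * (g * a * g⁻¹) := by group
  · intro c
    apply Subtype.ext
    show g * (g⁻¹ * c * g) * g⁻¹ = c
    group
  · intro c
    apply Subtype.ext
    show g⁻¹ * (g * c * g⁻¹) * g = c
    group

end Basic

section Sylow

variable {A : Type*} [Group A] [Finite A]

/-- all elements of order `q` have centralisers of the same order, if `q` divides the group order once. -/
theorem card_centralizer_sylow (q : ℕ) [hq : Fact q.Prime] {s c : ℕ} (hcard : Nat.card A = q * s)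
    (hs : ¬ q ∣ s) (a0 : A) (h0 : orderOf a0 = q)
    (hc : Nat.card (Subgroup.centralizer ({a0} : Set A)) = c) (a : A) (ha : orderOf a = q) :
    Nat.card (Subgroup.centralizer ({a} : Set A)) = c := by
  classical
  have hs0 : s ≠ 0 := by
    rintro rfl
    simp at hs
  have hfac : (Nat.card A).factorization q = 1 := by
    rw [hcard, Nat.factorization_mul hq.out.ne_zero hs0]
    have h55 : (Nat.factorization q) q = 1 := Nat.Prime.factorization_self hq.out
    simp [h55, Nat.factorization_eq_zero_of_not_dvd hs]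
  let S1 : Sylow q A := Sylow.ofCard (Subgroup.zpowers a0) (by
    rw [Nat.card_zpowers, h0, hfac, pow_one])
  let S2 : Sylow q A := Sylow.ofCard (Subgroup.zpowers a) (by
    rw [Nat.card_zpowers, ha, hfac, pow_one])
  obtain ⟨g, hg⟩ := MulAction.exists_smul_eq A S1 S2
  have h1 : a ∈ (S2 : Subgroup A) := Subgroup.mem_zpowers a
  rw [← hg, Sylow.coe_subgroup_smul, Subgroup.mem_pointwise_smul_iff_inv_smul_mem] at h1
  have h2 : (MulAut.conj g)⁻¹ • a = g⁻¹ * a * g := by
    rw [← map_inv, MulAut.smul_def, MulAut.conj_apply, inv_inv]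
  rw [h2] at h1
  -- `g⁻¹ a g` generates the same cyclic group as `a0`
  have hord : orderOf (g⁻¹ * a * g) = q := by
    have : g⁻¹ * a * g = MulAut.conj g⁻¹ a := by rw [MulAut.conj_apply, inv_inv]
    rw [this, MulEquiv.orderOf_eq, ha]
  have hle : Subgroup.zpowers (g⁻¹ * a * g) ≤ Subgroup.zpowers a0 := by
    rw [Subgroup.zpowers_le]; exact h1
  have heq : Subgroup.zpowers (g⁻¹ * a * g) = Subgroup.zpowers a0 := by
    apply Subgroup.eq_of_le_of_card_ge hle
    rw [Nat.card_zpowers, Nat.card_zpowers, hord, h0]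
  have h3 : Subgroup.centralizer ({g⁻¹ * a * g} : Set A) = Subgroup.centralizer {a0} := by
    rw [← centralizer_zpowers, ← centralizer_zpowers a0, heq]
  have h4 : a = g * (g⁻¹ * a * g) * g⁻¹ := by group
  rw [h4, card_centralizer_conj, h3, hc]

end Sylow

section Equiv

variable {A B : Type*} [Group A] [Group B]

/-- inner automorphisms transfer along an isomorphism. -/
theorem inner_of_equiv (e : A ≃* B) (hA : ∀ γ : MulAut A, ∃ g : A, ∀ a : A, γ a = g * a * g⁻¹)
    (γ : MulAut B) : ∃ g : B, ∀ b : B, γ b = g * b * g⁻¹ := by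
  obtain ⟨g, hg⟩ := hA ((e.trans γ).trans e.symm)
  refine ⟨e g, fun b => ?_⟩
  have h := hg (e.symm b)
  have h1 : e.symm (γ (e (e.symm b))) = g * e.symm b * g⁻¹ := h
  rw [MulEquiv.apply_symm_apply] at h1
  have h2 := congrArg e h1
  rw [MulEquiv.apply_symm_apply, map_mul, map_mul, map_inv, MulEquiv.apply_symm_apply] at h2
  exact h2

/-- centraliser orders transfer along an isomorphism. -/
theorem card_centralizer_equiv (e : A ≃* B) (a : A) :
    Nat.card (Subgroup.centralizer ({e a} : Set B)) = Nat.card (Subgroup.centralizer ({a} : Set A)) := by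
  apply Nat.card_congr
  refine ⟨fun c => ⟨e.symm c, ?_⟩, fun c => ⟨e c, ?_⟩, ?_, ?_⟩
  · have hc := c.2
    rw [Subgroup.mem_centralizer_iff] at hc ⊢
    intro x hx
    rw [Set.mem_singleton_iff] at hx
    subst hx
    have h1 := hc (e x) rfl
    apply e.injective
    rw [map_mul, map_mul, MulEquiv.apply_symm_apply]
    exact h1
  · have hc := c.2
    rw [Subgroup.mem_centralizer_iff] at hc ⊢
    intro x hx
    rw [Set.mem_singleton_iff] at hx
    subst hx
    have h1 := hc a rfl
    rw [← map_mul, ← map_mul, h1]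
  · intro c
    apply Subtype.ext
    show e (e.symm c) = c
    simp
  · intro c
    apply Subtype.ext
    show e.symm (e c) = c
    simp

theorem card_centralizer_of_equiv (e : A ≃* B) (n c : ℕ)
    (hA : ∀ a : A, orderOf a = n → Nat.card (Subgroup.centralizer ({a} : Set A)) = c)
    (b : B) (hb : orderOf b = n) : Nat.card (Subgroup.centralizer ({b} : Set B)) = c := by
  have h1 : b = e (e.symm b) := by simp
  rw [h1, card_centralizer_equiv]
  apply hA
  rw [MulEquiv.orderOf_eq, hb]

end Equiv

section Stab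

variable {N : Type*} [Group N] {Ω : Type*} [MulAction N Ω]

/-- the centraliser of an element of order `q` in any point stabiliser has the order found in the
stabiliser of `o`. -/
theorem card_stab_centralizer (o : Ω) (htrans : ∀ ω : Ω, ∃ g : N, g • o = ω) (q c : ℕ)
    (hH : ∀ b : MulAction.stabilizer N o, orderOf b = q →
      Nat.card (Subgroup.centralizer ({b} : Set (MulAction.stabilizer N o))) = c)
    (ω : Ω) (x : N) (hx : orderOf x = q) (hxω : x • ω = ω) :
    Nat.card {d : N // d • ω = ω ∧ d * x = x * d} = c := by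
  obtain ⟨g, hg⟩ := htrans ω
  have hmem : ∀ d : N, d • ω = ω → g⁻¹ * d * g ∈ MulAction.stabilizer N o := by
    intro d hd
    rw [MulAction.mem_stabilizer_iff, mul_smul, mul_smul, hg, hd]
    exact inv_smul_eq_iff.mpr hg.symm
  let b : MulAction.stabilizer N o := ⟨g⁻¹ * x * g, hmem x hxω⟩
  have hb : orderOf b = q := by
    rw [← Subgroup.orderOf_coe]
    have : ((b : MulAction.stabilizer N o) : N) = MulAut.conj g⁻¹ x := by
      show g⁻¹ * x * g = _
      rw [MulAut.conj_apply, inv_inv]
    rw [this, MulEquiv.orderOf_eq, hx]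
  rw [← hH b hb]
  apply Nat.card_congr
  refine ⟨fun d => ⟨⟨g⁻¹ * d * g, hmem d d.2.1⟩, ?_⟩, fun d => ⟨g * (d : MulAction.stabilizer N o) * g⁻¹, ?_, ?_⟩, ?_, ?_⟩
  · rw [Subgroup.mem_centralizer_iff]
    intro z hz
    rw [Set.mem_singleton_iff] at hz
    subst hz
    apply Subtype.ext
    show g⁻¹ * x * g * (g⁻¹ * d * g) = g⁻¹ * d * g * (g⁻¹ * x * g)
    have h1 := d.2.2
    calc g⁻¹ * x * g * (g⁻¹ * d * g) = g⁻¹ * (x * d) * g := by group
      _ = g⁻¹ * (d * x) * g := by rw [h1]
      _ = g⁻¹ * d * g * (g⁻¹ * x * g) := by group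
  · have h1 : ((d : MulAction.stabilizer N o) : N) • o = o := MulAction.mem_stabilizer_iff.mp (d : MulAction.stabilizer N o).2
    rw [mul_smul, mul_smul, ← hg, inv_smul_smul, h1]
  · have hd := d.2
    rw [Subgroup.mem_centralizer_iff] at hd
    have h1 := congrArg Subtype.val (hd b rfl)
    have h2 : g⁻¹ * x * g * ((d : MulAction.stabilizer N o) : N) = ((d : MulAction.stabilizer N o) : N) * (g⁻¹ * x * g) := h1
    calc g * ((d : MulAction.stabilizer N o) : N) * g⁻¹ * x = g * (((d : MulAction.stabilizer N o) : N) * (g⁻¹ * x * g)) * g⁻¹ := by group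
      _ = g * ((g⁻¹ * x * g) * ((d : MulAction.stabilizer N o) : N)) * g⁻¹ := by rw [h2]
      _ = x * (g * ((d : MulAction.stabilizer N o) : N) * g⁻¹) := by group
  · intro d
    apply Subtype.ext
    show g * (g⁻¹ * (d : N) * g) * g⁻¹ = d
    group
  · intro d
    apply Subtype.ext
    apply Subtype.ext
    show g⁻¹ * (g * ((d : MulAction.stabilizer N o) : N) * g⁻¹) * g = ((d : MulAction.stabilizer N o) : N)
    group

end Stab

end Cfsg.Agent.Lib.helper19_AutStab2
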