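import Mathlib
import Cfsg.Agent.Lib.helper19_Benes
import Cfsg.Agent.Lib.Helper28_BenesOrb

/-!
# Fixed points and orbits of words on Beneš-network permutation models (helper19)

* `movedW`: the bit vector of the points moved by a word, from the images of the coordinate planes;
  `checkFixIn`: the common fixed points of a list of words lie in a given set.
* `ConnW`, `sweepsWL`, `checkCoverW`: the points that words of a given list move to a root.
-/

set_option autoImplicit false

namespace Cfsg.Agent.Lib.helper19_BenesFix

open Cfsg.Agent.Lib.helper19_TC2 Cfsg.Agent.Lib.helper19_TC2L Cfsg.Agent.Lib.helper19_Benes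
  Cfsg.Agent.Lib.Helper28_BenesOrb

/-- the points moved by the word, seen on the planes `j, j+1, …` (`c` of them). -/
noncomputable def movedW (nets : List Net) (n : ℕ) (word : List ℕ) (c : ℕ) : ℕ → ℕ :=
  Nat.rec (motive := fun _ => ℕ → ℕ) (fun _ => nat_lit 0)
    (fun _ ih j => force (plane j n) fun P =>
      force (Nat.xor (applyW nets word P) P) fun D =>
        force (ih (Nat.add j (nat_lit 1))) fun E => Nat.lor D E) c

theorem movedW_zero (nets : List Net) (n : ℕ) (word : List ℕ) (j : ℕ) :
    movedW nets n word 0 j = 0 := rfl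

theorem movedW_succ (nets : List Net) (n : ℕ) (word : List ℕ) (c j : ℕ) :
    movedW nets n word (c + 1) j =
      (applyW nets word (plane j n) ^^^ plane j n) ||| movedW nets n word c (j + 1) := rfl

theorem testBit_movedW {nets : List Net} (hok : ∀ s, (nthN nets s).Ok) (n : ℕ) (word : List ℕ)
    (x : ℕ) (hx : tr (act nets) word x = x) :
    ∀ c j : ℕ, (movedW nets n word c j).testBit x = false
  | 0, j => by rw [movedW_zero, Nat.zero_testBit]
  | c + 1, j => by
    rw [movedW_succ, Nat.testBit_or, Nat.testBit_xor, testBit_applyW hok, hx,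
      testBit_movedW hok n word x hx c (j + 1)]
    simp

/-- the points moved by one of the words. -/
noncomputable def movedL (nets : List Net) (n : ℕ) (words : List (List ℕ)) : ℕ :=
  List.rec (motive := fun _ => ℕ) (nat_lit 0)
    (fun w _ ih => force (movedW nets n w n (nat_lit 0)) fun D => force ih fun E => Nat.lor D E) words

theorem movedL_nil (nets : List Net) (n : ℕ) : movedL nets n [] = 0 := rfl

theorem movedL_cons (nets : List Net) (n : ℕ) (w : List ℕ) (words : List (List ℕ)) :
    movedL nets n (w :: words) = movedW nets n w n 0 ||| movedL nets n words := rfl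

theorem testBit_movedL {nets : List Net} (hok : ∀ s, (nthN nets s).Ok) (n : ℕ) (x : ℕ) :
    ∀ words : List (List ℕ), (∀ w ∈ words, tr (act nets) w x = x) →
      (movedL nets n words).testBit x = false
  | [], _ => by rw [movedL_nil, Nat.zero_testBit]
  | w :: words, h => by
    rw [movedL_cons, Nat.testBit_or, testBit_movedW hok n w x (h w (by simp)),
      testBit_movedL hok n x words (fun w' hw' => h w' (by simp [hw']))]
    rfl

/-- every point below `N` is moved by one of the words or belongs to `allowed`. -/
noncomputable def checkFixIn (nets : List Net) (n N : ℕ) (words : List (List ℕ)) (allowed : ℕ) :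
    Bool :=
  force (Nat.sub (Nat.pow (nat_lit 2) N) (nat_lit 1)) fun F =>
    force (movedL nets n words) fun D =>
      Nat.beq (Nat.land (Nat.lor D allowed) F) F

theorem fixIn_sound {nets : List Net} (hok : ∀ s, (nthN nets s).Ok) {n N : ℕ}
    {words : List (List ℕ)} {allowed : ℕ} (h : checkFixIn nets n N words allowed = true) :
    ∀ x < N, (∀ w ∈ words, tr (act nets) w x = x) → allowed.testBit x = true := by
  change Nat.beq (Nat.land (Nat.lor (movedL nets n words) allowed) (2 ^ N - 1)) (2 ^ N - 1) = true
    at h
  have h' := Nat.eq_of_beq_eq_true h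
  intro x hx hfix
  have := congrArg (fun z => Nat.testBit z x) h'
  simp only [Nat.testBit_two_pow_sub_one] at this
  have h2 : (Nat.land (Nat.lor (movedL nets n words) allowed) (2 ^ N - 1)).testBit x = true := by
    rw [this]; simpa using hx
  change (((movedL nets n words) ||| allowed) &&& (2 ^ N - 1)).testBit x = true at h2
  rw [Nat.testBit_and, Nat.testBit_or, testBit_movedL hok n x words hfix, Bool.and_eq_true,
    Bool.false_or] at h2
  exact h2.1

/-! ### orbits under words -/

/-- the points that a product of the words of `gs` moves to `r`. -/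
inductive ConnW (a : ℕ → ℕ → ℕ) (gs : List (List ℕ)) (r : ℕ) : ℕ → Prop
  | base : ConnW a gs r r
  | step (w : List ℕ) (hw : w ∈ gs) (y : ℕ) : ConnW a gs r (tr a w y) → ConnW a gs r y

/-- one sweep with the words of the list. -/
noncomputable def sweepWL (nets : List Net) (gs : List (List ℕ)) : ℕ → ℕ :=
  List.rec (motive := fun _ => ℕ → ℕ) (fun R => R)
    (fun w _ ih R => force (Nat.lor R (applyW nets w R)) fun R' => ih R') gs

theorem sweepWL_nil (nets : List Net) (R : ℕ) : sweepWL nets [] R = R := rfl
theorem sweepWL_cons (nets : List Net) (w : List ℕ) (gs : List (List ℕ)) (R : ℕ) :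
    sweepWL nets (w :: gs) R = sweepWL nets gs (R ||| applyW nets w R) := rfl

/-- `n` sweeps. -/
noncomputable def sweepsWL (nets : List Net) (gs : List (List ℕ)) (n : ℕ) : ℕ → ℕ :=
  Nat.rec (motive := fun _ => ℕ → ℕ) (fun R => R)
    (fun _ ih R => force (sweepWL nets gs R) fun R' => ih R') n

theorem sweepsWL_zero (nets : List Net) (gs : List (List ℕ)) (R : ℕ) : sweepsWL nets gs 0 R = R :=
  rfl
theorem sweepsWL_succ (nets : List Net) (gs : List (List ℕ)) (n R : ℕ) :
    sweepsWL nets gs (n + 1) R = sweepsWL nets gs n (sweepWL nets gs R) := rfl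

section sound
variable {nets : List Net} {gs : List (List ℕ)} {r : ℕ}

theorem sweepWL_sound (hok : ∀ s, (nthN nets s).Ok) :
    ∀ (gs' : List (List ℕ)), (∀ w ∈ gs', w ∈ gs) → ∀ R : ℕ,
    (∀ x, R.testBit x = true → ConnW (act nets) gs r x) →
    ∀ x, (sweepWL nets gs' R).testBit x = true → ConnW (act nets) gs r x
  | [], _, _, hR, x, hb => hR x hb
  | w :: gs', hsub, R, hR, x, hb => by
    rw [sweepWL_cons] at hb
    refine sweepWL_sound hok gs' (fun t ht => hsub t (by simp [ht])) _ ?_ x hb
    intro y hby
    rw [Nat.testBit_or, testBit_applyW hok, Bool.or_eq_true] at hby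
    rcases hby with hby | hby
    · exact hR y hby
    · exact ConnW.step w (hsub w (by simp)) y (hR _ hby)

theorem sweepsWL_sound (hok : ∀ s, (nthN nets s).Ok) :
    ∀ (n R : ℕ), (∀ x, R.testBit x = true → ConnW (act nets) gs r x) →
    ∀ x, (sweepsWL nets gs n R).testBit x = true → ConnW (act nets) gs r x
  | 0, _, hR, x, hb => hR x hb
  | n + 1, R, hR, x, hb => by
    rw [sweepsWL_succ] at hb
    exact sweepsWL_sound hok n _ (sweepWL_sound hok gs (fun _ h => h) R hR) x hb

end sound

/-- every point below `N` is moved to `r` by the words, or belongs to `extra`. -/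
noncomputable def checkCoverW (nets : List Net) (gs : List (List ℕ)) (N n r extra : ℕ) : Bool :=
  force (sweepsWL nets gs n (Nat.shiftLeft (nat_lit 1) r)) fun c =>
    force (Nat.sub (Nat.pow (nat_lit 2) N) (nat_lit 1)) fun F =>
      force extra fun E => Nat.beq (Nat.land (Nat.lor c E) F) F

theorem coverW_sound {nets : List Net} {gs : List (List ℕ)} (hok : ∀ s, (nthN nets s).Ok)
    {N n r extra : ℕ} (h : checkCoverW nets gs N n r extra = true) :
    ∀ x < N, ConnW (act nets) gs r x ∨ extra.testBit x = true := by
  change Nat.beq (Nat.land (Nat.lor (sweepsWL nets gs n (Nat.shiftLeft 1 r)) extra) (2 ^ N - 1))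
    (2 ^ N - 1) = true at h
  have h' := Nat.eq_of_beq_eq_true h
  intro x hx
  have := congrArg (fun z => Nat.testBit z x) h'
  simp only [Nat.testBit_two_pow_sub_one] at this
  have h2 : (Nat.land (Nat.lor (sweepsWL nets gs n (Nat.shiftLeft 1 r)) extra)
      (2 ^ N - 1)).testBit x = true := by rw [this]; simpa using hx
  change (((sweepsWL nets gs n (Nat.shiftLeft 1 r)) ||| extra) &&& (2 ^ N - 1)).testBit x = true
    at h2
  rw [Nat.testBit_and, Nat.testBit_or, Bool.and_eq_true, Bool.or_eq_true] at h2
  rcases h2.1 with h3 | h3
  · left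
    refine sweepsWL_sound hok n _ ?_ x h3
    intro y hy
    have h1 : Nat.shiftLeft 1 r = 2 ^ r := by
      show 1 <<< r = 2 ^ r
      rw [Nat.one_shiftLeft]
    rw [h1, Nat.testBit_two_pow] at hy
    have : r = y := by simpa using hy
    rw [← this]; exact ConnW.base
  · right; exact h3

/-- the fixed points of the word lie in `extra`, by `movedW`. -/
theorem fixed_of_moved {nets : List Net} (hok : ∀ s, (nthN nets s).Ok) (n : ℕ) (word : List ℕ)
    (x : ℕ) (hx : tr (act nets) word x = x) (E : ℕ)
    (h : (Nat.lor E (movedW nets n word n 0)).testBit x = true) : E.testBit x = true := by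
  change (E ||| movedW nets n word n 0).testBit x = true at h
  rw [Nat.testBit_or, testBit_movedW hok n word x hx, Bool.or_false] at h
  exact h

/-- all words of the list fix the point `x`. -/
noncomputable def checkFixPt (nets : List Net) (words : List (List ℕ)) (x : ℕ) : Bool :=
  List.rec (motive := fun _ => Bool) true
    (fun w _ ih => bsel (checkTr nets w x x) ih false) words

theorem fixPt_sound {nets : List Net} (hok : ∀ s, (nthN nets s).Ok) {x : ℕ} :
    ∀ words : List (List ℕ), checkFixPt nets words x = true → ∀ w ∈ words, tr (act nets) w x = x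
  | [], _, w, hw => by simp at hw
  | w0 :: words, h, w, hw => by
    change bsel (checkTr nets w0 x x) (checkFixPt nets words x) false = true at h
    cases hb : checkTr nets w0 x x with
    | false => rw [hb] at h; cases h
    | true =>
      rw [hb] at h
      rcases List.mem_cons.mp hw with rfl | hw'
      · exact tr_of_check hok hb
      · exact fixPt_sound hok words h w hw'

/-- the bits of a vector with at most three bits. -/
theorem testBit_bits3 (a b x : ℕ)
    (h : (Nat.lor (Nat.lor 1 (Nat.shiftLeft 1 a)) (Nat.shiftLeft 1 b)).testBit x = true) :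
    x = 0 ∨ x = a ∨ x = b := by
  change ((1 ||| 1 <<< a) ||| 1 <<< b).testBit x = true at h
  rw [Nat.testBit_or, Nat.testBit_or, Nat.one_shiftLeft, Nat.one_shiftLeft, Nat.testBit_two_pow,
    Nat.testBit_two_pow, Bool.or_eq_true, Bool.or_eq_true] at h
  rcases h with (h | h) | h
  · left; exact Nat.testBit_one_eq_true_iff_self_eq_zero.mp h
  · right; left; exact (of_decide_eq_true h).symm
  · right; right; exact (of_decide_eq_true h).symm

/-! ### equality of two words on the planes -/

/-- the two words (over two lists of networks) agree on the planes `j, j+1, …` (`c` of them). -/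
noncomputable def checkEqPlanes (netsA : List Net) (wA : List ℕ) (netsB : List Net) (wB : List ℕ)
    (n c : ℕ) : ℕ → Bool :=
  Nat.rec (motive := fun _ => ℕ → Bool) (fun _ => true)
    (fun _ ih j => force (plane j n) fun P =>
      bsel (Nat.beq (applyW netsA wA P) (applyW netsB wB P)) (ih (Nat.add j (nat_lit 1))) false) c

theorem checkEqPlanes_sound (netsA : List Net) (wA : List ℕ) (netsB : List Net) (wB : List ℕ)
    (n : ℕ) : ∀ (c j0 : ℕ), checkEqPlanes netsA wA netsB wB n c j0 = true →
    ∀ j, j0 ≤ j → j < j0 + c → applyW netsA wA (plane j n) = applyW netsB wB (plane j n)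
  | 0, _, _, j, h1, h2 => by omega
  | c + 1, j0, h, j, h1, h2 => by
    change bsel (Nat.beq (applyW netsA wA (plane j0 n)) (applyW netsB wB (plane j0 n)))
      (checkEqPlanes netsA wA netsB wB n c (j0 + 1)) false = true at h
    cases hb : Nat.beq (applyW netsA wA (plane j0 n)) (applyW netsB wB (plane j0 n)) with
    | false => rw [hb] at h; cases h
    | true =>
      rw [hb] at h
      rcases Nat.eq_or_lt_of_le h1 with rfl | hlt
      · exact Nat.eq_of_beq_eq_true hb
      · exact checkEqPlanes_sound netsA wA netsB wB n c (j0 + 1) h j hlt (by omega)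

/-- two words agreeing on all coordinate vectors agree on all points. -/
theorem eq_of_planes {netsA netsB : List Net} (hokA : ∀ s, (nthN netsA s).Ok)
    (hokB : ∀ s, (nthN netsB s).Ok) {N n : ℕ} (hN : N ≤ 2 ^ n) (wA wB : List ℕ)
    (hA : ∀ x < N, tr (act netsA) wA x < N) (hB : ∀ x < N, tr (act netsB) wB x < N)
    (hpl : ∀ j < n, applyW netsA wA (plane j n) = applyW netsB wB (plane j n)) :
    ∀ x < N, tr (act netsA) wA x = tr (act netsB) wB x := by
  intro x hx
  have h1 := lt_of_lt_of_le (hA x hx) hN
  have h2 := lt_of_lt_of_le (hB x hx) hN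
  apply Nat.eq_of_testBit_eq
  intro j
  by_cases hj : j < n
  · have := congrArg (fun z => Nat.testBit z x) (hpl j hj)
    simp only [testBit_applyW hokA, testBit_applyW hokB, testBit_plane] at this
    simpa [h1, h2] using this
  · have hj' : n ≤ j := by omega
    rw [Nat.testBit_lt_two_pow (lt_of_lt_of_le h1 (Nat.pow_le_pow_right (by norm_num) hj')),
      Nat.testBit_lt_two_pow (lt_of_lt_of_le h2 (Nat.pow_le_pow_right (by norm_num) hj'))]

/-! ### sets of points as bit vectors -/

/-- the bit vector of a list of points. -/
noncomputable def bitsOf (l : List ℕ) : ℕ :=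
  List.rec (motive := fun _ => ℕ) (nat_lit 0)
    (fun p _ ih => force ih fun B => Nat.lor (Nat.shiftLeft (nat_lit 1) p) B) l

theorem bitsOf_nil : bitsOf [] = 0 := rfl
theorem bitsOf_cons (p : ℕ) (l : List ℕ) : bitsOf (p :: l) = (1 <<< p) ||| bitsOf l := rfl

theorem testBit_bitsOf (x : ℕ) : ∀ l : List ℕ, (bitsOf l).testBit x = true ↔ x ∈ l
  | [] => by simp [bitsOf_nil]
  | p :: l => by
    rw [bitsOf_cons, Nat.testBit_or, Nat.one_shiftLeft, Nat.testBit_two_pow, Bool.or_eq_true,
      testBit_bitsOf x l, List.mem_cons, decide_eq_true_eq]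
    constructor
    · rintro (h | h)
      · left; exact h.symm
      · right; exact h
    · rintro (h | h)
      · left; exact h.symm
      · right; exact h

/-- the points of `F` fixed by all the words belong to `F'`. -/
noncomputable def checkNarrow (nets : List Net) (n : ℕ) (words : List (List ℕ)) (F F' : ℕ) : Bool :=
  force F fun F0 => force F' fun F1 => force (movedL nets n words) fun D =>
    Nat.beq (Nat.land F0 (Nat.lor D F1)) F0

theorem narrow_sound {nets : List Net} (hok : ∀ s, (nthN nets s).Ok) {n : ℕ}
    {words : List (List ℕ)} {F F' : ℕ} (h : checkNarrow nets n words F F' = true) :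
    ∀ x, F.testBit x = true → (∀ w ∈ words, tr (act nets) w x = x) → F'.testBit x = true := by
  change Nat.beq (Nat.land F (Nat.lor (movedL nets n words) F')) F = true at h
  have h' := Nat.eq_of_beq_eq_true h
  intro x hx hfix
  have := congrArg (fun z => Nat.testBit z x) h'
  change (F &&& ((movedL nets n words) ||| F')).testBit x = F.testBit x at this
  rw [Nat.testBit_and, Nat.testBit_or, testBit_movedL hok n x words hfix, hx, Bool.false_or,
    Bool.true_and] at this
  exact this

theorem narrow_full {nets : List Net} (hok : ∀ s, (nthN nets s).Ok) {n N : ℕ}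
    {words : List (List ℕ)} {F' : ℕ}
    (h : checkNarrow nets n words (Nat.sub (Nat.pow 2 N) 1) F' = true) :
    ∀ x < N, (∀ w ∈ words, tr (act nets) w x = x) → F'.testBit x = true := by
  intro x hx hfix
  refine narrow_sound hok h x ?_ hfix
  show (2 ^ N - 1).testBit x = true
  rw [Nat.testBit_two_pow_sub_one]
  simpa using hx

/-- the form of `coverW_sound` used with the fixed points of a word as exceptions. -/
theorem coverW_sound' {nets : List Net} {gs : List (List ℕ)} (hok : ∀ s, (nthN nets s).Ok)
    {N n r E m : ℕ} {word : List ℕ}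
    (h : checkCoverW nets gs N n r (Nat.lor E (movedW nets m word m 0)) = true) :
    ∀ x < N, tr (act nets) word x = x → ConnW (act nets) gs r x ∨ E.testBit x = true := by
  intro x hx hfix
  rcases coverW_sound hok h x hx with h1 | h1
  · left; exact h1
  · right; exact fixed_of_moved hok m word x hfix E h1

end Cfsg.Agent.Lib.helper19_BenesFix
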