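import Mathlib
import Cfsg.Agent.Lib.helper19_CoxRefl

/-!
Centres of finite Coxeter groups through a faithful integral reflection representation of full rank:
a central element acts as a scalar `±1`.  By helper19.
-/

set_option autoImplicit false

namespace Cfsg.Agent.Lib.helper19_CoxCenter

open Cfsg.Agent.Lib.helper19_TC Cfsg.Agent.Lib.helper19_CoxChain Cfsg.Agent.Lib.helper19_CoxRefl Matrix

variable {n : ℕ} {C : List (List ℤ)}

/-- the rank-one part of a reflection. -/
def rk1 (n : ℕ) (C : List (List ℤ)) (i : ℕ) : Matrix (Fin n) (Fin n) ℤ :=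
  Matrix.of fun j t => if (t : ℕ) = i then cart C i j else 0

lemma reflM_eq (i : ℕ) : reflM n C i = 1 - rk1 n C i := by
  ext j t
  simp [reflM, rk1, Matrix.one_apply]

lemma mul_rk1_apply (Z : Matrix (Fin n) (Fin n) ℤ) (i : ℕ) (j t : Fin n) :
    (Z * rk1 n C i) j t = if (t : ℕ) = i then ∑ s, Z j s * cart C i s else 0 := by
  simp only [Matrix.mul_apply, rk1, Matrix.of_apply]
  split_ifs with h
  · rfl
  · simp

lemma rk1_mul_apply (Z : Matrix (Fin n) (Fin n) ℤ) (i : ℕ) (hi : i < n) (j t : Fin n) :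
    (rk1 n C i * Z) j t = cart C i j * Z ⟨i, hi⟩ t := by
  simp only [Matrix.mul_apply, rk1, Matrix.of_apply]
  rw [Finset.sum_eq_single ⟨i, hi⟩]
  · simp
  · intro s _ hs
    have : (s : ℕ) ≠ i := fun h => hs (Fin.ext h)
    simp [this]
  · intro h; exact absurd (Finset.mem_univ _) h

/-- a matrix commuting with all the reflections is scalar. -/
theorem scalar_of_commute (Z : Matrix (Fin n) (Fin n) ℤ)
    (hZ : ∀ i < n, Z * reflM n C i = reflM n C i * Z)
    (hdiag : ∀ i < n, cart C i i = 2)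
    (rk : ℕ → ℕ) (hconn : ∀ j < n, j ≠ 0 → ∃ i < n, rk i < rk j ∧ cart C i j ≠ 0) (hn : 0 < n) :
    Z = (Z ⟨0, hn⟩ ⟨0, hn⟩) • (1 : Matrix (Fin n) (Fin n) ℤ) := by
  have hE : ∀ i < n, Z * rk1 n C i = rk1 n C i * Z := by
    intro i hi
    have := hZ i hi
    rw [reflM_eq, mul_sub, sub_mul, mul_one, one_mul] at this
    exact sub_right_injective this
  have hent : ∀ i (hi : i < n) (j t : Fin n),
      (if (t : ℕ) = i then ∑ s, Z j s * cart C i s else 0) = cart C i j * Z ⟨i, hi⟩ t := by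
    intro i hi j t
    rw [← mul_rk1_apply, ← rk1_mul_apply Z i hi, hE i hi]
  -- `Z` is diagonal
  have hoff : ∀ a b : Fin n, a ≠ b → Z a b = 0 := by
    intro a b hab
    have h := hent a.1 a.2 a b
    have hne : ¬ ((b : ℕ) = a.1) := fun h' => hab (Fin.ext h'.symm)
    rw [if_neg hne, hdiag a.1 a.2] at h
    have h2 : Z ⟨a.1, a.2⟩ b = 0 := by omega
    exact h2
  have hsum : ∀ (i : ℕ) (j : Fin n), ∑ s, Z j s * cart C i s = Z j j * cart C i j := by
    intro i j
    rw [Finset.sum_eq_single j]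
    · intro s _ hs
      rw [hoff j s (Ne.symm hs), zero_mul]
    · intro h; exact absurd (Finset.mem_univ _) h
  have hadj : ∀ i (hi : i < n) (j : Fin n), cart C i j ≠ 0 → Z j j = Z ⟨i, hi⟩ ⟨i, hi⟩ := by
    intro i hi j hne
    have h := hent i hi j ⟨i, hi⟩
    rw [if_pos rfl, hsum, mul_comm] at h
    exact mul_left_cancel₀ hne h
  have hall : ∀ (r j : ℕ) (hj : j < n), rk j = r → Z ⟨j, hj⟩ ⟨j, hj⟩ = Z ⟨0, hn⟩ ⟨0, hn⟩ := by
    intro r
    induction r using Nat.strong_induction_on with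
    | _ r ih =>
      intro j hj hr
      by_cases h0 : j = 0
      · subst h0; rfl
      · obtain ⟨i, hi, hlt, hne⟩ := hconn j hj h0
        rw [hadj i hi ⟨j, hj⟩ hne]
        exact ih (rk i) (hr ▸ hlt) i hi rfl
  ext a b
  rw [Matrix.smul_apply, Matrix.one_apply, smul_eq_mul]
  by_cases hab : a = b
  · subst hab
    rw [if_pos rfl, mul_one]
    exact hall _ a.1 a.2 rfl
  · rw [if_neg hab, mul_zero]
    exact hoff a b hab

section center
variable (M : CoxeterMatrix (Fin n))
  (hR : ∀ i j : Fin n, (reflM n C i * reflM n C j) ^ M i j = 1)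

/-- the value of the reflection representation at the Coxeter element. -/
lemma rho_coxeter_val (k : ℕ) (hk : k ≤ n) :
    ((rho M hR k hk ((List.finRange k).map (truncTo M k hk).simple).prod :
      (Matrix (Fin n) (Fin n) ℤ)ˣ) : Matrix (Fin n) (Fin n) ℤ) =
      ((List.range k).map (reflM n C)).prod := by
  rw [map_list_prod, List.map_map, ← Units.coeHom_apply, map_list_prod, List.map_map,
    ← List.map_coe_finRange_eq_range, List.map_map]
  congr 1
  apply List.map_congr_left
  intro i _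
  simp only [Function.comp_apply, rho_simple, Units.coeHom_apply]
  exact reflU_val _ (lt_of_lt_of_le i.2 hk)

/-- a central element acts as `1` or `-1`. -/
theorem rho_center (hdiag : ∀ i < n, cart C i i = 2)
    (rk : ℕ → ℕ) (hconn : ∀ j < n, j ≠ 0 → ∃ i < n, rk i < rk j ∧ cart C i j ≠ 0) (hn : 0 < n)
    (z : (truncTo M n le_rfl).Group) (hz : z ∈ Subgroup.center (truncTo M n le_rfl).Group) :
    ((rho M hR n le_rfl z : (Matrix (Fin n) (Fin n) ℤ)ˣ) : Matrix (Fin n) (Fin n) ℤ) = 1 ∨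
    ((rho M hR n le_rfl z : (Matrix (Fin n) (Fin n) ℤ)ˣ) : Matrix (Fin n) (Fin n) ℤ) = -1 := by
  set ρ := rho M hR n le_rfl with hρ
  set Z : Matrix (Fin n) (Fin n) ℤ := ((ρ z : (Matrix (Fin n) (Fin n) ℤ)ˣ) : Matrix (Fin n) (Fin n) ℤ)
    with hZdef
  have hZ : ∀ i < n, Z * reflM n C i = reflM n C i * Z := by
    intro i hi
    have h1 : z * (truncTo M n le_rfl).simple ⟨i, hi⟩ = (truncTo M n le_rfl).simple ⟨i, hi⟩ * z :=
      ((Subgroup.mem_center_iff.mp hz) _).symm
    have h2 := congrArg (fun g => ((ρ g : (Matrix (Fin n) (Fin n) ℤ)ˣ) : Matrix (Fin n) (Fin n) ℤ)) h1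
    simp only [map_mul, Units.val_mul, hρ, rho_simple] at h2
    rw [reflU_val _ hi] at h2
    exact h2
  have hsc := scalar_of_commute Z hZ hdiag rk hconn hn
  set lam := Z ⟨0, hn⟩ ⟨0, hn⟩ with hlam
  have hinv : Z * (((ρ z)⁻¹ : (Matrix (Fin n) (Fin n) ℤ)ˣ) : Matrix (Fin n) (Fin n) ℤ) = 1 := by
    rw [hZdef, ← Units.val_mul, mul_inv_cancel, Units.val_one]
  have h00 := congrFun (congrFun hinv ⟨0, hn⟩) ⟨0, hn⟩
  rw [hsc, Matrix.smul_mul, Matrix.one_mul, Matrix.smul_apply, Matrix.one_apply, if_pos rfl,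
    smul_eq_mul] at h00
  rcases Int.eq_one_or_neg_one_of_mul_eq_one h00 with h | h
  · left
    rw [hsc, h, one_smul]
  · right
    rw [hsc, h, neg_one_smul]

variable (hinj : Function.Injective (rho M hR n le_rfl))
include hinj

/-- if a power of the Coxeter element acts as `-1`, the centre has order two and lies in the cyclic
group generated by the Coxeter element. -/
theorem center_of_neg_one (hdiag : ∀ i < n, cart C i i = 2)
    (rk : ℕ → ℕ) (hconn : ∀ j < n, j ≠ 0 → ∃ i < n, rk i < rk j ∧ cart C i j ≠ 0) (hn : 0 < n)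
    (m : ℕ) (hm : (((List.range n).map (reflM n C)).prod) ^ m = -1) :
    Nat.card (Subgroup.center (truncTo M n le_rfl).Group) = 2 ∧
    Subgroup.center (truncTo M n le_rfl).Group ≤
      Subgroup.zpowers ((List.finRange n).map (truncTo M n le_rfl).simple).prod := by
  set ρ := rho M hR n le_rfl with hρ
  set cW := ((List.finRange n).map (truncTo M n le_rfl).simple).prod with hcW
  set w0 := cW ^ m with hw0
  have hval : ∀ g, ((ρ g : (Matrix (Fin n) (Fin n) ℤ)ˣ) : Matrix (Fin n) (Fin n) ℤ) = -1 → g = w0 := by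
    intro g hg
    apply hinj
    apply Units.ext
    rw [hg, hw0, map_pow, Units.val_pow_eq_pow_val, hcW, rho_coxeter_val, hm]
  have hw0val : ((ρ w0 : (Matrix (Fin n) (Fin n) ℤ)ˣ) : Matrix (Fin n) (Fin n) ℤ) = -1 := by
    rw [hw0, map_pow, Units.val_pow_eq_pow_val, hcW, hρ, rho_coxeter_val, hm]
  have hw0c : w0 ∈ Subgroup.center (truncTo M n le_rfl).Group := by
    rw [Subgroup.mem_center_iff]
    intro g
    apply hinj
    apply Units.ext
    rw [map_mul, map_mul, Units.val_mul, Units.val_mul]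
    change ((ρ g : (Matrix (Fin n) (Fin n) ℤ)ˣ) : Matrix (Fin n) (Fin n) ℤ) *
      ((ρ w0 : (Matrix (Fin n) (Fin n) ℤ)ˣ) : Matrix (Fin n) (Fin n) ℤ) =
      ((ρ w0 : (Matrix (Fin n) (Fin n) ℤ)ˣ) : Matrix (Fin n) (Fin n) ℤ) *
      ((ρ g : (Matrix (Fin n) (Fin n) ℤ)ˣ) : Matrix (Fin n) (Fin n) ℤ)
    rw [hw0val]
    simp
  have hw0ne : w0 ≠ 1 := by
    intro h
    have h1 : ((ρ w0 : (Matrix (Fin n) (Fin n) ℤ)ˣ) : Matrix (Fin n) (Fin n) ℤ) = 1 := by
      rw [h, map_one, Units.val_one]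
    rw [hw0val] at h1
    have h00 := congrFun (congrFun h1 ⟨0, hn⟩) ⟨0, hn⟩
    simp at h00
  have hcases : ∀ z ∈ Subgroup.center (truncTo M n le_rfl).Group, z = 1 ∨ z = w0 := by
    intro z hz
    rcases rho_center M hR hdiag rk hconn hn z hz with h | h
    · left
      apply hinj
      apply Units.ext
      rw [h, map_one, Units.val_one]
    · right
      exact hval z h
  constructor
  · rw [Nat.card_eq_two_iff]
    refine ⟨⟨1, Subgroup.one_mem _⟩, ⟨w0, hw0c⟩, ?_, ?_⟩
    · intro h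
      exact hw0ne (congrArg Subtype.val h).symm
    · ext ⟨z, hz⟩
      simp only [Set.mem_insert_iff, Set.mem_singleton_iff, Set.mem_univ, iff_true, Subtype.mk.injEq]
      exact hcases z hz
  · intro z hz
    rcases hcases z hz with h | h
    · rw [h]; exact Subgroup.one_mem _
    · rw [h, hw0]; exact Subgroup.pow_mem _ (Subgroup.mem_zpowers _) _

/-- if some finite set of vectors is stable under the reflections but not under `-1`, the centre is
trivial. -/
theorem center_trivial (hdiag : ∀ i < n, cart C i i = 2)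
    (rk : ℕ → ℕ) (hconn : ∀ j < n, j ≠ 0 → ∃ i < n, rk i < rk j ∧ cart C i j ≠ 0) (hn : 0 < n)
    (pts : List (List ℕ))
    (hstab : ∀ l ∈ pts, ∀ i < n, reflV n C i (toVec n l) ∈ pts.map (toVec n))
    (hneg : ∃ l ∈ pts, -(toVec n l) ∉ pts.map (toVec n)) :
    Subgroup.center (truncTo M n le_rfl).Group = ⊥ := by
  set ρ := rho M hR n le_rfl with hρ
  have hsq := hsq_of_hR M hR
  -- the range of `ρ` stabilises the set of points
  have hG : ∀ g ∈ G hsq n, ∀ v ∈ pts.map (toVec n),
      ((g : (Matrix (Fin n) (Fin n) ℤ)ˣ) : Matrix (Fin n) (Fin n) ℤ) *ᵥ v ∈ pts.map (toVec n) := by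
    intro g hg
    induction hg using Subgroup.closure_induction_left with
    | one => intro v hv; simpa using hv
    | mul_left a ha y _ ih =>
      intro v hv
      obtain ⟨i, hi, rfl⟩ := ha
      have hi' : i < n := hi
      rw [Units.val_mul, ← Matrix.mulVec_mulVec, reflU_val hsq hi', reflM_mulVec]
      obtain ⟨l, hl, hlv⟩ := List.mem_map.mp (ih v hv)
      rw [← hlv]
      exact hstab l hl i hi'
    | inv_mul_cancel a ha y _ ih =>
      intro v hv
      obtain ⟨i, hi, rfl⟩ := ha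
      have hi' : i < n := hi
      have hinv : (reflU hsq i)⁻¹ = reflU hsq i := by
        rw [inv_eq_iff_mul_eq_one]
        apply Units.ext
        rw [Units.val_mul, reflU_val hsq hi', Units.val_one]
        exact hsq i hi'
      rw [hinv, Units.val_mul, ← Matrix.mulVec_mulVec, reflU_val hsq hi', reflM_mulVec]
      obtain ⟨l, hl, hlv⟩ := List.mem_map.mp (ih v hv)
      rw [← hlv]
      exact hstab l hl i hi'
  rw [Subgroup.eq_bot_iff_forall]
  intro z hz
  rcases rho_center M hR hdiag rk hconn hn z hz with h | h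
  · apply hinj
    apply Units.ext
    rw [h, map_one, Units.val_one]
  · exfalso
    obtain ⟨l, hl, hlneg⟩ := hneg
    apply hlneg
    have hmem : ρ z ∈ G hsq n := by
      rw [← range_rho M hR n le_rfl]
      exact ⟨z, rfl⟩
    have := hG (ρ z) hmem (toVec n l) (List.mem_map.mpr ⟨l, hl, rfl⟩)
    rw [h, Matrix.neg_mulVec, Matrix.one_mulVec] at this
    exact this

end center

end Cfsg.Agent.Lib.helper19_CoxCenter
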