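import Mathlib
import Cfsg.Agent.Lib.helper19_CoxCenter

/-!
Generation of a finite Coxeter group by its Coxeter element and a few simple reflections, certified
by a straight-line program of integer matrices in a faithful reflection representation.
By helper19.
-/

set_option autoImplicit false

namespace Cfsg.Agent.Lib.helper19_CoxGen

open Cfsg.Agent.Lib.helper19_TC Cfsg.Agent.Lib.helper19_CoxChain Cfsg.Agent.Lib.helper19_CoxRefl
  Cfsg.Agent.Lib.helper19_CoxCenter Matrix

/-- decode a matrix from a list of rows of naturals (entries shifted by `8`). -/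
def toMat (n : ℕ) (L : List (List ℕ)) : Matrix (Fin n) (Fin n) ℤ :=
  Matrix.of fun i j => (((L.getD i []).getD j 8 : ℕ) : ℤ) - 8

/-- the check of a straight-line program: the matrix number `ngen + t` is the product of two earlier
ones, named by the `t`-th step. -/
def SLPok (n : ℕ) (mats : List (List (List ℕ))) (ngen : ℕ) (steps : List (ℕ × ℕ)) : Prop :=
  ∀ t < steps.length, (steps.getD t (0, 0)).1 < ngen + t ∧ (steps.getD t (0, 0)).2 < ngen + t ∧
    toMat n (mats.getD (ngen + t) []) =
      toMat n (mats.getD (steps.getD t (0, 0)).1 []) * toMat n (mats.getD (steps.getD t (0, 0)).2 [])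

instance (n : ℕ) (mats : List (List (List ℕ))) (ngen : ℕ) (steps : List (ℕ × ℕ)) :
    Decidable (SLPok n mats ngen steps) := by
  unfold SLPok; infer_instance

/-- all matrices of a checked straight-line program lie in a subgroup containing the first ones. -/
theorem mem_of_SLP {n : ℕ} (H : Subgroup (Matrix (Fin n) (Fin n) ℤ)ˣ)
    (mats : List (List (List ℕ))) (ngen : ℕ) (steps : List (ℕ × ℕ))
    (hgen : ∀ t < ngen, ∃ u ∈ H, ((u : (Matrix (Fin n) (Fin n) ℤ)ˣ) : Matrix (Fin n) (Fin n) ℤ) =
      toMat n (mats.getD t []))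
    (hok : SLPok n mats ngen steps) :
    ∀ t < ngen + steps.length, ∃ u ∈ H,
      ((u : (Matrix (Fin n) (Fin n) ℤ)ˣ) : Matrix (Fin n) (Fin n) ℤ) = toMat n (mats.getD t []) := by
  intro t
  induction t using Nat.strong_induction_on with
  | _ t ih =>
    intro ht
    by_cases hlt : t < ngen
    · exact hgen t hlt
    · obtain ⟨t', rfl⟩ : ∃ t', t = ngen + t' := ⟨t - ngen, by omega⟩
      have ht' : t' < steps.length := by omega
      obtain ⟨ha, hb, hprod⟩ := hok t' ht'
      obtain ⟨ua, hua, hua'⟩ := ih _ ha (by omega)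
      obtain ⟨ub, hub, hub'⟩ := ih _ hb (by omega)
      refine ⟨ua * ub, H.mul_mem hua hub, ?_⟩
      rw [Units.val_mul, hua', hub', hprod]

variable {n : ℕ} {C : List (List ℤ)} (M : CoxeterMatrix (Fin n))
  (hR : ∀ i j : Fin n, (reflM n C i * reflM n C j) ^ M i j = 1)

include hR in
/-- distinct reflection matrices give distinct simple reflections. -/
theorem simple_ne (i j : Fin n) (h : reflM n C i ≠ reflM n C j) :
    (truncTo M n le_rfl).simple i ≠ (truncTo M n le_rfl).simple j := by
  intro heq
  apply h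
  have h2 := congrArg (fun g => ((rho M hR n le_rfl g : (Matrix (Fin n) (Fin n) ℤ)ˣ) :
    Matrix (Fin n) (Fin n) ℤ)) heq
  simp only [rho_simple] at h2
  rw [reflU_val _ i.2, reflU_val _ j.2] at h2
  exact h2

/-- generation by the Coxeter element and some simple reflections, from a straight-line program. -/
theorem closure_eq_top_of_SLP (hinj : Function.Injective (rho M hR n le_rfl))
    (S : Set (truncTo M n le_rfl).Group) (T : List ℕ)
    (hcS : ((List.finRange n).map (truncTo M n le_rfl).simple).prod ∈ S)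
    (hTS : ∀ t < T.length, ∀ h : T.getD t 0 < n, (truncTo M n le_rfl).simple ⟨T.getD t 0, h⟩ ∈ S)
    (mats : List (List (List ℕ))) (steps : List (ℕ × ℕ))
    (hc : toMat n (mats.getD 0 []) = ((List.range n).map (reflM n C)).prod)
    (hT : ∀ t < T.length, T.getD t 0 < n ∧ toMat n (mats.getD (t + 1) []) = reflM n C (T.getD t 0))
    (hok : SLPok n mats (T.length + 1) steps)
    (wh : List ℕ) (hwh : ∀ j < n, wh.getD j 0 < T.length + 1 + steps.length ∧
      toMat n (mats.getD (wh.getD j 0) []) = reflM n C j) :
    Subgroup.closure S = ⊤ := by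
  set ρ := rho M hR n le_rfl with hρ
  set H := (Subgroup.closure S).map ρ with hH
  have hgen : ∀ t < T.length + 1, ∃ u ∈ H,
      ((u : (Matrix (Fin n) (Fin n) ℤ)ˣ) : Matrix (Fin n) (Fin n) ℤ) = toMat n (mats.getD t []) := by
    intro t ht
    rcases Nat.eq_zero_or_pos t with h0 | hpos
    · subst h0
      refine ⟨ρ _, Subgroup.mem_map_of_mem _ (Subgroup.subset_closure hcS), ?_⟩
      rw [hc, hρ, rho_coxeter_val]
    · obtain ⟨t', rfl⟩ : ∃ t', t = t' + 1 := ⟨t - 1, by omega⟩
      have ht' : t' < T.length := by omega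
      obtain ⟨hlt, hmat⟩ := hT t' ht'
      refine ⟨ρ _, Subgroup.mem_map_of_mem _ (Subgroup.subset_closure (hTS t' ht' hlt)), ?_⟩
      rw [hmat, hρ, rho_simple]
      exact reflU_val _ hlt
  have hall := mem_of_SLP H mats (T.length + 1) steps hgen hok
  have hsimple : ∀ j : Fin n, (truncTo M n le_rfl).simple j ∈ Subgroup.closure S := by
    intro j
    obtain ⟨hlt, hmat⟩ := hwh j.1 j.2
    obtain ⟨u, hu, hval⟩ := hall _ hlt
    rw [hmat] at hval
    obtain ⟨g, hg, hgu⟩ := Subgroup.mem_map.mp hu
    have : g = (truncTo M n le_rfl).simple j := by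
      apply hinj
      apply Units.ext
      rw [hgu, hval, rho_simple]
      exact (reflU_val _ j.2).symm
    rw [← this]
    exact hg
  rw [eq_top_iff]
  have h := (truncTo M n le_rfl).toCoxeterSystem.subgroup_closure_range_simple
  rw [CoxeterMatrix.toCoxeterSystem_simple] at h
  rw [← h, Subgroup.closure_le]
  rintro _ ⟨j, rfl⟩
  exact hsimple j

end Cfsg.Agent.Lib.helper19_CoxGen
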