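import Cfsg.Agent.Lib.helper19_Fi22OutDef

/-!
# The pointwise checks for `Out(Fi22)` on all 3510 points (helper19)
-/

set_option autoImplicit false
set_option linter.constructorNameAsVariable false
set_option Elab.async false
set_option maxRecDepth 100000

namespace Cfsg.Agent.Lib.helper19_Fi22OutDef

open Cfsg.Spor Cfsg.Agent.Lib.Helper28_CosetPerm Cfsg.Agent.Lib.Helper28_S1687Tab Cfsg.Agent.Lib.Helper28_S1687

theorem okr0 : allRange allOk 16 0 585 = true := by decide +kernel
theorem oku0 : ∀ k, 0 ≤ k → k < 585 → allOk (k * 16) = true := between_extend allOk 16 0 0 585 (between_start allOk 16 0) okr0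

theorem okr1 : allRange allOk 16 585 585 = true := by decide +kernel
theorem oku1 : ∀ k, 0 ≤ k → k < 1170 → allOk (k * 16) = true := between_extend allOk 16 0 585 585 oku0 okr1

theorem okr2 : allRange allOk 16 1170 585 = true := by decide +kernel
theorem oku2 : ∀ k, 0 ≤ k → k < 1755 → allOk (k * 16) = true := between_extend allOk 16 0 1170 585 oku1 okr2

theorem okr3 : allRange allOk 16 1755 585 = true := by decide +kernel
theorem oku3 : ∀ k, 0 ≤ k → k < 2340 → allOk (k * 16) = true := between_extend allOk 16 0 1755 585 oku2 okr3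

theorem okr4 : allRange allOk 16 2340 585 = true := by decide +kernel
theorem oku4 : ∀ k, 0 ≤ k → k < 2925 → allOk (k * 16) = true := between_extend allOk 16 0 2340 585 oku3 okr4

theorem okr5 : allRange allOk 16 2925 585 = true := by decide +kernel
theorem oku5 : ∀ k, 0 ≤ k → k < 3510 → allOk (k * 16) = true := between_extend allOk 16 0 2925 585 oku4 okr5

theorem all_ok : ∀ k < 3510, allOk (k * 16) = true := between_all allOk 16 3510 oku5

theorem pat_tau : pat 11856 1 = false ∧ pat 11856 2 = true ∧ pat 11856 3 = true ∧ pat 11856 4 = false ∧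
    pat 11856 5 = true := by decide +kernel

theorem L22_ok : L22.all (fun p => Nat.beq (itr ystep p.2.1 (itr dstep p.2.2 11856)) p.1) = true := by
  decide +kernel

theorem ystep_p0 : ystep 256 = 256 := by decide +kernel

theorem ystep_0 : ystep 0 = 16 := by decide +kernel

theorem us_0 : walk 65535 col us 0 = 11856 := by decide +kernel

theorem d_0 : walk 65535 col [(.b, true), (.a, true), (.c, true), (.b, true), (.d, true), (.c, true)] 0 = 256 := by
  decide +kernel

theorem a_1 : nxt 65535 cA 16 ≠ 16 := by decide +kernel

theorem d_3 : nxt 65535 cD 48 ≠ 48 := by decide +kernel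

theorem b_0 : nxt 65535 cB 0 = 16 := by decide +kernel

theorem ts_eq : ts = us.reverse ++ [(.a, true)] ++ us := by decide

end Cfsg.Agent.Lib.helper19_Fi22OutDef
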