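import Mathlib

/-!
# Rigidity of a class of involutions under automorphisms fixing an element with a unique fixed point
(helper19)

`G` acts transitively on `Ω`; the involution `a` is central in the stabiliser of `o` and its
centraliser is that stabiliser, so that the points of `Ω` correspond to the conjugates `T ω` of `a`.
An element `y` of odd order has a unique fixed point `p0`.  If the points whose "commuting pattern"
along their `y`-orbit agrees with that of `τ` are exactly the images of `τ` under `⟨y, T p0⟩`, and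
`G = ⟨y, T τ⟩` has trivial centre, then the centraliser of `y` is `⟨y, T p0⟩` and every automorphism
fixing `y` maps `T τ` to a conjugate under this centraliser.
-/

set_option autoImplicit false

namespace Cfsg.Agent.Lib.helper19_Rigid

variable {G : Type*} [Group G] {Ω : Type*} [MulAction G Ω]

section

variable (o : Ω) (a : G) (r : Ω → G)

/-- The conjugate of `a` attached to a point. -/
def T (ω : Ω) : G := r ω * a * (r ω)⁻¹

variable {o a r}
variable (hr : ∀ ω, r ω • o = ω) (H2 : ∀ h : G, h • o = o → h * a = a * h)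
  (H3 : ∀ g : G, g * a = a * g → g • o = o)

include hr H2 in
theorem T_eq (g : G) (ω : Ω) (h : g • o = ω) : T a r ω = g * a * g⁻¹ := by
  have h1 : ((r ω)⁻¹ * g) • o = o := by
    rw [mul_smul, h]
    exact inv_smul_eq_iff.mpr (hr ω).symm
  have h2 := H2 _ h1
  unfold T
  have h3 : a = ((r ω)⁻¹ * g) * a * ((r ω)⁻¹ * g)⁻¹ := by
    rw [h2, mul_inv_cancel_right]
  nth_rewrite 1 [h3]
  group

include hr H2 in
theorem T_smul (g : G) (ω : Ω) : T a r (g • ω) = g * T a r ω * g⁻¹ := by
  rw [T_eq hr H2 (g * r ω) (g • ω) (by rw [mul_smul, hr ω])]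
  unfold T
  group

include hr H2 H3 in
/-- `T ω'` fixes `ω` iff it commutes with `T ω`. -/
theorem fix_iff (ω ω' : Ω) :
    T a r ω' • ω = ω ↔ T a r ω' * T a r ω = T a r ω * T a r ω' := by
  set g := r ω with hg
  have hgo : g • o = ω := hr ω
  constructor
  · intro h
    have h1 : (g⁻¹ * T a r ω' * g) • o = o := by
      rw [mul_smul, hgo, mul_smul, h]
      exact inv_smul_eq_iff.mpr hgo.symm
    have h2 := H2 _ h1
    have h3 : T a r ω = g * a * g⁻¹ := rfl
    rw [h3]
    calc T a r ω' * (g * a * g⁻¹) = g * ((g⁻¹ * T a r ω' * g) * a) * g⁻¹ := by group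
      _ = g * (a * (g⁻¹ * T a r ω' * g)) * g⁻¹ := by rw [h2]
      _ = g * a * g⁻¹ * T a r ω' := by group
  · intro h
    have h3 : T a r ω = g * a * g⁻¹ := rfl
    rw [h3] at h
    have h4 : (g⁻¹ * T a r ω' * g) * a = a * (g⁻¹ * T a r ω' * g) := by
      calc (g⁻¹ * T a r ω' * g) * a = g⁻¹ * (T a r ω' * (g * a * g⁻¹)) * g := by group
        _ = g⁻¹ * ((g * a * g⁻¹) * T a r ω') * g := by rw [h]
        _ = a * (g⁻¹ * T a r ω' * g) := by group
    have h5 := H3 _ h4
    rw [mul_smul, mul_smul, hgo] at h5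
    have h6 : g • g⁻¹ • T a r ω' • ω = g • o := by rw [h5]
    rw [smul_inv_smul, hgo] at h6
    exact h6

include hr H2 in
/-- Computational form: with any `g'` mapping `o` to `ω'`. -/
theorem fix_iff_of_rep (ω ω' : Ω) (g' : G) (hg' : g' • o = ω') :
    T a r ω' • ω = ω ↔ a • (g'⁻¹ • ω) = g'⁻¹ • ω := by
  rw [T_eq hr H2 g' ω' hg', mul_smul, mul_smul]
  constructor
  · intro h
    have : g'⁻¹ • g' • a • g'⁻¹ • ω = g'⁻¹ • ω := by rw [h]
    rwa [inv_smul_smul] at this
  · intro h
    rw [h, smul_inv_smul]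

end

section Main

variable {o : Ω} {a : G} {r : Ω → G}

theorem main (hr : ∀ ω, r ω • o = ω) (H2 : ∀ h : G, h • o = o → h * a = a * h)
    (H3 : ∀ g : G, g * a = a * g → g • o = o)
    (ha2 : a * a = 1) (ha1 : a ≠ 1)
    (y : G) (p0 τ : Ω) (n : ℕ) (hn : Odd n) (hyn : y ^ n = 1)
    (hyp0 : y • p0 = p0) (huniq : ∀ ω, y • ω = ω → ω = p0)
    (hgen : Subgroup.closure {y, T a r τ} = ⊤)
    (hZ : ∀ z : G, (∀ g, z * g = g * z) → z = 1)
    (I : Finset ℕ)
    (hsig : ∀ ω, (∀ i ∈ I, (T a r (y ^ i • ω) • ω = ω ↔ T a r (y ^ i • τ) • τ = τ)) →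
      ∃ k e : ℕ, ω = (y ^ k * (T a r p0) ^ e) • τ) :
    (∀ c : G, c * y = y * c → ∃ k e : ℕ, c = y ^ k * (T a r p0) ^ e) ∧
    (∀ α : MulAut G, α y = y → ∃ c : G, c * y = y * c ∧ α (T a r τ) = c * T a r τ * c⁻¹) := by
  set d := T a r p0 with hd
  have hTs := T_smul hr H2
  -- d commutes with y
  have hdy : d * y = y * d := by
    have h1 : T a r (y • p0) = y * d * y⁻¹ := hTs y p0
    rw [hyp0] at h1
    calc d * y = (y * d * y⁻¹) * y := by rw [← h1]
      _ = y * d := by group
  have hd2 : d * d = 1 := by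
    rw [hd]; unfold T
    calc r p0 * a * (r p0)⁻¹ * (r p0 * a * (r p0)⁻¹) = r p0 * (a * a) * (r p0)⁻¹ := by group
      _ = 1 := by rw [ha2]; group
  have hd1 : d ≠ 1 := by
    intro h
    apply ha1
    rw [hd] at h; unfold T at h
    calc a = (r p0)⁻¹ * (r p0 * a * (r p0)⁻¹) * r p0 := by group
      _ = 1 := by rw [h]; group
  have hcomm_pow : ∀ k e : ℕ, (y ^ k * d ^ e) * y = y * (y ^ k * d ^ e) := by
    intro k e
    have h1 : Commute (d ^ e) y := (Commute.pow_left (show Commute d y from hdy) e)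
    have h2 : Commute (y ^ k) y := (Commute.pow_left (Commute.refl y) k)
    exact (h2.mul_left h1).eq
  -- an element commuting with y and fixing τ is trivial
  have triv : ∀ c : G, c * y = y * c → c • τ = τ → c = 1 := by
    intro c hcy hcτ
    have h1 : T a r (c • τ) = c * T a r τ * c⁻¹ := hTs c τ
    rw [hcτ] at h1
    have hct : c * T a r τ = T a r τ * c := by
      calc c * T a r τ = (c * T a r τ * c⁻¹) * c := by group
        _ = T a r τ * c := by rw [← h1]
    apply hZ
    have hle : (⊤ : Subgroup G) ≤ Subgroup.centralizer ({c} : Set G) := by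
      rw [← hgen, Subgroup.closure_le]
      rintro x (rfl | rfl)
      · rw [SetLike.mem_coe, Subgroup.mem_centralizer_iff]
        intro h hh
        rw [Set.mem_singleton_iff] at hh
        rw [hh]; exact hcy
      · rw [SetLike.mem_coe, Subgroup.mem_centralizer_iff]
        intro h hh
        rw [Set.mem_singleton_iff] at hh
        rw [hh]; exact hct
    intro g
    have := hle (Subgroup.mem_top g)
    rw [Subgroup.mem_centralizer_iff] at this
    exact this c rfl
  -- C1
  have C1 : ∀ c : G, c * y = y * c → ∃ k e : ℕ, c = y ^ k * d ^ e := by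
    intro c hcy
    have hcyi : ∀ i : ℕ, y ^ i * c = c * y ^ i := fun i =>
      ((Commute.pow_right (show Commute c y from hcy) i).eq).symm
    obtain ⟨k, e, hke⟩ := hsig (c • τ) (by
      intro i _
      have h1 : y ^ i • c • τ = c • y ^ i • τ := by
        rw [← mul_smul, ← mul_smul, hcyi i]
      rw [h1, hTs c, mul_smul, mul_smul, inv_smul_smul]
      exact smul_left_cancel_iff c)
    refine ⟨k, e, ?_⟩
    have h2 : ((y ^ k * d ^ e)⁻¹ * c) • τ = τ := by
      rw [mul_smul, hke, inv_smul_smul]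
    have h3 : ((y ^ k * d ^ e)⁻¹ * c) * y = y * ((y ^ k * d ^ e)⁻¹ * c) := by
      have hc1 : Commute (y ^ k * d ^ e) y := hcomm_pow k e
      have hc2 : Commute c y := hcy
      exact (hc1.inv_left.mul_left hc2).eq
    have h4 := triv _ h3 h2
    calc c = (y ^ k * d ^ e) * ((y ^ k * d ^ e)⁻¹ * c) := by group
      _ = y ^ k * d ^ e := by rw [h4, mul_one]
  refine ⟨C1, ?_⟩
  -- C2
  intro α hαy
  -- α fixes d
  have hαd : α d = d := by
    have h1 : α d * y = y * α d := by
      have := congrArg α hdy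
      rwa [map_mul, map_mul, hαy] at this
    obtain ⟨k, e, hke⟩ := C1 _ h1
    have hsq : α d * α d = 1 := by rw [← map_mul, hd2, map_one]
    have hde : d ^ e * d ^ e = 1 := by
      rw [← pow_add, ← two_mul, pow_mul, pow_two, hd2, one_pow]
    have hyk2 : (y ^ k) ^ 2 = 1 := by
      have hc : Commute (y ^ k) (d ^ e) :=
        (Commute.pow_pow (show Commute y d from hdy.symm) k e)
      have : (y ^ k * d ^ e) * (y ^ k * d ^ e) = (y ^ k) ^ 2 * (d ^ e * d ^ e) := by
        rw [pow_two]
        calc y ^ k * d ^ e * (y ^ k * d ^ e) = y ^ k * (d ^ e * y ^ k) * d ^ e := by group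
          _ = y ^ k * (y ^ k * d ^ e) * d ^ e := by rw [hc.eq]
          _ = y ^ k * y ^ k * (d ^ e * d ^ e) := by group
      rw [← hke, hsq, hde, mul_one] at this
      exact this.symm
    have hykn : (y ^ k) ^ n = 1 := by
      rw [← pow_mul, mul_comm, pow_mul, hyn, one_pow]
    have hyk : y ^ k = 1 := by
      have h2 := orderOf_dvd_of_pow_eq_one hyk2
      have h3 := orderOf_dvd_of_pow_eq_one hykn
      have h4 : orderOf (y ^ k) ∣ Nat.gcd 2 n := Nat.dvd_gcd h2 h3
      have h5 : Nat.gcd 2 n = 1 := by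
        obtain ⟨j, hj⟩ := hn
        rw [hj]
        simp
      rw [h5, Nat.dvd_one] at h4
      exact orderOf_eq_one_iff.mp h4
    rw [hyk, one_mul] at hke
    rcases Nat.even_or_odd e with ⟨j, hj⟩ | ⟨j, hj⟩
    · exfalso
      have : d ^ e = 1 := by
        rw [hj, ← two_mul, pow_mul, pow_two, hd2, one_pow]
      rw [this] at hke
      have h6 : α d = α 1 := by rw [hke, map_one]
      exact hd1 (α.injective h6)
    · rw [hke, hj, pow_succ, pow_mul, pow_two, hd2, one_pow, one_mul]
  -- the point of α (T τ)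
  obtain ⟨g, hgp⟩ : ∃ g : G, g • p0 = τ := by
    refine ⟨r τ * (r p0)⁻¹, ?_⟩
    rw [mul_smul]
    have : (r p0)⁻¹ • p0 = o := inv_smul_eq_iff.mpr (hr p0).symm
    rw [this, hr τ]
  have hTτ : T a r τ = g * d * g⁻¹ := by
    rw [← hgp]; exact hTs g p0
  obtain ⟨ω, hω⟩ : ∃ ω : Ω, ω = α g • p0 := ⟨_, rfl⟩
  have hTω : T a r ω = α (T a r τ) := by
    rw [hω, hTs, ← hd, hTτ, map_mul, map_mul, map_inv, hαd]
  obtain ⟨k, e, hke⟩ := hsig ω (by
    intro i _
    have h1 : T a r (y ^ i • ω) = α (T a r (y ^ i • τ)) := by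
      rw [hTs (y ^ i) ω, hTs (y ^ i) τ, hTω, map_mul, map_mul, map_inv, map_pow, hαy]
    rw [fix_iff hr H2 H3, fix_iff hr H2 H3, h1, hTω, ← map_mul, ← map_mul]
    exact α.injective.eq_iff)
  refine ⟨y ^ k * d ^ e, hcomm_pow k e, ?_⟩
  rw [← hTω, hke, hTs]

end Main

end Cfsg.Agent.Lib.helper19_Rigid
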