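import Cfsg.Agent.S1696
import Cfsg.Agent.Lib.helper19_Fi22OutChk
import Cfsg.Agent.Lib.helper19_Rigid
import Cfsg.Agent.Lib.helper19_OutSylow

/-!
# `Out(Fi22)` has order 2 (helper19)

The presented group `Fi22` acts on the 3510 cosets of `C(a) = 2.U6(2)` (helper28's verified table).
An element `y` of order 11 has a unique fixed point; the diagram flip composed with an inner
automorphism inverts `y`; the rigidity criterion of `helper19_Rigid` and the Sylow criterion of
`helper19_OutSylow` then give `|Out| = 2`.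
-/

set_option autoImplicit false
set_option linter.constructorNameAsVariable false

namespace Cfsg.Agent.Lib.helper19_Fi22Out

open Cfsg Cfsg.Spor Cfsg.Agent.Lib.Helper28_CosetPerm Cfsg.Agent.Lib.Helper28_Fi22Order
  Cfsg.Agent.Lib.Helper28_S1687 Cfsg.Agent.Lib.Helper28_S1687Tab Cfsg.Agent.S1696
  Cfsg.Agent.Lib.helper19_Fi22OutDef Cfsg.Agent.Lib.helper19_Rigid

/-! ### the action -/

/-- the action of `Fi22` on the 3510 points -/
noncomputable instance actX : MulAction G (Fin 3510) :=
  act (perm Cfsg.Agent.Lib.Helper28_S1687.verified.hv) Cfsg.Agent.Lib.Helper28_S1687.verified.hrel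

theorem smul_def (g : G) (k : Fin 3510) : g • k = rhoX g k := rfl

theorem rhoX_inj : Function.Injective rhoX := by
  rw [← MonoidHom.ker_eq_bot_iff]
  have hs : IsSimpleGroup G := Cfsg.Agent.S1696.result.1
  rcases hs.eq_bot_or_eq_top_of_normal rhoX.ker inferInstance with h | h
  · exact h
  · exfalso
    obtain ⟨g, hg⟩ := transX 1
    have : g ∈ rhoX.ker := h ▸ Subgroup.mem_top g
    rw [MonoidHom.mem_ker] at this
    rw [this] at hg
    exact absurd hg (by decide)

theorem eq_one_of_smul (g : G) (h : ∀ k : Fin 3510, g • k = k) : g = 1 := by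
  apply rhoX_inj
  rw [map_one]
  ext k
  exact congrArg Fin.val (h k)

/-- the element attached to a word: walking along `u` is acting by `W u` -/
noncomputable def W (u : List (Fi22.Gen × Bool)) : G :=
  (PresentedGroup.mk RELS (FreeGroup.mk u))⁻¹

theorem walk_W (u : List (Fi22.Gen × Bool)) (k : Fin 3510) :
    walk 65535 col u (k * 16) = ((W u • k : Fin 3510) : ℕ) * 16 := by
  obtain ⟨k', h1, h2⟩ := walk_spec Cfsg.Agent.Lib.Helper28_S1687.verified.hv u k
  rw [h1]
  have h3 : rhoX (PresentedGroup.mk RELS (FreeGroup.mk u)) k' = k := h2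
  have h4 : W u • k = k' := by
    rw [smul_def, W, map_inv, Equiv.Perm.inv_def, ← h3, Equiv.symm_apply_apply]
  rw [h4]

theorem W_nil : W [] = 1 := by
  unfold W
  rw [inv_eq_one]
  rfl

theorem W_append (u v : List (Fi22.Gen × Bool)) : W (u ++ v) = W v * W u := by
  unfold W
  rw [← mul_inv_rev, ← map_mul]
  rfl

theorem W_single (x : Fi22.Gen) (b : Bool) : W [(x, b)] = gen x := by
  unfold W
  cases b with
  | true =>
    have : PresentedGroup.mk RELS (FreeGroup.mk [(x, true)]) = gen x := rfl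
    rw [this, gen_inv]
  | false =>
    have : PresentedGroup.mk RELS (FreeGroup.mk [(x, false)]) = (gen x)⁻¹ := rfl
    rw [this, inv_inv]

theorem W_cons (x : Fi22.Gen) (b : Bool) (u : List (Fi22.Gen × Bool)) :
    W ((x, b) :: u) = W u * gen x := by
  have : (x, b) :: u = [(x, b)] ++ u := rfl
  rw [this, W_append, W_single]

theorem W_reverse (u : List (Fi22.Gen × Bool)) : W u.reverse = (W u)⁻¹ := by
  induction u with
  | nil => simp [W_nil]
  | cons p l ih =>
    obtain ⟨x, b⟩ := p
    rw [List.reverse_cons, W_append, W_single, ih, W_cons, mul_inv_rev, gen_inv]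

/-- offsets determine points -/
theorem fin_eq_of_off {k l : Fin 3510} (h : (k : ℕ) * 16 = (l : ℕ) * 16) : k = l :=
  Fin.ext (Nat.eq_of_mul_eq_mul_right (by norm_num) h)

theorem itr_W (f : ℕ → ℕ) (u : List (Fi22.Gen × Bool)) (hf : ∀ x, f x = walk 65535 col u x)
    (m : ℕ) (k : Fin 3510) : itr f m (k * 16) = (((W u) ^ m • k : Fin 3510) : ℕ) * 16 := by
  induction m with
  | zero => simp [itr_zero]
  | succ m ih =>
    rw [itr_succ, ih, hf, walk_W, ← mul_smul, ← pow_succ']

/-! ### the base point, its stabiliser and the class of `a` -/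

/-- the transposition `a` -/
noncomputable abbrev A : G := gen .a

/-- coset representatives -/
noncomputable def rr (ω : Fin 3510) : G := Classical.choose (transX ω)

theorem rr_spec (ω : Fin 3510) : rr ω • (0 : Fin 3510) = ω := Classical.choose_spec (transX ω)

theorem H_index : H.index = 3510 := Cfsg.Agent.S1687.result.1

theorem H_eq_stab : H = MulAction.stabilizer G (0 : Fin 3510) :=
  eq_stabilizer (perm Cfsg.Agent.Lib.Helper28_S1687.verified.hv)
    Cfsg.Agent.Lib.Helper28_S1687.verified.hrel SH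
    Cfsg.Agent.Lib.Helper28_S1687.verified.hsub Cfsg.Agent.Lib.Helper28_S1687.verified.htrans
    (by rw [H_index]; norm_num) (by rw [H_index])

theorem comm_of_fix (h : G) (h0 : h • (0 : Fin 3510) = 0) : h * A = A * h := by
  have hH : h ∈ H := by
    rw [H_eq_stab]
    exact MulAction.mem_stabilizer_iff.mpr h0
  have hc := H_le_centralizer hH
  rw [Subgroup.mem_centralizer_iff] at hc
  exact (hc _ rfl).symm

theorem gen_smul (x : Fi22.Gen) (k : Fin 3510) :
    ((gen x • k : Fin 3510) : ℕ) * 16 = nxt 65535 (col x true) (k * 16) := by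
  have h := walk_W [(x, true)] k
  rw [W_single] at h
  exact h.symm

theorem b_zero : gen .b • (0 : Fin 3510) ≠ 0 := by
  intro h
  have h1 := gen_smul .b 0
  rw [h] at h1
  have h2 : nxt 65535 cB 0 = 0 := h1.symm
  rw [b_0] at h2
  exact absurd h2 (by norm_num)

theorem a_zero : A • (0 : Fin 3510) = 0 := by
  apply fin_eq_of_off
  rw [gen_smul]
  show nxt 65535 cA 0 = 0
  decide +kernel

/-- `a` and `b` do not commute -/
theorem ab_ne : A * gen .b ≠ gen .b * A := by
  intro h
  have hb := gen_braid .a .b (by decide)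
  have h2 : gen .b = A := by
    rw [hb]
    calc A * gen .b * A * (A * gen .b)⁻¹ = A * (gen .b * A) * (A * gen .b)⁻¹ := by group
      _ = A * (A * gen .b) * (A * gen .b)⁻¹ := by rw [h]
      _ = A := by group
  apply b_zero
  rw [h2]
  exact a_zero

theorem fix_of_comm (g : G) (hg : g * A = A * g) : g • (0 : Fin 3510) = 0 := by
  have hK : H ≤ Subgroup.centralizer {A} := H_le_centralizer
  rcases H_max _ hK with h | h
  · have : g ∈ Subgroup.centralizer {A} := by
      rw [Subgroup.mem_centralizer_iff]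
      intro x hx
      rw [Set.mem_singleton_iff] at hx
      rw [hx]; exact hg.symm
    rw [h] at this
    exact H_fix g this
  · exfalso
    have : gen .b ∈ Subgroup.centralizer {A} := h ▸ Subgroup.mem_top _
    rw [Subgroup.mem_centralizer_iff] at this
    exact ab_ne (this A rfl)

theorem a_sq : A * A = 1 := gen_sq .a

theorem a_ne_one : A ≠ 1 := by
  intro h
  apply ab_ne
  rw [h, one_mul, mul_one]

/-- the conjugate of `a` attached to a point -/
noncomputable abbrev TT (ω : Fin 3510) : G := T A rr ω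

theorem TT_eq (g : G) (ω : Fin 3510) (h : g • (0 : Fin 3510) = ω) : TT ω = g * A * g⁻¹ :=
  T_eq rr_spec comm_of_fix g ω h

theorem TT_smul (g : G) (ω : Fin 3510) : TT (g • ω) = g * TT ω * g⁻¹ :=
  T_smul rr_spec comm_of_fix g ω

/-- every generator is a conjugate of `a` -/
theorem gen_conj (x : Fi22.Gen) : ∃ g : G, gen x = g * A * g⁻¹ := by
  have step : ∀ x y : Fi22.Gen, coxLabel Fi22.edges x y = 3 →
      (∃ g : G, gen x = g * A * g⁻¹) → ∃ g : G, gen y = g * A * g⁻¹ := by
    rintro x y h3 ⟨g, hg⟩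
    refine ⟨gen x * gen y * g, ?_⟩
    have h := gen_braid x y h3
    calc gen y = (gen x * gen y) * gen x * (gen x * gen y)⁻¹ := h
      _ = (gen x * gen y) * (g * A * g⁻¹) * (gen x * gen y)⁻¹ := by rw [← hg]
      _ = (gen x * gen y * g) * A * (gen x * gen y * g)⁻¹ := by group
  have ha : ∃ g : G, gen .a = g * A * g⁻¹ := ⟨1, by group⟩
  have hb := step .a .b (by decide) ha
  have hc := step .b .c (by decide) hb
  have hd := step .c .d (by decide) hc
  have he := step .d .e (by decide) hd
  have hh := step .d .h (by decide) hd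
  have hf := step .e .f (by decide) he
  have hg := step .f .g (by decide) hf
  have hi := step .h .i (by decide) hh
  cases x <;> assumption

theorem gen_eq_TT (x : Fi22.Gen) : ∃ ω : Fin 3510, gen x = TT ω := by
  obtain ⟨g, hg⟩ := gen_conj x
  exact ⟨g • (0 : Fin 3510), by rw [TT_eq g _ rfl, hg]⟩

/-! ### the checks, unpacked -/

theorem chk (k : Fin 3510) : reachOk (k * 16) = true ∧ fixOk (k * 16) = true ∧ y11Ok (k * 16) = true ∧
    sigOk (k * 16) = true ∧ genOk (k * 16) = true ∧ relOk (k * 16) = true := by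
  have h := Cfsg.Agent.Lib.helper19_Fi22OutDef.all_ok k k.2
  simp only [allOk, Bool.and_eq_true] at h
  exact h

/-- the element of order 11 -/
noncomputable def Y : G := W ys

/-- the point `16`, fixed by `Y` -/
abbrev p0 : Fin 3510 := ⟨16, by norm_num⟩

/-- the point `741` -/
abbrev τ : Fin 3510 := ⟨741, by norm_num⟩

theorem ystep_Y (m : ℕ) (k : Fin 3510) :
    itr ystep m (k * 16) = ((Y ^ m • k : Fin 3510) : ℕ) * 16 :=
  itr_W ystep ys ystep_eq m k

theorem ystep_Y1 (k : Fin 3510) : ystep (k * 16) = ((Y • k : Fin 3510) : ℕ) * 16 := by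
  have := ystep_Y 1 k
  rwa [pow_one] at this

theorem Y_pow : Y ^ 11 = 1 := by
  apply eq_one_of_smul
  intro k
  apply fin_eq_of_off
  rw [← ystep_Y]
  exact Nat.eq_of_beq_eq_true (chk k).2.2.1

theorem Y_p0 : Y • p0 = p0 := by
  apply fin_eq_of_off
  rw [← ystep_Y1]
  exact ystep_p0

theorem Y_uniq (ω : Fin 3510) (h : Y • ω = ω) : ω = p0 := by
  have h1 := (chk ω).2.1
  simp only [fixOk, Bool.or_eq_true, Bool.not_eq_true'] at h1
  rcases h1 with h1 | h1
  · exact fin_eq_of_off (Nat.eq_of_beq_eq_true h1)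
  · exfalso
    apply Nat.ne_of_beq_eq_false h1
    rw [ystep_Y1, h]

theorem Y_ne_one : Y ≠ 1 := by
  intro h
  have h1 := ystep_Y1 0
  rw [h, one_smul] at h1
  have h2 : ystep 0 = 0 := h1
  rw [ystep_0] at h2
  exact absurd h2 (by norm_num)

instance fact11 : Fact (Nat.Prime 11) := ⟨by norm_num⟩

theorem orderOf_Y : orderOf Y = 11 :=
  orderOf_eq_prime (p := 11) Y_pow Y_ne_one

/-! ### commuting patterns -/

theorem a_fix_iff (q : Fin 3510) :
    Nat.beq (nxt 65535 cA (q * 16)) (q * 16) = true ↔ A • q = q := by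
  have h := gen_smul .a q
  constructor
  · intro h1
    apply fin_eq_of_off
    rw [h]
    exact Nat.eq_of_beq_eq_true h1
  · intro h1
    rw [h1] at h
    have h2 : nxt 65535 cA (q * 16) = q * 16 := h.symm
    rw [h2]
    exact Nat.beq_refl _

theorem fixT_iff (k' k : Fin 3510) : fixT (k' * 16) (k * 16) = true ↔ TT k' • k = k := by
  obtain ⟨u, hu⟩ : ∃ u, u = dword 40 ((k' : ℕ) * 16) := ⟨_, rfl⟩
  have hreach : walk 65535 col u (k' * 16) = 0 := by
    rw [hu, ← pwe_eq]
    exact Nat.eq_of_beq_eq_true (chk k').1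
  have h0 : W u • k' = (0 : Fin 3510) := by
    apply fin_eq_of_off
    rw [← walk_W, hreach]
    rfl
  have hg' : (W u)⁻¹ • (0 : Fin 3510) = k' := by rw [← h0, inv_smul_smul]
  have h1 := fix_iff_of_rep rr_spec comm_of_fix k k' (W u)⁻¹ hg'
  rw [inv_inv] at h1
  rw [h1]
  unfold fixT
  rw [pwq_eq, ← hu, walk_W u k]
  exact a_fix_iff _

theorem pat_iff (ω : Fin 3510) (i : ℕ) : pat (ω * 16) i = true ↔ TT (Y ^ i • ω) • ω = ω := by
  unfold pat
  rw [ystep_Y]
  exact fixT_iff _ _

theorem pat_iff_false (ω : Fin 3510) (i : ℕ) : pat (ω * 16) i = false ↔ ¬ TT (Y ^ i • ω) • ω = ω := by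
  rw [← pat_iff, Bool.not_eq_true]

/-! ### the conjugates `d` and `t` -/

theorem TT_p0 : TT p0 = gen .d := by
  obtain ⟨u, hu⟩ : ∃ u : List (Fi22.Gen × Bool),
      u = [(.b, true), (.a, true), (.c, true), (.b, true), (.d, true), (.c, true)] := ⟨_, rfl⟩
  have h0 : W u • (0 : Fin 3510) = p0 := by
    apply fin_eq_of_off
    rw [← walk_W, hu]
    exact d_0
  rw [TT_eq _ _ h0]
  have hW : W u = gen .c * gen .d * (gen .b * gen .c) * (gen .a * gen .b) := by
    simp only [hu, W_cons, W_nil, one_mul, mul_assoc]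
  rw [hW]
  have hb := gen_braid .a .b (by decide)
  have hc := gen_braid .b .c (by decide)
  have hd := gen_braid .c .d (by decide)
  calc gen .c * gen .d * (gen .b * gen .c) * (gen .a * gen .b) * gen .a *
        (gen .c * gen .d * (gen .b * gen .c) * (gen .a * gen .b))⁻¹
      = (gen .c * gen .d) * ((gen .b * gen .c) * ((gen .a * gen .b) * gen .a * (gen .a * gen .b)⁻¹) *
          (gen .b * gen .c)⁻¹) * (gen .c * gen .d)⁻¹ := by group
    _ = gen .d := by rw [← hb, ← hc, ← hd]

/-- the conjugate of `a` attached to the point `741`, as a word -/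
noncomputable def Tt : G := W ts

theorem us_zero : W us • (0 : Fin 3510) = τ := by
  apply fin_eq_of_off
  rw [← walk_W]
  exact us_0

theorem Tt_eq : Tt = TT τ := by
  rw [TT_eq _ _ us_zero]
  unfold Tt
  rw [ts_eq, W_append, W_append, W_single, W_reverse, mul_assoc]

theorem tstep_T (k : Fin 3510) : tstep (k * 16) = ((TT τ • k : Fin 3510) : ℕ) * 16 := by
  rw [tstep_eq, walk_W, ← Tt_eq, Tt]

theorem dstep_D (m : ℕ) (k : Fin 3510) :
    itr dstep m (k * 16) = (((gen .d) ^ m • k : Fin 3510) : ℕ) * 16 := by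
  have h := itr_W dstep [(.d, true)] (fun _ => rfl) m k
  rwa [W_single] at h

/-! ### generation -/

theorem closure_top : Subgroup.closure ({Y, TT τ} : Set G) = ⊤ := by
  obtain ⟨K, hK⟩ : ∃ K : Subgroup G, K = Subgroup.closure ({Y, TT τ} : Set G) := ⟨_, rfl⟩
  rw [← hK]
  have hY : Y ∈ K := hK ▸ Subgroup.subset_closure (by simp)
  have hT : TT τ ∈ K := hK ▸ Subgroup.subset_closure (by simp)
  have key : ∀ m : ℕ, ∀ k : Fin 3510, nxt 65535 rk2 (k * 16) = m → TT k ∈ K := by
    intro m
    induction m using Nat.strong_induction_on with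
    | _ m ih =>
      intro k hk
      have h := (chk k).2.2.2.2.1
      simp only [genOk, Bool.or_eq_true, Nat.blt_eq] at h
      rcases h with h | h | h
      · have hkτ : k = τ := fin_eq_of_off (Nat.eq_of_beq_eq_true h)
        rw [hkτ]
        exact hT
      · rw [ystep_Y1, hk] at h
        have h1 := ih _ h (Y • k) rfl
        rw [TT_smul] at h1
        have h2 := K.mul_mem (K.mul_mem (K.inv_mem hY) h1) hY
        have h3 : Y⁻¹ * (Y * TT k * Y⁻¹) * Y = TT k := by group
        rwa [h3] at h2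
      · rw [tstep_T, hk] at h
        have h1 := ih _ h (TT τ • k) rfl
        rw [TT_smul] at h1
        have h2 := K.mul_mem (K.mul_mem (K.inv_mem hT) h1) hT
        have h3 : (TT τ)⁻¹ * (TT τ * TT k * (TT τ)⁻¹) * TT τ = TT k := by group
        rwa [h3] at h2
  rw [eq_top_iff, ← PresentedGroup.closure_range_of RELS, Subgroup.closure_le]
  rintro _ ⟨x, rfl⟩
  obtain ⟨ω, hω⟩ := gen_eq_TT x
  show gen x ∈ K
  rw [hω]
  exact key _ ω rfl

/-! ### the centre -/

theorem center_triv (z : G) (hz : ∀ g : G, z * g = g * z) : z = 1 := by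
  have h0 : z • (0 : Fin 3510) = 0 := fix_of_comm z (hz A)
  have h1 := central_trivial rhoX transX z (fun g => (hz g).symm) h0
  apply rhoX_inj
  rw [h1, map_one]

/-! ### the signature condition -/

theorem sig (ω : Fin 3510)
    (h : ∀ i ∈ ({1, 2, 3, 4, 5} : Finset ℕ),
      (TT (Y ^ i • ω) • ω = ω ↔ TT (Y ^ i • τ) • τ = τ)) :
    ∃ k e : ℕ, ω = (Y ^ k * (TT p0) ^ e) • τ := by
  obtain ⟨t1, t2, t3, t4, t5⟩ := pat_tau
  have q1 : pat (ω * 16) 1 = false := by
    rw [pat_iff_false, h 1 (by decide), ← pat_iff_false]; exact t1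
  have q2 : pat (ω * 16) 2 = true := by
    rw [pat_iff, h 2 (by decide), ← pat_iff]; exact t2
  have q3 : pat (ω * 16) 3 = true := by
    rw [pat_iff, h 3 (by decide), ← pat_iff]; exact t3
  have q4 : pat (ω * 16) 4 = false := by
    rw [pat_iff_false, h 4 (by decide), ← pat_iff_false]; exact t4
  have q5 : pat (ω * 16) 5 = true := by
    rw [pat_iff, h 5 (by decide), ← pat_iff]; exact t5
  have hs := (chk ω).2.2.2.1
  simp only [sigOk, q1, q2, q3, q4, q5, Bool.not_true, Bool.or_false, Bool.or_self] at hs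
  unfold in22 at hs
  rw [List.any_eq_true] at hs
  obtain ⟨p, hp, hx⟩ := hs
  have hx' : (ω : ℕ) * 16 = p.1 := Nat.eq_of_beq_eq_true hx
  have hok := L22_ok
  rw [List.all_eq_true] at hok
  have h2 := Nat.eq_of_beq_eq_true (hok p hp)
  refine ⟨p.2.1, p.2.2, ?_⟩
  apply fin_eq_of_off
  have e0 : (11856 : ℕ) = ((τ : Fin 3510) : ℕ) * 16 := by norm_num
  rw [hx', ← h2, e0, dstep_D, ystep_Y, mul_smul, TT_p0]

/-! ### rigidity and the centraliser of `Y` -/

theorem rigid : (∀ c : G, c * Y = Y * c → ∃ k e : ℕ, c = Y ^ k * (TT p0) ^ e) ∧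
    (∀ α : MulAut G, α Y = Y → ∃ c : G, c * Y = Y * c ∧ α (TT τ) = c * TT τ * c⁻¹) :=
  main rr_spec comm_of_fix fix_of_comm a_sq a_ne_one Y p0 τ 11 ⟨5, by norm_num⟩ Y_pow Y_p0 Y_uniq
    closure_top center_triv {1, 2, 3, 4, 5} sig

theorem D_comm : gen .d * Y = Y * gen .d := by
  have h := TT_smul Y p0
  rw [Y_p0, TT_p0] at h
  calc gen .d * Y = (Y * gen .d * Y⁻¹) * Y := by rw [← h]
    _ = Y * gen .d := by group

theorem D_ne_one : gen .d ≠ 1 := by
  intro h
  have h1 := gen_smul .d ⟨3, by norm_num⟩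
  rw [h, one_smul] at h1
  exact d_3 h1.symm

theorem orderOf_D : orderOf (gen .d) = 2 :=
  orderOf_eq_prime (p := 2) (by rw [pow_two]; exact gen_sq .d) D_ne_one

theorem orderOf_YD : orderOf (Y * gen .d) = 22 := by
  have hc : Commute Y (gen .d) := D_comm.symm
  rw [hc.orderOf_mul_eq_mul_orderOf_of_coprime (by rw [orderOf_Y, orderOf_D]; norm_num),
    orderOf_Y, orderOf_D]

theorem centralizer_eq : Subgroup.centralizer ({Y} : Set G) = Subgroup.zpowers (Y * gen .d) := by
  apply le_antisymm
  · intro c hc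
    rw [Subgroup.mem_centralizer_iff] at hc
    have hcy : c * Y = Y * c := (hc Y rfl).symm
    obtain ⟨k, e, hke⟩ := rigid.1 c hcy
    rw [TT_p0] at hke
    rw [hke]
    have hpow : (Y * gen .d) ^ (12 * k + 11 * e) = Y ^ k * gen .d ^ e := by
      have hc : Commute Y (gen .d) := D_comm.symm
      rw [hc.mul_pow]
      have h1 : Y ^ (12 * k + 11 * e) = Y ^ k := by
        have : 12 * k + 11 * e = k + 11 * (k + e) := by ring
        rw [this, pow_add, pow_mul, Y_pow, one_pow, mul_one]
      have h2 : gen .d ^ (12 * k + 11 * e) = gen .d ^ e := by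
        have : 12 * k + 11 * e = e + 2 * (6 * k + 5 * e) := by ring
        rw [this, pow_add, pow_mul, pow_two, gen_sq, one_pow, mul_one]
      rw [h1, h2]
    rw [← hpow]
    exact Subgroup.pow_mem _ (Subgroup.mem_zpowers _) _
  · rw [Subgroup.zpowers_le, Subgroup.mem_centralizer_iff]
    intro x hx
    rw [Set.mem_singleton_iff] at hx
    subst hx
    rw [mul_assoc, D_comm]

theorem card_centralizer : Nat.card (Subgroup.centralizer ({Y} : Set G)) = 22 := by
  rw [centralizer_eq, Nat.card_zpowers, orderOf_YD]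

/-! ### the diagram automorphism -/

/-- the flip of the diagram `Y332` -/
def flipG : Fi22.Gen → Fi22.Gen
  | .a => .g
  | .b => .f
  | .c => .e
  | .d => .d
  | .e => .c
  | .f => .b
  | .g => .a
  | .h => .h
  | .i => .i

theorem flipG_flipG (x : Fi22.Gen) : flipG (flipG x) = x := by cases x <;> rfl

theorem label_flipG (x y : Fi22.Gen) :
    coxLabel Fi22.edges (flipG x) (flipG y) = coxLabel Fi22.edges x y := by
  cases x <;> cases y <;> rfl

theorem pow_eq_one_of_itr (f : ℕ → ℕ) (u : List (Fi22.Gen × Bool))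
    (hf : ∀ x, f x = walk 65535 col u x) (m : ℕ)
    (h : ∀ k : Fin 3510, Nat.beq (itr f m (k * 16)) (k * 16) = true) : (W u) ^ m = 1 := by
  apply eq_one_of_smul
  intro k
  apply fin_eq_of_off
  rw [← itr_W f u hf]
  exact Nat.eq_of_beq_eq_true (h k)

theorem relOk' (k : Fin 3510) : Nat.beq (itr r1step 10 (k * 16)) (k * 16) = true ∧
    Nat.beq (itr r2step 9 (k * 16)) (k * 16) = true ∧ Nat.beq (itr r3step 9 (k * 16)) (k * 16) = true := by
  have h := (chk k).2.2.2.2.2
  simp only [relOk, Bool.and_eq_true] at h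
  exact h

theorem frel1 : (gen .d * gen .e * gen .f * gen .d * gen .c * gen .b * gen .d * gen .h * gen .i) ^ 10 = 1 := by
  have h := pow_eq_one_of_itr r1step r1 r1step_eq 10 (fun k => (relOk' k).1)
  have hW : W r1 = gen .d * gen .e * gen .f * gen .d * gen .c * gen .b * gen .d * gen .h * gen .i := by
    simp only [r1, W_cons, W_nil, one_mul]
  rwa [hW] at h

theorem frel2 : (gen .g * gen .f * gen .e * gen .d * gen .c * gen .b * gen .h) ^ 9 = 1 := by
  have h := pow_eq_one_of_itr r2step r2 r2step_eq 9 (fun k => (relOk' k).2.1)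
  have hW : W r2 = gen .g * gen .f * gen .e * gen .d * gen .c * gen .b * gen .h := by
    simp only [r2, W_cons, W_nil, one_mul]
  rwa [hW] at h

theorem frel3 : (gen .f * gen .e * gen .d * gen .c * gen .b * gen .a * gen .h) ^ 9 = 1 := by
  have h := pow_eq_one_of_itr r3step r3 r3step_eq 9 (fun k => (relOk' k).2.2)
  have hW : W r3 = gen .f * gen .e * gen .d * gen .c * gen .b * gen .a * gen .h := by
    simp only [r3, W_cons, W_nil, one_mul]
  rwa [hW] at h

theorem flip_rels : ∀ r ∈ RELS, FreeGroup.lift (fun x => gen (flipG x)) r = 1 := by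
  intro r hr
  rcases hr with hr | hr
  · obtain ⟨x, _, y, _, rfl⟩ := hr
    rw [map_pow, map_mul, FreeGroup.lift_apply_of, FreeGroup.lift_apply_of, ← label_flipG]
    exact cox_rel (flipG x) (flipG y)
  · have hr' : r ∈ Fi22.extra := hr
    simp only [Fi22.extra, List.mem_cons, List.not_mem_nil, or_false] at hr'
    rcases hr' with rfl | rfl | rfl
    · simp only [map_pow, map_mul, FreeGroup.lift_apply_of]
      exact frel1
    · simp only [map_pow, map_mul, FreeGroup.lift_apply_of]
      exact frel2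
    · simp only [map_pow, map_mul, FreeGroup.lift_apply_of]
      exact frel3

/-- the flip as an endomorphism -/
noncomputable def sigma0 : G →* G := PresentedGroup.toGroup flip_rels

theorem sigma0_gen (x : Fi22.Gen) : sigma0 (gen x) = gen (flipG x) :=
  PresentedGroup.toGroup.of flip_rels

theorem sigma0_sigma0 (x : G) : sigma0 (sigma0 x) = x := by
  have h : sigma0.comp sigma0 = MonoidHom.id G := by
    apply PresentedGroup.ext
    intro x
    show sigma0 (sigma0 (gen x)) = gen x
    rw [sigma0_gen, sigma0_gen, flipG_flipG]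
  exact DFunLike.congr_fun h x

/-- the flip as an automorphism -/
noncomputable def sigmaE : MulAut G :=
  { toFun := sigma0
    invFun := sigma0
    left_inv := sigma0_sigma0
    right_inv := sigma0_sigma0
    map_mul' := sigma0.map_mul }

theorem sigmaE_apply (x : G) : sigmaE x = sigma0 x := rfl

/-! ### the automorphism inverting `Y` -/

/-- the involution `b f d i` -/
noncomputable def Q : G := gen .b * gen .f * gen .d * gen .i

theorem Q_sq : Q * Q = 1 := by
  have hbf : Commute (gen .b) (gen .f) := gen_comm .b .f (by decide)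
  have hbd : Commute (gen .b) (gen .d) := gen_comm .b .d (by decide)
  have hbi : Commute (gen .b) (gen .i) := gen_comm .b .i (by decide)
  have hfd : Commute (gen .f) (gen .d) := gen_comm .f .d (by decide)
  have hfi : Commute (gen .f) (gen .i) := gen_comm .f .i (by decide)
  have hdi : Commute (gen .d) (gen .i) := gen_comm .d .i (by decide)
  have h1 : Commute (gen .b * gen .f) (gen .d) := hbd.mul_left hfd
  have h2 : Commute (gen .b * gen .f * gen .d) (gen .i) := (hbi.mul_left hfi).mul_left hdi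
  have sq : ∀ x : Fi22.Gen, gen x ^ 2 = 1 := fun x => by rw [pow_two]; exact gen_sq x
  unfold Q
  rw [← pow_two, h2.mul_pow, h1.mul_pow, hbf.mul_pow, sq, sq, sq, sq]
  simp

theorem Q_inv : Q⁻¹ = Q := inv_eq_of_mul_eq_one_left Q_sq

theorem sigma0_Q : sigma0 Q = Q := by
  have hbf : gen .b * gen .f = gen .f * gen .b := gen_comm .b .f (by decide)
  unfold Q
  rw [map_mul, map_mul, map_mul, sigma0_gen, sigma0_gen, sigma0_gen, sigma0_gen]
  show gen .f * gen .b * gen .d * gen .i = gen .b * gen .f * gen .d * gen .i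
  rw [hbf]

/-- the outer automorphism inverting `Y` -/
noncomputable def sigma : MulAut G := MulAut.conj Q * sigmaE

theorem sigma_apply (x : G) : sigma x = Q * sigma0 x * Q⁻¹ := rfl

theorem sigma_sq : sigma * sigma = 1 := by
  apply MulEquiv.ext
  intro x
  rw [MulAut.mul_apply, sigma_apply, sigma_apply, map_mul, map_mul, map_inv, sigma0_Q, sigma0_sigma0,
    MulAut.one_apply, Q_inv]
  calc Q * (Q * x * Q) * Q = (Q * Q) * x * (Q * Q) := by group
    _ = x := by rw [Q_sq, one_mul, mul_one]

/-- the word `c d h d e f a` -/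
noncomputable def wv : G := gen .c * gen .d * gen .h * gen .d * gen .e * gen .f * gen .a

/-- its flip -/
noncomputable def swv : G := gen .e * gen .d * gen .h * gen .d * gen .c * gen .b * gen .g

theorem sigma0_wv : sigma0 wv = swv := by
  unfold wv swv
  simp only [map_mul, sigma0_gen, flipG]

theorem Y_eq : Y = Q * swv * Q⁻¹ * wv⁻¹ := by
  simp only [Y, ys, W_cons, W_nil, one_mul, Q, swv, wv, mul_inv_rev, gen_inv, mul_assoc]

theorem inv_lemma {M : Type*} [Group M] (q w s : M) (hq : q * q = 1) :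
    q * (q * w * q⁻¹ * s⁻¹) * q⁻¹ = (q * s * q⁻¹ * w⁻¹)⁻¹ := by
  have hqi : q⁻¹ = q := inv_eq_of_mul_eq_one_left hq
  simp only [mul_inv_rev, inv_inv, hqi, mul_assoc]
  rw [← mul_assoc q q, hq, one_mul]

theorem sigma_Y : sigma Y = Y⁻¹ := by
  have h1 : sigma0 swv = wv := by rw [← sigma0_wv, sigma0_sigma0]
  rw [sigma_apply]
  nth_rewrite 1 [Y_eq]
  rw [map_mul, map_mul, map_mul, map_inv, map_inv, sigma0_Q, h1, sigma0_wv, Y_eq]
  exact inv_lemma Q wv swv Q_sq

/-! ### the result -/

theorem card_out : Nat.card (Out G) = 2 := by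
  have hcard : Nat.card G = 11 * 5869250150400 := by rw [card_eq]
  have hsyl : ∀ m', m' ∣ 11 - 1 → (Nat.card G / (22 * m')) % 11 = 1 → m' = 5 := by
    intro m' hm hmod
    rw [card_eq] at hmod
    have hle : m' ≤ 10 := Nat.le_of_dvd (by norm_num) hm
    interval_cases m' <;> omega
  exact Cfsg.Agent.Lib.helper19_OutSylow.card_out_eq_two 11 (s := 5869250150400) (c0 := 22) (m := 5)
    hcard (by norm_num) Y (TT τ) orderOf_Y closure_top card_centralizer (by norm_num) (by norm_num)
    hsyl sigma sigma_sq sigma_Y rigid.2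

end Cfsg.Agent.Lib.helper19_Fi22Out
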