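import Cfsg.Agent.Lib.helper19_Fi23OutDef

/-!
# The pointwise checks for `Out(Fi23)` on the points 0 ≤ k < 15840 (helper19)
-/

set_option autoImplicit false
set_option Elab.async false
set_option maxRecDepth 100000

namespace Cfsg.Agent.Lib.helper19_Fi23OutDef

open Cfsg.Agent.Lib.Helper28_CosetPerm


theorem okAr0 : allRange allOk 20 0 990 = true := by decide +kernel
theorem okAu0 : ∀ k, 0 ≤ k → k < 990 → allOk (k * 20) = true := between_extend allOk 20 0 0 990 (between_start allOk 20 0) okAr0

theorem okAr1 : allRange allOk 20 990 990 = true := by decide +kernel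
theorem okAu1 : ∀ k, 0 ≤ k → k < 1980 → allOk (k * 20) = true := between_extend allOk 20 0 990 990 okAu0 okAr1

theorem okAr2 : allRange allOk 20 1980 990 = true := by decide +kernel
theorem okAu2 : ∀ k, 0 ≤ k → k < 2970 → allOk (k * 20) = true := between_extend allOk 20 0 1980 990 okAu1 okAr2

theorem okAr3 : allRange allOk 20 2970 990 = true := by decide +kernel
theorem okAu3 : ∀ k, 0 ≤ k → k < 3960 → allOk (k * 20) = true := between_extend allOk 20 0 2970 990 okAu2 okAr3

theorem okAr4 : allRange allOk 20 3960 990 = true := by decide +kernel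
theorem okAu4 : ∀ k, 0 ≤ k → k < 4950 → allOk (k * 20) = true := between_extend allOk 20 0 3960 990 okAu3 okAr4

theorem okAr5 : allRange allOk 20 4950 990 = true := by decide +kernel
theorem okAu5 : ∀ k, 0 ≤ k → k < 5940 → allOk (k * 20) = true := between_extend allOk 20 0 4950 990 okAu4 okAr5

theorem okAr6 : allRange allOk 20 5940 990 = true := by decide +kernel
theorem okAu6 : ∀ k, 0 ≤ k → k < 6930 → allOk (k * 20) = true := between_extend allOk 20 0 5940 990 okAu5 okAr6

theorem okAr7 : allRange allOk 20 6930 990 = true := by decide +kernel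
theorem okAu7 : ∀ k, 0 ≤ k → k < 7920 → allOk (k * 20) = true := between_extend allOk 20 0 6930 990 okAu6 okAr7

theorem okAr8 : allRange allOk 20 7920 990 = true := by decide +kernel
theorem okAu8 : ∀ k, 0 ≤ k → k < 8910 → allOk (k * 20) = true := between_extend allOk 20 0 7920 990 okAu7 okAr8

theorem okAr9 : allRange allOk 20 8910 990 = true := by decide +kernel
theorem okAu9 : ∀ k, 0 ≤ k → k < 9900 → allOk (k * 20) = true := between_extend allOk 20 0 8910 990 okAu8 okAr9

theorem okAr10 : allRange allOk 20 9900 990 = true := by decide +kernel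
theorem okAu10 : ∀ k, 0 ≤ k → k < 10890 → allOk (k * 20) = true := between_extend allOk 20 0 9900 990 okAu9 okAr10

theorem okAr11 : allRange allOk 20 10890 990 = true := by decide +kernel
theorem okAu11 : ∀ k, 0 ≤ k → k < 11880 → allOk (k * 20) = true := between_extend allOk 20 0 10890 990 okAu10 okAr11

theorem okAr12 : allRange allOk 20 11880 990 = true := by decide +kernel
theorem okAu12 : ∀ k, 0 ≤ k → k < 12870 → allOk (k * 20) = true := between_extend allOk 20 0 11880 990 okAu11 okAr12

theorem okAr13 : allRange allOk 20 12870 990 = true := by decide +kernel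
theorem okAu13 : ∀ k, 0 ≤ k → k < 13860 → allOk (k * 20) = true := between_extend allOk 20 0 12870 990 okAu12 okAr13

theorem okAr14 : allRange allOk 20 13860 990 = true := by decide +kernel
theorem okAu14 : ∀ k, 0 ≤ k → k < 14850 → allOk (k * 20) = true := between_extend allOk 20 0 13860 990 okAu13 okAr14

theorem okAr15 : allRange allOk 20 14850 990 = true := by decide +kernel
theorem okAu15 : ∀ k, 0 ≤ k → k < 15840 → allOk (k * 20) = true := between_extend allOk 20 0 14850 990 okAu14 okAr15

theorem okA : ∀ k, 0 ≤ k → k < 15840 → allOk (k * 20) = true := okAu15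

end Cfsg.Agent.Lib.helper19_Fi23OutDef
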