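import Cfsg.Agent.Lib.helper19_Fi23OutDef

/-!
# The pointwise checks for `Out(Fi23)` on the points 15840 ≤ k < 31671 (helper19)
-/

set_option autoImplicit false
set_option Elab.async false
set_option maxRecDepth 100000

namespace Cfsg.Agent.Lib.helper19_Fi23OutDef

open Cfsg.Agent.Lib.Helper28_CosetPerm


theorem okBr0 : allRange allOk 20 15840 990 = true := by decide +kernel
theorem okBu0 : ∀ k, 15840 ≤ k → k < 16830 → allOk (k * 20) = true := between_extend allOk 20 15840 15840 990 (between_start allOk 20 15840) okBr0

theorem okBr1 : allRange allOk 20 16830 990 = true := by decide +kernel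
theorem okBu1 : ∀ k, 15840 ≤ k → k < 17820 → allOk (k * 20) = true := between_extend allOk 20 15840 16830 990 okBu0 okBr1

theorem okBr2 : allRange allOk 20 17820 990 = true := by decide +kernel
theorem okBu2 : ∀ k, 15840 ≤ k → k < 18810 → allOk (k * 20) = true := between_extend allOk 20 15840 17820 990 okBu1 okBr2

theorem okBr3 : allRange allOk 20 18810 990 = true := by decide +kernel
theorem okBu3 : ∀ k, 15840 ≤ k → k < 19800 → allOk (k * 20) = true := between_extend allOk 20 15840 18810 990 okBu2 okBr3

theorem okBr4 : allRange allOk 20 19800 990 = true := by decide +kernel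
theorem okBu4 : ∀ k, 15840 ≤ k → k < 20790 → allOk (k * 20) = true := between_extend allOk 20 15840 19800 990 okBu3 okBr4

theorem okBr5 : allRange allOk 20 20790 990 = true := by decide +kernel
theorem okBu5 : ∀ k, 15840 ≤ k → k < 21780 → allOk (k * 20) = true := between_extend allOk 20 15840 20790 990 okBu4 okBr5

theorem okBr6 : allRange allOk 20 21780 990 = true := by decide +kernel
theorem okBu6 : ∀ k, 15840 ≤ k → k < 22770 → allOk (k * 20) = true := between_extend allOk 20 15840 21780 990 okBu5 okBr6

theorem okBr7 : allRange allOk 20 22770 990 = true := by decide +kernel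
theorem okBu7 : ∀ k, 15840 ≤ k → k < 23760 → allOk (k * 20) = true := between_extend allOk 20 15840 22770 990 okBu6 okBr7

theorem okBr8 : allRange allOk 20 23760 990 = true := by decide +kernel
theorem okBu8 : ∀ k, 15840 ≤ k → k < 24750 → allOk (k * 20) = true := between_extend allOk 20 15840 23760 990 okBu7 okBr8

theorem okBr9 : allRange allOk 20 24750 990 = true := by decide +kernel
theorem okBu9 : ∀ k, 15840 ≤ k → k < 25740 → allOk (k * 20) = true := between_extend allOk 20 15840 24750 990 okBu8 okBr9

theorem okBr10 : allRange allOk 20 25740 990 = true := by decide +kernel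
theorem okBu10 : ∀ k, 15840 ≤ k → k < 26730 → allOk (k * 20) = true := between_extend allOk 20 15840 25740 990 okBu9 okBr10

theorem okBr11 : allRange allOk 20 26730 990 = true := by decide +kernel
theorem okBu11 : ∀ k, 15840 ≤ k → k < 27720 → allOk (k * 20) = true := between_extend allOk 20 15840 26730 990 okBu10 okBr11

theorem okBr12 : allRange allOk 20 27720 990 = true := by decide +kernel
theorem okBu12 : ∀ k, 15840 ≤ k → k < 28710 → allOk (k * 20) = true := between_extend allOk 20 15840 27720 990 okBu11 okBr12

theorem okBr13 : allRange allOk 20 28710 990 = true := by decide +kernel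
theorem okBu13 : ∀ k, 15840 ≤ k → k < 29700 → allOk (k * 20) = true := between_extend allOk 20 15840 28710 990 okBu12 okBr13

theorem okBr14 : allRange allOk 20 29700 990 = true := by decide +kernel
theorem okBu14 : ∀ k, 15840 ≤ k → k < 30690 → allOk (k * 20) = true := between_extend allOk 20 15840 29700 990 okBu13 okBr14

theorem okBr15 : allRange allOk 20 30690 981 = true := by decide +kernel
theorem okBu15 : ∀ k, 15840 ≤ k → k < 31671 → allOk (k * 20) = true := between_extend allOk 20 15840 30690 981 okBu14 okBr15

theorem okB : ∀ k, 15840 ≤ k → k < 31671 → allOk (k * 20) = true := okBu15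

end Cfsg.Agent.Lib.helper19_Fi23OutDef
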