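import Cfsg.Agent.Lib.helper19_OutSylow

/-!
# A criterion for `Out G = 1` through a cyclic Sylow subgroup (helper19)

`G` is a finite group whose order is divisible by the prime `p` exactly once, generated by an element
`y` of order `p` and an element `t`.  The centraliser of `y` has order `c0`, and Sylow counting
forces `|N_G(⟨y⟩) : C_G(y)| = p - 1`.  If every automorphism fixing `y` maps `t` to a conjugate
under `C_G(y)`, then every automorphism of `G` is inner.
-/

set_option autoImplicit false
open Cfsg

namespace Cfsg.Agent.Lib.helper19_OutSylow1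

open Cfsg.Agent.Lib.helper19_OutSylow

variable {G : Type*} [Group G]

/-- The criterion. -/
theorem card_out_eq_one [Finite G] (p : ℕ) [hp : Fact p.Prime] {s c0 : ℕ}
    (hcard : Nat.card G = p * s) (hs : ¬ p ∣ s)
    (y t : G) (hy : orderOf y = p) (hgen : Subgroup.closure {y, t} = ⊤)
    (hC : Nat.card (Subgroup.centralizer ({y} : Set G)) = c0)
    (hsyl : ∀ m', m' ∣ p - 1 → (Nat.card G / (c0 * m')) % p = 1 → m' = p - 1)
    (hsurv : ∀ α : MulAut G, α y = y → ∃ c : G, c * y = y * c ∧ α t = c * t * c⁻¹) :
    Nat.card (Out G) = 1 := by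
  classical
  have hp1 : 1 < p := hp.out.one_lt
  have hs0 : s ≠ 0 := by
    rintro rfl
    simp at hs
  have hfac : (Nat.card G).factorization p = 1 := by
    rw [hcard, Nat.factorization_mul hp.out.ne_zero hs0]
    have h55 : (Nat.factorization p) p = 1 := Nat.Prime.factorization_self hp.out
    simp [h55, Nat.factorization_eq_zero_of_not_dvd hs]
  set P : Subgroup G := Subgroup.zpowers y with hPdef
  have hyP : y ∈ P := Subgroup.mem_zpowers y
  have hPcard : Nat.card P = p := by rw [Nat.card_zpowers, hy]
  let PS : Sylow p G := Sylow.ofCard P (by rw [hPcard, hfac, pow_one])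
  have hPS : (PS : Subgroup G) = P := rfl
  let N : Subgroup G := Subgroup.normalizer (P : Set G)
  let φ : N →* MulAut P := P.normalizerMonoidHom
  have hφ : ∀ (n : N) (x : P), ((φ n x : P) : G) = (n : G) * x * (n : G)⁻¹ := fun n x => rfl
  have hcent : Subgroup.centralizer (P : Set G) = Subgroup.centralizer ({y} : Set G) := by
    ext g
    rw [Subgroup.mem_centralizer_iff, Subgroup.mem_centralizer_iff]
    constructor
    · intro h x hx
      rw [Set.mem_singleton_iff] at hx
      rw [hx]
      exact h y hyP
    · intro h x hx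
      obtain ⟨k, rfl⟩ := Subgroup.mem_zpowers_iff.mp hx
      have h1 : y * g = g * y := h y rfl
      exact (Commute.zpow_left h1 k).eq
  have hker : Nat.card φ.ker = c0 := by
    rw [Subgroup.normalizerMonoidHom_ker, ← hC, ← hcent]
    exact Nat.card_congr
      (Subgroup.subgroupOfEquivOfLe (Subgroup.centralizer_le_normalizer (P : Set G))).toEquiv
  let I : Subgroup (MulAut P) := φ.range
  have hNcard : Nat.card N = c0 * Nat.card I := by
    have h1 := Subgroup.card_eq_card_quotient_mul_card_subgroup φ.ker
    rw [hker, Nat.card_congr (QuotientGroup.quotientKerEquivRange φ).toEquiv] at h1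
    rw [h1, Nat.mul_comm]
  have : IsCyclic P := by
    rw [hPdef]; infer_instance
  have hAut : Nat.card (MulAut P) = p - 1 := by
    rw [IsCyclic.card_mulAut, hPcard, Nat.totient_prime hp.out]
  have hIdvd : Nat.card I ∣ p - 1 := by
    rw [← hAut]
    exact Subgroup.card_subgroup_dvd_card I
  have hindex : N.index = Nat.card G / (c0 * Nat.card I) := by
    have h1 := Subgroup.index_mul_card N
    rw [hNcard] at h1
    have hpos : 0 < c0 * Nat.card I := by
      rw [← hNcard]; exact Nat.card_pos
    rw [← h1, Nat.mul_div_cancel _ hpos]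
  have hmod : N.index % p = 1 := by
    have h1 : Nat.card (Sylow p G) ≡ 1 [MOD p] := card_sylow_modEq_one p G
    rw [Sylow.card_eq_index_normalizer PS] at h1
    have h1' : N.index ≡ 1 [MOD p] := h1
    have h2 : (1 : ℕ) % p = 1 := Nat.mod_eq_of_lt hp1
    rw [Nat.ModEq, h2] at h1'
    exact h1'
  have hIcard : Nat.card I = p - 1 := hsyl _ hIdvd (by rw [← hindex]; exact hmod)
  have hItop : I = ⊤ := by
    apply Subgroup.eq_top_of_card_eq
    rw [hIcard, hAut]
  -- automorphisms preserving P are inner
  have inner_of_pres : ∀ β : MulAut G, (∀ x, β x ∈ P ↔ x ∈ P) → ∃ g : G, β = MulAut.conj g := by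
    intro β hβ
    have hI : restr P β hβ ∈ I := by rw [hItop]; exact Subgroup.mem_top _
    obtain ⟨n, hn⟩ := hI
    have h1 : (n : G) * y * (n : G)⁻¹ = β y := by
      have := congrArg (fun f : MulAut P => ((f ⟨y, hyP⟩ : P) : G)) hn
      exact this
    set γ : MulAut G := (MulAut.conj (n : G))⁻¹ * β with hγ
    have hγy : γ y = y := by
      rw [hγ, MulAut.mul_apply, ← h1, ← map_inv, MulAut.conj_apply, inv_inv]
      group
    obtain ⟨c, hc, hct⟩ := hsurv γ hγy
    have hδ : (MulAut.conj c)⁻¹ * γ = 1 := by
      apply eq_one_of_fix _ hgen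
      · rw [MulAut.mul_apply, hγy, ← map_inv, MulAut.conj_apply, inv_inv]
        rw [mul_assoc, ← hc, ← mul_assoc, inv_mul_cancel, one_mul]
      · rw [MulAut.mul_apply, hct, ← map_inv, MulAut.conj_apply, inv_inv]
        group
    refine ⟨(n : G) * c, ?_⟩
    have hγ' : γ = MulAut.conj c := by
      rw [← mul_one (MulAut.conj c), ← hδ, mul_inv_cancel_left]
    rw [map_mul, ← hγ', hγ, mul_inv_cancel_left]
  have key : ∀ α : MulAut G, (QuotientGroup.mk α : Out G) = 1 := by
    intro α
    let Q : Sylow p G := Sylow.ofCard (P.map α.toMonoidHom) (by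
      rw [Subgroup.card_map_of_injective α.injective, hPcard, hfac, pow_one])
    obtain ⟨g, hg⟩ := MulAction.exists_smul_eq G PS Q
    set β : MulAut G := MulAut.conj g⁻¹ * α with hβdef
    have hβy : β y ∈ P := by
      have h1 : α y ∈ (Q : Subgroup G) := Subgroup.mem_map_of_mem _ hyP
      rw [← hg, Sylow.coe_subgroup_smul, Subgroup.mem_pointwise_smul_iff_inv_smul_mem] at h1
      have h2 : (MulAut.conj g)⁻¹ • α y = g⁻¹ * α y * g := by
        rw [← map_inv, MulAut.smul_def, MulAut.conj_apply, inv_inv]
      rw [h2] at h1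
      rw [hβdef, MulAut.mul_apply, MulAut.conj_apply, inv_inv]
      exact h1
    have hβP : ∀ x, β x ∈ P ↔ x ∈ P := preserves_zpowers β y hβy
    have hαβ : (QuotientGroup.mk α : Out G) = QuotientGroup.mk β := by
      rw [hβdef, QuotientGroup.mk_mul, mk_conj, one_mul]
    obtain ⟨c, hc⟩ := inner_of_pres β hβP
    rw [hαβ, hc]
    exact mk_conj c
  have hsub : Subsingleton (Out G) := by
    constructor
    intro q q'
    induction q using QuotientGroup.induction_on with
    | H α =>
      induction q' using QuotientGroup.induction_on with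
      | H α' => rw [key α, key α']
  have : Nonempty (Out G) := ⟨1⟩
  exact Nat.card_eq_one_iff_unique.mpr ⟨hsub, inferInstance⟩

end Cfsg.Agent.Lib.helper19_OutSylow1
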