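import Cfsg.Agent.Lib.helper19_Rigid

/-!
# Rigidity with two fixed points (helper19)

Same setting as `helper19_Rigid`: `G` acts transitively on `Ω`, the involution `a` is central in the
stabiliser of `o` and its centraliser is that stabiliser, so that points correspond to the conjugates
`T ω` of `a`; moreover these conjugates form a class of 3-transpositions.  An element `y` of odd order
has exactly two fixed points `p1 ≠ p2`, and the product `T p1 * T p2` is not a "6-transposition".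
If the points with the signature of `τ` are exactly the images of `τ` under `⟨y, T p1, T p2⟩`, and
`G = ⟨y, T τ⟩` has trivial centre, then the centraliser of `y` is `⟨y, T p1, T p2⟩` and every
automorphism fixing `y` maps `T τ` to a conjugate under this centraliser.
-/

set_option autoImplicit false
set_option linter.unusedSectionVars false
set_option linter.unusedSimpArgs false

namespace Cfsg.Agent.Lib.helper19_Rigid2

open Cfsg.Agent.Lib.helper19_Rigid

variable {G : Type*} [Group G] {Ω : Type*} [MulAction G Ω]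
variable {o : Ω} {a : G} {r : Ω → G}

section Basic

variable (hr : ∀ ω, r ω • o = ω) (H2 : ∀ h : G, h • o = o → h * a = a * h)
  (H3 : ∀ g : G, g * a = a * g → g • o = o)

include hr H3 in
theorem T_inj (ω ω' : Ω) (h : T a r ω = T a r ω') : ω = ω' := by
  unfold T at h
  have h1 : ((r ω)⁻¹ * r ω') * a = a * ((r ω)⁻¹ * r ω') := by
    calc ((r ω)⁻¹ * r ω') * a = (r ω)⁻¹ * (r ω' * a * (r ω')⁻¹) * r ω' := by group
      _ = (r ω)⁻¹ * (r ω * a * (r ω)⁻¹) * r ω' := by rw [h]
      _ = a * ((r ω)⁻¹ * r ω') := by group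
  have h2 := H3 _ h1
  rw [mul_smul, hr ω'] at h2
  have h3 : r ω • (r ω)⁻¹ • ω' = r ω • o := by rw [h2]
  rw [smul_inv_smul, hr ω] at h3
  exact h3.symm

include hr H2 in
theorem T_base : T a r o = a := by
  rw [T_eq hr H2 1 o (one_smul _ _)]
  group

theorem T_sq (ha2 : a * a = 1) (ω : Ω) : T a r ω * T a r ω = 1 := by
  unfold T
  calc r ω * a * (r ω)⁻¹ * (r ω * a * (r ω)⁻¹) = r ω * (a * a) * (r ω)⁻¹ := by group
    _ = 1 := by rw [ha2]; group

theorem T_ne_one (ha1 : a ≠ 1) (ω : Ω) : T a r ω ≠ 1 := by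
  intro h
  apply ha1
  unfold T at h
  calc a = (r ω)⁻¹ * (r ω * a * (r ω)⁻¹) * r ω := by group
    _ = 1 := by rw [h]; group

include hr H2 in
/-- a point fixed by `g` gives a conjugate commuting with `g` -/
theorem comm_of_fixed (g : G) (ω : Ω) (h : g • ω = ω) : T a r ω * g = g * T a r ω := by
  have h1 : T a r (g • ω) = g * T a r ω * g⁻¹ := T_smul hr H2 g ω
  rw [h] at h1
  calc T a r ω * g = (g * T a r ω * g⁻¹) * g := by rw [← h1]
    _ = g * T a r ω := by group

include hr H2 in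
/-- the 3-transposition property gives sixth powers -/
theorem six (ha2 : a * a = 1) (h3t : ∀ ω, a • ω = ω ∨ a • ω = T a r ω • o) (ω ω' : Ω) :
    (T a r ω * T a r ω') ^ 6 = 1 := by
  obtain ⟨g, hg⟩ : ∃ g : G, g = r ω := ⟨_, rfl⟩
  have hgo : g • o = ω := by rw [hg]; exact hr ω
  obtain ⟨ω'', hω''⟩ : ∃ ω'' : Ω, ω'' = g⁻¹ • ω' := ⟨_, rfl⟩
  have hω' : ω' = g • ω'' := by rw [hω'', smul_inv_smul]
  have hT1 : T a r ω = g * a * g⁻¹ := T_eq hr H2 g ω hgo
  have hT2 : T a r ω' = g * T a r ω'' * g⁻¹ := by rw [hω']; exact T_smul hr H2 g ω''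
  obtain ⟨t, ht⟩ : ∃ t : G, t = T a r ω'' := ⟨_, rfl⟩
  have ht2 : t * t = 1 := by rw [ht]; exact T_sq ha2 ω''
  have key : (a * t) ^ 6 = 1 := by
    rcases h3t ω'' with h | h
    · have hc : t * a = a * t := by rw [ht]; exact comm_of_fixed hr H2 a ω'' h
      have h2 : (a * t) ^ 2 = 1 := by
        rw [pow_two]
        calc a * t * (a * t) = a * (t * a) * t := by group
          _ = a * (a * t) * t := by rw [hc]
          _ = (a * a) * (t * t) := by group
          _ = 1 := by rw [ha2, ht2, one_mul]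
      calc (a * t) ^ 6 = ((a * t) ^ 2) ^ 3 := by rw [← pow_mul]
        _ = 1 := by rw [h2, one_pow]
    · have e1 : T a r (a • ω'') = a * t * a⁻¹ := by rw [ht]; exact T_smul hr H2 a ω''
      have e2 : T a r (t • o) = t * a * t⁻¹ := by
        rw [T_smul hr H2 t o, T_base hr H2]
      rw [← ht] at h
      rw [h, e2] at e1
      have hai : a⁻¹ = a := inv_eq_of_mul_eq_one_left ha2
      have hti : t⁻¹ = t := inv_eq_of_mul_eq_one_left ht2
      rw [hai, hti] at e1
      have h3 : (a * t) ^ 3 = 1 := by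
        calc (a * t) ^ 3 = (a * t * a) * (t * a * t) := by
              rw [pow_succ, pow_two]; group
          _ = (t * a * t) * (t * a * t) := by rw [← e1]
          _ = t * a * (t * t) * a * t := by group
          _ = t * (a * a) * t := by rw [ht2]; group
          _ = 1 := by rw [ha2, mul_one, ht2]
      calc (a * t) ^ 6 = ((a * t) ^ 3) ^ 2 := by rw [← pow_mul]
        _ = 1 := by rw [h3, one_pow]
  rw [hT1, hT2, ← ht]
  have : g * a * g⁻¹ * (g * t * g⁻¹) = g * (a * t) * g⁻¹ := by group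
  rw [this, conj_pow, key]
  group

end Basic

section Main

variable {o : Ω} {a : G} {r : Ω → G}

/-- an involution which is a product of powers of commuting `y` (odd order), `d1`, `d2` -/
theorem invol_cases (y d1 d2 x : G) (n : ℕ) (hn : Odd n) (hyn : y ^ n = 1)
    (c1 : d1 * y = y * d1) (c2 : d2 * y = y * d2) (c12 : d1 * d2 = d2 * d1)
    (hd1 : d1 * d1 = 1) (hd2 : d2 * d2 = 1) (hx2 : x * x = 1)
    (k e1 e2 : ℕ) (hx : x = y ^ k * d1 ^ e1 * d2 ^ e2) :
    x = 1 ∨ x = d1 ∨ x = d2 ∨ x = d1 * d2 := by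
  have hc1 : Commute d1 y := c1
  have hc2 : Commute d2 y := c2
  have hc12 : Commute d1 d2 := c12
  -- the d-part
  obtain ⟨z, hz⟩ : ∃ z : G, z = d1 ^ e1 * d2 ^ e2 := ⟨_, rfl⟩
  have hzz : z * z = 1 := by
    rw [hz]
    have hc : Commute (d1 ^ e1) (d2 ^ e2) := hc12.pow_pow e1 e2
    calc d1 ^ e1 * d2 ^ e2 * (d1 ^ e1 * d2 ^ e2) = d1 ^ e1 * (d2 ^ e2 * d1 ^ e1) * d2 ^ e2 := by group
      _ = d1 ^ e1 * (d1 ^ e1 * d2 ^ e2) * d2 ^ e2 := by rw [hc.eq]
      _ = (d1 ^ e1 * d1 ^ e1) * (d2 ^ e2 * d2 ^ e2) := by group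
      _ = 1 := by
        rw [← pow_add, ← pow_add, ← two_mul, ← two_mul, pow_mul, pow_mul, pow_two, pow_two, hd1, hd2,
          one_pow, one_pow, one_mul]
  have hzy : Commute z y := by
    rw [hz]
    exact (hc1.pow_left e1).mul_left (hc2.pow_left e2)
  have hxe : x = y ^ k * z := by rw [hx, hz, mul_assoc]
  have hyk2 : (y ^ k) ^ 2 = 1 := by
    have hc : Commute (y ^ k) z := (hzy.pow_right k).symm
    have : x * x = (y ^ k) ^ 2 * (z * z) := by
      rw [hxe, pow_two]
      calc y ^ k * z * (y ^ k * z) = y ^ k * (z * y ^ k) * z := by group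
        _ = y ^ k * (y ^ k * z) * z := by rw [hc.eq]
        _ = y ^ k * y ^ k * (z * z) := by group
    rw [hx2, hzz, mul_one] at this
    exact this.symm
  have hykn : (y ^ k) ^ n = 1 := by
    rw [← pow_mul, mul_comm, pow_mul, hyn, one_pow]
  have hyk : y ^ k = 1 := by
    have h2 := orderOf_dvd_of_pow_eq_one hyk2
    have h3 := orderOf_dvd_of_pow_eq_one hykn
    have h4 : orderOf (y ^ k) ∣ Nat.gcd 2 n := Nat.dvd_gcd h2 h3
    have h5 : Nat.gcd 2 n = 1 := by
      obtain ⟨j, hj⟩ := hn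
      rw [hj]
      simp
    rw [h5, Nat.dvd_one] at h4
    exact orderOf_eq_one_iff.mp h4
  rw [hyk, one_mul] at hxe
  rw [hxe, hz]
  have hpow : ∀ (d : G), d * d = 1 → ∀ e : ℕ, d ^ e = 1 ∨ d ^ e = d := by
    intro d hd e
    rcases Nat.even_or_odd e with ⟨j, hj⟩ | ⟨j, hj⟩
    · left
      rw [hj, ← two_mul, pow_mul, pow_two, hd, one_pow]
    · right
      rw [hj, pow_succ, pow_mul, pow_two, hd, one_pow, one_mul]
  rcases hpow d1 hd1 e1 with h1 | h1 <;> rcases hpow d2 hd2 e2 with h2 | h2 <;> rw [h1, h2]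
  · left; rw [one_mul]
  · right; right; left; rw [one_mul]
  · right; left; rw [mul_one]
  · right; right; right; rfl

theorem main2 (hr : ∀ ω, r ω • o = ω) (H2 : ∀ h : G, h • o = o → h * a = a * h)
    (H3 : ∀ g : G, g * a = a * g → g • o = o)
    (ha2 : a * a = 1) (ha1 : a ≠ 1)
    (h3t : ∀ ω, a • ω = ω ∨ a • ω = T a r ω • o)
    (y : G) (p1 p2 τ : Ω) (n : ℕ) (hn : Odd n) (hyn : y ^ n = 1)
    (hp12 : p1 ≠ p2) (hy1 : y • p1 = p1) (hy2 : y • p2 = p2)
    (huniq : ∀ ω, y • ω = ω → ω = p1 ∨ ω = p2)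
    (hex : ∃ h0 : G, ((T a r p1 * T a r p2) * (h0 * (T a r p1 * T a r p2) * h0⁻¹)) ^ 6 ≠ 1)
    (hgen : Subgroup.closure {y, T a r τ} = ⊤)
    (hZ : ∀ z : G, (∀ g, z * g = g * z) → z = 1)
    (I1 I2 : Finset ℕ)
    (hsig : ∀ ω,
      (∀ i ∈ I1, (T a r ω • (y ^ i • ω) = y ^ i • ω ↔ T a r τ • (y ^ i • τ) = y ^ i • τ)) →
      (∀ i ∈ I2, (T a r ω • (y ^ i • (T a r p1 * T a r p2) • ω) = y ^ i • (T a r p1 * T a r p2) • ω ↔
        T a r τ • (y ^ i • (T a r p1 * T a r p2) • τ) = y ^ i • (T a r p1 * T a r p2) • τ)) →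
      ∃ k e1 e2 : ℕ, ω = (y ^ k * (T a r p1) ^ e1 * (T a r p2) ^ e2) • τ) :
    (T a r p1 * y = y * T a r p1 ∧ T a r p2 * y = y * T a r p2 ∧
      T a r p1 * T a r p2 = T a r p2 * T a r p1 ∧ T a r p1 ≠ T a r p2) ∧
    (∀ c : G, c * y = y * c → ∃ k e1 e2 : ℕ, c = y ^ k * (T a r p1) ^ e1 * (T a r p2) ^ e2) ∧
    (∀ α : MulAut G, α y = y → ∃ c : G, c * y = y * c ∧ α (T a r τ) = c * T a r τ * c⁻¹) := by
  have hTs := T_smul hr H2
  have hfix := fix_iff hr H2 H3
  obtain ⟨d1, hd1⟩ : ∃ d1 : G, d1 = T a r p1 := ⟨_, rfl⟩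
  obtain ⟨d2, hd2⟩ : ∃ d2 : G, d2 = T a r p2 := ⟨_, rfl⟩
  rw [← hd1, ← hd2] at hex hsig ⊢
  have c1 : d1 * y = y * d1 := by rw [hd1]; exact comm_of_fixed hr H2 y p1 hy1
  have c2 : d2 * y = y * d2 := by rw [hd2]; exact comm_of_fixed hr H2 y p2 hy2
  have s1 : d1 * d1 = 1 := by rw [hd1]; exact T_sq ha2 p1
  have s2 : d2 * d2 = 1 := by rw [hd2]; exact T_sq ha2 p2
  have n1 : d1 ≠ 1 := by rw [hd1]; exact T_ne_one ha1 p1
  have n2 : d2 ≠ 1 := by rw [hd2]; exact T_ne_one ha1 p2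
  have n12 : d1 ≠ d2 := by
    intro h
    rw [hd1, hd2] at h
    exact hp12 (T_inj hr H3 p1 p2 h)
  -- an element commuting with y permutes {p1, p2}
  have perm_fix : ∀ c : G, c * y = y * c → ∀ p : Ω, y • p = p → (c • p = p1 ∨ c • p = p2) := by
    intro c hc p hp
    apply huniq
    rw [← mul_smul, ← hc, mul_smul, hp]
  -- conjugation by such an element permutes {d1, d2}
  have conj_d : ∀ c : G, c * y = y * c → ∀ p : Ω, y • p = p →
      (c * T a r p * c⁻¹ = d1 ∨ c * T a r p * c⁻¹ = d2) := by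
    intro c hc p hp
    rw [← hTs c p]
    rcases perm_fix c hc p hp with h | h
    · left; rw [h, hd1]
    · right; rw [h, hd2]
  have conj_inj : ∀ c x z : G, c * x * c⁻¹ = c * z * c⁻¹ → x = z := by
    intro c x z h
    calc x = c⁻¹ * (c * x * c⁻¹) * c := by group
      _ = c⁻¹ * (c * z * c⁻¹) * c := by rw [h]
      _ = z := by group
  have c12 : d1 * d2 = d2 * d1 := by
    rcases conj_d d1 c1 p2 hy2 with h | h
    · exfalso
      rw [← hd2] at h
      -- d1 d2 d1⁻¹ = d1 = d1 d1 d1⁻¹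
      have : d1 * d2 * d1⁻¹ = d1 * d1 * d1⁻¹ := by rw [h]; group
      exact n12 (conj_inj d1 d2 d1 this).symm
    · rw [← hd2] at h
      calc d1 * d2 = (d1 * d2 * d1⁻¹) * d1 := by group
        _ = d2 * d1 := by rw [h]
  obtain ⟨E, hE⟩ : ∃ E : G, E = d1 * d2 := ⟨_, rfl⟩
  rw [← hE] at hex hsig
  -- elements commuting with y commute with E
  have comm_E : ∀ c : G, c * y = y * c → c * E = E * c := by
    intro c hc
    have h1 := conj_d c hc p1 hy1
    have h2 := conj_d c hc p2 hy2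
    rw [← hd1] at h1
    rw [← hd2] at h2
    have hne : c * d1 * c⁻¹ ≠ c * d2 * c⁻¹ := fun h => n12 (conj_inj c d1 d2 h)
    have hcE : c * E * c⁻¹ = E := by
      have : c * E * c⁻¹ = (c * d1 * c⁻¹) * (c * d2 * c⁻¹) := by rw [hE]; group
      rw [this]
      rcases h1 with h1 | h1 <;> rcases h2 with h2 | h2
      · exact absurd (h1.trans h2.symm) hne
      · rw [h1, h2, hE]
      · rw [h1, h2, hE, c12]
      · exact absurd (h1.trans h2.symm) hne
    calc c * E = (c * E * c⁻¹) * c := by group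
      _ = E * c := by rw [hcE]
  have hcomm_pow : ∀ k e1 e2 : ℕ, (y ^ k * d1 ^ e1 * d2 ^ e2) * y = y * (y ^ k * d1 ^ e1 * d2 ^ e2) := by
    intro k e1 e2
    have h1 : Commute (d1 ^ e1) y := Commute.pow_left (show Commute d1 y from c1) e1
    have h2 : Commute (d2 ^ e2) y := Commute.pow_left (show Commute d2 y from c2) e2
    have h3 : Commute (y ^ k) y := Commute.pow_left (Commute.refl y) k
    exact ((h3.mul_left h1).mul_left h2).eq
  -- an element commuting with y and fixing τ is trivial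
  have triv : ∀ c : G, c * y = y * c → c • τ = τ → c = 1 := by
    intro c hcy hcτ
    have hct : T a r τ * c = c * T a r τ := comm_of_fixed hr H2 c τ hcτ
    apply hZ
    have hle : (⊤ : Subgroup G) ≤ Subgroup.centralizer ({c} : Set G) := by
      rw [← hgen, Subgroup.closure_le]
      rintro x (rfl | rfl)
      · rw [SetLike.mem_coe, Subgroup.mem_centralizer_iff]
        intro h hh
        rw [Set.mem_singleton_iff] at hh
        rw [hh]; exact hcy
      · rw [SetLike.mem_coe, Subgroup.mem_centralizer_iff]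
        intro h hh
        rw [Set.mem_singleton_iff] at hh
        rw [hh]; exact hct.symm
    intro g
    have := hle (Subgroup.mem_top g)
    rw [Subgroup.mem_centralizer_iff] at this
    exact this c rfl
  -- the signature is invariant under elements commuting with y and E
  have sig_c : ∀ c : G, c * y = y * c → c * E = E * c → ∀ (i : ℕ) (x : G), x * c = c * x →
      (T a r (c • τ) • (x • c • τ) = x • c • τ ↔ T a r τ • (x • τ) = x • τ) := by
    intro c _ _ i x hx
    have h1 : x • c • τ = c • x • τ := by rw [← mul_smul, ← mul_smul, hx]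
    rw [h1, hTs c τ, mul_smul, mul_smul, inv_smul_smul]
    exact smul_left_cancel_iff c
  -- C1
  have C1 : ∀ c : G, c * y = y * c → ∃ k e1 e2 : ℕ, c = y ^ k * d1 ^ e1 * d2 ^ e2 := by
    intro c hcy
    have hcE := comm_E c hcy
    have hcyi : ∀ i : ℕ, y ^ i * c = c * y ^ i := fun i =>
      ((Commute.pow_right (show Commute c y from hcy) i).eq).symm
    obtain ⟨k, e1, e2, hke⟩ := hsig (c • τ)
      (fun i _ => sig_c c hcy hcE i (y ^ i) (hcyi i))
      (fun i _ => by
        have hx : (y ^ i * E) * c = c * (y ^ i * E) := by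
          calc (y ^ i * E) * c = y ^ i * (E * c) := by group
            _ = y ^ i * (c * E) := by rw [hcE]
            _ = (y ^ i * c) * E := by group
            _ = (c * y ^ i) * E := by rw [hcyi i]
            _ = c * (y ^ i * E) := by group
        have := sig_c c hcy hcE i (y ^ i * E) hx
        rwa [mul_smul, mul_smul] at this)
    refine ⟨k, e1, e2, ?_⟩
    have h2 : ((y ^ k * d1 ^ e1 * d2 ^ e2)⁻¹ * c) • τ = τ := by
      rw [mul_smul, hke, inv_smul_smul]
    have h3 : ((y ^ k * d1 ^ e1 * d2 ^ e2)⁻¹ * c) * y = y * ((y ^ k * d1 ^ e1 * d2 ^ e2)⁻¹ * c) := by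
      have hc1 : Commute (y ^ k * d1 ^ e1 * d2 ^ e2) y := hcomm_pow k e1 e2
      have hc2 : Commute c y := hcy
      exact (hc1.inv_left.mul_left hc2).eq
    have h4 := triv _ h3 h2
    calc c = (y ^ k * d1 ^ e1 * d2 ^ e2) * ((y ^ k * d1 ^ e1 * d2 ^ e2)⁻¹ * c) := by group
      _ = y ^ k * d1 ^ e1 * d2 ^ e2 := by rw [h4, mul_one]
  refine ⟨⟨c1, c2, c12, n12⟩, C1, ?_⟩
  -- C2
  intro α hαy
  -- the images of d1, d2
  have img : ∀ d : G, d * y = y * d → d * d = 1 → d ≠ 1 →
      (α d = d1 ∨ α d = d2 ∨ α d = d1 * d2) := by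
    intro d hdy hdd hd1'
    have h1 : α d * y = y * α d := by
      have := congrArg α hdy
      rwa [map_mul, map_mul, hαy] at this
    obtain ⟨k, e1, e2, hke⟩ := C1 _ h1
    have hsq : α d * α d = 1 := by rw [← map_mul, hdd, map_one]
    rcases invol_cases y d1 d2 (α d) n hn hyn c1 c2 c12 s1 s2 hsq k e1 e2 hke with h | h | h | h
    · exfalso
      apply hd1'
      apply α.injective
      rw [h, map_one]
    · left; exact h
    · right; left; exact h
    · right; right; exact h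
  -- sixth powers
  have hsix : ∀ (p : Ω) (g : G), (T a r p * (g * T a r p * g⁻¹)) ^ 6 = 1 := by
    intro p g
    rw [← hTs g p]
    exact six hr H2 ha2 h3t p (g • p)
  have notE : ∀ p : Ω, α (T a r p) ≠ E := by
    intro p h
    obtain ⟨h0, hh0⟩ := hex
    apply hh0
    have h1 := hsix p (α⁻¹ h0)
    have h2 := congrArg α h1
    rw [map_pow, map_mul, map_mul, map_mul, map_inv, MulAut.apply_inv_self, h, map_one] at h2
    exact h2
  have hα1 : α d1 = d1 ∨ α d1 = d2 := by
    rcases img d1 c1 s1 n1 with h | h | h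
    · left; exact h
    · right; exact h
    · exfalso
      rw [← hE, hd1] at h
      exact notE p1 h
  have hα2 : α d2 = d1 ∨ α d2 = d2 := by
    rcases img d2 c2 s2 n2 with h | h | h
    · left; exact h
    · right; exact h
    · exfalso
      rw [← hE, hd2] at h
      exact notE p2 h
  have hαE : α E = E := by
    have hne : α d1 ≠ α d2 := fun h => n12 (α.injective h)
    rw [hE, map_mul]
    rcases hα1 with h1 | h1 <;> rcases hα2 with h2 | h2
    · exact absurd (h1.trans h2.symm) hne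
    · rw [h1, h2]
    · rw [h1, h2, c12]
    · exact absurd (h1.trans h2.symm) hne
  -- the point of α (T τ)
  obtain ⟨p', hp'⟩ : ∃ p' : Ω, α d1 = T a r p' := by
    rcases hα1 with h | h
    · exact ⟨p1, by rw [h, hd1]⟩
    · exact ⟨p2, by rw [h, hd2]⟩
  obtain ⟨g, hgp⟩ : ∃ g : G, g • p1 = τ := by
    refine ⟨r τ * (r p1)⁻¹, ?_⟩
    rw [mul_smul]
    have : (r p1)⁻¹ • p1 = o := inv_smul_eq_iff.mpr (hr p1).symm
    rw [this, hr τ]
  have hTτ : T a r τ = g * d1 * g⁻¹ := by
    rw [← hgp, hd1]; exact hTs g p1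
  obtain ⟨ω, hω⟩ : ∃ ω : Ω, ω = α g • p' := ⟨_, rfl⟩
  have hTω : T a r ω = α (T a r τ) := by
    rw [hω, hTs, ← hp', hTτ, map_mul, map_mul, map_inv]
  -- signature of ω equals that of τ
  have sig_α : ∀ x : G, α x = x →
      (T a r ω • (x • ω) = x • ω ↔ T a r τ • (x • τ) = x • τ) := by
    intro x hx
    have h1 : T a r (x • ω) = α (T a r (x • τ)) := by
      rw [hTs x ω, hTs x τ, hTω, map_mul, map_mul, map_inv, hx]
    rw [hfix, hfix, h1, hTω, ← map_mul, ← map_mul]
    exact α.injective.eq_iff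
  obtain ⟨k, e1, e2, hke⟩ := hsig ω
    (fun i _ => sig_α (y ^ i) (by rw [map_pow, hαy]))
    (fun i _ => by
      have := sig_α (y ^ i * E) (by rw [map_mul, map_pow, hαy, hαE])
      rwa [mul_smul, mul_smul] at this)
  refine ⟨y ^ k * d1 ^ e1 * d2 ^ e2, hcomm_pow k e1 e2, ?_⟩
  rw [← hTω, hke, hTs]

/-- the order of the centraliser `⟨y⟩ × ⟨d1, d2⟩` -/
theorem card_centralizer_of (y d1 d2 : G) (n : ℕ) (hn : Odd n) (hy : orderOf y = n)
    (c1 : d1 * y = y * d1) (c2 : d2 * y = y * d2) (c12 : d1 * d2 = d2 * d1)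
    (s1 : d1 * d1 = 1) (s2 : d2 * d2 = 1) (n1 : d1 ≠ 1) (n2 : d2 ≠ 1) (n12 : d1 ≠ d2)
    (hC : ∀ c : G, c * y = y * c → ∃ k e1 e2 : ℕ, c = y ^ k * d1 ^ e1 * d2 ^ e2) :
    Nat.card (Subgroup.centralizer ({y} : Set G)) = 4 * n := by
  have hn0 : 0 < n := by
    obtain ⟨j, hj⟩ := hn
    omega
  have hyn : y ^ n = 1 := by rw [← hy]; exact pow_orderOf_eq_one y
  have hc1 : Commute d1 y := c1
  have hc2 : Commute d2 y := c2
  have hmem : ∀ k e1 e2 : ℕ, y ^ k * d1 ^ e1 * d2 ^ e2 ∈ Subgroup.centralizer ({y} : Set G) := by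
    intro k e1 e2
    rw [Subgroup.mem_centralizer_iff]
    intro x hx
    rw [Set.mem_singleton_iff] at hx
    rw [hx]
    have h3 : Commute (y ^ k) y := Commute.pow_left (Commute.refl y) k
    exact (((h3.mul_left (hc1.pow_left e1)).mul_left (hc2.pow_left e2)).eq).symm
  let f : Fin n × Fin 2 × Fin 2 → Subgroup.centralizer ({y} : Set G) :=
    fun t => ⟨y ^ (t.1 : ℕ) * d1 ^ (t.2.1 : ℕ) * d2 ^ (t.2.2 : ℕ), hmem _ _ _⟩
  have hpow2 : ∀ (d : G), d * d = 1 → ∀ e : ℕ, d ^ e = d ^ (e % 2) := by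
    intro d hd e
    conv_lhs => rw [← Nat.div_add_mod e 2]
    rw [pow_add, pow_mul, pow_two, hd, one_pow, one_mul]
  have hpown : ∀ k : ℕ, y ^ k = y ^ (k % n) := by
    intro k
    conv_lhs => rw [← Nat.div_add_mod k n]
    rw [pow_add, pow_mul, hyn, one_pow, one_mul]
  have hsurj : Function.Surjective f := by
    rintro ⟨c, hc⟩
    rw [Subgroup.mem_centralizer_iff] at hc
    obtain ⟨k, e1, e2, hke⟩ := hC c (hc y rfl).symm
    refine ⟨(⟨k % n, Nat.mod_lt _ hn0⟩, ⟨e1 % 2, Nat.mod_lt _ (by norm_num)⟩,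
      ⟨e2 % 2, Nat.mod_lt _ (by norm_num)⟩), ?_⟩
    apply Subtype.ext
    show y ^ (k % n) * d1 ^ (e1 % 2) * d2 ^ (e2 % 2) = c
    rw [hke, ← hpown, ← hpow2 d1 s1, ← hpow2 d2 s2]
  have hinj : Function.Injective f := by
    rintro ⟨k, e1, e2⟩ ⟨k', e1', e2'⟩ h
    have h0 : y ^ (k : ℕ) * d1 ^ (e1 : ℕ) * d2 ^ (e2 : ℕ) = y ^ (k' : ℕ) * d1 ^ (e1' : ℕ) * d2 ^ (e2' : ℕ) :=
      congrArg Subtype.val h
    -- the quotient x of the two y-parts is an involution or trivial, hence trivial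
    obtain ⟨z, hz⟩ : ∃ z : G, z = d1 ^ (e1 : ℕ) * d2 ^ (e2 : ℕ) := ⟨_, rfl⟩
    obtain ⟨z', hz'⟩ : ∃ z' : G, z' = d1 ^ (e1' : ℕ) * d2 ^ (e2' : ℕ) := ⟨_, rfl⟩
    have hc12 : Commute d1 d2 := c12
    have sqz : ∀ e f : ℕ, (d1 ^ e * d2 ^ f) * (d1 ^ e * d2 ^ f) = 1 := by
      intro e f
      have hc : Commute (d1 ^ e) (d2 ^ f) := hc12.pow_pow e f
      calc d1 ^ e * d2 ^ f * (d1 ^ e * d2 ^ f) = d1 ^ e * (d2 ^ f * d1 ^ e) * d2 ^ f := by group
        _ = d1 ^ e * (d1 ^ e * d2 ^ f) * d2 ^ f := by rw [hc.eq]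
        _ = (d1 ^ e * d1 ^ e) * (d2 ^ f * d2 ^ f) := by group
        _ = 1 := by
          rw [← pow_add, ← pow_add, ← two_mul, ← two_mul, pow_mul, pow_mul, pow_two, pow_two, s1, s2,
            one_pow, one_pow, one_mul]
    have hzz : z * z = 1 := by rw [hz]; exact sqz _ _
    have hzz' : z' * z' = 1 := by rw [hz']; exact sqz _ _
    have hzc : Commute z z' := by
      rw [hz, hz']
      have a1 : Commute (d1 ^ (e1 : ℕ)) (d1 ^ (e1' : ℕ)) := (Commute.refl d1).pow_pow _ _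
      have a2 : Commute (d1 ^ (e1 : ℕ)) (d2 ^ (e2' : ℕ)) := hc12.pow_pow _ _
      have a3 : Commute (d2 ^ (e2 : ℕ)) (d1 ^ (e1' : ℕ)) := (hc12.pow_pow _ _).symm
      have a4 : Commute (d2 ^ (e2 : ℕ)) (d2 ^ (e2' : ℕ)) := (Commute.refl d2).pow_pow _ _
      exact (a1.mul_right a2).mul_left (a3.mul_right a4)
    have h1 : y ^ (k : ℕ) * z = y ^ (k' : ℕ) * z' := by
      rw [hz, hz', ← mul_assoc, ← mul_assoc]; exact h0
    -- y^k' ⁻¹ * y^k = z' * z⁻¹
    have h2 : (y ^ (k' : ℕ))⁻¹ * y ^ (k : ℕ) = z' * z⁻¹ := by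
      calc (y ^ (k' : ℕ))⁻¹ * y ^ (k : ℕ) = (y ^ (k' : ℕ))⁻¹ * (y ^ (k : ℕ) * z) * z⁻¹ := by group
        _ = (y ^ (k' : ℕ))⁻¹ * (y ^ (k' : ℕ) * z') * z⁻¹ := by rw [h1]
        _ = z' * z⁻¹ := by group
    obtain ⟨w, hw⟩ : ∃ w : G, w = (y ^ (k' : ℕ))⁻¹ * y ^ (k : ℕ) := ⟨_, rfl⟩
    have hzi : z⁻¹ = z := inv_eq_of_mul_eq_one_left hzz
    have hw2 : w ^ 2 = 1 := by
      rw [hw, h2, hzi, pow_two]
      calc z' * z * (z' * z) = z' * (z * z') * z := by group
        _ = z' * (z' * z) * z := by rw [hzc.eq]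
        _ = (z' * z') * (z * z) := by group
        _ = 1 := by rw [hzz, hzz', one_mul]
    have hwn : w ^ n = 1 := by
      have hc : Commute ((y ^ (k' : ℕ))⁻¹) (y ^ (k : ℕ)) :=
        ((Commute.refl y).pow_pow _ _).inv_left
      rw [hw, hc.mul_pow, inv_pow, ← pow_mul, ← pow_mul, mul_comm (k' : ℕ) n, mul_comm (k : ℕ) n,
        pow_mul, pow_mul, hyn, one_pow, one_pow, inv_one, one_mul]
    have hw1 : w = 1 := by
      have h2' := orderOf_dvd_of_pow_eq_one hw2
      have h3 := orderOf_dvd_of_pow_eq_one hwn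
      have h4 : orderOf w ∣ Nat.gcd 2 n := Nat.dvd_gcd h2' h3
      have h5 : Nat.gcd 2 n = 1 := by
        obtain ⟨j, hj⟩ := hn
        rw [hj]
        simp
      rw [h5, Nat.dvd_one] at h4
      exact orderOf_eq_one_iff.mp h4
    have hkk : y ^ (k : ℕ) = y ^ (k' : ℕ) := by
      rw [hw] at hw1
      calc y ^ (k : ℕ) = y ^ (k' : ℕ) * ((y ^ (k' : ℕ))⁻¹ * y ^ (k : ℕ)) := by group
        _ = y ^ (k' : ℕ) := by rw [hw1, mul_one]
    have hk : k = k' := by
      have hlt : (k : ℕ) < orderOf y := by rw [hy]; exact k.2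
      have hlt' : (k' : ℕ) < orderOf y := by rw [hy]; exact k'.2
      exact Fin.ext (pow_injOn_Iio_orderOf hlt hlt' hkk)
    have hzz'' : z = z' := by
      rw [hkk] at h1
      exact mul_left_cancel h1
    -- now the d-parts
    have he : e1 = e1' ∧ e2 = e2' := by
      rw [hz, hz'] at hzz''
      have d1d2 : d1 * d2 ≠ 1 := by
        intro h
        apply n12
        calc d1 = d1 * (d2 * d2) := by rw [s2, mul_one]
          _ = (d1 * d2) * d2 := by group
          _ = d2 := by rw [h, one_mul]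
      fin_cases e1 <;> fin_cases e2 <;> fin_cases e1' <;> fin_cases e2' <;>
        simp only [Fin.zero_eta, Fin.mk_one, Fin.isValue, Fin.val_zero, Fin.val_one, pow_zero, pow_one,
          one_mul, mul_one] at hzz'' <;>
        first
          | exact ⟨rfl, rfl⟩
          | (exfalso; first
              | exact n1 hzz''
              | exact n1 hzz''.symm
              | exact n2 hzz''
              | exact n2 hzz''.symm
              | exact n12 hzz''
              | exact n12 hzz''.symm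
              | exact d1d2 hzz''
              | exact d1d2 hzz''.symm
              | exact n1 (mul_right_cancel (b := d2) (by rw [one_mul]; exact hzz''))
              | exact n1 (mul_right_cancel (b := d2) (by rw [one_mul]; exact hzz''.symm))
              | exact n2 (mul_left_cancel (a := d1) (by rw [mul_one]; exact hzz''))
              | exact n2 (mul_left_cancel (a := d1) (by rw [mul_one]; exact hzz''.symm)))
    rw [hk, he.1, he.2]
  have hcard := Nat.card_eq_of_bijective f ⟨hinj, hsurj⟩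
  rw [← hcard, Nat.card_eq_fintype_card, Fintype.card_prod, Fintype.card_prod, Fintype.card_fin,
    Fintype.card_fin]
  ring

end Main

end Cfsg.Agent.Lib.helper19_Rigid2
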