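import Cfsg.Agent.S1697
import Cfsg.Agent.Lib.helper19_Fi23OutChkA
import Cfsg.Agent.Lib.helper19_Fi23OutChkB
import Cfsg.Agent.Lib.helper19_Rigid2
import Cfsg.Agent.Lib.helper19_OutSylow1

/-!
# `Out(Fi23)` is trivial (helper19)

The presented group `Fi23` acts on the 31671 cosets of `C(t) = 2.Fi22` (helper28's verified table).
An element `y` of order 11 has exactly two fixed points; its automiser is full by Sylow counting; the
rigidity criterion of `helper19_Rigid2` and the Sylow criterion of `helper19_OutSylow1` then show that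
every automorphism is inner.
-/

set_option autoImplicit false
set_option linter.constructorNameAsVariable false

namespace Cfsg.Agent.Lib.helper19_Fi23Out

open Cfsg Cfsg.Spor Cfsg.Agent.Lib.Helper28_CosetPerm Cfsg.Agent.Lib.Helper28_Fi23Order
  Cfsg.Agent.Lib.Helper28_S1689 Cfsg.Agent.Lib.Helper28_S1689Tab Cfsg.Agent.S1697
  Cfsg.Agent.Lib.helper19_Fi23OutDef Cfsg.Agent.Lib.helper19_Fi23OutTab
  Cfsg.Agent.Lib.helper19_Rigid Cfsg.Agent.Lib.helper19_Rigid2

/-! ### the action -/

/-- the action of `Fi23` on the 31671 points -/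
noncomputable instance actX : MulAction G (Fin 31671) :=
  act (perm Cfsg.Agent.Lib.Helper28_S1689.verified.hv) Cfsg.Agent.Lib.Helper28_S1689.verified.hrel

theorem smul_def (g : G) (k : Fin 31671) : g • k = rhoS1689 g k := rfl

theorem eq_one_of_smul (g : G) (h : ∀ k : Fin 31671, g • k = k) : g = 1 := by
  apply eq_one_of_act
  ext k
  exact congrArg Fin.val (h k)

/-- the element attached to a word: walking along `u` is acting by `W u` -/
noncomputable def W (u : List (Fi23.Gen × Bool)) : G :=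
  (PresentedGroup.mk RELS (FreeGroup.mk u))⁻¹

theorem walk_W (u : List (Fi23.Gen × Bool)) (k : Fin 31671) :
    walk 1048575 col u (k * 20) = ((W u • k : Fin 31671) : ℕ) * 20 := by
  obtain ⟨k', h1, h2⟩ := walk_spec Cfsg.Agent.Lib.Helper28_S1689.verified.hv u k
  rw [h1]
  have h3 : rhoS1689 (PresentedGroup.mk RELS (FreeGroup.mk u)) k' = k := h2
  have h4 : W u • k = k' := by
    rw [smul_def, W, map_inv, Equiv.Perm.inv_def, ← h3, Equiv.symm_apply_apply]
  rw [h4]

theorem W_nil : W [] = 1 := by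
  unfold W
  rw [inv_eq_one]
  rfl

theorem W_append (u v : List (Fi23.Gen × Bool)) : W (u ++ v) = W v * W u := by
  unfold W
  rw [← mul_inv_rev, ← map_mul]
  rfl

theorem W_single (x : Fi23.Gen) (b : Bool) : W [(x, b)] = gen x := by
  unfold W
  cases b with
  | true =>
    have : PresentedGroup.mk RELS (FreeGroup.mk [(x, true)]) = gen x := rfl
    rw [this, gen_inv]
  | false =>
    have : PresentedGroup.mk RELS (FreeGroup.mk [(x, false)]) = (gen x)⁻¹ := rfl
    rw [this, inv_inv]

theorem W_cons (x : Fi23.Gen) (b : Bool) (u : List (Fi23.Gen × Bool)) :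
    W ((x, b) :: u) = W u * gen x := by
  have : (x, b) :: u = [(x, b)] ++ u := rfl
  rw [this, W_append, W_single]

theorem W_reverse (u : List (Fi23.Gen × Bool)) : W u.reverse = (W u)⁻¹ := by
  induction u with
  | nil => simp [W_nil]
  | cons p l ih =>
    obtain ⟨x, b⟩ := p
    rw [List.reverse_cons, W_append, W_single, ih, W_cons, mul_inv_rev, gen_inv]

theorem W_replicate (u : List (Fi23.Gen × Bool)) (m : ℕ) :
    W (List.flatten (List.replicate m u)) = (W u) ^ m := by
  induction m with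
  | zero => simp [W_nil]
  | succ m ih =>
    rw [List.replicate_succ, List.flatten_cons, W_append, ih, pow_succ]

/-- offsets determine points -/
theorem fin_eq_of_off {k l : Fin 31671} (h : (k : ℕ) * 20 = (l : ℕ) * 20) : k = l :=
  Fin.ext (Nat.eq_of_mul_eq_mul_right (by norm_num) h)

theorem gen_smul (x : Fi23.Gen) (k : Fin 31671) :
    ((gen x • k : Fin 31671) : ℕ) * 20 = nxt 1048575 (col x true) (k * 20) := by
  have h := walk_W [(x, true)] k
  rw [W_single] at h
  exact h.symm

/-! ### the checks, unpacked -/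

theorem all_ok' (k : Fin 31671) : allOk (k * 20) = true := by
  by_cases h : (k : ℕ) < 15840
  · exact okA k (Nat.zero_le _) h
  · exact okB k (Nat.le_of_not_lt h) k.2

theorem chk (k : Fin 31671) : descOk (k * 20) = true ∧ cyOk (k * 20) = true ∧ ctOk (k * 20) = true ∧
    fixOk (k * 20) = true ∧ genOk (k * 20) = true := by
  have h := all_ok' k
  simp only [allOk, Bool.and_eq_true] at h
  exact h

/-! ### the base point, its stabiliser and the class of `t` -/

/-- the central involution of the point stabiliser -/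
noncomputable abbrev A : G := tG

/-- the conjugating word `v` as a list of letters -/
def vl : List (Fi23.Gen × Bool) := [(.j, true), (.g, true), (.f, true), (.e, true), (.d, true), (.c, true), (.b, true), (.h, true), (.d, true), (.c, true), (.e, true), (.d, true), (.f, true), (.e, true), (.g, true), (.f, true), (.h, true), (.d, true), (.c, true), (.b, true), (.e, true), (.d, true), (.c, true), (.h, true), (.d, true), (.e, true), (.f, true), (.g, true)]

theorem vl_eq : (FreeGroup.mk vl : FreeGroup Fi23.Gen) = vF := by decide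

theorem tw_eq : tw = vl ++ [(.j, true)] ++ vl.reverse := by decide

theorem A_eq : A = (W vl)⁻¹ * gen .j * W vl := by
  show PresentedGroup.mk RELS (vF * Fi23.j * vF⁻¹) = _
  rw [map_mul, map_mul, map_inv, ← vl_eq]
  unfold W
  rw [inv_inv]
  rfl

theorem W_tw : W tw = A := by
  rw [tw_eq, W_append, W_append, W_single, W_reverse, A_eq, mul_assoc]

theorem a_sq : A * A = 1 := by
  rw [A_eq]
  calc (W vl)⁻¹ * gen .j * W vl * ((W vl)⁻¹ * gen .j * W vl)
      = (W vl)⁻¹ * (gen .j * gen .j) * W vl := by group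
    _ = 1 := by rw [gen_sq]; group

theorem tstep_A (k : Fin 31671) : tstep (k * 20) = ((A • k : Fin 31671) : ℕ) * 20 := by
  have h := Nat.eq_of_beq_eq_true (chk k).2.2.1
  rw [← h, twstepU_eq, walk_W, W_tw]

/-- coset representatives -/
noncomputable def rr (ω : Fin 31671) : G := Classical.choose (transX ω)

theorem rr_spec (ω : Fin 31671) : rr ω • (0 : Fin 31671) = ω := Classical.choose_spec (transX ω)

theorem H_index : H.index = 31671 := Cfsg.Agent.S1689.result.1

theorem H_eq_stab : H = MulAction.stabilizer G (0 : Fin 31671) :=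
  eq_stabilizer (perm Cfsg.Agent.Lib.Helper28_S1689.verified.hv)
    Cfsg.Agent.Lib.Helper28_S1689.verified.hrel SH
    Cfsg.Agent.Lib.Helper28_S1689.verified.hsub Cfsg.Agent.Lib.Helper28_S1689.verified.htrans
    (by rw [H_index]; norm_num) (by rw [H_index])

theorem comm_of_fix (h : G) (h0 : h • (0 : Fin 31671) = 0) : h * A = A * h := by
  have hH : h ∈ H := by
    rw [H_eq_stab]
    exact MulAction.mem_stabilizer_iff.mpr h0
  have hc := H_le_centralizer hH
  rw [Subgroup.mem_centralizer_iff] at hc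
  exact (hc _ rfl).symm

theorem a_zero : A • (0 : Fin 31671) = 0 := by
  apply fin_eq_of_off
  rw [← tstep_A]
  show tstep 0 = 0
  decide +kernel

theorem j_zero : gen .j • (0 : Fin 31671) = ⟨1, by norm_num⟩ := by
  apply fin_eq_of_off
  rw [gen_smul]
  show nxt 1048575 cJ 0 = 20
  decide +kernel

theorem a_one : A • (⟨1, by norm_num⟩ : Fin 31671) ≠ ⟨1, by norm_num⟩ := by
  intro h
  have h1 := tstep_A ⟨1, by norm_num⟩
  rw [h] at h1
  have h2 : tstep 20 = 20 := h1
  revert h2
  decide +kernel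

theorem a_ne_one : A ≠ 1 := by
  intro h
  apply a_one
  rw [h, one_smul]

/-- `t` and `j` do not commute -/
theorem aj_ne : A * gen .j ≠ gen .j * A := by
  intro h
  apply a_one
  rw [← j_zero, ← mul_smul, h, mul_smul, a_zero]

theorem fix_of_comm (g : G) (hg : g * A = A * g) : g • (0 : Fin 31671) = 0 := by
  have hK : H ≤ Subgroup.centralizer {A} := H_le_centralizer
  rcases H_max _ hK with h | h
  · have : g ∈ Subgroup.centralizer {A} := by
      rw [Subgroup.mem_centralizer_iff]
      intro x hx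
      rw [Set.mem_singleton_iff] at hx
      rw [hx]; exact hg.symm
    rw [h] at this
    exact H_fix g this
  · exfalso
    have : gen .j ∈ Subgroup.centralizer {A} := h ▸ Subgroup.mem_top _
    rw [Subgroup.mem_centralizer_iff] at this
    exact aj_ne (this A rfl)

/-- the conjugate of `t` attached to a point -/
noncomputable abbrev TT (ω : Fin 31671) : G := T A rr ω

theorem TT_eq (g : G) (ω : Fin 31671) (h : g • (0 : Fin 31671) = ω) : TT ω = g * A * g⁻¹ :=
  T_eq rr_spec comm_of_fix g ω h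

theorem TT_smul (g : G) (ω : Fin 31671) : TT (g • ω) = g * TT ω * g⁻¹ :=
  T_smul rr_spec comm_of_fix g ω

theorem TT_zero : TT 0 = A := T_base rr_spec comm_of_fix

/-- every generator is a conjugate of `t` -/
theorem gen_conj (x : Fi23.Gen) : ∃ g : G, gen x = g * A * g⁻¹ := by
  have step : ∀ x y : Fi23.Gen, coxLabel Fi23.edges x y = 3 →
      (∃ g : G, gen x = g * A * g⁻¹) → ∃ g : G, gen y = g * A * g⁻¹ := by
    rintro x y h3 ⟨g, hg⟩
    refine ⟨gen x * gen y * g, ?_⟩
    have h := gen_braid x y h3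
    calc gen y = (gen x * gen y) * gen x * (gen x * gen y)⁻¹ := h
      _ = (gen x * gen y) * (g * A * g⁻¹) * (gen x * gen y)⁻¹ := by rw [← hg]
      _ = (gen x * gen y * g) * A * (gen x * gen y * g)⁻¹ := by group
  have hj : ∃ g : G, gen .j = g * A * g⁻¹ := ⟨W vl, by rw [A_eq]; group⟩
  have hg := step .j .g (by decide) hj
  have hf := step .g .f (by decide) hg
  have he := step .f .e (by decide) hf
  have hd := step .e .d (by decide) he
  have hc := step .d .c (by decide) hd
  have hb := step .c .b (by decide) hc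
  have ha := step .b .a (by decide) hb
  have hh := step .d .h (by decide) hd
  have hi := step .h .i (by decide) hh
  cases x <;> assumption

theorem gen_eq_TT (x : Fi23.Gen) : ∃ ω : Fin 31671, gen x = TT ω := by
  obtain ⟨g, hg⟩ := gen_conj x
  exact ⟨g • (0 : Fin 31671), by rw [TT_eq g _ rfl, hg]⟩

/-! ### the element `Y` of order 11 -/

/-- the element of order 11 -/
noncomputable def Y : G := W ys

/-- the second fixed point of `Y` -/
abbrev p2 : Fin 31671 := ⟨8003, by norm_num⟩

/-- the point `5` -/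
abbrev τ : Fin 31671 := ⟨5, by norm_num⟩

theorem ystep_Y1 (k : Fin 31671) : ystep (k * 20) = ((Y • k : Fin 31671) : ℕ) * 20 := by
  have h := Nat.eq_of_beq_eq_true (chk k).2.1
  rw [← h, ystepU_eq, walk_W, Y]

theorem ystep_Y (m : ℕ) (k : Fin 31671) :
    itr ystep m (k * 20) = ((Y ^ m • k : Fin 31671) : ℕ) * 20 := by
  induction m with
  | zero => simp [itr_zero]
  | succ m ih => rw [itr_succ, ih, ystep_Y1, ← mul_smul, ← pow_succ']

theorem Y_pow : Y ^ 11 = 1 := by
  have h := mk_eq_one_of_walk (List.flatten (List.replicate 11 ys)) (by decide +kernel)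
  have h2 : W (List.flatten (List.replicate 11 ys)) = 1 := by
    unfold W
    rw [h, inv_one]
  rw [W_replicate] at h2
  exact h2

theorem Y_p1 : Y • (0 : Fin 31671) = 0 := by
  apply fin_eq_of_off
  rw [← ystep_Y1]
  show ystep 0 = 0
  decide +kernel

theorem Y_p2 : Y • p2 = p2 := by
  apply fin_eq_of_off
  rw [← ystep_Y1]
  show ystep 160060 = 160060
  decide +kernel

theorem Y_uniq (ω : Fin 31671) (h : Y • ω = ω) : ω = 0 ∨ ω = p2 := by
  have h1 := (chk ω).2.2.2.1
  simp only [fixOk, Bool.or_eq_true, Bool.not_eq_true'] at h1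
  rcases h1 with h1 | h1 | h1
  · left; exact fin_eq_of_off (Nat.eq_of_beq_eq_true h1)
  · right; exact fin_eq_of_off (Nat.eq_of_beq_eq_true h1)
  · exfalso
    apply Nat.ne_of_beq_eq_false h1
    rw [ystep_Y1, h]

theorem Y_ne_one : Y ≠ 1 := by
  intro h
  have h1 := ystep_Y1 ⟨1, by norm_num⟩
  rw [h, one_smul] at h1
  have h2 : ystep 20 = 20 := h1
  revert h2
  decide +kernel

instance fact11 : Fact (Nat.Prime 11) := ⟨by norm_num⟩

theorem orderOf_Y : orderOf Y = 11 :=
  orderOf_eq_prime (p := 11) Y_pow Y_ne_one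

theorem p2_ne : (0 : Fin 31671) ≠ p2 := by decide

/-! ### macro letters and descents -/

/-- the group element of a macro letter -/
noncomputable def mG (i : ℕ) : G :=
  match mgen i with
  | none => Y
  | some x => gen x

theorem colSel_eq (i : ℕ) : colSel i = mcol i := by
  rcases i with _ | _ | _ | _ | _ | _ | _ | _ | _ | _ | i <;> rfl

theorem mstep_smul (i : ℕ) (k : Fin 31671) :
    mstep i (k * 20) = ((mG i • k : Fin 31671) : ℕ) * 20 := by
  unfold mstep
  rw [colSel_eq]
  rcases i with _ | _ | _ | _ | _ | _ | _ | _ | _ | _ | i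
  · exact ystep_Y1 k
  · exact (gen_smul .h k).symm
  · exact (gen_smul .i k).symm
  · exact (gen_smul .f k).symm
  · exact (gen_smul .j k).symm
  · exact (gen_smul .d k).symm
  · exact (gen_smul .g k).symm
  · exact (gen_smul .e k).symm
  · exact (gen_smul .b k).symm
  · exact (gen_smul .a k).symm
  · exact (gen_smul .c k).symm

/-- the group element of a macro word -/
noncomputable def mW : List ℕ → G
  | [] => 1
  | i :: is => mW is * mG i

theorem mwalk_smul (u : List ℕ) (k : Fin 31671) :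
    mwalk u (k * 20) = ((mW u • k : Fin 31671) : ℕ) * 20 := by
  induction u generalizing k with
  | nil => simp [mwalk, mW]
  | cons i is ih =>
    show mwalk is (mstep i (k * 20)) = _
    rw [mstep_smul, ih, mW, mul_smul]

theorem estep_E (k : Fin 31671) :
    estep (k * 20) = ((gen .c • A • k : Fin 31671) : ℕ) * 20 := by
  unfold estep
  rw [tstep_A]
  exact (gen_smul .c _).symm

theorem cstep_C (k : Fin 31671) : cstep (k * 20) = ((gen .c • k : Fin 31671) : ℕ) * 20 :=
  (gen_smul .c k).symm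

theorem beq_off (p q : Fin 31671) : Nat.beq ((p : ℕ) * 20) ((q : ℕ) * 20) = true ↔ p = q := by
  constructor
  · intro h
    exact fin_eq_of_off (Nat.eq_of_beq_eq_true h)
  · intro h
    rw [h]
    exact Nat.beq_refl _

theorem tfix_iff (q : Fin 31671) : tfix (q * 20) = true ↔ A • q = q := by
  unfold tfix
  rw [tstep_A]
  exact beq_off _ _

/-- the descent element of a point -/
noncomputable def dG (k : Fin 31671) : G := mW (dw (depN (k * 20)) (k * 20))

theorem desc (k : Fin 31671) :
    dG k • k = 0 ∧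
    (A • k = k ∨ dG k • A • k = A • dG k • (0 : Fin 31671)) ∧
    (in44 (k * 20) = true ∨
      ¬ (A • dG k • Y • k = dG k • Y • k ∧ A • dG k • Y • Y • k = dG k • Y • Y • k ∧
        ¬ (A • dG k • Y • Y • gen .c • A • k = dG k • Y • Y • gen .c • A • k) ∧
        A • dG k • Y • Y • Y • Y • Y • gen .c • A • k = dG k • Y • Y • Y • Y • Y • gen .c • A • k)) := by
  have h := (chk k).1
  unfold descOk at h
  rw [pw_eq] at h
  have e0 : (0 : ℕ) = ((0 : Fin 31671) : ℕ) * 20 := by simp
  simp only [evalTracks] at h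
  rw [e0] at h
  simp only [tstep_A, ystep_Y1, estep_E, mwalk_smul] at h
  simp only [Bool.and_eq_true, Bool.or_eq_true, Bool.not_eq_true', tfix_iff, beq_off] at h
  obtain ⟨h1, h2, h3⟩ := h
  refine ⟨?_, ?_, ?_⟩
  · exact h1
  · exact h2
  · rcases h3 with h3 | h3
    · left; exact h3
    · right
      intro hc
      unfold dG at hc
      obtain ⟨c1, c2, c3, c4⟩ := hc
      have t1 := (tfix_iff _).mpr c1
      have t2 := (tfix_iff _).mpr c2
      have t4 := (tfix_iff _).mpr c4
      have t3 : tfix (↑(mW (dw (depN (↑k * 20)) (↑k * 20)) • Y • Y • gen Fi23.Gen.c • A • k) * 20) = false := by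
        rw [Bool.eq_false_iff]
        intro h
        exact c3 ((tfix_iff _).mp h)
      rw [t1, t2, t3, t4] at h3
      exact absurd h3 (by decide)

theorem dG_inv (k : Fin 31671) : (dG k)⁻¹ • (0 : Fin 31671) = k := by
  rw [← (desc k).1, inv_smul_smul]

theorem TT_fix_iff (k x : Fin 31671) : TT k • x = x ↔ A • dG k • x = dG k • x := by
  have h := fix_iff_of_rep rr_spec comm_of_fix x k (dG k)⁻¹ (dG_inv k)
  rwa [inv_inv] at h

theorem TT_dG (k : Fin 31671) : TT k = (dG k)⁻¹ * A * dG k := by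
  rw [TT_eq _ _ (dG_inv k), inv_inv]

/-- the conjugates of `t` are 3-transpositions -/
theorem h3t (ω : Fin 31671) : A • ω = ω ∨ A • ω = TT ω • (0 : Fin 31671) := by
  rcases (desc ω).2.1 with h | h
  · left; exact h
  · right
    rw [TT_dG, mul_smul, mul_smul, ← h, inv_smul_smul]

/-! ### the second fixed point is the point of the generator `c` -/

theorem c_comm_A : gen .c * A = A * gen .c := by
  have hc : gen .c ∈ H := by
    apply Subgroup.mem_map_of_mem
    apply Subgroup.subset_closure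
    simp [SH]
  have h := H_le_centralizer hc
  rw [Subgroup.mem_centralizer_iff] at h
  exact (h _ rfl).symm

/-- the commutator word of `c` and `y` -/
def cyw : List (Fi23.Gen × Bool) := (.c, true) :: (ys ++ ((.c, true) :: ys.reverse))

theorem c_comm_Y : gen .c * Y = Y * gen .c := by
  have h := mk_eq_one_of_walk cyw (by decide +kernel)
  have h2 : W cyw = 1 := by
    unfold W
    rw [h, inv_one]
  unfold cyw at h2
  rw [W_cons, W_append, W_cons, W_reverse] at h2
  -- (W ys)⁻¹ * gen c * W ys * gen c = 1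
  have h3 : (Y⁻¹ * gen .c * Y) * gen .c = 1 := h2
  have h4 : Y⁻¹ * gen .c * Y = gen .c := by
    have := mul_eq_one_iff_eq_inv.mp h3
    rw [this, gen_inv]
  calc gen .c * Y = Y * (Y⁻¹ * gen .c * Y) := by group
    _ = Y * gen .c := by rw [h4]

theorem c_ne_A : gen .c ≠ A := by
  intro h
  have h1 := gen_smul .c ⟨1, by norm_num⟩
  rw [h] at h1
  have h2 := tstep_A ⟨1, by norm_num⟩
  rw [h1] at h2
  have h3 : tstep 20 = nxt 1048575 cC 20 := h2
  revert h3
  decide +kernel

theorem TT_p2 : TT p2 = gen .c := by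
  obtain ⟨ω, hω⟩ := gen_eq_TT .c
  have h1 : TT (Y • ω) = TT ω := by
    rw [TT_smul, ← hω]
    calc Y * gen .c * Y⁻¹ = (gen .c * Y) * Y⁻¹ := by rw [c_comm_Y]
      _ = gen .c := by group
  have h2 : Y • ω = ω := T_inj rr_spec fix_of_comm _ _ h1
  rcases Y_uniq ω h2 with h | h
  · exfalso
    rw [h, TT_zero] at hω
    exact c_ne_A hω
  · rw [← h, hω]

/-! ### iterating steps -/

theorem itr_smul (f : ℕ → ℕ) (g : G)
    (hf : ∀ k : Fin 31671, f (k * 20) = ((g • k : Fin 31671) : ℕ) * 20) (m : ℕ) (k : Fin 31671) :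
    itr f m (k * 20) = ((g ^ m • k : Fin 31671) : ℕ) * 20 := by
  induction m with
  | zero => simp [itr_zero]
  | succ m ih => rw [itr_succ, ih, hf, ← mul_smul, ← pow_succ']

/-! ### the witness against the 6-transposition property of `A c` -/

/-- one round of `E * (h0 * E * h0⁻¹)` -/
def rnd (x : ℕ) : ℕ := tstep (cstep (hstep (tstep (cstep (hrstep x)))))

theorem hstep_H (k : Fin 31671) : hstep (k * 20) = ((W hw • k : Fin 31671) : ℕ) * 20 := by
  rw [hstep_eq, walk_W]

theorem hrstep_H (k : Fin 31671) :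
    hrstep (k * 20) = (((W hw)⁻¹ • k : Fin 31671) : ℕ) * 20 := by
  rw [hrstep_eq, walk_W, W_reverse]

theorem rnd_X (k : Fin 31671) :
    rnd (k * 20) =
      ((((A * gen .c) * (W hw * (A * gen .c) * (W hw)⁻¹)) • k : Fin 31671) : ℕ) * 20 := by
  unfold rnd
  rw [hrstep_H, cstep_C, tstep_A, hstep_H, cstep_C, tstep_A]
  simp only [mul_smul]

theorem hex : ∃ h0 : G, ((TT 0 * TT p2) * (h0 * (TT 0 * TT p2) * h0⁻¹)) ^ 6 ≠ 1 := by
  refine ⟨W hw, ?_⟩
  rw [TT_zero, TT_p2]
  intro h
  have h1 := itr_smul rnd _ rnd_X 6 0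
  rw [h, one_smul] at h1
  have h2 : itr rnd 6 0 = 0 := h1
  revert h2
  decide +kernel

/-! ### the conjugate of `t` attached to the point `5` -/

theorem us_zero : W us • (0 : Fin 31671) = τ := by
  apply fin_eq_of_off
  rw [← walk_W, ← ustep_eq]
  show ustep 0 = 100
  decide +kernel

theorem TT_tau : TT τ = W us * A * (W us)⁻¹ := TT_eq _ _ us_zero

theorem ttstep_T (k : Fin 31671) : ttstep (k * 20) = ((TT τ • k : Fin 31671) : ℕ) * 20 := by
  unfold ttstep
  rw [urstep_eq, walk_W, W_reverse, tstep_A, ustep_eq, walk_W, TT_tau]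
  simp only [mul_smul]

theorem TT_tau_fix (x : Fin 31671) : TT τ • x = x ↔ Nat.beq (ttstep (x * 20)) (x * 20) = true := by
  rw [ttstep_T]
  exact (beq_off _ _).symm

/-! ### generation -/

theorem closure_top : Subgroup.closure ({Y, TT τ} : Set G) = ⊤ := by
  obtain ⟨K, hK⟩ : ∃ K : Subgroup G, K = Subgroup.closure ({Y, TT τ} : Set G) := ⟨_, rfl⟩
  rw [← hK]
  have hY : Y ∈ K := hK ▸ Subgroup.subset_closure (by simp)
  have hT : TT τ ∈ K := hK ▸ Subgroup.subset_closure (by simp)
  have key : ∀ m : ℕ, ∀ k : Fin 31671, nxt 1048575 rk2 (k * 20) = m → TT k ∈ K := by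
    intro m
    induction m using Nat.strong_induction_on with
    | _ m ih =>
      intro k hk
      have h := (chk k).2.2.2.2
      simp only [genOk, Bool.or_eq_true, Nat.blt_eq] at h
      rcases h with h | h | h
      · have hkτ : k = τ := fin_eq_of_off (Nat.eq_of_beq_eq_true h)
        rw [hkτ]
        exact hT
      · rw [ystep_Y1] at h
        have h' : nxt 1048575 rk2 ((Y • k : Fin 31671) * 20) < m := hk ▸ h
        have h1 := ih _ h' (Y • k) rfl
        rw [TT_smul] at h1
        have h2 := K.mul_mem (K.mul_mem (K.inv_mem hY) h1) hY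
        have h3 : Y⁻¹ * (Y * TT k * Y⁻¹) * Y = TT k := by group
        rwa [h3] at h2
      · rw [ttstep_T] at h
        have h' : nxt 1048575 rk2 ((TT τ • k : Fin 31671) * 20) < m := hk ▸ h
        have h1 := ih _ h' (TT τ • k) rfl
        rw [TT_smul] at h1
        have h2 := K.mul_mem (K.mul_mem (K.inv_mem hT) h1) hT
        have h3 : (TT τ)⁻¹ * (TT τ * TT k * (TT τ)⁻¹) * TT τ = TT k := by group
        rwa [h3] at h2
  rw [eq_top_iff, ← PresentedGroup.closure_range_of RELS, Subgroup.closure_le]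
  rintro _ ⟨x, rfl⟩
  obtain ⟨ω, hω⟩ := gen_eq_TT x
  show gen x ∈ K
  rw [hω]
  exact key _ ω rfl

/-! ### the centre -/

theorem center_triv (z : G) (hz : ∀ g : G, z * g = g * z) : z = 1 := by
  have h0 : z • (0 : Fin 31671) = 0 := fix_of_comm z (hz A)
  have h1 := central_trivial rhoS1689 transX z (fun g => (hz g).symm) h0
  exact eq_one_of_act z h1

/-! ### the signature of the point `5` -/

theorem tstep_pow (m : ℕ) (k : Fin 31671) :
    itr tstep m (k * 20) = ((A ^ m • k : Fin 31671) : ℕ) * 20 :=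
  itr_smul tstep A tstep_A m k

theorem cstep_pow (m : ℕ) (k : Fin 31671) :
    itr cstep m (k * 20) = (((gen .c) ^ m • k : Fin 31671) : ℕ) * 20 :=
  itr_smul cstep (gen .c) cstep_C m k

theorem L44_ok : L44.all (fun p =>
    Nat.beq (itr ystep p.2.1 (itr tstep p.2.2.1 (itr cstep p.2.2.2 100))) p.1) = true := by
  decide +kernel

theorem tau_sig :
    Nat.beq (ttstep (ystep 100)) (ystep 100) = true ∧
    Nat.beq (ttstep (ystep (ystep 100))) (ystep (ystep 100)) = true ∧
    Nat.beq (ttstep (ystep (ystep (estep 100)))) (ystep (ystep (estep 100))) = false ∧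
    Nat.beq (ttstep (ystep (ystep (ystep (ystep (ystep (estep 100)))))))
      (ystep (ystep (ystep (ystep (ystep (estep 100)))))) = true := by
  decide +kernel

theorem tau_sig' :
    TT τ • Y • τ = Y • τ ∧ TT τ • Y • Y • τ = Y • Y • τ ∧
    ¬ (TT τ • Y • Y • gen .c • A • τ = Y • Y • gen .c • A • τ) ∧
    TT τ • Y • Y • Y • Y • Y • gen .c • A • τ = Y • Y • Y • Y • Y • gen .c • A • τ := by
  obtain ⟨t1, t2, t3, t4⟩ := tau_sig
  have t1' : Nat.beq (ttstep (ystep ((τ : Fin 31671) * 20))) (ystep ((τ : Fin 31671) * 20)) = true := t1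
  have t2' : Nat.beq (ttstep (ystep (ystep ((τ : Fin 31671) * 20))))
      (ystep (ystep ((τ : Fin 31671) * 20))) = true := t2
  have t3' : Nat.beq (ttstep (ystep (ystep (estep ((τ : Fin 31671) * 20)))))
      (ystep (ystep (estep ((τ : Fin 31671) * 20)))) = false := t3
  have t4' : Nat.beq (ttstep (ystep (ystep (ystep (ystep (ystep (estep ((τ : Fin 31671) * 20))))))))
      (ystep (ystep (ystep (ystep (ystep (estep ((τ : Fin 31671) * 20))))))) = true := t4
  rw [ystep_Y1] at t1'
  rw [ystep_Y1, ystep_Y1] at t2'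
  rw [estep_E, ystep_Y1, ystep_Y1] at t3'
  rw [estep_E, ystep_Y1, ystep_Y1, ystep_Y1, ystep_Y1, ystep_Y1] at t4'
  refine ⟨(TT_tau_fix _).mpr t1', (TT_tau_fix _).mpr t2', ?_, (TT_tau_fix _).mpr t4'⟩
  intro h
  have h' := (TT_tau_fix _).mp h
  rw [t3'] at h'
  exact absurd h' (by decide)

theorem sig (ω : Fin 31671)
    (h1 : ∀ i ∈ ({1, 2} : Finset ℕ),
      (TT ω • (Y ^ i • ω) = Y ^ i • ω ↔ TT τ • (Y ^ i • τ) = Y ^ i • τ))
    (h2 : ∀ i ∈ ({2, 5} : Finset ℕ),
      (TT ω • (Y ^ i • (TT 0 * TT p2) • ω) = Y ^ i • (TT 0 * TT p2) • ω ↔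
        TT τ • (Y ^ i • (TT 0 * TT p2) • τ) = Y ^ i • (TT 0 * TT p2) • τ)) :
    ∃ k e1 e2 : ℕ, ω = (Y ^ k * (TT 0) ^ e1 * (TT p2) ^ e2) • τ := by
  obtain ⟨t1, t2, t3, t4⟩ := tau_sig'
  have e1 : ∀ x : Fin 31671, Y ^ 1 • x = Y • x := fun x => by rw [pow_one]
  have e2 : ∀ x : Fin 31671, Y ^ 2 • x = Y • Y • x := fun x => by rw [pow_two, mul_smul]
  have e5 : ∀ x : Fin 31671, Y ^ 5 • x = Y • Y • Y • Y • Y • x := fun x => by
    simp only [pow_succ, pow_zero, one_mul, mul_smul]
  have eE : ∀ x : Fin 31671, (TT 0 * TT p2) • x = gen .c • A • x := fun x => by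
    rw [TT_zero, TT_p2, ← c_comm_A, mul_smul]
  have a1 := h1 1 (by decide)
  have a2 := h1 2 (by decide)
  have a3 := h2 2 (by decide)
  have a4 := h2 5 (by decide)
  rw [e1, e1] at a1
  rw [e2, e2] at a2
  rw [eE, eE, e2, e2] at a3
  rw [eE, eE, e5, e5] at a4
  have b1 := a1.mpr t1
  have b2 := a2.mpr t2
  have b3 : ¬ (TT ω • Y • Y • gen .c • A • ω = Y • Y • gen .c • A • ω) := fun h => t3 (a3.mp h)
  have b4 := a4.mpr t4
  rw [TT_fix_iff] at b1 b2 b3 b4
  rcases (desc ω).2.2 with h | h
  · unfold in44 at h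
    rw [List.any_eq_true] at h
    obtain ⟨p, hp, hx⟩ := h
    have hx' : (ω : ℕ) * 20 = p.1 := Nat.eq_of_beq_eq_true hx
    have hok := L44_ok
    rw [List.all_eq_true] at hok
    have h2 := Nat.eq_of_beq_eq_true (hok p hp)
    refine ⟨p.2.1, p.2.2.1, p.2.2.2, ?_⟩
    apply fin_eq_of_off
    have e0 : (100 : ℕ) = ((τ : Fin 31671) : ℕ) * 20 := by norm_num
    rw [hx', ← h2, e0, cstep_pow, tstep_pow, ystep_Y, mul_smul, mul_smul, TT_zero, TT_p2]
  · exact absurd ⟨b1, b2, b3, b4⟩ h

/-! ### rigidity and the centraliser of `Y` -/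

theorem rigid :
    (TT 0 * Y = Y * TT 0 ∧ TT p2 * Y = Y * TT p2 ∧ TT 0 * TT p2 = TT p2 * TT 0 ∧
      TT 0 ≠ TT p2) ∧
    (∀ c : G, c * Y = Y * c → ∃ k e1 e2 : ℕ, c = Y ^ k * (TT 0) ^ e1 * (TT p2) ^ e2) ∧
    (∀ α : MulAut G, α Y = Y → ∃ c : G, c * Y = Y * c ∧ α (TT τ) = c * TT τ * c⁻¹) :=
  main2 rr_spec comm_of_fix fix_of_comm a_sq a_ne_one h3t Y 0 p2 τ 11 ⟨5, by norm_num⟩ Y_pow p2_ne
    Y_p1 Y_p2 Y_uniq hex closure_top center_triv {1, 2} {2, 5} sig

theorem card_centralizer : Nat.card (Subgroup.centralizer ({Y} : Set G)) = 44 := by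
  have h := card_centralizer_of Y (TT 0) (TT p2) 11 ⟨5, by norm_num⟩ orderOf_Y rigid.1.1
    rigid.1.2.1 rigid.1.2.2.1 (T_sq a_sq 0) (T_sq a_sq p2) (T_ne_one a_ne_one 0)
    (T_ne_one a_ne_one p2) rigid.1.2.2.2 rigid.2.1
  rw [h]

/-! ### the result -/

theorem card_out : Nat.card (Out G) = 1 := by
  have hcard : Nat.card G = 11 * 371770043026636800 := by rw [card_eq]
  have : Finite G := Nat.finite_of_card_ne_zero (by rw [card_eq]; norm_num)
  have hsyl : ∀ m', m' ∣ 11 - 1 → (Nat.card G / (44 * m')) % 11 = 1 → m' = 11 - 1 := by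
    intro m' hm hmod
    rw [card_eq] at hmod
    have hle : m' ≤ 10 := Nat.le_of_dvd (by norm_num) hm
    interval_cases m' <;> omega
  exact Cfsg.Agent.Lib.helper19_OutSylow1.card_out_eq_one 11 (s := 371770043026636800) (c0 := 44)
    hcard (by norm_num) Y (TT τ) orderOf_Y closure_top card_centralizer hsyl rigid.2.2

end Cfsg.Agent.Lib.helper19_Fi23Out
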