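import Cfsg.Agent.Lib.Helper28_S1689Def
import Cfsg.Agent.Lib.helper19_Fi23OutTab

/-!
# Definitions for `Out(Fi23)`: descents and the pointwise checks (helper19)

The 31671 points are the cosets of `2.Fi22 = C(t)` in `Fi23` (helper28's verified table); they
correspond to the conjugates of the involution `t = v j v⁻¹`.
-/

set_option autoImplicit false
set_option linter.constructorNameAsVariable false
set_option Elab.async false

namespace Cfsg.Agent.Lib.helper19_Fi23OutDef

open Cfsg.Spor Cfsg.Agent.Lib.Helper28_CosetPerm Cfsg.Agent.Lib.Helper28_S1689Tab Cfsg.Agent.Lib.Helper28_S1689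
  Cfsg.Agent.Lib.helper19_Fi23OutTab

/-- the word of the element `y` of order 11 -/
def ys : List (Fi23.Gen × Bool) := [(.a, true), (.i, true), (.d, true), (.e, true), (.c, true), (.d, true), (.c, true), (.h, true), (.e, true), (.d, true), (.e, true), (.b, true), (.g, true), (.i, true), (.c, true), (.f, true), (.b, true), (.g, true), (.d, true), (.i, true), (.g, true), (.f, true), (.i, true), (.b, true), (.f, true), (.h, true)]

/-- a word leading from the base point to the point 5 -/
def us : List (Fi23.Gen × Bool) := [(.j, true), (.g, true), (.f, true), (.e, true), (.d, true)]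

/-- the word `v j v⁻¹` of the involution `t` (as letters; all generators are involutions) -/
def tw : List (Fi23.Gen × Bool) := [(.j, true), (.g, true), (.f, true), (.e, true), (.d, true), (.c, true), (.b, true), (.h, true), (.d, true), (.c, true), (.e, true), (.d, true), (.f, true), (.e, true), (.g, true), (.f, true), (.h, true), (.d, true), (.c, true), (.b, true), (.e, true), (.d, true), (.c, true), (.h, true), (.d, true), (.e, true), (.f, true), (.g, true), (.j, true), (.g, true), (.f, true), (.e, true), (.d, true), (.h, true), (.c, true), (.d, true), (.e, true), (.b, true), (.c, true), (.d, true), (.h, true), (.f, true), (.g, true), (.e, true), (.f, true), (.d, true), (.e, true), (.c, true), (.d, true), (.h, true), (.b, true), (.c, true), (.d, true), (.e, true), (.f, true), (.g, true), (.j, true)]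

/-- the conjugating word of the non-6-transposition witness -/
def hw : List (Fi23.Gen × Bool) := [(.j, true), (.g, true), (.f, true), (.a, true), (.e, true), (.d, true), (.g, true), (.a, true), (.h, true), (.d, true), (.a, true), (.j, true), (.c, true)]

/-- the walk along `ys`, unrolled -/
def ystepU (x : ℕ) : ℕ :=
  (Nat.land (Nat.shiftRight cH (Nat.land (Nat.shiftRight cF (Nat.land (Nat.shiftRight cB (Nat.land (Nat.shiftRight cI (Nat.land (Nat.shiftRight cF (Nat.land (Nat.shiftRight cG (Nat.land (Nat.shiftRight cI (Nat.land (Nat.shiftRight cD (Nat.land (Nat.shiftRight cG (Nat.land (Nat.shiftRight cB (Nat.land (Nat.shiftRight cF (Nat.land (Nat.shiftRight cC (Nat.land (Nat.shiftRight cI (Nat.land (Nat.shiftRight cG (Nat.land (Nat.shiftRight cB (Nat.land (Nat.shiftRight cE (Nat.land (Nat.shiftRight cD (Nat.land (Nat.shiftRight cE (Nat.land (Nat.shiftRight cH (Nat.land (Nat.shiftRight cC (Nat.land (Nat.shiftRight cD (Nat.land (Nat.shiftRight cC (Nat.land (Nat.shiftRight cE (Nat.land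 (Nat.shiftRight cD (Nat.land (Nat.shiftRight cI (Nat.land (Nat.shiftRight cA x) 1048575)) 1048575)) 1048575)) 1048575)) 1048575)) 1048575)) 1048575)) 1048575)) 1048575)) 1048575)) 1048575)) 1048575)) 1048575)) 1048575)) 1048575)) 1048575)) 1048575)) 1048575)) 1048575)) 1048575)) 1048575)) 1048575)) 1048575)) 1048575)) 1048575)) 1048575)

theorem ystepU_eq (x : ℕ) : ystepU x = walk 1048575 col ys x := rfl

/-- the walk along `tw`, unrolled -/
def twstepU (x : ℕ) : ℕ :=
  (Nat.land (Nat.shiftRight cJ (Nat.land (Nat.shiftRight cG (Nat.land (Nat.shiftRight cF (Nat.land (Nat.shiftRight cE (Nat.land (Nat.shiftRight cD (Nat.land (Nat.shiftRight cC (Nat.land (Nat.shiftRight cB (Nat.land (Nat.shiftRight cH (Nat.land (Nat.shiftRight cD (Nat.land (Nat.shiftRight cC (Nat.land (Nat.shiftRight cE (Nat.land (Nat.shiftRight cD (Nat.land (Nat.shiftRight cF (Nat.land (Nat.shiftRight cE (Nat.land (Nat.shiftRight cG (Nat.land (Nat.shiftRight cF (Nat.land (Nat.shiftRight cH (Nat.land (Nat.shiftRight cD (Nat.land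 (Nat.shiftRight cC (Nat.land (Nat.shiftRight cB (Nat.land (Nat.shiftRight cE (Nat.land (Nat.shiftRight cD (Nat.land (Nat.shiftRight cC (Nat.land (Nat.shiftRight cH (Nat.land (Nat.shiftRight cD (Nat.land (Nat.shiftRight cE (Nat.land (Nat.shiftRight cF (Nat.land (Nat.shiftRight cG (Nat.land (Nat.shiftRight cJ (Nat.land (Nat.shiftRight cG (Nat.land (Nat.shiftRight cF (Nat.land (Nat.shiftRight cE (Nat.land (Nat.shiftRight cD (Nat.land (Nat.shiftRight cH (Nat.land (Nat.shiftRight cC (Nat.land (Nat.shiftRight cD (Nat.land (Nat.shiftRight cE (Nat.land (Nat.shiftRight cB (Nat.land (Nat.shiftRight cC (Nat.land (Nat.shiftRight cD (Nat.land (Nat.shiftRight cH (Nat.land (Nat.shiftRight cF (Nat.land (Nat.shiftRight cG (Nat.land (Nat.shiftRight cE (Nat.land (Nat.shiftRight cF (Nat.land (Nat.shiftRight cD (Nat.land (Nat.shiftRight cE (Nat.land (Nat.shiftRight cC (Nat.land (Nat.shiftRight cD (Nat.land (Nat.shiftRight cH (Nat.land (Nat.shiftRight cB (Nat.land (Nat.shiftRight cC (Nat.land (Nat.shiftRight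 cD (Nat.land (Nat.shiftRight cE (Nat.land (Nat.shiftRight cF (Nat.land (Nat.shiftRight cG (Nat.land (Nat.shiftRight cJ x) 1048575)) 1048575)) 1048575)) 1048575)) 1048575)) 1048575)) 1048575)) 1048575)) 1048575)) 1048575)) 1048575)) 1048575)) 1048575)) 1048575)) 1048575)) 1048575)) 1048575)) 1048575)) 1048575)) 1048575)) 1048575)) 1048575)) 1048575)) 1048575)) 1048575)) 1048575)) 1048575)) 1048575)) 1048575)) 1048575)) 1048575)) 1048575)) 1048575)) 1048575)) 1048575)) 1048575)) 1048575)) 1048575)) 1048575)) 1048575)) 1048575)) 1048575)) 1048575)) 1048575)) 1048575)) 1048575)) 1048575)) 1048575)) 1048575)) 1048575)) 1048575)) 1048575)) 1048575)) 1048575)) 1048575)) 1048575)) 1048575)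

theorem twstepU_eq (x : ℕ) : twstepU x = walk 1048575 col tw x := rfl

/-- one step of `y` (table lookup) -/
def ystep (x : ℕ) : ℕ := Nat.land (Nat.shiftRight cY x) 1048575

/-- one step of `t` (table lookup) -/
def tstep (x : ℕ) : ℕ := Nat.land (Nat.shiftRight cT x) 1048575

/-- the walk along `us`, unrolled -/
def ustep (x : ℕ) : ℕ :=
  (Nat.land (Nat.shiftRight cD (Nat.land (Nat.shiftRight cE (Nat.land (Nat.shiftRight cF (Nat.land (Nat.shiftRight cG (Nat.land (Nat.shiftRight cJ x) 1048575)) 1048575)) 1048575)) 1048575)) 1048575)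

theorem ustep_eq (x : ℕ) : ustep x = walk 1048575 col us x := rfl

/-- the walk along the reverse of `us`, unrolled -/
def urstep (x : ℕ) : ℕ :=
  (Nat.land (Nat.shiftRight cJ (Nat.land (Nat.shiftRight cG (Nat.land (Nat.shiftRight cF (Nat.land (Nat.shiftRight cE (Nat.land (Nat.shiftRight cD x) 1048575)) 1048575)) 1048575)) 1048575)) 1048575)

theorem urstep_eq (x : ℕ) : urstep x = walk 1048575 col us.reverse x := rfl

/-- one step of the conjugate of `t` attached to the point 5 -/
def ttstep (x : ℕ) : ℕ := ustep (tstep (urstep x))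

/-- the walk along `hw`, unrolled -/
def hstep (x : ℕ) : ℕ :=
  (Nat.land (Nat.shiftRight cC (Nat.land (Nat.shiftRight cJ (Nat.land (Nat.shiftRight cA (Nat.land (Nat.shiftRight cD (Nat.land (Nat.shiftRight cH (Nat.land (Nat.shiftRight cA (Nat.land (Nat.shiftRight cG (Nat.land (Nat.shiftRight cD (Nat.land (Nat.shiftRight cE (Nat.land (Nat.shiftRight cA (Nat.land (Nat.shiftRight cF (Nat.land (Nat.shiftRight cG (Nat.land (Nat.shiftRight cJ x) 1048575)) 1048575)) 1048575)) 1048575)) 1048575)) 1048575)) 1048575)) 1048575)) 1048575)) 1048575)) 1048575)) 1048575)) 1048575)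

theorem hstep_eq (x : ℕ) : hstep x = walk 1048575 col hw x := rfl

/-- the walk along the reverse of `hw`, unrolled -/
def hrstep (x : ℕ) : ℕ :=
  (Nat.land (Nat.shiftRight cJ (Nat.land (Nat.shiftRight cG (Nat.land (Nat.shiftRight cF (Nat.land (Nat.shiftRight cA (Nat.land (Nat.shiftRight cE (Nat.land (Nat.shiftRight cD (Nat.land (Nat.shiftRight cG (Nat.land (Nat.shiftRight cA (Nat.land (Nat.shiftRight cH (Nat.land (Nat.shiftRight cD (Nat.land (Nat.shiftRight cA (Nat.land (Nat.shiftRight cJ (Nat.land (Nat.shiftRight cC x) 1048575)) 1048575)) 1048575)) 1048575)) 1048575)) 1048575)) 1048575)) 1048575)) 1048575)) 1048575)) 1048575)) 1048575)) 1048575)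

theorem hrstep_eq (x : ℕ) : hrstep x = walk 1048575 col hw.reverse x := rfl

/-- one step of `c` -/
def cstep (x : ℕ) : ℕ := Nat.land (Nat.shiftRight cC x) 1048575

/-- one step of `E = t c` -/
def estep (x : ℕ) : ℕ := Nat.land (Nat.shiftRight cC (tstep x)) 1048575

/-- iterate a step function -/
def itr (f : ℕ → ℕ) (m : ℕ) (x : ℕ) : ℕ := Nat.rec x (fun _ ih => f ih) m

theorem itr_zero (f : ℕ → ℕ) (x : ℕ) : itr f 0 x = x := rfl
theorem itr_succ (f : ℕ → ℕ) (m : ℕ) (x : ℕ) : itr f (m + 1) x = f (itr f m x) := rfl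

/-- the column of the macro letter with index `i` (kernel friendly) -/
def colSel (i : ℕ) : ℕ :=
  (@Nat.rec (fun _ => ℕ) (Nat.add cY 0) (fun n _ => (@Nat.rec (fun _ => ℕ) (Nat.add cH 0) (fun n _ => (@Nat.rec (fun _ => ℕ) (Nat.add cI 0) (fun n _ => (@Nat.rec (fun _ => ℕ) (Nat.add cF 0) (fun n _ => (@Nat.rec (fun _ => ℕ) (Nat.add cJ 0) (fun n _ => (@Nat.rec (fun _ => ℕ) (Nat.add cD 0) (fun n _ => (@Nat.rec (fun _ => ℕ) (Nat.add cG 0) (fun n _ => (@Nat.rec (fun _ => ℕ) (Nat.add cE 0) (fun n _ => (@Nat.rec (fun _ => ℕ) (Nat.add cB 0) (fun n _ => (@Nat.rec (fun _ => ℕ) (Nat.add cA 0) (fun _ _ => (Nat.add cC 0)) n)) n)) n)) n)) n)) n)) n)) n)) n)) i)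

/-- the column of the macro letter with index `i` -/
def mcol : ℕ → ℕ
  | 0 => cY
  | 1 => cH
  | 2 => cI
  | 3 => cF
  | 4 => cJ
  | 5 => cD
  | 6 => cG
  | 7 => cE
  | 8 => cB
  | 9 => cA
  | _ => cC

/-- the generator of the macro letter with index `i` (`none` for the letter `y`) -/
def mgen : ℕ → Option Fi23.Gen
  | 0 => none
  | 1 => some .h
  | 2 => some .i
  | 3 => some .f
  | 4 => some .j
  | 5 => some .d
  | 6 => some .g
  | 7 => some .e
  | 8 => some .b
  | 9 => some .a
  | _ => some .c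

/-- one step along the macro letter `i` -/
def mstep (i x : ℕ) : ℕ := Nat.land (Nat.shiftRight (colSel i) x) 1048575

/-- the parent letter index at the offset `x` -/
def parN (x : ℕ) : ℕ := Nat.land (Nat.shiftRight par x) 1048575

/-- the depth of the offset `x` -/
def depN (x : ℕ) : ℕ := Nat.land (Nat.shiftRight dep x) 1048575

/-- walk along macro letters -/
def mwalk : List ℕ → ℕ → ℕ
  | [], x => x
  | i :: is, x => mwalk is (mstep i x)

/-- the macro word leading from the offset `x'` towards the base point (`f` letters) -/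
def dw : ℕ → ℕ → List ℕ
  | 0, _ => []
  | f + 1, x' => parN x' :: dw f (mstep (parN x') x')

/-- the descent of `x'` carrying six more offsets along -/
def pw (f : ℕ) : ℕ → ℕ → ℕ → ℕ → ℕ → ℕ → ℕ → List ℕ :=
  Nat.rec (fun x' t1 t2 t3 t4 t5 t6 => [x', t1, t2, t3, t4, t5, t6])
    (fun _ ih x' t1 t2 t3 t4 t5 t6 =>
      (fun C => ih (Nat.land (Nat.shiftRight C x') 1048575) (Nat.land (Nat.shiftRight C t1) 1048575)
        (Nat.land (Nat.shiftRight C t2) 1048575) (Nat.land (Nat.shiftRight C t3) 1048575)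
        (Nat.land (Nat.shiftRight C t4) 1048575) (Nat.land (Nat.shiftRight C t5) 1048575)
        (Nat.land (Nat.shiftRight C t6) 1048575)) (colSel (Nat.land (Nat.shiftRight par x') 1048575))) f

theorem pw_eq (f : ℕ) (x' t1 t2 t3 t4 t5 t6 : ℕ) :
    pw f x' t1 t2 t3 t4 t5 t6 = [mwalk (dw f x') x', mwalk (dw f x') t1, mwalk (dw f x') t2,
      mwalk (dw f x') t3, mwalk (dw f x') t4, mwalk (dw f x') t5, mwalk (dw f x') t6] := by
  induction f generalizing x' t1 t2 t3 t4 t5 t6 with
  | zero => rfl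
  | succ f ih =>
    show pw f (mstep (parN x') x') (mstep (parN x') t1) (mstep (parN x') t2) (mstep (parN x') t3)
      (mstep (parN x') t4) (mstep (parN x') t5) (mstep (parN x') t6) = _
    rw [ih]
    rfl

/-- is the offset fixed by `t`? -/
def tfix (x : ℕ) : Bool := Nat.beq (tstep x) x

/-- the 44 points with the signature of the point 5, as `(offset, k, e1, e2)` -/
def L44 : List (ℕ × ℕ × ℕ × ℕ) := [(100, 0, 0, 0), (120, 0, 0, 1), (140, 1, 0, 1), (180, 1, 0, 0), (3880, 10, 0, 1), (4260, 2, 0, 0), (5680, 10, 0, 0), (6200, 2, 0, 1), (12740, 2, 1, 0), (17620, 3, 1, 1), (18120, 2, 1, 1), (23300, 3, 0, 1), (24720, 3, 1, 0), (29600, 3, 0, 0), (33660, 5, 1, 1), (34620, 1, 1, 0), (37360, 10, 1, 0), (42000, 5, 1, 0), (43160, 10, 1, 1), (46040, 5, 0, 1), (47280, 1, 1, 1), (47300, 0, 1, 1), (62140, 5, 0, 0), (63600, 0, 1, 0), (139020, 4, 0, 0), (159240, 9, 0, 1), (163340, 4, 1, 0), (165380, 6, 1, 0), (170020, 4, 0, 1), (181100, 9, 1, 1), (192360, 9, 0, 0), (197660, 4, 1, 1), (200700, 6, 1,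 1), (204480, 6, 0, 0), (219680, 9, 1, 0), (245560, 6, 0, 1), (312780, 7, 1, 1), (353360, 7, 0, 1), (355340, 7, 1, 0), (386180, 7, 0, 0), (505680, 8, 1, 0), (522800, 8, 0, 0), (529580, 8, 1, 1), (546900, 8, 0, 1)]

def in44 (x : ℕ) : Bool := L44.any (fun p => Nat.beq x p.1)

/-- the evaluation of the descended tracks -/
def evalTracks (x : ℕ) : List ℕ → Bool
  | [r, q1, q2, s1, s2, s3, s4] =>
    and (Nat.beq r 0) (and (or (tfix x) (Nat.beq q1 (tstep q2)))
      (or (in44 x) (not (and (tfix s1) (and (tfix s2) (and (not (tfix s3)) (tfix s4)))))))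
  | _ => false

/-! ### the pointwise checks -/

def descOk (x : ℕ) : Bool :=
  evalTracks x (pw (depN x) x (tstep x) 0 (ystep x) (ystep (ystep x)) (ystep (ystep (estep x)))
    (ystep (ystep (ystep (ystep (ystep (estep x)))))))

def cyOk (x : ℕ) : Bool := Nat.beq (ystepU x) (ystep x)

def ctOk (x : ℕ) : Bool := Nat.beq (twstepU x) (tstep x)

def fixOk (x : ℕ) : Bool := or (Nat.beq x 0) (or (Nat.beq x 160060) (not (Nat.beq (ystep x) x)))

def genOk (x : ℕ) : Bool :=
  or (Nat.beq x 100) (or (Nat.blt (Nat.land (Nat.shiftRight rk2 (ystep x)) 1048575) (Nat.land (Nat.shiftRight rk2 x) 1048575))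
    (Nat.blt (Nat.land (Nat.shiftRight rk2 (ttstep x)) 1048575) (Nat.land (Nat.shiftRight rk2 x) 1048575)))

/-- all checks at once -/
def allOk (x : ℕ) : Bool :=
  and (descOk x) (and (cyOk x) (and (ctOk x) (and (fixOk x) (genOk x))))

end Cfsg.Agent.Lib.helper19_Fi23OutDef
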