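import Cfsg.Agent.Lib.helper19_Fi24L

/-! Generated: relator checks, file 0; by helper19. -/

set_option autoImplicit false
set_option maxRecDepth 1000000
set_option Elab.async false

namespace Cfsg.Agent.Lib.helper19_Fi24L
open Cfsg.Agent.Lib.helper19_TC2 Cfsg.Agent.Lib.helper19_TC2L Cfsg.Agent.Lib.helper19_Benes

theorem pl0_0 : checkPlanes nets 19 [6, 10, 6, 10] 19 0 = true := by
  decide +kernel

theorem pl1_0 : checkPlanes nets 19 [5, 11, 5, 11] 19 0 = true := by
  decide +kernel

theorem pl2_0 : checkPlanes nets 19 [6, 11, 6, 11] 19 0 = true := by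
  decide +kernel

theorem pl3_0 : checkPlanes nets 19 [7, 10, 7, 10] 19 0 = true := by
  decide +kernel

theorem pl4_0 : checkPlanes nets 19 [7, 11, 7, 11] 19 0 = true := by
  decide +kernel

end Cfsg.Agent.Lib.helper19_Fi24L
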