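import Cfsg.Agent.Lib.helper19_Fi24L

/-! Generated: relator checks, file 10; by helper19. -/

set_option autoImplicit false
set_option maxRecDepth 1000000
set_option Elab.async false

namespace Cfsg.Agent.Lib.helper19_Fi24L
open Cfsg.Agent.Lib.helper19_TC2 Cfsg.Agent.Lib.helper19_TC2L Cfsg.Agent.Lib.helper19_Benes

theorem pl46_0 : checkPlanes nets 19 [2, 4, 2, 4] 19 0 = true := by
  decide +kernel

theorem pl47_0 : checkPlanes nets 19 [0, 7, 0, 7] 19 0 = true := by
  decide +kernel

theorem pl48_0 : checkPlanes nets 19 [3, 8, 3, 8] 19 0 = true := by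
  decide +kernel

theorem pl49_0 : checkPlanes nets 19 [10, 10] 19 0 = true := by
  decide +kernel

theorem pl50_0 : checkPlanes nets 19 [11, 11] 19 0 = true := by
  decide +kernel

theorem pl51_0 : checkPlanes nets 19 [1, 4, 1, 4] 19 0 = true := by
  decide +kernel

end Cfsg.Agent.Lib.helper19_Fi24L
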