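import Cfsg.Agent.Lib.helper19_Fi24L

/-! Generated: relator checks, file 11; by helper19. -/

set_option autoImplicit false
set_option maxRecDepth 1000000
set_option Elab.async false

namespace Cfsg.Agent.Lib.helper19_Fi24L
open Cfsg.Agent.Lib.helper19_TC2 Cfsg.Agent.Lib.helper19_TC2L Cfsg.Agent.Lib.helper19_Benes

theorem pl52_0 : checkPlanes nets 19 [0, 4, 0, 4] 19 0 = true := by
  decide +kernel

theorem pl53_0 : checkPlanes nets 19 [3, 4, 3, 4, 3, 4] 16 0 = true := by
  decide +kernel

theorem pl53_1 : checkPlanes nets 19 [3, 4, 3, 4, 3, 4] 3 16 = true := by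
  decide +kernel

theorem pl54_0 : checkPlanes nets 19 [2, 8, 2, 8] 19 0 = true := by
  decide +kernel

theorem pl55_0 : checkPlanes nets 19 [3, 9, 3, 9] 19 0 = true := by
  decide +kernel

end Cfsg.Agent.Lib.helper19_Fi24L
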