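import Cfsg.Agent.Lib.helper19_Fi24L

/-! Generated: relator checks, file 12; by helper19. -/

set_option autoImplicit false
set_option maxRecDepth 1000000
set_option Elab.async false

namespace Cfsg.Agent.Lib.helper19_Fi24L
open Cfsg.Agent.Lib.helper19_TC2 Cfsg.Agent.Lib.helper19_TC2L Cfsg.Agent.Lib.helper19_Benes

theorem pl56_0 : checkPlanes nets 19 [1, 8, 1, 8] 19 0 = true := by
  decide +kernel

theorem pl57_0 : checkPlanes nets 19 [5, 5] 19 0 = true := by
  decide +kernel

theorem pl58_0 : checkPlanes nets 19 [0, 8, 0, 8] 19 0 = true := by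
  decide +kernel

theorem pl59_0 : checkPlanes nets 19 [8, 9, 8, 9, 8, 9] 16 0 = true := by
  decide +kernel

theorem pl59_1 : checkPlanes nets 19 [8, 9, 8, 9, 8, 9] 3 16 = true := by
  decide +kernel

theorem pl60_0 : checkPlanes nets 19 [6, 6] 19 0 = true := by
  decide +kernel

theorem pl61_0 : checkPlanes nets 19 [8, 8] 19 0 = true := by
  decide +kernel

end Cfsg.Agent.Lib.helper19_Fi24L
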