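import Cfsg.Agent.Lib.helper19_Fi24L

/-! Generated: relator checks, file 14; by helper19. -/

set_option autoImplicit false
set_option maxRecDepth 1000000
set_option Elab.async false

namespace Cfsg.Agent.Lib.helper19_Fi24L
open Cfsg.Agent.Lib.helper19_TC2 Cfsg.Agent.Lib.helper19_TC2L Cfsg.Agent.Lib.helper19_Benes

theorem pl67_1 : checkPlanes nets 19 [2, 3, 2, 3, 2, 3] 3 16 = true := by
  decide +kernel

theorem pl68_0 : checkPlanes nets 19 [4, 4] 19 0 = true := by
  decide +kernel

theorem pl69_0 : checkPlanes nets 19 [1, 9, 1, 9] 19 0 = true := by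
  decide +kernel

theorem pl70_0 : checkPlanes nets 19 [1, 1] 19 0 = true := by
  decide +kernel

theorem pl71_0 : checkPlanes nets 19 [2, 2] 19 0 = true := by
  decide +kernel

theorem pl72_0 : checkPlanes nets 19 [0, 9, 0, 9] 19 0 = true := by
  decide +kernel

theorem pl73_0 : checkPlanes nets 19 [3, 3] 19 0 = true := by
  decide +kernel

theorem pl74_0 : checkPlanes nets 19 [0, 2, 0, 2] 19 0 = true := by
  decide +kernel

end Cfsg.Agent.Lib.helper19_Fi24L
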