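import Cfsg.Agent.Lib.helper19_Fi24L

/-! Generated: relator checks, file 19; by helper19. -/

set_option autoImplicit false
set_option maxRecDepth 1000000
set_option Elab.async false

namespace Cfsg.Agent.Lib.helper19_Fi24L
open Cfsg.Agent.Lib.helper19_TC2 Cfsg.Agent.Lib.helper19_TC2L Cfsg.Agent.Lib.helper19_Benes

theorem pl80_0 : checkPlanes nets 19 [5, 4, 3, 2, 1, 0, 5, 6, 7, 8, 9, 5, 10, 11, 5, 4, 3, 2, 1, 0, 5, 6, 7, 8, 9, 5, 10, 11, 5, 4, 3, 2, 1, 0, 5, 6, 7, 8, 9, 5, 10, 11, 5, 4, 3, 2, 1, 0, 5, 6, 7, 8, 9, 5, 10, 11, 5, 4, 3, 2, 1, 0, 5, 6, 7, 8, 9, 5, 10, 11, 5, 4, 3, 2, 1, 0, 5, 6, 7, 8, 9, 5, 10, 11, 5, 4, 3, 2, 1, 0, 5, 6, 7, 8, 9, 5, 10, 11, 5, 4, 3, 2, 1, 0, 5, 6, 7, 8, 9, 5, 10, 11, 5, 4, 3, 2, 1, 0, 5, 6, 7, 8,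 9, 5, 10, 11, 5, 4, 3, 2, 1, 0, 5, 6, 7, 8, 9, 5, 10, 11, 5, 4, 3, 2, 1, 0, 5, 6, 7, 8, 9, 5, 10, 11, 5, 4, 3, 2, 1, 0, 5, 6, 7, 8, 9, 5, 10, 11, 5, 4, 3, 2, 1, 0, 5, 6, 7, 8, 9, 5, 10, 11, 5, 4, 3, 2, 1, 0, 5, 6, 7, 8, 9, 5, 10, 11, 5, 4, 3, 2, 1, 0, 5, 6, 7, 8, 9, 5, 10, 11, 5, 4, 3, 2, 1, 0, 5, 6, 7, 8, 9, 5, 10, 11, 5, 4, 3, 2, 1, 0, 5, 6, 7, 8, 9, 5, 10, 11] 1 0 = true := by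
  decide +kernel

end Cfsg.Agent.Lib.helper19_Fi24L
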