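import Cfsg.Agent.Lib.helper19_Fi24L

/-! Generated: relator checks, file 6; by helper19. -/

set_option autoImplicit false
set_option maxRecDepth 1000000
set_option Elab.async false

namespace Cfsg.Agent.Lib.helper19_Fi24L
open Cfsg.Agent.Lib.helper19_TC2 Cfsg.Agent.Lib.helper19_TC2L Cfsg.Agent.Lib.helper19_Benes

theorem pl29_0 : checkPlanes nets 19 [2, 5, 2, 5] 19 0 = true := by
  decide +kernel

theorem pl30_0 : checkPlanes nets 19 [4, 7, 4, 7] 19 0 = true := by
  decide +kernel

theorem pl31_0 : checkPlanes nets 19 [3, 6, 3, 6] 19 0 = true := by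
  decide +kernel

theorem pl32_0 : checkPlanes nets 19 [6, 7, 6, 7, 6, 7] 16 0 = true := by
  decide +kernel

theorem pl32_1 : checkPlanes nets 19 [6, 7, 6, 7, 6, 7] 3 16 = true := by
  decide +kernel

end Cfsg.Agent.Lib.helper19_Fi24L
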