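import Cfsg.Agent.Lib.helper19_Fi24U

/-! Generated: final table rows, part 6; by helper19. -/

set_option autoImplicit false
set_option maxRecDepth 1000000
set_option Elab.async false

namespace Cfsg.Agent.Lib.helper19_Fi24U
open Cfsg.Agent.Lib.helper19_TC2

theorem rows6 : checkRows P 4271 25626 = true := by decide +kernel

end Cfsg.Agent.Lib.helper19_Fi24U
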