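import Mathlib
import Cfsg.Agent.Lib.helper19_TC2

/-!
Splitting lemmas for the upper-bound checks of `helper19_TC2` (so that each kernel evaluation
stays small).  By helper19.
-/

set_option autoImplicit false

namespace Cfsg.Agent.Lib.helper19_TC2U2

open Cfsg.Agent.Lib.helper19_TC2

theorem countLive_split (P : Params) (n m z acc : ℕ) :
    countLive P (n + m) z acc = countLive P m (z + n) (countLive P n z acc) := by
  rw [countLive_eq, countLive_eq, countLive_eq]
  have hI : Finset.Ico z (z + (n + m)) = Finset.Ico z (z + n) ∪ Finset.Ico (z + n) (z + n + m) := by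
    ext x; simp only [Finset.mem_Ico, Finset.mem_union]; omega
  rw [hI, Finset.filter_union, Finset.card_union_of_disjoint
    (Finset.disjoint_filter_filter (Finset.Ico_disjoint_Ico_consecutive z (z + n) (z + n + m)))]
  omega

/-- one more block of the count. -/
theorem countLive_step (P : Params) {n m z a b : ℕ} (h1 : countLive P n z 0 = a)
    (h2 : countLive P m (z + n) a = b) : countLive P (n + m) z 0 = b := by
  rw [countLive_split, h1, h2]

variable {G : Type*} [Group G] {P : Params} (Mo : Model P G)

/-- the definition facts of a checked range hold. -/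
theorem good_of_checkDefs_part {n z : ℕ} (hdefs : checkDefs P n z = true) (hz : 0 < z) :
    ∀ j, z - 1 ≤ j → j < z - 1 + n → Good Mo j := by
  intro j h1 h2
  obtain ⟨a1, a2, a3⟩ := checkDefs_sound _ _ hdefs (j - (z - 1)) (by omega)
  rw [show z + (j - (z - 1)) - 1 = j by omega] at a1 a2 a3
  rw [show z + (j - (z - 1)) = j + 1 by omega] at a1 a2
  unfold Good
  rw [a2, rep_succ Mo.S j a1]
  simp only [L, a3, if_true]
  have : rep P Mo.S (P.fa j) * Mo.S (P.fl j) * (rep P Mo.S (P.fa j) * Mo.S (P.fl j))⁻¹ = 1 := by
    group
  rw [this]; exact Mo.H.one_mem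

end Cfsg.Agent.Lib.helper19_TC2U2
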