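import Cfsg.Agent.Lib.helper19_TC2
import Cfsg.Agent.Lib.helper19_TC2U2
import Cfsg.Agent.Lib.helper19_TC2L
import Cfsg.Agent.Lib.helper19_Benes
import Cfsg.Agent.Lib.helper19_Fi24UT0
import Cfsg.Agent.Lib.helper19_Fi24UT1
import Cfsg.Agent.Lib.helper19_Fi24UT2
import Cfsg.Agent.Lib.helper19_Fi24UT3
import Cfsg.Agent.Lib.helper19_Fi24UT4
import Cfsg.Agent.Lib.helper19_Fi24UT5
import Cfsg.Agent.Lib.helper19_Fi24UT6
import Cfsg.Agent.Lib.helper19_Fi24UT7
import Cfsg.Agent.Lib.helper19_Fi24U
import Cfsg.Agent.Lib.helper19_Fi24UD0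
import Cfsg.Agent.Lib.helper19_Fi24UD1
import Cfsg.Agent.Lib.helper19_Fi24UD2
import Cfsg.Agent.Lib.helper19_Fi24UD3
import Cfsg.Agent.Lib.helper19_Fi24UD4
import Cfsg.Agent.Lib.helper19_Fi24UD5
import Cfsg.Agent.Lib.helper19_Fi24UN0
import Cfsg.Agent.Lib.helper19_Fi24UN1
import Cfsg.Agent.Lib.helper19_Fi24UN2
import Cfsg.Agent.Lib.helper19_Fi24UN3
import Cfsg.Agent.Lib.helper19_Fi24UN4
import Cfsg.Agent.Lib.helper19_Fi24UN5
import Cfsg.Agent.Lib.helper19_Fi24UN6
import Cfsg.Agent.Lib.helper19_Fi24UN7
import Cfsg.Agent.Lib.helper19_Fi24UN8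
import Cfsg.Agent.Lib.helper19_Fi24UR0
import Cfsg.Agent.Lib.helper19_Fi24UR1
import Cfsg.Agent.Lib.helper19_Fi24UR2
import Cfsg.Agent.Lib.helper19_Fi24UR3
import Cfsg.Agent.Lib.helper19_Fi24UR4
import Cfsg.Agent.Lib.helper19_Fi24UR5
import Cfsg.Agent.Lib.helper19_Fi24UR6
import Cfsg.Agent.Lib.helper19_Fi24UR7
import Cfsg.Agent.Lib.helper19_Fi24UR8
import Cfsg.Agent.Lib.helper19_Fi24UR9
import Cfsg.Agent.Lib.helper19_Fi24UR10
import Cfsg.Agent.Lib.helper19_Fi24UR11
import Cfsg.Agent.Lib.helper19_Fi24UR12
import Cfsg.Agent.Lib.helper19_Fi24UR13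
import Cfsg.Agent.Lib.helper19_Fi24UR14
import Cfsg.Agent.Lib.helper19_Fi24UR15
import Cfsg.Agent.Lib.helper19_Fi24UR16
import Cfsg.Agent.Lib.helper19_Fi24UR17
import Cfsg.Agent.Lib.helper19_Fi24UR18
import Cfsg.Agent.Lib.helper19_Fi24UR19
import Cfsg.Agent.Lib.helper19_Fi24UR20
import Cfsg.Agent.Lib.helper19_Fi24UR21
import Cfsg.Agent.Lib.helper19_Fi24UR22
import Cfsg.Agent.Lib.helper19_Fi24UR23
import Cfsg.Agent.Lib.helper19_Fi24UR24
import Cfsg.Agent.Lib.helper19_Fi24UR25
import Cfsg.Agent.Lib.helper19_Fi24UR26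
import Cfsg.Agent.Lib.helper19_Fi24UR27
import Cfsg.Agent.Lib.helper19_Fi24UR28
import Cfsg.Agent.Lib.helper19_Fi24UR29
import Cfsg.Agent.Lib.helper19_Fi24UR30
import Cfsg.Agent.Lib.helper19_Fi24UR31
import Cfsg.Agent.Lib.helper19_Fi24UR32
import Cfsg.Agent.Lib.helper19_Fi24UR33
import Cfsg.Agent.Lib.helper19_Fi24UR34
import Cfsg.Agent.Lib.helper19_Fi24UR35
import Cfsg.Agent.Lib.helper19_Fi24UR36
import Cfsg.Agent.Lib.helper19_Fi24UR37
import Cfsg.Agent.Lib.helper19_Fi24UR38
import Cfsg.Agent.Lib.helper19_Fi24UR39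
import Cfsg.Agent.Lib.helper19_Fi24UR40
import Cfsg.Agent.Lib.helper19_Fi24UR41
import Cfsg.Agent.Lib.helper19_Fi24UR42
import Cfsg.Agent.Lib.helper19_Fi24UR43
import Cfsg.Agent.Lib.helper19_Fi24UR44
import Cfsg.Agent.Lib.helper19_Fi24UR45
import Cfsg.Agent.Lib.helper19_Fi24UR46
import Cfsg.Agent.Lib.helper19_Fi24UR47
import Cfsg.Agent.Lib.helper19_Fi24UR48
import Cfsg.Agent.Lib.helper19_Fi24UR49
import Cfsg.Agent.Lib.helper19_Fi24UR50
import Cfsg.Agent.Lib.helper19_Fi24UR51
import Cfsg.Agent.Lib.helper19_Fi24UR52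
import Cfsg.Agent.Lib.helper19_Fi24UR53
import Cfsg.Agent.Lib.helper19_Fi24UR54
import Cfsg.Agent.Lib.helper19_Fi24UR55
import Cfsg.Agent.Lib.helper19_Fi24UR56
import Cfsg.Agent.Lib.helper19_Fi24UR57
import Cfsg.Agent.Lib.helper19_Fi24UR58
import Cfsg.Agent.Lib.helper19_Fi24UR59
import Cfsg.Agent.Lib.helper19_Fi24UR60
import Cfsg.Agent.Lib.helper19_Fi24UR61
import Cfsg.Agent.Lib.helper19_Fi24UR62
import Cfsg.Agent.Lib.helper19_Fi24UR63
import Cfsg.Agent.Lib.helper19_Fi24UR64
import Cfsg.Agent.Lib.helper19_Fi24UR65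
import Cfsg.Agent.Lib.helper19_Fi24UR66
import Cfsg.Agent.Lib.helper19_Fi24UR67
import Cfsg.Agent.Lib.helper19_Fi24UR68
import Cfsg.Agent.Lib.helper19_Fi24UR69
import Cfsg.Agent.Lib.helper19_Fi24UR70
import Cfsg.Agent.Lib.helper19_Fi24UR71
import Cfsg.Agent.Lib.helper19_Fi24UR72
import Cfsg.Agent.Lib.helper19_Fi24UR73
import Cfsg.Agent.Lib.helper19_Fi24UR74
import Cfsg.Agent.Lib.helper19_Fi24UR75
import Cfsg.Agent.Lib.helper19_Fi24UR76
import Cfsg.Agent.Lib.helper19_Fi24UR77
import Cfsg.Agent.Lib.helper19_Fi24UR78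
import Cfsg.Agent.Lib.helper19_Fi24UR79
import Cfsg.Agent.Lib.helper19_Fi24UR80
import Cfsg.Agent.Lib.helper19_Fi24UC0
import Cfsg.Agent.Lib.helper19_Fi24UC1
import Cfsg.Agent.Lib.helper19_Fi24UC2
import Cfsg.Agent.Lib.helper19_Fi24UC3
import Cfsg.Agent.Lib.helper19_Fi24UC4
import Cfsg.Agent.Lib.helper19_Fi24UC5
import Cfsg.Agent.Lib.helper19_Fi24UC6
import Cfsg.Agent.Lib.helper19_Fi24UC7
import Cfsg.Agent.Lib.helper19_Fi24UC8
import Cfsg.Agent.Lib.helper19_Fi24UC9
import Cfsg.Agent.Lib.helper19_Fi24UC10
import Cfsg.Agent.Lib.helper19_Fi24UC11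
import Cfsg.Agent.Lib.helper19_Fi24UC12
import Cfsg.Agent.Lib.helper19_Fi24UC13
import Cfsg.Agent.Lib.helper19_Fi24UC14
import Cfsg.Agent.Lib.helper19_Fi24UC15
import Cfsg.Agent.Lib.helper19_Fi24UC16
import Cfsg.Agent.Lib.helper19_Fi24UC17
import Cfsg.Agent.Lib.helper19_Fi24UC18
import Cfsg.Agent.Lib.helper19_Fi24UC19
import Cfsg.Agent.Lib.helper19_Fi24UC20
import Cfsg.Agent.Lib.helper19_Fi24UC21
import Cfsg.Agent.Lib.helper19_Fi24UC22
import Cfsg.Agent.Lib.helper19_Fi24UC23
import Cfsg.Agent.Lib.helper19_Fi24UC24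
import Cfsg.Agent.Lib.helper19_Fi24UC25
import Cfsg.Agent.Lib.helper19_Fi24UC26
import Cfsg.Agent.Lib.helper19_Fi24UC27
import Cfsg.Agent.Lib.helper19_Fi24UC28
import Cfsg.Agent.Lib.helper19_Fi24UC29
import Cfsg.Agent.Lib.helper19_Fi24UC30
import Cfsg.Agent.Lib.helper19_Fi24UC31
import Cfsg.Agent.Lib.helper19_Fi24UC32
import Cfsg.Agent.Lib.helper19_Fi24UC33
import Cfsg.Agent.Lib.helper19_Fi24UC34
import Cfsg.Agent.Lib.helper19_Fi24UC35
import Cfsg.Agent.Lib.helper19_Fi24UC36
import Cfsg.Agent.Lib.helper19_Fi24UC37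
import Cfsg.Agent.Lib.helper19_Fi24UC38
import Cfsg.Agent.Lib.helper19_Fi24UC39
import Cfsg.Agent.Lib.helper19_Fi24UC40
import Cfsg.Agent.Lib.helper19_Fi24UC41
import Cfsg.Agent.Lib.helper19_Fi24UC42
import Cfsg.Agent.Lib.helper19_Fi24UC43
import Cfsg.Agent.Lib.helper19_Fi24UC44
import Cfsg.Agent.Lib.helper19_Fi24UC45
import Cfsg.Agent.Lib.helper19_Fi24UC46
import Cfsg.Agent.Lib.helper19_Fi24UC47
import Cfsg.Agent.Lib.helper19_Fi24UC48
import Cfsg.Agent.Lib.helper19_Fi24UC49
import Cfsg.Agent.Lib.helper19_Fi24UC50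
import Cfsg.Agent.Lib.helper19_Fi24UC51
import Cfsg.Agent.Lib.helper19_Fi24UC52
import Cfsg.Agent.Lib.helper19_Fi24UC53
import Cfsg.Agent.Lib.helper19_Fi24UC54
import Cfsg.Agent.Lib.helper19_Fi24UC55
import Cfsg.Agent.Lib.helper19_Fi24UC56
import Cfsg.Agent.Lib.helper19_Fi24UC57
import Cfsg.Agent.Lib.helper19_Fi24UC58
import Cfsg.Agent.Lib.helper19_Fi24UC59
import Cfsg.Agent.Lib.helper19_Fi24UC60
import Cfsg.Agent.Lib.helper19_Fi24UC61
import Cfsg.Agent.Lib.helper19_Fi24UC62
import Cfsg.Agent.Lib.helper19_Fi24UC63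
import Cfsg.Agent.Lib.helper19_Fi24UC64
import Cfsg.Agent.Lib.helper19_Fi24UC65
import Cfsg.Agent.Lib.helper19_Fi24UC66
import Cfsg.Agent.Lib.helper19_Fi24UC67
import Cfsg.Agent.Lib.helper19_Fi24UC68
import Cfsg.Agent.Lib.helper19_Fi24UC69
import Cfsg.Agent.Lib.helper19_Fi24UC70
import Cfsg.Agent.Lib.helper19_Fi24UC71
import Cfsg.Agent.Lib.helper19_Fi24UC72
import Cfsg.Agent.Lib.helper19_Fi24UC73
import Cfsg.Agent.Lib.helper19_Fi24UC74
import Cfsg.Agent.Lib.helper19_Fi24UC75
import Cfsg.Agent.Lib.helper19_Fi24UC76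
import Cfsg.Agent.Lib.helper19_Fi24UC77
import Cfsg.Agent.Lib.helper19_Fi24UC78
import Cfsg.Agent.Lib.helper19_Fi24UC79
import Cfsg.Agent.Lib.helper19_Fi24UC80
import Cfsg.Agent.Lib.helper19_Fi24UC81
import Cfsg.Agent.Lib.helper19_Fi24UC82
import Cfsg.Agent.Lib.helper19_Fi24UC83
import Cfsg.Agent.Lib.helper19_Fi24UC84
import Cfsg.Agent.Lib.helper19_Fi24UC85
import Cfsg.Agent.Lib.helper19_Fi24UC86
import Cfsg.Agent.Lib.helper19_Fi24UC87
import Cfsg.Agent.Lib.helper19_Fi24UC88
import Cfsg.Agent.Lib.helper19_Fi24UC89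
import Cfsg.Agent.Lib.helper19_Fi24UC90
import Cfsg.Agent.Lib.helper19_Fi24UC91
import Cfsg.Agent.Lib.helper19_Fi24UC92
import Cfsg.Agent.Lib.helper19_Fi24UC93
import Cfsg.Agent.Lib.helper19_Fi24UC94
import Cfsg.Agent.Lib.helper19_Fi24UC95
import Cfsg.Agent.Lib.helper19_Fi24UC96
import Cfsg.Agent.Lib.helper19_Fi24UC97
import Cfsg.Agent.Lib.helper19_Fi24UC98
import Cfsg.Agent.Lib.helper19_Fi24UC99
import Cfsg.Agent.Lib.helper19_Fi24UC100
import Cfsg.Agent.Lib.helper19_Fi24UC101
import Cfsg.Agent.Lib.helper19_Fi24UC102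
import Cfsg.Agent.Lib.helper19_Fi24UC103
import Cfsg.Agent.Lib.helper19_Fi24UC104
import Cfsg.Agent.Lib.helper19_Fi24UC105
import Cfsg.Agent.Lib.helper19_Fi24UC106
import Cfsg.Agent.Lib.helper19_Fi24UC107
import Cfsg.Agent.Lib.helper19_Fi24UC108
import Cfsg.Agent.Lib.helper19_Fi24UC109
import Cfsg.Agent.Lib.helper19_Fi24UC110
import Cfsg.Agent.Lib.helper19_Fi24UC111
import Cfsg.Agent.Lib.helper19_Fi24UC112
import Cfsg.Agent.Lib.helper19_Fi24UC113
import Cfsg.Agent.Lib.helper19_Fi24UC114
import Cfsg.Agent.Lib.helper19_Fi24UC115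
import Cfsg.Agent.Lib.helper19_Fi24UC116
import Cfsg.Agent.Lib.helper19_Fi24UC117
import Cfsg.Agent.Lib.helper19_Fi24UC118
import Cfsg.Agent.Lib.helper19_Fi24UC119
import Cfsg.Agent.Lib.helper19_Fi24UC120
import Cfsg.Agent.Lib.helper19_Fi24UC121
import Cfsg.Agent.Lib.helper19_Fi24UC122
import Cfsg.Agent.Lib.helper19_Fi24UC123
import Cfsg.Agent.Lib.helper19_Fi24UC124
import Cfsg.Agent.Lib.helper19_Fi24UC125
import Cfsg.Agent.Lib.helper19_Fi24UC126
import Cfsg.Agent.Lib.helper19_Fi24UC127
import Cfsg.Agent.Lib.helper19_Fi24UC128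
import Cfsg.Agent.Lib.helper19_Fi24UC129
import Cfsg.Agent.Lib.helper19_Fi24UC130
import Cfsg.Agent.Lib.helper19_Fi24UC131
import Cfsg.Agent.Lib.helper19_Fi24UC132
import Cfsg.Agent.Lib.helper19_Fi24UC133
import Cfsg.Agent.Lib.helper19_Fi24UC134
import Cfsg.Agent.Lib.helper19_Fi24UC135
import Cfsg.Agent.Lib.helper19_Fi24UC136
import Cfsg.Agent.Lib.helper19_Fi24UC137
import Cfsg.Agent.Lib.helper19_Fi24UC138
import Cfsg.Agent.Lib.helper19_Fi24UC139
import Cfsg.Agent.Lib.helper19_Fi24UC140
import Cfsg.Agent.Lib.helper19_Fi24UC141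
import Cfsg.Agent.Lib.helper19_Fi24UC142
import Cfsg.Agent.Lib.helper19_Fi24UC143
import Cfsg.Agent.Lib.helper19_Fi24UC144
import Cfsg.Agent.Lib.helper19_Fi24UC145
import Cfsg.Agent.Lib.helper19_Fi24UC146
import Cfsg.Agent.Lib.helper19_Fi24UC147
import Cfsg.Agent.Lib.helper19_Fi24UC148
import Cfsg.Agent.Lib.helper19_Fi24UC149
import Cfsg.Agent.Lib.helper19_Fi24UC150
import Cfsg.Agent.Lib.helper19_Fi24UC151
import Cfsg.Agent.Lib.helper19_Fi24UC152
import Cfsg.Agent.Lib.helper19_Fi24UC153
import Cfsg.Agent.Lib.helper19_Fi24UC154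
import Cfsg.Agent.Lib.helper19_Fi24UC155
import Cfsg.Agent.Lib.helper19_Fi24UC156
import Cfsg.Agent.Lib.helper19_Fi24UC157
import Cfsg.Agent.Lib.helper19_Fi24UC158
import Cfsg.Agent.Lib.helper19_Fi24UC159
import Cfsg.Agent.Lib.helper19_Fi24UC160
import Cfsg.Agent.Lib.helper19_Fi24UC161
import Cfsg.Agent.Lib.helper19_Fi24UC162
import Cfsg.Agent.Lib.helper19_Fi24UC163
import Cfsg.Agent.Lib.helper19_Fi24UC164
import Cfsg.Agent.Lib.helper19_Fi24UC165
import Cfsg.Agent.Lib.helper19_Fi24UC166
import Cfsg.Agent.Lib.helper19_Fi24UC167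
import Cfsg.Agent.Lib.helper19_Fi24UC168
import Cfsg.Agent.Lib.helper19_Fi24UC169
import Cfsg.Agent.Lib.helper19_Fi24UC170
import Cfsg.Agent.Lib.helper19_Fi24UC171
import Cfsg.Agent.Lib.helper19_Fi24UC172
import Cfsg.Agent.Lib.helper19_Fi24UC173
import Cfsg.Agent.Lib.helper19_Fi24UC174
import Cfsg.Agent.Lib.helper19_Fi24UC175
import Cfsg.Agent.Lib.helper19_Fi24UC176
import Cfsg.Agent.Lib.helper19_Fi24UC177
import Cfsg.Agent.Lib.helper19_Fi24UC178
import Cfsg.Agent.Lib.helper19_Fi24UC179
import Cfsg.Agent.Lib.helper19_Fi24UC180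
import Cfsg.Agent.Lib.helper19_Fi24UC181
import Cfsg.Agent.Lib.helper19_Fi24UC182
import Cfsg.Agent.Lib.helper19_Fi24UC183
import Cfsg.Agent.Lib.helper19_Fi24UC184
import Cfsg.Agent.Lib.helper19_Fi24UC185
import Cfsg.Agent.Lib.helper19_Fi24UC186
import Cfsg.Agent.Lib.helper19_Fi24UC187
import Cfsg.Agent.Lib.helper19_Fi24UC188
import Cfsg.Agent.Lib.helper19_Fi24UC189
import Cfsg.Agent.Lib.helper19_Fi24UC190
import Cfsg.Agent.Lib.helper19_Fi24UC191
import Cfsg.Agent.Lib.helper19_Fi24UC192
import Cfsg.Agent.Lib.helper19_Fi24UC193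
import Cfsg.Agent.Lib.helper19_Fi24UC194
import Cfsg.Agent.Lib.helper19_Fi24UC195
import Cfsg.Agent.Lib.helper19_Fi24UC196
import Cfsg.Agent.Lib.helper19_Fi24UC197
import Cfsg.Agent.Lib.helper19_Fi24UC198
import Cfsg.Agent.Lib.helper19_Fi24UC199
import Cfsg.Agent.Lib.helper19_Fi24UC200
import Cfsg.Agent.Lib.helper19_Fi24UC201
import Cfsg.Agent.Lib.helper19_Fi24UC202
import Cfsg.Agent.Lib.helper19_Fi24UC203
import Cfsg.Agent.Lib.helper19_Fi24UC204
import Cfsg.Agent.Lib.helper19_Fi24UC205
import Cfsg.Agent.Lib.helper19_Fi24UC206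
import Cfsg.Agent.Lib.helper19_Fi24UC207
import Cfsg.Agent.Lib.helper19_Fi24UC208
import Cfsg.Agent.Lib.helper19_Fi24UC209
import Cfsg.Agent.Lib.helper19_Fi24UC210
import Cfsg.Agent.Lib.helper19_Fi24UC211
import Cfsg.Agent.Lib.helper19_Fi24UC212
import Cfsg.Agent.Lib.helper19_Fi24UC213
import Cfsg.Agent.Lib.helper19_Fi24UC214
import Cfsg.Agent.Lib.helper19_Fi24UC215
import Cfsg.Agent.Lib.helper19_Fi24UC216
import Cfsg.Agent.Lib.helper19_Fi24UC217
import Cfsg.Agent.Lib.helper19_Fi24UC218
import Cfsg.Agent.Lib.helper19_Fi24UC219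
import Cfsg.Agent.Lib.helper19_Fi24UC220
import Cfsg.Agent.Lib.helper19_Fi24UC221
import Cfsg.Agent.Lib.helper19_Fi24UC222
import Cfsg.Agent.Lib.helper19_Fi24UC223
import Cfsg.Agent.Lib.helper19_Fi24UC224
import Cfsg.Agent.Lib.helper19_Fi24UC225
import Cfsg.Agent.Lib.helper19_Fi24UC226
import Cfsg.Agent.Lib.helper19_Fi24UC227
import Cfsg.Agent.Lib.helper19_Fi24UC228
import Cfsg.Agent.Lib.helper19_Fi24UC229
import Cfsg.Agent.Lib.helper19_Fi24UC230
import Cfsg.Agent.Lib.helper19_Fi24UC231
import Cfsg.Agent.Lib.helper19_Fi24UC232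
import Cfsg.Agent.Lib.helper19_Fi24UC233
import Cfsg.Agent.Lib.helper19_Fi24UC234
import Cfsg.Agent.Lib.helper19_Fi24UC235
import Cfsg.Agent.Lib.helper19_Fi24UC236
import Cfsg.Agent.Lib.helper19_Fi24UC237
import Cfsg.Agent.Lib.helper19_Fi24UC238
import Cfsg.Agent.Lib.helper19_Fi24UC239
import Cfsg.Agent.Lib.helper19_Fi24UC240
import Cfsg.Agent.Lib.helper19_Fi24UC241
import Cfsg.Agent.Lib.helper19_Fi24UC242
import Cfsg.Agent.Lib.helper19_Fi24UC243
import Cfsg.Agent.Lib.helper19_Fi24UC244
import Cfsg.Agent.Lib.helper19_Fi24UC245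
import Cfsg.Agent.Lib.helper19_Fi24UC246
import Cfsg.Agent.Lib.helper19_Fi24UC247
import Cfsg.Agent.Lib.helper19_Fi24UC248
import Cfsg.Agent.Lib.helper19_Fi24UC249
import Cfsg.Agent.Lib.helper19_Fi24UC250
import Cfsg.Agent.Lib.helper19_Fi24UC251
import Cfsg.Agent.Lib.helper19_Fi24UC252
import Cfsg.Agent.Lib.helper19_Fi24UC253
import Cfsg.Agent.Lib.helper19_Fi24UC254
import Cfsg.Agent.Lib.helper19_Fi24UC255
import Cfsg.Agent.Lib.helper19_Fi24UC256
import Cfsg.Agent.Lib.helper19_Fi24UC257
import Cfsg.Agent.Lib.helper19_Fi24UC258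
import Cfsg.Agent.Lib.helper19_Fi24UC259
import Cfsg.Agent.Lib.helper19_Fi24UC260
import Cfsg.Agent.Lib.helper19_Fi24UC261
import Cfsg.Agent.Lib.helper19_Fi24UC262
import Cfsg.Agent.Lib.helper19_Fi24UC263
import Cfsg.Agent.Lib.helper19_Fi24UC264
import Cfsg.Agent.Lib.helper19_Fi24UC265
import Cfsg.Agent.Lib.helper19_Fi24UC266
import Cfsg.Agent.Lib.helper19_Fi24UC267
import Cfsg.Agent.Lib.helper19_Fi24UC268
import Cfsg.Agent.Lib.helper19_Fi24UC269
import Cfsg.Agent.Lib.helper19_Fi24UC270
import Cfsg.Agent.Lib.helper19_Fi24UC271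
import Cfsg.Agent.Lib.helper19_Fi24UC272
import Cfsg.Agent.Lib.helper19_Fi24UC273
import Cfsg.Agent.Lib.helper19_Fi24UC274
import Cfsg.Agent.Lib.helper19_Fi24UC275
import Cfsg.Agent.Lib.helper19_Fi24UC276
import Cfsg.Agent.Lib.helper19_Fi24UC277
import Cfsg.Agent.Lib.helper19_Fi24UC278
import Cfsg.Agent.Lib.helper19_Fi24UC279
import Cfsg.Agent.Lib.helper19_Fi24UC280
import Cfsg.Agent.Lib.helper19_Fi24UC281
import Cfsg.Agent.Lib.helper19_Fi24UC282
import Cfsg.Agent.Lib.helper19_Fi24UC283
import Cfsg.Agent.Lib.helper19_Fi24UC284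
import Cfsg.Agent.Lib.helper19_Fi24UC285
import Cfsg.Agent.Lib.helper19_Fi24UC286
import Cfsg.Agent.Lib.helper19_Fi24UC287
import Cfsg.Agent.Lib.helper19_Fi24UC288
import Cfsg.Agent.Lib.helper19_Fi24UC289
import Cfsg.Agent.Lib.helper19_Fi24UC290
import Cfsg.Agent.Lib.helper19_Fi24UC291
import Cfsg.Agent.Lib.helper19_Fi24UC292
import Cfsg.Agent.Lib.helper19_Fi24UC293
import Cfsg.Agent.Lib.helper19_Fi24UC294
import Cfsg.Agent.Lib.helper19_Fi24UC295
import Cfsg.Agent.Lib.helper19_Fi24UC296
import Cfsg.Agent.Lib.helper19_Fi24UC297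
import Cfsg.Agent.Lib.helper19_Fi24UC298
import Cfsg.Agent.Lib.helper19_Fi24UC299
import Cfsg.Agent.Lib.helper19_Fi24UC300
import Cfsg.Agent.Lib.helper19_Fi24UC301
import Cfsg.Agent.Lib.helper19_Fi24UC302
import Cfsg.Agent.Lib.helper19_Fi24UC303
import Cfsg.Agent.Lib.helper19_Fi24UC304
import Cfsg.Agent.Lib.helper19_Fi24UC305
import Cfsg.Agent.Lib.helper19_Fi24UC306
import Cfsg.Agent.Lib.helper19_Fi24UC307
import Cfsg.Agent.Lib.helper19_Fi24UC308
import Cfsg.Agent.Lib.helper19_Fi24UC309
import Cfsg.Agent.Lib.helper19_Fi24UC310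
import Cfsg.Agent.Lib.helper19_Fi24UC311
import Cfsg.Agent.Lib.helper19_Fi24UC312
import Cfsg.Agent.Lib.helper19_Fi24UC313
import Cfsg.Agent.Lib.helper19_Fi24UC314
import Cfsg.Agent.Lib.helper19_Fi24UC315
import Cfsg.Agent.Lib.helper19_Fi24UC316
import Cfsg.Agent.Lib.helper19_Fi24UC317
import Cfsg.Agent.Lib.helper19_Fi24UC318
import Cfsg.Agent.Lib.helper19_Fi24UC319
import Cfsg.Agent.Lib.helper19_Fi24UC320
import Cfsg.Agent.Lib.helper19_Fi24UC321
import Cfsg.Agent.Lib.helper19_Fi24UC322
import Cfsg.Agent.Lib.helper19_Fi24UC323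
import Cfsg.Agent.Lib.helper19_Fi24UC324
import Cfsg.Agent.Lib.helper19_Fi24UC325
import Cfsg.Agent.Lib.helper19_Fi24UC326
import Cfsg.Agent.Lib.helper19_Fi24UC327
import Cfsg.Agent.Lib.helper19_Fi24UC328
import Cfsg.Agent.Lib.helper19_Fi24UC329
import Cfsg.Agent.Lib.helper19_Fi24UC330
import Cfsg.Agent.Lib.helper19_Fi24UC331
import Cfsg.Agent.Lib.helper19_Fi24UC332
import Cfsg.Agent.Lib.helper19_Fi24UC333
import Cfsg.Agent.Lib.helper19_Fi24UC334
import Cfsg.Agent.Lib.helper19_Fi24UC335
import Cfsg.Agent.Lib.helper19_Fi24UC336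
import Cfsg.Agent.Lib.helper19_Fi24UC337
import Cfsg.Agent.Lib.helper19_Fi24UC338
import Cfsg.Agent.Lib.helper19_Fi24UC339
import Cfsg.Agent.Lib.helper19_Fi24UC340
import Cfsg.Agent.Lib.helper19_Fi24UC341
import Cfsg.Agent.Lib.helper19_Fi24UC342
import Cfsg.Agent.Lib.helper19_Fi24UC343
import Cfsg.Agent.Lib.helper19_Fi24UC344
import Cfsg.Agent.Lib.helper19_Fi24UC345
import Cfsg.Agent.Lib.helper19_Fi24UC346
import Cfsg.Agent.Lib.helper19_Fi24UC347
import Cfsg.Agent.Lib.helper19_Fi24UC348
import Cfsg.Agent.Lib.helper19_Fi24UC349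
import Cfsg.Agent.Lib.helper19_Fi24UC350
import Cfsg.Agent.Lib.helper19_Fi24UC351
import Cfsg.Agent.Lib.helper19_Fi24UC352
import Cfsg.Agent.Lib.helper19_Fi24UC353
import Cfsg.Agent.Lib.helper19_Fi24UC354
import Cfsg.Agent.Lib.helper19_Fi24UC355
import Cfsg.Agent.Lib.helper19_Fi24UC356
import Cfsg.Agent.Lib.helper19_Fi24UC357
import Cfsg.Agent.Lib.helper19_Fi24UC358
import Cfsg.Agent.Lib.helper19_Fi24UC359
import Cfsg.Agent.Lib.helper19_Fi24UC360
import Cfsg.Agent.Lib.helper19_Fi24UC361
import Cfsg.Agent.Lib.helper19_Fi24UC362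
import Cfsg.Agent.Lib.helper19_Fi24UC363
import Cfsg.Agent.Lib.helper19_Fi24UC364
import Cfsg.Agent.Lib.helper19_Fi24UC365
import Cfsg.Agent.Lib.helper19_Fi24UC366
import Cfsg.Agent.Lib.helper19_Fi24UC367
import Cfsg.Agent.Lib.helper19_Fi24UC368
import Cfsg.Agent.Lib.helper19_Fi24UC369
import Cfsg.Agent.Lib.helper19_Fi24UC370
import Cfsg.Agent.Lib.helper19_Fi24UC371
import Cfsg.Agent.Lib.helper19_Fi24UC372
import Cfsg.Agent.Lib.helper19_Fi24UC373
import Cfsg.Agent.Lib.helper19_Fi24UC374
import Cfsg.Agent.Lib.helper19_Fi24UC375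
import Cfsg.Agent.Lib.helper19_Fi24UC376
import Cfsg.Agent.Lib.helper19_Fi24UC377
import Cfsg.Agent.Lib.helper19_Fi24UC378
import Cfsg.Agent.Lib.helper19_Fi24UC379
import Cfsg.Agent.Lib.helper19_Fi24UC380
import Cfsg.Agent.Lib.helper19_Fi24UC381
import Cfsg.Agent.Lib.helper19_Fi24UC382
import Cfsg.Agent.Lib.helper19_Fi24UC383
import Cfsg.Agent.Lib.helper19_Fi24UC384
import Cfsg.Agent.Lib.helper19_Fi24UC385
import Cfsg.Agent.Lib.helper19_Fi24UC386
import Cfsg.Agent.Lib.helper19_Fi24UC387
import Cfsg.Agent.Lib.helper19_Fi24UC388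
import Cfsg.Agent.Lib.helper19_Fi24UC389
import Cfsg.Agent.Lib.helper19_Fi24UC390
import Cfsg.Agent.Lib.helper19_Fi24UC391
import Cfsg.Agent.Lib.helper19_Fi24UC392
import Cfsg.Agent.Lib.helper19_Fi24UC393
import Cfsg.Agent.Lib.helper19_Fi24UC394
import Cfsg.Agent.Lib.helper19_Fi24UC395
import Cfsg.Agent.Lib.helper19_Fi24UC396
import Cfsg.Agent.Lib.helper19_Fi24UC397
import Cfsg.Agent.Lib.helper19_Fi24UC398
import Cfsg.Agent.Lib.helper19_Fi24UC399
import Cfsg.Agent.Lib.helper19_Fi24UC400
import Cfsg.Agent.Lib.helper19_Fi24UC401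
import Cfsg.Agent.Lib.helper19_Fi24UC402
import Cfsg.Agent.Lib.helper19_Fi24UC403
import Cfsg.Agent.Lib.helper19_Fi24UC404
import Cfsg.Agent.Lib.helper19_Fi24UC405
import Cfsg.Agent.Lib.helper19_Fi24UC406
import Cfsg.Agent.Lib.helper19_Fi24UC407
import Cfsg.Agent.Lib.helper19_Fi24UC408
import Cfsg.Agent.Lib.helper19_Fi24UC409
import Cfsg.Agent.Lib.helper19_Fi24UC410
import Cfsg.Agent.Lib.helper19_Fi24UC411
import Cfsg.Agent.Lib.helper19_Fi24UC412
import Cfsg.Agent.Lib.helper19_Fi24UC413
import Cfsg.Agent.Lib.helper19_Fi24UC414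
import Cfsg.Agent.Lib.helper19_Fi24UC415
import Cfsg.Agent.Lib.helper19_Fi24UC416
import Cfsg.Agent.Lib.helper19_Fi24UC417
import Cfsg.Agent.Lib.helper19_Fi24UC418
import Cfsg.Agent.Lib.helper19_Fi24UC419
import Cfsg.Agent.Lib.helper19_Fi24UC420
import Cfsg.Agent.Lib.helper19_Fi24UC421
import Cfsg.Agent.Lib.helper19_Fi24UC422
import Cfsg.Agent.Lib.helper19_Fi24UC423
import Cfsg.Agent.Lib.helper19_Fi24UC424
import Cfsg.Agent.Lib.helper19_Fi24UC425
import Cfsg.Agent.Lib.helper19_Fi24UC426
import Cfsg.Agent.Lib.helper19_Fi24UC427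
import Cfsg.Agent.Lib.helper19_Fi24UC428
import Cfsg.Agent.Lib.helper19_Fi24UC429
import Cfsg.Agent.Lib.helper19_Fi24UC430
import Cfsg.Agent.Lib.helper19_Fi24UC431
import Cfsg.Agent.Lib.helper19_Fi24UC432
import Cfsg.Agent.Lib.helper19_Fi24UC433
import Cfsg.Agent.Lib.helper19_Fi24UC434
import Cfsg.Agent.Lib.helper19_Fi24UC435
import Cfsg.Agent.Lib.helper19_Fi24UC436
import Cfsg.Agent.Lib.helper19_Fi24UC437
import Cfsg.Agent.Lib.helper19_Fi24UC438
import Cfsg.Agent.Lib.helper19_Fi24UC439
import Cfsg.Agent.Lib.helper19_Fi24UC440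
import Cfsg.Agent.Lib.helper19_Fi24UC441
import Cfsg.Agent.Lib.helper19_Fi24UC442
import Cfsg.Agent.Lib.helper19_Fi24UC443
import Cfsg.Agent.Lib.helper19_Fi24UC444
import Cfsg.Agent.Lib.helper19_Fi24UC445
import Cfsg.Agent.Lib.helper19_Fi24UC446
import Cfsg.Agent.Lib.helper19_Fi24UC447
import Cfsg.Agent.Lib.helper19_Fi24UC448
import Cfsg.Agent.Lib.helper19_Fi24UC449
import Cfsg.Agent.Lib.helper19_Fi24UC450
import Cfsg.Agent.Lib.helper19_Fi24UC451
import Cfsg.Agent.Lib.helper19_Fi24UC452
import Cfsg.Agent.Lib.helper19_Fi24UC453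
import Cfsg.Agent.Lib.helper19_Fi24UC454
import Cfsg.Agent.Lib.helper19_Fi24UC455
import Cfsg.Agent.Lib.helper19_Fi24UC456
import Cfsg.Agent.Lib.helper19_Fi24UC457
import Cfsg.Agent.Lib.helper19_Fi24UC458
import Cfsg.Agent.Lib.helper19_Fi24UC459
import Cfsg.Agent.Lib.helper19_Fi24UC460
import Cfsg.Agent.Lib.helper19_Fi24UC461
import Cfsg.Agent.Lib.helper19_Fi24LN0
import Cfsg.Agent.Lib.helper19_Fi24LN1
import Cfsg.Agent.Lib.helper19_Fi24LN2
import Cfsg.Agent.Lib.helper19_Fi24LN3
import Cfsg.Agent.Lib.helper19_Fi24LN4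
import Cfsg.Agent.Lib.helper19_Fi24LN5
import Cfsg.Agent.Lib.helper19_Fi24LN6
import Cfsg.Agent.Lib.helper19_Fi24LN7
import Cfsg.Agent.Lib.helper19_Fi24LN8
import Cfsg.Agent.Lib.helper19_Fi24LN9
import Cfsg.Agent.Lib.helper19_Fi24LN10
import Cfsg.Agent.Lib.helper19_Fi24LN11
import Cfsg.Agent.Lib.helper19_Fi24L
import Cfsg.Agent.Lib.helper19_Fi24LW0
import Cfsg.Agent.Lib.helper19_Fi24LW1
import Cfsg.Agent.Lib.helper19_Fi24LW2
import Cfsg.Agent.Lib.helper19_Fi24LW3
import Cfsg.Agent.Lib.helper19_Fi24LW4
import Cfsg.Agent.Lib.helper19_Fi24LW5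
import Cfsg.Agent.Lib.helper19_Fi24LW6
import Cfsg.Agent.Lib.helper19_Fi24LW7
import Cfsg.Agent.Lib.helper19_Fi24LW8
import Cfsg.Agent.Lib.helper19_Fi24LW9
import Cfsg.Agent.Lib.helper19_Fi24LW10
import Cfsg.Agent.Lib.helper19_Fi24LW11
import Cfsg.Agent.Lib.helper19_Fi24LW12
import Cfsg.Agent.Lib.helper19_Fi24LW13
import Cfsg.Agent.Lib.helper19_Fi24LW14
import Cfsg.Agent.Lib.helper19_Fi24LW15
import Cfsg.Agent.Lib.helper19_Fi24LW16
import Cfsg.Agent.Lib.helper19_Fi24LW17
import Cfsg.Agent.Lib.helper19_Fi24LW18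
import Cfsg.Agent.Lib.helper19_Fi24LW19
import Cfsg.Agent.Lib.helper19_Fi24LW20
import Cfsg.Agent.Lib.helper19_Fi24LW21
import Cfsg.Agent.Lib.helper19_Fi24LW22
import Cfsg.Agent.Lib.helper19_Fi24LW23
import Cfsg.Agent.Lib.helper19_Fi24LW24
import Cfsg.Agent.Lib.helper19_Fi24LW25
import Cfsg.Agent.Lib.helper19_Fi24LW26
import Cfsg.Agent.Lib.helper19_Fi24LW27
import Cfsg.Agent.Lib.helper19_Fi24LW28
import Cfsg.Agent.Lib.helper19_Fi24LW29
import Cfsg.Agent.Lib.helper19_Fi24LW30
import Cfsg.Agent.Lib.helper19_Fi24LW31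
import Cfsg.Agent.Lib.helper19_Fi24LW32
import Cfsg.Agent.Lib.helper19_Fi24LW33
import Cfsg.Agent.Lib.helper19_Fi24LW34
import Cfsg.Agent.Lib.helper19_Fi24LW35
import Cfsg.Agent.Lib.helper19_Fi24LW36
import Cfsg.Agent.Lib.helper19_Fi24LW37

/-! Generated: the combined certificate facts for the presentation `fi24`; by helper19. -/

set_option autoImplicit false
set_option maxRecDepth 1000000
set_option Elab.async false

namespace Cfsg.Agent.Lib.helper19_Fi24A
open Cfsg.Agent.Lib.helper19_TC2 Cfsg.Agent.Lib.helper19_TC2U2 Cfsg.Agent.Lib.helper19_TC2L Cfsg.Agent.Lib.helper19_Benes Cfsg.Agent.Lib.helper19_Fi24U Cfsg.Agent.Lib.helper19_Fi24L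

theorem cntOK : countLive P P.M 0 0 = 306936 := by
  have c0 := cnt0
  have c1 : countLive P (40000 + 40000) 0 0 = 55289 := countLive_step P c0 cnt1
  have c2 : countLive P (80000 + 40000) 0 0 = 81022 := countLive_step P c1 cnt2
  have c3 : countLive P (120000 + 40000) 0 0 = 121019 := countLive_step P c2 cnt3
  have c4 : countLive P (160000 + 40000) 0 0 = 160990 := countLive_step P c3 cnt4
  have c5 : countLive P (200000 + 40000) 0 0 = 200990 := countLive_step P c4 cnt5
  have c6 : countLive P (240000 + 40000) 0 0 = 240990 := countLive_step P c5 cnt6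
  have c7 : countLive P (280000 + 40000) 0 0 = 280990 := countLive_step P c6 cnt7
  have c8 : countLive P (320000 + 25946) 0 0 = 306936 := countLive_step P c7 cnt8
  exact c8

section upper
variable {G : Type*} [Group G] (Mo : Model P G)

theorem good : ∀ id < P.Fn, Good Mo id := by
  have h0 : ∀ id < 345945, Good Mo id := by
    intro id hid
    rcases Nat.lt_or_ge id 60000 with hd0 | hd0
    · exact good_of_checkDefs_part Mo defs0 (by decide) id (by omega) (by omega)
    rcases Nat.lt_or_ge id 120000 with hd1 | hd1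
    · exact good_of_checkDefs_part Mo defs1 (by decide) id (by omega) (by omega)
    rcases Nat.lt_or_ge id 180000 with hd2 | hd2
    · exact good_of_checkDefs_part Mo defs2 (by decide) id (by omega) (by omega)
    rcases Nat.lt_or_ge id 240000 with hd3 | hd3
    · exact good_of_checkDefs_part Mo defs3 (by decide) id (by omega) (by omega)
    rcases Nat.lt_or_ge id 300000 with hd4 | hd4
    · exact good_of_checkDefs_part Mo defs4 (by decide) id (by omega) (by omega)
    exact good_of_checkDefs_part Mo defs5 (by decide) id (by omega) (by omega)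
  have g0 : ∀ id < 349972, Good Mo id := good_step Mo recs0 h0 part0 (by decide)
  have g1 : ∀ id < 353991, Good Mo id := good_step Mo recs1 g0 part1 (by decide)
  have g2 : ∀ id < 358008, Good Mo id := good_step Mo recs2 g1 part2 (by decide)
  have g3 : ∀ id < 362027, Good Mo id := good_step Mo recs3 g2 part3 (by decide)
  have g4 : ∀ id < 366046, Good Mo id := good_step Mo recs4 g3 part4 (by decide)
  have g5 : ∀ id < 370070, Good Mo id := good_step Mo recs5 g4 part5 (by decide)
  have g6 : ∀ id < 374088, Good Mo id := good_step Mo recs6 g5 part6 (by decide)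
  have g7 : ∀ id < 378113, Good Mo id := good_step Mo recs7 g6 part7 (by decide)
  have g8 : ∀ id < 382124, Good Mo id := good_step Mo recs8 g7 part8 (by decide)
  have g9 : ∀ id < 386148, Good Mo id := good_step Mo recs9 g8 part9 (by decide)
  have g10 : ∀ id < 390167, Good Mo id := good_step Mo recs10 g9 part10 (by decide)
  have g11 : ∀ id < 394176, Good Mo id := good_step Mo recs11 g10 part11 (by decide)
  have g12 : ∀ id < 398203, Good Mo id := good_step Mo recs12 g11 part12 (by decide)
  have g13 : ∀ id < 402787, Good Mo id := good_step Mo recs13 g12 part13 (by decide)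
  have g14 : ∀ id < 406789, Good Mo id := good_step Mo recs14 g13 part14 (by decide)
  have g15 : ∀ id < 410802, Good Mo id := good_step Mo recs15 g14 part15 (by decide)
  have g16 : ∀ id < 414814, Good Mo id := good_step Mo recs16 g15 part16 (by decide)
  have g17 : ∀ id < 418831, Good Mo id := good_step Mo recs17 g16 part17 (by decide)
  have g18 : ∀ id < 422840, Good Mo id := good_step Mo recs18 g17 part18 (by decide)
  have g19 : ∀ id < 426851, Good Mo id := good_step Mo recs19 g18 part19 (by decide)
  have g20 : ∀ id < 430862, Good Mo id := good_step Mo recs20 g19 part20 (by decide)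
  have g21 : ∀ id < 434886, Good Mo id := good_step Mo recs21 g20 part21 (by decide)
  have g22 : ∀ id < 438903, Good Mo id := good_step Mo recs22 g21 part22 (by decide)
  have g23 : ∀ id < 442912, Good Mo id := good_step Mo recs23 g22 part23 (by decide)
  have g24 : ∀ id < 446928, Good Mo id := good_step Mo recs24 g23 part24 (by decide)
  have g25 : ∀ id < 450934, Good Mo id := good_step Mo recs25 g24 part25 (by decide)
  have g26 : ∀ id < 454949, Good Mo id := good_step Mo recs26 g25 part26 (by decide)
  have g27 : ∀ id < 458967, Good Mo id := good_step Mo recs27 g26 part27 (by decide)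
  have g28 : ∀ id < 462982, Good Mo id := good_step Mo recs28 g27 part28 (by decide)
  have g29 : ∀ id < 466995, Good Mo id := good_step Mo recs29 g28 part29 (by decide)
  have g30 : ∀ id < 471017, Good Mo id := good_step Mo recs30 g29 part30 (by decide)
  have g31 : ∀ id < 475024, Good Mo id := good_step Mo recs31 g30 part31 (by decide)
  have g32 : ∀ id < 479037, Good Mo id := good_step Mo recs32 g31 part32 (by decide)
  have g33 : ∀ id < 483045, Good Mo id := good_step Mo recs33 g32 part33 (by decide)
  have g34 : ∀ id < 487070, Good Mo id := good_step Mo recs34 g33 part34 (by decide)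
  have g35 : ∀ id < 491082, Good Mo id := good_step Mo recs35 g34 part35 (by decide)
  have g36 : ∀ id < 495092, Good Mo id := good_step Mo recs36 g35 part36 (by decide)
  have g37 : ∀ id < 499105, Good Mo id := good_step Mo recs37 g36 part37 (by decide)
  have g38 : ∀ id < 503132, Good Mo id := good_step Mo recs38 g37 part38 (by decide)
  have g39 : ∀ id < 507142, Good Mo id := good_step Mo recs39 g38 part39 (by decide)
  have g40 : ∀ id < 511158, Good Mo id := good_step Mo recs40 g39 part40 (by decide)
  have g41 : ∀ id < 515172, Good Mo id := good_step Mo recs41 g40 part41 (by decide)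
  have g42 : ∀ id < 519182, Good Mo id := good_step Mo recs42 g41 part42 (by decide)
  have g43 : ∀ id < 523203, Good Mo id := good_step Mo recs43 g42 part43 (by decide)
  have g44 : ∀ id < 527211, Good Mo id := good_step Mo recs44 g43 part44 (by decide)
  have g45 : ∀ id < 531219, Good Mo id := good_step Mo recs45 g44 part45 (by decide)
  have g46 : ∀ id < 535238, Good Mo id := good_step Mo recs46 g45 part46 (by decide)
  have g47 : ∀ id < 539262, Good Mo id := good_step Mo recs47 g46 part47 (by decide)
  have g48 : ∀ id < 543285, Good Mo id := good_step Mo recs48 g47 part48 (by decide)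
  have g49 : ∀ id < 547304, Good Mo id := good_step Mo recs49 g48 part49 (by decide)
  have g50 : ∀ id < 551316, Good Mo id := good_step Mo recs50 g49 part50 (by decide)
  have g51 : ∀ id < 555339, Good Mo id := good_step Mo recs51 g50 part51 (by decide)
  have g52 : ∀ id < 559360, Good Mo id := good_step Mo recs52 g51 part52 (by decide)
  have g53 : ∀ id < 563371, Good Mo id := good_step Mo recs53 g52 part53 (by decide)
  have g54 : ∀ id < 567378, Good Mo id := good_step Mo recs54 g53 part54 (by decide)
  have g55 : ∀ id < 571408, Good Mo id := good_step Mo recs55 g54 part55 (by decide)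
  have g56 : ∀ id < 575419, Good Mo id := good_step Mo recs56 g55 part56 (by decide)
  have g57 : ∀ id < 579429, Good Mo id := good_step Mo recs57 g56 part57 (by decide)
  have g58 : ∀ id < 583448, Good Mo id := good_step Mo recs58 g57 part58 (by decide)
  have g59 : ∀ id < 587475, Good Mo id := good_step Mo recs59 g58 part59 (by decide)
  have g60 : ∀ id < 591491, Good Mo id := good_step Mo recs60 g59 part60 (by decide)
  have g61 : ∀ id < 595509, Good Mo id := good_step Mo recs61 g60 part61 (by decide)
  have g62 : ∀ id < 599533, Good Mo id := good_step Mo recs62 g61 part62 (by decide)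
  have g63 : ∀ id < 603554, Good Mo id := good_step Mo recs63 g62 part63 (by decide)
  have g64 : ∀ id < 607583, Good Mo id := good_step Mo recs64 g63 part64 (by decide)
  have g65 : ∀ id < 611600, Good Mo id := good_step Mo recs65 g64 part65 (by decide)
  have g66 : ∀ id < 615628, Good Mo id := good_step Mo recs66 g65 part66 (by decide)
  have g67 : ∀ id < 619632, Good Mo id := good_step Mo recs67 g66 part67 (by decide)
  have g68 : ∀ id < 623633, Good Mo id := good_step Mo recs68 g67 part68 (by decide)
  have g69 : ∀ id < 627660, Good Mo id := good_step Mo recs69 g68 part69 (by decide)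
  have g70 : ∀ id < 631683, Good Mo id := good_step Mo recs70 g69 part70 (by decide)
  have g71 : ∀ id < 635685, Good Mo id := good_step Mo recs71 g70 part71 (by decide)
  have g72 : ∀ id < 639698, Good Mo id := good_step Mo recs72 g71 part72 (by decide)
  have g73 : ∀ id < 643724, Good Mo id := good_step Mo recs73 g72 part73 (by decide)
  have g74 : ∀ id < 647754, Good Mo id := good_step Mo recs74 g73 part74 (by decide)
  have g75 : ∀ id < 651779, Good Mo id := good_step Mo recs75 g74 part75 (by decide)
  have g76 : ∀ id < 655788, Good Mo id := good_step Mo recs76 g75 part76 (by decide)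
  have g77 : ∀ id < 659804, Good Mo id := good_step Mo recs77 g76 part77 (by decide)
  have g78 : ∀ id < 663833, Good Mo id := good_step Mo recs78 g77 part78 (by decide)
  have g79 : ∀ id < 667848, Good Mo id := good_step Mo recs79 g78 part79 (by decide)
  have g80 : ∀ id < 671871, Good Mo id := good_step Mo recs80 g79 part80 (by decide)
  have g81 : ∀ id < 675900, Good Mo id := good_step Mo recs81 g80 part81 (by decide)
  have g82 : ∀ id < 679920, Good Mo id := good_step Mo recs82 g81 part82 (by decide)
  have g83 : ∀ id < 683946, Good Mo id := good_step Mo recs83 g82 part83 (by decide)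
  have g84 : ∀ id < 687954, Good Mo id := good_step Mo recs84 g83 part84 (by decide)
  have g85 : ∀ id < 691963, Good Mo id := good_step Mo recs85 g84 part85 (by decide)
  have g86 : ∀ id < 695967, Good Mo id := good_step Mo recs86 g85 part86 (by decide)
  have g87 : ∀ id < 700001, Good Mo id := good_step Mo recs87 g86 part87 (by decide)
  have g88 : ∀ id < 704002, Good Mo id := good_step Mo recs88 g87 part88 (by decide)
  have g89 : ∀ id < 708012, Good Mo id := good_step Mo recs89 g88 part89 (by decide)
  have g90 : ∀ id < 712030, Good Mo id := good_step Mo recs90 g89 part90 (by decide)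
  have g91 : ∀ id < 716041, Good Mo id := good_step Mo recs91 g90 part91 (by decide)
  have g92 : ∀ id < 720075, Good Mo id := good_step Mo recs92 g91 part92 (by decide)
  have g93 : ∀ id < 724103, Good Mo id := good_step Mo recs93 g92 part93 (by decide)
  have g94 : ∀ id < 728127, Good Mo id := good_step Mo recs94 g93 part94 (by decide)
  have g95 : ∀ id < 732130, Good Mo id := good_step Mo recs95 g94 part95 (by decide)
  have g96 : ∀ id < 736133, Good Mo id := good_step Mo recs96 g95 part96 (by decide)
  have g97 : ∀ id < 740162, Good Mo id := good_step Mo recs97 g96 part97 (by decide)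
  have g98 : ∀ id < 744180, Good Mo id := good_step Mo recs98 g97 part98 (by decide)
  have g99 : ∀ id < 748205, Good Mo id := good_step Mo recs99 g98 part99 (by decide)
  have g100 : ∀ id < 752239, Good Mo id := good_step Mo recs100 g99 part100 (by decide)
  have g101 : ∀ id < 756270, Good Mo id := good_step Mo recs101 g100 part101 (by decide)
  have g102 : ∀ id < 760294, Good Mo id := good_step Mo recs102 g101 part102 (by decide)
  have g103 : ∀ id < 764310, Good Mo id := good_step Mo recs103 g102 part103 (by decide)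
  have g104 : ∀ id < 768321, Good Mo id := good_step Mo recs104 g103 part104 (by decide)
  have g105 : ∀ id < 772305, Good Mo id := good_step Mo recs105 g104 part105 (by decide)
  have g106 : ∀ id < 776307, Good Mo id := good_step Mo recs106 g105 part106 (by decide)
  have g107 : ∀ id < 780332, Good Mo id := good_step Mo recs107 g106 part107 (by decide)
  have g108 : ∀ id < 784369, Good Mo id := good_step Mo recs108 g107 part108 (by decide)
  have g109 : ∀ id < 788330, Good Mo id := good_step Mo recs109 g108 part109 (by decide)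
  have g110 : ∀ id < 793088, Good Mo id := good_step Mo recs110 g109 part110 (by decide)
  have g111 : ∀ id < 797928, Good Mo id := good_step Mo recs111 g110 part111 (by decide)
  have g112 : ∀ id < 802768, Good Mo id := good_step Mo recs112 g111 part112 (by decide)
  have g113 : ∀ id < 807608, Good Mo id := good_step Mo recs113 g112 part113 (by decide)
  have g114 : ∀ id < 812448, Good Mo id := good_step Mo recs114 g113 part114 (by decide)
  have g115 : ∀ id < 817288, Good Mo id := good_step Mo recs115 g114 part115 (by decide)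
  have g116 : ∀ id < 822128, Good Mo id := good_step Mo recs116 g115 part116 (by decide)
  have g117 : ∀ id < 826968, Good Mo id := good_step Mo recs117 g116 part117 (by decide)
  have g118 : ∀ id < 831808, Good Mo id := good_step Mo recs118 g117 part118 (by decide)
  have g119 : ∀ id < 836648, Good Mo id := good_step Mo recs119 g118 part119 (by decide)
  have g120 : ∀ id < 841488, Good Mo id := good_step Mo recs120 g119 part120 (by decide)
  have g121 : ∀ id < 846328, Good Mo id := good_step Mo recs121 g120 part121 (by decide)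
  have g122 : ∀ id < 851168, Good Mo id := good_step Mo recs122 g121 part122 (by decide)
  have g123 : ∀ id < 856008, Good Mo id := good_step Mo recs123 g122 part123 (by decide)
  have g124 : ∀ id < 860848, Good Mo id := good_step Mo recs124 g123 part124 (by decide)
  have g125 : ∀ id < 865674, Good Mo id := good_step Mo recs125 g124 part125 (by decide)
  have g126 : ∀ id < 870476, Good Mo id := good_step Mo recs126 g125 part126 (by decide)
  have g127 : ∀ id < 875257, Good Mo id := good_step Mo recs127 g126 part127 (by decide)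
  have g128 : ∀ id < 880095, Good Mo id := good_step Mo recs128 g127 part128 (by decide)
  have g129 : ∀ id < 884200, Good Mo id := good_step Mo recs129 g128 part129 (by decide)
  have g130 : ∀ id < 888223, Good Mo id := good_step Mo recs130 g129 part130 (by decide)
  have g131 : ∀ id < 892227, Good Mo id := good_step Mo recs131 g130 part131 (by decide)
  have g132 : ∀ id < 896223, Good Mo id := good_step Mo recs132 g131 part132 (by decide)
  have g133 : ∀ id < 900261, Good Mo id := good_step Mo recs133 g132 part133 (by decide)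
  have g134 : ∀ id < 904301, Good Mo id := good_step Mo recs134 g133 part134 (by decide)
  have g135 : ∀ id < 908320, Good Mo id := good_step Mo recs135 g134 part135 (by decide)
  have g136 : ∀ id < 912338, Good Mo id := good_step Mo recs136 g135 part136 (by decide)
  have g137 : ∀ id < 916336, Good Mo id := good_step Mo recs137 g136 part137 (by decide)
  have g138 : ∀ id < 920355, Good Mo id := good_step Mo recs138 g137 part138 (by decide)
  have g139 : ∀ id < 924347, Good Mo id := good_step Mo recs139 g138 part139 (by decide)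
  have g140 : ∀ id < 928372, Good Mo id := good_step Mo recs140 g139 part140 (by decide)
  have g141 : ∀ id < 932383, Good Mo id := good_step Mo recs141 g140 part141 (by decide)
  have g142 : ∀ id < 936415, Good Mo id := good_step Mo recs142 g141 part142 (by decide)
  have g143 : ∀ id < 940443, Good Mo id := good_step Mo recs143 g142 part143 (by decide)
  have g144 : ∀ id < 944476, Good Mo id := good_step Mo recs144 g143 part144 (by decide)
  have g145 : ∀ id < 948503, Good Mo id := good_step Mo recs145 g144 part145 (by decide)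
  have g146 : ∀ id < 952485, Good Mo id := good_step Mo recs146 g145 part146 (by decide)
  have g147 : ∀ id < 956487, Good Mo id := good_step Mo recs147 g146 part147 (by decide)
  have g148 : ∀ id < 960500, Good Mo id := good_step Mo recs148 g147 part148 (by decide)
  have g149 : ∀ id < 964539, Good Mo id := good_step Mo recs149 g148 part149 (by decide)
  have g150 : ∀ id < 968572, Good Mo id := good_step Mo recs150 g149 part150 (by decide)
  have g151 : ∀ id < 972599, Good Mo id := good_step Mo recs151 g150 part151 (by decide)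
  have g152 : ∀ id < 976620, Good Mo id := good_step Mo recs152 g151 part152 (by decide)
  have g153 : ∀ id < 980613, Good Mo id := good_step Mo recs153 g152 part153 (by decide)
  have g154 : ∀ id < 984626, Good Mo id := good_step Mo recs154 g153 part154 (by decide)
  have g155 : ∀ id < 988633, Good Mo id := good_step Mo recs155 g154 part155 (by decide)
  have g156 : ∀ id < 992667, Good Mo id := good_step Mo recs156 g155 part156 (by decide)
  have g157 : ∀ id < 996711, Good Mo id := good_step Mo recs157 g156 part157 (by decide)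
  have g158 : ∀ id < 1000721, Good Mo id := good_step Mo recs158 g157 part158 (by decide)
  have g159 : ∀ id < 1004739, Good Mo id := good_step Mo recs159 g158 part159 (by decide)
  have g160 : ∀ id < 1008727, Good Mo id := good_step Mo recs160 g159 part160 (by decide)
  have g161 : ∀ id < 1012749, Good Mo id := good_step Mo recs161 g160 part161 (by decide)
  have g162 : ∀ id < 1016762, Good Mo id := good_step Mo recs162 g161 part162 (by decide)
  have g163 : ∀ id < 1020773, Good Mo id := good_step Mo recs163 g162 part163 (by decide)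
  have g164 : ∀ id < 1024799, Good Mo id := good_step Mo recs164 g163 part164 (by decide)
  have g165 : ∀ id < 1028830, Good Mo id := good_step Mo recs165 g164 part165 (by decide)
  have g166 : ∀ id < 1032861, Good Mo id := good_step Mo recs166 g165 part166 (by decide)
  have g167 : ∀ id < 1036891, Good Mo id := good_step Mo recs167 g166 part167 (by decide)
  have g168 : ∀ id < 1040928, Good Mo id := good_step Mo recs168 g167 part168 (by decide)
  have g169 : ∀ id < 1044950, Good Mo id := good_step Mo recs169 g168 part169 (by decide)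
  have g170 : ∀ id < 1048930, Good Mo id := good_step Mo recs170 g169 part170 (by decide)
  have g171 : ∀ id < 1052934, Good Mo id := good_step Mo recs171 g170 part171 (by decide)
  have g172 : ∀ id < 1056960, Good Mo id := good_step Mo recs172 g171 part172 (by decide)
  have g173 : ∀ id < 1061002, Good Mo id := good_step Mo recs173 g172 part173 (by decide)
  have g174 : ∀ id < 1064995, Good Mo id := good_step Mo recs174 g173 part174 (by decide)
  have g175 : ∀ id < 1069014, Good Mo id := good_step Mo recs175 g174 part175 (by decide)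
  have g176 : ∀ id < 1073018, Good Mo id := good_step Mo recs176 g175 part176 (by decide)
  have g177 : ∀ id < 1077010, Good Mo id := good_step Mo recs177 g176 part177 (by decide)
  have g178 : ∀ id < 1081015, Good Mo id := good_step Mo recs178 g177 part178 (by decide)
  have g179 : ∀ id < 1085022, Good Mo id := good_step Mo recs179 g178 part179 (by decide)
  have g180 : ∀ id < 1089052, Good Mo id := good_step Mo recs180 g179 part180 (by decide)
  have g181 : ∀ id < 1093092, Good Mo id := good_step Mo recs181 g180 part181 (by decide)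
  have g182 : ∀ id < 1097136, Good Mo id := good_step Mo recs182 g181 part182 (by decide)
  have g183 : ∀ id < 1101163, Good Mo id := good_step Mo recs183 g182 part183 (by decide)
  have g184 : ∀ id < 1105186, Good Mo id := good_step Mo recs184 g183 part184 (by decide)
  have g185 : ∀ id < 1109167, Good Mo id := good_step Mo recs185 g184 part185 (by decide)
  have g186 : ∀ id < 1113175, Good Mo id := good_step Mo recs186 g185 part186 (by decide)
  have g187 : ∀ id < 1117187, Good Mo id := good_step Mo recs187 g186 part187 (by decide)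
  have g188 : ∀ id < 1121189, Good Mo id := good_step Mo recs188 g187 part188 (by decide)
  have g189 : ∀ id < 1125218, Good Mo id := good_step Mo recs189 g188 part189 (by decide)
  have g190 : ∀ id < 1129230, Good Mo id := good_step Mo recs190 g189 part190 (by decide)
  have g191 : ∀ id < 1133258, Good Mo id := good_step Mo recs191 g190 part191 (by decide)
  have g192 : ∀ id < 1137296, Good Mo id := good_step Mo recs192 g191 part192 (by decide)
  have g193 : ∀ id < 1141330, Good Mo id := good_step Mo recs193 g192 part193 (by decide)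
  have g194 : ∀ id < 1145363, Good Mo id := good_step Mo recs194 g193 part194 (by decide)
  have g195 : ∀ id < 1149397, Good Mo id := good_step Mo recs195 g194 part195 (by decide)
  have g196 : ∀ id < 1153400, Good Mo id := good_step Mo recs196 g195 part196 (by decide)
  have g197 : ∀ id < 1157384, Good Mo id := good_step Mo recs197 g196 part197 (by decide)
  have g198 : ∀ id < 1161406, Good Mo id := good_step Mo recs198 g197 part198 (by decide)
  have g199 : ∀ id < 1165424, Good Mo id := good_step Mo recs199 g198 part199 (by decide)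
  have g200 : ∀ id < 1169436, Good Mo id := good_step Mo recs200 g199 part200 (by decide)
  have g201 : ∀ id < 1173459, Good Mo id := good_step Mo recs201 g200 part201 (by decide)
  have g202 : ∀ id < 1177465, Good Mo id := good_step Mo recs202 g201 part202 (by decide)
  have g203 : ∀ id < 1181466, Good Mo id := good_step Mo recs203 g202 part203 (by decide)
  have g204 : ∀ id < 1185455, Good Mo id := good_step Mo recs204 g203 part204 (by decide)
  have g205 : ∀ id < 1189478, Good Mo id := good_step Mo recs205 g204 part205 (by decide)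
  have g206 : ∀ id < 1193500, Good Mo id := good_step Mo recs206 g205 part206 (by decide)
  have g207 : ∀ id < 1197536, Good Mo id := good_step Mo recs207 g206 part207 (by decide)
  have g208 : ∀ id < 1201575, Good Mo id := good_step Mo recs208 g207 part208 (by decide)
  have g209 : ∀ id < 1205612, Good Mo id := good_step Mo recs209 g208 part209 (by decide)
  have g210 : ∀ id < 1209656, Good Mo id := good_step Mo recs210 g209 part210 (by decide)
  have g211 : ∀ id < 1213685, Good Mo id := good_step Mo recs211 g210 part211 (by decide)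
  have g212 : ∀ id < 1217669, Good Mo id := good_step Mo recs212 g211 part212 (by decide)
  have g213 : ∀ id < 1221692, Good Mo id := good_step Mo recs213 g212 part213 (by decide)
  have g214 : ∀ id < 1225700, Good Mo id := good_step Mo recs214 g213 part214 (by decide)
  have g215 : ∀ id < 1229698, Good Mo id := good_step Mo recs215 g214 part215 (by decide)
  have g216 : ∀ id < 1233731, Good Mo id := good_step Mo recs216 g215 part216 (by decide)
  have g217 : ∀ id < 1237737, Good Mo id := good_step Mo recs217 g216 part217 (by decide)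
  have g218 : ∀ id < 1241760, Good Mo id := good_step Mo recs218 g217 part218 (by decide)
  have g219 : ∀ id < 1245791, Good Mo id := good_step Mo recs219 g218 part219 (by decide)
  have g220 : ∀ id < 1249825, Good Mo id := good_step Mo recs220 g219 part220 (by decide)
  have g221 : ∀ id < 1253866, Good Mo id := good_step Mo recs221 g220 part221 (by decide)
  have g222 : ∀ id < 1257904, Good Mo id := good_step Mo recs222 g221 part222 (by decide)
  have g223 : ∀ id < 1261934, Good Mo id := good_step Mo recs223 g222 part223 (by decide)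
  have g224 : ∀ id < 1265947, Good Mo id := good_step Mo recs224 g223 part224 (by decide)
  have g225 : ∀ id < 1269942, Good Mo id := good_step Mo recs225 g224 part225 (by decide)
  have g226 : ∀ id < 1273971, Good Mo id := good_step Mo recs226 g225 part226 (by decide)
  have g227 : ∀ id < 1278004, Good Mo id := good_step Mo recs227 g226 part227 (by decide)
  have g228 : ∀ id < 1282027, Good Mo id := good_step Mo recs228 g227 part228 (by decide)
  have g229 : ∀ id < 1286022, Good Mo id := good_step Mo recs229 g228 part229 (by decide)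
  have g230 : ∀ id < 1290032, Good Mo id := good_step Mo recs230 g229 part230 (by decide)
  have g231 : ∀ id < 1294042, Good Mo id := good_step Mo recs231 g230 part231 (by decide)
  have g232 : ∀ id < 1298016, Good Mo id := good_step Mo recs232 g231 part232 (by decide)
  have g233 : ∀ id < 1302036, Good Mo id := good_step Mo recs233 g232 part233 (by decide)
  have g234 : ∀ id < 1306064, Good Mo id := good_step Mo recs234 g233 part234 (by decide)
  have g235 : ∀ id < 1310090, Good Mo id := good_step Mo recs235 g234 part235 (by decide)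
  have g236 : ∀ id < 1314130, Good Mo id := good_step Mo recs236 g235 part236 (by decide)
  have g237 : ∀ id < 1318165, Good Mo id := good_step Mo recs237 g236 part237 (by decide)
  have g238 : ∀ id < 1322205, Good Mo id := good_step Mo recs238 g237 part238 (by decide)
  have g239 : ∀ id < 1326241, Good Mo id := good_step Mo recs239 g238 part239 (by decide)
  have g240 : ∀ id < 1330274, Good Mo id := good_step Mo recs240 g239 part240 (by decide)
  have g241 : ∀ id < 1334286, Good Mo id := good_step Mo recs241 g240 part241 (by decide)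
  have g242 : ∀ id < 1338295, Good Mo id := good_step Mo recs242 g241 part242 (by decide)
  have g243 : ∀ id < 1342299, Good Mo id := good_step Mo recs243 g242 part243 (by decide)
  have g244 : ∀ id < 1346332, Good Mo id := good_step Mo recs244 g243 part244 (by decide)
  have g245 : ∀ id < 1350353, Good Mo id := good_step Mo recs245 g244 part245 (by decide)
  have g246 : ∀ id < 1354333, Good Mo id := good_step Mo recs246 g245 part246 (by decide)
  have g247 : ∀ id < 1358353, Good Mo id := good_step Mo recs247 g246 part247 (by decide)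
  have g248 : ∀ id < 1362373, Good Mo id := good_step Mo recs248 g247 part248 (by decide)
  have g249 : ∀ id < 1366404, Good Mo id := good_step Mo recs249 g248 part249 (by decide)
  have g250 : ∀ id < 1370432, Good Mo id := good_step Mo recs250 g249 part250 (by decide)
  have g251 : ∀ id < 1374466, Good Mo id := good_step Mo recs251 g250 part251 (by decide)
  have g252 : ∀ id < 1378466, Good Mo id := good_step Mo recs252 g251 part252 (by decide)
  have g253 : ∀ id < 1382495, Good Mo id := good_step Mo recs253 g252 part253 (by decide)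
  have g254 : ∀ id < 1386460, Good Mo id := good_step Mo recs254 g253 part254 (by decide)
  have g255 : ∀ id < 1390476, Good Mo id := good_step Mo recs255 g254 part255 (by decide)
  have g256 : ∀ id < 1394494, Good Mo id := good_step Mo recs256 g255 part256 (by decide)
  have g257 : ∀ id < 1398492, Good Mo id := good_step Mo recs257 g256 part257 (by decide)
  have g258 : ∀ id < 1402517, Good Mo id := good_step Mo recs258 g257 part258 (by decide)
  have g259 : ∀ id < 1406520, Good Mo id := good_step Mo recs259 g258 part259 (by decide)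
  have g260 : ∀ id < 1410533, Good Mo id := good_step Mo recs260 g259 part260 (by decide)
  have g261 : ∀ id < 1414539, Good Mo id := good_step Mo recs261 g260 part261 (by decide)
  have g262 : ∀ id < 1418554, Good Mo id := good_step Mo recs262 g261 part262 (by decide)
  have g263 : ∀ id < 1422578, Good Mo id := good_step Mo recs263 g262 part263 (by decide)
  have g264 : ∀ id < 1426598, Good Mo id := good_step Mo recs264 g263 part264 (by decide)
  have g265 : ∀ id < 1430623, Good Mo id := good_step Mo recs265 g264 part265 (by decide)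
  have g266 : ∀ id < 1434641, Good Mo id := good_step Mo recs266 g265 part266 (by decide)
  have g267 : ∀ id < 1438645, Good Mo id := good_step Mo recs267 g266 part267 (by decide)
  have g268 : ∀ id < 1442667, Good Mo id := good_step Mo recs268 g267 part268 (by decide)
  have g269 : ∀ id < 1446683, Good Mo id := good_step Mo recs269 g268 part269 (by decide)
  have g270 : ∀ id < 1450713, Good Mo id := good_step Mo recs270 g269 part270 (by decide)
  have g271 : ∀ id < 1454731, Good Mo id := good_step Mo recs271 g270 part271 (by decide)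
  have g272 : ∀ id < 1458724, Good Mo id := good_step Mo recs272 g271 part272 (by decide)
  have g273 : ∀ id < 1462714, Good Mo id := good_step Mo recs273 g272 part273 (by decide)
  have g274 : ∀ id < 1466705, Good Mo id := good_step Mo recs274 g273 part274 (by decide)
  have g275 : ∀ id < 1470722, Good Mo id := good_step Mo recs275 g274 part275 (by decide)
  have g276 : ∀ id < 1474723, Good Mo id := good_step Mo recs276 g275 part276 (by decide)
  have g277 : ∀ id < 1478724, Good Mo id := good_step Mo recs277 g276 part277 (by decide)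
  have g278 : ∀ id < 1482739, Good Mo id := good_step Mo recs278 g277 part278 (by decide)
  have g279 : ∀ id < 1486756, Good Mo id := good_step Mo recs279 g278 part279 (by decide)
  have g280 : ∀ id < 1490766, Good Mo id := good_step Mo recs280 g279 part280 (by decide)
  have g281 : ∀ id < 1494781, Good Mo id := good_step Mo recs281 g280 part281 (by decide)
  have g282 : ∀ id < 1498799, Good Mo id := good_step Mo recs282 g281 part282 (by decide)
  have g283 : ∀ id < 1502796, Good Mo id := good_step Mo recs283 g282 part283 (by decide)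
  have g284 : ∀ id < 1506757, Good Mo id := good_step Mo recs284 g283 part284 (by decide)
  have g285 : ∀ id < 1510775, Good Mo id := good_step Mo recs285 g284 part285 (by decide)
  have g286 : ∀ id < 1514739, Good Mo id := good_step Mo recs286 g285 part286 (by decide)
  have g287 : ∀ id < 1518755, Good Mo id := good_step Mo recs287 g286 part287 (by decide)
  have g288 : ∀ id < 1522782, Good Mo id := good_step Mo recs288 g287 part288 (by decide)
  have g289 : ∀ id < 1526797, Good Mo id := good_step Mo recs289 g288 part289 (by decide)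
  have g290 : ∀ id < 1530815, Good Mo id := good_step Mo recs290 g289 part290 (by decide)
  have g291 : ∀ id < 1534826, Good Mo id := good_step Mo recs291 g290 part291 (by decide)
  have g292 : ∀ id < 1538832, Good Mo id := good_step Mo recs292 g291 part292 (by decide)
  have g293 : ∀ id < 1542824, Good Mo id := good_step Mo recs293 g292 part293 (by decide)
  have g294 : ∀ id < 1546820, Good Mo id := good_step Mo recs294 g293 part294 (by decide)
  have g295 : ∀ id < 1550833, Good Mo id := good_step Mo recs295 g294 part295 (by decide)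
  have g296 : ∀ id < 1554834, Good Mo id := good_step Mo recs296 g295 part296 (by decide)
  have g297 : ∀ id < 1558846, Good Mo id := good_step Mo recs297 g296 part297 (by decide)
  have g298 : ∀ id < 1562850, Good Mo id := good_step Mo recs298 g297 part298 (by decide)
  have g299 : ∀ id < 1566855, Good Mo id := good_step Mo recs299 g298 part299 (by decide)
  have g300 : ∀ id < 1570872, Good Mo id := good_step Mo recs300 g299 part300 (by decide)
  have g301 : ∀ id < 1574869, Good Mo id := good_step Mo recs301 g300 part301 (by decide)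
  have g302 : ∀ id < 1578882, Good Mo id := good_step Mo recs302 g301 part302 (by decide)
  have g303 : ∀ id < 1582911, Good Mo id := good_step Mo recs303 g302 part303 (by decide)
  have g304 : ∀ id < 1586909, Good Mo id := good_step Mo recs304 g303 part304 (by decide)
  have g305 : ∀ id < 1590879, Good Mo id := good_step Mo recs305 g304 part305 (by decide)
  have g306 : ∀ id < 1594841, Good Mo id := good_step Mo recs306 g305 part306 (by decide)
  have g307 : ∀ id < 1598824, Good Mo id := good_step Mo recs307 g306 part307 (by decide)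
  have g308 : ∀ id < 1602814, Good Mo id := good_step Mo recs308 g307 part308 (by decide)
  have g309 : ∀ id < 1606809, Good Mo id := good_step Mo recs309 g308 part309 (by decide)
  have g310 : ∀ id < 1610785, Good Mo id := good_step Mo recs310 g309 part310 (by decide)
  have g311 : ∀ id < 1614766, Good Mo id := good_step Mo recs311 g310 part311 (by decide)
  have g312 : ∀ id < 1618773, Good Mo id := good_step Mo recs312 g311 part312 (by decide)
  have g313 : ∀ id < 1622746, Good Mo id := good_step Mo recs313 g312 part313 (by decide)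
  have g314 : ∀ id < 1626712, Good Mo id := good_step Mo recs314 g313 part314 (by decide)
  have g315 : ∀ id < 1630722, Good Mo id := good_step Mo recs315 g314 part315 (by decide)
  have g316 : ∀ id < 1634714, Good Mo id := good_step Mo recs316 g315 part316 (by decide)
  have g317 : ∀ id < 1638673, Good Mo id := good_step Mo recs317 g316 part317 (by decide)
  have g318 : ∀ id < 1642612, Good Mo id := good_step Mo recs318 g317 part318 (by decide)
  have g319 : ∀ id < 1646604, Good Mo id := good_step Mo recs319 g318 part319 (by decide)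
  have g320 : ∀ id < 1650563, Good Mo id := good_step Mo recs320 g319 part320 (by decide)
  have g321 : ∀ id < 1654579, Good Mo id := good_step Mo recs321 g320 part321 (by decide)
  have g322 : ∀ id < 1658577, Good Mo id := good_step Mo recs322 g321 part322 (by decide)
  have g323 : ∀ id < 1662590, Good Mo id := good_step Mo recs323 g322 part323 (by decide)
  have g324 : ∀ id < 1666591, Good Mo id := good_step Mo recs324 g323 part324 (by decide)
  have g325 : ∀ id < 1670586, Good Mo id := good_step Mo recs325 g324 part325 (by decide)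
  have g326 : ∀ id < 1674576, Good Mo id := good_step Mo recs326 g325 part326 (by decide)
  have g327 : ∀ id < 1678564, Good Mo id := good_step Mo recs327 g326 part327 (by decide)
  have g328 : ∀ id < 1682549, Good Mo id := good_step Mo recs328 g327 part328 (by decide)
  have g329 : ∀ id < 1686553, Good Mo id := good_step Mo recs329 g328 part329 (by decide)
  have g330 : ∀ id < 1690544, Good Mo id := good_step Mo recs330 g329 part330 (by decide)
  have g331 : ∀ id < 1694511, Good Mo id := good_step Mo recs331 g330 part331 (by decide)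
  have g332 : ∀ id < 1698501, Good Mo id := good_step Mo recs332 g331 part332 (by decide)
  have g333 : ∀ id < 1702483, Good Mo id := good_step Mo recs333 g332 part333 (by decide)
  have g334 : ∀ id < 1706477, Good Mo id := good_step Mo recs334 g333 part334 (by decide)
  have g335 : ∀ id < 1710459, Good Mo id := good_step Mo recs335 g334 part335 (by decide)
  have g336 : ∀ id < 1714438, Good Mo id := good_step Mo recs336 g335 part336 (by decide)
  have g337 : ∀ id < 1718441, Good Mo id := good_step Mo recs337 g336 part337 (by decide)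
  have g338 : ∀ id < 1722462, Good Mo id := good_step Mo recs338 g337 part338 (by decide)
  have g339 : ∀ id < 1726448, Good Mo id := good_step Mo recs339 g338 part339 (by decide)
  have g340 : ∀ id < 1730401, Good Mo id := good_step Mo recs340 g339 part340 (by decide)
  have g341 : ∀ id < 1734332, Good Mo id := good_step Mo recs341 g340 part341 (by decide)
  have g342 : ∀ id < 1738282, Good Mo id := good_step Mo recs342 g341 part342 (by decide)
  have g343 : ∀ id < 1742253, Good Mo id := good_step Mo recs343 g342 part343 (by decide)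
  have g344 : ∀ id < 1746225, Good Mo id := good_step Mo recs344 g343 part344 (by decide)
  have g345 : ∀ id < 1750201, Good Mo id := good_step Mo recs345 g344 part345 (by decide)
  have g346 : ∀ id < 1754146, Good Mo id := good_step Mo recs346 g345 part346 (by decide)
  have g347 : ∀ id < 1758118, Good Mo id := good_step Mo recs347 g346 part347 (by decide)
  have g348 : ∀ id < 1762073, Good Mo id := good_step Mo recs348 g347 part348 (by decide)
  have g349 : ∀ id < 1766025, Good Mo id := good_step Mo recs349 g348 part349 (by decide)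
  have g350 : ∀ id < 1769987, Good Mo id := good_step Mo recs350 g349 part350 (by decide)
  have g351 : ∀ id < 1773963, Good Mo id := good_step Mo recs351 g350 part351 (by decide)
  have g352 : ∀ id < 1777907, Good Mo id := good_step Mo recs352 g351 part352 (by decide)
  have g353 : ∀ id < 1781845, Good Mo id := good_step Mo recs353 g352 part353 (by decide)
  have g354 : ∀ id < 1785791, Good Mo id := good_step Mo recs354 g353 part354 (by decide)
  have g355 : ∀ id < 1789723, Good Mo id := good_step Mo recs355 g354 part355 (by decide)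
  have g356 : ∀ id < 1793712, Good Mo id := good_step Mo recs356 g355 part356 (by decide)
  have g357 : ∀ id < 1797704, Good Mo id := good_step Mo recs357 g356 part357 (by decide)
  have g358 : ∀ id < 1801672, Good Mo id := good_step Mo recs358 g357 part358 (by decide)
  have g359 : ∀ id < 1805663, Good Mo id := good_step Mo recs359 g358 part359 (by decide)
  have g360 : ∀ id < 1809649, Good Mo id := good_step Mo recs360 g359 part360 (by decide)
  have g361 : ∀ id < 1813624, Good Mo id := good_step Mo recs361 g360 part361 (by decide)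
  have g362 : ∀ id < 1817602, Good Mo id := good_step Mo recs362 g361 part362 (by decide)
  have g363 : ∀ id < 1821568, Good Mo id := good_step Mo recs363 g362 part363 (by decide)
  have g364 : ∀ id < 1825545, Good Mo id := good_step Mo recs364 g363 part364 (by decide)
  have g365 : ∀ id < 1829530, Good Mo id := good_step Mo recs365 g364 part365 (by decide)
  have g366 : ∀ id < 1833510, Good Mo id := good_step Mo recs366 g365 part366 (by decide)
  have g367 : ∀ id < 1837480, Good Mo id := good_step Mo recs367 g366 part367 (by decide)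
  have g368 : ∀ id < 1841446, Good Mo id := good_step Mo recs368 g367 part368 (by decide)
  have g369 : ∀ id < 1845381, Good Mo id := good_step Mo recs369 g368 part369 (by decide)
  have g370 : ∀ id < 1849351, Good Mo id := good_step Mo recs370 g369 part370 (by decide)
  have g371 : ∀ id < 1853308, Good Mo id := good_step Mo recs371 g370 part371 (by decide)
  have g372 : ∀ id < 1857290, Good Mo id := good_step Mo recs372 g371 part372 (by decide)
  have g373 : ∀ id < 1861280, Good Mo id := good_step Mo recs373 g372 part373 (by decide)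
  have g374 : ∀ id < 1865280, Good Mo id := good_step Mo recs374 g373 part374 (by decide)
  have g375 : ∀ id < 1869247, Good Mo id := good_step Mo recs375 g374 part375 (by decide)
  have g376 : ∀ id < 1873181, Good Mo id := good_step Mo recs376 g375 part376 (by decide)
  have g377 : ∀ id < 1877108, Good Mo id := good_step Mo recs377 g376 part377 (by decide)
  have g378 : ∀ id < 1881062, Good Mo id := good_step Mo recs378 g377 part378 (by decide)
  have g379 : ∀ id < 1885011, Good Mo id := good_step Mo recs379 g378 part379 (by decide)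
  have g380 : ∀ id < 1888953, Good Mo id := good_step Mo recs380 g379 part380 (by decide)
  have g381 : ∀ id < 1892908, Good Mo id := good_step Mo recs381 g380 part381 (by decide)
  have g382 : ∀ id < 1896844, Good Mo id := good_step Mo recs382 g381 part382 (by decide)
  have g383 : ∀ id < 1900797, Good Mo id := good_step Mo recs383 g382 part383 (by decide)
  have g384 : ∀ id < 1904738, Good Mo id := good_step Mo recs384 g383 part384 (by decide)
  have g385 : ∀ id < 1908691, Good Mo id := good_step Mo recs385 g384 part385 (by decide)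
  have g386 : ∀ id < 1912641, Good Mo id := good_step Mo recs386 g385 part386 (by decide)
  have g387 : ∀ id < 1916584, Good Mo id := good_step Mo recs387 g386 part387 (by decide)
  have g388 : ∀ id < 1920526, Good Mo id := good_step Mo recs388 g387 part388 (by decide)
  have g389 : ∀ id < 1924441, Good Mo id := good_step Mo recs389 g388 part389 (by decide)
  have g390 : ∀ id < 1928408, Good Mo id := good_step Mo recs390 g389 part390 (by decide)
  have g391 : ∀ id < 1932400, Good Mo id := good_step Mo recs391 g390 part391 (by decide)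
  have g392 : ∀ id < 1936345, Good Mo id := good_step Mo recs392 g391 part392 (by decide)
  have g393 : ∀ id < 1940325, Good Mo id := good_step Mo recs393 g392 part393 (by decide)
  have g394 : ∀ id < 1944290, Good Mo id := good_step Mo recs394 g393 part394 (by decide)
  have g395 : ∀ id < 1948250, Good Mo id := good_step Mo recs395 g394 part395 (by decide)
  have g396 : ∀ id < 1952223, Good Mo id := good_step Mo recs396 g395 part396 (by decide)
  have g397 : ∀ id < 1956181, Good Mo id := good_step Mo recs397 g396 part397 (by decide)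
  have g398 : ∀ id < 1960135, Good Mo id := good_step Mo recs398 g397 part398 (by decide)
  have g399 : ∀ id < 1964105, Good Mo id := good_step Mo recs399 g398 part399 (by decide)
  have g400 : ∀ id < 1968070, Good Mo id := good_step Mo recs400 g399 part400 (by decide)
  have g401 : ∀ id < 1972024, Good Mo id := good_step Mo recs401 g400 part401 (by decide)
  have g402 : ∀ id < 1975972, Good Mo id := good_step Mo recs402 g401 part402 (by decide)
  have g403 : ∀ id < 1979932, Good Mo id := good_step Mo recs403 g402 part403 (by decide)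
  have g404 : ∀ id < 1983894, Good Mo id := good_step Mo recs404 g403 part404 (by decide)
  have g405 : ∀ id < 1987844, Good Mo id := good_step Mo recs405 g404 part405 (by decide)
  have g406 : ∀ id < 1991819, Good Mo id := good_step Mo recs406 g405 part406 (by decide)
  have g407 : ∀ id < 1995798, Good Mo id := good_step Mo recs407 g406 part407 (by decide)
  have g408 : ∀ id < 1999745, Good Mo id := good_step Mo recs408 g407 part408 (by decide)
  have g409 : ∀ id < 2003697, Good Mo id := good_step Mo recs409 g408 part409 (by decide)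
  have g410 : ∀ id < 2007654, Good Mo id := good_step Mo recs410 g409 part410 (by decide)
  have g411 : ∀ id < 2011594, Good Mo id := good_step Mo recs411 g410 part411 (by decide)
  have g412 : ∀ id < 2015508, Good Mo id := good_step Mo recs412 g411 part412 (by decide)
  have g413 : ∀ id < 2019463, Good Mo id := good_step Mo recs413 g412 part413 (by decide)
  have g414 : ∀ id < 2023410, Good Mo id := good_step Mo recs414 g413 part414 (by decide)
  have g415 : ∀ id < 2027357, Good Mo id := good_step Mo recs415 g414 part415 (by decide)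
  have g416 : ∀ id < 2031306, Good Mo id := good_step Mo recs416 g415 part416 (by decide)
  have g417 : ∀ id < 2035271, Good Mo id := good_step Mo recs417 g416 part417 (by decide)
  have g418 : ∀ id < 2039181, Good Mo id := good_step Mo recs418 g417 part418 (by decide)
  have g419 : ∀ id < 2043164, Good Mo id := good_step Mo recs419 g418 part419 (by decide)
  have g420 : ∀ id < 2047129, Good Mo id := good_step Mo recs420 g419 part420 (by decide)
  have g421 : ∀ id < 2051092, Good Mo id := good_step Mo recs421 g420 part421 (by decide)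
  have g422 : ∀ id < 2055065, Good Mo id := good_step Mo recs422 g421 part422 (by decide)
  have g423 : ∀ id < 2059031, Good Mo id := good_step Mo recs423 g422 part423 (by decide)
  have g424 : ∀ id < 2062998, Good Mo id := good_step Mo recs424 g423 part424 (by decide)
  have g425 : ∀ id < 2066948, Good Mo id := good_step Mo recs425 g424 part425 (by decide)
  have g426 : ∀ id < 2070893, Good Mo id := good_step Mo recs426 g425 part426 (by decide)
  have g427 : ∀ id < 2074849, Good Mo id := good_step Mo recs427 g426 part427 (by decide)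
  have g428 : ∀ id < 2078777, Good Mo id := good_step Mo recs428 g427 part428 (by decide)
  have g429 : ∀ id < 2082728, Good Mo id := good_step Mo recs429 g428 part429 (by decide)
  have g430 : ∀ id < 2086714, Good Mo id := good_step Mo recs430 g429 part430 (by decide)
  have g431 : ∀ id < 2090684, Good Mo id := good_step Mo recs431 g430 part431 (by decide)
  have g432 : ∀ id < 2094637, Good Mo id := good_step Mo recs432 g431 part432 (by decide)
  have g433 : ∀ id < 2098584, Good Mo id := good_step Mo recs433 g432 part433 (by decide)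
  have g434 : ∀ id < 2102529, Good Mo id := good_step Mo recs434 g433 part434 (by decide)
  have g435 : ∀ id < 2106489, Good Mo id := good_step Mo recs435 g434 part435 (by decide)
  have g436 : ∀ id < 2110429, Good Mo id := good_step Mo recs436 g435 part436 (by decide)
  have g437 : ∀ id < 2114406, Good Mo id := good_step Mo recs437 g436 part437 (by decide)
  have g438 : ∀ id < 2118337, Good Mo id := good_step Mo recs438 g437 part438 (by decide)
  have g439 : ∀ id < 2122303, Good Mo id := good_step Mo recs439 g438 part439 (by decide)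
  have g440 : ∀ id < 2126236, Good Mo id := good_step Mo recs440 g439 part440 (by decide)
  have g441 : ∀ id < 2130164, Good Mo id := good_step Mo recs441 g440 part441 (by decide)
  have g442 : ∀ id < 2134080, Good Mo id := good_step Mo recs442 g441 part442 (by decide)
  have g443 : ∀ id < 2138032, Good Mo id := good_step Mo recs443 g442 part443 (by decide)
  have g444 : ∀ id < 2141988, Good Mo id := good_step Mo recs444 g443 part444 (by decide)
  have g445 : ∀ id < 2145913, Good Mo id := good_step Mo recs445 g444 part445 (by decide)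
  have g446 : ∀ id < 2149874, Good Mo id := good_step Mo recs446 g445 part446 (by decide)
  have g447 : ∀ id < 2153834, Good Mo id := good_step Mo recs447 g446 part447 (by decide)
  have g448 : ∀ id < 2157779, Good Mo id := good_step Mo recs448 g447 part448 (by decide)
  have g449 : ∀ id < 2161724, Good Mo id := good_step Mo recs449 g448 part449 (by decide)
  have g450 : ∀ id < 2165690, Good Mo id := good_step Mo recs450 g449 part450 (by decide)
  have g451 : ∀ id < 2169607, Good Mo id := good_step Mo recs451 g450 part451 (by decide)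
  have g452 : ∀ id < 2173440, Good Mo id := good_step Mo recs452 g451 part452 (by decide)
  have g453 : ∀ id < 2177265, Good Mo id := good_step Mo recs453 g452 part453 (by decide)
  have g454 : ∀ id < 2181178, Good Mo id := good_step Mo recs454 g453 part454 (by decide)
  have g455 : ∀ id < 2185125, Good Mo id := good_step Mo recs455 g454 part455 (by decide)
  have g456 : ∀ id < 2189012, Good Mo id := good_step Mo recs456 g455 part456 (by decide)
  have g457 : ∀ id < 2192887, Good Mo id := good_step Mo recs457 g456 part457 (by decide)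
  have g458 : ∀ id < 2196653, Good Mo id := good_step Mo recs458 g457 part458 (by decide)
  have g459 : ∀ id < 2200386, Good Mo id := good_step Mo recs459 g458 part459 (by decide)
  have g460 : ∀ id < 2204008, Good Mo id := good_step Mo recs460 g459 part460 (by decide)
  have g461 : ∀ id < 2204350, Good Mo id := good_step Mo recs461 g460 part461 (by decide)
  exact g461

theorem hedge (z : ℕ) (hz : P.isLive z = true) (s : ℕ) (hs : s < P.k) :
    ∃ y, P.isLive y = true ∧ Edge Mo z s y := by
  have hzM : z < 345946 := lt_of_isLive liveM hz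
  rcases Nat.lt_or_ge z 4271 with h0 | h0
  · exact edge_of_rows Mo (good Mo) rows0 z (by omega) (by omega) hz s hs
  rcases Nat.lt_or_ge z 8542 with h1 | h1
  · exact edge_of_rows Mo (good Mo) rows1 z (by omega) (by omega) hz s hs
  rcases Nat.lt_or_ge z 12813 with h2 | h2
  · exact edge_of_rows Mo (good Mo) rows2 z (by omega) (by omega) hz s hs
  rcases Nat.lt_or_ge z 17084 with h3 | h3
  · exact edge_of_rows Mo (good Mo) rows3 z (by omega) (by omega) hz s hs
  rcases Nat.lt_or_ge z 21355 with h4 | h4
  · exact edge_of_rows Mo (good Mo) rows4 z (by omega) (by omega) hz s hs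
  rcases Nat.lt_or_ge z 25626 with h5 | h5
  · exact edge_of_rows Mo (good Mo) rows5 z (by omega) (by omega) hz s hs
  rcases Nat.lt_or_ge z 29897 with h6 | h6
  · exact edge_of_rows Mo (good Mo) rows6 z (by omega) (by omega) hz s hs
  rcases Nat.lt_or_ge z 34168 with h7 | h7
  · exact edge_of_rows Mo (good Mo) rows7 z (by omega) (by omega) hz s hs
  rcases Nat.lt_or_ge z 38439 with h8 | h8
  · exact edge_of_rows Mo (good Mo) rows8 z (by omega) (by omega) hz s hs
  rcases Nat.lt_or_ge z 42710 with h9 | h9
  · exact edge_of_rows Mo (good Mo) rows9 z (by omega) (by omega) hz s hs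
  rcases Nat.lt_or_ge z 46981 with h10 | h10
  · exact edge_of_rows Mo (good Mo) rows10 z (by omega) (by omega) hz s hs
  rcases Nat.lt_or_ge z 51252 with h11 | h11
  · exact edge_of_rows Mo (good Mo) rows11 z (by omega) (by omega) hz s hs
  rcases Nat.lt_or_ge z 55523 with h12 | h12
  · exact edge_of_rows Mo (good Mo) rows12 z (by omega) (by omega) hz s hs
  rcases Nat.lt_or_ge z 59794 with h13 | h13
  · exact edge_of_rows Mo (good Mo) rows13 z (by omega) (by omega) hz s hs
  rcases Nat.lt_or_ge z 64065 with h14 | h14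
  · exact edge_of_rows Mo (good Mo) rows14 z (by omega) (by omega) hz s hs
  rcases Nat.lt_or_ge z 68336 with h15 | h15
  · exact edge_of_rows Mo (good Mo) rows15 z (by omega) (by omega) hz s hs
  rcases Nat.lt_or_ge z 72607 with h16 | h16
  · exact edge_of_rows Mo (good Mo) rows16 z (by omega) (by omega) hz s hs
  rcases Nat.lt_or_ge z 76878 with h17 | h17
  · exact edge_of_rows Mo (good Mo) rows17 z (by omega) (by omega) hz s hs
  rcases Nat.lt_or_ge z 81149 with h18 | h18
  · exact edge_of_rows Mo (good Mo) rows18 z (by omega) (by omega) hz s hs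
  rcases Nat.lt_or_ge z 85420 with h19 | h19
  · exact edge_of_rows Mo (good Mo) rows19 z (by omega) (by omega) hz s hs
  rcases Nat.lt_or_ge z 89691 with h20 | h20
  · exact edge_of_rows Mo (good Mo) rows20 z (by omega) (by omega) hz s hs
  rcases Nat.lt_or_ge z 93962 with h21 | h21
  · exact edge_of_rows Mo (good Mo) rows21 z (by omega) (by omega) hz s hs
  rcases Nat.lt_or_ge z 98233 with h22 | h22
  · exact edge_of_rows Mo (good Mo) rows22 z (by omega) (by omega) hz s hs
  rcases Nat.lt_or_ge z 102504 with h23 | h23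
  · exact edge_of_rows Mo (good Mo) rows23 z (by omega) (by omega) hz s hs
  rcases Nat.lt_or_ge z 106775 with h24 | h24
  · exact edge_of_rows Mo (good Mo) rows24 z (by omega) (by omega) hz s hs
  rcases Nat.lt_or_ge z 111046 with h25 | h25
  · exact edge_of_rows Mo (good Mo) rows25 z (by omega) (by omega) hz s hs
  rcases Nat.lt_or_ge z 115317 with h26 | h26
  · exact edge_of_rows Mo (good Mo) rows26 z (by omega) (by omega) hz s hs
  rcases Nat.lt_or_ge z 119588 with h27 | h27
  · exact edge_of_rows Mo (good Mo) rows27 z (by omega) (by omega) hz s hs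
  rcases Nat.lt_or_ge z 123859 with h28 | h28
  · exact edge_of_rows Mo (good Mo) rows28 z (by omega) (by omega) hz s hs
  rcases Nat.lt_or_ge z 128130 with h29 | h29
  · exact edge_of_rows Mo (good Mo) rows29 z (by omega) (by omega) hz s hs
  rcases Nat.lt_or_ge z 132401 with h30 | h30
  · exact edge_of_rows Mo (good Mo) rows30 z (by omega) (by omega) hz s hs
  rcases Nat.lt_or_ge z 136672 with h31 | h31
  · exact edge_of_rows Mo (good Mo) rows31 z (by omega) (by omega) hz s hs
  rcases Nat.lt_or_ge z 140943 with h32 | h32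
  · exact edge_of_rows Mo (good Mo) rows32 z (by omega) (by omega) hz s hs
  rcases Nat.lt_or_ge z 145214 with h33 | h33
  · exact edge_of_rows Mo (good Mo) rows33 z (by omega) (by omega) hz s hs
  rcases Nat.lt_or_ge z 149485 with h34 | h34
  · exact edge_of_rows Mo (good Mo) rows34 z (by omega) (by omega) hz s hs
  rcases Nat.lt_or_ge z 153756 with h35 | h35
  · exact edge_of_rows Mo (good Mo) rows35 z (by omega) (by omega) hz s hs
  rcases Nat.lt_or_ge z 158027 with h36 | h36
  · exact edge_of_rows Mo (good Mo) rows36 z (by omega) (by omega) hz s hs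
  rcases Nat.lt_or_ge z 162298 with h37 | h37
  · exact edge_of_rows Mo (good Mo) rows37 z (by omega) (by omega) hz s hs
  rcases Nat.lt_or_ge z 166569 with h38 | h38
  · exact edge_of_rows Mo (good Mo) rows38 z (by omega) (by omega) hz s hs
  rcases Nat.lt_or_ge z 170840 with h39 | h39
  · exact edge_of_rows Mo (good Mo) rows39 z (by omega) (by omega) hz s hs
  rcases Nat.lt_or_ge z 175111 with h40 | h40
  · exact edge_of_rows Mo (good Mo) rows40 z (by omega) (by omega) hz s hs
  rcases Nat.lt_or_ge z 179382 with h41 | h41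
  · exact edge_of_rows Mo (good Mo) rows41 z (by omega) (by omega) hz s hs
  rcases Nat.lt_or_ge z 183653 with h42 | h42
  · exact edge_of_rows Mo (good Mo) rows42 z (by omega) (by omega) hz s hs
  rcases Nat.lt_or_ge z 187924 with h43 | h43
  · exact edge_of_rows Mo (good Mo) rows43 z (by omega) (by omega) hz s hs
  rcases Nat.lt_or_ge z 192195 with h44 | h44
  · exact edge_of_rows Mo (good Mo) rows44 z (by omega) (by omega) hz s hs
  rcases Nat.lt_or_ge z 196466 with h45 | h45
  · exact edge_of_rows Mo (good Mo) rows45 z (by omega) (by omega) hz s hs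
  rcases Nat.lt_or_ge z 200737 with h46 | h46
  · exact edge_of_rows Mo (good Mo) rows46 z (by omega) (by omega) hz s hs
  rcases Nat.lt_or_ge z 205008 with h47 | h47
  · exact edge_of_rows Mo (good Mo) rows47 z (by omega) (by omega) hz s hs
  rcases Nat.lt_or_ge z 209279 with h48 | h48
  · exact edge_of_rows Mo (good Mo) rows48 z (by omega) (by omega) hz s hs
  rcases Nat.lt_or_ge z 213550 with h49 | h49
  · exact edge_of_rows Mo (good Mo) rows49 z (by omega) (by omega) hz s hs
  rcases Nat.lt_or_ge z 217821 with h50 | h50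
  · exact edge_of_rows Mo (good Mo) rows50 z (by omega) (by omega) hz s hs
  rcases Nat.lt_or_ge z 222092 with h51 | h51
  · exact edge_of_rows Mo (good Mo) rows51 z (by omega) (by omega) hz s hs
  rcases Nat.lt_or_ge z 226363 with h52 | h52
  · exact edge_of_rows Mo (good Mo) rows52 z (by omega) (by omega) hz s hs
  rcases Nat.lt_or_ge z 230634 with h53 | h53
  · exact edge_of_rows Mo (good Mo) rows53 z (by omega) (by omega) hz s hs
  rcases Nat.lt_or_ge z 234905 with h54 | h54
  · exact edge_of_rows Mo (good Mo) rows54 z (by omega) (by omega) hz s hs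
  rcases Nat.lt_or_ge z 239176 with h55 | h55
  · exact edge_of_rows Mo (good Mo) rows55 z (by omega) (by omega) hz s hs
  rcases Nat.lt_or_ge z 243447 with h56 | h56
  · exact edge_of_rows Mo (good Mo) rows56 z (by omega) (by omega) hz s hs
  rcases Nat.lt_or_ge z 247718 with h57 | h57
  · exact edge_of_rows Mo (good Mo) rows57 z (by omega) (by omega) hz s hs
  rcases Nat.lt_or_ge z 251989 with h58 | h58
  · exact edge_of_rows Mo (good Mo) rows58 z (by omega) (by omega) hz s hs
  rcases Nat.lt_or_ge z 256260 with h59 | h59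
  · exact edge_of_rows Mo (good Mo) rows59 z (by omega) (by omega) hz s hs
  rcases Nat.lt_or_ge z 260531 with h60 | h60
  · exact edge_of_rows Mo (good Mo) rows60 z (by omega) (by omega) hz s hs
  rcases Nat.lt_or_ge z 264802 with h61 | h61
  · exact edge_of_rows Mo (good Mo) rows61 z (by omega) (by omega) hz s hs
  rcases Nat.lt_or_ge z 269073 with h62 | h62
  · exact edge_of_rows Mo (good Mo) rows62 z (by omega) (by omega) hz s hs
  rcases Nat.lt_or_ge z 273344 with h63 | h63
  · exact edge_of_rows Mo (good Mo) rows63 z (by omega) (by omega) hz s hs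
  rcases Nat.lt_or_ge z 277615 with h64 | h64
  · exact edge_of_rows Mo (good Mo) rows64 z (by omega) (by omega) hz s hs
  rcases Nat.lt_or_ge z 281886 with h65 | h65
  · exact edge_of_rows Mo (good Mo) rows65 z (by omega) (by omega) hz s hs
  rcases Nat.lt_or_ge z 286157 with h66 | h66
  · exact edge_of_rows Mo (good Mo) rows66 z (by omega) (by omega) hz s hs
  rcases Nat.lt_or_ge z 290428 with h67 | h67
  · exact edge_of_rows Mo (good Mo) rows67 z (by omega) (by omega) hz s hs
  rcases Nat.lt_or_ge z 294699 with h68 | h68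
  · exact edge_of_rows Mo (good Mo) rows68 z (by omega) (by omega) hz s hs
  rcases Nat.lt_or_ge z 298970 with h69 | h69
  · exact edge_of_rows Mo (good Mo) rows69 z (by omega) (by omega) hz s hs
  rcases Nat.lt_or_ge z 303241 with h70 | h70
  · exact edge_of_rows Mo (good Mo) rows70 z (by omega) (by omega) hz s hs
  rcases Nat.lt_or_ge z 307512 with h71 | h71
  · exact edge_of_rows Mo (good Mo) rows71 z (by omega) (by omega) hz s hs
  rcases Nat.lt_or_ge z 311783 with h72 | h72
  · exact edge_of_rows Mo (good Mo) rows72 z (by omega) (by omega) hz s hs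
  rcases Nat.lt_or_ge z 316054 with h73 | h73
  · exact edge_of_rows Mo (good Mo) rows73 z (by omega) (by omega) hz s hs
  rcases Nat.lt_or_ge z 320325 with h74 | h74
  · exact edge_of_rows Mo (good Mo) rows74 z (by omega) (by omega) hz s hs
  rcases Nat.lt_or_ge z 324596 with h75 | h75
  · exact edge_of_rows Mo (good Mo) rows75 z (by omega) (by omega) hz s hs
  rcases Nat.lt_or_ge z 328867 with h76 | h76
  · exact edge_of_rows Mo (good Mo) rows76 z (by omega) (by omega) hz s hs
  rcases Nat.lt_or_ge z 333138 with h77 | h77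
  · exact edge_of_rows Mo (good Mo) rows77 z (by omega) (by omega) hz s hs
  rcases Nat.lt_or_ge z 337409 with h78 | h78
  · exact edge_of_rows Mo (good Mo) rows78 z (by omega) (by omega) hz s hs
  rcases Nat.lt_or_ge z 341680 with h79 | h79
  · exact edge_of_rows Mo (good Mo) rows79 z (by omega) (by omega) hz s hs
  exact edge_of_rows Mo (good Mo) rows80 z (by omega) (by omega) hz s hs

/-- the upper bound -/
theorem upper (hgen : Subgroup.closure (Mo.S '' {s | s < P.k}) = ⊤) :
    Mo.H.index ≠ 0 ∧ Mo.H.index ≤ 306936 :=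
  index_le Mo hgen invk (hedge Mo) live0 liveM 306936 cntOK

end upper

theorem hok : ∀ s, (nthN nets s).Ok := okNets_sound nets netsOK

theorem hlt : ∀ s < 12, ∀ x < 306936, A s x < 306936 := fun s hs x hx =>
  act_lt hok (checkRange_sound nets 306936 12 0 rangeOK s (by omega) (by omega)) hx

theorem fix0 : ∀ x < 306936, tr A [6, 10, 6, 10] x = x := by
  apply fix_of_planes hok (n := 19) (by norm_num) hlt [6, 10, 6, 10] (by decide)
  intro j hj
  exact checkPlanes_sound nets 19 _ 19 0 pl0_0 j (by omega) (by omega)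

theorem fix1 : ∀ x < 306936, tr A [5, 11, 5, 11] x = x := by
  apply fix_of_planes hok (n := 19) (by norm_num) hlt [5, 11, 5, 11] (by decide)
  intro j hj
  exact checkPlanes_sound nets 19 _ 19 0 pl1_0 j (by omega) (by omega)

theorem fix2 : ∀ x < 306936, tr A [6, 11, 6, 11] x = x := by
  apply fix_of_planes hok (n := 19) (by norm_num) hlt [6, 11, 6, 11] (by decide)
  intro j hj
  exact checkPlanes_sound nets 19 _ 19 0 pl2_0 j (by omega) (by omega)

theorem fix3 : ∀ x < 306936, tr A [7, 10, 7, 10] x = x := by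
  apply fix_of_planes hok (n := 19) (by norm_num) hlt [7, 10, 7, 10] (by decide)
  intro j hj
  exact checkPlanes_sound nets 19 _ 19 0 pl3_0 j (by omega) (by omega)

theorem fix4 : ∀ x < 306936, tr A [7, 11, 7, 11] x = x := by
  apply fix_of_planes hok (n := 19) (by norm_num) hlt [7, 11, 7, 11] (by decide)
  intro j hj
  exact checkPlanes_sound nets 19 _ 19 0 pl4_0 j (by omega) (by omega)

theorem fix5 : ∀ x < 306936, tr A [4, 10, 4, 10] x = x := by
  apply fix_of_planes hok (n := 19) (by norm_num) hlt [4, 10, 4, 10] (by decide)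
  intro j hj
  exact checkPlanes_sound nets 19 _ 19 0 pl5_0 j (by omega) (by omega)

theorem fix6 : ∀ x < 306936, tr A [4, 11, 4, 11] x = x := by
  apply fix_of_planes hok (n := 19) (by norm_num) hlt [4, 11, 4, 11] (by decide)
  intro j hj
  exact checkPlanes_sound nets 19 _ 19 0 pl6_0 j (by omega) (by omega)

theorem fix7 : ∀ x < 306936, tr A [8, 11, 8, 11] x = x := by
  apply fix_of_planes hok (n := 19) (by norm_num) hlt [8, 11, 8, 11] (by decide)
  intro j hj
  exact checkPlanes_sound nets 19 _ 19 0 pl7_0 j (by omega) (by omega)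

theorem fix8 : ∀ x < 306936, tr A [8, 10, 8, 10] x = x := by
  apply fix_of_planes hok (n := 19) (by norm_num) hlt [8, 10, 8, 10] (by decide)
  intro j hj
  exact checkPlanes_sound nets 19 _ 19 0 pl8_0 j (by omega) (by omega)

theorem fix9 : ∀ x < 306936, tr A [3, 10, 3, 10] x = x := by
  apply fix_of_planes hok (n := 19) (by norm_num) hlt [3, 10, 3, 10] (by decide)
  intro j hj
  exact checkPlanes_sound nets 19 _ 19 0 pl9_0 j (by omega) (by omega)

theorem fix10 : ∀ x < 306936, tr A [9, 11, 9, 11] x = x := by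
  apply fix_of_planes hok (n := 19) (by norm_num) hlt [9, 11, 9, 11] (by decide)
  intro j hj
  exact checkPlanes_sound nets 19 _ 19 0 pl10_0 j (by omega) (by omega)

theorem fix11 : ∀ x < 306936, tr A [5, 10, 5, 10, 5, 10] x = x := by
  apply fix_of_planes hok (n := 19) (by norm_num) hlt [5, 10, 5, 10, 5, 10] (by decide)
  intro j hj
  rcases Nat.lt_or_ge j 16 with h0 | h0
  · exact checkPlanes_sound nets 19 _ 16 0 pl11_0 j (by omega) (by omega)
  exact checkPlanes_sound nets 19 _ 3 16 pl11_1 j (by omega) (by omega)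

theorem fix12 : ∀ x < 306936, tr A [3, 11, 3, 11] x = x := by
  apply fix_of_planes hok (n := 19) (by norm_num) hlt [3, 11, 3, 11] (by decide)
  intro j hj
  exact checkPlanes_sound nets 19 _ 19 0 pl12_0 j (by omega) (by omega)

theorem fix13 : ∀ x < 306936, tr A [10, 11, 10, 11, 10, 11] x = x := by
  apply fix_of_planes hok (n := 19) (by norm_num) hlt [10, 11, 10, 11, 10, 11] (by decide)
  intro j hj
  rcases Nat.lt_or_ge j 16 with h0 | h0
  · exact checkPlanes_sound nets 19 _ 16 0 pl13_0 j (by omega) (by omega)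
  exact checkPlanes_sound nets 19 _ 3 16 pl13_1 j (by omega) (by omega)

theorem fix14 : ∀ x < 306936, tr A [9, 10, 9, 10] x = x := by
  apply fix_of_planes hok (n := 19) (by norm_num) hlt [9, 10, 9, 10] (by decide)
  intro j hj
  exact checkPlanes_sound nets 19 _ 19 0 pl14_0 j (by omega) (by omega)

theorem fix15 : ∀ x < 306936, tr A [5, 7, 5, 7] x = x := by
  apply fix_of_planes hok (n := 19) (by norm_num) hlt [5, 7, 5, 7] (by decide)
  intro j hj
  exact checkPlanes_sound nets 19 _ 19 0 pl15_0 j (by omega) (by omega)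

theorem fix16 : ∀ x < 306936, tr A [2, 10, 2, 10] x = x := by
  apply fix_of_planes hok (n := 19) (by norm_num) hlt [2, 10, 2, 10] (by decide)
  intro j hj
  exact checkPlanes_sound nets 19 _ 19 0 pl16_0 j (by omega) (by omega)

theorem fix17 : ∀ x < 306936, tr A [2, 11, 2, 11] x = x := by
  apply fix_of_planes hok (n := 19) (by norm_num) hlt [2, 11, 2, 11] (by decide)
  intro j hj
  exact checkPlanes_sound nets 19 _ 19 0 pl17_0 j (by omega) (by omega)

theorem fix18 : ∀ x < 306936, tr A [1, 10, 1, 10] x = x := by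
  apply fix_of_planes hok (n := 19) (by norm_num) hlt [1, 10, 1, 10] (by decide)
  intro j hj
  exact checkPlanes_sound nets 19 _ 19 0 pl18_0 j (by omega) (by omega)

theorem fix19 : ∀ x < 306936, tr A [0, 10, 0, 10] x = x := by
  apply fix_of_planes hok (n := 19) (by norm_num) hlt [0, 10, 0, 10] (by decide)
  intro j hj
  exact checkPlanes_sound nets 19 _ 19 0 pl19_0 j (by omega) (by omega)

theorem fix20 : ∀ x < 306936, tr A [1, 11, 1, 11] x = x := by
  apply fix_of_planes hok (n := 19) (by norm_num) hlt [1, 11, 1, 11] (by decide)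
  intro j hj
  exact checkPlanes_sound nets 19 _ 19 0 pl20_0 j (by omega) (by omega)

theorem fix21 : ∀ x < 306936, tr A [0, 11, 0, 11] x = x := by
  apply fix_of_planes hok (n := 19) (by norm_num) hlt [0, 11, 0, 11] (by decide)
  intro j hj
  exact checkPlanes_sound nets 19 _ 19 0 pl21_0 j (by omega) (by omega)

theorem fix22 : ∀ x < 306936, tr A [5, 8, 5, 8] x = x := by
  apply fix_of_planes hok (n := 19) (by norm_num) hlt [5, 8, 5, 8] (by decide)
  intro j hj
  exact checkPlanes_sound nets 19 _ 19 0 pl22_0 j (by omega) (by omega)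

theorem fix23 : ∀ x < 306936, tr A [5, 6, 5, 6, 5, 6] x = x := by
  apply fix_of_planes hok (n := 19) (by norm_num) hlt [5, 6, 5, 6, 5, 6] (by decide)
  intro j hj
  rcases Nat.lt_or_ge j 16 with h0 | h0
  · exact checkPlanes_sound nets 19 _ 16 0 pl23_0 j (by omega) (by omega)
  exact checkPlanes_sound nets 19 _ 3 16 pl23_1 j (by omega) (by omega)

theorem fix24 : ∀ x < 306936, tr A [6, 8, 6, 8] x = x := by
  apply fix_of_planes hok (n := 19) (by norm_num) hlt [6, 8, 6, 8] (by decide)
  intro j hj
  exact checkPlanes_sound nets 19 _ 19 0 pl24_0 j (by omega) (by omega)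

theorem fix25 : ∀ x < 306936, tr A [3, 5, 3, 5] x = x := by
  apply fix_of_planes hok (n := 19) (by norm_num) hlt [3, 5, 3, 5] (by decide)
  intro j hj
  exact checkPlanes_sound nets 19 _ 19 0 pl25_0 j (by omega) (by omega)

theorem fix26 : ∀ x < 306936, tr A [4, 6, 4, 6] x = x := by
  apply fix_of_planes hok (n := 19) (by norm_num) hlt [4, 6, 4, 6] (by decide)
  intro j hj
  exact checkPlanes_sound nets 19 _ 19 0 pl26_0 j (by omega) (by omega)

theorem fix27 : ∀ x < 306936, tr A [5, 9, 5, 9] x = x := by
  apply fix_of_planes hok (n := 19) (by norm_num) hlt [5, 9, 5, 9] (by decide)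
  intro j hj
  exact checkPlanes_sound nets 19 _ 19 0 pl27_0 j (by omega) (by omega)

theorem fix28 : ∀ x < 306936, tr A [6, 9, 6, 9] x = x := by
  apply fix_of_planes hok (n := 19) (by norm_num) hlt [6, 9, 6, 9] (by decide)
  intro j hj
  exact checkPlanes_sound nets 19 _ 19 0 pl28_0 j (by omega) (by omega)

theorem fix29 : ∀ x < 306936, tr A [2, 5, 2, 5] x = x := by
  apply fix_of_planes hok (n := 19) (by norm_num) hlt [2, 5, 2, 5] (by decide)
  intro j hj
  exact checkPlanes_sound nets 19 _ 19 0 pl29_0 j (by omega) (by omega)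

theorem fix30 : ∀ x < 306936, tr A [4, 7, 4, 7] x = x := by
  apply fix_of_planes hok (n := 19) (by norm_num) hlt [4, 7, 4, 7] (by decide)
  intro j hj
  exact checkPlanes_sound nets 19 _ 19 0 pl30_0 j (by omega) (by omega)

theorem fix31 : ∀ x < 306936, tr A [3, 6, 3, 6] x = x := by
  apply fix_of_planes hok (n := 19) (by norm_num) hlt [3, 6, 3, 6] (by decide)
  intro j hj
  exact checkPlanes_sound nets 19 _ 19 0 pl31_0 j (by omega) (by omega)

theorem fix32 : ∀ x < 306936, tr A [6, 7, 6, 7, 6, 7] x = x := by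
  apply fix_of_planes hok (n := 19) (by norm_num) hlt [6, 7, 6, 7, 6, 7] (by decide)
  intro j hj
  rcases Nat.lt_or_ge j 16 with h0 | h0
  · exact checkPlanes_sound nets 19 _ 16 0 pl32_0 j (by omega) (by omega)
  exact checkPlanes_sound nets 19 _ 3 16 pl32_1 j (by omega) (by omega)

theorem fix33 : ∀ x < 306936, tr A [1, 5, 1, 5] x = x := by
  apply fix_of_planes hok (n := 19) (by norm_num) hlt [1, 5, 1, 5] (by decide)
  intro j hj
  exact checkPlanes_sound nets 19 _ 19 0 pl33_0 j (by omega) (by omega)

theorem fix34 : ∀ x < 306936, tr A [4, 5, 4, 5, 4, 5] x = x := by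
  apply fix_of_planes hok (n := 19) (by norm_num) hlt [4, 5, 4, 5, 4, 5] (by decide)
  intro j hj
  rcases Nat.lt_or_ge j 16 with h0 | h0
  · exact checkPlanes_sound nets 19 _ 16 0 pl34_0 j (by omega) (by omega)
  exact checkPlanes_sound nets 19 _ 3 16 pl34_1 j (by omega) (by omega)

theorem fix35 : ∀ x < 306936, tr A [0, 5, 0, 5] x = x := by
  apply fix_of_planes hok (n := 19) (by norm_num) hlt [0, 5, 0, 5] (by decide)
  intro j hj
  exact checkPlanes_sound nets 19 _ 19 0 pl35_0 j (by omega) (by omega)

theorem fix36 : ∀ x < 306936, tr A [2, 6, 2, 6] x = x := by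
  apply fix_of_planes hok (n := 19) (by norm_num) hlt [2, 6, 2, 6] (by decide)
  intro j hj
  exact checkPlanes_sound nets 19 _ 19 0 pl36_0 j (by omega) (by omega)

theorem fix37 : ∀ x < 306936, tr A [1, 6, 1, 6] x = x := by
  apply fix_of_planes hok (n := 19) (by norm_num) hlt [1, 6, 1, 6] (by decide)
  intro j hj
  exact checkPlanes_sound nets 19 _ 19 0 pl37_0 j (by omega) (by omega)

theorem fix38 : ∀ x < 306936, tr A [0, 6, 0, 6] x = x := by
  apply fix_of_planes hok (n := 19) (by norm_num) hlt [0, 6, 0, 6] (by decide)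
  intro j hj
  exact checkPlanes_sound nets 19 _ 19 0 pl38_0 j (by omega) (by omega)

theorem fix39 : ∀ x < 306936, tr A [4, 8, 4, 8] x = x := by
  apply fix_of_planes hok (n := 19) (by norm_num) hlt [4, 8, 4, 8] (by decide)
  intro j hj
  exact checkPlanes_sound nets 19 _ 19 0 pl39_0 j (by omega) (by omega)

theorem fix40 : ∀ x < 306936, tr A [3, 7, 3, 7] x = x := by
  apply fix_of_planes hok (n := 19) (by norm_num) hlt [3, 7, 3, 7] (by decide)
  intro j hj
  exact checkPlanes_sound nets 19 _ 19 0 pl40_0 j (by omega) (by omega)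

theorem fix41 : ∀ x < 306936, tr A [7, 9, 7, 9] x = x := by
  apply fix_of_planes hok (n := 19) (by norm_num) hlt [7, 9, 7, 9] (by decide)
  intro j hj
  exact checkPlanes_sound nets 19 _ 19 0 pl41_0 j (by omega) (by omega)

theorem fix42 : ∀ x < 306936, tr A [2, 7, 2, 7] x = x := by
  apply fix_of_planes hok (n := 19) (by norm_num) hlt [2, 7, 2, 7] (by decide)
  intro j hj
  exact checkPlanes_sound nets 19 _ 19 0 pl42_0 j (by omega) (by omega)

theorem fix43 : ∀ x < 306936, tr A [4, 9, 4, 9] x = x := by
  apply fix_of_planes hok (n := 19) (by norm_num) hlt [4, 9, 4, 9] (by decide)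
  intro j hj
  exact checkPlanes_sound nets 19 _ 19 0 pl43_0 j (by omega) (by omega)

theorem fix44 : ∀ x < 306936, tr A [1, 7, 1, 7] x = x := by
  apply fix_of_planes hok (n := 19) (by norm_num) hlt [1, 7, 1, 7] (by decide)
  intro j hj
  exact checkPlanes_sound nets 19 _ 19 0 pl44_0 j (by omega) (by omega)

theorem fix45 : ∀ x < 306936, tr A [7, 8, 7, 8, 7, 8] x = x := by
  apply fix_of_planes hok (n := 19) (by norm_num) hlt [7, 8, 7, 8, 7, 8] (by decide)
  intro j hj
  rcases Nat.lt_or_ge j 16 with h0 | h0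
  · exact checkPlanes_sound nets 19 _ 16 0 pl45_0 j (by omega) (by omega)
  exact checkPlanes_sound nets 19 _ 3 16 pl45_1 j (by omega) (by omega)

theorem fix46 : ∀ x < 306936, tr A [2, 4, 2, 4] x = x := by
  apply fix_of_planes hok (n := 19) (by norm_num) hlt [2, 4, 2, 4] (by decide)
  intro j hj
  exact checkPlanes_sound nets 19 _ 19 0 pl46_0 j (by omega) (by omega)

theorem fix47 : ∀ x < 306936, tr A [0, 7, 0, 7] x = x := by
  apply fix_of_planes hok (n := 19) (by norm_num) hlt [0, 7, 0, 7] (by decide)
  intro j hj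
  exact checkPlanes_sound nets 19 _ 19 0 pl47_0 j (by omega) (by omega)

theorem fix48 : ∀ x < 306936, tr A [3, 8, 3, 8] x = x := by
  apply fix_of_planes hok (n := 19) (by norm_num) hlt [3, 8, 3, 8] (by decide)
  intro j hj
  exact checkPlanes_sound nets 19 _ 19 0 pl48_0 j (by omega) (by omega)

theorem fix49 : ∀ x < 306936, tr A [10, 10] x = x := by
  apply fix_of_planes hok (n := 19) (by norm_num) hlt [10, 10] (by decide)
  intro j hj
  exact checkPlanes_sound nets 19 _ 19 0 pl49_0 j (by omega) (by omega)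

theorem fix50 : ∀ x < 306936, tr A [11, 11] x = x := by
  apply fix_of_planes hok (n := 19) (by norm_num) hlt [11, 11] (by decide)
  intro j hj
  exact checkPlanes_sound nets 19 _ 19 0 pl50_0 j (by omega) (by omega)

theorem fix51 : ∀ x < 306936, tr A [1, 4, 1, 4] x = x := by
  apply fix_of_planes hok (n := 19) (by norm_num) hlt [1, 4, 1, 4] (by decide)
  intro j hj
  exact checkPlanes_sound nets 19 _ 19 0 pl51_0 j (by omega) (by omega)

theorem fix52 : ∀ x < 306936, tr A [0, 4, 0, 4] x = x := by
  apply fix_of_planes hok (n := 19) (by norm_num) hlt [0, 4, 0, 4] (by decide)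
  intro j hj
  exact checkPlanes_sound nets 19 _ 19 0 pl52_0 j (by omega) (by omega)

theorem fix53 : ∀ x < 306936, tr A [3, 4, 3, 4, 3, 4] x = x := by
  apply fix_of_planes hok (n := 19) (by norm_num) hlt [3, 4, 3, 4, 3, 4] (by decide)
  intro j hj
  rcases Nat.lt_or_ge j 16 with h0 | h0
  · exact checkPlanes_sound nets 19 _ 16 0 pl53_0 j (by omega) (by omega)
  exact checkPlanes_sound nets 19 _ 3 16 pl53_1 j (by omega) (by omega)

theorem fix54 : ∀ x < 306936, tr A [2, 8, 2, 8] x = x := by
  apply fix_of_planes hok (n := 19) (by norm_num) hlt [2, 8, 2, 8] (by decide)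
  intro j hj
  exact checkPlanes_sound nets 19 _ 19 0 pl54_0 j (by omega) (by omega)

theorem fix55 : ∀ x < 306936, tr A [3, 9, 3, 9] x = x := by
  apply fix_of_planes hok (n := 19) (by norm_num) hlt [3, 9, 3, 9] (by decide)
  intro j hj
  exact checkPlanes_sound nets 19 _ 19 0 pl55_0 j (by omega) (by omega)

theorem fix56 : ∀ x < 306936, tr A [1, 8, 1, 8] x = x := by
  apply fix_of_planes hok (n := 19) (by norm_num) hlt [1, 8, 1, 8] (by decide)
  intro j hj
  exact checkPlanes_sound nets 19 _ 19 0 pl56_0 j (by omega) (by omega)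

theorem fix57 : ∀ x < 306936, tr A [5, 5] x = x := by
  apply fix_of_planes hok (n := 19) (by norm_num) hlt [5, 5] (by decide)
  intro j hj
  exact checkPlanes_sound nets 19 _ 19 0 pl57_0 j (by omega) (by omega)

theorem fix58 : ∀ x < 306936, tr A [0, 8, 0, 8] x = x := by
  apply fix_of_planes hok (n := 19) (by norm_num) hlt [0, 8, 0, 8] (by decide)
  intro j hj
  exact checkPlanes_sound nets 19 _ 19 0 pl58_0 j (by omega) (by omega)

theorem fix59 : ∀ x < 306936, tr A [8, 9, 8, 9, 8, 9] x = x := by
  apply fix_of_planes hok (n := 19) (by norm_num) hlt [8, 9, 8, 9, 8, 9] (by decide)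
  intro j hj
  rcases Nat.lt_or_ge j 16 with h0 | h0
  · exact checkPlanes_sound nets 19 _ 16 0 pl59_0 j (by omega) (by omega)
  exact checkPlanes_sound nets 19 _ 3 16 pl59_1 j (by omega) (by omega)

theorem fix60 : ∀ x < 306936, tr A [6, 6] x = x := by
  apply fix_of_planes hok (n := 19) (by norm_num) hlt [6, 6] (by decide)
  intro j hj
  exact checkPlanes_sound nets 19 _ 19 0 pl60_0 j (by omega) (by omega)

theorem fix61 : ∀ x < 306936, tr A [8, 8] x = x := by
  apply fix_of_planes hok (n := 19) (by norm_num) hlt [8, 8] (by decide)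
  intro j hj
  exact checkPlanes_sound nets 19 _ 19 0 pl61_0 j (by omega) (by omega)

theorem fix62 : ∀ x < 306936, tr A [2, 9, 2, 9] x = x := by
  apply fix_of_planes hok (n := 19) (by norm_num) hlt [2, 9, 2, 9] (by decide)
  intro j hj
  exact checkPlanes_sound nets 19 _ 19 0 pl62_0 j (by omega) (by omega)

theorem fix63 : ∀ x < 306936, tr A [1, 3, 1, 3] x = x := by
  apply fix_of_planes hok (n := 19) (by norm_num) hlt [1, 3, 1, 3] (by decide)
  intro j hj
  exact checkPlanes_sound nets 19 _ 19 0 pl63_0 j (by omega) (by omega)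

theorem fix64 : ∀ x < 306936, tr A [7, 7] x = x := by
  apply fix_of_planes hok (n := 19) (by norm_num) hlt [7, 7] (by decide)
  intro j hj
  exact checkPlanes_sound nets 19 _ 19 0 pl64_0 j (by omega) (by omega)

theorem fix65 : ∀ x < 306936, tr A [0, 3, 0, 3] x = x := by
  apply fix_of_planes hok (n := 19) (by norm_num) hlt [0, 3, 0, 3] (by decide)
  intro j hj
  exact checkPlanes_sound nets 19 _ 19 0 pl65_0 j (by omega) (by omega)

theorem fix66 : ∀ x < 306936, tr A [9, 9] x = x := by
  apply fix_of_planes hok (n := 19) (by norm_num) hlt [9, 9] (by decide)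
  intro j hj
  exact checkPlanes_sound nets 19 _ 19 0 pl66_0 j (by omega) (by omega)

theorem fix67 : ∀ x < 306936, tr A [2, 3, 2, 3, 2, 3] x = x := by
  apply fix_of_planes hok (n := 19) (by norm_num) hlt [2, 3, 2, 3, 2, 3] (by decide)
  intro j hj
  rcases Nat.lt_or_ge j 16 with h0 | h0
  · exact checkPlanes_sound nets 19 _ 16 0 pl67_0 j (by omega) (by omega)
  exact checkPlanes_sound nets 19 _ 3 16 pl67_1 j (by omega) (by omega)

theorem fix68 : ∀ x < 306936, tr A [4, 4] x = x := by
  apply fix_of_planes hok (n := 19) (by norm_num) hlt [4, 4] (by decide)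
  intro j hj
  exact checkPlanes_sound nets 19 _ 19 0 pl68_0 j (by omega) (by omega)

theorem fix69 : ∀ x < 306936, tr A [1, 9, 1, 9] x = x := by
  apply fix_of_planes hok (n := 19) (by norm_num) hlt [1, 9, 1, 9] (by decide)
  intro j hj
  exact checkPlanes_sound nets 19 _ 19 0 pl69_0 j (by omega) (by omega)

theorem fix70 : ∀ x < 306936, tr A [1, 1] x = x := by
  apply fix_of_planes hok (n := 19) (by norm_num) hlt [1, 1] (by decide)
  intro j hj
  exact checkPlanes_sound nets 19 _ 19 0 pl70_0 j (by omega) (by omega)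

theorem fix71 : ∀ x < 306936, tr A [2, 2] x = x := by
  apply fix_of_planes hok (n := 19) (by norm_num) hlt [2, 2] (by decide)
  intro j hj
  exact checkPlanes_sound nets 19 _ 19 0 pl71_0 j (by omega) (by omega)

theorem fix72 : ∀ x < 306936, tr A [0, 9, 0, 9] x = x := by
  apply fix_of_planes hok (n := 19) (by norm_num) hlt [0, 9, 0, 9] (by decide)
  intro j hj
  exact checkPlanes_sound nets 19 _ 19 0 pl72_0 j (by omega) (by omega)

theorem fix73 : ∀ x < 306936, tr A [3, 3] x = x := by
  apply fix_of_planes hok (n := 19) (by norm_num) hlt [3, 3] (by decide)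
  intro j hj
  exact checkPlanes_sound nets 19 _ 19 0 pl73_0 j (by omega) (by omega)

theorem fix74 : ∀ x < 306936, tr A [0, 2, 0, 2] x = x := by
  apply fix_of_planes hok (n := 19) (by norm_num) hlt [0, 2, 0, 2] (by decide)
  intro j hj
  exact checkPlanes_sound nets 19 _ 19 0 pl74_0 j (by omega) (by omega)

theorem fix75 : ∀ x < 306936, tr A [0, 0] x = x := by
  apply fix_of_planes hok (n := 19) (by norm_num) hlt [0, 0] (by decide)
  intro j hj
  exact checkPlanes_sound nets 19 _ 19 0 pl75_0 j (by omega) (by omega)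

theorem fix76 : ∀ x < 306936, tr A [1, 2, 1, 2, 1, 2] x = x := by
  apply fix_of_planes hok (n := 19) (by norm_num) hlt [1, 2, 1, 2, 1, 2] (by decide)
  intro j hj
  rcases Nat.lt_or_ge j 16 with h0 | h0
  · exact checkPlanes_sound nets 19 _ 16 0 pl76_0 j (by omega) (by omega)
  exact checkPlanes_sound nets 19 _ 3 16 pl76_1 j (by omega) (by omega)

theorem fix78 : ∀ x < 306936, tr A [0, 1, 0, 1, 0, 1] x = x := by
  apply fix_of_planes hok (n := 19) (by norm_num) hlt [0, 1, 0, 1, 0, 1] (by decide)
  intro j hj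
  rcases Nat.lt_or_ge j 16 with h0 | h0
  · exact checkPlanes_sound nets 19 _ 16 0 pl78_0 j (by omega) (by omega)
  exact checkPlanes_sound nets 19 _ 3 16 pl78_1 j (by omega) (by omega)

theorem fix79 : ∀ x < 306936, tr A [0, 10, 7, 6, 5, 4, 3, 2, 10, 7, 6, 5, 4, 3, 2, 10, 7, 6, 5, 4, 3, 2, 10, 7, 6, 5, 4, 3, 2, 10, 7, 6, 5, 4, 3, 2, 10, 7, 6, 5, 4, 3, 2, 10, 7, 6, 5, 4, 3, 2, 10, 7, 6, 5, 4, 3, 2, 10, 7, 6, 5, 4, 3, 2] x = x := by
  apply fix_of_planes hok (n := 19) (by norm_num) hlt [0, 10, 7, 6, 5, 4, 3, 2, 10, 7, 6, 5, 4, 3, 2, 10, 7, 6, 5, 4, 3, 2, 10, 7, 6, 5, 4, 3, 2, 10, 7, 6, 5, 4, 3, 2, 10, 7, 6, 5, 4, 3, 2, 10, 7, 6, 5, 4, 3, 2, 10, 7, 6, 5, 4, 3, 2, 10, 7, 6, 5, 4, 3, 2] (by decide)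
  intro j hj
  rcases Nat.lt_or_ge j 1 with h0 | h0
  · exact checkPlanes_sound nets 19 _ 1 0 pl79_0 j (by omega) (by omega)
  rcases Nat.lt_or_ge j 2 with h1 | h1
  · exact checkPlanes_sound nets 19 _ 1 1 pl79_1 j (by omega) (by omega)
  rcases Nat.lt_or_ge j 3 with h2 | h2
  · exact checkPlanes_sound nets 19 _ 1 2 pl79_2 j (by omega) (by omega)
  rcases Nat.lt_or_ge j 4 with h3 | h3
  · exact checkPlanes_sound nets 19 _ 1 3 pl79_3 j (by omega) (by omega)
  rcases Nat.lt_or_ge j 5 with h4 | h4
  · exact checkPlanes_sound nets 19 _ 1 4 pl79_4 j (by omega) (by omega)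
  rcases Nat.lt_or_ge j 6 with h5 | h5
  · exact checkPlanes_sound nets 19 _ 1 5 pl79_5 j (by omega) (by omega)
  rcases Nat.lt_or_ge j 7 with h6 | h6
  · exact checkPlanes_sound nets 19 _ 1 6 pl79_6 j (by omega) (by omega)
  rcases Nat.lt_or_ge j 8 with h7 | h7
  · exact checkPlanes_sound nets 19 _ 1 7 pl79_7 j (by omega) (by omega)
  rcases Nat.lt_or_ge j 9 with h8 | h8
  · exact checkPlanes_sound nets 19 _ 1 8 pl79_8 j (by omega) (by omega)
  rcases Nat.lt_or_ge j 10 with h9 | h9
  · exact checkPlanes_sound nets 19 _ 1 9 pl79_9 j (by omega) (by omega)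
  rcases Nat.lt_or_ge j 11 with h10 | h10
  · exact checkPlanes_sound nets 19 _ 1 10 pl79_10 j (by omega) (by omega)
  rcases Nat.lt_or_ge j 12 with h11 | h11
  · exact checkPlanes_sound nets 19 _ 1 11 pl79_11 j (by omega) (by omega)
  rcases Nat.lt_or_ge j 13 with h12 | h12
  · exact checkPlanes_sound nets 19 _ 1 12 pl79_12 j (by omega) (by omega)
  rcases Nat.lt_or_ge j 14 with h13 | h13
  · exact checkPlanes_sound nets 19 _ 1 13 pl79_13 j (by omega) (by omega)
  rcases Nat.lt_or_ge j 15 with h14 | h14
  · exact checkPlanes_sound nets 19 _ 1 14 pl79_14 j (by omega) (by omega)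
  rcases Nat.lt_or_ge j 16 with h15 | h15
  · exact checkPlanes_sound nets 19 _ 1 15 pl79_15 j (by omega) (by omega)
  rcases Nat.lt_or_ge j 17 with h16 | h16
  · exact checkPlanes_sound nets 19 _ 1 16 pl79_16 j (by omega) (by omega)
  rcases Nat.lt_or_ge j 18 with h17 | h17
  · exact checkPlanes_sound nets 19 _ 1 17 pl79_17 j (by omega) (by omega)
  exact checkPlanes_sound nets 19 _ 1 18 pl79_18 j (by omega) (by omega)

theorem fix80 : ∀ x < 306936, tr A [5, 4, 3, 2, 1, 0, 5, 6, 7, 8, 9, 5, 10, 11, 5, 4, 3, 2, 1, 0, 5, 6, 7, 8, 9, 5, 10, 11, 5, 4, 3, 2, 1, 0, 5, 6, 7, 8, 9, 5, 10, 11, 5, 4, 3, 2, 1, 0, 5, 6, 7, 8, 9, 5, 10, 11, 5, 4, 3, 2, 1, 0, 5, 6, 7, 8, 9, 5, 10, 11, 5, 4, 3, 2, 1, 0, 5, 6, 7, 8, 9, 5, 10, 11, 5, 4, 3, 2, 1, 0, 5, 6, 7, 8, 9, 5, 10, 11, 5, 4, 3, 2, 1, 0, 5, 6, 7, 8, 9, 5, 10, 11, 5, 4, 3, 2, 1, 0, 5, 6, 7, 8, 9, 5, 10, 11, 5, 4, 3, 2, 1, 0, 5, 6, 7, 8, 9, 5, 10, 11, 5, 4, 3, 2, 1, 0, 5, 6, 7, 8, 9, 5, 10, 11, 5, 4, 3, 2, 1, 0, 5, 6, 7, 8, 9, 5, 10, 11, 5, 4, 3, 2, 1, 0, 5, 6, 7, 8, 9, 5, 10,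 11, 5, 4, 3, 2, 1, 0, 5, 6, 7, 8, 9, 5, 10, 11, 5, 4, 3, 2, 1, 0, 5, 6, 7, 8, 9, 5, 10, 11, 5, 4, 3, 2, 1, 0, 5, 6, 7, 8, 9, 5, 10, 11, 5, 4, 3, 2, 1, 0, 5, 6, 7, 8, 9, 5, 10, 11] x = x := by
  apply fix_of_planes hok (n := 19) (by norm_num) hlt [5, 4, 3, 2, 1, 0, 5, 6, 7, 8, 9, 5, 10, 11, 5, 4, 3, 2, 1, 0, 5, 6, 7, 8, 9, 5, 10, 11, 5, 4, 3, 2, 1, 0, 5, 6, 7, 8, 9, 5, 10, 11, 5, 4, 3, 2, 1, 0, 5, 6, 7, 8, 9, 5, 10, 11, 5, 4, 3, 2, 1, 0, 5, 6, 7, 8, 9, 5, 10, 11, 5, 4, 3, 2, 1, 0, 5, 6, 7, 8, 9, 5, 10, 11, 5, 4, 3, 2, 1, 0, 5, 6, 7, 8, 9, 5, 10, 11, 5, 4, 3, 2, 1, 0, 5, 6, 7, 8, 9, 5, 10, 11, 5, 4, 3, 2, 1, 0, 5, 6, 7, 8, 9, 5, 10, 11, 5, 4, 3, 2, 1, 0, 5, 6, 7, 8, 9, 5, 10, 11, 5, 4, 3, 2, 1, 0, 5, 6, 7, 8, 9, 5, 10, 11, 5, 4, 3, 2, 1, 0, 5, 6, 7, 8, 9, 5, 10, 11, 5, 4, 3, 2, 1, 0, 5, 6, 7, 8, 9, 5, 10, 11, 5, 4, 3, 2, 1, 0, 5, 6, 7, 8, 9, 5, 10, 11, 5, 4, 3, 2, 1, 0, 5, 6, 7, 8, 9, 5, 10, 11, 5, 4, 3, 2, 1, 0, 5, 6, 7, 8, 9, 5, 10, 11, 5, 4, 3, 2, 1, 0, 5, 6, 7, 8, 9, 5, 10, 11] (by decide)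
  intro j hj
  rcases Nat.lt_or_ge j 1 with h0 | h0
  · exact checkPlanes_sound nets 19 _ 1 0 pl80_0 j (by omega) (by omega)
  rcases Nat.lt_or_ge j 2 with h1 | h1
  · exact checkPlanes_sound nets 19 _ 1 1 pl80_1 j (by omega) (by omega)
  rcases Nat.lt_or_ge j 3 with h2 | h2
  · exact checkPlanes_sound nets 19 _ 1 2 pl80_2 j (by omega) (by omega)
  rcases Nat.lt_or_ge j 4 with h3 | h3
  · exact checkPlanes_sound nets 19 _ 1 3 pl80_3 j (by omega) (by omega)
  rcases Nat.lt_or_ge j 5 with h4 | h4
  · exact checkPlanes_sound nets 19 _ 1 4 pl80_4 j (by omega) (by omega)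
  rcases Nat.lt_or_ge j 6 with h5 | h5
  · exact checkPlanes_sound nets 19 _ 1 5 pl80_5 j (by omega) (by omega)
  rcases Nat.lt_or_ge j 7 with h6 | h6
  · exact checkPlanes_sound nets 19 _ 1 6 pl80_6 j (by omega) (by omega)
  rcases Nat.lt_or_ge j 8 with h7 | h7
  · exact checkPlanes_sound nets 19 _ 1 7 pl80_7 j (by omega) (by omega)
  rcases Nat.lt_or_ge j 9 with h8 | h8
  · exact checkPlanes_sound nets 19 _ 1 8 pl80_8 j (by omega) (by omega)
  rcases Nat.lt_or_ge j 10 with h9 | h9
  · exact checkPlanes_sound nets 19 _ 1 9 pl80_9 j (by omega) (by omega)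
  rcases Nat.lt_or_ge j 11 with h10 | h10
  · exact checkPlanes_sound nets 19 _ 1 10 pl80_10 j (by omega) (by omega)
  rcases Nat.lt_or_ge j 12 with h11 | h11
  · exact checkPlanes_sound nets 19 _ 1 11 pl80_11 j (by omega) (by omega)
  rcases Nat.lt_or_ge j 13 with h12 | h12
  · exact checkPlanes_sound nets 19 _ 1 12 pl80_12 j (by omega) (by omega)
  rcases Nat.lt_or_ge j 14 with h13 | h13
  · exact checkPlanes_sound nets 19 _ 1 13 pl80_13 j (by omega) (by omega)
  rcases Nat.lt_or_ge j 15 with h14 | h14
  · exact checkPlanes_sound nets 19 _ 1 14 pl80_14 j (by omega) (by omega)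
  rcases Nat.lt_or_ge j 16 with h15 | h15
  · exact checkPlanes_sound nets 19 _ 1 15 pl80_15 j (by omega) (by omega)
  rcases Nat.lt_or_ge j 17 with h16 | h16
  · exact checkPlanes_sound nets 19 _ 1 16 pl80_16 j (by omega) (by omega)
  rcases Nat.lt_or_ge j 18 with h17 | h17
  · exact checkPlanes_sound nets 19 _ 1 17 pl80_17 j (by omega) (by omega)
  exact checkPlanes_sound nets 19 _ 1 18 pl80_18 j (by omega) (by omega)

/-- the inverse letters -/
def invL (s : ℕ) : ℕ := [0, 1, 2, 3, 4, 5, 6, 7, 8, 9, 10, 11].getD s 0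

theorem isAction : IsAction 306936 12 A invL where
  lt := hlt
  invk := by decide
  invinv := by decide
  cancel := by
    intro s hs x hx
    interval_cases s
    · exact fix75 x hx
    · exact fix70 x hx
    · exact fix71 x hx
    · exact fix73 x hx
    · exact fix68 x hx
    · exact fix57 x hx
    · exact fix60 x hx
    · exact fix64 x hx
    · exact fix61 x hx
    · exact fix66 x hx
    · exact fix49 x hx
    · exact fix50 x hx

theorem reach_ok : ∀ x < 306936, Reach A 12 x := reach_of_check hok isAction reachOK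

theorem sub0 : ∀ s ∈ [2, 3, 4, 5, 6, 7, 8, 10, 11, 9, 0], A s 0 = 0 := by
  intro s hs
  simp only [List.mem_cons, List.not_mem_nil, or_false] at hs
  rcases hs with rfl | rfl | rfl | rfl | rfl | rfl | rfl | rfl | rfl | rfl | rfl
  · exact act_zero hok (Nat.eq_of_beq_eq_true zero2)
  · exact act_zero hok (Nat.eq_of_beq_eq_true zero3)
  · exact act_zero hok (Nat.eq_of_beq_eq_true zero4)
  · exact act_zero hok (Nat.eq_of_beq_eq_true zero5)
  · exact act_zero hok (Nat.eq_of_beq_eq_true zero6)
  · exact act_zero hok (Nat.eq_of_beq_eq_true zero7)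
  · exact act_zero hok (Nat.eq_of_beq_eq_true zero8)
  · exact act_zero hok (Nat.eq_of_beq_eq_true zero10)
  · exact act_zero hok (Nat.eq_of_beq_eq_true zero11)
  · exact act_zero hok (Nat.eq_of_beq_eq_true zero9)
  · exact act_zero hok (Nat.eq_of_beq_eq_true zero0)

end Cfsg.Agent.Lib.helper19_Fi24A
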