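import Cfsg.Agent.Lib.helper19_Fi24L

/-! Generated: relator checks, file 5; by helper19. -/

set_option autoImplicit false
set_option maxRecDepth 1000000
set_option Elab.async false

namespace Cfsg.Agent.Lib.helper19_Fi24L
open Cfsg.Agent.Lib.helper19_TC2 Cfsg.Agent.Lib.helper19_TC2L Cfsg.Agent.Lib.helper19_Benes

theorem pl23_1 : checkPlanes nets 19 [5, 6, 5, 6, 5, 6] 3 16 = true := by
  decide +kernel

theorem pl24_0 : checkPlanes nets 19 [6, 8, 6, 8] 19 0 = true := by
  decide +kernel

theorem pl25_0 : checkPlanes nets 19 [3, 5, 3, 5] 19 0 = true := by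
  decide +kernel

theorem pl26_0 : checkPlanes nets 19 [4, 6, 4, 6] 19 0 = true := by
  decide +kernel

theorem pl27_0 : checkPlanes nets 19 [5, 9, 5, 9] 19 0 = true := by
  decide +kernel

theorem pl28_0 : checkPlanes nets 19 [6, 9, 6, 9] 19 0 = true := by
  decide +kernel

end Cfsg.Agent.Lib.helper19_Fi24L
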