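import Cfsg.Agent.S1698
import Cfsg.Agent.Lib.helper19_Rigid2
import Cfsg.Agent.Lib.helper19_BenesFix

/-!
# The presented group `Fi24` on its 306936 points: general facts for `Out(Fi24') = 2` (helper19)

`G = Fi24` acts faithfully and transitively on `Ω = Fin 306936` through `psi` (S1690); the stabiliser of
the point `0` is `Hs = ⟨a, …, j, l⟩`, the centraliser of the transposition `l`; the commutator subgroup
`Fi24'` has index 2 and contains exactly the words of even length.
-/

set_option autoImplicit false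
set_option maxRecDepth 100000
set_option linter.unusedSimpArgs false
set_option linter.unusedVariables false

namespace Cfsg.Agent.Lib.helper19_Fi24OutB

open Cfsg Cfsg.Spor
open Cfsg.Agent.Lib.helper19_TC2 Cfsg.Agent.Lib.helper19_TC2L Cfsg.Agent.Lib.helper19_TC2P
open Cfsg.Agent.Lib.helper19_Benes Cfsg.Agent.Lib.helper19_Fi24L Cfsg.Agent.Lib.helper19_Fi24A
open Cfsg.Agent.Lib.Helper28_BenesOrb Cfsg.Agent.Lib.Helper28_Fi24Orb
open Cfsg.Agent.Lib.Helper28_Fi24Max
open Cfsg.Agent.S1690
open Cfsg.Agent.Lib.helper19_Rigid Cfsg.Agent.Lib.helper19_Rigid2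
open Cfsg.Agent.Lib.helper19_BenesFix

/-- the points -/
abbrev Ω : Type := Fin 306936

/-- the base point -/
abbrev o : Ω := ⟨0, by decide⟩

/-- the action of the presented group on the points -/
noncomputable instance actG : MulAction G Ω := MulAction.compHom Ω psi

theorem smul_def (g : G) (ω : Ω) : g • ω = psi g ω := rfl

theorem h23 : Cfsg.IsFi23 Cfsg.Spor.Fi23 := Cfsg.Agent.S1697.result

/-- the stabiliser of the base point is `Hs`. -/
theorem hstab : ∀ g : G, psi g o = o → g ∈ Hs := by
  apply mem_of_fix_of_index psi Hs _ psi_fix (by decide) index_eq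
  intro St hiff
  have hle : Hs ≤ St := fun g hg => (hiff g).mpr (psi_fix g hg)
  have hSt : ∀ g ∈ St, psi g ⟨0, by decide⟩ = ⟨0, by decide⟩ := fun g hg => (hiff g).mp hg
  have hfi : Hs.FiniteIndex := ⟨by rw [index_eq]; decide⟩
  have : St.FiniteIndex := Subgroup.finiteIndex_of_le hle
  have : Finite (G ⧸ St) := Subgroup.finite_quotient_of_finiteIndex
  exact le_index_of_reach St (by decide) isAction S psi psi_S hSt reach_ok

theorem mem_Hs_iff (g : G) : g ∈ Hs ↔ g • o = o := ⟨fun h => psi_fix g h, fun h => hstab g h⟩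

/-- the action is faithful. -/
theorem ker_psi (g : G) (hg : psi g = 1) : g = 1 := by
  have hbot : psi.ker = ⊥ := by
    apply Cfsg.Agent.Lib.Helper96_Fi24Final.core_trivial h23 psi psi_l_ne_one psi_a_ne_one
      psi_a_ne_l psi.ker (MonoidHom.normal_ker psi)
    · intro n hn
      apply hstab
      rw [MonoidHom.mem_ker.mp hn]; rfl
    · intro n hn; exact MonoidHom.mem_ker.mp hn
  have : g ∈ psi.ker := MonoidHom.mem_ker.mpr hg
  rw [hbot] at this
  exact Subgroup.mem_bot.mp this

theorem eq_one_of_smul (g : G) (h : ∀ ω : Ω, g • ω = ω) : g = 1 := by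
  apply ker_psi
  ext ω
  exact congrArg Fin.val (h ω)

/-- the action is transitive. -/
theorem transG (ω : Ω) : ∃ g : G, g • o = ω := by
  obtain ⟨hx, g, hg⟩ := exists_of_reach (reach_ok ω.1 ω.2)
  exact ⟨g, hg⟩

/-! ### words -/

theorem wordElt_nil : wordElt S [] = 1 := by simp [wordElt]

theorem wordElt_cons (s : ℕ) (w : List ℕ) : wordElt S (s :: w) = wordElt S w * (S s)⁻¹ := by
  simp [wordElt, mul_inv_rev]

theorem wordElt_append (u v : List ℕ) : wordElt S (u ++ v) = wordElt S v * wordElt S u := by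
  simp [wordElt, mul_inv_rev]

theorem wordElt_single (s : ℕ) : wordElt S [s] = S s := by
  simp [wordElt, S_inv]

theorem wordElt_reverse (w : List ℕ) : wordElt S w.reverse = (wordElt S w)⁻¹ := by
  induction w with
  | nil => simp [wordElt_nil]
  | cons s w ih =>
    rw [List.reverse_cons, wordElt_append, wordElt_single, ih, wordElt_cons, mul_inv_rev, inv_inv]

theorem wordElt_replicate (w : List ℕ) (m : ℕ) :
    wordElt S (List.replicate m w).flatten = (wordElt S w) ^ m := by
  induction m with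
  | zero => simp [wordElt_nil]
  | succ m ih =>
    rw [List.replicate_succ, List.flatten_cons, wordElt_append, ih, pow_succ]

theorem smul_wordElt (w : List ℕ) (hw : ∀ s ∈ w, s < 12) (ω : Ω) :
    ((wordElt S w • ω : Ω) : ℕ) = tr A w ω := by
  have := psi_wordElt S isAction psi psi_S w hw ω.2
  exact congrArg Fin.val this

theorem wordElt_eq_one (w : List ℕ) (hw : ∀ s ∈ w, s < 12)
    (h : ∀ x < 306936, tr A w x = x) : wordElt S w = 1 := by
  apply eq_one_of_smul
  intro ω
  apply Fin.ext
  rw [smul_wordElt w hw, h ω.1 ω.2]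

theorem wordElt_mem_Hs (w : List ℕ) (hw : ∀ s ∈ w, s ∈ ls) : wordElt S w ∈ Hs := by
  induction w with
  | nil => rw [wordElt_nil]; exact Hs.one_mem
  | cons s w ih =>
    rw [wordElt_cons]
    exact Hs.mul_mem (ih (fun t ht => hw t (by simp [ht]))) (Hs.inv_mem (hmem s (hw s (by simp))))

theorem lt_of_mem_ls {s : ℕ} (hs : s ∈ ls) : s < 12 := by
  simp only [ls, List.mem_cons, List.not_mem_nil, or_false] at hs
  omega

/-! ### parity -/

theorem index2 : (commutator G).index = 2 := Cfsg.Agent.S1691.result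

theorem mul_mem_iff (a b : G) : a * b ∈ commutator G ↔ (a ∈ commutator G ↔ b ∈ commutator G) :=
  Subgroup.mul_mem_iff_of_index_two index2

theorem S_not_mem (s : ℕ) : S s ∉ commutator G := by
  intro h
  have h1 : S s ∈ Cfsg.Agent.S1691.sgn.ker := Abelianization.commutator_subset_ker _ h
  rw [MonoidHom.mem_ker] at h1
  have h2 : Cfsg.Agent.S1691.sgn (S s) = Multiplicative.ofAdd 1 := Cfsg.Agent.S1691.sgn_of (gen s)
  rw [h2] at h1
  revert h1
  decide

theorem S_inv_not_mem (s : ℕ) : (S s)⁻¹ ∉ commutator G := by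
  rw [S_inv]; exact S_not_mem s

theorem wordElt_mem_iff (w : List ℕ) : wordElt S w ∈ commutator G ↔ Even w.length := by
  induction w with
  | nil => simp [wordElt_nil, Subgroup.one_mem]
  | cons s w ih =>
    rw [wordElt_cons, mul_mem_iff, ih, List.length_cons, Nat.even_add_one]
    simp [S_inv_not_mem s]

/-- an element outside the commutator subgroup becomes an element of it after multiplication by a
generator. -/
theorem mul_S_mem (s : ℕ) (g : G) (hg : g ∉ commutator G) : S s * g ∈ commutator G := by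
  rw [mul_mem_iff]
  simp [S_not_mem s, hg]

theorem mul_S_mem' (s : ℕ) (g : G) (hg : g ∉ commutator G) : g * S s ∈ commutator G := by
  rw [mul_mem_iff]
  simp [S_not_mem s, hg]

/-! ### the transposition `l` and its conjugates -/

theorem l_sq : S 0 * S 0 = 1 := by
  calc S 0 * S 0 = (S 0)⁻¹ * S 0 := by rw [S_inv]
    _ = 1 := inv_mul_cancel _

theorem l_fix : S 0 • o = o := psi_fix _ (hmem 0 (by decide))

/-- `l` is central in the point stabiliser. -/
theorem H2 : ∀ h : G, h • o = o → h * S 0 = S 0 * h := fun h hh =>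
  Cfsg.Agent.Lib.Helper96_Fi24Final.l_comm_of_mem h (hstab h hh)

/-- the centraliser of `l` is the point stabiliser. -/
theorem H3 : ∀ g : G, g * S 0 = S 0 * g → g • o = o := by
  intro g hg
  set C : Subgroup G := Subgroup.centralizer {S 0} with hC
  have hle : Hs ≤ C := by
    intro h hh
    rw [hC, Subgroup.mem_centralizer_iff]
    intro z hz
    rw [Set.mem_singleton_iff] at hz
    rw [hz]
    exact (H2 h (psi_fix h hh)).symm
  have hgC : g ∈ C := by
    rw [hC, Subgroup.mem_centralizer_iff]
    intro z hz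
    rw [Set.mem_singleton_iff] at hz
    rw [hz]
    exact hg.symm
  rcases hs_max C hle with h | h
  · rw [h] at hgC
    exact psi_fix g hgC
  · exfalso
    apply psi_l_ne_one
    have hcen : ∀ z : G, z * S 0 = S 0 * z := by
      intro z
      have hz : z ∈ C := by rw [h]; exact Subgroup.mem_top z
      rw [hC, Subgroup.mem_centralizer_iff] at hz
      exact (hz (S 0) rfl).symm
    have h1 : S 0 = 1 := by
      apply eq_one_of_smul
      intro ω
      obtain ⟨z, rfl⟩ := transG ω
      rw [← mul_smul, ← hcen z, mul_smul, l_fix]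
    rw [h1, map_one]

/-- coset representatives -/
noncomputable def rr (ω : Ω) : G := Classical.choose (transG ω)

theorem rr_spec (ω : Ω) : rr ω • o = ω := Classical.choose_spec (transG ω)

/-- the transposition attached to a point -/
noncomputable def TT (ω : Ω) : G := T (S 0) rr ω

theorem TT_eq (g : G) (ω : Ω) (h : g • o = ω) : TT ω = g * S 0 * g⁻¹ := T_eq rr_spec H2 g ω h

theorem TT_smul (g : G) (ω : Ω) : TT (g • ω) = g * TT ω * g⁻¹ := T_smul rr_spec H2 g ω

theorem TT_zero : TT o = S 0 := T_base rr_spec H2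

theorem TT_sq (ω : Ω) : TT ω * TT ω = 1 := T_sq l_sq ω

theorem TT_inj (ω ω' : Ω) (h : TT ω = TT ω') : ω = ω' := T_inj rr_spec H3 ω ω' h

theorem TT_comm (g : G) (ω : Ω) (h : g • ω = ω) : TT ω * g = g * TT ω :=
  comm_of_fixed rr_spec H2 g ω h

theorem TT_self (ω : Ω) : TT ω • ω = ω := by
  have h1 : TT ω = rr ω * S 0 * (rr ω)⁻¹ := rfl
  have h2 := rr_spec ω
  calc TT ω • ω = (rr ω * S 0 * (rr ω)⁻¹) • (rr ω • o) := by rw [h1, h2]
    _ = rr ω • (S 0 • o) := by rw [← mul_smul, ← mul_smul]; congr 1; group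
    _ = ω := by rw [l_fix, h2]

theorem TT_not_mem (ω : Ω) : TT ω ∉ commutator G := by
  intro h
  have h1 : TT ω = rr ω * S 0 * (rr ω)⁻¹ := rfl
  rw [h1] at h
  have hn : (commutator G).Normal := inferInstance
  have h2 := hn.conj_mem _ h (rr ω)⁻¹
  have h3 : (rr ω)⁻¹ * (rr ω * S 0 * (rr ω)⁻¹) * (rr ω)⁻¹⁻¹ = S 0 := by group
  rw [h3] at h2
  exact S_not_mem 0 h2

/-- the transposition of the end point of a path -/
theorem TT_word (v : List ℕ) (hv : ∀ s ∈ v, s < 12) (ω : Ω) (hω : tr A v 0 = ω) :
    TT ω = wordElt S (v.reverse ++ [0] ++ v) := by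
  have h1 : wordElt S v • o = ω := by
    apply Fin.ext
    rw [smul_wordElt v hv]
    exact hω
  rw [TT_eq _ _ h1, wordElt_append, wordElt_append, wordElt_single, wordElt_reverse, mul_assoc]

/-- every generator is a transposition -/
theorem S_conj (s : ℕ) (hs : s < 12) : ∃ g : G, S s = g * S 0 * g⁻¹ := by
  have step : ∀ i j : ℕ, coxLabel Fi24.edges (gen i) (gen j) = 3 →
      (∃ g : G, S i = g * S 0 * g⁻¹) → ∃ g : G, S j = g * S 0 * g⁻¹ := by
    rintro i j hm ⟨g, hg⟩
    refine ⟨(S i * S j) * g, ?_⟩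
    have e : (S i * S j) * S i * (S i * S j)⁻¹ = (S i * S j) * (g * S 0 * g⁻¹) * (S i * S j)⁻¹ := by
      rw [← hg]
    calc S j = (S i * S j) * S i * (S i * S j)⁻¹ := braid_conj i j (braid i j hm)
      _ = (S i * S j) * (g * S 0 * g⁻¹) * (S i * S j)⁻¹ := e
      _ = (S i * S j * g) * S 0 * (S i * S j * g)⁻¹ := by group
  have h0 : ∃ g : G, S 0 = g * S 0 * g⁻¹ := ⟨1, by group⟩
  have h1 := step 0 1 (by decide) h0
  have h2 := step 1 2 (by decide) h1
  have h3 := step 2 3 (by decide) h2
  have h4 := step 3 4 (by decide) h3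
  have h5 := step 4 5 (by decide) h4
  have h6 := step 5 6 (by decide) h5
  have h7 := step 6 7 (by decide) h6
  have h8 := step 7 8 (by decide) h7
  have h9 := step 8 9 (by decide) h8
  have h10 := step 5 10 (by decide) h5
  have h11 := step 10 11 (by decide) h10
  interval_cases s <;> assumption

theorem S_eq_TT (s : ℕ) (hs : s < 12) : ∃ ω : Ω, S s = TT ω := by
  obtain ⟨g, hg⟩ := S_conj s hs
  exact ⟨g • o, by rw [hg, TT_eq g (g • o) rfl]⟩

/-- a transposition commuting with `l` belongs to a point fixed by `l`. -/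
theorem l_fix_of_comm (ω : Ω) (h : TT ω * S 0 = S 0 * TT ω) : S 0 • ω = ω := by
  have h1 : TT o • ω = ω := (fix_iff rr_spec H2 H3 ω o).mpr (by
    show TT o * TT ω = TT ω * TT o
    rw [TT_zero]
    exact h.symm)
  rwa [TT_zero] at h1

/-- the generators of `Hs` commute with `l`. -/
theorem S_comm_l (s : ℕ) (hs : s ∈ ls) : S s * S 0 = S 0 * S s := H2 _ (psi_fix _ (hmem s hs))

end Cfsg.Agent.Lib.helper19_Fi24OutB
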