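import Cfsg.Agent.Lib.helper19_Fi24OutW

/-! Generated: the network of letter 4 of `nets2` acts as the word `t2w`, plane by plane; by helper19. -/

set_option autoImplicit false
set_option maxRecDepth 1000000
set_option Elab.async false

namespace Cfsg.Agent.Lib.helper19_Fi24OutC4
open Cfsg.Agent.Lib.helper19_TC2 Cfsg.Agent.Lib.helper19_TC2L Cfsg.Agent.Lib.helper19_Benes Cfsg.Agent.Lib.helper19_Fi24L
open Cfsg.Agent.Lib.Helper28_BenesOrb Cfsg.Agent.Lib.helper19_BenesFix
open Cfsg.Agent.Lib.helper19_Fi24OutW

theorem linkT20 : checkEqPlanes nets2 [4] nets t2w 19 1 0 = true := by decide +kernel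

theorem linkT21 : checkEqPlanes nets2 [4] nets t2w 19 1 1 = true := by decide +kernel

theorem linkT22 : checkEqPlanes nets2 [4] nets t2w 19 1 2 = true := by decide +kernel

theorem linkT23 : checkEqPlanes nets2 [4] nets t2w 19 1 3 = true := by decide +kernel

theorem linkT24 : checkEqPlanes nets2 [4] nets t2w 19 1 4 = true := by decide +kernel

theorem linkT25 : checkEqPlanes nets2 [4] nets t2w 19 1 5 = true := by decide +kernel

theorem linkT26 : checkEqPlanes nets2 [4] nets t2w 19 1 6 = true := by decide +kernel

theorem linkT27 : checkEqPlanes nets2 [4] nets t2w 19 1 7 = true := by decide +kernel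

theorem linkT28 : checkEqPlanes nets2 [4] nets t2w 19 1 8 = true := by decide +kernel

theorem linkT29 : checkEqPlanes nets2 [4] nets t2w 19 1 9 = true := by decide +kernel

theorem linkT210 : checkEqPlanes nets2 [4] nets t2w 19 1 10 = true := by decide +kernel

theorem linkT211 : checkEqPlanes nets2 [4] nets t2w 19 1 11 = true := by decide +kernel

theorem linkT212 : checkEqPlanes nets2 [4] nets t2w 19 1 12 = true := by decide +kernel

theorem linkT213 : checkEqPlanes nets2 [4] nets t2w 19 1 13 = true := by decide +kernel

theorem linkT214 : checkEqPlanes nets2 [4] nets t2w 19 1 14 = true := by decide +kernel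

theorem linkT215 : checkEqPlanes nets2 [4] nets t2w 19 1 15 = true := by decide +kernel

theorem linkT216 : checkEqPlanes nets2 [4] nets t2w 19 1 16 = true := by decide +kernel

theorem linkT217 : checkEqPlanes nets2 [4] nets t2w 19 1 17 = true := by decide +kernel

theorem linkT218 : checkEqPlanes nets2 [4] nets t2w 19 1 18 = true := by decide +kernel

end Cfsg.Agent.Lib.helper19_Fi24OutC4
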