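import Cfsg.Agent.Lib.helper19_Fi24OutW

/-! Generated: orders, the relation, fixed points, traces and the orbit sweep; by helper19. -/

set_option autoImplicit false
set_option maxRecDepth 1000000
set_option Elab.async false

namespace Cfsg.Agent.Lib.helper19_Fi24OutC5
open Cfsg.Agent.Lib.helper19_TC2 Cfsg.Agent.Lib.helper19_TC2L Cfsg.Agent.Lib.helper19_Benes Cfsg.Agent.Lib.helper19_Fi24L
open Cfsg.Agent.Lib.Helper28_BenesOrb Cfsg.Agent.Lib.helper19_BenesFix
open Cfsg.Agent.Lib.helper19_Fi24OutW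

theorem yPow0 : checkPlanes nets2 19 [1, 1, 1, 1, 1, 1, 1, 1, 1, 1, 1, 1, 1, 1, 1, 1, 1, 1, 1, 1, 1, 1, 1] 3 0 = true := by decide +kernel

theorem yPow3 : checkPlanes nets2 19 [1, 1, 1, 1, 1, 1, 1, 1, 1, 1, 1, 1, 1, 1, 1, 1, 1, 1, 1, 1, 1, 1, 1] 3 3 = true := by decide +kernel

theorem yPow6 : checkPlanes nets2 19 [1, 1, 1, 1, 1, 1, 1, 1, 1, 1, 1, 1, 1, 1, 1, 1, 1, 1, 1, 1, 1, 1, 1] 3 6 = true := by decide +kernel

theorem yPow9 : checkPlanes nets2 19 [1, 1, 1, 1, 1, 1, 1, 1, 1, 1, 1, 1, 1, 1, 1, 1, 1, 1, 1, 1, 1, 1, 1] 3 9 = true := by decide +kernel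

theorem yPow12 : checkPlanes nets2 19 [1, 1, 1, 1, 1, 1, 1, 1, 1, 1, 1, 1, 1, 1, 1, 1, 1, 1, 1, 1, 1, 1, 1] 3 12 = true := by decide +kernel

theorem yPow15 : checkPlanes nets2 19 [1, 1, 1, 1, 1, 1, 1, 1, 1, 1, 1, 1, 1, 1, 1, 1, 1, 1, 1, 1, 1, 1, 1] 3 15 = true := by decide +kernel

theorem yPow18 : checkPlanes nets2 19 [1, 1, 1, 1, 1, 1, 1, 1, 1, 1, 1, 1, 1, 1, 1, 1, 1, 1, 1, 1, 1, 1, 1] 1 18 = true := by decide +kernel

theorem xPow0 : checkPlanes nets2 19 [2, 2, 2, 2, 2, 2, 2, 2, 2, 2, 2] 6 0 = true := by decide +kernel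

theorem xPow6 : checkPlanes nets2 19 [2, 2, 2, 2, 2, 2, 2, 2, 2, 2, 2] 6 6 = true := by decide +kernel

theorem xPow12 : checkPlanes nets2 19 [2, 2, 2, 2, 2, 2, 2, 2, 2, 2, 2] 6 12 = true := by decide +kernel

theorem xPow18 : checkPlanes nets2 19 [2, 2, 2, 2, 2, 2, 2, 2, 2, 2, 2] 1 18 = true := by decide +kernel

theorem relP0 : checkEqPlanes nets2 [1, 2] nets2 [2, 1, 1, 1] 19 10 0 = true := by decide +kernel

theorem relP10 : checkEqPlanes nets2 [1, 2] nets2 [2, 1, 1, 1] 19 9 10 = true := by decide +kernel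

theorem yFix : checkFixIn nets2 19 306936 [[1]] (bitsOf [0]) = true := by decide +kernel

theorem xFix : checkFixIn nets2 19 306936 [[2]] (bitsOf [0, 72450, 74175]) = true := by decide +kernel

theorem sweepOK : checkCoverW nets2 [[1], [2], [3], [4]] 306936 8 72450 (Nat.lor 1 (movedW nets2 19 [0] 19 0)) = true := by decide +kernel

theorem trV1 : checkTr nets v1 0 72450 = true := by decide +kernel

theorem trV2 : checkTr nets v2 0 74175 = true := by decide +kernel

theorem trC1 : checkTr nets c1w 6 72450 = true := by decide +kernel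

theorem trX1 : checkTr nets2 [2] 72450 72450 = true := by decide +kernel

theorem trX2 : checkTr nets2 [2] 74175 74175 = true := by decide +kernel

theorem trL1 : checkTr nets [0] 72450 72450 = true := by decide +kernel

theorem trL2 : checkTr nets [0] 74175 74175 = true := by decide +kernel

theorem trL6 : checkTr nets [0] 6 6 = true := by decide +kernel

theorem trK1 : checkTr nets [4] 1 1 = true := by decide +kernel

theorem trT12 : checkTr nets2 [3] 74175 74175 = true := by decide +kernel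

theorem trT21 : checkTr nets2 [4] 72450 72450 = true := by decide +kernel

theorem trG1 : checkTr nets [0, 2] 72450 72450 = true := by decide +kernel

theorem trG2 : checkTr nets [0, 2] 74175 59953 = true := by decide +kernel

theorem w2Pt : checkFixPt nets [[3, 4], [3, 5], [3, 6], [3, 7], [3, 8], [3, 9], [3, 10], [3, 11]] 1 = true := by decide +kernel

theorem nar1 : checkNarrow nets 19 [[3, 4], [3, 5]] (Nat.sub (Nat.pow 2 306936) 1) (bitsOf cand2) = true := by decide +kernel

theorem nar2 : checkNarrow nets 19 [[3, 6], [3, 7]] (bitsOf cand2) (bitsOf cand4) = true := by decide +kernel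

theorem nar3 : checkNarrow nets 19 [[3, 8], [3, 9]] (bitsOf cand4) (bitsOf cand6) = true := by decide +kernel

theorem nar4 : checkNarrow nets 19 [[3, 10], [3, 11]] (bitsOf cand6) (bitsOf [0, 1, 2]) = true := by decide +kernel

end Cfsg.Agent.Lib.helper19_Fi24OutC5
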