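import Cfsg.Agent.Lib.helper19_Fi24OutB
import Cfsg.Agent.Lib.helper19_Fi24OutC1
import Cfsg.Agent.Lib.helper19_Fi24OutC2
import Cfsg.Agent.Lib.helper19_Fi24OutC3
import Cfsg.Agent.Lib.helper19_Fi24OutC4
import Cfsg.Agent.Lib.helper19_Fi24OutC5
import Cfsg.Agent.Lib.helper19_Fi23Out
import Cfsg.Agent.Lib.helper19_AutStab
import Cfsg.Agent.Lib.helper19_AutStab2

/-!
# `Out(Fi24')` has order 2 (helper19)

`N = Fi24'` acts on the 306936 points; the point stabiliser `H ≅ Fi23` is generated by an element `y`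
of order 23 with a single fixed point, an element `x` of order 11 normalising `⟨y⟩`, and two involutions
commuting with `x`.  Every automorphism therefore maps `H` to a conjugate; `Out(Fi23) = 1` (S2080) makes it
trivial on `H` after an inner correction; and an automorphism fixing `H` pointwise is the identity or the
conjugation by the transposition `l`.
-/

set_option autoImplicit false
set_option maxRecDepth 100000
set_option linter.unusedSimpArgs false
set_option linter.unusedVariables false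

namespace Cfsg.Agent.Lib.helper19_Fi24OutN

open Cfsg Cfsg.Spor
open Cfsg.Agent.Lib.helper19_TC2 Cfsg.Agent.Lib.helper19_TC2L Cfsg.Agent.Lib.helper19_TC2P
open Cfsg.Agent.Lib.helper19_Benes Cfsg.Agent.Lib.helper19_Fi24L Cfsg.Agent.Lib.helper19_Fi24A
open Cfsg.Agent.Lib.Helper28_BenesOrb Cfsg.Agent.Lib.Helper28_Fi24Orb
open Cfsg.Agent.Lib.Helper28_Fi24Max
open Cfsg.Agent.S1690
open Cfsg.Agent.Lib.helper19_BenesFix Cfsg.Agent.Lib.helper19_Fi24OutB
open Cfsg.Agent.Lib.helper19_Fi24OutW Cfsg.Agent.Lib.helper19_Fi24OutC1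
open Cfsg.Agent.Lib.helper19_Fi24OutC2 Cfsg.Agent.Lib.helper19_Fi24OutC3
open Cfsg.Agent.Lib.helper19_Fi24OutC4 Cfsg.Agent.Lib.helper19_Fi24OutC5
open Cfsg.Agent.Lib.helper19_AutStab Cfsg.Agent.Lib.helper19_AutStab2

/-- the networks are proper -/
theorem hokA : ∀ s, (nthN nets s).Ok := Cfsg.Agent.Lib.helper19_Fi24A.hok

theorem hok2 : ∀ s, (nthN nets2 s).Ok := okNets_sound nets2 nets2OK

theorem hlt2 : ∀ s < 5, ∀ x < 306936, act nets2 s x < 306936 := fun s hs x hx =>
  act_lt hok2 (checkRange_sound nets2 306936 5 0 range2OK s (by omega) (by omega)) hx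

/-! ### the checks on the planes, collected -/

theorem planesY : ∀ j < 19, applyW nets2 [1] (plane j 19) = applyW nets yw (plane j 19) := by
  intro j hj
  rcases Nat.lt_or_ge j 1 with h0 | h0
  · exact checkEqPlanes_sound nets2 [1] nets yw 19 1 0 linkY0 j (by omega) (by omega)
  rcases Nat.lt_or_ge j 2 with h1 | h1
  · exact checkEqPlanes_sound nets2 [1] nets yw 19 1 1 linkY1 j (by omega) (by omega)
  rcases Nat.lt_or_ge j 3 with h2 | h2
  · exact checkEqPlanes_sound nets2 [1] nets yw 19 1 2 linkY2 j (by omega) (by omega)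
  rcases Nat.lt_or_ge j 4 with h3 | h3
  · exact checkEqPlanes_sound nets2 [1] nets yw 19 1 3 linkY3 j (by omega) (by omega)
  rcases Nat.lt_or_ge j 5 with h4 | h4
  · exact checkEqPlanes_sound nets2 [1] nets yw 19 1 4 linkY4 j (by omega) (by omega)
  rcases Nat.lt_or_ge j 6 with h5 | h5
  · exact checkEqPlanes_sound nets2 [1] nets yw 19 1 5 linkY5 j (by omega) (by omega)
  rcases Nat.lt_or_ge j 7 with h6 | h6
  · exact checkEqPlanes_sound nets2 [1] nets yw 19 1 6 linkY6 j (by omega) (by omega)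
  rcases Nat.lt_or_ge j 8 with h7 | h7
  · exact checkEqPlanes_sound nets2 [1] nets yw 19 1 7 linkY7 j (by omega) (by omega)
  rcases Nat.lt_or_ge j 9 with h8 | h8
  · exact checkEqPlanes_sound nets2 [1] nets yw 19 1 8 linkY8 j (by omega) (by omega)
  rcases Nat.lt_or_ge j 10 with h9 | h9
  · exact checkEqPlanes_sound nets2 [1] nets yw 19 1 9 linkY9 j (by omega) (by omega)
  rcases Nat.lt_or_ge j 11 with h10 | h10
  · exact checkEqPlanes_sound nets2 [1] nets yw 19 1 10 linkY10 j (by omega) (by omega)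
  rcases Nat.lt_or_ge j 12 with h11 | h11
  · exact checkEqPlanes_sound nets2 [1] nets yw 19 1 11 linkY11 j (by omega) (by omega)
  rcases Nat.lt_or_ge j 13 with h12 | h12
  · exact checkEqPlanes_sound nets2 [1] nets yw 19 1 12 linkY12 j (by omega) (by omega)
  rcases Nat.lt_or_ge j 14 with h13 | h13
  · exact checkEqPlanes_sound nets2 [1] nets yw 19 1 13 linkY13 j (by omega) (by omega)
  rcases Nat.lt_or_ge j 15 with h14 | h14
  · exact checkEqPlanes_sound nets2 [1] nets yw 19 1 14 linkY14 j (by omega) (by omega)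
  rcases Nat.lt_or_ge j 16 with h15 | h15
  · exact checkEqPlanes_sound nets2 [1] nets yw 19 1 15 linkY15 j (by omega) (by omega)
  rcases Nat.lt_or_ge j 17 with h16 | h16
  · exact checkEqPlanes_sound nets2 [1] nets yw 19 1 16 linkY16 j (by omega) (by omega)
  rcases Nat.lt_or_ge j 18 with h17 | h17
  · exact checkEqPlanes_sound nets2 [1] nets yw 19 1 17 linkY17 j (by omega) (by omega)
  exact checkEqPlanes_sound nets2 [1] nets yw 19 1 18 linkY18 j (by omega) (by omega)

theorem planesX : ∀ j < 19, applyW nets2 [2] (plane j 19) = applyW nets xw (plane j 19) := by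
  intro j hj
  rcases Nat.lt_or_ge j 1 with h0 | h0
  · exact checkEqPlanes_sound nets2 [2] nets xw 19 1 0 linkX0 j (by omega) (by omega)
  rcases Nat.lt_or_ge j 2 with h1 | h1
  · exact checkEqPlanes_sound nets2 [2] nets xw 19 1 1 linkX1 j (by omega) (by omega)
  rcases Nat.lt_or_ge j 3 with h2 | h2
  · exact checkEqPlanes_sound nets2 [2] nets xw 19 1 2 linkX2 j (by omega) (by omega)
  rcases Nat.lt_or_ge j 4 with h3 | h3
  · exact checkEqPlanes_sound nets2 [2] nets xw 19 1 3 linkX3 j (by omega) (by omega)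
  rcases Nat.lt_or_ge j 5 with h4 | h4
  · exact checkEqPlanes_sound nets2 [2] nets xw 19 1 4 linkX4 j (by omega) (by omega)
  rcases Nat.lt_or_ge j 6 with h5 | h5
  · exact checkEqPlanes_sound nets2 [2] nets xw 19 1 5 linkX5 j (by omega) (by omega)
  rcases Nat.lt_or_ge j 7 with h6 | h6
  · exact checkEqPlanes_sound nets2 [2] nets xw 19 1 6 linkX6 j (by omega) (by omega)
  rcases Nat.lt_or_ge j 8 with h7 | h7
  · exact checkEqPlanes_sound nets2 [2] nets xw 19 1 7 linkX7 j (by omega) (by omega)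
  rcases Nat.lt_or_ge j 9 with h8 | h8
  · exact checkEqPlanes_sound nets2 [2] nets xw 19 1 8 linkX8 j (by omega) (by omega)
  rcases Nat.lt_or_ge j 10 with h9 | h9
  · exact checkEqPlanes_sound nets2 [2] nets xw 19 1 9 linkX9 j (by omega) (by omega)
  rcases Nat.lt_or_ge j 11 with h10 | h10
  · exact checkEqPlanes_sound nets2 [2] nets xw 19 1 10 linkX10 j (by omega) (by omega)
  rcases Nat.lt_or_ge j 12 with h11 | h11
  · exact checkEqPlanes_sound nets2 [2] nets xw 19 1 11 linkX11 j (by omega) (by omega)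
  rcases Nat.lt_or_ge j 13 with h12 | h12
  · exact checkEqPlanes_sound nets2 [2] nets xw 19 1 12 linkX12 j (by omega) (by omega)
  rcases Nat.lt_or_ge j 14 with h13 | h13
  · exact checkEqPlanes_sound nets2 [2] nets xw 19 1 13 linkX13 j (by omega) (by omega)
  rcases Nat.lt_or_ge j 15 with h14 | h14
  · exact checkEqPlanes_sound nets2 [2] nets xw 19 1 14 linkX14 j (by omega) (by omega)
  rcases Nat.lt_or_ge j 16 with h15 | h15
  · exact checkEqPlanes_sound nets2 [2] nets xw 19 1 15 linkX15 j (by omega) (by omega)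
  rcases Nat.lt_or_ge j 17 with h16 | h16
  · exact checkEqPlanes_sound nets2 [2] nets xw 19 1 16 linkX16 j (by omega) (by omega)
  rcases Nat.lt_or_ge j 18 with h17 | h17
  · exact checkEqPlanes_sound nets2 [2] nets xw 19 1 17 linkX17 j (by omega) (by omega)
  exact checkEqPlanes_sound nets2 [2] nets xw 19 1 18 linkX18 j (by omega) (by omega)

theorem planesT1 : ∀ j < 19, applyW nets2 [3] (plane j 19) = applyW nets t1w (plane j 19) := by
  intro j hj
  rcases Nat.lt_or_ge j 1 with h0 | h0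
  · exact checkEqPlanes_sound nets2 [3] nets t1w 19 1 0 linkT10 j (by omega) (by omega)
  rcases Nat.lt_or_ge j 2 with h1 | h1
  · exact checkEqPlanes_sound nets2 [3] nets t1w 19 1 1 linkT11 j (by omega) (by omega)
  rcases Nat.lt_or_ge j 3 with h2 | h2
  · exact checkEqPlanes_sound nets2 [3] nets t1w 19 1 2 linkT12 j (by omega) (by omega)
  rcases Nat.lt_or_ge j 4 with h3 | h3
  · exact checkEqPlanes_sound nets2 [3] nets t1w 19 1 3 linkT13 j (by omega) (by omega)
  rcases Nat.lt_or_ge j 5 with h4 | h4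
  · exact checkEqPlanes_sound nets2 [3] nets t1w 19 1 4 linkT14 j (by omega) (by omega)
  rcases Nat.lt_or_ge j 6 with h5 | h5
  · exact checkEqPlanes_sound nets2 [3] nets t1w 19 1 5 linkT15 j (by omega) (by omega)
  rcases Nat.lt_or_ge j 7 with h6 | h6
  · exact checkEqPlanes_sound nets2 [3] nets t1w 19 1 6 linkT16 j (by omega) (by omega)
  rcases Nat.lt_or_ge j 8 with h7 | h7
  · exact checkEqPlanes_sound nets2 [3] nets t1w 19 1 7 linkT17 j (by omega) (by omega)
  rcases Nat.lt_or_ge j 9 with h8 | h8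
  · exact checkEqPlanes_sound nets2 [3] nets t1w 19 1 8 linkT18 j (by omega) (by omega)
  rcases Nat.lt_or_ge j 10 with h9 | h9
  · exact checkEqPlanes_sound nets2 [3] nets t1w 19 1 9 linkT19 j (by omega) (by omega)
  rcases Nat.lt_or_ge j 11 with h10 | h10
  · exact checkEqPlanes_sound nets2 [3] nets t1w 19 1 10 linkT110 j (by omega) (by omega)
  rcases Nat.lt_or_ge j 12 with h11 | h11
  · exact checkEqPlanes_sound nets2 [3] nets t1w 19 1 11 linkT111 j (by omega) (by omega)
  rcases Nat.lt_or_ge j 13 with h12 | h12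
  · exact checkEqPlanes_sound nets2 [3] nets t1w 19 1 12 linkT112 j (by omega) (by omega)
  rcases Nat.lt_or_ge j 14 with h13 | h13
  · exact checkEqPlanes_sound nets2 [3] nets t1w 19 1 13 linkT113 j (by omega) (by omega)
  rcases Nat.lt_or_ge j 15 with h14 | h14
  · exact checkEqPlanes_sound nets2 [3] nets t1w 19 1 14 linkT114 j (by omega) (by omega)
  rcases Nat.lt_or_ge j 16 with h15 | h15
  · exact checkEqPlanes_sound nets2 [3] nets t1w 19 1 15 linkT115 j (by omega) (by omega)
  rcases Nat.lt_or_ge j 17 with h16 | h16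
  · exact checkEqPlanes_sound nets2 [3] nets t1w 19 1 16 linkT116 j (by omega) (by omega)
  rcases Nat.lt_or_ge j 18 with h17 | h17
  · exact checkEqPlanes_sound nets2 [3] nets t1w 19 1 17 linkT117 j (by omega) (by omega)
  exact checkEqPlanes_sound nets2 [3] nets t1w 19 1 18 linkT118 j (by omega) (by omega)

theorem planesT2 : ∀ j < 19, applyW nets2 [4] (plane j 19) = applyW nets t2w (plane j 19) := by
  intro j hj
  rcases Nat.lt_or_ge j 1 with h0 | h0
  · exact checkEqPlanes_sound nets2 [4] nets t2w 19 1 0 linkT20 j (by omega) (by omega)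
  rcases Nat.lt_or_ge j 2 with h1 | h1
  · exact checkEqPlanes_sound nets2 [4] nets t2w 19 1 1 linkT21 j (by omega) (by omega)
  rcases Nat.lt_or_ge j 3 with h2 | h2
  · exact checkEqPlanes_sound nets2 [4] nets t2w 19 1 2 linkT22 j (by omega) (by omega)
  rcases Nat.lt_or_ge j 4 with h3 | h3
  · exact checkEqPlanes_sound nets2 [4] nets t2w 19 1 3 linkT23 j (by omega) (by omega)
  rcases Nat.lt_or_ge j 5 with h4 | h4
  · exact checkEqPlanes_sound nets2 [4] nets t2w 19 1 4 linkT24 j (by omega) (by omega)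
  rcases Nat.lt_or_ge j 6 with h5 | h5
  · exact checkEqPlanes_sound nets2 [4] nets t2w 19 1 5 linkT25 j (by omega) (by omega)
  rcases Nat.lt_or_ge j 7 with h6 | h6
  · exact checkEqPlanes_sound nets2 [4] nets t2w 19 1 6 linkT26 j (by omega) (by omega)
  rcases Nat.lt_or_ge j 8 with h7 | h7
  · exact checkEqPlanes_sound nets2 [4] nets t2w 19 1 7 linkT27 j (by omega) (by omega)
  rcases Nat.lt_or_ge j 9 with h8 | h8
  · exact checkEqPlanes_sound nets2 [4] nets t2w 19 1 8 linkT28 j (by omega) (by omega)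
  rcases Nat.lt_or_ge j 10 with h9 | h9
  · exact checkEqPlanes_sound nets2 [4] nets t2w 19 1 9 linkT29 j (by omega) (by omega)
  rcases Nat.lt_or_ge j 11 with h10 | h10
  · exact checkEqPlanes_sound nets2 [4] nets t2w 19 1 10 linkT210 j (by omega) (by omega)
  rcases Nat.lt_or_ge j 12 with h11 | h11
  · exact checkEqPlanes_sound nets2 [4] nets t2w 19 1 11 linkT211 j (by omega) (by omega)
  rcases Nat.lt_or_ge j 13 with h12 | h12
  · exact checkEqPlanes_sound nets2 [4] nets t2w 19 1 12 linkT212 j (by omega) (by omega)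
  rcases Nat.lt_or_ge j 14 with h13 | h13
  · exact checkEqPlanes_sound nets2 [4] nets t2w 19 1 13 linkT213 j (by omega) (by omega)
  rcases Nat.lt_or_ge j 15 with h14 | h14
  · exact checkEqPlanes_sound nets2 [4] nets t2w 19 1 14 linkT214 j (by omega) (by omega)
  rcases Nat.lt_or_ge j 16 with h15 | h15
  · exact checkEqPlanes_sound nets2 [4] nets t2w 19 1 15 linkT215 j (by omega) (by omega)
  rcases Nat.lt_or_ge j 17 with h16 | h16
  · exact checkEqPlanes_sound nets2 [4] nets t2w 19 1 16 linkT216 j (by omega) (by omega)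
  rcases Nat.lt_or_ge j 18 with h17 | h17
  · exact checkEqPlanes_sound nets2 [4] nets t2w 19 1 17 linkT217 j (by omega) (by omega)
  exact checkEqPlanes_sound nets2 [4] nets t2w 19 1 18 linkT218 j (by omega) (by omega)

theorem planesY23 : ∀ j < 19, applyW nets2 [1, 1, 1, 1, 1, 1, 1, 1, 1, 1, 1, 1, 1, 1, 1, 1, 1, 1, 1, 1, 1, 1, 1] (plane j 19) = plane j 19 := by
  intro j hj
  rcases Nat.lt_or_ge j 3 with h0 | h0
  · exact checkPlanes_sound nets2 19 _ 3 0 yPow0 j (by omega) (by omega)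
  rcases Nat.lt_or_ge j 6 with h3 | h3
  · exact checkPlanes_sound nets2 19 _ 3 3 yPow3 j (by omega) (by omega)
  rcases Nat.lt_or_ge j 9 with h6 | h6
  · exact checkPlanes_sound nets2 19 _ 3 6 yPow6 j (by omega) (by omega)
  rcases Nat.lt_or_ge j 12 with h9 | h9
  · exact checkPlanes_sound nets2 19 _ 3 9 yPow9 j (by omega) (by omega)
  rcases Nat.lt_or_ge j 15 with h12 | h12
  · exact checkPlanes_sound nets2 19 _ 3 12 yPow12 j (by omega) (by omega)
  rcases Nat.lt_or_ge j 18 with h15 | h15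
  · exact checkPlanes_sound nets2 19 _ 3 15 yPow15 j (by omega) (by omega)
  exact checkPlanes_sound nets2 19 _ 1 18 yPow18 j (by omega) (by omega)

theorem planesX11 : ∀ j < 19, applyW nets2 [2, 2, 2, 2, 2, 2, 2, 2, 2, 2, 2] (plane j 19) = plane j 19 := by
  intro j hj
  rcases Nat.lt_or_ge j 6 with h0 | h0
  · exact checkPlanes_sound nets2 19 _ 6 0 xPow0 j (by omega) (by omega)
  rcases Nat.lt_or_ge j 12 with h6 | h6
  · exact checkPlanes_sound nets2 19 _ 6 6 xPow6 j (by omega) (by omega)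
  rcases Nat.lt_or_ge j 18 with h12 | h12
  · exact checkPlanes_sound nets2 19 _ 6 12 xPow12 j (by omega) (by omega)
  exact checkPlanes_sound nets2 19 _ 1 18 xPow18 j (by omega) (by omega)

theorem planesRel : ∀ j < 19, applyW nets2 [1, 2] (plane j 19) = applyW nets2 [2, 1, 1, 1] (plane j 19) := by
  intro j hj
  rcases Nat.lt_or_ge j 10 with h0 | h0
  · exact checkEqPlanes_sound nets2 [1, 2] nets2 [2, 1, 1, 1] 19 10 0 relP0 j (by omega) (by omega)
  exact checkEqPlanes_sound nets2 [1, 2] nets2 [2, 1, 1, 1] 19 9 10 relP10 j (by omega) (by omega)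

/-! ### the words -/

theorem yw_ls : ∀ s ∈ yw, s ∈ ls := by decide
theorem xw_ls : ∀ s ∈ xw, s ∈ ls := by decide
theorem c1w_ls : ∀ s ∈ c1w, s ∈ ls := by decide
theorem v1_lt : ∀ s ∈ v1, s < 12 := by decide
theorem v2_lt : ∀ s ∈ v2, s < 12 := by decide
theorem t1w_lt : ∀ s ∈ t1w, s < 12 := by decide
theorem t2w_lt : ∀ s ∈ t2w, s < 12 := by decide
theorem yw_lt : ∀ s ∈ yw, s < 12 := fun s hs => lt_of_mem_ls (yw_ls s hs)
theorem xw_lt : ∀ s ∈ xw, s < 12 := fun s hs => lt_of_mem_ls (xw_ls s hs)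
theorem c1w_lt : ∀ s ∈ c1w, s < 12 := fun s hs => lt_of_mem_ls (c1w_ls s hs)

/-- the element of order 23 -/
noncomputable def yG : G := wordElt S yw

/-- the element of order 11 -/
noncomputable def xG : G := wordElt S xw

/-- the further fixed points of `xG` -/
abbrev P1 : Ω := ⟨72450, by decide⟩
abbrev P2 : Ω := ⟨74175, by decide⟩

/-- a network of `nets2` acts as its word -/
theorem link_of (s : ℕ) (hs : s < 5) (w : List ℕ) (hw : ∀ t ∈ w, t < 12)
    (hpl : ∀ j < 19, applyW nets2 [s] (plane j 19) = applyW nets w (plane j 19)) :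
    ∀ x < 306936, act nets2 s x = tr A w x :=
  eq_of_planes hok2 hokA (N := 306936) (n := 19) (by norm_num) [s] w
    (fun x hx => hlt2 s hs x hx) (fun x hx => tr_lt isAction w hw x hx) hpl

/-- the elements of the compiled letters -/
noncomputable def E (s : ℕ) : G := [S 0, yG, xG, wordElt S t1w, wordElt S t2w].getD s 1

theorem smul_E (s : ℕ) (hs : s < 5) (ω : Ω) : ((E s • ω : Ω) : ℕ) = act nets2 s ω := by
  interval_cases s
  · show ((S 0 • ω : Ω) : ℕ) = act nets 0 ω
    rw [← wordElt_single, smul_wordElt [0] (by decide)]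
    rfl
  · show ((wordElt S yw • ω : Ω) : ℕ) = _
    rw [smul_wordElt yw yw_lt, link_of 1 (by decide) yw yw_lt planesY ω.1 ω.2]
  · show ((wordElt S xw • ω : Ω) : ℕ) = _
    rw [smul_wordElt xw xw_lt, link_of 2 (by decide) xw xw_lt planesX ω.1 ω.2]
  · show ((wordElt S t1w • ω : Ω) : ℕ) = _
    rw [smul_wordElt t1w t1w_lt, link_of 3 (by decide) t1w t1w_lt planesT1 ω.1 ω.2]
  · show ((wordElt S t2w • ω : Ω) : ℕ) = _
    rw [smul_wordElt t2w t2w_lt, link_of 4 (by decide) t2w t2w_lt planesT2 ω.1 ω.2]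

/-- the element of a word in the compiled letters -/
noncomputable def eltW : List ℕ → G
  | [] => 1
  | s :: w => eltW w * E s

theorem smul_eltW : ∀ (w : List ℕ), (∀ s ∈ w, s < 5) → ∀ ω : Ω,
    ((eltW w • ω : Ω) : ℕ) = tr (act nets2) w ω
  | [], _, ω => by simp [eltW, tr]
  | s :: w, hw, ω => by
    have hs : s < 5 := hw s (by simp)
    show (((eltW w * E s) • ω : Ω) : ℕ) = tr (act nets2) w (act nets2 s ω)
    rw [mul_smul, smul_eltW w (fun t ht => hw t (by simp [ht])), smul_E s hs]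

theorem eltW_replicate (s : ℕ) : ∀ m : ℕ, eltW (List.replicate m s) = (E s) ^ m
  | 0 => by simp [eltW]
  | m + 1 => by
    rw [List.replicate_succ, pow_succ, ← eltW_replicate s m]
    rfl

theorem eq_of_smul (g h : G) (hgh : ∀ ω : Ω, g • ω = h • ω) : g = h := by
  have : h⁻¹ * g = 1 := by
    apply eq_one_of_smul
    intro ω
    rw [mul_smul, hgh, inv_smul_smul]
  calc g = h * (h⁻¹ * g) := by group
    _ = h := by rw [this, mul_one]

/-- a word in the compiled letters fixing the coordinate planes is trivial -/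
theorem eltW_eq_one (word : List ℕ) (hw : ∀ s ∈ word, s < 5)
    (hpl : ∀ j < 19, applyW nets2 word (plane j 19) = plane j 19) : eltW word = 1 := by
  apply eq_one_of_smul
  intro ω
  apply Fin.ext
  rw [smul_eltW word hw]
  exact fix_of_planes hok2 (n := 19) (by norm_num) hlt2 word hw hpl ω.1 ω.2

theorem yG_pow : yG ^ 23 = 1 := by
  have h : eltW (List.replicate 23 1) = 1 := eltW_eq_one _ (by decide) planesY23
  rw [eltW_replicate] at h
  exact h

theorem xG_pow : xG ^ 11 = 1 := by
  have h : eltW (List.replicate 11 2) = 1 := eltW_eq_one _ (by decide) planesX11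
  rw [eltW_replicate] at h
  exact h

theorem xyx : xG * yG * xG⁻¹ = yG ^ 3 := by
  have h : eltW [1, 2] = eltW [2, 1, 1, 1] := by
    apply eq_of_smul
    intro ω
    apply Fin.ext
    rw [smul_eltW _ (by decide), smul_eltW _ (by decide)]
    exact eq_of_planes hok2 hok2 (N := 306936) (n := 19) (by norm_num) [1, 2] [2, 1, 1, 1]
      (fun x hx => tr_act_lt hlt2 _ (by decide) x hx) (fun x hx => tr_act_lt hlt2 _ (by decide) x hx)
      planesRel ω.1 ω.2
  have h' : xG * yG = yG * yG * yG * xG := by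
    have e1 : eltW [1, 2] = 1 * xG * yG := rfl
    have e2 : eltW [2, 1, 1, 1] = 1 * yG * yG * yG * xG := rfl
    rw [e1, e2] at h
    simpa using h
  calc xG * yG * xG⁻¹ = (yG * yG * yG * xG) * xG⁻¹ := by rw [h']
    _ = yG ^ 3 := by rw [mul_inv_cancel_right, pow_succ, pow_two]

theorem yG_mem_Hs : yG ∈ Hs := wordElt_mem_Hs yw yw_ls
theorem xG_mem_Hs : xG ∈ Hs := wordElt_mem_Hs xw xw_ls
theorem yG_mem : yG ∈ commutator G := (wordElt_mem_iff yw).mpr (by decide)
theorem xG_mem : xG ∈ commutator G := (wordElt_mem_iff xw).mpr (by decide)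
theorem yG_o : yG • o = o := psi_fix _ yG_mem_Hs
theorem xG_o : xG • o = o := psi_fix _ xG_mem_Hs

theorem yG_fix (ω : Ω) (h : yG • ω = ω) : ω = o := by
  have h1 : tr (act nets2) [1] ω = ω := by
    show act nets2 1 ω = ω
    rw [← smul_E 1 (by decide) ω]
    exact congrArg Fin.val h
  have h2 := fixIn_sound hok2 yFix ω.1 ω.2 (by
    intro w hw
    rw [List.mem_singleton] at hw
    rw [hw]; exact h1)
  rw [testBit_bitsOf] at h2
  simp only [List.mem_singleton] at h2
  exact Fin.ext h2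

theorem xG_fix (ω : Ω) (h : xG • ω = ω) : ω = o ∨ ω = P1 ∨ ω = P2 := by
  have h1 : tr (act nets2) [2] ω = ω := by
    show act nets2 2 ω = ω
    rw [← smul_E 2 (by decide) ω]
    exact congrArg Fin.val h
  have h2 := fixIn_sound hok2 xFix ω.1 ω.2 (by
    intro w hw
    rw [List.mem_singleton] at hw
    rw [hw]; exact h1)
  rw [testBit_bitsOf] at h2
  simp only [List.mem_cons, List.not_mem_nil, or_false] at h2
  rcases h2 with h3 | h3 | h3
  · left; exact Fin.ext h3
  · right; left; exact Fin.ext h3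
  · right; right; exact Fin.ext h3

/-- a trace as an equation in the action -/
theorem smul_of_tr (w : List ℕ) (hw : ∀ s ∈ w, s < 12) (a b : Ω) (h : checkTr nets w a b = true) :
    wordElt S w • a = b := by
  apply Fin.ext
  rw [smul_wordElt w hw]
  exact tr_of_check hokA h

/-- a trace of a compiled letter as an equation in the action -/
theorem smul_of_tr2 (s : ℕ) (hs : s < 5) (a b : Ω) (h : checkTr nets2 [s] a b = true) :
    E s • a = b := by
  apply Fin.ext
  rw [smul_E s hs]
  exact tr_of_check hok2 h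

theorem xG_P1 : xG • P1 = P1 := smul_of_tr2 2 (by decide) P1 P1 trX1
theorem xG_P2 : xG • P2 = P2 := smul_of_tr2 2 (by decide) P2 P2 trX2

theorem l_P1 : S 0 • P1 = P1 := by
  have := smul_of_tr [0] (by decide) P1 P1 trL1
  rwa [wordElt_single] at this

theorem l_P2 : S 0 • P2 = P2 := by
  have := smul_of_tr [0] (by decide) P2 P2 trL2
  rwa [wordElt_single] at this

/-! ### the two transpositions -/

/-- the transposition of the point `P1` -/
noncomputable def T1 : G := TT P1

/-- the transposition of the point `P2` -/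
noncomputable def T2 : G := TT P2

theorem T1_word : T1 = wordElt S t1w := by
  rw [t1w_eq]
  exact TT_word v1 v1_lt P1 (tr_of_check hokA trV1)

theorem T2_word : T2 = wordElt S t2w := by
  rw [t2w_eq]
  exact TT_word v2 v2_lt P2 (tr_of_check hokA trV2)

theorem E3 : E 3 = T1 := T1_word.symm
theorem E4 : E 4 = T2 := T2_word.symm

theorem T1_x : T1 * xG = xG * T1 := TT_comm xG P1 xG_P1
theorem T2_x : T2 * xG = xG * T2 := TT_comm xG P2 xG_P2
theorem T1_l : T1 * S 0 = S 0 * T1 := TT_comm (S 0) P1 l_P1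
theorem T2_l : T2 * S 0 = S 0 * T2 := TT_comm (S 0) P2 l_P2
theorem T1_o : T1 • o = o := H3 T1 T1_l
theorem T2_o : T2 • o = o := H3 T2 T2_l
theorem T1_P1 : T1 • P1 = P1 := TT_self P1
theorem T2_P2 : T2 • P2 = P2 := TT_self P2

theorem T1_P2 : T1 • P2 = P2 := by
  rw [← E3]; exact smul_of_tr2 3 (by decide) P2 P2 trT12

theorem T2_P1 : T2 • P1 = P1 := by
  rw [← E4]; exact smul_of_tr2 4 (by decide) P1 P1 trT21

theorem T2_T1 : T2 * T1 = T1 * T2 := TT_comm T1 P2 T1_P2

theorem l_x : S 0 * xG = xG * S 0 := (H2 xG xG_o).symm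
theorem l_y : S 0 * yG = yG * S 0 := (H2 yG yG_o).symm

/-- the involutions of `Fi24'` commuting with `xG` -/
noncomputable def t1G : G := S 0 * T1
noncomputable def t2G : G := S 0 * T2

theorem t1G_mem : t1G ∈ commutator G := mul_S_mem 0 T1 (TT_not_mem P1)
theorem t2G_mem : t2G ∈ commutator G := mul_S_mem 0 T2 (TT_not_mem P2)

theorem t1G_sq : t1G * t1G = 1 := by
  unfold t1G
  calc S 0 * T1 * (S 0 * T1) = S 0 * (T1 * S 0) * T1 := by group
    _ = S 0 * (S 0 * T1) * T1 := by rw [T1_l]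
    _ = (S 0 * S 0) * (T1 * T1) := by group
    _ = 1 := by rw [l_sq, T1, TT_sq, one_mul]

theorem t2G_sq : t2G * t2G = 1 := by
  unfold t2G
  calc S 0 * T2 * (S 0 * T2) = S 0 * (T2 * S 0) * T2 := by group
    _ = S 0 * (S 0 * T2) * T2 := by rw [T2_l]
    _ = (S 0 * S 0) * (T2 * T2) := by group
    _ = 1 := by rw [l_sq, T2, TT_sq, one_mul]

theorem t1G_x : t1G * xG = xG * t1G := by
  unfold t1G
  calc S 0 * T1 * xG = S 0 * (T1 * xG) := by group
    _ = S 0 * (xG * T1) := by rw [T1_x]
    _ = (S 0 * xG) * T1 := by group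
    _ = (xG * S 0) * T1 := by rw [l_x]
    _ = xG * (S 0 * T1) := by group

theorem t2G_x : t2G * xG = xG * t2G := by
  unfold t2G
  calc S 0 * T2 * xG = S 0 * (T2 * xG) := by group
    _ = S 0 * (xG * T2) := by rw [T2_x]
    _ = (S 0 * xG) * T2 := by group
    _ = (xG * S 0) * T2 := by rw [l_x]
    _ = xG * (S 0 * T2) := by group

theorem t1G_t2G : t1G * t2G = t2G * t1G := by
  unfold t1G t2G
  calc S 0 * T1 * (S 0 * T2) = S 0 * (T1 * S 0) * T2 := by group
    _ = S 0 * (S 0 * T1) * T2 := by rw [T1_l]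
    _ = S 0 * S 0 * (T1 * T2) := by group
    _ = S 0 * S 0 * (T2 * T1) := by rw [T2_T1]
    _ = S 0 * (S 0 * T2) * T1 := by group
    _ = S 0 * (T2 * S 0) * T1 := by rw [T2_l]
    _ = S 0 * T2 * (S 0 * T1) := by group

theorem P1_ne_o : P1 ≠ o := by decide
theorem P2_ne_o : P2 ≠ o := by decide
theorem P1_ne_P2 : P1 ≠ P2 := by decide

theorem t1G_ne_one : t1G ≠ 1 := by
  intro h
  apply P1_ne_o
  apply TT_inj
  rw [TT_zero]
  have h1 : T1 = (S 0)⁻¹ := eq_inv_of_mul_eq_one_right h
  rw [S_inv] at h1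
  exact h1

theorem t2G_ne_one : t2G ≠ 1 := by
  intro h
  apply P2_ne_o
  apply TT_inj
  rw [TT_zero]
  have h1 : T2 = (S 0)⁻¹ := eq_inv_of_mul_eq_one_right h
  rw [S_inv] at h1
  exact h1

theorem t1G_ne_t2G : t1G ≠ t2G := by
  intro h
  apply P1_ne_P2
  apply TT_inj
  exact mul_left_cancel h

theorem t1G_o : t1G • o = o := by unfold t1G; rw [mul_smul, T1_o, l_fix]
theorem t1G_P1 : t1G • P1 = P1 := by unfold t1G; rw [mul_smul, T1_P1, l_P1]
theorem t1G_P2 : t1G • P2 = P2 := by unfold t1G; rw [mul_smul, T1_P2, l_P2]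
theorem t2G_o : t2G • o = o := by unfold t2G; rw [mul_smul, T2_o, l_fix]
theorem t2G_P1 : t2G • P1 = P1 := by unfold t2G; rw [mul_smul, T2_P1, l_P1]
theorem t2G_P2 : t2G • P2 = P2 := by unfold t2G; rw [mul_smul, T2_P2, l_P2]

/-! ### generation of the point stabiliser -/

/-- the group generated in `G` -/
noncomputable def KK : Subgroup G := Subgroup.closure {yG, xG, S 0, T1, T2}

theorem yG_KK : yG ∈ KK := Subgroup.subset_closure (by simp)
theorem xG_KK : xG ∈ KK := Subgroup.subset_closure (by simp)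
theorem l_KK : S 0 ∈ KK := Subgroup.subset_closure (by simp)
theorem T1_KK : T1 ∈ KK := Subgroup.subset_closure (by simp)
theorem T2_KK : T2 ∈ KK := Subgroup.subset_closure (by simp)

/-- the generating words in the compiled letters -/
def gsW : List (List ℕ) := [[1], [2], [3], [4]]

theorem gsW_KK : ∀ w ∈ gsW, eltW w ∈ KK ∧ ∀ s ∈ w, s < 5 := by
  intro w hw
  simp only [gsW, List.mem_cons, List.not_mem_nil, or_false] at hw
  rcases hw with rfl | rfl | rfl | rfl
  · refine ⟨?_, by decide⟩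
    show 1 * yG ∈ KK
    rw [one_mul]; exact yG_KK
  · refine ⟨?_, by decide⟩
    show 1 * xG ∈ KK
    rw [one_mul]; exact xG_KK
  · refine ⟨?_, by decide⟩
    show 1 * E 3 ∈ KK
    rw [one_mul, E3]; exact T1_KK
  · refine ⟨?_, by decide⟩
    show 1 * E 4 ∈ KK
    rw [one_mul, E4]; exact T2_KK

theorem exists_of_connW {r x : ℕ} (hc : ConnW (act nets2) gsW r x) :
    ∀ hx : x < 306936, ∃ hr : r < 306936, ∃ k ∈ KK, k • (⟨x, hx⟩ : Ω) = ⟨r, hr⟩ := by
  induction hc with
  | base => intro hx; exact ⟨hx, 1, KK.one_mem, one_smul _ _⟩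
  | step w hw y _ ih =>
    intro hy
    obtain ⟨hwK, hwlt⟩ := gsW_KK w hw
    obtain ⟨hr, k, hk, he⟩ := ih (tr_act_lt hlt2 w hwlt y hy)
    refine ⟨hr, k * eltW w, KK.mul_mem hk hwK, ?_⟩
    rw [mul_smul]
    have : eltW w • (⟨y, hy⟩ : Ω) = ⟨tr (act nets2) w y, tr_act_lt hlt2 w hwlt y hy⟩ := by
      apply Fin.ext
      rw [smul_eltW w hwlt]
    rw [this, he]

/-- the points fixed by `l` other than the base point form one orbit of `KK`. -/
theorem conn_P1 (ω : Ω) (hω : ω ≠ o) (hl : S 0 • ω = ω) : ∃ k ∈ KK, k • ω = P1 := by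
  have h1 : tr (act nets2) [0] ω = ω := by
    show act nets2 0 ω = ω
    rw [← smul_E 0 (by decide) ω]
    exact congrArg Fin.val hl
  rcases coverW_sound' hok2 sweepOK ω.1 ω.2 h1 with h | h
  · obtain ⟨_, k, hk, he⟩ := exists_of_connW h ω.2
    exact ⟨k, hk, he⟩
  · exfalso
    apply hω
    exact Fin.ext (Nat.testBit_one_eq_true_iff_self_eq_zero.mp h)

theorem TT_mem_KK (ω : Ω) (hl : S 0 • ω = ω) : TT ω ∈ KK := by
  by_cases hω : ω = o
  · rw [hω, TT_zero]; exact l_KK
  · obtain ⟨k, hk, he⟩ := conn_P1 ω hω hl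
    have h1 : TT P1 = k * TT ω * k⁻¹ := by rw [← he]; exact TT_smul k ω
    have h2 : TT ω = k⁻¹ * T1 * k := by
      show TT ω = k⁻¹ * TT P1 * k
      rw [h1]; group
    rw [h2]
    exact KK.mul_mem (KK.mul_mem (KK.inv_mem hk) T1_KK) hk

theorem S_mem_KK (s : ℕ) (hs : s ∈ ls) : S s ∈ KK := by
  obtain ⟨ω, hω⟩ := S_eq_TT s (lt_of_mem_ls hs)
  rw [hω]
  apply TT_mem_KK
  apply l_fix_of_comm
  rw [← hω]
  exact S_comm_l s hs

theorem Hs_le_KK : Hs ≤ KK := by
  have h := Cfsg.Agent.Lib.Helper96_Fi24H.Hs_eq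
  intro g hg
  have hg' : g ∈ Subgroup.closure {g : G | ∃ x ∈ Cfsg.Agent.Lib.Helper96_Fi24H.lettersH,
      g = Cfsg.Agent.Lib.Helper96_Fi24H.gen x} := by
    rw [← h]; exact hg
  refine (Subgroup.closure_le KK).mpr ?_ hg'
  rintro z ⟨x, hx, rfl⟩
  simp only [Cfsg.Agent.Lib.Helper96_Fi24H.lettersH, List.mem_cons, List.not_mem_nil, or_false] at hx
  rcases hx with rfl | rfl | rfl | rfl | rfl | rfl | rfl | rfl | rfl | rfl | rfl
  · exact S_mem_KK 2 (by decide)
  · exact S_mem_KK 3 (by decide)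
  · exact S_mem_KK 4 (by decide)
  · exact S_mem_KK 5 (by decide)
  · exact S_mem_KK 6 (by decide)
  · exact S_mem_KK 7 (by decide)
  · exact S_mem_KK 8 (by decide)
  · exact S_mem_KK 10 (by decide)
  · exact S_mem_KK 11 (by decide)
  · exact S_mem_KK 9 (by decide)
  · exact S_mem_KK 0 (by decide)

/-- `l` commutes with `KK`. -/
theorem KK_comm_l (k : G) (hk : k ∈ KK) : k * S 0 = S 0 * k := by
  have hle : KK ≤ Subgroup.centralizer {S 0} := by
    unfold KK
    rw [Subgroup.closure_le]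
    intro z hz
    simp only [Set.mem_insert_iff, Set.mem_singleton_iff] at hz
    rw [SetLike.mem_coe, Subgroup.mem_centralizer_iff]
    intro c hc
    rw [Set.mem_singleton_iff] at hc
    rw [hc]
    rcases hz with rfl | rfl | rfl | rfl | rfl
    · exact l_y
    · exact l_x
    · rfl
    · exact T1_l.symm
    · exact T2_l.symm
  have := hle hk
  rw [Subgroup.mem_centralizer_iff] at this
  exact (this (S 0) rfl).symm

/-! ### the simple group -/

/-- the simple group -/
abbrev N : Type := ↥(commutator G)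

theorem smulN (n : N) (ω : Ω) : n • ω = (n : G) • ω := rfl

theorem cardN : Nat.card N = 1255205709190661721292800 := Cfsg.Agent.S1698.result.2

instance finN : Finite N := Nat.finite_of_card_ne_zero (by rw [cardN]; norm_num)

theorem transN (ω : Ω) : ∃ n : N, n • o = ω := by
  obtain ⟨g, hg⟩ := transG ω
  by_cases h : g ∈ commutator G
  · exact ⟨⟨g, h⟩, hg⟩
  · refine ⟨⟨g * S 0, mul_S_mem' 0 g h⟩, ?_⟩
    show (g * S 0) • o = ω
    rw [mul_smul, l_fix, hg]

theorem faithN (n : N) (h : ∀ ω : Ω, n • ω = ω) : n = 1 :=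
  Subtype.ext (eq_one_of_smul n.1 h)

/-- the elements in the simple group -/
noncomputable def yN : N := ⟨yG, yG_mem⟩
noncomputable def xN : N := ⟨xG, xG_mem⟩
noncomputable def t1N : N := ⟨t1G, t1G_mem⟩
noncomputable def t2N : N := ⟨t2G, t2G_mem⟩

theorem l_not_mem : S 0 ∉ commutator G := S_not_mem 0

theorem stab_le_closure :
    MulAction.stabilizer N o ≤ Subgroup.closure {yN, xN, t1N, t2N, t1N} := by
  set C : Subgroup N := Subgroup.closure {yN, xN, t1N, t2N, t1N} with hC
  set K0 : Subgroup G := C.map (commutator G).subtype with hK0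
  have hK0N : ∀ g ∈ K0, g ∈ commutator G := by
    rintro g ⟨c, _, rfl⟩
    exact c.2
  have mem0 : ∀ c : N, c ∈ C → (c : G) ∈ K0 := fun c hc => ⟨c, hc, rfl⟩
  have hy : yG ∈ K0 := mem0 yN (Subgroup.subset_closure (by simp))
  have hx : xG ∈ K0 := mem0 xN (Subgroup.subset_closure (by simp))
  have ht1 : t1G ∈ K0 := mem0 t1N (Subgroup.subset_closure (by simp))
  have ht2 : t2G ∈ K0 := mem0 t2N (Subgroup.subset_closure (by simp))
  have key : ∀ k ∈ KK, k ∈ K0 ∨ k * S 0 ∈ K0 := by
    intro k hk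
    unfold KK at hk
    induction hk using Subgroup.closure_induction with
    | mem z hz =>
      simp only [Set.mem_insert_iff, Set.mem_singleton_iff] at hz
      rcases hz with rfl | rfl | rfl | rfl | rfl
      · left; exact hy
      · left; exact hx
      · right; rw [l_sq]; exact K0.one_mem
      · right; rw [T1_l]; exact ht1
      · right; rw [T2_l]; exact ht2
    | one => left; exact K0.one_mem
    | mul a b ha hb iha ihb =>
      have hbl : b * S 0 = S 0 * b := KK_comm_l b hb
      rcases iha with iha | iha <;> rcases ihb with ihb | ihb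
      · left; exact K0.mul_mem iha ihb
      · right
        have : a * b * S 0 = a * (b * S 0) := by group
        rw [this]; exact K0.mul_mem iha ihb
      · right
        have : a * b * S 0 = (a * S 0) * b := by
          calc a * b * S 0 = a * (b * S 0) := by group
            _ = a * (S 0 * b) := by rw [hbl]
            _ = (a * S 0) * b := by group
        rw [this]; exact K0.mul_mem iha ihb
      · left
        have : a * b = (a * S 0) * (b * S 0) := by
          calc a * b = a * (S 0 * S 0) * b := by rw [l_sq, mul_one]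
            _ = (a * S 0) * (S 0 * b) := by group
            _ = (a * S 0) * (b * S 0) := by rw [hbl]
        rw [this]; exact K0.mul_mem iha ihb
    | inv a ha iha =>
      have hal : a * S 0 = S 0 * a := KK_comm_l a ha
      rcases iha with iha | iha
      · left; exact K0.inv_mem iha
      · right
        have : a⁻¹ * S 0 = (a * S 0)⁻¹ := by
          rw [hal, mul_inv_rev, S_inv]
        rw [this]; exact K0.inv_mem iha
  intro n hn
  have hn0 : (n : G) • o = o := MulAction.mem_stabilizer_iff.mp hn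
  have hnK : (n : G) ∈ KK := Hs_le_KK (hstab _ hn0)
  rcases key _ hnK with h | h
  · obtain ⟨c, hc, hcn⟩ := h
    have : c = n := Subtype.ext hcn
    rw [← this]; exact hc
  · exfalso
    have h1 := hK0N _ h
    rw [mul_mem_iff] at h1
    exact l_not_mem (h1.mp n.2)

/-! ### the point stabiliser is `Fi23` -/

/-- the point stabiliser in the simple group -/
noncomputable abbrev HN : Subgroup N := MulAction.stabilizer N o

theorem cardH : Nat.card HN = 4089470473293004800 := by
  have : MulAction.IsPretransitive N Ω := ⟨fun a b => by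
    obtain ⟨ga, ha⟩ := transN a
    obtain ⟨gb, hb⟩ := transN b
    exact ⟨gb * ga⁻¹, by rw [mul_smul, ← ha, inv_smul_smul, hb]⟩⟩
  have h1 : HN.index = Nat.card Ω := MulAction.index_stabilizer_of_transitive N o
  have h2 := Subgroup.card_mul_index HN
  have h3 : Nat.card Ω = 306936 := by rw [Nat.card_eq_fintype_card, Fintype.card_fin]
  rw [h1, cardN, h3] at h2
  have h4 : Nat.card HN * 306936 = 4089470473293004800 * 306936 := by rw [h2]
  exact Nat.eq_of_mul_eq_mul_right (by norm_num) h4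

/-- the presented group `Fi23` -/
abbrev F23 : Type := PresentedGroup Cfsg.Agent.Lib.Helper96_Fi24H.Rels23

/-- the subgroup `⟨a, …, j, l⟩` and its centre, as in `Helper96_Fi24H` -/
noncomputable abbrev Hs' : Subgroup G := Cfsg.Agent.Lib.Helper96_Fi24H.Hs
noncomputable abbrev Z' : Subgroup Hs' := Cfsg.Agent.Lib.Helper96_Fi24H.Z

theorem mem_HN (h : HN) : ((h : N) : G) ∈ Hs' := by
  have h1 : (h : N) • o = o := MulAction.mem_stabilizer_iff.mp h.2
  exact hstab _ h1

/-- the inclusion of the point stabiliser -/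
noncomputable def toHs : HN →* Hs' where
  toFun h := ⟨((h : N) : G), mem_HN h⟩
  map_one' := rfl
  map_mul' _ _ := rfl

/-- the map to `Hs / ⟨l⟩` -/
noncomputable def fHN : HN →* Hs' ⧸ Z' := (QuotientGroup.mk' Z').comp toHs

theorem fHN_inj : Function.Injective fHN := by
  rw [injective_iff_map_eq_one]
  intro h hh
  have h1 : toHs h ∈ Z' := (QuotientGroup.eq_one_iff _).mp hh
  rcases Cfsg.Agent.Lib.Helper96_Fi24H.mem_Z _ h1 with h2 | h2
  · have h3 : ((h : N) : G) = 1 := congrArg Subtype.val h2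
    exact Subtype.ext (Subtype.ext h3)
  · exfalso
    have h3 : ((h : N) : G) = S 0 := congrArg Subtype.val h2
    apply l_not_mem
    rw [← h3]
    exact (h : N).2

theorem fHN_surj : Function.Surjective fHN := by
  intro q
  obtain ⟨h0, rfl⟩ := QuotientGroup.mk_surjective q
  by_cases hm : (h0 : G) ∈ commutator G
  · have hst : (⟨(h0 : G), hm⟩ : N) ∈ HN := MulAction.mem_stabilizer_iff.mpr (psi_fix _ h0.2)
    exact ⟨⟨⟨(h0 : G), hm⟩, hst⟩, rfl⟩
  · have hm' : (h0 : G) * S 0 ∈ commutator G := mul_S_mem' 0 _ hm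
    have hst : (⟨(h0 : G) * S 0, hm'⟩ : N) ∈ HN := by
      apply MulAction.mem_stabilizer_iff.mpr
      show ((h0 : G) * S 0) • o = o
      rw [mul_smul, l_fix]
      exact psi_fix _ h0.2
    refine ⟨⟨⟨(h0 : G) * S 0, hm'⟩, hst⟩, ?_⟩
    have e1 : toHs ⟨⟨(h0 : G) * S 0, hm'⟩, hst⟩ = h0 * Cfsg.Agent.Lib.Helper96_Fi24H.lH :=
      Subtype.ext rfl
    show (QuotientGroup.mk (toHs ⟨⟨(h0 : G) * S 0, hm'⟩, hst⟩) : Hs' ⧸ Z') = QuotientGroup.mk h0
    have hl : Cfsg.Agent.Lib.Helper96_Fi24H.lH ∈ Z' := Subgroup.mem_zpowers _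
    have h1 : (QuotientGroup.mk Cfsg.Agent.Lib.Helper96_Fi24H.lH : Hs' ⧸ Z') = 1 :=
      (QuotientGroup.eq_one_iff _).mpr hl
    rw [e1, QuotientGroup.mk_mul, h1, mul_one]

theorem gen_a_ne_one : Cfsg.Agent.Lib.Helper96_Fi24H.gen .a ≠ 1 := by
  intro h
  apply psi_a_ne_one
  show psi (Cfsg.Agent.Lib.Helper96_Fi24H.gen .a) = 1
  rw [h, map_one]

theorem gen_a_ne_l : Cfsg.Agent.Lib.Helper96_Fi24H.gen .a ≠ Cfsg.Agent.Lib.Helper96_Fi24H.gen .l := by
  intro h
  apply psi_a_ne_l
  show psi (Cfsg.Agent.Lib.Helper96_Fi24H.gen .a) = psi (Cfsg.Agent.Lib.Helper96_Fi24H.gen .l)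
  rw [h]

/-- the point stabiliser is the presented group `Fi23`. -/
noncomputable def eF23 : F23 ≃* HN :=
  (MulEquiv.ofBijective Cfsg.Agent.Lib.Helper96_Fi24H.φ
    (Cfsg.Agent.Lib.Helper96_Fi24H.φ_bijective h23 gen_a_ne_one gen_a_ne_l)).trans
  (MulEquiv.ofBijective fHN ⟨fHN_inj, fHN_surj⟩).symm

theorem card23 : Nat.card F23 = 11 * 371770043026636800 := by
  have : Nat.card F23 = 4089470473293004800 := Cfsg.Agent.Lib.Helper28_Fi23Order.card_eq
  rw [this]

instance fin23 : Finite F23 := Nat.finite_of_card_ne_zero (by rw [card23]; norm_num)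

/-- every automorphism of the point stabiliser is inner. -/
theorem hinn : ∀ γ : MulAut HN, ∃ h0 : HN, ∀ h : HN, γ h = h0 * h * h0⁻¹ :=
  inner_of_equiv eF23 (inner_of_card_out (A := F23) Cfsg.Agent.Lib.helper19_Fi23Out.card_out)

/-- the centraliser of an element of order 11 of the point stabiliser has 44 elements. -/
theorem hH44 : ∀ b : HN, orderOf b = 11 → Nat.card (Subgroup.centralizer ({b} : Set HN)) = 44 := by
  have : Fact (Nat.Prime 11) := ⟨by norm_num⟩
  apply card_centralizer_of_equiv eF23 11 44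
  intro a ha
  exact card_centralizer_sylow (A := F23) 11 card23 (by norm_num)
    Cfsg.Agent.Lib.helper19_Fi23Out.Y Cfsg.Agent.Lib.helper19_Fi23Out.orderOf_Y
    Cfsg.Agent.Lib.helper19_Fi23Out.card_centralizer a ha

/-! ### automorphisms map the point stabiliser to a conjugate -/

/-- the points `1`, `2` and `6` -/
abbrev Q1 : Ω := ⟨1, by decide⟩
abbrev Q2 : Ω := ⟨2, by decide⟩
abbrev Q6 : Ω := ⟨6, by decide⟩

instance fact23 : Fact (Nat.Prime 23) := ⟨by norm_num⟩
instance fact11 : Fact (Nat.Prime 11) := ⟨by norm_num⟩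

theorem yN_order : orderOf yN = 23 := by
  have h1 : yN ^ 23 = 1 := by
    apply Subtype.ext
    rw [Subgroup.coe_pow, Subgroup.coe_one]
    exact yG_pow
  have h2 : yN ≠ 1 := by
    intro h
    have h3 : yG = 1 := congrArg Subtype.val h
    have h4 : yG • Q1 = Q1 := by rw [h3, one_smul]
    have h5 := yG_fix Q1 h4
    exact absurd h5 (by decide)
  exact orderOf_eq_prime h1 h2

theorem xN_order : orderOf xN = 11 := by
  have h1 : xN ^ 11 = 1 := by
    apply Subtype.ext
    rw [Subgroup.coe_pow, Subgroup.coe_one]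
    exact xG_pow
  have h2 : xN ≠ 1 := by
    intro h
    have h3 : xG = 1 := congrArg Subtype.val h
    have h4 : xG • Q1 = Q1 := by rw [h3, one_smul]
    rcases xG_fix Q1 h4 with h5 | h5 | h5
    · exact absurd h5 (by decide)
    · exact absurd h5 (by decide)
    · exact absurd h5 (by decide)
  exact orderOf_eq_prime h1 h2

theorem yN_fix (ω : Ω) : yN • ω = ω ↔ ω = o := by
  constructor
  · intro h; exact yG_fix ω h
  · rintro rfl; exact yG_o

theorem xyxN : xN * yN * xN⁻¹ ∈ Subgroup.zpowers yN := by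
  have h : xN * yN * xN⁻¹ = yN ^ 3 := by
    apply Subtype.ext
    rw [Subgroup.coe_pow]
    exact xyx
  rw [h]
  exact Subgroup.pow_mem _ (Subgroup.mem_zpowers yN) 3

theorem hcard44 (ω : Ω) (h : xN • ω = ω) :
    Nat.card {c : N // c • ω = ω ∧ c * xN = xN * c} ≤ 44 :=
  le_of_eq (card_stab_centralizer o transN 11 44 hH44 ω xN xN_order h)

theorem t1N_sq : t1N * t1N = 1 := Subtype.ext t1G_sq
theorem t2N_sq : t2N * t2N = 1 := Subtype.ext t2G_sq
theorem t1N_x : t1N * xN = xN * t1N := Subtype.ext t1G_x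
theorem t2N_x : t2N * xN = xN * t2N := Subtype.ext t2G_x

/-- every involution commuting with `xN` fixes the base point. -/
theorem hinv (u : N) (hu : u * u = 1) (hux : u * xN = xN * u) : u • o = o :=
  invol_fix xN t1N t2N o P1 P2 xN_order P1_ne_o.symm P2_ne_o.symm P1_ne_P2
    (fun ω h => xG_fix ω h) xG_o xG_P1 xG_P2 t1N_x t2N_x (Subtype.ext t1G_t2G)
    t1N_sq t2N_sq (fun h => t1G_ne_one (congrArg Subtype.val h))
    (fun h => t2G_ne_one (congrArg Subtype.val h))
    (fun h => t1G_ne_t2G (congrArg Subtype.val h))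
    t1G_o t1G_P1 t1G_P2 t2G_o t2G_P1 t2G_P2 hcard44 u hu hux

/-- every automorphism maps the point stabiliser to a conjugate. -/
theorem hconj : ∀ α : MulAut N, ∃ n : N, ∀ g : N, (MulAut.conj n * α) g ∈ HN ↔ g ∈ HN :=
  exists_conj_stab (N := N) (Ω := Ω) 23 11 (s := 54574161269159205273600)
    (s' := 371770043026636800) o (by rw [cardN]) (by norm_num) (by rw [cardH]) (by norm_num)
    yN xN t1N t2N t1N yN_order xN_order yN_fix xG_o xyxN hinv ⟨t1N_sq, t1N_x⟩ ⟨t2N_sq, t2N_x⟩
    ⟨t1N_sq, t1N_x⟩ stab_le_closure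

/-! ### automorphisms fixing the point stabiliser -/

/-- elements of the point stabiliser from words -/
theorem word_mem_HN (w : List ℕ) (hw : ∀ s ∈ w, s ∈ ls) (he : Even w.length) :
    (⟨wordElt S w, (wordElt_mem_iff w).mpr he⟩ : N) ∈ HN :=
  MulAction.mem_stabilizer_iff.mpr (psi_fix _ (wordElt_mem_Hs w hw))

theorem c_Q1 : S 4 • Q1 = Q1 := by
  have := smul_of_tr [4] (by decide) Q1 Q1 trK1
  rwa [wordElt_single] at this

theorem l_Q1 : S 0 • Q1 = Q2 := by
  apply Fin.ext
  rw [← wordElt_single, smul_wordElt [0] (by decide)]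
  exact A_l

/-- the orbits of the point stabiliser -/
theorem orbit_reps (ω : Ω) (hω : ω ≠ o) : ∃ h ∈ HN, h • ω = P1 ∨ h • ω = Q1 := by
  have key : ∀ (g : G), g ∈ Hs → ∀ (ρ : Ω) (s : ℕ), s ∈ ls → S s • ρ = ρ → g • ω = ρ →
      ∃ h ∈ HN, h • ω = ρ := by
    intro g hg ρ s hs hsρ hgω
    by_cases hm : g ∈ commutator G
    · exact ⟨⟨g, hm⟩, MulAction.mem_stabilizer_iff.mpr (psi_fix _ hg), hgω⟩
    · have hm' : S s * g ∈ commutator G := mul_S_mem s g hm
      refine ⟨⟨S s * g, hm'⟩, ?_, ?_⟩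
      · apply MulAction.mem_stabilizer_iff.mpr
        exact psi_fix _ (Hs.mul_mem (hmem s hs) hg)
      · show (S s * g) • ω = ρ
        rw [mul_smul, hgω, hsρ]
  rcases cover ω.1 ω.2 with h | h | h
  · exact absurd (Fin.ext h) hω
  · obtain ⟨_, g, hg, he⟩ := exists_of_conn Hs S isAction psi psi_S hmem h ω.2
    have he' : g • ω = Q6 := he
    have hc1 : wordElt S c1w • Q6 = P1 := smul_of_tr c1w c1w_lt Q6 P1 trC1
    obtain ⟨h', hh', e⟩ := key (wordElt S c1w * g) (Hs.mul_mem (wordElt_mem_Hs c1w c1w_ls) hg) P1 0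
      (by decide) l_P1 (by rw [mul_smul, he', hc1])
    exact ⟨h', hh', Or.inl e⟩
  · obtain ⟨_, g, hg, he⟩ := exists_of_conn Hs S isAction psi psi_S hmem h ω.2
    have he' : g • ω = Q1 := he
    obtain ⟨h', hh', e⟩ := key g hg Q1 4 (by decide) c_Q1 he'
    exact ⟨h', hh', Or.inr e⟩

/-- the words fixing the point `1` -/
def W2all : List (List ℕ) := [[3, 4], [3, 5], [3, 6], [3, 7], [3, 8], [3, 9], [3, 10], [3, 11]]

theorem W2all_ok : ∀ w ∈ W2all, (∀ s ∈ w, s ∈ ls) ∧ Even w.length := by decide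

/-- the points fixed by the stabiliser of the point `1` in the point stabiliser -/
theorem fix_W2 (x : ℕ) (hx : x < 306936) (hfix : ∀ w ∈ W2all, tr A w x = x) :
    x = 0 ∨ x = 1 ∨ x = 2 := by
  have h1 := narrow_full hokA nar1 x hx (fun w hw => hfix w (by
    simp only [List.mem_cons, List.not_mem_nil, or_false] at hw
    rcases hw with rfl | rfl <;> decide))
  have h2 := narrow_sound hokA nar2 x h1 (fun w hw => hfix w (by
    simp only [List.mem_cons, List.not_mem_nil, or_false] at hw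
    rcases hw with rfl | rfl <;> decide))
  have h3 := narrow_sound hokA nar3 x h2 (fun w hw => hfix w (by
    simp only [List.mem_cons, List.not_mem_nil, or_false] at hw
    rcases hw with rfl | rfl <;> decide))
  have h4 := narrow_sound hokA nar4 x h3 (fun w hw => hfix w (by
    simp only [List.mem_cons, List.not_mem_nil, or_false] at hw
    rcases hw with rfl | rfl <;> decide))
  rw [testBit_bitsOf] at h4
  simpa using h4

/-- a map commuting with the point stabiliser is the identity or the transposition `l`. -/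
theorem zeta_cases (ζ : Ω → Ω) (h0 : ζ o = o) (hinj : Function.Injective ζ)
    (hc : ∀ h ∈ HN, ∀ ω, ζ (h • ω) = h • ζ ω) :
    (∀ ω, ζ ω = ω) ∨ (∀ ω, ζ ω = S 0 • ω) := by
  -- the image of `P1`
  have hP1 : ζ P1 = P1 := by
    have hx : xG • ζ P1 = ζ P1 := by
      have h1 : ζ (xG • P1) = xG • ζ P1 := hc xN (MulAction.mem_stabilizer_iff.mpr xG_o) P1
      rw [xG_P1] at h1
      exact h1.symm
    rcases xG_fix _ hx with h | h | h
    · exact absurd (hinj (h.trans h0.symm)) P1_ne_o
    · exact h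
    · exfalso
      have h1 : ζ (wordElt S [0, 2] • P1) = wordElt S [0, 2] • ζ P1 :=
        hc _ (word_mem_HN [0, 2] (by decide) (by decide)) P1
      have e1 : wordElt S [0, 2] • P1 = P1 := smul_of_tr [0, 2] (by decide) P1 P1 trG1
      have e2 : wordElt S [0, 2] • P2 = (⟨59953, by decide⟩ : Ω) :=
        smul_of_tr [0, 2] (by decide) P2 _ trG2
      rw [e1, h, e2] at h1
      exact absurd h1 (by decide)
  -- the image of `Q1`
  have hQ1 : ζ Q1 = Q1 ∨ ζ Q1 = Q2 := by
    have hfix : ∀ w ∈ W2all, tr A w (ζ Q1) = ζ Q1 := by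
      intro w hw
      obtain ⟨hwls, hwe⟩ := W2all_ok w hw
      have hwlt : ∀ s ∈ w, s < 12 := fun s hs => lt_of_mem_ls (hwls s hs)
      have h1 : ζ (wordElt S w • Q1) = wordElt S w • ζ Q1 := hc _ (word_mem_HN w hwls hwe) Q1
      have e1 : wordElt S w • Q1 = Q1 := by
        apply Fin.ext
        rw [smul_wordElt w hwlt]
        exact fixPt_sound hokA _ w2Pt w hw
      rw [e1] at h1
      rw [← smul_wordElt w hwlt, ← h1]
    rcases fix_W2 (ζ Q1).1 (ζ Q1).2 hfix with h | h | h
    · exfalso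
      have : ζ Q1 = ζ o := by rw [h0]; exact Fin.ext h
      exact absurd (hinj this) (by decide)
    · left; exact Fin.ext h
    · right; exact Fin.ext h
  -- the points fixed by `l`
  have hcl1 : ∀ ω : Ω, ∀ h ∈ HN, h • ω = P1 → ζ ω = ω ∧ S 0 • ω = ω := by
    intro ω h hh e
    have hi : h⁻¹ ∈ HN := HN.inv_mem hh
    have e' : ω = h⁻¹ • P1 := by rw [← e, inv_smul_smul]
    constructor
    · rw [e', hc _ hi, hP1]
    · have hcomm : ((h⁻¹ : N) : G) * S 0 = S 0 * ((h⁻¹ : N) : G) :=
        H2 _ (MulAction.mem_stabilizer_iff.mp hi)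
      have : S 0 • (((h⁻¹ : N) : G) • P1) = ((h⁻¹ : N) : G) • P1 := by
        rw [← mul_smul, ← hcomm, mul_smul, l_P1]
      rw [e']
      exact this
  -- the other points
  have hcl2 : ∀ ω : Ω, ∀ h ∈ HN, h • ω = Q1 →
      (ζ Q1 = Q1 → ζ ω = ω) ∧ (ζ Q1 = Q2 → ζ ω = S 0 • ω) := by
    intro ω h hh e
    have hi : h⁻¹ ∈ HN := HN.inv_mem hh
    have e' : ω = h⁻¹ • Q1 := by rw [← e, inv_smul_smul]
    constructor
    · intro hq
      rw [e', hc _ hi, hq]
    · intro hq
      have hcomm : ((h⁻¹ : N) : G) * S 0 = S 0 * ((h⁻¹ : N) : G) :=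
        H2 _ (MulAction.mem_stabilizer_iff.mp hi)
      have : S 0 • (((h⁻¹ : N) : G) • Q1) = ((h⁻¹ : N) : G) • Q2 := by
        rw [← mul_smul, ← hcomm, mul_smul, l_Q1]
      rw [e', hc _ hi, hq]
      exact this.symm
  rcases hQ1 with hq | hq
  · left
    intro ω
    by_cases hω : ω = o
    · rw [hω, h0]
    · obtain ⟨h, hh, e | e⟩ := orbit_reps ω hω
      · exact (hcl1 ω h hh e).1
      · exact (hcl2 ω h hh e).1 hq
  · right
    intro ω
    by_cases hω : ω = o
    · rw [hω, h0, l_fix]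
    · obtain ⟨h, hh, e | e⟩ := orbit_reps ω hω
      · rw [(hcl1 ω h hh e).1, (hcl1 ω h hh e).2]
      · exact (hcl2 ω h hh e).2 hq

/-! ### the outer automorphism -/

/-- the conjugation by the transposition `l` -/
noncomputable def θ : MulAut N := MulAut.conjNormal (S 0)

theorem θ_coe (g : N) : ((θ g : N) : G) = S 0 * g * (S 0)⁻¹ := MulAut.conjNormal_apply (S 0) g

theorem hθ (g : N) (ω : Ω) : θ g • (S 0 • ω) = S 0 • (g • ω) := by
  show ((θ g : N) : G) • (S 0 • ω) = S 0 • ((g : G) • ω)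
  rw [θ_coe, ← mul_smul, ← mul_smul, inv_mul_cancel_right]

theorem center_triv (c : G) (hc : ∀ z : G, c * z = z * c) : c = 1 := by
  apply eq_one_of_smul
  have hco : c • o = o := H3 c (hc (S 0))
  intro ω
  obtain ⟨z, rfl⟩ := transG ω
  rw [← mul_smul, hc z, mul_smul, hco]

theorem θ_not_inner (g : N) : θ ≠ MulAut.conj g := by
  intro h
  obtain ⟨c, hcdef⟩ : ∃ c : G, c = ((g : G))⁻¹ * S 0 := ⟨_, rfl⟩
  have hcN : ∀ n : N, c * (n : G) = (n : G) * c := by
    intro n
    have h1 : ((θ n : N) : G) = ((MulAut.conj g n : N) : G) := by rw [h]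
    rw [θ_coe] at h1
    have h2 : ((MulAut.conj g n : N) : G) = (g : G) * n * (g : G)⁻¹ := rfl
    rw [h2] at h1
    calc c * n = (g : G)⁻¹ * (S 0 * n * (S 0)⁻¹) * S 0 := by rw [hcdef]; group
      _ = (g : G)⁻¹ * ((g : G) * n * (g : G)⁻¹) * S 0 := by rw [h1]
      _ = n * c := by rw [hcdef]; group
  have hc_not : c ∉ commutator G := by
    intro hm
    rw [hcdef, mul_mem_iff] at hm
    exact l_not_mem (hm.mp ((commutator G).inv_mem g.2))
  have hcen : ∀ z : G, c * z = z * c := by
    intro z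
    by_cases hz : z ∈ commutator G
    · exact hcN ⟨z, hz⟩
    · have hzc : z * c ∈ commutator G := by
        rw [mul_mem_iff]
        simp [hz, hc_not]
      have h2 : c * (z * c) = (z * c) * c := hcN ⟨z * c, hzc⟩
      calc c * z = (c * (z * c)) * c⁻¹ := by group
        _ = ((z * c) * c) * c⁻¹ := by rw [h2]
        _ = z * c := by group
  have hc1 := center_triv c hcen
  apply hc_not
  rw [hc1]
  exact Subgroup.one_mem _

/-- the outer automorphism group of `Fi24'` has order 2. -/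
theorem card_out_N : Nat.card (Out N) = 2 := by
  have hsurj : Function.Surjective (fun ω : Ω => S 0 • ω) := fun ω =>
    ⟨(S 0)⁻¹ • ω, smul_inv_smul _ _⟩
  have hcent : ∀ β : MulAut N, (∀ h ∈ HN, β h = h) → β = 1 ∨ β = θ :=
    aut_fixing_stab (N := N) (Ω := Ω) o transN faithN (fun ω => S 0 • ω) hsurj θ hθ zeta_cases
  exact card_out_eq_two HN θ hconj hinn hcent θ_not_inner

end Cfsg.Agent.Lib.helper19_Fi24OutN
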