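import Cfsg.Agent.Lib.helper19_Benes

/-! Concatenation of the pieces of a long bit vector; by helper19. -/

set_option autoImplicit false

namespace Cfsg.Agent.Lib.helper19_Fi24OutNet

/-- the bit vector with the low 16384 bits `lo` and the further bits `hi`. -/
def cat (lo hi : ℕ) : ℕ := Nat.lor lo (Nat.shiftLeft hi 16384)

end Cfsg.Agent.Lib.helper19_Fi24OutNet
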