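import Mathlib
import Cfsg.Prelude.Def_ChevG2
import Cfsg.Agent.Lib.helper19_G24M

/-! Generated: matrices over the field with four elements for the isomorphism between the subgroup
`⟨a, …, f⟩` of the presented Suzuki group and the Chevalley group `G₂(4)` in its adjoint representation:
the images of `a, …, f` as products of root elements, the relations, and the fundamental root elements as
words in `a, …, f`; by helper19. -/

set_option autoImplicit false
set_option maxRecDepth 1000000

namespace Cfsg.Agent.Lib.helper19_G24D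
open Cfsg Cfsg.Lie Cfsg.Agent.Lib.helper19_G24M

/-- the root element `x_0(1)` -/
def X0_1 : List ℕ := [67108865, 4, 67108884, 65600, 1048832, 4195328, 4096, 16793600, 65536, 262144, 1048576, 4194304, 16777216, 67108864]

theorem x0_1 : (show Matrix Idx Idx F4 from chevG2.xMat F4 (0 : Fin 12) 1) = mkM X0_1 := by
  decide +kernel

/-- the root element `x_0(w)` -/
def X0_2 : List ℕ := [134217729, 4, 201326616, 131136, 2097408, 8389632, 4096, 33570816, 65536, 262144, 1048576, 4194304, 16777216, 67108864]

theorem x0_2 : (show Matrix Idx Idx F4 from chevG2.xMat F4 (0 : Fin 12) w) = mkM X0_2 := by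
  decide +kernel

/-- the root element `x_1(w)` -/
def X1_2 : List ℕ := [33554433, 33554436, 32784, 50331722, 524544, 1024, 8392704, 16384, 134283264, 262144, 1048576, 4194304, 16777216, 67108864]

theorem x1_2 : (show Matrix Idx Idx F4 from chevG2.xMat F4 (1 : Fin 12) w) = mkM X1_2 := by
  decide +kernel

/-- the root element `x_3((w + 1))` -/
def X3_3 : List ℕ := [3145729, 3145732, 74512, 64, 131328, 2098191, 200704, 76300288, 65536, 134479872, 1048576, 205520896, 16777216, 67108864]

theorem x3_3 : (show Matrix Idx Idx F4 from chevG2.xMat F4 (3 : Fin 12) (w + 1)) = mkM X3_3 := by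
  decide +kernel

/-- the root element `x_4(1)` -/
def X4_1 : List ℕ := [262145, 4, 16, 17728, 16640, 17408, 266244, 16384, 22085632, 262144, 17825792, 20971520, 16777216, 67108864]

theorem x4_1 : (show Matrix Idx Idx F4 from chevG2.xMat F4 (4 : Fin 12) 1) = mkM X4_1 := by
  decide +kernel

/-- the root element `x_4(w)` -/
def X4_2 : List ℕ := [524289, 4, 16, 20032, 49408, 33792, 790536, 16384, 31522816, 262144, 51380224, 37748736, 16777216, 67108864]

theorem x4_2 : (show Matrix Idx Idx F4 from chevG2.xMat F4 (4 : Fin 12) w) = mkM X4_2 := by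
  decide +kernel

/-- the root element `x_4((w + 1))` -/
def X4_3 : List ℕ := [786433, 4, 16, 19264, 33024, 50176, 528396, 16384, 28377088, 262144, 34603008, 54525952, 16777216, 67108864]

theorem x4_3 : (show Matrix Idx Idx F4 from chevG2.xMat F4 (4 : Fin 12) (w + 1)) = mkM X4_3 := by
  decide +kernel

/-- the root element `x_5(1)` -/
def X5_1 : List ℕ := [1, 65540, 80, 64, 256, 5120, 4096, 81921, 65536, 1310720, 1048576, 4194304, 83886080, 67108864]

theorem x5_1 : (show Matrix Idx Idx F4 from chevG2.xMat F4 (5 : Fin 12) 1) = mkM X5_1 := by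
  decide +kernel

/-- the root element `x_5(w)` -/
def X5_2 : List ℕ := [1, 131076, 144, 64, 256, 9216, 4096, 212994, 65536, 2359296, 1048576, 4194304, 150994944, 67108864]

theorem x5_2 : (show Matrix Idx Idx F4 from chevG2.xMat F4 (5 : Fin 12) w) = mkM X5_2 := by
  decide +kernel

/-- the root element `x_5((w + 1))` -/
def X5_3 : List ℕ := [1, 196612, 208, 64, 256, 13312, 4096, 147459, 65536, 3407872, 1048576, 4194304, 218103808, 67108864]

theorem x5_3 : (show Matrix Idx Idx F4 from chevG2.xMat F4 (5 : Fin 12) (w + 1)) = mkM X5_3 := by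
  decide +kernel

/-- the root element `x_6(1)` -/
def X6_1 : List ℕ := [1, 16388, 16, 80, 256, 1024, 5120, 16384, 81921, 262144, 1310720, 4194304, 16777216, 83886080]

theorem x6_1 : (show Matrix Idx Idx F4 from chevG2.xMat F4 (6 : Fin 12) 1) = mkM X6_1 := by
  decide +kernel

/-- the root element `x_6(w)` -/
def X6_2 : List ℕ := [1, 32772, 16, 96, 256, 1024, 6144, 16384, 114690, 262144, 1572864, 4194304, 16777216, 100663296]

theorem x6_2 : (show Matrix Idx Idx F4 from chevG2.xMat F4 (6 : Fin 12) w) = mkM X6_2 := by
  decide +kernel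

/-- the root element `x_6((w + 1))` -/
def X6_3 : List ℕ := [1, 49156, 16, 112, 256, 1024, 7168, 16384, 98307, 262144, 1835008, 4194304, 16777216, 117440512]

theorem x6_3 : (show Matrix Idx Idx F4 from chevG2.xMat F4 (6 : Fin 12) (w + 1)) = mkM X6_3 := by
  decide +kernel

/-- the root element `x_7(1)` -/
def X7_1 : List ℕ := [4097, 4, 16, 64, 320, 1088, 4096, 17728, 65536, 266244, 1114112, 4259840, 22085632, 67108864]

theorem x7_1 : (show Matrix Idx Idx F4 from chevG2.xMat F4 (7 : Fin 12) 1) = mkM X7_1 := by
  decide +kernel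

/-- the root element `x_7(w)` -/
def X7_2 : List ℕ := [8193, 4, 16, 64, 384, 1216, 4096, 19264, 65536, 274440, 1179648, 4390912, 28377088, 67108864]

theorem x7_2 : (show Matrix Idx Idx F4 from chevG2.xMat F4 (7 : Fin 12) w) = mkM X7_2 := by
  decide +kernel

/-- the root element `x_7((w + 1))` -/
def X7_3 : List ℕ := [12289, 4, 16, 64, 448, 1152, 4096, 20032, 65536, 270348, 1245184, 4325376, 31522816, 67108864]

theorem x7_3 : (show Matrix Idx Idx F4 from chevG2.xMat F4 (7 : Fin 12) (w + 1)) = mkM X7_3 := by
  decide +kernel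

/-- the root element `x_8(w)` -/
def X8_2 : List ℕ := [2049, 2052, 16, 64, 288, 1024, 4144, 16384, 74512, 294912, 1051658, 4243456, 16777216, 76300288]

theorem x8_2 : (show Matrix Idx Idx F4 from chevG2.xMat F4 (8 : Fin 12) w) = mkM X8_2 := by
  decide +kernel

/-- the root element `x_9(1)` -/
def X9_1 : List ℕ := [1, 260, 16, 64, 256, 1040, 4160, 16384, 65536, 262160, 1048640, 4194561, 17040400, 68161600]

theorem x9_1 : (show Matrix Idx Idx F4 from chevG2.xMat F4 (9 : Fin 12) 1) = mkM X9_1 := by
  decide +kernel

/-- the root element `x_11(1)` -/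
def X11_1 : List ℕ := [17, 4, 16, 64, 256, 1024, 4096, 16384, 65600, 262144, 1048832, 4195328, 16793600, 67108884]

theorem x11_1 : (show Matrix Idx Idx F4 from chevG2.xMat F4 (11 : Fin 12) 1) = mkM X11_1 := by
  decide +kernel

/-- the image of the generator `a` -/
def GA : List ℕ := [65, 68, 16, 64, 256, 1024, 4096, 16400, 65536, 262400, 1048576, 4198400, 16777285, 67174400]

/-- the image of the generator `b` -/
def GB : List ℕ := [32773, 33587204, 100663296, 184664066, 1572864, 4194304, 8394752, 16777216, 50380906, 262144, 524544, 1024, 16384, 32784]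

/-- the image of the generator `c` -/
def GC : List ℕ := [17, 4, 16, 64, 256, 1024, 4096, 16384, 65600, 262144, 1048832, 4195328, 16793600, 67108884]

/-- the image of the generator `d` -/
def GD : List ℕ := [1118273, 1048836, 69968, 64, 65856, 1049877, 69696, 71582740, 65536, 67371028, 1114176, 72352001, 88343572, 68227136]

/-- the image of the generator `e` -/
def GE : List ℕ := [13313, 1972, 16, 64, 464, 1200, 4304, 20064, 70096, 289804, 1258501, 4341763, 32358402, 74858499]

/-- the image of the generator `f` -/
def GF : List ℕ := [193, 196, 16, 64, 256, 1024, 4096, 16432, 65536, 262912, 1048576, 4206592, 16777359, 67305472]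

/-- the images of the letters -/
def genRows (l : ℕ) : List ℕ := [GA, GB, GC, GD, GE, GF].getD l []

/-- the value of a word in the letters `0, …, 5` (for `a, …, f`) -/
def ev (word : List ℕ) : Matrix Idx Idx F4 := (word.map fun l => mkM (genRows l)).prod

theorem ev_append (u v : List ℕ) : ev (u ++ v) = ev u * ev v := by
  simp [ev, List.map_append, List.prod_append]

/-- the image of `a` is a product of root elements -/
theorem GA_eq : mkM X6_1 * mkM X5_1 * mkM X11_1 * mkM X5_1 * mkM X6_1 = mkM GA := by
  decide +kernel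

/-- the image of `b` is a product of root elements -/
theorem GB_eq : mkM X1_2 * mkM X0_1 * mkM X11_1 * mkM X0_1 * mkM X1_2 = mkM GB := by
  decide +kernel

/-- the image of `c` is a product of root elements -/
theorem GC_eq : mkM X11_1 = mkM GC := by
  decide +kernel

/-- the image of `d` is a product of root elements -/
theorem GD_eq : mkM X0_1 * mkM X9_1 * mkM X0_1 = mkM GD := by
  decide +kernel

/-- the image of `e` is a product of root elements -/
theorem GE_eq : mkM X3_3 * mkM X8_2 * mkM X3_3 * mkM X0_2 * mkM X9_1 * mkM X0_2 * mkM X3_3 * mkM X8_2 * mkM X3_3 = mkM GE := by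
  decide +kernel

/-- the image of `f` is a product of root elements -/
theorem GF_eq : mkM X6_2 * mkM X5_3 * mkM X11_1 * mkM X5_3 * mkM X6_2 = mkM GF := by
  decide +kernel

/-- the relation `sq0` -/
theorem rel_sq0 : ev [0, 0] = 1 := by
  decide +kernel

/-- the relation `sq1` -/
theorem rel_sq1 : ev [1, 1] = 1 := by
  decide +kernel

/-- the relation `sq2` -/
theorem rel_sq2 : ev [2, 2] = 1 := by
  decide +kernel

/-- the relation `sq3` -/
theorem rel_sq3 : ev [3, 3] = 1 := by
  decide +kernel

/-- the relation `sq4` -/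
theorem rel_sq4 : ev [4, 4] = 1 := by
  decide +kernel

/-- the relation `sq5` -/
theorem rel_sq5 : ev [5, 5] = 1 := by
  decide +kernel

/-- the relation `ab` -/
theorem rel_ab : ev [0, 1, 0, 1, 0, 1, 0, 1, 0, 1] = 1 := by
  decide +kernel

/-- the relation `bc` -/
theorem rel_bc : ev [1, 2, 1, 2, 1, 2] = 1 := by
  decide +kernel

/-- the relation `de` -/
theorem rel_de : ev [3, 4, 3, 4, 3, 4] = 1 := by
  decide +kernel

/-- the relation `bf` -/
theorem rel_bf : ev [1, 5, 1, 5, 1, 5] = 1 := by
  decide +kernel

/-- the relation `a = (cd)^4` -/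
theorem rel_cd4 : ev [2, 3, 2, 3, 2, 3, 2, 3] = mkM GA := by
  decide +kernel

theorem comm_0_2 : ev [0, 2] = ev [2, 0] := by
  decide +kernel

theorem comm_0_3 : ev [0, 3] = ev [3, 0] := by
  decide +kernel

theorem comm_0_4 : ev [0, 4] = ev [4, 0] := by
  decide +kernel

theorem comm_0_5 : ev [0, 5] = ev [5, 0] := by
  decide +kernel

theorem comm_1_3 : ev [1, 3] = ev [3, 1] := by
  decide +kernel

theorem comm_1_4 : ev [1, 4] = ev [4, 1] := by
  decide +kernel

theorem comm_2_4 : ev [2, 4] = ev [4, 2] := by
  decide +kernel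

theorem comm_2_5 : ev [2, 5] = ev [5, 2] := by
  decide +kernel

theorem comm_3_5 : ev [3, 5] = ev [5, 3] := by
  decide +kernel

theorem comm_4_5 : ev [4, 5] = ev [5, 4] := by
  decide +kernel

end Cfsg.Agent.Lib.helper19_G24D
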