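import Mathlib
import Cfsg.Prelude.Def_ChevG2
import Cfsg.Agent.Lib.helper19_G24D

/-! Generated: the two long relations of the sub-presentation on `a, …, f` of the presentation of the
Suzuki group, for the matrices over the field with four elements; by helper19. -/

set_option autoImplicit false
set_option maxRecDepth 1000000

namespace Cfsg.Agent.Lib.helper19_G24L
open Cfsg Cfsg.Lie Cfsg.Agent.Lib.helper19_G24M Cfsg.Agent.Lib.helper19_G24D

/-- part of the word of `rel_abcf` -/
def rel_abcf_q0 : List ℕ := [184680590, 134348805, 218235023, 100745334, 2884096, 8392704, 12597248, 67305472, 16826485, 3145728, 524800, 4198400, 201523200, 33554570]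

theorem rel_abcf_c0 : ev [0, 1, 2, 5, 0, 1, 2, 5, 0, 1] = mkM rel_abcf_q0 := by
  decide +kernel

/-- part of the word of `rel_abcf` -/
def rel_abcf_q1 : List ℕ := [218120237, 234897449, 218169546, 100679724, 2883840, 8400896, 12584960, 151191754, 16826368, 1835264, 524288, 8390656, 151011368, 50380800]

theorem rel_abcf_c1 : ev [2, 5, 0, 1, 2, 5, 0, 1, 2, 5] = mkM rel_abcf_q1 := by
  decide +kernel

theorem rel_abcf_comb : mkM rel_abcf_q0 * mkM rel_abcf_q1 = 1 := by
  decide +kernel

/-- the relation `abcf` -/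
theorem rel_abcf : ev ([0, 1, 2, 5, 0, 1, 2, 5, 0, 1] ++ [2, 5, 0, 1, 2, 5, 0, 1, 2, 5]) = 1 := by
  rw [ev_append, rel_abcf_c0, rel_abcf_c1]
  exact rel_abcf_comb

/-- part of the word of `rel_last` -/
def rel_last_q0 : List ℕ := [83352411, 217897054, 69904, 74738799, 214749200, 144422709, 204214728, 71651600, 232788170, 210678320, 51380357, 240784331, 228505200, 261238917]

theorem rel_last_c0 : ev [1, 2, 3, 2, 3, 1, 2, 3, 2, 3] = mkM rel_last_q0 := by
  decide +kernel

/-- part of the word of `rel_last` -/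
def rel_last_q2 : List ℕ := [210845138, 202388037, 65664, 69219192, 204611940, 137372124, 12781153, 68162168, 222930822, 140520125, 199131093, 101505032, 85235304, 197471166]

theorem rel_last_c2 : ev [1, 2, 3, 2, 3, 4, 1, 2, 3, 2] = mkM rel_last_q2 := by
  decide +kernel

/-- part of the word of `rel_last` -/
def rel_last_q3 : List ℕ := [175093147, 266155165, 93959035, 92945, 94671007, 267808629, 93998584, 28934147, 94766429, 190542714, 175862773, 240713985, 82472821, 17321978]

theorem rel_last_c3 : ev [3, 1, 2, 3, 2, 3, 1, 2, 3, 2] = mkM rel_last_q3 := by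
  decide +kernel

/-- part of the word of `rel_last` -/
def rel_last_q5 : List ℕ := [86448094, 8638948, 94696027, 92993, 93979756, 8625104, 94689979, 31565599, 94062493, 32341175, 85567597, 23213071, 31582575, 80369624]

theorem rel_last_c5 : ev [3, 4, 1, 2, 3, 2, 3, 1, 2, 3] = mkM rel_last_q5 := by
  decide +kernel

/-- part of the word of `rel_last` -/
def rel_last_q6 : List ℕ := [267831644, 266205681, 93977119, 92993, 94689979, 267821273, 93979756, 28953459, 94839960, 190559922, 266284726, 28255412, 89369218, 189533236]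

theorem rel_last_c6 : ev [2, 3, 1, 2, 3, 2, 3, 1, 2, 3] = mkM rel_last_q6 := by
  decide +kernel

/-- part of the word of `rel_last` -/
def rel_last_q7 : List ℕ := [236126411, 175591772, 100728970, 117506255, 142745600, 70582528, 138019328, 32371703, 146514659, 74660879, 1188869, 69599744, 98357595, 73753314]

theorem rel_last_c7 : ev [2, 3, 1, 2, 3, 2, 3, 4] = mkM rel_last_q7 := by
  decide +kernel

theorem rel_last_comb : mkM rel_last_q0 * mkM rel_last_q0 * mkM rel_last_q2 * mkM rel_last_q3 * mkM rel_last_q3 * mkM rel_last_q5 * mkM rel_last_q6 * mkM rel_last_q7 = 1 := by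
  decide +kernel

/-- the relation `last` -/
theorem rel_last : ev ([1, 2, 3, 2, 3, 1, 2, 3, 2, 3] ++ [1, 2, 3, 2, 3, 1, 2, 3, 2, 3] ++ [1, 2, 3, 2, 3, 4, 1, 2, 3, 2] ++ [3, 1, 2, 3, 2, 3, 1, 2, 3, 2] ++ [3, 1, 2, 3, 2, 3, 1, 2, 3, 2] ++ [3, 4, 1, 2, 3, 2, 3, 1, 2, 3] ++ [2, 3, 1, 2, 3, 2, 3, 1, 2, 3] ++ [2, 3, 1, 2, 3, 2, 3, 4]) = 1 := by
  rw [ev_append, ev_append, ev_append, ev_append, ev_append, ev_append, ev_append, rel_last_c0, rel_last_c2, rel_last_c3, rel_last_c5, rel_last_c6, rel_last_c7]
  exact rel_last_comb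

end Cfsg.Agent.Lib.helper19_G24L
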