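import Mathlib
import Cfsg.Prelude.Def_ChevG2
import Cfsg.Agent.Lib.helper19_G24D

/-! Generated: fundamental root elements of the Chevalley group `G₂(4)` as words in the images of
`a, …, f` (part 1); by helper19. -/

set_option autoImplicit false
set_option maxRecDepth 1000000

namespace Cfsg.Agent.Lib.helper19_G24R1
open Cfsg Cfsg.Lie Cfsg.Agent.Lib.helper19_G24M Cfsg.Agent.Lib.helper19_G24D

/-- part of the word of `root4_1` -/
def root4_1_q0 : List ℕ := [93965966, 74733282, 93902954, 93959035, 1530473, 4355075, 4350051, 74806487, 32362776, 1258965, 290412, 4351187, 74736967, 32350040]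

theorem root4_1_c0 : ev [5, 4, 3, 0, 1, 2, 0, 1, 3, 2] = mkM root4_1_q0 := by
  decide +kernel

/-- part of the word of `root4_1` -/
def root4_1_q1 : List ℕ := [151765983, 244479923, 67240044, 218218498, 37776495, 51413941, 36978799, 98818422, 259517550, 38567335, 38329307, 19137226, 192537364, 149328499]

theorem root4_1_c1 : ev [3, 4, 3, 2, 1, 0, 3, 2, 1, 0] = mkM root4_1_q1 := by
  decide +kernel

/-- part of the word of `root4_1` -/
def root4_1_q2 : List ℕ := [1180036, 1258145, 65664, 64, 69696, 1245888, 65856, 70459704, 70096, 74521451, 1189269, 69468692, 98471301, 73877238]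

theorem root4_1_c2 : ev [3, 4, 5] = mkM root4_1_q2 := by
  decide +kernel

theorem root4_1_comb : mkM root4_1_q0 * mkM root4_1_q1 * mkM root4_1_q2 = mkM X4_1 := by
  decide +kernel

/-- the root element `x_4(1)` as a word in `a, …, f` -/
theorem root4_1 : ev ([5, 4, 3, 0, 1, 2, 0, 1, 3, 2] ++ [3, 4, 3, 2, 1, 0, 3, 2, 1, 0] ++ [3, 4, 5]) = mkM X4_1 := by
  rw [ev_append, ev_append, root4_1_c0, root4_1_c1, root4_1_c2]
  exact root4_1_comb

/-- the root element `x_4(w)` as a word in `a, …, f` -/
theorem root4_2 : ev [5, 1, 2, 3, 2, 1, 5] = mkM X4_2 := by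
  decide +kernel

/-- part of the word of `root4_3` -/
def root4_3_q0 : List ℕ := [184611897, 74933650, 184795261, 100728970, 2999218, 4351187, 12710066, 144226953, 183497528, 2169450, 4126647, 4342963, 144411129, 259426191]

theorem root4_3_c0 : ev [5, 4, 3, 2, 0, 1, 0, 1, 3, 2] = mkM root4_3_q0 := by
  decide +kernel

/-- part of the word of `root4_3` -/
def root4_3_q1 : List ℕ := [202375169, 258293767, 117440512, 100663296, 213909504, 69468160, 204210176, 28934147, 183353346, 73611274, 215168005, 1180160, 69219192, 202449508]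

theorem root4_3_c1 : ev [3, 4, 3, 2, 1, 0, 1, 0, 3, 2] = mkM root4_3_q1 := by
  decide +kernel

/-- part of the word of `root4_3` -/
def root4_3_q2 : List ℕ := [1180036, 1258145, 65664, 64, 69696, 1245888, 65856, 70459704, 70096, 74521451, 1189269, 69468692, 98471301, 73877238]

theorem root4_3_c2 : ev [3, 4, 5] = mkM root4_3_q2 := by
  decide +kernel

theorem root4_3_comb : mkM root4_3_q0 * mkM root4_3_q1 * mkM root4_3_q2 = mkM X4_3 := by
  decide +kernel

/-- the root element `x_4((w + 1))` as a word in `a, …, f` -/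
theorem root4_3 : ev ([5, 4, 3, 2, 0, 1, 0, 1, 3, 2] ++ [3, 4, 3, 2, 1, 0, 1, 0, 3, 2] ++ [3, 4, 5]) = mkM X4_3 := by
  rw [ev_append, ev_append, root4_3_c0, root4_3_c1, root4_3_c2]
  exact root4_3_comb

/-- the root element `x_5(1)` as a word in `a, …, f` -/
theorem root5_1 : ev [0, 4, 3, 2, 3, 4, 5] = mkM X5_1 := by
  decide +kernel

end Cfsg.Agent.Lib.helper19_G24R1
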