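import Mathlib
import Cfsg.Prelude.Def_ChevG2
import Cfsg.Agent.Lib.helper19_G24D

/-! Generated: fundamental root elements of the Chevalley group `G₂(4)` as words in the images of
`a, …, f` (part 2); by helper19. -/

set_option autoImplicit false
set_option maxRecDepth 1000000

namespace Cfsg.Agent.Lib.helper19_G24R2
open Cfsg Cfsg.Lie Cfsg.Agent.Lib.helper19_G24M Cfsg.Agent.Lib.helper19_G24D

/-- part of the word of `root5_2` -/
def root5_2_q0 : List ℕ := [144424424, 184579133, 60508625, 184598568, 8620241, 570372, 1802705, 60542561, 184762617, 8621153, 8633553, 1259109, 144412285, 144227725]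

theorem root5_2_c0 : ev [1, 4, 3, 2, 5, 1, 0, 1, 2, 1] = mkM root5_2_q0 := by
  decide +kernel

/-- part of the word of `root5_2` -/
def root5_2_q1 : List ℕ := [236093880, 73823699, 235044969, 184664066, 142678120, 69665236, 135856232, 215805901, 60512363, 3219327, 143797693, 69468692, 215928237, 174573258]

theorem root5_2_c1 : ev [3, 4, 5, 1] = mkM root5_2_q1 := by
  decide +kernel

theorem root5_2_comb : mkM root5_2_q0 * mkM root5_2_q1 = mkM X5_2 := by
  decide +kernel

/-- the root element `x_5(w)` as a word in `a, …, f` -/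
theorem root5_2 : ev ([1, 4, 3, 2, 5, 1, 0, 1, 2, 1] ++ [3, 4, 5, 1]) = mkM X5_2 := by
  rw [ev_append, root5_2_c0, root5_2_c1]
  exact root5_2_comb

/-- part of the word of `root5_3` -/
def root5_3_q0 : List ℕ := [144421888, 209924, 144408577, 184549376, 8617985, 1258501, 1802241, 209840, 184778753, 12464, 8631297, 1259445, 209712, 144225461]

theorem root5_3_c0 : ev [0, 1, 4, 3, 2, 1, 5, 1, 0, 1] = mkM root5_3_q0 := by
  decide +kernel

/-- part of the word of `root5_3` -/
def root5_3_q1 : List ℕ := [1049041, 73823699, 235044969, 184664066, 142678120, 69665236, 135856232, 215805901, 144349289, 3219327, 1258965, 197568, 139872, 209776]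

theorem root5_3_c1 : ev [2, 3, 4, 5, 1] = mkM root5_3_q1 := by
  decide +kernel

theorem root5_3_comb : mkM root5_3_q0 * mkM root5_3_q1 = mkM X5_3 := by
  decide +kernel

/-- the root element `x_5((w + 1))` as a word in `a, …, f` -/
theorem root5_3 : ev ([0, 1, 4, 3, 2, 1, 5, 1, 0, 1] ++ [2, 3, 4, 5, 1]) = mkM X5_3 := by
  rw [ev_append, root5_3_c0, root5_3_c1]
  exact root5_3_comb

/-- part of the word of `root6_1` -/
def root6_1_q0 : List ℕ := [144424424, 60541397, 100696084, 32345698, 8620241, 3556275, 841736, 218202206, 41322963, 4352179, 12698802, 1259109, 74738507, 216909718]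

theorem root6_1_c0 : ev [1, 2, 1, 4, 3, 2, 1, 0, 1, 2] = mkM root6_1_q0 := by
  decide +kernel

/-- part of the word of `root6_1` -/
def root6_1_q1 : List ℕ := [84623802, 41842131, 84099179, 184664066, 58775658, 37519829, 51953770, 32059166, 144349289, 322476, 59272638, 37487301, 32072062, 125678104]

theorem root6_1_c1 : ev [3, 2, 1, 4] = mkM root6_1_q1 := by
  decide +kernel

theorem root6_1_comb : mkM root6_1_q0 * mkM root6_1_q1 = mkM X6_1 := by
  decide +kernel

/-- the root element `x_6(1)` as a word in `a, …, f` -/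
theorem root6_1 : ev ([1, 2, 1, 4, 3, 2, 1, 0, 1, 2] ++ [3, 2, 1, 4]) = mkM X6_1 := by
  rw [ev_append, root6_1_c0, root6_1_c1]
  exact root6_1_comb

/-- part of the word of `root6_2` -/
def root6_2_q0 : List ℕ := [259421186, 74792966, 100663296, 216907778, 8617985, 3555331, 2168842, 184664066, 74736227, 12708866, 12701906, 2731966, 93902954, 93959035]

theorem root6_2_c0 : ev [0, 1, 2, 4, 3, 2, 1, 0, 5, 1] = mkM root6_2_q0 := by
  decide +kernel

/-- part of the word of `root6_2` -/
def root6_2_q1 : List ℕ := [525201, 41838217, 84033662, 184795261, 58783893, 37519999, 51954325, 32054555, 60521204, 322140, 571316, 33584, 20080, 34688]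

theorem root6_2_c1 : ev [2, 3, 2, 1, 0, 4] = mkM root6_2_q1 := by
  decide +kernel

theorem root6_2_comb : mkM root6_2_q0 * mkM root6_2_q1 = mkM X6_2 := by
  decide +kernel

/-- the root element `x_6(w)` as a word in `a, …, f` -/
theorem root6_2 : ev ([0, 1, 2, 4, 3, 2, 1, 0, 5, 1] ++ [2, 3, 2, 1, 0, 4]) = mkM X6_2 := by
  rw [ev_append, root6_2_c0, root6_2_c1]
  exact root6_2_comb

end Cfsg.Agent.Lib.helper19_G24R2
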