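import Mathlib
import Cfsg.Prelude.Def_ChevG2
import Cfsg.Agent.Lib.helper19_G24D

/-! Generated: fundamental root elements of the Chevalley group `G₂(4)` as words in the images of
`a, …, f` (part 3); by helper19. -/

set_option autoImplicit false
set_option maxRecDepth 1000000

namespace Cfsg.Agent.Lib.helper19_G24R3
open Cfsg Cfsg.Lie Cfsg.Agent.Lib.helper19_G24M Cfsg.Agent.Lib.helper19_G24D

/-- part of the word of `root6_3` -/
def root6_3_q0 : List ℕ := [259437470, 259278648, 100696084, 183324234, 8620241, 3556275, 1530329, 184614986, 251539, 12705890, 15568, 2731486, 93884766, 92993]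

theorem root6_3_c0 : ev [0, 1, 2, 4, 3, 2, 1, 5, 1, 2] = mkM root6_3_q0 := by
  decide +kernel

/-- part of the word of `root6_3` -/
def root6_3_q1 : List ℕ := [84558831, 41838217, 84033662, 184795261, 58783893, 37519999, 51954325, 32054555, 144226953, 322140, 59264801, 37486927, 32068459, 125608311]

theorem root6_3_c1 : ev [3, 2, 1, 0, 4] = mkM root6_3_q1 := by
  decide +kernel

theorem root6_3_comb : mkM root6_3_q0 * mkM root6_3_q1 = mkM X6_3 := by
  decide +kernel

/-- the root element `x_6((w + 1))` as a word in `a, …, f` -/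
theorem root6_3 : ev ([0, 1, 2, 4, 3, 2, 1, 5, 1, 2] ++ [3, 2, 1, 0, 4]) = mkM X6_3 := by
  rw [ev_append, root6_3_c0, root6_3_c1]
  exact root6_3_comb

/-- part of the word of `root7_1` -/
def root7_1_q0 : List ℕ := [1245444, 69211033, 183266495, 60512363, 135856232, 73543358, 143797693, 202580824, 135344668, 3211840, 1245888, 209088, 131136, 196672]

theorem root7_1_c0 : ev [1, 2, 0, 1, 5, 1, 2, 3, 1, 0] = mkM root7_1_q0 := by
  decide +kernel

/-- part of the word of `root7_1` -/
def root7_1_q1 : List ℕ := [117588220, 117637259, 218202206, 151224486, 12588032, 1573120, 3670528, 184614986, 213138, 8392704, 7168, 2360064, 235012293, 180449]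

theorem root7_1_c1 : ev [1, 0, 2, 3, 4, 3, 2, 1, 0, 1] = mkM root7_1_q1 := by
  decide +kernel

/-- part of the word of `root7_1` -/
def root7_1_q2 : List ℕ := [214607313, 136642685, 183248299, 100909213, 120537346, 245868551, 130245634, 66314069, 16810143, 120767233, 118178050, 157643782, 200335293, 97248727]

theorem root7_1_c2 : ev [3, 2, 1, 5, 1, 0, 2, 1] = mkM root7_1_q2 := by
  decide +kernel

theorem root7_1_comb : mkM root7_1_q0 * mkM root7_1_q1 * mkM root7_1_q2 = mkM X7_1 := by
  decide +kernel

/-- the root element `x_7(1)` as a word in `a, …, f` -/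
theorem root7_1 : ev ([1, 2, 0, 1, 5, 1, 2, 3, 1, 0] ++ [1, 0, 2, 3, 4, 3, 2, 1, 0, 1] ++ [3, 2, 1, 5, 1, 0, 2, 1]) = mkM X7_1 := by
  rw [ev_append, ev_append, root7_1_c0, root7_1_c1, root7_1_c2]
  exact root7_1_comb

/-- part of the word of `root7_2` -/
def root7_2_q0 : List ℕ := [1245572, 204480901, 131264, 131072, 209088, 3277184, 3342528, 203625380, 204615872, 74660843, 72491393, 135922600, 41342665, 244853735]

theorem root7_2_c0 : ev [1, 0, 1, 2, 3, 4, 1, 0, 5, 1] = mkM root7_2_q0 := by
  decide +kernel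

/-- part of the word of `root7_2` -/
def root7_2_q1 : List ℕ := [51905166, 226615475, 83951685, 184680655, 193077455, 239010698, 186254031, 79455057, 184647854, 56293945, 8623201, 60007407, 32353469, 60495419]

theorem root7_2_c1 : ev [0, 2, 3, 2, 1, 0, 4, 3, 2, 5] = mkM root7_2_q1 := by
  decide +kernel

/-- part of the word of `root7_2` -/
def root7_2_q2 : List ℕ := [218103809, 117669895, 184795261, 218284279, 3408128, 12590080, 4209664, 234979331, 251822082, 1835008, 3932160, 4194304, 117440512, 251658240]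

theorem root7_2_c2 : ev [1, 0, 2, 1] = mkM root7_2_q2 := by
  decide +kernel

theorem root7_2_comb : mkM root7_2_q0 * mkM root7_2_q1 * mkM root7_2_q2 = mkM X7_2 := by
  decide +kernel

/-- the root element `x_7(w)` as a word in `a, …, f` -/
theorem root7_2 : ev ([1, 0, 1, 2, 3, 4, 1, 0, 5, 1] ++ [0, 2, 3, 2, 1, 0, 4, 3, 2, 5] ++ [1, 0, 2, 1]) = mkM X7_2 := by
  rw [ev_append, ev_append, root7_2_c0, root7_2_c1, root7_2_c2]
  exact root7_2_comb

/-- part of the word of `root7_3` -/
def root7_3_q0 : List ℕ := [50331649, 134414341, 100663296, 201326592, 8388608, 3407872, 2097152, 218218498, 67239936, 4205568, 12587008, 525056, 33570927, 16777418]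

theorem root7_3_c0 : ev [4, 1, 2, 3, 2, 1, 0, 4, 5, 1] = mkM root7_3_q0 := by
  decide +kernel

/-- part of the word of `root7_3` -/
def root7_3_q1 : List ℕ := [222364747, 249209105, 176896935, 158602910, 154478431, 64294481, 156370058, 207281658, 158823228, 226600030, 4354227, 221528892, 100745334, 218235023]

theorem root7_3_c1 : ev [2, 3, 2, 1, 0, 4, 5, 1, 2, 3] = mkM root7_3_q1 := by
  decide +kernel

/-- part of the word of `root7_3` -/
def root7_3_q2 : List ℕ := [100709381, 41336839, 100663296, 184664066, 1802241, 4341763, 8624129, 32358402, 144349289, 289804, 1258965, 4342963, 32345698, 74860455]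

theorem root7_3_c2 : ev [2, 1, 4] = mkM root7_3_q2 := by
  decide +kernel

theorem root7_3_comb : mkM root7_3_q0 * mkM root7_3_q1 * mkM root7_3_q2 = mkM X7_3 := by
  decide +kernel

/-- the root element `x_7((w + 1))` as a word in `a, …, f` -/
theorem root7_3 : ev ([4, 1, 2, 3, 2, 1, 0, 4, 5, 1] ++ [2, 3, 2, 1, 0, 4, 5, 1, 2, 3] ++ [2, 1, 4]) = mkM X7_3 := by
  rw [ev_append, ev_append, root7_3_c0, root7_3_c1, root7_3_c2]
  exact root7_3_comb

end Cfsg.Agent.Lib.helper19_G24R3
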