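import Mathlib
import Cfsg.Agent.Lib.helper19_G24H
import Cfsg.Agent.Lib.helper19_G24L
import Cfsg.Agent.Lib.helper19_G24R1
import Cfsg.Agent.Lib.helper19_G24R2
import Cfsg.Agent.Lib.helper19_G24R3
import Cfsg.Agent.Lib.Helper96_SuzOrderUpper
import Cfsg.Agent.Lib.Helper36_ChevDataG2
import Cfsg.Agent.S1059
import Cfsg.Agent.S1694
import Cfsg.Agent.S1680

/-! The subgroup `⟨a, …, f⟩` of the presented Suzuki group is isomorphic to the Chevalley group `G₂(4)`:
the group `K1` of the sub-presentation on `a, …, f` has order at most `|G₂(4)|` (helper96), it maps onto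
`⟨a, …, f⟩`, which has order `|Suz| / 1782 = |G₂(4)|`, and onto the Chevalley group by explicit matrices over
the field with four elements; by helper19. -/

set_option autoImplicit false

namespace Cfsg.Agent.Lib.helper19_G24

open Cfsg Cfsg.Lie Cfsg.Spor
open Cfsg.Agent.Lib.helper19_G24M Cfsg.Agent.Lib.helper19_G24D
open Cfsg.Agent.Lib.helper19_G24H Cfsg.Agent.Lib.helper19_G24L
open Cfsg.Agent.Lib.helper19_G24R1 Cfsg.Agent.Lib.helper19_G24R2 Cfsg.Agent.Lib.helper19_G24R3
open Cfsg.Agent.Lib.Helper96_SuzSub Cfsg.Agent.Lib.Helper96_SubPres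
open Cfsg.Agent.Lib.Helper36_ChevGen Cfsg.Agent.Lib.Helper36_ChevAdd

/-! ### the matrices -/

/-- the matrix of a generator -/
def gm (x : K1.Gen) : Matrix chevG2.Idx chevG2.Idx F4 := mkM (genRows (li x))

theorem gm_sq (x : K1.Gen) : gm x * gm x = 1 := by
  have h0 : (mkM (genRows 0) : Matrix Idx Idx F4) * mkM (genRows 0) = 1 := by
    simpa [ev] using rel_sq0
  have h1 : (mkM (genRows 1) : Matrix Idx Idx F4) * mkM (genRows 1) = 1 := by
    simpa [ev] using rel_sq1
  have h2 : (mkM (genRows 2) : Matrix Idx Idx F4) * mkM (genRows 2) = 1 := by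
    simpa [ev] using rel_sq2
  have h3 : (mkM (genRows 3) : Matrix Idx Idx F4) * mkM (genRows 3) = 1 := by
    simpa [ev] using rel_sq3
  have h4 : (mkM (genRows 4) : Matrix Idx Idx F4) * mkM (genRows 4) = 1 := by
    simpa [ev] using rel_sq4
  have h5 : (mkM (genRows 5) : Matrix Idx Idx F4) * mkM (genRows 5) = 1 := by
    simpa [ev] using rel_sq5
  cases x
  · exact h0
  · exact h1
  · exact h2
  · exact h3
  · exact h4
  · exact h5

/-- the invertible matrix of a generator -/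
def gl (x : K1.Gen) : GL chevG2.Idx F4 := ⟨gm x, gm x, gm_sq x, gm_sq x⟩

theorem coe_prod (wd : List K1.Gen) :
    (((wd.map gl).prod : GL chevG2.Idx F4) : Matrix chevG2.Idx chevG2.Idx F4) = ev (wd.map li) := by
  induction wd with
  | nil => rfl
  | cons x wd ih =>
    rw [List.map_cons, List.prod_cons, Units.val_mul, ih]
    rfl

theorem prod_eq_one (wd : List K1.Gen) (h : ev (wd.map li) = 1) : (wd.map gl).prod = 1 := by
  apply Units.ext
  rw [coe_prod]
  exact h

theorem prod_eq_prod (u v : List K1.Gen) (h : ev (u.map li) = ev (v.map li)) :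
    (u.map gl).prod = (v.map gl).prod := by
  apply Units.ext
  rw [coe_prod, coe_prod]
  exact h

theorem gl_sq (x : K1.Gen) : gl x * gl x = 1 := by
  apply Units.ext
  exact gm_sq x

theorem gl_ab : (gl .a * gl .b) ^ 5 = 1 := by
  have h := prod_eq_one [.a, .b, .a, .b, .a, .b, .a, .b, .a, .b] rel_ab
  simpa [pow_succ, mul_assoc] using h

theorem gl_bc : (gl .b * gl .c) ^ 3 = 1 := by
  have h := prod_eq_one [.b, .c, .b, .c, .b, .c] rel_bc
  simpa [pow_succ, mul_assoc] using h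

theorem gl_de : (gl .d * gl .e) ^ 3 = 1 := by
  have h := prod_eq_one [.d, .e, .d, .e, .d, .e] rel_de
  simpa [pow_succ, mul_assoc] using h

theorem gl_bf : (gl .b * gl .f) ^ 3 = 1 := by
  have h := prod_eq_one [.b, .f, .b, .f, .b, .f] rel_bf
  simpa [pow_succ, mul_assoc] using h

theorem gl_a_eq : gl .a = (gl .c * gl .d) ^ 4 := by
  have h : ([K1.Gen.c, .d, .c, .d, .c, .d, .c, .d].map gl).prod = ([K1.Gen.a].map gl).prod := by
    apply Units.ext
    rw [coe_prod, coe_prod]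
    refine rel_cd4.trans ?_
    simp [ev, li, genRows]
  have h' : (gl .c * gl .d) ^ 4 = gl .a := by
    simpa [pow_succ, mul_assoc] using h
  exact h'.symm

theorem gl_cd : (gl .c * gl .d) ^ 8 = 1 := by
  have e : (gl .c * gl .d) ^ 8 = ((gl .c * gl .d) ^ 4) * ((gl .c * gl .d) ^ 4) := by
    rw [← pow_add]
  rw [e, ← gl_a_eq]
  exact gl_sq _

theorem gl_comm (x y : K1.Gen) (h : ev [li x, li y] = ev [li y, li x]) : gl x * gl y = gl y * gl x := by
  have h' := prod_eq_prod [x, y] [y, x] h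
  simpa using h'

theorem gl_abcf : (gl .a * gl .b * gl .c * gl .f) ^ 5 = 1 := by
  have h0 : ev (List.map li
    [.a, .b, .c, .f, .a, .b, .c, .f, .a, .b, .c, .f, .a, .b, .c, .f, .a, .b, .c, .f]) = 1 := rel_abcf
  have h := prod_eq_one _ h0
  rw [← h]
  simp only [List.map_cons, List.map_nil, List.prod_cons, List.prod_nil, mul_one, pow_succ, pow_zero, one_mul,
    mul_assoc]

theorem gl_last : ((gl .b * gl .c * gl .d * gl .c * gl .d) ^ 5 * gl .e) ^ 3 = 1 := by
  have h0 : ev (List.map li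
    [.b, .c, .d, .c, .d, .b, .c, .d, .c, .d, .b, .c, .d, .c, .d, .b, .c, .d, .c, .d, .b, .c, .d, .c, .d, .e,
     .b, .c, .d, .c, .d, .b, .c, .d, .c, .d, .b, .c, .d, .c, .d, .b, .c, .d, .c, .d, .b, .c, .d, .c, .d, .e,
     .b, .c, .d, .c, .d, .b, .c, .d, .c, .d, .b, .c, .d, .c, .d, .b, .c, .d, .c, .d, .b, .c, .d, .c, .d, .e]) = 1 :=
    rel_last
  have h := prod_eq_one _ h0
  rw [← h]
  simp only [List.map_cons, List.map_nil, List.prod_cons, List.prod_nil, mul_one, pow_succ, pow_zero, one_mul,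
    mul_assoc]

/-- the homomorphism onto the matrix group -/
theorem exists_theta : ∃ θ : K1pres →* GL chevG2.Idx F4, ∀ x, θ (PresentedGroup.of x) = gl x :=
  exists_hom gl gl_sq gl_ab gl_bc gl_cd gl_de gl_bf
    (gl_comm _ _ comm_0_2) (gl_comm _ _ comm_0_3) (gl_comm _ _ comm_0_4) (gl_comm _ _ comm_0_5)
    (gl_comm _ _ comm_1_3) (gl_comm _ _ comm_1_4) (gl_comm _ _ comm_2_4) (gl_comm _ _ comm_2_5)
    (gl_comm _ _ comm_3_5) (gl_comm _ _ comm_4_5) gl_a_eq gl_abcf gl_last

/-! ### the range of the homomorphism -/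

/-- root elements as invertible matrices -/
noncomputable abbrev xg (r : ℕ) (t : F4) : GL chevG2.Idx F4 :=
  xGL chevG2 Cfsg.Agent.Lib.Helper36_ChevDataG2.lenOK Cfsg.Agent.Lib.Helper36_ChevDataG2.addOK F4 r t

theorem xg_mem (r : ℕ) (t : F4) : xg r t ∈ chevG2.group F4 := by
  by_cases hr : r < chevG2.nroots
  · apply Subgroup.subset_closure
    refine ⟨⟨r, hr⟩, t, ?_⟩
    rw [xGL_coe]
    unfold ChevalleyDatum.x
    rw [dif_pos hr]
  · have : xg r t = 1 := by
      apply Units.ext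
      rw [xGL_coe]
      unfold ChevalleyDatum.x
      rw [dif_neg hr]
      rfl
    rw [this]
    exact one_mem _

theorem x_lit (r : ℕ) (h : r < 12) (t : F4) (X : List ℕ)
    (hx : (show Matrix Idx Idx F4 from chevG2.xMat F4 ⟨r, h⟩ t) = mkM X) :
    ((xg r t : GL chevG2.Idx F4) : Matrix chevG2.Idx chevG2.Idx F4) = mkM X := by
  rw [xGL_coe]
  unfold ChevalleyDatum.x
  rw [dif_pos (show r < chevG2.nroots from h)]
  exact hx

theorem v0_1 : ((xg 0 1 : GL chevG2.Idx F4) : Matrix chevG2.Idx chevG2.Idx F4) = mkM X0_1 :=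
  x_lit 0 (by norm_num) 1 X0_1 x0_1
theorem v0_2 : ((xg 0 w : GL chevG2.Idx F4) : Matrix chevG2.Idx chevG2.Idx F4) = mkM X0_2 :=
  x_lit 0 (by norm_num) w X0_2 x0_2
theorem v1_2 : ((xg 1 w : GL chevG2.Idx F4) : Matrix chevG2.Idx chevG2.Idx F4) = mkM X1_2 :=
  x_lit 1 (by norm_num) w X1_2 x1_2
theorem v3_3 : ((xg 3 (w + 1) : GL chevG2.Idx F4) : Matrix chevG2.Idx chevG2.Idx F4) = mkM X3_3 :=
  x_lit 3 (by norm_num) (w + 1) X3_3 x3_3
theorem v5_1 : ((xg 5 1 : GL chevG2.Idx F4) : Matrix chevG2.Idx chevG2.Idx F4) = mkM X5_1 :=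
  x_lit 5 (by norm_num) 1 X5_1 x5_1
theorem v5_3 : ((xg 5 (w + 1) : GL chevG2.Idx F4) : Matrix chevG2.Idx chevG2.Idx F4) = mkM X5_3 :=
  x_lit 5 (by norm_num) (w + 1) X5_3 x5_3
theorem v6_1 : ((xg 6 1 : GL chevG2.Idx F4) : Matrix chevG2.Idx chevG2.Idx F4) = mkM X6_1 :=
  x_lit 6 (by norm_num) 1 X6_1 x6_1
theorem v6_2 : ((xg 6 w : GL chevG2.Idx F4) : Matrix chevG2.Idx chevG2.Idx F4) = mkM X6_2 :=
  x_lit 6 (by norm_num) w X6_2 x6_2
theorem v8_2 : ((xg 8 w : GL chevG2.Idx F4) : Matrix chevG2.Idx chevG2.Idx F4) = mkM X8_2 :=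
  x_lit 8 (by norm_num) w X8_2 x8_2
theorem v9_1 : ((xg 9 1 : GL chevG2.Idx F4) : Matrix chevG2.Idx chevG2.Idx F4) = mkM X9_1 :=
  x_lit 9 (by norm_num) 1 X9_1 x9_1
theorem v11_1 : ((xg 11 1 : GL chevG2.Idx F4) : Matrix chevG2.Idx chevG2.Idx F4) = mkM X11_1 :=
  x_lit 11 (by norm_num) 1 X11_1 x11_1

theorem gl_mem (x : K1.Gen) : gl x ∈ chevG2.group F4 := by
  cases x
  · have e : gl .a = xg 6 1 * xg 5 1 * xg 11 1 * xg 5 1 * xg 6 1 := by
      apply Units.ext
      simp only [Units.val_mul]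
      rw [v6_1, v5_1, v11_1]
      exact GA_eq.symm
    rw [e]
    exact mul_mem (mul_mem (mul_mem (mul_mem (xg_mem _ _) (xg_mem _ _)) (xg_mem _ _)) (xg_mem _ _)) (xg_mem _ _)
  · have e : gl .b = xg 1 w * xg 0 1 * xg 11 1 * xg 0 1 * xg 1 w := by
      apply Units.ext
      simp only [Units.val_mul]
      rw [v1_2, v0_1, v11_1]
      exact GB_eq.symm
    rw [e]
    exact mul_mem (mul_mem (mul_mem (mul_mem (xg_mem _ _) (xg_mem _ _)) (xg_mem _ _)) (xg_mem _ _)) (xg_mem _ _)
  · have e : gl .c = xg 11 1 := by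
      apply Units.ext
      rw [v11_1]
      exact GC_eq.symm
    rw [e]
    exact xg_mem _ _
  · have e : gl .d = xg 0 1 * xg 9 1 * xg 0 1 := by
      apply Units.ext
      simp only [Units.val_mul]
      rw [v0_1, v9_1]
      exact GD_eq.symm
    rw [e]
    exact mul_mem (mul_mem (xg_mem _ _) (xg_mem _ _)) (xg_mem _ _)
  · have e : gl .e = xg 3 (w + 1) * xg 8 w * xg 3 (w + 1) * xg 0 w * xg 9 1 * xg 0 w * xg 3 (w + 1) *
        xg 8 w * xg 3 (w + 1) := by
      apply Units.ext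
      simp only [Units.val_mul]
      rw [v3_3, v8_2, v0_2, v9_1]
      exact GE_eq.symm
    rw [e]
    exact mul_mem (mul_mem (mul_mem (mul_mem (mul_mem (mul_mem (mul_mem (mul_mem (xg_mem _ _) (xg_mem _ _)) (xg_mem _ _)) (xg_mem _ _)) (xg_mem _ _)) (xg_mem _ _)) (xg_mem _ _)) (xg_mem _ _)) (xg_mem _ _)
  · have e : gl .f = xg 6 w * xg 5 (w + 1) * xg 11 1 * xg 5 (w + 1) * xg 6 w := by
      apply Units.ext
      simp only [Units.val_mul]
      rw [v6_2, v5_3, v11_1]
      exact GF_eq.symm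
    rw [e]
    exact mul_mem (mul_mem (mul_mem (mul_mem (xg_mem _ _) (xg_mem _ _)) (xg_mem _ _)) (xg_mem _ _)) (xg_mem _ _)

theorem mem_closure_of_word (g : GL chevG2.Idx F4) (r : ℕ) (h : r < 12) (t : F4) (X : List ℕ)
    (hx : (show Matrix Idx Idx F4 from chevG2.xMat F4 ⟨r, h⟩ t) = mkM X) (ws : List ℕ)
    (hws : (ws.map lt).map li = ws) (hw : ev ws = mkM X)
    (hg : (g : Matrix chevG2.Idx chevG2.Idx F4) = chevG2.x F4 r t) :
    g ∈ Subgroup.closure (Set.range gl) := by
  have e : g = ((ws.map lt).map gl).prod := by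
    apply Units.ext
    rw [coe_prod, hws, hw, hg]
    unfold ChevalleyDatum.x
    rw [dif_pos (show r < chevG2.nroots from h)]
    exact hx
  rw [e]
  apply Subgroup.list_prod_mem
  intro y hy
  obtain ⟨x, _, rfl⟩ := List.mem_map.mp hy
  exact Subgroup.subset_closure ⟨x, rfl⟩

theorem mem_closure_of_zero (g : GL chevG2.Idx F4) (r : ℕ)
    (hg : (g : Matrix chevG2.Idx chevG2.Idx F4) = chevG2.x F4 r 0) :
    g ∈ Subgroup.closure (Set.range gl) := by
  have e : g = 1 := by
    apply Units.ext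
    rw [hg, x_zero chevG2 Cfsg.Agent.Lib.Helper36_ChevDataG2.lenOK F4 r]
    rfl
  rw [e]
  exact one_mem _

theorem fund_le : fundSubgroup chevG2 F4 ≤ Subgroup.closure (Set.range gl) := by
  unfold fundSubgroup
  rw [Subgroup.closure_le]
  rintro g ⟨i, hi, t, hg⟩
  have h2 : i < 2 := hi
  have s0 : chevG2.simple 0 = 7 := by decide
  have s1 : chevG2.simple 1 = 6 := by decide
  have n0 : chevG2.neg 7 = 4 := by decide
  have n1 : chevG2.neg 6 = 5 := by decide
  interval_cases i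
  · rw [s0, n0] at hg
    rcases hg with hg | hg
    · rcases F4_cases t with rfl | rfl | rfl | rfl
      · exact mem_closure_of_zero g _ hg
      · exact mem_closure_of_word g 7 (by norm_num) 1 X7_1 x7_1 _ rfl root7_1 hg
      · exact mem_closure_of_word g 7 (by norm_num) w X7_2 x7_2 _ rfl root7_2 hg
      · exact mem_closure_of_word g 7 (by norm_num) (w + 1) X7_3 x7_3 _ rfl root7_3 hg
    · rcases F4_cases t with rfl | rfl | rfl | rfl
      · exact mem_closure_of_zero g _ hg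
      · exact mem_closure_of_word g 4 (by norm_num) 1 X4_1 x4_1 _ rfl root4_1 hg
      · exact mem_closure_of_word g 4 (by norm_num) w X4_2 x4_2 _ rfl root4_2 hg
      · exact mem_closure_of_word g 4 (by norm_num) (w + 1) X4_3 x4_3 _ rfl root4_3 hg
  · rw [s1, n1] at hg
    rcases hg with hg | hg
    · rcases F4_cases t with rfl | rfl | rfl | rfl
      · exact mem_closure_of_zero g _ hg
      · exact mem_closure_of_word g 6 (by norm_num) 1 X6_1 x6_1 _ rfl root6_1 hg
      · exact mem_closure_of_word g 6 (by norm_num) w X6_2 x6_2 _ rfl root6_2 hg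
      · exact mem_closure_of_word g 6 (by norm_num) (w + 1) X6_3 x6_3 _ rfl root6_3 hg
    · rcases F4_cases t with rfl | rfl | rfl | rfl
      · exact mem_closure_of_zero g _ hg
      · exact mem_closure_of_word g 5 (by norm_num) 1 X5_1 x5_1 _ rfl root5_1 hg
      · exact mem_closure_of_word g 5 (by norm_num) w X5_2 x5_2 _ rfl root5_2 hg
      · exact mem_closure_of_word g 5 (by norm_num) (w + 1) X5_3 x5_3 _ rfl root5_3 hg

theorem theta_range (θ : K1pres →* GL chevG2.Idx F4) (hθ : ∀ x, θ (PresentedGroup.of x) = gl x) :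
    θ.range = chevG2.group F4 := by
  have hr : θ.range = Subgroup.closure (Set.range gl) := by
    rw [MonoidHom.range_eq_map, ← PresentedGroup.closure_range_of, MonoidHom.map_closure]
    congr 1
    ext g
    constructor
    · rintro ⟨_, ⟨x, rfl⟩, rfl⟩
      exact ⟨x, (hθ x).symm⟩
    · rintro ⟨x, rfl⟩
      exact ⟨_, ⟨x, rfl⟩, hθ x⟩
  rw [hr]
  apply le_antisymm
  · rw [Subgroup.closure_le]
    rintro _ ⟨x, rfl⟩
    exact gl_mem x
  · rw [Cfsg.Agent.Lib.Helper36_ChevDataG2.group_eq]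
    exact fund_le

/-! ### the orders -/

theorem card_group : Nat.card (chevG2.group F4) = 251596800 := by
  have h := Cfsg.Agent.S1059.result (F := F4) (q := 4) card_F4
  rw [h]
  norm_num

theorem equiv_range_of_card {A B : Type*} [Group A] [Group B] (φ : A →* B) (hfin : Finite A) (n : ℕ)
    (hA : Nat.card A ≤ n) (hB : Nat.card φ.range = n) : Nonempty (A ≃* φ.range) := by
  have hs : Function.Surjective φ.rangeRestrict := φ.rangeRestrict_surjective
  have hb : Function.Bijective φ.rangeRestrict :=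
    hs.bijective_of_nat_card_le (by rw [hB]; exact hA)
  exact ⟨MulEquiv.ofBijective φ.rangeRestrict hb⟩

/-- the group of the sub-presentation on `a, …, f` is the Chevalley group -/
theorem k1_iso : Nonempty (K1pres ≃* chevG2.group F4) := by
  obtain ⟨θ, hθ⟩ := exists_theta
  have hθr := theta_range θ hθ
  have hK := Cfsg.Agent.Lib.Helper96_SuzOrderUpper.card1
  have hKle : Nat.card K1pres ≤ 251596800 := hK.2
  obtain ⟨e2⟩ := equiv_range_of_card θ hK.1 251596800 hKle (by rw [hθr]; exact card_group)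
  exact ⟨e2.trans (MulEquiv.subgroupCongr hθr)⟩

theorem k1_card : Nat.card K1pres = 251596800 := by
  obtain ⟨e⟩ := k1_iso
  rw [Nat.card_congr e.toEquiv]
  exact card_group

theorem k1_finite : Finite K1pres := Cfsg.Agent.Lib.Helper96_SuzOrderUpper.card1.1

theorem main : ∃ (K : Type) (_ : Field K) (_ : Fintype K), Fintype.card K = 4 ∧
    Nonempty ((((Subgroup.closure ({Cfsg.Spor.Suz.a, Cfsg.Spor.Suz.b, Cfsg.Spor.Suz.c, Cfsg.Spor.Suz.d,
      Cfsg.Spor.Suz.e, Cfsg.Spor.Suz.f} : Set (FreeGroup Cfsg.Spor.Suz.Gen))).map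
      (PresentedGroup.mk (Cfsg.Spor.coxRelators Cfsg.Spor.Suz.edges ∪ {r | r ∈ Cfsg.Spor.Suz.extra})))) ≃*
      Cfsg.Lie.chevG2.group K) := by
  refine ⟨F4, inferInstance, fintypeF4, card_F4, ?_⟩
  obtain ⟨e2⟩ := k1_iso
  have hrange := subHom_range ok1 _ Cfsg.Agent.Lib.Helper96_SuzOrderUpper.range1
  have hidx := Cfsg.Agent.S1680.result.1
  have hsuz : Nat.card Suz = 448345497600 := Cfsg.Agent.S1694.result.2
  have hK := Cfsg.Agent.Lib.Helper96_SuzOrderUpper.card1
  have hKle : Nat.card K1pres ≤ 251596800 := hK.2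
  have hH : Nat.card ((subHom ok1).range) = 251596800 := by
    have h := Subgroup.index_mul_card ((subHom ok1).range)
    rw [hrange, hidx] at h
    rw [hrange]
    have h' : 1782 * Nat.card _ = 448345497600 := h.trans hsuz
    omega
  obtain ⟨e1⟩ := equiv_range_of_card (subHom ok1) hK.1 251596800 hKle hH
  exact ⟨(MulEquiv.subgroupCongr hrange).symm.trans (e1.symm.trans e2)⟩

end Cfsg.Agent.Lib.helper19_G24
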