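import Mathlib
import Cfsg.Agent.Lib.Helper96_SuzOrderUpper
import Cfsg.Agent.Lib.Helper8_J2F
import Cfsg.Agent.Lib.Helper26_IcoCent
import Cfsg.Agent.S1619
import Cfsg.Agent.Lib.helper19_G24H
import Cfsg.Agent.Lib.helper19_G24JD

/-! The group `K2` of the sub-presentation on `a, …, e` of the presentation of the Suzuki group is the
Hall–Janko group: the generators go to products of reflections of the icosian lattice, the relations are
checked on the standard frame, the images generate because every reflection is reached from the first by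
conjugation, and the coset enumeration bounds the order; by helper19. -/

set_option autoImplicit false
set_option linter.constructorNameAsVariable false

namespace Cfsg.Agent.Lib.helper19_G24J

open Cfsg Cfsg.Spor
open Cfsg.Agent.Lib.Helper96_SuzSub Cfsg.Agent.Lib.Helper96_SubPres
open Cfsg.Agent.Lib.Helper26_Ico Cfsg.Agent.Lib.Helper8_J2
open Cfsg.Agent.Lib.helper19_G24H Cfsg.Agent.Lib.helper19_G24JD

/-- the group of the sub-presentation on `a, …, e` -/
abbrev K2pres : Type := CoxPresented K2.Gen K2.edges K2.extra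

/-! ### a homomorphism from the group of the sub-presentation -/

theorem exists_hom2 {Γ : Type*} [Group Γ] (g : K2.Gen → Γ)
    (hsq : ∀ x, g x * g x = 1)
    (hab : (g .a * g .b) ^ 5 = 1) (hbc : (g .b * g .c) ^ 3 = 1) (hcd : (g .c * g .d) ^ 8 = 1)
    (hde : (g .d * g .e) ^ 3 = 1)
    (hac : g .a * g .c = g .c * g .a) (had : g .a * g .d = g .d * g .a)
    (hae : g .a * g .e = g .e * g .a)
    (hbd : g .b * g .d = g .d * g .b) (hbe : g .b * g .e = g .e * g .b)
    (hce : g .c * g .e = g .e * g .c)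
    (h1 : g .a = (g .c * g .d) ^ 4)
    (h3 : ((g .b * g .c * g .d * g .c * g .d) ^ 5 * g .e) ^ 3 = 1) :
    ∃ θ : K2pres →* Γ, ∀ x, θ (PresentedGroup.of x) = g x := by
  have key : ∀ x y : K2.Gen, (g x * g y) ^ coxLabel K2.edges x y = 1 := by
    intro x y
    cases x <;> cases y
    · exact (pow_one _).trans (hsq _)
    · exact hab
    · exact comm_sq _ _ (hsq _) (hsq _) hac
    · exact comm_sq _ _ (hsq _) (hsq _) had
    · exact comm_sq _ _ (hsq _) (hsq _) hae
    · exact pow_swap _ _ _ hab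
    · exact (pow_one _).trans (hsq _)
    · exact hbc
    · exact comm_sq _ _ (hsq _) (hsq _) hbd
    · exact comm_sq _ _ (hsq _) (hsq _) hbe
    · exact comm_sq _ _ (hsq _) (hsq _) hac.symm
    · exact pow_swap _ _ _ hbc
    · exact (pow_one _).trans (hsq _)
    · exact hcd
    · exact comm_sq _ _ (hsq _) (hsq _) hce
    · exact comm_sq _ _ (hsq _) (hsq _) had.symm
    · exact comm_sq _ _ (hsq _) (hsq _) hbd.symm
    · exact pow_swap _ _ _ hcd
    · exact (pow_one _).trans (hsq _)
    · exact hde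
    · exact comm_sq _ _ (hsq _) (hsq _) hae.symm
    · exact comm_sq _ _ (hsq _) (hsq _) hbe.symm
    · exact comm_sq _ _ (hsq _) (hsq _) hce.symm
    · exact pow_swap _ _ _ hde
    · exact (pow_one _).trans (hsq _)
  have hrel : ∀ r ∈ coxRelators K2.edges ∪ {r | r ∈ K2.extra}, FreeGroup.lift g r = 1 := by
    intro r hr
    rcases hr with ⟨x, _, y, _, rfl⟩ | hr
    · rw [map_pow, map_mul, FreeGroup.lift_apply_of, FreeGroup.lift_apply_of]
      exact key x y
    · have hr' : r = K2.a * ((K2.c * K2.d) ^ 4)⁻¹ ∨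
          r = ((K2.b * K2.c * K2.d * K2.c * K2.d) ^ 5 * K2.e) ^ 3 := by
        simpa [K2.extra] using hr
      rcases hr' with rfl | rfl
      · simp only [map_mul, map_pow, map_inv, FreeGroup.lift_apply_of]
        rw [← h1]
        exact mul_inv_cancel _
      · simp only [map_mul, map_pow, FreeGroup.lift_apply_of]
        exact h3
  exact ⟨PresentedGroup.toGroup (f := g) hrel, fun x => PresentedGroup.toGroup.of hrel⟩

/-! ### words in the reflections -/

theorem wordJ_eq_mk (w : List ℕ) (hw : ∀ k ∈ w, k < 315) :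
    wordJ w = (QuotientGroup.mk (⟨wordPerm w, wordPerm_mem w⟩ : twoJ2) : J2) := by
  induction w with
  | nil =>
    rw [wordJ_nil]
    have h : (⟨wordPerm [], wordPerm_mem []⟩ : twoJ2) = 1 := Subtype.ext wordPerm_nil
    rw [h]
    rfl
  | cons k w ih =>
    have hk : k < 315 := hw k List.mem_cons_self
    rw [wordJ_cons, ih (fun j hj => hw j (List.mem_cons_of_mem _ hj))]
    have h : (⟨wordPerm (k :: w), wordPerm_mem (k :: w)⟩ : twoJ2) =
        (Rn k).toG * ⟨wordPerm w, wordPerm_mem w⟩ := by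
      apply Subtype.ext
      show wordPerm (k :: w) = (Rn k).1 * wordPerm w
      rw [wordPerm_cons, Rn_val hk]
    rw [h, QuotientGroup.mk_mul]
    rfl

theorem wordPerm_eq_one_of_frame (w : List ℕ) (hw : ∀ k ∈ w, k < 315) (h : frameOK w = true) :
    wordPerm w = 1 := by
  apply eq_one_of_fix (wordPerm_mem w)
  intro t
  have ht : t.val < 315 := by have := t.2; omega
  have hY : wordL w (lineAt t.val) = lineAt t.val := by
    unfold frameOK at h
    rw [List.all_eq_true] at h
    have := h t.val (List.mem_range.2 t.2)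
    exact beq_iff_eq.1 this
  rw [β_eq]
  apply Subtype.ext
  rw [word_eval w hw t.val ht _ hY]
  rfl

theorem wordJ_one_of_frame (w : List ℕ) (hw : ∀ k ∈ w, k < 315) (h : frameOK w = true) :
    wordJ w = 1 := by
  rw [wordJ_eq_mk w hw]
  have h' : (⟨wordPerm w, wordPerm_mem w⟩ : twoJ2) = 1 := Subtype.ext (wordPerm_eq_one_of_frame w hw h)
  rw [h']
  rfl

theorem zw_lt : ∀ k ∈ zw, k < 315 := by decide

theorem wordJ_zw : wordJ zw = 1 := by
  rw [wordJ_eq_mk zw zw_lt]
  exact (QuotientGroup.eq_one_iff _).2 negOne'_mem_center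

theorem wordJ_one_of_frame_neg (w : List ℕ) (hw : ∀ k ∈ w, k < 315) (h : frameOK (w ++ zw) = true) :
    wordJ w = 1 := by
  have hw' : ∀ k ∈ w ++ zw, k < 315 := by
    intro k hk
    rcases List.mem_append.1 hk with h1 | h1
    · exact hw k h1
    · exact zw_lt k h1
  have := wordJ_one_of_frame _ hw' h
  rw [wordJ_append, wordJ_zw, mul_one] at this
  exact this

theorem GW_lt' {l : ℕ} (hl : l < 5) : ∀ k ∈ GW l, k < 315 := GW_lt l (List.mem_range.2 hl)

theorem expand_lt (w : List ℕ) (hw : ∀ l ∈ w, l < 5) : ∀ k ∈ expand w, k < 315 := by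
  intro k hk
  unfold expand at hk
  rw [List.mem_flatten] at hk
  obtain ⟨u, hu, hku⟩ := hk
  obtain ⟨l, hl, rfl⟩ := List.mem_map.1 hu
  exact GW_lt' (hw l hl) k hku

theorem expand_cons (l : ℕ) (w : List ℕ) : expand (l :: w) = GW l ++ expand w := by
  simp [expand]

/-- the image of a letter -/
noncomputable def gl (l : ℕ) : J2 := wordJ (GW l)

theorem wordJ_expand (w : List ℕ) : wordJ (expand w) = (w.map gl).prod := by
  induction w with
  | nil => rfl
  | cons l w ih =>
    rw [expand_cons, wordJ_append, ih, List.map_cons, List.prod_cons]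
    rfl

theorem prod_eq_one (w : List ℕ) (hw : ∀ l ∈ w, l < 5)
    (h : frameOK (expand w) = true ∨ frameOK (expand w ++ zw) = true) : (w.map gl).prod = 1 := by
  rw [← wordJ_expand]
  rcases h with h | h
  · exact wordJ_one_of_frame _ (expand_lt w hw) h
  · exact wordJ_one_of_frame_neg _ (expand_lt w hw) h

/-! ### the relations -/

theorem gl_sq : ∀ l, l < 5 → gl l * gl l = 1 := by
  intro l hl
  have h0 := prod_eq_one [0, 0] (by decide) (Or.inl rel_sq0)
  have h1 := prod_eq_one [1, 1] (by decide) (Or.inl rel_sq1)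
  have h2 := prod_eq_one [2, 2] (by decide) (Or.inl rel_sq2)
  have h3 := prod_eq_one [3, 3] (by decide) (Or.inr rel_sq3)
  have h4 := prod_eq_one [4, 4] (by decide) (Or.inr rel_sq4)
  simp only [List.map_cons, List.map_nil, List.prod_cons, List.prod_nil, mul_one] at h0 h1 h2 h3 h4
  interval_cases l
  · exact h0
  · exact h1
  · exact h2
  · exact h3
  · exact h4

theorem comm_of_sq {Γ : Type*} [Group Γ] (x y : Γ) (hx : x * x = 1) (hy : y * y = 1)
    (h : x * (y * (x * y)) = 1) : x * y = y * x := by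
  have hx' : x⁻¹ = x := inv_eq_of_mul_eq_one_right hx
  have hy' : y⁻¹ = y := inv_eq_of_mul_eq_one_right hy
  have h' : (x * y) * (x * y) = 1 := by rw [mul_assoc]; exact h
  have h2 : (x * y)⁻¹ = x * y := inv_eq_of_mul_eq_one_right h'
  calc x * y = (x * y)⁻¹ := h2.symm
    _ = y⁻¹ * x⁻¹ := mul_inv_rev _ _
    _ = y * x := by rw [hx', hy']

theorem gl_comm (k l : ℕ) (hk : k < 5) (hl : l < 5)
    (h : frameOK (expand [k, l, k, l]) = true ∨ frameOK (expand [k, l, k, l] ++ zw) = true) :
    gl k * gl l = gl l * gl k := by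
  have hw : ∀ j ∈ [k, l, k, l], j < 5 := by
    intro j hj
    simp only [List.mem_cons, List.not_mem_nil, or_false] at hj
    rcases hj with rfl | rfl | rfl | rfl <;> assumption
  have h0 := prod_eq_one [k, l, k, l] hw h
  simp only [List.map_cons, List.map_nil, List.prod_cons, List.prod_nil, mul_one] at h0
  exact comm_of_sq _ _ (gl_sq k hk) (gl_sq l hl) h0

theorem gl_ab : (gl 0 * gl 1) ^ 5 = 1 := by
  have h0 := prod_eq_one [0, 1, 0, 1, 0, 1, 0, 1, 0, 1] (by decide) (Or.inl rel_ab)
  rw [← h0]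
  simp only [List.map_cons, List.map_nil, List.prod_cons, List.prod_nil, mul_one, pow_succ, pow_zero,
    one_mul, mul_assoc]

theorem gl_bc : (gl 1 * gl 2) ^ 3 = 1 := by
  have h0 := prod_eq_one [1, 2, 1, 2, 1, 2] (by decide) (Or.inl rel_bc)
  rw [← h0]
  simp only [List.map_cons, List.map_nil, List.prod_cons, List.prod_nil, mul_one, pow_succ, pow_zero,
    one_mul, mul_assoc]

theorem gl_cd : (gl 2 * gl 3) ^ 8 = 1 := by
  have h0 := prod_eq_one [2, 3, 2, 3, 2, 3, 2, 3, 2, 3, 2, 3, 2, 3, 2, 3] (by decide) (Or.inl rel_cd)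
  rw [← h0]
  simp only [List.map_cons, List.map_nil, List.prod_cons, List.prod_nil, mul_one, pow_succ, pow_zero,
    one_mul, mul_assoc]

theorem gl_de : (gl 3 * gl 4) ^ 3 = 1 := by
  have h0 := prod_eq_one [3, 4, 3, 4, 3, 4] (by decide) (Or.inl rel_de)
  rw [← h0]
  simp only [List.map_cons, List.map_nil, List.prod_cons, List.prod_nil, mul_one, pow_succ, pow_zero,
    one_mul, mul_assoc]

theorem gl_a_eq : gl 0 = (gl 2 * gl 3) ^ 4 := by
  have h0 := prod_eq_one [2, 3, 2, 3, 2, 3, 2, 3, 0] (by decide) (Or.inr rel_cd4)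
  have e : (gl 2 * gl 3) ^ 4 * gl 0 = 1 := by
    rw [← h0]
    simp only [List.map_cons, List.map_nil, List.prod_cons, List.prod_nil, mul_one, pow_succ, pow_zero,
      one_mul, mul_assoc]
  have ha : (gl 0)⁻¹ = gl 0 := inv_eq_of_mul_eq_one_right (gl_sq 0 (by norm_num))
  calc gl 0 = (gl 0)⁻¹ := ha.symm
    _ = (gl 2 * gl 3) ^ 4 := (eq_inv_of_mul_eq_one_left e).symm

theorem gl_last : ((gl 1 * gl 2 * gl 3 * gl 2 * gl 3) ^ 5 * gl 4) ^ 3 = 1 := by
  have h0 := prod_eq_one
    [1, 2, 3, 2, 3, 1, 2, 3, 2, 3, 1, 2, 3, 2, 3, 1, 2, 3, 2, 3, 1, 2, 3, 2, 3, 4,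
     1, 2, 3, 2, 3, 1, 2, 3, 2, 3, 1, 2, 3, 2, 3, 1, 2, 3, 2, 3, 1, 2, 3, 2, 3, 4,
     1, 2, 3, 2, 3, 1, 2, 3, 2, 3, 1, 2, 3, 2, 3, 1, 2, 3, 2, 3, 1, 2, 3, 2, 3, 4] (by decide)
    (Or.inl rel_last)
  rw [← h0]
  simp only [List.map_cons, List.map_nil, List.prod_cons, List.prod_nil, mul_one, pow_succ, pow_zero,
    one_mul, mul_assoc]

/-- the letter of a generator -/
def li2 : K2.Gen → ℕ
  | .a => 0 | .b => 1 | .c => 2 | .d => 3 | .e => 4

theorem li2_lt (x : K2.Gen) : li2 x < 5 := by
  cases x <;> decide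

/-- the images of the generators -/
noncomputable def gJ (x : K2.Gen) : J2 := gl (li2 x)

theorem exists_theta2 : ∃ θ : K2pres →* J2, ∀ x, θ (PresentedGroup.of x) = gJ x :=
  exists_hom2 gJ (fun x => gl_sq _ (li2_lt x)) gl_ab gl_bc gl_cd gl_de
    (gl_comm 0 2 (by norm_num) (by norm_num) (Or.inl rel_comm02))
    (gl_comm 0 3 (by norm_num) (by norm_num) (Or.inr rel_comm03))
    (gl_comm 0 4 (by norm_num) (by norm_num) (Or.inr rel_comm04))
    (gl_comm 1 3 (by norm_num) (by norm_num) (Or.inr rel_comm13))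
    (gl_comm 1 4 (by norm_num) (by norm_num) (Or.inr rel_comm14))
    (gl_comm 2 4 (by norm_num) (by norm_num) (Or.inr rel_comm24))
    gl_a_eq gl_last

/-! ### the images generate -/

theorem look'_sound {k j : ℕ} (h : look' k j < 315) : (Rn k).toJ • Rn j = Rn (look' k j) := by
  unfold look' at h ⊢
  cases hf : myEdges.find? (fun e => e.1 == j && e.2.1 == k) with
  | none => rw [hf] at h; exact absurd h (lt_irrefl _)
  | some e =>
    have hp := List.find?_some hf
    have hm := List.mem_of_find?_eq_some hf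
    simp only [Bool.and_eq_true, beq_iff_eq] at hp
    have he : edgeOK e = true := (List.all_eq_true.1 myEdges_ok) e hm
    have := edge1_sound he
    rw [hp.1, hp.2] at this
    exact this

theorem look'_lt_arg {k j : ℕ} (h : look' k j < 315) : j < 315 := by
  unfold look' at h
  cases hf : myEdges.find? (fun e => e.1 == j && e.2.1 == k) with
  | none => rw [hf] at h; exact absurd h (lt_irrefl _)
  | some e =>
    have hp := List.find?_some hf
    have hm := List.mem_of_find?_eq_some hf
    simp only [Bool.and_eq_true, beq_iff_eq] at hp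
    have he : edgeOK e = true := (List.all_eq_true.1 myEdges_ok) e hm
    rw [← hp.1]
    exact (edge_lt he).1

theorem runW'_cons (k : ℕ) (w : List ℕ) (j : ℕ) : runW' (k :: w) j = look' k (runW' w j) := rfl

theorem runW'_sound : ∀ (w : List ℕ) {j : ℕ}, j < 315 → runW' w j < 315 →
    wordJ w • Rn j = Rn (runW' w j) := by
  intro w
  induction w with
  | nil => intro j _ _; rw [wordJ_nil, one_smul]; rfl
  | cons k w ih =>
    intro j hj h
    rw [runW'_cons] at h
    have h' := look'_lt_arg h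
    rw [wordJ_cons, mul_smul, ih hj h', runW'_cons]
    exact look'_sound h

theorem reach_sound (R : Subgroup J2) (hR : ∀ l, l < 5 → gl l ∈ R) (t : List (ℕ × ℕ × ℕ)) :
    ∀ acc : List ℕ, (∀ n ∈ acc, n < 315 ∧ (Rn n).toJ ∈ R) →
      ∀ n ∈ helper19_G24JD.reach t acc, n < 315 ∧ (Rn n).toJ ∈ R := by
  induction t with
  | nil => intro acc h; exact h
  | cons e t ih =>
    intro acc h
    rw [helper19_G24JD.reach, List.foldl_cons]
    apply ih
    intro n hn
    unfold helper19_G24JD.reachStep at hn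
    split_ifs at hn with hc
    · rcases List.mem_cons.1 hn with rfl | hn
      · simp only [Bool.and_eq_true, decide_eq_true_eq, beq_iff_eq] at hc
        obtain ⟨hacc, hl, hrun, hlt⟩ := hc
        have hj := h e.2.1 (by simpa using hacc)
        refine ⟨hlt, ?_⟩
        have hs : wordJ (GW e.2.2) • Rn e.2.1 = Rn e.1 := by
          rw [runW'_sound (GW e.2.2) hj.1 (by rw [hrun]; exact hlt), hrun]
        rw [← hs, toJ_smulJ]
        exact R.mul_mem (R.mul_mem (hR _ hl) hj.2) (R.inv_mem (hR _ hl))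
      · exact h n hn
    · exact h n hn

theorem theta2_surjective (θ : K2pres →* J2) (hθ : ∀ x, θ (PresentedGroup.of x) = gJ x) :
    Function.Surjective θ := by
  rw [← MonoidHom.range_eq_top, eq_top_iff, ← closure_toJ, Subgroup.closure_le]
  have hR : ∀ l, l < 5 → gl l ∈ θ.range := by
    intro l hl
    interval_cases l
    · exact ⟨PresentedGroup.of .a, hθ .a⟩
    · exact ⟨PresentedGroup.of .b, hθ .b⟩
    · exact ⟨PresentedGroup.of .c, hθ .c⟩
    · exact ⟨PresentedGroup.of .d, hθ .d⟩
    · exact ⟨PresentedGroup.of .e, hθ .e⟩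
  have h0 : ∀ n ∈ [0], n < 315 ∧ (Rn n).toJ ∈ θ.range := by
    intro n hn
    rw [List.mem_singleton] at hn
    subst hn
    refine ⟨by norm_num, ?_⟩
    have e : (Rn 0).toJ = gl 0 := by
      show (Rn 0).toJ = wordJ [0]
      rw [wordJ_cons, wordJ_nil, mul_one]
    rw [e]
    exact hR 0 (by norm_num)
  have hall := reach_sound θ.range hR tree [0] h0
  rintro _ ⟨x, rfl⟩
  obtain ⟨n, hn, rfl⟩ := Rn_surj x
  have hmem := (List.all_eq_true.1 reach_ok) n (List.mem_range.2 hn)
  exact (hall n (by simpa using hmem)).2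

/-- the group of the sub-presentation on `a, …, e` is the Hall–Janko group -/
theorem k2_iso : Nonempty (K2pres ≃* J2) := by
  obtain ⟨θ, hθ⟩ := exists_theta2
  have hs := theta2_surjective θ hθ
  have hK := Cfsg.Agent.Lib.Helper96_SuzOrderUpper.card2
  have := hK.1
  have hb : Function.Bijective θ := by
    apply hs.bijective_of_nat_card_le
    rw [Cfsg.Agent.S1619.result.2.2.2]
    exact hK.2
  exact ⟨MulEquiv.ofBijective θ hb⟩

theorem k2_card : Nat.card K2pres = 604800 := by
  obtain ⟨e⟩ := k2_iso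
  rw [Nat.card_congr e.toEquiv]
  exact Cfsg.Agent.S1619.result.2.2.2

end Cfsg.Agent.Lib.helper19_G24J
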