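import Mathlib
import Cfsg.Agent.Lib.helper19_G24PD

/-! Generated: the lengths of the suborbits in the action of the group `⟨a, …, f⟩` (of type `G₂(4)`) on the 416
cosets of `⟨a, …, e⟩`; by helper19. -/

set_option autoImplicit false
set_option maxRecDepth 1000000

namespace Cfsg.Agent.Lib.helper19_G24PD

/-- the lengths of the suborbits of the stabiliser of the point `0` -/
def cnt0 (c : ℕ) : ℕ := [1, 100, 315].getD c 0

theorem cnt0_ok : ∀ c ∈ List.range 3,
    ((List.range 416).filter fun x => decide (lab0 x = c)).length = cnt0 c := by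
  decide +kernel

theorem cnt1_ok : ∀ i ∈ List.range 3,
    ((List.range 416).filter fun x => decide (lab0 x = 1 ∧ L1.getD x 0 = i)).length = cnt1 i := by
  decide +kernel

theorem cnt2_ok : ∀ i ∈ List.range 6,
    ((List.range 416).filter fun x => decide (lab0 x = 2 ∧ L2.getD x 0 = i)).length = cnt2 i := by
  decide +kernel

end Cfsg.Agent.Lib.helper19_G24PD
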