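import Mathlib

/-! A point stabiliser is a maximal subgroup when no union of suborbits has an admissible size: let `G` act on
`X`, let `O` be the orbit of `x₀` and `S` the stabiliser of `x₀`, and let the points of `O` be labelled so that
points with equal labels are conjugate under `S` and only `x₀` has label `0`.  If no sum of sizes of label
classes (including the class of `x₀`) other than `1` and `|O|` divides `|O|`, then `S` is a maximal subgroup;
by helper19. -/

set_option autoImplicit false

namespace Cfsg.Agent.Lib.helper19_Maxi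

open MulAction

variable {G : Type*} [Group G] {X : Type*} [MulAction G X]

theorem stabilizer_subgroup_eq (M : Subgroup G) (x : X) :
    stabilizer M x = (stabilizer G x).subgroupOf M := by
  ext m
  simp only [mem_stabilizer_iff, Subgroup.mem_subgroupOf]
  rfl

/-- the orbit of a point under a subgroup, as a set -/
def sorbit (M : Subgroup G) (x : X) : Set X := {y | ∃ m ∈ M, m • x = y}

theorem sorbit_eq (M : Subgroup G) (x : X) : sorbit M x = orbit M x := by
  ext y
  constructor
  · rintro ⟨m, hm, rfl⟩
    exact ⟨⟨m, hm⟩, rfl⟩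
  · rintro ⟨⟨m, hm⟩, rfl⟩
    exact ⟨m, hm, rfl⟩

theorem ncard_sorbit (M : Subgroup G) (x : X) : (sorbit M x).ncard = (stabilizer G x).relIndex M := by
  rw [sorbit_eq, ← index_stabilizer, stabilizer_subgroup_eq]
  rfl

theorem ncard_orbit (x : X) : (orbit G x).ncard = (stabilizer G x).index := (index_stabilizer G x).symm

theorem ncard_sorbit_dvd (M : Subgroup G) (x : X) (h : stabilizer G x ≤ M) :
    (sorbit M x).ncard ∣ (orbit G x).ncard := by
  rw [ncard_sorbit, ncard_orbit, ← Subgroup.relIndex_mul_index h]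
  exact Dvd.intro _ rfl

theorem eq_top_of_sorbit (M : Subgroup G) (x : X) (h : stabilizer G x ≤ M)
    (hB : ∀ g : G, g • x ∈ sorbit M x) : M = ⊤ := by
  rw [eq_top_iff]
  intro g _
  obtain ⟨m, hm, hmg⟩ := hB g
  have hs : m⁻¹ * g ∈ stabilizer G x := by
    rw [mem_stabilizer_iff, mul_smul, ← hmg, inv_smul_smul]
  have : g = m * (m⁻¹ * g) := by group
  rw [this]
  exact M.mul_mem hm (h hs)

/-- the criterion -/
theorem isCoatom_stabilizer (x₀ : X) (O : Finset X) (hO : ∀ x, x ∈ O ↔ x ∈ orbit G x₀)
    (lab : X → ℕ) (r : ℕ) (hlab : ∀ x ∈ O, lab x < r)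
    (hl0 : lab x₀ = 0) (h0 : ∀ x ∈ O, lab x = 0 → x = x₀)
    (hconn : ∀ x ∈ O, ∀ y ∈ O, lab x = lab y → ∃ s ∈ stabilizer G x₀, s • x = y)
    (N : ℕ) (hNO : O.card = N) (hN : 2 ≤ N) (cnt : ℕ → ℕ)
    (hcnt : ∀ i < r, (O.filter fun x => lab x = i).card = cnt i)
    (harith' : ∀ I ∈ (Finset.range r).powerset, 0 ∈ I →
      (∑ i ∈ I, cnt i) ∣ N → I = {0} ∨ I = Finset.range r) :
    IsCoatom (stabilizer G x₀) := by
  classical
  subst hNO
  have harith : ∀ I ∈ (Finset.range r).powerset, 0 ∈ I →
      (∑ i ∈ I, (O.filter fun x => lab x = i).card) ∣ O.card → I = {0} ∨ I = Finset.range r := by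
    intro I hI h0I hd
    apply harith' I hI h0I
    rw [← Finset.sum_congr rfl (fun i hi => hcnt i (Finset.mem_range.1 (Finset.mem_powerset.1 hI hi)))]
    exact hd
  have hx₀ : x₀ ∈ O := (hO x₀).2 (mem_orbit_self x₀)
  have hOcard : (orbit G x₀).ncard = O.card := by
    have : orbit G x₀ = (O : Set X) := by
      ext x
      exact (hO x).symm
    rw [this, Set.ncard_coe_finset]
  constructor
  · -- the stabiliser is not everything
    intro htop
    have : ∀ x ∈ O, x = x₀ := by
      intro x hx
      obtain ⟨g, rfl⟩ := (hO x).1 hx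
      have : g ∈ stabilizer G x₀ := by rw [htop]; trivial
      exact this
    have hle : O.card ≤ 1 := Finset.card_le_one.2 (fun a ha b hb => (this a ha).trans (this b hb).symm)
    omega
  · intro M hM
    have hle : stabilizer G x₀ ≤ M := le_of_lt hM
    -- the orbit of `x₀` under `M`
    set B : Set X := sorbit M x₀ with hBdef
    have hBO : ∀ x ∈ B, x ∈ O := by
      rintro x ⟨m, _, rfl⟩
      exact (hO _).2 ⟨m, rfl⟩
    have hx₀B : x₀ ∈ B := ⟨1, M.one_mem, one_smul _ _⟩
    -- the labels met by `B`
    let I : Finset ℕ := (Finset.range r).filter fun i => ∃ x ∈ O, x ∈ B ∧ lab x = i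
    have hI : I ∈ (Finset.range r).powerset := by
      rw [Finset.mem_powerset]
      exact Finset.filter_subset _ _
    have hBI : ∀ x ∈ O, x ∈ B ↔ lab x ∈ I := by
      intro x hx
      constructor
      · intro hxB
        rw [Finset.mem_filter]
        exact ⟨Finset.mem_range.2 (hlab x hx), x, hx, hxB, rfl⟩
      · intro hxI
        rw [Finset.mem_filter] at hxI
        obtain ⟨_, y, hy, hyB, hyl⟩ := hxI
        obtain ⟨s, hs, rfl⟩ := hconn y hy x hx hyl
        obtain ⟨m, hm, rfl⟩ := hyB
        exact ⟨s * m, M.mul_mem (hle hs) hm, mul_smul _ _ _⟩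
    have h0I : 0 ∈ I := by
      rw [← hl0]
      exact (hBI x₀ hx₀).1 hx₀B
    have hBfin : B = ((O.filter fun x => lab x ∈ I : Finset X) : Set X) := by
      ext x
      simp only [Finset.coe_filter, Set.mem_ofPred_eq]
      constructor
      · intro hx
        exact ⟨hBO x hx, (hBI x (hBO x hx)).1 hx⟩
      · rintro ⟨hx, hxI⟩
        exact (hBI x hx).2 hxI
    have hBcard : B.ncard = ∑ i ∈ I, (O.filter fun x => lab x = i).card := by
      rw [hBfin, Set.ncard_coe_finset]
      rw [Finset.card_eq_sum_card_fiberwise (f := lab) (t := I)]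
      · apply Finset.sum_congr rfl
        intro i hi
        congr 1
        ext x
        simp only [Finset.mem_filter]
        constructor
        · rintro ⟨⟨hx, _⟩, rfl⟩
          exact ⟨hx, rfl⟩
        · rintro ⟨hx, rfl⟩
          exact ⟨⟨hx, hi⟩, rfl⟩
      · intro x hx
        exact (Finset.mem_filter.1 hx).2
    have hdvd : (∑ i ∈ I, (O.filter fun x => lab x = i).card) ∣ O.card := by
      rw [← hBcard, ← hOcard]
      exact ncard_sorbit_dvd M x₀ hle
    rcases harith I hI h0I hdvd with hI0 | hIr
    · -- `B = {x₀}`, so `M` is the stabiliser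
      exfalso
      apply not_le_of_gt hM
      intro m hm
      have hmB : m • x₀ ∈ B := ⟨m, hm, rfl⟩
      have hmO := hBO _ hmB
      have := (hBI _ hmO).1 hmB
      rw [hI0, Finset.mem_singleton] at this
      exact h0 _ hmO this
    · -- `B = O`, so `M` is everything
      apply eq_top_of_sorbit M x₀ hle
      intro g
      have hgO : g • x₀ ∈ O := (hO _).2 ⟨g, rfl⟩
      rw [← hBdef]
      apply (hBI _ hgO).2
      rw [hIr]
      exact Finset.mem_range.2 (hlab _ hgO)

end Cfsg.Agent.Lib.helper19_Maxi
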