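import Mathlib
import Cfsg.Agent.Lib.helper19_G24H
import Cfsg.Agent.Lib.helper19_G24PD
import Cfsg.Agent.Lib.Helper96_SuzOrderUpper
import Cfsg.Agent.Lib.helper19_G24PC
import Cfsg.Agent.Lib.helper19_Maxi

/-! The group `K1` of the sub-presentation on `a, …, f` of the presentation of the Suzuki group acts on 416
points; the stabiliser `H` of a point is a maximal subgroup, and the stabiliser in `H` of any other point is a
maximal subgroup of `H` (suborbits of lengths `1, 100, 315`, then `1, 36, 63` and `1, 10, 32, 32, 80, 160`);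
by helper19. -/

set_option autoImplicit false

namespace Cfsg.Agent.Lib.helper19_G24P

open Cfsg Cfsg.Spor MulAction
open Cfsg.Agent.Lib.Helper96_SuzSub Cfsg.Agent.Lib.Helper96_SubPres
open Cfsg.Agent.Lib.helper19_G24H Cfsg.Agent.Lib.helper19_G24PD Cfsg.Agent.Lib.helper19_Maxi

/-- the points -/
abbrev Pt : Type := Fin 416

/-! ### counting -/

theorem card_range_filter (p : ℕ → Bool) (n : ℕ) :
    ((Finset.range n).filter fun x => p x = true).card = ((List.range n).filter p).length := by
  induction n with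
  | zero => rfl
  | succ n ih =>
    rw [Finset.range_add_one, Finset.filter_insert, List.range_succ, List.filter_append, List.length_append, ← ih]
    by_cases h : p n = true
    · rw [if_pos h, Finset.card_insert_of_notMem (by simp)]
      simp [h]
    · rw [if_neg h]
      simp [h]

theorem card_filter_fin (n : ℕ) (p : ℕ → Prop) [DecidablePred p] :
    (Finset.univ.filter fun x : Fin n => p x.val).card =
      ((List.range n).filter fun x => decide (p x)).length := by
  rw [← card_range_filter (fun x => decide (p x)) n]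
  have h1 : (Finset.univ.filter fun x : Fin n => p x.val).card =
      ∑ i : Fin n, (fun j : ℕ => if p j then 1 else 0) i.val := by
    rw [Finset.card_filter]
  have h2 : ((Finset.range n).filter fun x => decide (p x) = true).card =
      ∑ i ∈ Finset.range n, (fun j : ℕ => if p j then 1 else 0) i := by
    rw [Finset.card_filter]
    apply Finset.sum_congr rfl
    intro i _
    simp
  rw [h1, h2]
  exact Fin.sum_univ_eq_sum_range (fun j : ℕ => if p j then 1 else 0) n

theorem card_filter_filter_fin (n : ℕ) (p q : ℕ → Prop) [DecidablePred p] [DecidablePred q] :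
    ((Finset.univ.filter fun x : Fin n => p x.val).filter fun x => q x.val).card =
      ((List.range n).filter fun x => decide (p x ∧ q x)).length := by
  rw [Finset.filter_filter]
  exact card_filter_fin n (fun x => p x ∧ q x)

theorem act_lt {l i : ℕ} (hl : l < 6) (hi : i < 416) : act l i < 416 :=
  (act_ok l (List.mem_range.2 hl) i (List.mem_range.2 hi)).1

theorem act_act {l i : ℕ} (hl : l < 6) (hi : i < 416) : act l (act l i) = i :=
  (act_ok l (List.mem_range.2 hl) i (List.mem_range.2 hi)).2

/-- the permutation of a generator -/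
def sg (x : K1.Gen) : Equiv.Perm Pt where
  toFun i := ⟨act (li x) i.val, act_lt (li_lt_six x) i.isLt⟩
  invFun i := ⟨act (li x) i.val, act_lt (li_lt_six x) i.isLt⟩
  left_inv i := Fin.ext (act_act (li_lt_six x) i.isLt)
  right_inv i := Fin.ext (act_act (li_lt_six x) i.isLt)

theorem sg_apply (x : K1.Gen) (i : Pt) : ((sg x i : Pt) : ℕ) = act (li x) i.val := rfl

/-- the permutation of a word -/
def pw (w : List K1.Gen) : Equiv.Perm Pt := (w.map sg).prod

theorem pw_apply (w : List K1.Gen) (i : Pt) : ((pw w i : Pt) : ℕ) = evw (w.map li) i.val := by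
  induction w with
  | nil => rfl
  | cons x w ih =>
    have e : pw (x :: w) = sg x * pw w := by simp [pw]
    rw [e, Equiv.Perm.mul_apply, sg_apply, ih]
    rfl

theorem pw_eq (u v : List K1.Gen)
    (h : ∀ i ∈ List.range 416, evw (u.map li) i = evw (v.map li) i) : pw u = pw v := by
  ext i
  rw [pw_apply, pw_apply]
  exact h i.val (List.mem_range.2 i.isLt)

theorem pw_eq_one (u : List K1.Gen)
    (h : ∀ i ∈ List.range 416, evw (u.map li) i = i) : pw u = 1 := by
  ext i
  rw [pw_apply]
  exact h i.val (List.mem_range.2 i.isLt)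

theorem sg_sq (x : K1.Gen) : sg x * sg x = 1 := by
  ext i
  rw [Equiv.Perm.mul_apply, sg_apply, sg_apply]
  exact act_act (li_lt_six x) i.isLt

theorem sg_ab : (sg .a * sg .b) ^ 5 = 1 := by
  have h0 : ∀ i ∈ List.range 416, evw (List.map li [.a, .b, .a, .b, .a, .b, .a, .b, .a, .b]) i = i := rel_ab
  have h := pw_eq_one _ h0
  rw [← h]
  simp only [pw, List.map_cons, List.map_nil, List.prod_cons, List.prod_nil, mul_one, pow_succ, pow_zero,
    one_mul, mul_assoc]

theorem sg_bc : (sg .b * sg .c) ^ 3 = 1 := by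
  have h0 : ∀ i ∈ List.range 416, evw (List.map li [.b, .c, .b, .c, .b, .c]) i = i := rel_bc
  have h := pw_eq_one _ h0
  rw [← h]
  simp only [pw, List.map_cons, List.map_nil, List.prod_cons, List.prod_nil, mul_one, pow_succ, pow_zero,
    one_mul, mul_assoc]

theorem sg_cd : (sg .c * sg .d) ^ 8 = 1 := by
  have h0 : ∀ i ∈ List.range 416, evw (List.map li
    [.c, .d, .c, .d, .c, .d, .c, .d, .c, .d, .c, .d, .c, .d, .c, .d]) i = i := rel_cd
  have h := pw_eq_one _ h0
  rw [← h]
  simp only [pw, List.map_cons, List.map_nil, List.prod_cons, List.prod_nil, mul_one, pow_succ, pow_zero,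
    one_mul, mul_assoc]

theorem sg_de : (sg .d * sg .e) ^ 3 = 1 := by
  have h0 : ∀ i ∈ List.range 416, evw (List.map li [.d, .e, .d, .e, .d, .e]) i = i := rel_de
  have h := pw_eq_one _ h0
  rw [← h]
  simp only [pw, List.map_cons, List.map_nil, List.prod_cons, List.prod_nil, mul_one, pow_succ, pow_zero,
    one_mul, mul_assoc]

theorem sg_bf : (sg .b * sg .f) ^ 3 = 1 := by
  have h0 : ∀ i ∈ List.range 416, evw (List.map li [.b, .f, .b, .f, .b, .f]) i = i := rel_bf
  have h := pw_eq_one _ h0
  rw [← h]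
  simp only [pw, List.map_cons, List.map_nil, List.prod_cons, List.prod_nil, mul_one, pow_succ, pow_zero,
    one_mul, mul_assoc]

theorem sg_comm (x y : K1.Gen)
    (h : ∀ i ∈ List.range 416, evw [li x, li y] i = evw [li y, li x] i) : sg x * sg y = sg y * sg x := by
  have h' := pw_eq [x, y] [y, x] h
  simpa [pw] using h'

theorem sg_a_eq : sg .a = (sg .c * sg .d) ^ 4 := by
  have h0 : ∀ i ∈ List.range 416, evw (List.map li [.c, .d, .c, .d, .c, .d, .c, .d]) i =
      evw (List.map li [.a]) i := rel_cd4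
  have h := pw_eq _ _ h0
  have h' : (sg .c * sg .d) ^ 4 = sg .a := by
    have e : pw [K1.Gen.a] = sg .a := by simp [pw]
    rw [← e, ← h]
    simp only [pw, List.map_cons, List.map_nil, List.prod_cons, List.prod_nil, mul_one, pow_succ, pow_zero,
      one_mul, mul_assoc]
  exact h'.symm

theorem sg_abcf : (sg .a * sg .b * sg .c * sg .f) ^ 5 = 1 := by
  have h0 : ∀ i ∈ List.range 416, evw (List.map li
    [.a, .b, .c, .f, .a, .b, .c, .f, .a, .b, .c, .f, .a, .b, .c, .f, .a, .b, .c, .f]) i = i := rel_abcf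
  have h := pw_eq_one _ h0
  rw [← h]
  simp only [pw, List.map_cons, List.map_nil, List.prod_cons, List.prod_nil, mul_one, pow_succ, pow_zero,
    one_mul, mul_assoc]

theorem sg_last : ((sg .b * sg .c * sg .d * sg .c * sg .d) ^ 5 * sg .e) ^ 3 = 1 := by
  have h0 : ∀ i ∈ List.range 416, evw (List.map li
    [.b, .c, .d, .c, .d, .b, .c, .d, .c, .d, .b, .c, .d, .c, .d, .b, .c, .d, .c, .d, .b, .c, .d, .c, .d, .e,
     .b, .c, .d, .c, .d, .b, .c, .d, .c, .d, .b, .c, .d, .c, .d, .b, .c, .d, .c, .d, .b, .c, .d, .c, .d, .e,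
     .b, .c, .d, .c, .d, .b, .c, .d, .c, .d, .b, .c, .d, .c, .d, .b, .c, .d, .c, .d, .b, .c, .d, .c, .d, .e])
      i = i := rel_last
  have h := pw_eq_one _ h0
  rw [← h]
  simp only [pw, List.map_cons, List.map_nil, List.prod_cons, List.prod_nil, mul_one, pow_succ, pow_zero,
    one_mul, mul_assoc]

theorem exists_rho : ∃ ρ : K1pres →* Equiv.Perm Pt, ∀ x, ρ (PresentedGroup.of x) = sg x :=
  exists_hom sg sg_sq sg_ab sg_bc sg_cd sg_de sg_bf
    (sg_comm _ _ comm_0_2) (sg_comm _ _ comm_0_3) (sg_comm _ _ comm_0_4) (sg_comm _ _ comm_0_5)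
    (sg_comm _ _ comm_1_3) (sg_comm _ _ comm_1_4) (sg_comm _ _ comm_2_4) (sg_comm _ _ comm_2_5)
    (sg_comm _ _ comm_3_5) (sg_comm _ _ comm_4_5) sg_a_eq sg_abcf sg_last

/-- the permutation representation -/
noncomputable def rho : K1pres →* Equiv.Perm Pt := Classical.choose exists_rho

theorem rho_of (x : K1.Gen) : rho (PresentedGroup.of x) = sg x := Classical.choose_spec exists_rho x

/-- the action on the points -/
noncomputable def actK : MulAction K1pres Pt := MulAction.compHom Pt rho

attribute [local instance] actK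

theorem smul_eq (g : K1pres) (i : Pt) : g • i = rho g i := rfl

/-- the element of a word -/
noncomputable def gw (w : List ℕ) : K1pres := (w.map fun l => (PresentedGroup.of (lt l) : K1pres)).prod

theorem lt_li' {l : ℕ} (h : l < 6) : li (lt l) = l := by
  interval_cases l <;> rfl

theorem gw_smul (w : List ℕ) (hw : ∀ l ∈ w, l < 6) (i : Pt) : ((gw w • i : Pt) : ℕ) = evw w i.val := by
  induction w with
  | nil =>
    show ((1 : K1pres) • i : Pt).val = i.val
    rw [one_smul]
  | cons l w ih =>
    have e : gw (l :: w) = PresentedGroup.of (lt l) * gw w := by simp [gw]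
    have hl : l < 6 := hw l List.mem_cons_self
    rw [e, mul_smul, smul_eq (PresentedGroup.of (lt l)), rho_of, sg_apply,
      ih (fun j hj => hw j (List.mem_cons_of_mem _ hj)), lt_li' hl]
    rfl

/-- the point with a given number -/
def pt (n : ℕ) (h : n < 416) : Pt := ⟨n, h⟩

/-- the stabiliser of the base point -/
noncomputable def H : Subgroup K1pres := stabilizer K1pres (pt 0 (by norm_num))

theorem gw_mem_H (w : List ℕ) (hw : ∀ l ∈ w, l < 6) (h : evw w 0 = 0) : gw w ∈ H := by
  show gw w • pt 0 (by norm_num) = pt 0 (by norm_num)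
  apply Fin.ext
  rw [gw_smul w hw]
  exact h

theorem of_mem_H (x : K1.Gen) (hx : li x < 5) : (PresentedGroup.of x : K1pres) ∈ H := by
  show (PresentedGroup.of x : K1pres) • pt 0 (by norm_num) = pt 0 (by norm_num)
  apply Fin.ext
  rw [smul_eq, rho_of, sg_apply]
  exact fix_zero _ (List.mem_range.2 hx)

theorem mem_getD {α : Type} (L : List (List α)) (n : ℕ) (P : List α → Prop) (h : ∀ w ∈ L, P w) (h0 : P []) :
    P (L.getD n []) := by
  by_cases hn : n < L.length
  · rw [List.getD_eq_getElem _ _ hn]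
    exact h _ (List.getElem_mem hn)
  · rw [List.getD_eq_default _ _ (not_lt.1 hn)]
    exact h0

/-! ### the stabiliser is generated by `a, …, e` -/

theorem WT_letters (n : ℕ) : ∀ l ∈ WT.getD n [], l < 6 :=
  mem_getD WT n (fun w => ∀ l ∈ w, l < 6) letters_ok.1 (fun _ hl => absurd hl List.not_mem_nil)

theorem orbit_eq_univ (x : Pt) : x ∈ orbit K1pres (pt 0 (by norm_num)) := by
  refine ⟨gw (WT.getD x.val []), ?_⟩
  apply Fin.ext
  show ((gw (WT.getD x.val []) • pt 0 (by norm_num) : Pt) : ℕ) = x.val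
  rw [gw_smul _ (WT_letters _)]
  exact WT_ok x.val (List.mem_range.2 x.isLt)

theorem index_H : H.index = 416 := by
  unfold H
  rw [index_stabilizer]
  have : orbit K1pres (pt 0 (by norm_num)) = Set.univ := by
    ext x
    exact ⟨fun _ => trivial, fun _ => orbit_eq_univ x⟩
  rw [this, Set.ncard_univ]
  simp

theorem range_le_H : (subHom ok2).range ≤ H := by
  rw [MonoidHom.range_eq_map, ← PresentedGroup.closure_range_of, MonoidHom.map_closure, Subgroup.closure_le]
  rintro _ ⟨_, ⟨x, rfl⟩, rfl⟩
  rw [subHom_of]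
  apply of_mem_H
  cases x <;> decide

theorem range_eq_H : (subHom ok2).range = H := by
  apply le_antisymm range_le_H
  have hr := subHom_range ok2 _ Cfsg.Agent.Lib.Helper96_SuzOrderUpper.range2
  have hu : (subHom ok2).range.index ≠ 0 ∧ (subHom ok2).range.index ≤ 416 := by
    rw [hr]
    exact Cfsg.Agent.Lib.Helper96_SuzK1Upper.upper
  have hmul := Subgroup.relIndex_mul_index range_le_H
  rw [index_H] at hmul
  have h1 : (subHom ok2).range.relIndex H = 1 := by
    have h0 : (subHom ok2).range.relIndex H ≠ 0 := by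
      intro h0
      rw [h0, zero_mul] at hmul
      exact hu.1 hmul.symm
    have hle : (subHom ok2).range.relIndex H * 416 ≤ 416 := by
      rw [hmul]
      exact hu.2
    have hle' : (subHom ok2).range.relIndex H ≤ 1 := by
      apply Nat.le_of_mul_le_mul_right (c := 416) _ (by norm_num)
      rw [one_mul]
      exact hle
    exact le_antisymm hle' (Nat.one_le_iff_ne_zero.2 h0)
  exact Subgroup.relIndex_eq_one.1 h1

theorem lab0_smul (h : K1pres) (hh : h ∈ H) : ∀ x : Pt, lab0 (h • x).val = lab0 x.val := by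
  rw [← range_eq_H] at hh
  obtain ⟨k, rfl⟩ := hh
  have htop : k ∈ Subgroup.closure (Set.range
      (PresentedGroup.of : K2.Gen → CoxPresented K2.Gen K2.edges K2.extra)) := by
    rw [PresentedGroup.closure_range_of]
    trivial
  induction htop using Subgroup.closure_induction with
  | mem g hg =>
    obtain ⟨z, rfl⟩ := hg
    intro x
    rw [subHom_of, smul_eq, rho_of, sg_apply]
    refine lab0_ok _ (List.mem_range.2 ?_) _ (List.mem_range.2 x.isLt)
    cases z <;> decide
  | one =>
    intro x
    rw [map_one, one_smul]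
  | mul g h _ _ ihg ihh =>
    intro x
    rw [map_mul, mul_smul, ihg, ihh]
  | inv g _ ih =>
    intro x
    rw [map_inv]
    have := ih (((subHom ok2) g)⁻¹ • x)
    rw [smul_inv_smul] at this
    exact this.symm

/-! ### the first level -/

theorem W0_get (x : Pt) : lab0 x.val < 3 ∧ evw (W0.getD x.val []) 0 = 0 ∧
    evw (W0.getD x.val []) (rp0 (lab0 x.val)) = x.val := W0_ok x.val (List.mem_range.2 x.isLt)

theorem W0_letters (n : ℕ) : ∀ l ∈ W0.getD n [], l < 6 :=
  mem_getD W0 n (fun w => ∀ l ∈ w, l < 6) (fun w hw l hl => lt_trans (letters_ok.2.1 w hw l hl) (by norm_num))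
    (fun l hl => absurd hl List.not_mem_nil)

theorem W1_letters (n : ℕ) : ∀ l ∈ W1.getD n [], l < 6 :=
  mem_getD W1 n (fun w => ∀ l ∈ w, l < 6) (fun w hw l hl => lt_trans (letters_ok.2.2.1 w hw l hl) (by norm_num))
    (fun l hl => absurd hl List.not_mem_nil)

theorem W2_letters (n : ℕ) : ∀ l ∈ W2.getD n [], l < 6 :=
  mem_getD W2 n (fun w => ∀ l ∈ w, l < 6) (fun w hw l hl => lt_trans (letters_ok.2.2.2 w hw l hl) (by norm_num))
    (fun l hl => absurd hl List.not_mem_nil)

theorem rp0_lt (c : ℕ) : rp0 c < 416 := by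
  unfold rp0
  by_cases h : c < 3
  · interval_cases c <;> decide
  · rw [List.getD_eq_default _ _ (by simpa using h)]
    norm_num

/-- an element of `H` from the representative of the suborbit to the point -/
theorem exists_H_rep (x : Pt) : ∃ h ∈ H, h • pt (rp0 (lab0 x.val)) (rp0_lt _) = x := by
  obtain ⟨_, h1, h2⟩ := W0_get x
  refine ⟨gw (W0.getD x.val []), gw_mem_H _ (W0_letters _) h1, ?_⟩
  apply Fin.ext
  rw [gw_smul _ (W0_letters _)]
  exact h2

theorem isCoatom_H : IsCoatom H := by
  unfold H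
  refine isCoatom_stabilizer (pt 0 (by norm_num)) Finset.univ (fun x => ⟨fun _ => orbit_eq_univ x, fun _ => Finset.mem_univ _⟩)
    (fun x => lab0 x.val) 3 (fun x _ => (W0_get x).1) (by decide +kernel) ?_ ?_ 416 (by simp) (by norm_num)
    cnt0 ?_ (by decide)
  · intro x _ hx
    apply Fin.ext
    exact lab0_zero x.val (List.mem_range.2 x.isLt) hx
  · intro x _ y _ hxy
    obtain ⟨h1, hh1, e1⟩ := exists_H_rep x
    obtain ⟨h2, hh2, e2⟩ := exists_H_rep y
    refine ⟨h2 * h1⁻¹, H.mul_mem hh2 (H.inv_mem hh1), ?_⟩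
    rw [mul_smul, ← e1, inv_smul_smul]
    have : pt (rp0 (lab0 x.val)) (rp0_lt _) = pt (rp0 (lab0 y.val)) (rp0_lt _) := by
      apply Fin.ext
      show rp0 (lab0 x.val) = rp0 (lab0 y.val)
      rw [hxy]
    rw [this]
    exact e2
  · intro i hi
    rw [← cnt0_ok i (List.mem_range.2 hi)]
    exact card_filter_fin 416 (fun x => lab0 x = i)

theorem card_lab0 (c : ℕ) (hc : c < 3) :
    (Finset.univ.filter fun x : Pt => lab0 x.val = c).card = cnt0 c := by
  rw [← cnt0_ok c (List.mem_range.2 hc)]
  exact card_filter_fin 416 (fun x => lab0 x = c)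

/-! ### the second level -/

theorem isCoatom_stab (b : ℕ) (hb : b < 416) (c : ℕ) (hc : lab0 b = c) (hbrep : rp0 c = b)
    (L : List ℕ) (W : List (List ℕ)) (rp : ℕ → ℕ) (r : ℕ)
    (hW : ∀ x ∈ List.range 416, lab0 x = c → L.getD x 0 < r ∧ evw (W.getD x []) 0 = 0 ∧
      evw (W.getD x []) b = b ∧ evw (W.getD x []) (rp (L.getD x 0)) = x)
    (hWl : ∀ n, ∀ l ∈ W.getD n [], l < 6)
    (hL0 : ∀ x ∈ List.range 416, lab0 x = c → L.getD x 0 = 0 → x = b)
    (hLb : L.getD b 0 = 0) (hrp : ∀ i, rp i < 416)
    (N : ℕ) (hN : 2 ≤ N) (cnt : ℕ → ℕ)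
    (hNO : (Finset.univ.filter fun x : Pt => lab0 x.val = c).card = N)
    (hcnt : ∀ i < r, ((Finset.univ.filter fun x : Pt => lab0 x.val = c).filter
      fun x => L.getD x.val 0 = i).card = cnt i)
    (harith : ∀ I ∈ (Finset.range r).powerset, 0 ∈ I →
      (∑ i ∈ I, cnt i) ∣ N → I = {0} ∨ I = Finset.range r) :
    IsCoatom (stabilizer H (pt b hb)) := by
  refine isCoatom_stabilizer (pt b hb) (Finset.univ.filter fun x : Pt => lab0 x.val = c) ?_
    (fun x => L.getD x.val 0) r ?_ hLb ?_ ?_ N hNO hN cnt hcnt harith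
  · intro x
    rw [Finset.mem_filter]
    constructor
    · rintro ⟨_, hx⟩
      obtain ⟨h, hh, e⟩ := exists_H_rep x
      refine ⟨⟨h, hh⟩, ?_⟩
      rw [← e]
      show h • pt b hb = h • pt (rp0 (lab0 x.val)) (rp0_lt _)
      congr 1
      apply Fin.ext
      show b = rp0 (lab0 x.val)
      rw [hx, hbrep]
    · rintro ⟨⟨h, hh⟩, rfl⟩
      refine ⟨Finset.mem_univ _, ?_⟩
      show lab0 (h • pt b hb).val = c
      rw [lab0_smul h hh]
      exact hc
  · intro x hx
    exact (hW x.val (List.mem_range.2 x.isLt) (Finset.mem_filter.1 hx).2).1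
  · intro x hx hx0
    apply Fin.ext
    exact hL0 x.val (List.mem_range.2 x.isLt) (Finset.mem_filter.1 hx).2 hx0
  · -- elements of the stabiliser from the representative of the class to the point
    have key : ∀ x : Pt, lab0 x.val = c → ∃ s ∈ stabilizer H (pt b hb),
        s • pt (rp (L.getD x.val 0)) (hrp _) = x := by
      intro x hx
      obtain ⟨_, h1, h2, h3⟩ := hW x.val (List.mem_range.2 x.isLt) hx
      refine ⟨⟨gw (W.getD x.val []), gw_mem_H _ (hWl _) h1⟩, ?_, ?_⟩
      · show gw (W.getD x.val []) • pt b hb = pt b hb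
        apply Fin.ext
        rw [gw_smul _ (hWl _)]
        exact h2
      · show gw (W.getD x.val []) • pt (rp (L.getD x.val 0)) (hrp _) = x
        apply Fin.ext
        rw [gw_smul _ (hWl _)]
        exact h3
    intro x hx y hy hxy
    obtain ⟨s1, hs1, e1⟩ := key x (Finset.mem_filter.1 hx).2
    obtain ⟨s2, hs2, e2⟩ := key y (Finset.mem_filter.1 hy).2
    refine ⟨s2 * s1⁻¹, (stabilizer H (pt b hb)).mul_mem hs2 ((stabilizer H (pt b hb)).inv_mem hs1), ?_⟩
    rw [mul_smul, ← e1, inv_smul_smul]
    have : pt (rp (L.getD x.val 0)) (hrp _) = pt (rp (L.getD y.val 0)) (hrp _) := by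
      apply Fin.ext
      show rp (L.getD x.val 0) = rp (L.getD y.val 0)
      rw [hxy]
    rw [this]
    exact e2

theorem rp1_lt (i : ℕ) : rp1 i < 416 := by
  unfold rp1
  by_cases h : i < 3
  · interval_cases i <;> decide
  · rw [List.getD_eq_default _ _ (by simpa using h)]
    norm_num

theorem rp2_lt (i : ℕ) : rp2 i < 416 := by
  unfold rp2
  by_cases h : i < 6
  · interval_cases i <;> decide
  · rw [List.getD_eq_default _ _ (by simpa using h)]
    norm_num

theorem isCoatom_stab1 : IsCoatom (stabilizer H (pt 38 (by norm_num))) := by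
  refine isCoatom_stab 38 (by norm_num) 1 L1_base.1 (by decide) L1 W1 rp1 3 W1_ok W1_letters L1_zero L1_base.2
    rp1_lt 100 (by norm_num) cnt1 (card_lab0 1 (by norm_num)) ?_ (by decide)
  intro i hi
  rw [← cnt1_ok i (List.mem_range.2 hi)]
  exact card_filter_filter_fin 416 (fun x => lab0 x = 1) (fun x => L1.getD x 0 = i)

theorem isCoatom_stab2 : IsCoatom (stabilizer H (pt 1 (by norm_num))) := by
  refine isCoatom_stab 1 (by norm_num) 2 L2_base.1 (by decide) L2 W2 rp2 6 W2_ok W2_letters L2_zero L2_base.2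
    rp2_lt 315 (by norm_num) cnt2 (card_lab0 2 (by norm_num)) ?_ (by decide)
  intro i hi
  rw [← cnt2_ok i (List.mem_range.2 hi)]
  exact card_filter_filter_fin 416 (fun x => lab0 x = 2) (fun x => L2.getD x 0 = i)

/-! ### all two-point stabilisers -/

theorem isCoatom_conj {G : Type*} [Group G] (K : Subgroup G) (g : G) (h : IsCoatom K) :
    IsCoatom (K.map (MulAut.conj g).toMonoidHom) := by
  have e : K.map (MulAut.conj g).toMonoidHom = (MulEquiv.mapSubgroup (MulAut.conj g)) K := rfl
  rw [e]
  exact (OrderIso.isCoatom_iff _ _).2 h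

theorem isCoatom_stab_all (x : Pt) (hx : x ≠ pt 0 (by norm_num)) : IsCoatom (stabilizer H x) := by
  obtain ⟨h3, _, _⟩ := W0_get x
  have h0 : lab0 x.val ≠ 0 := fun h => hx (Fin.ext (lab0_zero x.val (List.mem_range.2 x.isLt) h))
  obtain ⟨h, hh, e⟩ := exists_H_rep x
  have e' : (⟨h, hh⟩ : H) • pt (rp0 (lab0 x.val)) (rp0_lt _) = x := e
  rw [← e', stabilizer_smul_eq_stabilizer_map_conj]
  apply isCoatom_conj
  have hl : lab0 x.val = 1 ∨ lab0 x.val = 2 := by omega
  rcases hl with hl | hl
  · have : pt (rp0 (lab0 x.val)) (rp0_lt _) = pt 38 (by norm_num) := by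
      apply Fin.ext
      show rp0 (lab0 x.val) = 38
      rw [hl]
      decide
    rw [this]
    exact isCoatom_stab1
  · have : pt (rp0 (lab0 x.val)) (rp0_lt _) = pt 1 (by norm_num) := by
      apply Fin.ext
      show rp0 (lab0 x.val) = 1
      rw [hl]
      decide
    rw [this]
    exact isCoatom_stab2

/-- the stabiliser of a point is maximal, and so is the stabiliser of any second point in it -/
theorem main_P : IsCoatom H ∧
    ∀ x : K1pres, x ∉ H → IsCoatom ((H ⊓ H.map (MulAut.conj x).toMonoidHom).subgroupOf H) := by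
  refine ⟨isCoatom_H, ?_⟩
  intro x hx
  have hne : x • pt 0 (by norm_num) ≠ pt 0 (by norm_num) := fun h => hx h
  have h1 : H.map (MulAut.conj x).toMonoidHom = stabilizer K1pres (x • pt 0 (by norm_num)) := by
    rw [stabilizer_smul_eq_stabilizer_map_conj]
    rfl
  rw [h1, Subgroup.inf_subgroupOf_left, ← stabilizer_subgroup_eq]
  exact isCoatom_stab_all _ hne

end Cfsg.Agent.Lib.helper19_G24P
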