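import Mathlib
import Cfsg.Agent.Lib.Helper18_ChevBasic
import Cfsg.Agent.Lib.helper19_G24
import Cfsg.Agent.Lib.helper19_G24P
import Cfsg.Agent.Lib.helper19_G24J

/-! The Chevalley group `G₂(4)` has a maximal subgroup isomorphic to the Hall–Janko group in which the
stabiliser of every further point of the 416 cosets is maximal: assembled from the permutation action of the
presented group `K1` on 416 points, the isomorphism of `K1` with the Chevalley group, and the isomorphism of
the presented group `K2` with the Hall–Janko group; by helper19. -/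

set_option autoImplicit false

namespace Cfsg.Agent.Lib.helper19_G24Z

open Cfsg Cfsg.Spor Cfsg.Lie
open Cfsg.Agent.Lib.Helper96_SuzSub Cfsg.Agent.Lib.Helper96_SubPres
open Cfsg.Agent.Lib.helper19_G24H Cfsg.Agent.Lib.helper19_G24M Cfsg.Agent.Lib.helper19_G24
open Cfsg.Agent.Lib.helper19_G24P Cfsg.Agent.Lib.helper19_G24J

/-! ### the point stabiliser is the Hall–Janko group -/

theorem card_H : Nat.card H = 604800 := by
  have h := Subgroup.index_mul_card H
  rw [index_H, k1_card] at h
  omega

theorem isoJ2_H : IsoJ2 H := by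
  have hK := Cfsg.Agent.Lib.Helper96_SuzOrderUpper.card2
  have hc : Nat.card (subHom ok2).range = 604800 := by
    rw [range_eq_H]
    exact card_H
  obtain ⟨e1⟩ := equiv_range_of_card (subHom ok2) hK.1 604800 hK.2 hc
  obtain ⟨e2⟩ := k2_iso
  exact ⟨(MulEquiv.subgroupCongr range_eq_H).symm.trans (e1.symm.trans e2)⟩

/-- the statement for a group -/
def Good (G : Type*) [Group G] : Prop :=
  ∃ H : Subgroup G, IsCoatom H ∧ IsoJ2 H ∧
    ∀ x : G, x ∉ H → IsCoatom ((H ⊓ H.map (MulAut.conj x).toMonoidHom).subgroupOf H)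

theorem good_K1 : Good K1pres := ⟨H, main_P.1, isoJ2_H, main_P.2⟩

/-! ### transfer along an isomorphism -/

theorem isCoatom_subgroupOf_map {G G' : Type*} [Group G] [Group G'] (E : G ≃* G') (K H : Subgroup G)
    (h : IsCoatom (K.subgroupOf H)) :
    IsCoatom ((K.map E.toMonoidHom).subgroupOf (H.map E.toMonoidHom)) := by
  have e : (K.map E.toMonoidHom).subgroupOf (H.map E.toMonoidHom) =
      MulEquiv.mapSubgroup (E.subgroupMap H) (K.subgroupOf H) := by
    ext y
    rw [Subgroup.mem_subgroupOf]
    constructor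
    · rintro ⟨k, hk, hky⟩
      obtain ⟨h, hh, hhy⟩ := y.2
      have hkh : k = h := E.injective (hky.trans hhy.symm)
      subst hkh
      exact ⟨⟨k, hh⟩, Subgroup.mem_subgroupOf.2 hk, Subtype.ext hky⟩
    · rintro ⟨z, hz, rfl⟩
      exact ⟨z.1, Subgroup.mem_subgroupOf.1 hz, rfl⟩
  rw [e]
  exact (OrderIso.isCoatom_iff _ _).2 h

theorem good_of_equiv {G G' : Type*} [Group G] [Group G'] (E : G ≃* G') (h : Good G) : Good G' := by
  obtain ⟨H, h1, h2, h3⟩ := h
  refine ⟨H.map E.toMonoidHom, ?_, ?_, ?_⟩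
  · have e : H.map E.toMonoidHom = (MulEquiv.mapSubgroup E) H := rfl
    rw [e]
    exact (OrderIso.isCoatom_iff _ _).2 h1
  · obtain ⟨f⟩ := h2
    exact ⟨(E.subgroupMap H).symm.trans f⟩
  · intro x' hx'
    obtain ⟨x, rfl⟩ := E.surjective x'
    have hx : x ∉ H := fun h => hx' ⟨x, h, rfl⟩
    have key := isCoatom_subgroupOf_map E (H ⊓ H.map (MulAut.conj x).toMonoidHom) H (h3 x hx)
    have e : (H ⊓ H.map (MulAut.conj x).toMonoidHom).map E.toMonoidHom =
        H.map E.toMonoidHom ⊓ (H.map E.toMonoidHom).map (MulAut.conj (E x)).toMonoidHom := by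
      rw [Subgroup.map_inf _ _ _ E.injective, Subgroup.map_map, Subgroup.map_map]
      congr 2
      ext y
      simp [MulAut.conj_apply]
    rw [e] at key
    exact key

/-! ### change of the field -/

/-- the isomorphism of general linear groups of an isomorphism of rings -/
def glEquiv {n : Type*} [Fintype n] [DecidableEq n] {F K : Type*} [CommRing F] [CommRing K] (σ : F ≃+* K) :
    GL n F ≃* GL n K := Units.mapEquiv (RingEquiv.mapMatrix σ).toMulEquiv

theorem glEquiv_coe {n : Type*} [Fintype n] [DecidableEq n] {F K : Type*} [CommRing F] [CommRing K]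
    (σ : F ≃+* K) (g : GL n F) : ((glEquiv σ g : GL n K) : Matrix n n K) = (g : Matrix n n F).map σ := rfl

theorem glEquiv_symm_coe {n : Type*} [Fintype n] [DecidableEq n] {F K : Type*} [CommRing F] [CommRing K]
    (σ : F ≃+* K) (g : GL n K) :
    (((glEquiv σ).symm g : GL n F) : Matrix n n F) = (g : Matrix n n K).map σ.symm := rfl

theorem group_map_eq (D : ChevalleyDatum) {F K : Type*} [Field F] [Field K] (σ : F ≃+* K) :
    (D.group F).map (glEquiv σ).toMonoidHom = D.group K := by
  unfold ChevalleyDatum.group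
  rw [MonoidHom.map_closure]
  congr 1
  ext g
  constructor
  · rintro ⟨g0, ⟨r, t, h⟩, rfl⟩
    refine ⟨r, σ t, ?_⟩
    show ((glEquiv σ g0 : GL D.Idx K) : Matrix D.Idx D.Idx K) = _
    rw [glEquiv_coe, h]
    exact Cfsg.Agent.Lib.Helper18_ChevBasic.xMat_map D σ.toRingHom r t
  · rintro ⟨r, t, h⟩
    refine ⟨(glEquiv σ).symm g, ⟨r, σ.symm t, ?_⟩, ?_⟩
    · rw [glEquiv_symm_coe, h]
      exact Cfsg.Agent.Lib.Helper18_ChevBasic.xMat_map D σ.symm.toRingHom r t
    · exact (glEquiv σ).apply_symm_apply g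

/-- the Chevalley groups over isomorphic fields are isomorphic -/
theorem group_equiv (D : ChevalleyDatum) {F K : Type*} [Field F] [Field K] (σ : F ≃+* K) :
    Nonempty (D.group F ≃* D.group K) :=
  ⟨((glEquiv σ).subgroupMap (D.group F)).trans (MulEquiv.subgroupCongr (group_map_eq D σ))⟩

theorem good_F4 : Good (chevG2.group F4) := by
  obtain ⟨e⟩ := k1_iso
  exact good_of_equiv e good_K1

theorem exists_sigma {F : Type*} [Field F] [Fintype F] (hF : Fintype.card F = 4) :
    ∃ σ : F4 ≃+* F, True :=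
  ⟨@FiniteField.ringEquivOfCardEq F4 F _ _ fintypeF4 _ (card_F4.trans hF.symm), trivial⟩

theorem exists_equiv {F : Type*} [Field F] [Fintype F] (hF : Fintype.card F = 4) :
    Nonempty (chevG2.group F4 ≃* chevG2.group F) := by
  obtain ⟨σ, _⟩ := exists_sigma hF
  exact group_equiv chevG2 σ

theorem main {F : Type*} [Field F] [Fintype F] (hF : Fintype.card F = 4) : Good (chevG2.group F) := by
  obtain ⟨e⟩ := exists_equiv hF
  exact good_of_equiv (G := chevG2.group F4) (G' := chevG2.group F) e good_F4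

end Cfsg.Agent.Lib.helper19_G24Z
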