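import Cfsg.Agent.Lib.helper19_Benes

/-! Generated: the switching network of the letter 0 for the Mathieu group M11 on 11 points; by helper19. -/

set_option autoImplicit false
set_option maxRecDepth 1000000
set_option Elab.async false

namespace Cfsg.Agent.Lib.helper19_M11PL
open Cfsg.Agent.Lib.helper19_Benes

/-- the network of the letter 0 -/
def net0 : Net :=
  .cons 0x8 8 <|
  .cons 0x0 4 <|
  .cons 0x330 2 <|
  .cons 0x50 1 <|
  .cons 0x0 2 <|
  .cons 0x0 4 <|
  .cons 0x8 8 <|
  .nil

end Cfsg.Agent.Lib.helper19_M11PL
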