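import Mathlib
import Cfsg.Agent.Lib.helper19_TC2
import Cfsg.Agent.Lib.helper19_TC2L
import Cfsg.Agent.Lib.helper19_Benes

/-!
Two-generator groups presented by relator words over the letters `0 = a`, `1 = b`, `2 = b⁻¹`
(the letter `a` is an involution: the word `[0, 0]` is among the relators), their homomorphisms to
other groups, their permutation representations given by switching networks, and a
stabiliser-chain lower bound for the order of a permutation group.  By helper19.
-/

set_option autoImplicit false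

namespace Cfsg.Agent.Lib.helper19_PG

open Cfsg.Agent.Lib.helper19_TC2 Cfsg.Agent.Lib.helper19_TC2L Cfsg.Agent.Lib.helper19_Benes

/-! ### words -/

theorem wprod_congr {G : Type*} [Group G] {s t : ℕ → G} :
    ∀ (w : List ℕ), (∀ l ∈ w, s l = t l) → wprod s w = wprod t w
  | [], _ => rfl
  | c :: w, h => by
    rw [wprod, wprod, h c (by simp), wprod_congr w (fun l hl => h l (by simp [hl]))]

theorem wprod_map {G H : Type*} [Group G] [Group H] (f : G →* H) (t : ℕ → G) :
    ∀ (w : List ℕ), f (wprod t w) = wprod (fun l => f (t l)) w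
  | [] => by simp [wprod]
  | c :: w => by rw [wprod, map_mul, wprod_map f t w]; rfl

/-! ### the presented group -/

/-- the value of a letter in the free group on two generators. -/
def lval : ℕ → FreeGroup (Fin 2)
  | 0 => FreeGroup.of 0
  | 1 => FreeGroup.of 1
  | _ => (FreeGroup.of 1)⁻¹

/-- the relators as a set. -/
def relSet (rels : List (List ℕ)) : Set (FreeGroup (Fin 2)) := {r | ∃ w ∈ rels, r = wprod lval w}

/-- the group presented by the relator words `rels`. -/
abbrev Grp (rels : List (List ℕ)) : Type := PresentedGroup (relSet rels)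

/-- the letters in the presented group. -/
noncomputable def S (rels : List (List ℕ)) (l : ℕ) : Grp rels := PresentedGroup.mk (relSet rels) (lval l)

theorem rel_holds {rels : List (List ℕ)} {w : List ℕ} (hw : w ∈ rels) : wprod (S rels) w = 1 := by
  have h : PresentedGroup.mk (relSet rels) (wprod lval w) = 1 :=
    PresentedGroup.one_of_mem ⟨w, hw, rfl⟩
  rwa [wprod_map] at h

theorem S_two (rels : List (List ℕ)) : S rels 2 = (S rels 1)⁻¹ := by
  simp [S, lval]

theorem S_zero_inv {rels : List (List ℕ)} (h : [0, 0] ∈ rels) : (S rels 0)⁻¹ = S rels 0 := by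
  have := rel_holds h
  simp only [wprod, mul_one] at this
  exact inv_eq_of_mul_eq_one_right this

theorem closure_S (rels : List (List ℕ)) : Subgroup.closure (S rels '' {s | s < 3}) = ⊤ := by
  rw [eq_top_iff, ← PresentedGroup.closure_range_of]
  apply Subgroup.closure_mono
  rintro _ ⟨x, rfl⟩
  fin_cases x
  · exact ⟨0, by decide, rfl⟩
  · exact ⟨1, by decide, rfl⟩

/-- the inverse letters. -/
def inv3 (s : ℕ) : ℕ := [0, 2, 1].getD s 0

theorem S_inv3 {rels : List (List ℕ)} (h : [0, 0] ∈ rels) (l : ℕ) (hl : l < 3) :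
    S rels (inv3 l) = (S rels l)⁻¹ := by
  interval_cases l
  · exact (S_zero_inv h).symm
  · exact S_two rels
  · show S rels 1 = (S rels 2)⁻¹
    rw [S_two, inv_inv]

section hom
variable {G : Type*} [Group G] (rels : List (List ℕ)) (t : ℕ → G)

theorem lift_lval (h2 : t 2 = (t 1)⁻¹) (l : ℕ) (hl : l < 3) :
    FreeGroup.lift (fun i : Fin 2 => t i.val) (lval l) = t l := by
  interval_cases l
  · simp [lval]
  · simp [lval]
  · simp [lval, h2]

/-- the homomorphism given by images of the letters satisfying the relators. -/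
noncomputable def homOf (hl : ∀ w ∈ rels, ∀ l ∈ w, l < 3) (h2 : t 2 = (t 1)⁻¹)
    (hrel : ∀ w ∈ rels, wprod t w = 1) : Grp rels →* G :=
  PresentedGroup.toGroup (f := fun i : Fin 2 => t i.val) (by
    rintro r ⟨w, hw, rfl⟩
    rw [wprod_map, ← hrel w hw]
    exact wprod_congr w fun l hlw => lift_lval t h2 l (hl w hw l hlw))

theorem homOf_S (hl : ∀ w ∈ rels, ∀ l ∈ w, l < 3) (h2 : t 2 = (t 1)⁻¹)
    (hrel : ∀ w ∈ rels, wprod t w = 1) (l : ℕ) (hl3 : l < 3) :
    homOf rels t hl h2 hrel (S rels l) = t l := by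
  show PresentedGroup.toGroup _ (PresentedGroup.mk _ (lval l)) = t l
  have : PresentedGroup.toGroup (rels := relSet rels) (f := fun i : Fin 2 => t i.val) (by
      rintro r ⟨w, hw, rfl⟩
      rw [wprod_map, ← hrel w hw]
      exact wprod_congr w fun l hlw => lift_lval t h2 l (hl w hw l hlw))
      (PresentedGroup.mk _ (lval l)) = FreeGroup.lift (fun i : Fin 2 => t i.val) (lval l) := rfl
  rw [this, lift_lval t h2 l hl3]

theorem homOf_wprod (hl : ∀ w ∈ rels, ∀ l ∈ w, l < 3) (h2 : t 2 = (t 1)⁻¹)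
    (hrel : ∀ w ∈ rels, wprod t w = 1) (w : List ℕ) (hw : ∀ l ∈ w, l < 3) :
    homOf rels t hl h2 hrel (wprod (S rels) w) = wprod t w := by
  rw [wprod_map]
  exact wprod_congr w fun l hlw => homOf_S rels t hl h2 hrel l (hw l hlw)

/-- the range of the homomorphism is generated by the images of `a` and `b`. -/
theorem range_homOf (hl : ∀ w ∈ rels, ∀ l ∈ w, l < 3) (h2 : t 2 = (t 1)⁻¹)
    (hrel : ∀ w ∈ rels, wprod t w = 1) :
    (homOf rels t hl h2 hrel).range = Subgroup.closure {t 0, t 1} := by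
  rw [MonoidHom.range_eq_map, ← closure_S rels, MonoidHom.map_closure]
  apply le_antisymm
  · rw [Subgroup.closure_le]
    rintro _ ⟨_, ⟨l, hl3, rfl⟩, rfl⟩
    have hl3' : l < 3 := hl3
    rw [homOf_S rels t hl h2 hrel l hl3']
    interval_cases l
    · exact Subgroup.subset_closure (by simp)
    · exact Subgroup.subset_closure (by simp)
    · rw [h2]
      exact Subgroup.inv_mem _ (Subgroup.subset_closure (by simp))
  · rw [Subgroup.closure_le]
    rintro x hx
    simp only [Set.mem_insert_iff, Set.mem_singleton_iff] at hx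
    rcases hx with rfl | rfl
    · exact Subgroup.subset_closure ⟨S rels 0, ⟨0, by decide, rfl⟩, homOf_S rels t hl h2 hrel 0 (by decide)⟩
    · exact Subgroup.subset_closure ⟨S rels 1, ⟨1, by decide, rfl⟩, homOf_S rels t hl h2 hrel 1 (by decide)⟩

end hom

/-! ### permutation representations -/

section perm
variable {N k : ℕ} {a : ℕ → ℕ → ℕ} {inv : ℕ → ℕ} (h : IsAction N k a inv)

/-- the image of a letter: the inverse of its permutation. -/
noncomputable def q (s : ℕ) : Equiv.Perm (Fin N) := (perm h s)⁻¹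

theorem pword_eq_wprod (word : List ℕ) : pword h word = wprod (q h) word := by
  induction word with
  | nil => rfl
  | cons s word ih => rw [pword_cons, ih]; rfl

theorem perm_inv {s : ℕ} (hs : s < k) : perm h (inv s) = (perm h s)⁻¹ := by
  have hc : perm h (inv s) * perm h s = 1 := by
    ext x
    rw [Equiv.Perm.mul_apply, perm_apply h (h.invk s hs), perm_apply h hs]
    exact h.cancel s hs x x.2
  exact eq_inv_of_mul_eq_one_left hc

theorem q_inv {s : ℕ} (hs : s < k) : q h (inv s) = (q h s)⁻¹ := by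
  simp only [q, perm_inv h hs]

/-- the value of a word of letters on a point. -/
theorem wprod_q_inv_apply (word : List ℕ) (hw : ∀ s ∈ word, s < k) (x : Fin N) :
    (((wprod (q h) word)⁻¹ x : Fin N) : ℕ) = tr a word x := by
  rw [← pword_eq_wprod]
  exact pword_inv_apply h word hw x

theorem wprod_q_eq_one (word : List ℕ) (hw : ∀ s ∈ word, s < k)
    (hfix : ∀ x < N, tr a word x = x) : wprod (q h) word = 1 := by
  rw [← pword_eq_wprod]
  exact pword_eq_one h word hw hfix

theorem wprod_q_ne_one (word : List ℕ) (hw : ∀ s ∈ word, s < k) (x : ℕ) (hx : x < N)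
    (hne : tr a word x ≠ x) : wprod (q h) word ≠ 1 := by
  intro h1
  apply hne
  have := wprod_q_inv_apply h word hw ⟨x, hx⟩
  rw [h1] at this
  simpa using this.symm

end perm

/-- the permutation representation of a presented group whose relators fix all points. -/
theorem exists_actHom {N : ℕ} {a : ℕ → ℕ → ℕ} (h : IsAction N 3 a inv3) (rels : List (List ℕ))
    (hl : ∀ w ∈ rels, ∀ l ∈ w, l < 3) (hfix : ∀ w ∈ rels, ∀ x < N, tr a w x = x) :
    ∃ ψ : Grp rels →* Equiv.Perm (Fin N), ∀ w : List ℕ, (∀ l ∈ w, l < 3) →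
      ψ (wprod (S rels) w) = wprod (q h) w := by
  have h2 : q h 2 = (q h 1)⁻¹ := q_inv h (s := 1) (by decide)
  have hrel : ∀ w ∈ rels, wprod (q h) w = 1 := fun w hw =>
    wprod_q_eq_one h w (hl w hw) (hfix w hw)
  exact ⟨homOf rels (q h) hl h2 hrel, fun w hw => homOf_wprod rels (q h) hl h2 hrel w hw⟩

/-! ### counting bits -/

/-- the bit `x` of `R`, by kernel-friendly operations. -/
noncomputable def bitAt (R x : ℕ) : Bool := Nat.beq (Nat.land (Nat.shiftRight R x) (nat_lit 1)) (nat_lit 1)

theorem bitAt_eq (R x : ℕ) : bitAt R x = R.testBit x := by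
  show Nat.beq ((R >>> x) &&& 1) 1 = R.testBit x
  rw [Nat.testBit, Nat.and_comm]
  rcases Nat.mod_two_eq_zero_or_one (R >>> x) with h | h
  · have h1 : 1 &&& (R >>> x) = 0 := by rw [Nat.and_comm, Nat.and_one_is_mod, h]
    rw [h1]; rfl
  · have h1 : 1 &&& (R >>> x) = 1 := by rw [Nat.and_comm, Nat.and_one_is_mod, h]
    rw [h1]; rfl

/-- the number of `x` in `[x0, x0 + n)` with the bit `x` of `R` set, plus `acc`. -/
noncomputable def countBits (R : ℕ) (n : ℕ) : ℕ → ℕ → ℕ :=
  Nat.rec (motive := fun _ => ℕ → ℕ → ℕ) (fun _ acc => acc)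
    (fun _ ih x acc => force (bsel (bitAt R x) (Nat.add acc (nat_lit 1)) acc) fun acc' =>
      ih (Nat.add x (nat_lit 1)) acc') n

theorem countBits_zero (R x acc : ℕ) : countBits R 0 x acc = acc := rfl

theorem countBits_succ (R n x acc : ℕ) :
    countBits R (n + 1) x acc = countBits R n (x + 1) (if R.testBit x then acc + 1 else acc) := by
  show countBits R n (x + 1) (bsel (bitAt R x) (acc + 1) acc) = _
  rw [bitAt_eq]
  cases R.testBit x <;> rfl

theorem countBits_eq (R : ℕ) : ∀ (n x acc : ℕ),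
    countBits R n x acc = acc + ((Finset.Ico x (x + n)).filter fun y => R.testBit y = true).card
  | 0, x, acc => by simp [countBits_zero]
  | n + 1, x, acc => by
    rw [countBits_succ, countBits_eq R n (x + 1)]
    have hI : Finset.Ico x (x + (n + 1)) = insert x (Finset.Ico (x + 1) (x + 1 + n)) := by
      ext y; simp only [Finset.mem_Ico, Finset.mem_insert]; omega
    have hx : x ∉ Finset.Ico (x + 1) (x + 1 + n) := by simp
    rw [hI, Finset.filter_insert]
    by_cases hb : R.testBit x = true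
    · rw [if_pos hb, if_pos hb, Finset.card_insert_of_notMem (fun hm => hx (Finset.mem_filter.mp hm).1)]
      omega
    · rw [if_neg hb, if_neg hb]

/-! ### the stabiliser chain -/

section chain
variable {N : ℕ}

theorem card_orbit_mul_card_stabilizer {G X : Type*} [Group G] [MulAction G X] (x : X) :
    Nat.card (MulAction.orbit G x) * Nat.card (MulAction.stabilizer G x) = Nat.card G := by
  rw [← Nat.card_prod]
  exact Nat.card_congr (MulAction.orbitProdStabilizerEquivGroup G x)

/-- one step of the chain: `m` points in the orbit of `b` under the subgroup `H`. -/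
theorem card_step (H : Subgroup (Equiv.Perm (Fin N))) (b : Fin N) (O : Finset (Fin N))
    (hO : ∀ y ∈ O, ∃ g ∈ H, g b = y) :
    O.card * Nat.card ↥(H ⊓ MulAction.stabilizer (Equiv.Perm (Fin N)) b) ≤ Nat.card H := by
  classical
  rw [← card_orbit_mul_card_stabilizer (G := H) b]
  have h1 : O.card ≤ Nat.card (MulAction.orbit H b) := by
    have hinj : Function.Injective (fun y : O => (⟨y.1, by
        obtain ⟨g, hg, hgy⟩ := hO y.1 y.2
        exact ⟨⟨g, hg⟩, hgy⟩⟩ : MulAction.orbit H b)) := by
      intro y z hyz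
      exact Subtype.ext (by simpa using congrArg Subtype.val hyz)
    have := Nat.card_le_card_of_injective _ hinj
    rwa [Nat.card_eq_fintype_card, Fintype.card_coe] at this
  have h2 : Nat.card ↥(H ⊓ MulAction.stabilizer (Equiv.Perm (Fin N)) b) =
      Nat.card (MulAction.stabilizer H b) := by
    refine Nat.card_congr ⟨fun g => ⟨⟨g.1, g.2.1⟩, ?_⟩, fun g => ⟨g.1.1, g.1.2, ?_⟩, ?_, ?_⟩
    · have h3 : g.1 ∈ MulAction.stabilizer (Equiv.Perm (Fin N)) b := g.2.2
      exact MulAction.mem_stabilizer_iff.mpr (MulAction.mem_stabilizer_iff.mp h3)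
    · have h3 : g.1 • b = b := MulAction.mem_stabilizer_iff.mp g.2
      exact (MulAction.mem_stabilizer_iff.mpr h3 :
        g.1.1 ∈ MulAction.stabilizer (Equiv.Perm (Fin N)) b)
    · intro g; rfl
    · intro g; rfl
  rw [h2]
  exact Nat.mul_le_mul_right _ h1

end chain

/-! ### orbits by sweeping with words -/

section sweep
variable {nets : List Net} {N k : ℕ} {inv : ℕ → ℕ}

/-- one sweep: add, for each word, the points mapped into the set by the word. -/
noncomputable def sweepW (nets : List Net) (ws : List (List ℕ)) (R : ℕ) : ℕ :=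
  List.rec (motive := fun _ => ℕ → ℕ) (fun R => R)
    (fun w _ ih R => force (Nat.lor R (applyW nets w R)) fun R' => ih R') ws R

theorem sweepW_nil (R : ℕ) : sweepW nets [] R = R := rfl
theorem sweepW_cons (w : List ℕ) (ws : List (List ℕ)) (R : ℕ) :
    sweepW nets (w :: ws) R = sweepW nets ws (R ||| applyW nets w R) := rfl

/-- `r` sweeps. -/
noncomputable def sweepsW (nets : List Net) (ws : List (List ℕ)) (r : ℕ) : ℕ → ℕ :=
  Nat.rec (motive := fun _ => ℕ → ℕ) (fun R => R)
    (fun _ ih R => force (sweepW nets ws R) fun R' => ih R') r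

theorem sweepsW_zero (ws : List (List ℕ)) (R : ℕ) : sweepsW nets ws 0 R = R := rfl
theorem sweepsW_succ (ws : List (List ℕ)) (r R : ℕ) :
    sweepsW nets ws (r + 1) R = sweepsW nets ws r (sweepW nets ws R) := rfl

variable (hok : ∀ s, (nthN nets s).Ok) (h : IsAction N k (act nets) inv)
  (H : Subgroup (Equiv.Perm (Fin N))) (b : Fin N)

include hok in
theorem sweepW_sound : ∀ (ws : List (List ℕ)),
    (∀ w ∈ ws, (∀ s ∈ w, s < k) ∧ wprod (q h) w ∈ H) → ∀ R : ℕ,
    (∀ x : Fin N, R.testBit x = true → ∃ g ∈ H, g b = x) →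
    ∀ x : Fin N, (sweepW nets ws R).testBit x = true → ∃ g ∈ H, g b = x
  | [], _, _, hR, x, hx => hR x hx
  | w :: ws, hws, R, hR, x, hx => by
    rw [sweepW_cons] at hx
    refine sweepW_sound ws (fun w' hw' => hws w' (by simp [hw'])) _ ?_ x hx
    intro y hy
    rw [Nat.testBit_or, Bool.or_eq_true] at hy
    rcases hy with hy | hy
    · exact hR y hy
    · obtain ⟨hw, hwH⟩ := hws w (by simp)
      rw [testBit_applyW hok] at hy
      have hval := wprod_q_inv_apply h w hw y
      rw [← hval] at hy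
      obtain ⟨g, hg, hgb⟩ := hR _ hy
      refine ⟨wprod (q h) w * g, H.mul_mem hwH hg, ?_⟩
      rw [Equiv.Perm.mul_apply, hgb]
      simp

include hok in
theorem sweepsW_sound (ws : List (List ℕ))
    (hws : ∀ w ∈ ws, (∀ s ∈ w, s < k) ∧ wprod (q h) w ∈ H) : ∀ (r R : ℕ),
    (∀ x : Fin N, R.testBit x = true → ∃ g ∈ H, g b = x) →
    ∀ x : Fin N, (sweepsW nets ws r R).testBit x = true → ∃ g ∈ H, g b = x
  | 0, _, hR, x, hx => hR x hx
  | r + 1, R, hR, x, hx => by
    rw [sweepsW_succ] at hx
    exact sweepsW_sound ws hws r _ (sweepW_sound hok h H b ws hws R hR) x hx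

include hok in
/-- the chain step from a sweep: `m` points are reached from `b` by words whose permutations lie in
the subgroup `H`. -/
theorem card_step_of_sweeps (ws : List (List ℕ))
    (hws : ∀ w ∈ ws, (∀ s ∈ w, s < k) ∧ wprod (q h) w ∈ H) (r m : ℕ)
    (hc : Nat.ble m (countBits (sweepsW nets ws r (2 ^ b.val)) N 0 0) = true) :
    m * Nat.card ↥(H ⊓ MulAction.stabilizer (Equiv.Perm (Fin N)) b) ≤ Nat.card H := by
  classical
  set R := sweepsW nets ws r (2 ^ b.val) with hRdef
  have hreach : ∀ x : Fin N, R.testBit x = true → ∃ g ∈ H, g b = x := by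
    refine sweepsW_sound hok h H b ws hws r _ ?_
    intro x hx
    rw [Nat.testBit_two_pow] at hx
    have hbx : b = x := Fin.ext (by simpa using hx)
    exact ⟨1, H.one_mem, by simpa using hbx⟩
  let O : Finset (Fin N) := Finset.univ.filter fun x => R.testBit x.val = true
  have hOcard : m ≤ O.card := by
    have h1 := Nat.le_of_ble_eq_true hc
    rw [countBits_eq, Nat.zero_add, Nat.zero_add] at h1
    refine le_trans h1 (le_of_eq ?_)
    rw [← Finset.card_map Fin.valEmbedding]
    congr 1
    ext y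
    simp only [Finset.mem_filter, Finset.mem_Ico, Finset.mem_map, Finset.mem_univ, true_and,
      Fin.valEmbedding_apply, O]
    constructor
    · rintro ⟨⟨_, hy⟩, hb⟩
      exact ⟨⟨y, hy⟩, hb, rfl⟩
    · rintro ⟨x, hb, rfl⟩
      exact ⟨⟨Nat.zero_le _, x.2⟩, hb⟩
  have hstep := card_step H b O (fun y hy => hreach y (Finset.mem_filter.mp hy).2)
  exact le_trans (Nat.mul_le_mul_right _ hOcard) hstep

end sweep

/-! ### values of words on single points, by bit vectors -/

theorem tr_eq_of_applyW {nets : List Net} (hok : ∀ s, (nthN nets s).Ok) (w : List ℕ) (p p' : ℕ)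
    (hc : Nat.beq (applyW nets w (2 ^ p')) (2 ^ p) = true) : tr (act nets) w p = p' := by
  have h1 := Nat.eq_of_beq_eq_true hc
  have h2 := congrArg (fun z => Nat.testBit z p) h1
  simp only [testBit_applyW hok, Nat.testBit_two_pow_self] at h2
  rw [Nat.testBit_two_pow] at h2
  exact (of_decide_eq_true h2).symm

/-! ### words of words -/

theorem wprod_flatMap {G : Type*} [Group G] (t : ℕ → G) (lw : ℕ → List ℕ) :
    ∀ w : List ℕ, wprod (fun l => wprod t (lw l)) w = wprod t (w.flatMap lw)
  | [] => rfl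
  | c :: w => by
    rw [List.flatMap_cons, wprod_append, ← wprod_flatMap t lw w]
    rfl

theorem mem_flatMap_lt {k : ℕ} {lw : ℕ → List ℕ} {w : List ℕ} (h : ∀ l ∈ w, ∀ s ∈ lw l, s < k) :
    ∀ s ∈ w.flatMap lw, s < k := by
  intro s hs
  obtain ⟨l, hl, hsl⟩ := List.mem_flatMap.mp hs
  exact h l hl s hsl

/-! ### transitivity from reachability -/

theorem exists_of_reach {Γ : Type*} [Group Γ] {N k : ℕ} {a : ℕ → ℕ → ℕ} {inv : ℕ → ℕ} (hN : 0 < N)
    (h : IsAction N k a inv) (ψ : Γ →* Equiv.Perm (Fin N)) (T : ℕ → Γ)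
    (hψ : ∀ s < k, ψ (T s) = (perm h s)⁻¹) :
    ∀ x, Reach a k x → ∃ hx : x < N, ∃ g : Γ, ψ g ⟨0, hN⟩ = ⟨x, hx⟩ := by
  intro x hx
  induction hx with
  | zero => exact ⟨hN, 1, by simp⟩
  | step s hs y _ ih =>
    obtain ⟨hy, g, hg⟩ := ih
    refine ⟨h.lt s hs y hy, (T s)⁻¹ * g, ?_⟩
    rw [map_mul, map_inv, hψ s hs, inv_inv, Equiv.Perm.mul_apply, hg]
    apply Fin.ext
    rw [perm_apply h hs]

theorem pretransitive_range {Γ : Type*} [Group Γ] {N k : ℕ} {a : ℕ → ℕ → ℕ} {inv : ℕ → ℕ}
    (hN : 0 < N) (h : IsAction N k a inv) (ψ : Γ →* Equiv.Perm (Fin N)) (T : ℕ → Γ)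
    (hψ : ∀ s < k, ψ (T s) = (perm h s)⁻¹) (hreach : ∀ x < N, Reach a k x) :
    MulAction.IsPretransitive ψ.range (Fin N) := by
  have key : ∀ x : Fin N, ∃ g : ψ.range, g • (⟨0, hN⟩ : Fin N) = x := by
    intro x
    obtain ⟨_, g, hg⟩ := exists_of_reach hN h ψ T hψ x.1 (hreach x.1 x.2)
    exact ⟨⟨ψ g, g, rfl⟩, hg⟩
  refine ⟨fun x y => ?_⟩
  obtain ⟨g1, hg1⟩ := key x
  obtain ⟨g2, hg2⟩ := key y
  refine ⟨g2 * g1⁻¹, ?_⟩
  rw [mul_smul, ← hg1, inv_smul_smul, hg2]

end Cfsg.Agent.Lib.helper19_PG
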