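import Cfsg.Agent.Lib.helper19_Benes
import Cfsg.Agent.Lib.helper19_PG
import Cfsg.Agent.Lib.helper19_M11PLN0
import Cfsg.Agent.Lib.helper19_M11PLN1
import Cfsg.Agent.Lib.helper19_M11PLN2

/-! Generated permutation representation data for the Mathieu group M11 on 11 points; by helper19. -/

set_option autoImplicit false
set_option maxRecDepth 1000000
set_option Elab.async false

namespace Cfsg.Agent.Lib.helper19_M11PL
open Cfsg.Agent.Lib.helper19_TC2 Cfsg.Agent.Lib.helper19_TC2L Cfsg.Agent.Lib.helper19_Benes Cfsg.Agent.Lib.helper19_PG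

/-- the networks -/
def nets : List Net := [net0, net1, net2]

/-- the action -/
noncomputable abbrev A : ℕ → ℕ → ℕ := act nets

theorem netsOK : okNets nets = true := by decide +kernel

theorem rangeOK : checkRange nets 11 3 0 = true := by decide +kernel

theorem reachOK : checkReach nets 11 3 4 = true := by decide +kernel

/-- the words of the level 0 -/
def ws0 : List (List ℕ) := [[1], [0, 1]]

theorem lv0 : Nat.ble 11 (countBits (sweepsW nets ws0 4 (2 ^ 0)) 11 0 0) = true := by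
  decide +kernel

/-- the words of the level 1 -/
def ws1 : List (List ℕ) := [[1, 0, 1, 0, 2], [1, 1, 0, 1, 1], [0, 1, 0, 1, 0, 2]]

theorem lv1 : Nat.ble 10 (countBits (sweepsW nets ws1 2 (2 ^ 1)) 11 0 0) = true := by
  decide +kernel

theorem fx1_0_0 : Nat.beq (applyW nets [1, 0, 1, 0, 2] (2 ^ 0)) (2 ^ 0) = true := by
  decide +kernel

theorem fx1_1_0 : Nat.beq (applyW nets [1, 1, 0, 1, 1] (2 ^ 0)) (2 ^ 0) = true := by
  decide +kernel

theorem fx1_2_0 : Nat.beq (applyW nets [0, 1, 0, 1, 0, 2] (2 ^ 0)) (2 ^ 0) = true := by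
  decide +kernel

/-- the words of the level 2 -/
def ws2 : List (List ℕ) := [[1, 1, 0, 1, 1], [0, 1, 1, 0, 1, 1], [1, 0, 1, 1, 0, 2, 0, 1, 0, 1, 0, 2]]

theorem lv2 : Nat.ble 9 (countBits (sweepsW nets ws2 2 (2 ^ 2)) 11 0 0) = true := by
  decide +kernel

theorem fx2_0_0 : Nat.beq (applyW nets [1, 1, 0, 1, 1] (2 ^ 0)) (2 ^ 0) = true := by
  decide +kernel

theorem fx2_0_1 : Nat.beq (applyW nets [1, 1, 0, 1, 1] (2 ^ 1)) (2 ^ 1) = true := by
  decide +kernel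

theorem fx2_1_0 : Nat.beq (applyW nets [0, 1, 1, 0, 1, 1] (2 ^ 0)) (2 ^ 0) = true := by
  decide +kernel

theorem fx2_1_1 : Nat.beq (applyW nets [0, 1, 1, 0, 1, 1] (2 ^ 1)) (2 ^ 1) = true := by
  decide +kernel

theorem fx2_2_0 : Nat.beq (applyW nets [1, 0, 1, 1, 0, 2, 0, 1, 0, 1, 0, 2] (2 ^ 0)) (2 ^ 0) = true := by
  decide +kernel

theorem fx2_2_1 : Nat.beq (applyW nets [1, 0, 1, 1, 0, 2, 0, 1, 0, 1, 0, 2] (2 ^ 1)) (2 ^ 1) = true := by
  decide +kernel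

/-- the words of the level 3 -/
def ws3 : List (List ℕ) := [[0], [1, 0, 1, 1, 0, 2, 0, 1, 0, 1, 0, 2], [1, 0, 1, 1, 0, 1, 0, 1, 0, 1, 0, 1, 1, 0, 2, 0, 1]]

theorem lv3 : Nat.ble 8 (countBits (sweepsW nets ws3 1 (2 ^ 3)) 11 0 0) = true := by
  decide +kernel

theorem fx3_0_0 : Nat.beq (applyW nets [0] (2 ^ 0)) (2 ^ 0) = true := by
  decide +kernel

theorem fx3_0_1 : Nat.beq (applyW nets [0] (2 ^ 1)) (2 ^ 1) = true := by
  decide +kernel

theorem fx3_0_2 : Nat.beq (applyW nets [0] (2 ^ 2)) (2 ^ 2) = true := by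
  decide +kernel

theorem fx3_1_0 : Nat.beq (applyW nets [1, 0, 1, 1, 0, 2, 0, 1, 0, 1, 0, 2] (2 ^ 0)) (2 ^ 0) = true := by
  decide +kernel

theorem fx3_1_1 : Nat.beq (applyW nets [1, 0, 1, 1, 0, 2, 0, 1, 0, 1, 0, 2] (2 ^ 1)) (2 ^ 1) = true := by
  decide +kernel

theorem fx3_1_2 : Nat.beq (applyW nets [1, 0, 1, 1, 0, 2, 0, 1, 0, 1, 0, 2] (2 ^ 2)) (2 ^ 2) = true := by
  decide +kernel

theorem fx3_2_0 : Nat.beq (applyW nets [1, 0, 1, 1, 0, 1, 0, 1, 0, 1, 0, 1, 1, 0, 2, 0, 1] (2 ^ 0)) (2 ^ 0) = true := by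
  decide +kernel

theorem fx3_2_1 : Nat.beq (applyW nets [1, 0, 1, 1, 0, 1, 0, 1, 0, 1, 0, 1, 1, 0, 2, 0, 1] (2 ^ 1)) (2 ^ 1) = true := by
  decide +kernel

theorem fx3_2_2 : Nat.beq (applyW nets [1, 0, 1, 1, 0, 1, 0, 1, 0, 1, 0, 1, 1, 0, 2, 0, 1] (2 ^ 2)) (2 ^ 2) = true := by
  decide +kernel

end Cfsg.Agent.Lib.helper19_M11PL
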