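import Cfsg.Agent.Lib.helper19_M11PL

/-! Generated: relator checks, file 0, for the Mathieu group M11 on 11 points; by helper19. -/

set_option autoImplicit false
set_option maxRecDepth 1000000
set_option Elab.async false

namespace Cfsg.Agent.Lib.helper19_M11PL
open Cfsg.Agent.Lib.helper19_TC2 Cfsg.Agent.Lib.helper19_TC2L Cfsg.Agent.Lib.helper19_Benes

theorem plp0_0 : checkPlanes nets 4 [0, 0] 4 0 = true := by
  decide +kernel

theorem plp1_0 : checkPlanes nets 4 [1, 2] 4 0 = true := by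
  decide +kernel

theorem plp2_0 : checkPlanes nets 4 [2, 1] 4 0 = true := by
  decide +kernel

theorem plr1_0 : checkPlanes nets 4 [1, 1, 1, 1] 4 0 = true := by
  decide +kernel

theorem plr2_0 : checkPlanes nets 4 [0, 1, 0, 1, 0, 1, 0, 1, 0, 1, 0, 1, 0, 1, 0, 1, 0, 1, 0, 1, 0, 1] 4 0 = true := by
  decide +kernel

theorem plr3_0 : checkPlanes nets 4 [0, 1, 1, 0, 1, 1, 0, 1, 1, 0, 1, 1, 0, 1, 1, 0, 1, 1] 4 0 = true := by
  decide +kernel

theorem plr4_0 : checkPlanes nets 4 [0, 1, 0, 1, 0, 2, 0, 1, 0, 1, 1, 0, 2, 0, 1, 0, 2, 0, 2] 4 0 = true := by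
  decide +kernel

end Cfsg.Agent.Lib.helper19_M11PL
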