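import Cfsg.Agent.Lib.helper19_TC2
import Cfsg.Agent.Lib.helper19_TC2L
import Cfsg.Agent.Lib.helper19_Benes
import Cfsg.Agent.Lib.helper19_PG
import Cfsg.Agent.Lib.helper19_M11PLN0
import Cfsg.Agent.Lib.helper19_M11PLN1
import Cfsg.Agent.Lib.helper19_M11PLN2
import Cfsg.Agent.Lib.helper19_M11PL
import Cfsg.Agent.Lib.helper19_M11PLW0

/-! Generated: the verified permutation representation for the Mathieu group M11 on 11 points; by helper19. -/

set_option autoImplicit false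
set_option maxRecDepth 1000000
set_option Elab.async false

namespace Cfsg.Agent.Lib.helper19_M11PB
open Cfsg.Agent.Lib.helper19_TC2 Cfsg.Agent.Lib.helper19_TC2L Cfsg.Agent.Lib.helper19_Benes Cfsg.Agent.Lib.helper19_PG Cfsg.Agent.Lib.helper19_M11PL

theorem hok : ∀ s, (nthN nets s).Ok := okNets_sound nets netsOK

theorem hlt : ∀ s < 3, ∀ x < 11, A s x < 11 := fun s hs x hx =>
  act_lt hok (checkRange_sound nets 11 3 0 rangeOK s (by omega) (by omega)) hx

theorem fixp0 : ∀ x < 11, tr A [0, 0] x = x := by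
  apply fix_of_planes hok (n := 4) (by norm_num) hlt [0, 0] (by decide)
  intro j hj
  exact checkPlanes_sound nets 4 _ 4 0 plp0_0 j (by omega) (by omega)

theorem fixp1 : ∀ x < 11, tr A [1, 2] x = x := by
  apply fix_of_planes hok (n := 4) (by norm_num) hlt [1, 2] (by decide)
  intro j hj
  exact checkPlanes_sound nets 4 _ 4 0 plp1_0 j (by omega) (by omega)

theorem fixp2 : ∀ x < 11, tr A [2, 1] x = x := by
  apply fix_of_planes hok (n := 4) (by norm_num) hlt [2, 1] (by decide)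
  intro j hj
  exact checkPlanes_sound nets 4 _ 4 0 plp2_0 j (by omega) (by omega)

theorem fixr1 : ∀ x < 11, tr A [1, 1, 1, 1] x = x := by
  apply fix_of_planes hok (n := 4) (by norm_num) hlt [1, 1, 1, 1] (by decide)
  intro j hj
  exact checkPlanes_sound nets 4 _ 4 0 plr1_0 j (by omega) (by omega)

theorem fixr2 : ∀ x < 11, tr A [0, 1, 0, 1, 0, 1, 0, 1, 0, 1, 0, 1, 0, 1, 0, 1, 0, 1, 0, 1, 0, 1] x = x := by
  apply fix_of_planes hok (n := 4) (by norm_num) hlt [0, 1, 0, 1, 0, 1, 0, 1, 0, 1, 0, 1, 0, 1, 0, 1, 0, 1, 0, 1, 0, 1] (by decide)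
  intro j hj
  exact checkPlanes_sound nets 4 _ 4 0 plr2_0 j (by omega) (by omega)

theorem fixr3 : ∀ x < 11, tr A [0, 1, 1, 0, 1, 1, 0, 1, 1, 0, 1, 1, 0, 1, 1, 0, 1, 1] x = x := by
  apply fix_of_planes hok (n := 4) (by norm_num) hlt [0, 1, 1, 0, 1, 1, 0, 1, 1, 0, 1, 1, 0, 1, 1, 0, 1, 1] (by decide)
  intro j hj
  exact checkPlanes_sound nets 4 _ 4 0 plr3_0 j (by omega) (by omega)

theorem fixr4 : ∀ x < 11, tr A [0, 1, 0, 1, 0, 2, 0, 1, 0, 1, 1, 0, 2, 0, 1, 0, 2, 0, 2] x = x := by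
  apply fix_of_planes hok (n := 4) (by norm_num) hlt [0, 1, 0, 1, 0, 2, 0, 1, 0, 1, 1, 0, 2, 0, 1, 0, 2, 0, 2] (by decide)
  intro j hj
  exact checkPlanes_sound nets 4 _ 4 0 plr4_0 j (by omega) (by omega)

/-- the inverse letters -/
def invL (s : ℕ) : ℕ := [0, 2, 1].getD s 0

theorem isAction : IsAction 11 3 A invL where
  lt := hlt
  invk := by decide
  invinv := by decide
  cancel := by
    intro s hs x hx
    interval_cases s
    · exact fixp0 x hx
    · exact fixp1 x hx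
    · exact fixp2 x hx

theorem reach_ok : ∀ x < 11, Reach A 3 x := reach_of_check hok isAction reachOK

theorem lvfix1 : ∀ w ∈ ws1, ∀ p ∈ [0], tr A w p = p := by
  intro w hw p hp
  simp only [ws1, List.mem_cons, List.not_mem_nil, or_false] at hw hp
  rcases hw with rfl | rfl | rfl
  · rcases hp with rfl
    · exact tr_eq_of_applyW hok _ _ _ fx1_0_0
  · rcases hp with rfl
    · exact tr_eq_of_applyW hok _ _ _ fx1_1_0
  · rcases hp with rfl
    · exact tr_eq_of_applyW hok _ _ _ fx1_2_0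

theorem lvfix2 : ∀ w ∈ ws2, ∀ p ∈ [0, 1], tr A w p = p := by
  intro w hw p hp
  simp only [ws2, List.mem_cons, List.not_mem_nil, or_false] at hw hp
  rcases hw with rfl | rfl | rfl
  · rcases hp with rfl | rfl
    · exact tr_eq_of_applyW hok _ _ _ fx2_0_0
    · exact tr_eq_of_applyW hok _ _ _ fx2_0_1
  · rcases hp with rfl | rfl
    · exact tr_eq_of_applyW hok _ _ _ fx2_1_0
    · exact tr_eq_of_applyW hok _ _ _ fx2_1_1
  · rcases hp with rfl | rfl
    · exact tr_eq_of_applyW hok _ _ _ fx2_2_0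
    · exact tr_eq_of_applyW hok _ _ _ fx2_2_1

theorem lvfix3 : ∀ w ∈ ws3, ∀ p ∈ [0, 1, 2], tr A w p = p := by
  intro w hw p hp
  simp only [ws3, List.mem_cons, List.not_mem_nil, or_false] at hw hp
  rcases hw with rfl | rfl | rfl
  · rcases hp with rfl | rfl | rfl
    · exact tr_eq_of_applyW hok _ _ _ fx3_0_0
    · exact tr_eq_of_applyW hok _ _ _ fx3_0_1
    · exact tr_eq_of_applyW hok _ _ _ fx3_0_2
  · rcases hp with rfl | rfl | rfl
    · exact tr_eq_of_applyW hok _ _ _ fx3_1_0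
    · exact tr_eq_of_applyW hok _ _ _ fx3_1_1
    · exact tr_eq_of_applyW hok _ _ _ fx3_1_2
  · rcases hp with rfl | rfl | rfl
    · exact tr_eq_of_applyW hok _ _ _ fx3_2_0
    · exact tr_eq_of_applyW hok _ _ _ fx3_2_1
    · exact tr_eq_of_applyW hok _ _ _ fx3_2_2

end Cfsg.Agent.Lib.helper19_M11PB
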