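import Cfsg.Agent.Lib.helper19_M23W

/-! Generated: kernel checks on the 40 networks, part C1; by helper19, for S2054. -/

set_option autoImplicit false
set_option maxRecDepth 1000000
set_option Elab.async false

namespace Cfsg.Agent.Lib.helper19_M23W
open Cfsg.Agent.Lib.helper19_TC2 Cfsg.Agent.Lib.helper19_TC2L Cfsg.Agent.Lib.helper19_TC2P
  Cfsg.Agent.Lib.helper19_Benes Cfsg.Agent.Lib.helper19_BenesFix Cfsg.Agent.Lib.Helper28_BenesOrb

theorem coxOK_0 : allB 10 (fun j => coxChk 0 j) = true := by
  decide +kernel

theorem coxOK_1 : allB 10 (fun j => coxChk 1 j) = true := by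
  decide +kernel

theorem coxOK_2 : allB 10 (fun j => coxChk 2 j) = true := by
  decide +kernel

theorem coxOK_3 : allB 10 (fun j => coxChk 3 j) = true := by
  decide +kernel

theorem coxOK_4 : allB 10 (fun j => coxChk 4 j) = true := by
  decide +kernel

theorem coxOK_5 : allB 10 (fun j => coxChk 5 j) = true := by
  decide +kernel

theorem coxOK_6 : allB 10 (fun j => coxChk 6 j) = true := by
  decide +kernel

theorem coxOK_7 : allB 10 (fun j => coxChk 7 j) = true := by
  decide +kernel

theorem coxOK_8 : allB 10 (fun j => coxChk 8 j) = true := by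
  decide +kernel

theorem coxOK_9 : allB 10 (fun j => coxChk 9 j) = true := by
  decide +kernel

theorem spiderOK_0 : checkPlanes nets 15 (repW 10 spiderB) 5 0 = true := by
  decide +kernel

theorem e7OK_0 : checkPlanes nets 15 (repW 9 e7B) 5 0 = true := by
  decide +kernel

theorem spiderOK_1 : checkPlanes nets 15 (repW 10 spiderB) 5 5 = true := by
  decide +kernel

theorem e7OK_1 : checkPlanes nets 15 (repW 9 e7B) 5 5 = true := by
  decide +kernel

theorem spiderOK_2 : checkPlanes nets 15 (repW 10 spiderB) 5 10 = true := by
  decide +kernel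

theorem e7OK_2 : checkPlanes nets 15 (repW 9 e7B) 5 10 = true := by
  decide +kernel

theorem movedA : checkTr nets [0] 8 11 = true := by
  decide +kernel

theorem movedR : checkTr nets [10] 0 327 = true := by
  decide +kernel


end Cfsg.Agent.Lib.helper19_M23W
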