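import Cfsg.Agent.Lib.helper19_M23W

/-! Generated: kernel checks on the 40 networks, part C2; by helper19, for S2054. -/

set_option autoImplicit false
set_option maxRecDepth 1000000
set_option Elab.async false

namespace Cfsg.Agent.Lib.helper19_M23W
open Cfsg.Agent.Lib.helper19_TC2 Cfsg.Agent.Lib.helper19_TC2L Cfsg.Agent.Lib.helper19_TC2P
  Cfsg.Agent.Lib.helper19_Benes Cfsg.Agent.Lib.helper19_BenesFix Cfsg.Agent.Lib.Helper28_BenesOrb

theorem dwOK_gen : allB 10 (fun s => bsel (dwChk 0 s) (bsel (dwChk 1 s) (dwChk 2 s) false) false) = true := by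
  decide +kernel

theorem dwOK_10_0 : dwChk 0 10 = true := by
  decide +kernel

theorem dwOK_10_1 : dwChk 1 10 = true := by
  decide +kernel

theorem dwOK_10_2 : dwChk 2 10 = true := by
  decide +kernel

theorem dwOK_11_0 : dwChk 0 11 = true := by
  decide +kernel

theorem dwOK_11_1 : dwChk 1 11 = true := by
  decide +kernel

theorem dwOK_11_2 : dwChk 2 11 = true := by
  decide +kernel

theorem dwOK_12_0 : dwChk 0 12 = true := by
  decide +kernel

theorem dwOK_12_1 : dwChk 1 12 = true := by
  decide +kernel

theorem dwOK_12_2 : dwChk 2 12 = true := by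
  decide +kernel

theorem dwOK_13_0 : dwChk 0 13 = true := by
  decide +kernel

theorem dwOK_13_1 : dwChk 1 13 = true := by
  decide +kernel

theorem dwOK_13_2 : dwChk 2 13 = true := by
  decide +kernel

theorem dwOK_14_0 : dwChk 0 14 = true := by
  decide +kernel

theorem dwOK_14_1 : dwChk 1 14 = true := by
  decide +kernel

theorem dwOK_14_2 : dwChk 2 14 = true := by
  decide +kernel

theorem dwOK_15_0 : dwChk 0 15 = true := by
  decide +kernel

theorem dwOK_15_1 : dwChk 1 15 = true := by
  decide +kernel

theorem dwOK_15_2 : dwChk 2 15 = true := by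
  decide +kernel

theorem dwOK_16_0 : dwChk 0 16 = true := by
  decide +kernel

theorem dwOK_16_1 : dwChk 1 16 = true := by
  decide +kernel

theorem dwOK_16_2 : dwChk 2 16 = true := by
  decide +kernel

theorem dwOK_17_0 : dwChk 0 17 = true := by
  decide +kernel

theorem dwOK_17_1 : dwChk 1 17 = true := by
  decide +kernel

theorem dwOK_17_2 : dwChk 2 17 = true := by
  decide +kernel

theorem dwOK_18_0 : dwChk 0 18 = true := by
  decide +kernel

theorem dwOK_18_1 : dwChk 1 18 = true := by
  decide +kernel

theorem dwOK_18_2 : dwChk 2 18 = true := by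
  decide +kernel

theorem dwOK_19_0 : dwChk 0 19 = true := by
  decide +kernel

theorem dwOK_19_1 : dwChk 1 19 = true := by
  decide +kernel

theorem dwOK_19_2 : dwChk 2 19 = true := by
  decide +kernel

theorem dwOK_20_0 : dwChk 0 20 = true := by
  decide +kernel

theorem dwOK_20_1 : dwChk 1 20 = true := by
  decide +kernel

theorem dwOK_20_2 : dwChk 2 20 = true := by
  decide +kernel

theorem dwOK_21_0 : dwChk 0 21 = true := by
  decide +kernel

theorem dwOK_21_1 : dwChk 1 21 = true := by
  decide +kernel

theorem dwOK_21_2 : dwChk 2 21 = true := by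
  decide +kernel


end Cfsg.Agent.Lib.helper19_M23W
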