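import Cfsg.Agent.Lib.helper19_M23W

/-! Generated: kernel checks on the 40 networks, part C3; by helper19, for S2054. -/

set_option autoImplicit false
set_option maxRecDepth 1000000
set_option Elab.async false

namespace Cfsg.Agent.Lib.helper19_M23W
open Cfsg.Agent.Lib.helper19_TC2 Cfsg.Agent.Lib.helper19_TC2L Cfsg.Agent.Lib.helper19_TC2P
  Cfsg.Agent.Lib.helper19_Benes Cfsg.Agent.Lib.helper19_BenesFix Cfsg.Agent.Lib.Helper28_BenesOrb

theorem dwOK_22_0 : dwChk 0 22 = true := by
  decide +kernel

theorem dwOK_22_1 : dwChk 1 22 = true := by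
  decide +kernel

theorem dwOK_22_2 : dwChk 2 22 = true := by
  decide +kernel

theorem dwOK_23_0 : dwChk 0 23 = true := by
  decide +kernel

theorem dwOK_23_1 : dwChk 1 23 = true := by
  decide +kernel

theorem dwOK_23_2 : dwChk 2 23 = true := by
  decide +kernel

theorem dwOK_24_0 : dwChk 0 24 = true := by
  decide +kernel

theorem dwOK_24_1 : dwChk 1 24 = true := by
  decide +kernel

theorem dwOK_24_2 : dwChk 2 24 = true := by
  decide +kernel

theorem dwOK_25_0 : dwChk 0 25 = true := by
  decide +kernel

theorem dwOK_25_1 : dwChk 1 25 = true := by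
  decide +kernel

theorem dwOK_25_2 : dwChk 2 25 = true := by
  decide +kernel

theorem dwOK_26_0 : dwChk 0 26 = true := by
  decide +kernel

theorem dwOK_26_1 : dwChk 1 26 = true := by
  decide +kernel

theorem dwOK_26_2 : dwChk 2 26 = true := by
  decide +kernel

theorem dwOK_27_0 : dwChk 0 27 = true := by
  decide +kernel

theorem dwOK_27_1 : dwChk 1 27 = true := by
  decide +kernel

theorem dwOK_27_2 : dwChk 2 27 = true := by
  decide +kernel

theorem dwOK_28_0 : dwChk 0 28 = true := by
  decide +kernel

theorem dwOK_28_1 : dwChk 1 28 = true := by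
  decide +kernel

theorem dwOK_28_2 : dwChk 2 28 = true := by
  decide +kernel

theorem dwOK_29_0 : dwChk 0 29 = true := by
  decide +kernel

theorem dwOK_29_1 : dwChk 1 29 = true := by
  decide +kernel

theorem dwOK_29_2 : dwChk 2 29 = true := by
  decide +kernel

theorem dwOK_30_0 : dwChk 0 30 = true := by
  decide +kernel

theorem dwOK_30_1 : dwChk 1 30 = true := by
  decide +kernel

theorem dwOK_30_2 : dwChk 2 30 = true := by
  decide +kernel

theorem dwOK_31_0 : dwChk 0 31 = true := by
  decide +kernel

theorem dwOK_31_1 : dwChk 1 31 = true := by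
  decide +kernel

theorem dwOK_31_2 : dwChk 2 31 = true := by
  decide +kernel

theorem dwOK_32_0 : dwChk 0 32 = true := by
  decide +kernel

theorem dwOK_32_1 : dwChk 1 32 = true := by
  decide +kernel

theorem dwOK_32_2 : dwChk 2 32 = true := by
  decide +kernel

theorem dwOK_33_0 : dwChk 0 33 = true := by
  decide +kernel

theorem dwOK_33_1 : dwChk 1 33 = true := by
  decide +kernel

theorem dwOK_33_2 : dwChk 2 33 = true := by
  decide +kernel

theorem dwOK_34_0 : dwChk 0 34 = true := by
  decide +kernel

theorem dwOK_34_1 : dwChk 1 34 = true := by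
  decide +kernel

theorem dwOK_34_2 : dwChk 2 34 = true := by
  decide +kernel

theorem dwOK_35_0 : dwChk 0 35 = true := by
  decide +kernel

theorem dwOK_35_1 : dwChk 1 35 = true := by
  decide +kernel

theorem dwOK_35_2 : dwChk 2 35 = true := by
  decide +kernel

theorem dwOK_36_0 : dwChk 0 36 = true := by
  decide +kernel

theorem dwOK_36_1 : dwChk 1 36 = true := by
  decide +kernel

theorem dwOK_36_2 : dwChk 2 36 = true := by
  decide +kernel

theorem dwOK_37_0 : dwChk 0 37 = true := by
  decide +kernel

theorem dwOK_37_1 : dwChk 1 37 = true := by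
  decide +kernel

theorem dwOK_37_2 : dwChk 2 37 = true := by
  decide +kernel

theorem dwOK_38_0 : dwChk 0 38 = true := by
  decide +kernel

theorem dwOK_38_1 : dwChk 1 38 = true := by
  decide +kernel

theorem dwOK_38_2 : dwChk 2 38 = true := by
  decide +kernel

theorem dwOK_39_0 : dwChk 0 39 = true := by
  decide +kernel

theorem dwOK_39_1 : dwChk 1 39 = true := by
  decide +kernel

theorem dwOK_39_2 : dwChk 2 39 = true := by
  decide +kernel


end Cfsg.Agent.Lib.helper19_M23W
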