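import Cfsg.Agent.Lib.helper19_M23W

/-! Generated: kernel checks on the 40 networks, part C4; by helper19, for S2054. -/

set_option autoImplicit false
set_option maxRecDepth 1000000
set_option Elab.async false

namespace Cfsg.Agent.Lib.helper19_M23W
open Cfsg.Agent.Lib.helper19_TC2 Cfsg.Agent.Lib.helper19_TC2L Cfsg.Agent.Lib.helper19_TC2P
  Cfsg.Agent.Lib.helper19_Benes Cfsg.Agent.Lib.helper19_BenesFix Cfsg.Agent.Lib.Helper28_BenesOrb

theorem cubeOK_0 : allB 8 (fun s => cubeChk (0 + s)) = true := by
  decide +kernel

theorem cubeOK_8 : allB 8 (fun s => cubeChk (8 + s)) = true := by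
  decide +kernel

theorem cubeOK_16 : allB 8 (fun s => cubeChk (16 + s)) = true := by
  decide +kernel

theorem cmOK_0 : allB 24 (fun t => cmChk 0 t) = true := by
  decide +kernel

theorem cmOK_1 : allB 24 (fun t => cmChk 1 t) = true := by
  decide +kernel

theorem cmOK_2 : allB 24 (fun t => cmChk 2 t) = true := by
  decide +kernel

theorem cmOK_3 : allB 24 (fun t => cmChk 3 t) = true := by
  decide +kernel

theorem cmOK_4 : allB 24 (fun t => cmChk 4 t) = true := by
  decide +kernel

theorem cmOK_5 : allB 24 (fun t => cmChk 5 t) = true := by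
  decide +kernel

theorem cmOK_6 : allB 24 (fun t => cmChk 6 t) = true := by
  decide +kernel

theorem cmOK_7 : allB 24 (fun t => cmChk 7 t) = true := by
  decide +kernel

theorem cmOK_8 : allB 24 (fun t => cmChk 8 t) = true := by
  decide +kernel

theorem cmOK_9 : allB 24 (fun t => cmChk 9 t) = true := by
  decide +kernel

theorem cmOK_10 : allB 24 (fun t => cmChk 10 t) = true := by
  decide +kernel

theorem cmOK_11 : allB 24 (fun t => cmChk 11 t) = true := by
  decide +kernel

theorem cmOK_12 : allB 24 (fun t => cmChk 12 t) = true := by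
  decide +kernel

theorem cmOK_13 : allB 24 (fun t => cmChk 13 t) = true := by
  decide +kernel

theorem cmOK_14 : allB 24 (fun t => cmChk 14 t) = true := by
  decide +kernel

theorem cmOK_15 : allB 24 (fun t => cmChk 15 t) = true := by
  decide +kernel

theorem cmOK_16 : allB 24 (fun t => cmChk 16 t) = true := by
  decide +kernel

theorem cmOK_17 : allB 24 (fun t => cmChk 17 t) = true := by
  decide +kernel

theorem cmOK_18 : allB 24 (fun t => cmChk 18 t) = true := by
  decide +kernel

theorem cmOK_19 : allB 24 (fun t => cmChk 19 t) = true := by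
  decide +kernel

theorem cmOK_20 : allB 24 (fun t => cmChk 20 t) = true := by
  decide +kernel

theorem cmOK_21 : allB 24 (fun t => cmChk 21 t) = true := by
  decide +kernel

theorem cmOK_22 : allB 24 (fun t => cmChk 22 t) = true := by
  decide +kernel

theorem cmOK_23 : allB 24 (fun t => cmChk 23 t) = true := by
  decide +kernel


end Cfsg.Agent.Lib.helper19_M23W
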