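import Cfsg.Agent.Lib.helper19_M23W

/-! Generated: kernel checks on the 40 networks, part C5; by helper19, for S2054. -/

set_option autoImplicit false
set_option maxRecDepth 1000000
set_option Elab.async false

namespace Cfsg.Agent.Lib.helper19_M23W
open Cfsg.Agent.Lib.helper19_TC2 Cfsg.Agent.Lib.helper19_TC2L Cfsg.Agent.Lib.helper19_TC2P
  Cfsg.Agent.Lib.helper19_Benes Cfsg.Agent.Lib.helper19_BenesFix Cfsg.Agent.Lib.Helper28_BenesOrb

theorem a2OK_0_0 : allB 8 (fun e => a2Chk 0 0 e) = true := by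
  decide +kernel

theorem a2OK_0_1 : allB 8 (fun e => a2Chk 0 1 e) = true := by
  decide +kernel

theorem a2OK_0_2 : allB 8 (fun e => a2Chk 0 2 e) = true := by
  decide +kernel

theorem a2OK_0_3 : allB 8 (fun e => a2Chk 0 3 e) = true := by
  decide +kernel

theorem a2OK_0_4 : allB 8 (fun e => a2Chk 0 4 e) = true := by
  decide +kernel

theorem a2OK_0_5 : allB 8 (fun e => a2Chk 0 5 e) = true := by
  decide +kernel

theorem a2OK_0_6 : allB 8 (fun e => a2Chk 0 6 e) = true := by
  decide +kernel

theorem a2OK_0_7 : allB 8 (fun e => a2Chk 0 7 e) = true := by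
  decide +kernel

theorem a2OK_1_0 : allB 8 (fun e => a2Chk 1 0 e) = true := by
  decide +kernel

theorem a2OK_1_1 : allB 8 (fun e => a2Chk 1 1 e) = true := by
  decide +kernel

theorem a2OK_1_2 : allB 8 (fun e => a2Chk 1 2 e) = true := by
  decide +kernel

theorem a2OK_1_3 : allB 8 (fun e => a2Chk 1 3 e) = true := by
  decide +kernel

theorem a2OK_1_4 : allB 8 (fun e => a2Chk 1 4 e) = true := by
  decide +kernel

theorem a2OK_1_5 : allB 8 (fun e => a2Chk 1 5 e) = true := by
  decide +kernel

theorem a2OK_1_6 : allB 8 (fun e => a2Chk 1 6 e) = true := by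
  decide +kernel

theorem a2OK_1_7 : allB 8 (fun e => a2Chk 1 7 e) = true := by
  decide +kernel

theorem a2OK_2_0 : allB 8 (fun e => a2Chk 2 0 e) = true := by
  decide +kernel

theorem a2OK_2_1 : allB 8 (fun e => a2Chk 2 1 e) = true := by
  decide +kernel

theorem a2OK_2_2 : allB 8 (fun e => a2Chk 2 2 e) = true := by
  decide +kernel

theorem a2OK_2_3 : allB 8 (fun e => a2Chk 2 3 e) = true := by
  decide +kernel

theorem a2OK_2_4 : allB 8 (fun e => a2Chk 2 4 e) = true := by
  decide +kernel

theorem a2OK_2_5 : allB 8 (fun e => a2Chk 2 5 e) = true := by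
  decide +kernel

theorem a2OK_2_6 : allB 8 (fun e => a2Chk 2 6 e) = true := by
  decide +kernel

theorem a2OK_2_7 : allB 8 (fun e => a2Chk 2 7 e) = true := by
  decide +kernel

theorem a2OK_3_0 : allB 8 (fun e => a2Chk 3 0 e) = true := by
  decide +kernel

theorem a2OK_3_1 : allB 8 (fun e => a2Chk 3 1 e) = true := by
  decide +kernel

theorem a2OK_3_2 : allB 8 (fun e => a2Chk 3 2 e) = true := by
  decide +kernel

theorem a2OK_3_3 : allB 8 (fun e => a2Chk 3 3 e) = true := by
  decide +kernel

theorem a2OK_3_4 : allB 8 (fun e => a2Chk 3 4 e) = true := by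
  decide +kernel

theorem a2OK_3_5 : allB 8 (fun e => a2Chk 3 5 e) = true := by
  decide +kernel

theorem a2OK_3_6 : allB 8 (fun e => a2Chk 3 6 e) = true := by
  decide +kernel

theorem a2OK_3_7 : allB 8 (fun e => a2Chk 3 7 e) = true := by
  decide +kernel

theorem a2OK_4_0 : allB 8 (fun e => a2Chk 4 0 e) = true := by
  decide +kernel

theorem a2OK_4_1 : allB 8 (fun e => a2Chk 4 1 e) = true := by
  decide +kernel

theorem a2OK_4_2 : allB 8 (fun e => a2Chk 4 2 e) = true := by
  decide +kernel

theorem a2OK_4_3 : allB 8 (fun e => a2Chk 4 3 e) = true := by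
  decide +kernel

theorem a2OK_4_4 : allB 8 (fun e => a2Chk 4 4 e) = true := by
  decide +kernel

theorem a2OK_4_5 : allB 8 (fun e => a2Chk 4 5 e) = true := by
  decide +kernel

theorem a2OK_4_6 : allB 8 (fun e => a2Chk 4 6 e) = true := by
  decide +kernel

theorem a2OK_4_7 : allB 8 (fun e => a2Chk 4 7 e) = true := by
  decide +kernel

theorem a2OK_5_0 : allB 8 (fun e => a2Chk 5 0 e) = true := by
  decide +kernel

theorem a2OK_5_1 : allB 8 (fun e => a2Chk 5 1 e) = true := by
  decide +kernel

theorem a2OK_5_2 : allB 8 (fun e => a2Chk 5 2 e) = true := by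
  decide +kernel

theorem a2OK_5_3 : allB 8 (fun e => a2Chk 5 3 e) = true := by
  decide +kernel

theorem a2OK_5_4 : allB 8 (fun e => a2Chk 5 4 e) = true := by
  decide +kernel

theorem a2OK_5_5 : allB 8 (fun e => a2Chk 5 5 e) = true := by
  decide +kernel

theorem a2OK_5_6 : allB 8 (fun e => a2Chk 5 6 e) = true := by
  decide +kernel

theorem a2OK_5_7 : allB 8 (fun e => a2Chk 5 7 e) = true := by
  decide +kernel

theorem a2OK_6_0 : allB 8 (fun e => a2Chk 6 0 e) = true := by
  decide +kernel

theorem a2OK_6_1 : allB 8 (fun e => a2Chk 6 1 e) = true := by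
  decide +kernel

theorem a2OK_6_2 : allB 8 (fun e => a2Chk 6 2 e) = true := by
  decide +kernel

theorem a2OK_6_3 : allB 8 (fun e => a2Chk 6 3 e) = true := by
  decide +kernel

theorem a2OK_6_4 : allB 8 (fun e => a2Chk 6 4 e) = true := by
  decide +kernel

theorem a2OK_6_5 : allB 8 (fun e => a2Chk 6 5 e) = true := by
  decide +kernel

theorem a2OK_6_6 : allB 8 (fun e => a2Chk 6 6 e) = true := by
  decide +kernel

theorem a2OK_6_7 : allB 8 (fun e => a2Chk 6 7 e) = true := by
  decide +kernel

theorem a2OK_7_0 : allB 8 (fun e => a2Chk 7 0 e) = true := by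
  decide +kernel

theorem a2OK_7_1 : allB 8 (fun e => a2Chk 7 1 e) = true := by
  decide +kernel

theorem a2OK_7_2 : allB 8 (fun e => a2Chk 7 2 e) = true := by
  decide +kernel

theorem a2OK_7_3 : allB 8 (fun e => a2Chk 7 3 e) = true := by
  decide +kernel

theorem a2OK_7_4 : allB 8 (fun e => a2Chk 7 4 e) = true := by
  decide +kernel

theorem a2OK_7_5 : allB 8 (fun e => a2Chk 7 5 e) = true := by
  decide +kernel

theorem a2OK_7_6 : allB 8 (fun e => a2Chk 7 6 e) = true := by
  decide +kernel

theorem a2OK_7_7 : allB 8 (fun e => a2Chk 7 7 e) = true := by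
  decide +kernel


end Cfsg.Agent.Lib.helper19_M23W
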