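import Cfsg.Agent.Lib.helper19_M23W

/-! Generated: kernel checks on the 40 networks, part C6; by helper19, for S2054. -/

set_option autoImplicit false
set_option maxRecDepth 1000000
set_option Elab.async false

namespace Cfsg.Agent.Lib.helper19_M23W
open Cfsg.Agent.Lib.helper19_TC2 Cfsg.Agent.Lib.helper19_TC2L Cfsg.Agent.Lib.helper19_TC2P
  Cfsg.Agent.Lib.helper19_Benes Cfsg.Agent.Lib.helper19_BenesFix Cfsg.Agent.Lib.Helper28_BenesOrb

theorem gtCubeOK : eqW (gtW ++ (gtW ++ gtW)) [] = true := by
  decide +kernel

theorem gtOK_0 : allB 8 (fun c => gtChk 0 c) = true := by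
  decide +kernel

theorem gtOK_1 : allB 8 (fun c => gtChk 1 c) = true := by
  decide +kernel

theorem gtOK_2 : allB 8 (fun c => gtChk 2 c) = true := by
  decide +kernel

theorem gtOK_3 : allB 8 (fun c => gtChk 3 c) = true := by
  decide +kernel

theorem gtOK_4 : allB 8 (fun c => gtChk 4 c) = true := by
  decide +kernel

theorem gtOK_5 : allB 8 (fun c => gtChk 5 c) = true := by
  decide +kernel

theorem gtOK_6 : allB 8 (fun c => gtChk 6 c) = true := by
  decide +kernel

theorem gtOK_7 : allB 8 (fun c => gtChk 7 c) = true := by
  decide +kernel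

theorem d1OK : allB 24 (fun s => d1Chk s) = true := by
  decide +kernel

theorem gtMoves : checkTr nets gtW 0 28335 = true := by
  decide +kernel

theorem d1in : Nat.testBit d1bits 0 = true := by
  decide +kernel

theorem d1out : Nat.testBit d1bits 28335 = false := by
  decide +kernel

theorem tauCubeOK : allB 5 (fun k => tauCubeChk k) = true := by
  decide +kernel

theorem tauCommOK_0 : allB 5 (fun l => tauCommChk 0 l) = true := by
  decide +kernel

theorem tauCommOK_1 : allB 5 (fun l => tauCommChk 1 l) = true := by
  decide +kernel

theorem tauCommOK_2 : allB 5 (fun l => tauCommChk 2 l) = true := by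
  decide +kernel

theorem tauCommOK_3 : allB 5 (fun l => tauCommChk 3 l) = true := by
  decide +kernel

theorem tauCommOK_4 : allB 5 (fun l => tauCommChk 4 l) = true := by
  decide +kernel

theorem tauNormOK_0 : allB 5 (fun k => tauNormChk 0 k) = true := by
  decide +kernel

theorem tauNormOK_1 : allB 5 (fun k => tauNormChk 1 k) = true := by
  decide +kernel

theorem tauNormOK_2 : allB 5 (fun k => tauNormChk 2 k) = true := by
  decide +kernel

theorem tauNormOK_3 : allB 5 (fun k => tauNormChk 3 k) = true := by
  decide +kernel

theorem tauNormOK_4 : allB 5 (fun k => tauNormChk 4 k) = true := by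
  decide +kernel

theorem tauNormOK_5 : allB 5 (fun k => tauNormChk 5 k) = true := by
  decide +kernel

theorem tauNormOK_6 : allB 5 (fun k => tauNormChk 6 k) = true := by
  decide +kernel

theorem iuOK : eqW iuW imW = true := by
  decide +kernel

theorem fixOK : allB 7 (fun k => fixChk k) = true := by
  decide +kernel

theorem orbOK : allB 7 (fun k => orbChk k) = true := by
  decide +kernel


end Cfsg.Agent.Lib.helper19_M23W
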