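import Cfsg.Agent.Lib.helper19_M23Rep
import Cfsg.Agent.Lib.helper19_M23C4
import Cfsg.Agent.Lib.helper19_M23C5
import Cfsg.Agent.Lib.helper19_M23C6
import Cfsg.Agent.Lib.helper19_M23Defs
import Cfsg.Agent.Lib.helper19_CoxChain

/-!
# S2054: the data on `Fi23` delivered by the computation on the 31671 points (helper19)

* `R`, `unitRel_R`: root elements of a subgroup `Ω8+(3)` with the unit-scalar Steinberg relations;
* `gT`: an element of order 3 normalising, and not contained in, the subgroup they generate;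
* `τ`: five commuting translations of the affine `E6` subgroup `⟨b, h, c, d, e, f, i⟩`;
* `card_S`: the order of that subgroup is at least `3^5 * 51840`.
-/

set_option autoImplicit false
set_option linter.constructorNameAsVariable false

namespace Cfsg.Agent.Lib.helper19_M23Data

open Cfsg Cfsg.Spor Cfsg.Agent.Lib.helper19_TC2 Cfsg.Agent.Lib.helper19_TC2L
  Cfsg.Agent.Lib.helper19_TC2P Cfsg.Agent.Lib.helper19_Benes Cfsg.Agent.Lib.helper19_BenesFix
  Cfsg.Agent.Lib.Helper28_BenesOrb Cfsg.Agent.Lib.helper19_M23W Cfsg.Agent.Lib.helper19_M23Rep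
  Cfsg.Agent.Lib.helper19_M23 Cfsg.Agent.Lib.Helper66_S96 Cfsg.Agent.Lib.Helper66_S92

/-! ### words and powers -/

theorem wprod_replicate {Γ : Type*} [Group Γ] (f : ℕ → Γ) (s : ℕ) :
    ∀ n, wprod f (List.replicate n s) = f s ^ n
  | 0 => by simp [wprod]
  | n + 1 => by rw [List.replicate_succ, wprod, wprod_replicate f s n, pow_succ']

/-- the root element with indices `a`, `c` (numbers below 8) -/
noncomputable def Rn (a c : ℕ) : G := wprod ι (Cfsg.Agent.Lib.helper19_M23W.rw a c)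

theorem Rn_eq (a c : ℕ) : Rn a c = ι (ltr a c) ^ ex a c := wprod_replicate ι _ _

/-! ### the checks, collected -/

theorem cube_all : ∀ s < 24, cubeChk s = true := by
  intro s hs
  by_cases h1 : s < 8
  · have := allB_sound _ 8 cubeOK_0 s h1
    simp only [Nat.zero_add] at this
    exact this
  · by_cases h2 : s < 16
    · have := allB_sound _ 8 cubeOK_8 (s - 8) (by omega)
      simp only [show 8 + (s - 8) = s by omega] at this
      exact this
    · have := allB_sound _ 8 cubeOK_16 (s - 16) (by omega)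
      simp only [show 16 + (s - 16) = s by omega] at this
      exact this

theorem cm_all : ∀ s < 24, allB 24 (fun t => cmChk s t) = true := by
  intro s hs
  interval_cases s
  · exact cmOK_0
  · exact cmOK_1
  · exact cmOK_2
  · exact cmOK_3
  · exact cmOK_4
  · exact cmOK_5
  · exact cmOK_6
  · exact cmOK_7
  · exact cmOK_8
  · exact cmOK_9
  · exact cmOK_10
  · exact cmOK_11
  · exact cmOK_12
  · exact cmOK_13
  · exact cmOK_14
  · exact cmOK_15
  · exact cmOK_16
  · exact cmOK_17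
  · exact cmOK_18
  · exact cmOK_19
  · exact cmOK_20
  · exact cmOK_21
  · exact cmOK_22
  · exact cmOK_23

theorem a2_all : ∀ a < 8, ∀ c < 8, allB 8 (fun e => a2Chk a c e) = true := by
  intro a ha c hc
  interval_cases a <;> interval_cases c
  · exact a2OK_0_0
  · exact a2OK_0_1
  · exact a2OK_0_2
  · exact a2OK_0_3
  · exact a2OK_0_4
  · exact a2OK_0_5
  · exact a2OK_0_6
  · exact a2OK_0_7
  · exact a2OK_1_0
  · exact a2OK_1_1
  · exact a2OK_1_2
  · exact a2OK_1_3
  · exact a2OK_1_4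
  · exact a2OK_1_5
  · exact a2OK_1_6
  · exact a2OK_1_7
  · exact a2OK_2_0
  · exact a2OK_2_1
  · exact a2OK_2_2
  · exact a2OK_2_3
  · exact a2OK_2_4
  · exact a2OK_2_5
  · exact a2OK_2_6
  · exact a2OK_2_7
  · exact a2OK_3_0
  · exact a2OK_3_1
  · exact a2OK_3_2
  · exact a2OK_3_3
  · exact a2OK_3_4
  · exact a2OK_3_5
  · exact a2OK_3_6
  · exact a2OK_3_7
  · exact a2OK_4_0
  · exact a2OK_4_1
  · exact a2OK_4_2
  · exact a2OK_4_3
  · exact a2OK_4_4
  · exact a2OK_4_5
  · exact a2OK_4_6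
  · exact a2OK_4_7
  · exact a2OK_5_0
  · exact a2OK_5_1
  · exact a2OK_5_2
  · exact a2OK_5_3
  · exact a2OK_5_4
  · exact a2OK_5_5
  · exact a2OK_5_6
  · exact a2OK_5_7
  · exact a2OK_6_0
  · exact a2OK_6_1
  · exact a2OK_6_2
  · exact a2OK_6_3
  · exact a2OK_6_4
  · exact a2OK_6_5
  · exact a2OK_6_6
  · exact a2OK_6_7
  · exact a2OK_7_0
  · exact a2OK_7_1
  · exact a2OK_7_2
  · exact a2OK_7_3
  · exact a2OK_7_4
  · exact a2OK_7_5
  · exact a2OK_7_6
  · exact a2OK_7_7

theorem gt_all : ∀ a < 8, allB 8 (fun c => gtChk a c) = true := by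
  intro a ha
  interval_cases a
  · exact gtOK_0
  · exact gtOK_1
  · exact gtOK_2
  · exact gtOK_3
  · exact gtOK_4
  · exact gtOK_5
  · exact gtOK_6
  · exact gtOK_7

/-! ### the root letters -/

theorem ι_cube (s : ℕ) (hs : s < 24) : ι (10 + s) ^ 3 = 1 := by
  have h := eq_of_eqW (cube_all s hs)
  simp only [wprod, mul_one] at h
  rw [pow_succ, pow_two, mul_assoc]
  exact h

theorem ι_comm (s t : ℕ) (hs : s < 24) (ht : t < 24) (hb : Nat.testBit (nthV cmT s) t = true) :
    Commute (ι (10 + s)) (ι (10 + t)) := by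
  have h := allB_sound _ 24 (cm_all s hs) t ht
  unfold cmChk at h
  rw [hb] at h
  have h2 := eq_of_eqW h
  simp only [wprod, mul_one] at h2
  exact h2

/-! ### the tables -/

theorem F1 : ∀ a < 8, ∀ c < 8, ltr c a = ltr a c ∧ (ex a c + ex c a = 0 ∨ ex a c + ex c a = 3) := by
  decide +kernel

theorem F2 : ∀ a < 8, ∀ c < 8, ex a c = 0 ∨ (10 ≤ ltr a c ∧ ltr a c < 34) := by
  decide +kernel

theorem F3 : ∀ a < 8, ex a a = 0 ∧ ex a (ngN a) = 0 := by
  decide +kernel

set_option synthInstance.maxSize 2000 in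
set_option synthInstance.maxHeartbeats 400000 in
theorem F4 : ∀ a < 8, ∀ c < 8, ∀ d < 8, ∀ e < 8,
    (d ≠ ngN a ∧ d ≠ ngN c ∧ e ≠ ngN a ∧ e ≠ ngN c) →
    (ex a c = 0 ∨ ex d e = 0 ∨ ltr a c = ltr d e ∨
      Nat.testBit (nthV cmT (ltr a c - 10)) (ltr d e - 10) = true ∨
      Nat.testBit (nthV cmT (ltr d e - 10)) (ltr a c - 10) = true) := by
  decide +kernel

theorem F5 : ∀ a < 8, ∀ c < 8,
    (ex a c = 0 ∨ ex (ngN a) c = 0 ∨ ltr a c = ltr (ngN a) c ∨
      Nat.testBit (nthV cmT (ltr a c - 10)) (ltr (ngN a) c - 10) = true ∨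
      Nat.testBit (nthV cmT (ltr (ngN a) c - 10)) (ltr a c - 10) = true) := by
  decide +kernel

theorem ngN_lt (a : ℕ) : ngN a < 8 := Nat.mod_lt _ (by norm_num)

/-! ### the relations, with indices in `ℕ` -/

theorem letter_cube {a c : ℕ} (ha : a < 8) (hc : c < 8) (h : ex a c ≠ 0) : ι (ltr a c) ^ 3 = 1 := by
  rcases F2 a ha c hc with h0 | ⟨h1, h2⟩
  · exact absurd h0 h
  · have := ι_cube (ltr a c - 10) (by omega)
    rwa [show 10 + (ltr a c - 10) = ltr a c by omega] at this

theorem letter_comm {a c d e : ℕ} (ha : a < 8) (hc : c < 8) (hd : d < 8) (he : e < 8)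
    (h1 : ex a c ≠ 0) (h2 : ex d e ≠ 0)
    (h : ltr a c = ltr d e ∨ Nat.testBit (nthV cmT (ltr a c - 10)) (ltr d e - 10) = true ∨
      Nat.testBit (nthV cmT (ltr d e - 10)) (ltr a c - 10) = true) :
    Commute (ι (ltr a c)) (ι (ltr d e)) := by
  rcases F2 a ha c hc with h0 | ⟨p1, p2⟩
  · exact absurd h0 h1
  rcases F2 d hd e he with h0 | ⟨q1, q2⟩
  · exact absurd h0 h2
  rcases h with h | h | h
  · rw [h]
  · have := ι_comm (ltr a c - 10) (ltr d e - 10) (by omega) (by omega) h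
    rwa [show 10 + (ltr a c - 10) = ltr a c by omega,
      show 10 + (ltr d e - 10) = ltr d e by omega] at this
  · have := ι_comm (ltr d e - 10) (ltr a c - 10) (by omega) (by omega) h
    rw [show 10 + (ltr a c - 10) = ltr a c by omega,
      show 10 + (ltr d e - 10) = ltr d e by omega] at this
    exact this.symm

theorem Rn_of_ex {a c : ℕ} (h : ex a c = 0) : Rn a c = 1 := by rw [Rn_eq, h, pow_zero]

theorem Rn_anti {a c : ℕ} (ha : a < 8) (hc : c < 8) : Rn c a = (Rn a c)⁻¹ := by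
  rw [Rn_eq, Rn_eq, (F1 a ha c hc).1]
  apply eq_inv_of_mul_eq_one_left
  rw [← pow_add, Nat.add_comm]
  rcases (F1 a ha c hc).2 with h | h
  · rw [h, pow_zero]
  · rw [h]
    by_cases h0 : ex a c = 0
    · have h3 : ex c a ≠ 0 := by omega
      have := letter_cube hc ha h3
      rwa [(F1 a ha c hc).1] at this
    · exact letter_cube ha hc h0

theorem Rn_cube {a c : ℕ} (ha : a < 8) (hc : c < 8) : Rn a c ^ 3 = 1 := by
  rw [Rn_eq, ← pow_mul, Nat.mul_comm, pow_mul]
  by_cases h0 : ex a c = 0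
  · rw [h0, pow_zero]
  · rw [letter_cube ha hc h0, one_pow]

theorem Rn_comm {a c d e : ℕ} (ha : a < 8) (hc : c < 8) (hd : d < 8) (he : e < 8)
    (h1 : d ≠ ngN a) (h2 : d ≠ ngN c) (h3 : e ≠ ngN a) (h4 : e ≠ ngN c) :
    Rn a c * Rn d e = Rn d e * Rn a c := by
  rcases F4 a ha c hc d hd e he ⟨h1, h2, h3, h4⟩ with h | h | h
  · rw [Rn_of_ex h, one_mul, mul_one]
  · rw [Rn_of_ex h, one_mul, mul_one]
  · by_cases e1 : ex a c = 0
    · rw [Rn_of_ex e1, one_mul, mul_one]
    by_cases e2 : ex d e = 0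
    · rw [Rn_of_ex e2, one_mul, mul_one]
    rw [Rn_eq, Rn_eq]
    exact ((letter_comm ha hc hd he e1 e2 h).pow_pow _ _).eq

theorem Rn_comm2 {a c : ℕ} (ha : a < 8) (hc : c < 8) :
    Rn a c * Rn (ngN a) c = Rn (ngN a) c * Rn a c := by
  rcases F5 a ha c hc with h | h | h
  · rw [Rn_of_ex h, one_mul, mul_one]
  · rw [Rn_of_ex h, one_mul, mul_one]
  · by_cases e1 : ex a c = 0
    · rw [Rn_of_ex e1, one_mul, mul_one]
    by_cases e2 : ex (ngN a) c = 0
    · rw [Rn_of_ex e2, one_mul, mul_one]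
    rw [Rn_eq, Rn_eq]
    exact ((letter_comm ha hc (ngN_lt a) hc e1 e2 h).pow_pow _ _).eq

theorem Rn_a2 {a c e : ℕ} (ha : a < 8) (hc : c < 8) (he : e < 8)
    (h1 : a ≠ c) (h2 : a ≠ ngN c) (h3 : a ≠ e) (h4 : a ≠ ngN e) (h5 : c ≠ e) (h6 : c ≠ ngN e) :
    Rn a c * Rn (ngN c) e * (Rn a c)⁻¹ * (Rn (ngN c) e)⁻¹ = Rn a e := by
  have h := allB_sound _ 8 (a2_all a ha c hc) e he
  have h' := skipEq_sound (skipEq_sound (skipEq_sound (skipEq_sound (skipEq_sound
    (skipEq_sound h h1) h2) h3) h4) h5) h6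
  have h7 := eq_of_eqW h'
  rw [wprod_append, wprod_append, wprod_append] at h7
  rw [← Rn_anti ha hc, ← Rn_anti (ngN_lt c) he, mul_assoc, mul_assoc]
  exact h7

/-! ### the indices `Fin 4 ⊕ Fin 4` -/

/-- the number of an index -/
def ix : I8 → ℕ := Sum.elim (fun i => i.val) (fun i => i.val + 4)

theorem ix_lt (a : I8) : ix a < 8 := by
  rcases a with i | i <;> simp only [ix, Sum.elim_inl, Sum.elim_inr] <;> omega

theorem ix_inj {a c : I8} (h : ix a = ix c) : a = c := by
  rcases a with i | i <;> rcases c with j | j <;> simp only [ix, Sum.elim_inl, Sum.elim_inr] at h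
  · exact congrArg Sum.inl (Fin.ext h)
  · omega
  · omega
  · exact congrArg Sum.inr (Fin.ext (by omega))

theorem ix_ng (a : I8) : ix (ng a) = ngN (ix a) := by
  rcases a with i | i <;> simp only [ix, ng, Sum.swap_inl, Sum.swap_inr, Sum.elim_inl,
    Sum.elim_inr, ngN] <;> omega

theorem ix_ne {a c : I8} (h : a ≠ c) : ix a ≠ ix c := fun h' => h (ix_inj h')

theorem ix_ne_ng {a c : I8} (h : a ≠ ng c) : ix a ≠ ngN (ix c) := by
  rw [← ix_ng]; exact ix_ne h

/-- the index of a number -/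
def xi (n : ℕ) : I8 := if h : n < 4 then Sum.inl ⟨n, h⟩ else Sum.inr ⟨(n - 4) % 4, Nat.mod_lt _ (by norm_num)⟩

theorem ix_xi {n : ℕ} (h : n < 8) : ix (xi n) = n := by
  unfold xi
  by_cases h4 : n < 4
  · simp [h4, ix]
  · simp only [h4, dite_false, ix, Sum.elim_inr]
    omega

/-- the root elements with scalar 1 -/
noncomputable def R (a c : I8) : G := Rn (ix a) (ix c)

theorem unitRel_R : UnitRel R where
  anti := fun a c => Rn_anti (ix_lt a) (ix_lt c)
  opp := fun a => by
    show Rn (ix a) (ix (ng a)) = 1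
    rw [ix_ng]
    exact Rn_of_ex (F3 _ (ix_lt a)).2
  diag := fun a => Rn_of_ex (F3 _ (ix_lt a)).1
  cube := fun a c => Rn_cube (ix_lt a) (ix_lt c)
  comm := fun a c d e h1 h2 h3 h4 =>
    Rn_comm (ix_lt a) (ix_lt c) (ix_lt d) (ix_lt e) (ix_ne_ng h1) (ix_ne_ng h2) (ix_ne_ng h3)
      (ix_ne_ng h4)
  comm2 := fun a c => by
    show Rn (ix a) (ix c) * Rn (ix (ng a)) (ix c) = Rn (ix (ng a)) (ix c) * Rn (ix a) (ix c)
    rw [ix_ng]
    exact Rn_comm2 (ix_lt a) (ix_lt c)
  a2 := fun a c e h1 h2 h3 h4 h5 h6 => by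
    show Rn (ix a) (ix c) * Rn (ix (ng c)) (ix e) * (Rn (ix a) (ix c))⁻¹ *
      (Rn (ix (ng c)) (ix e))⁻¹ = Rn (ix a) (ix e)
    rw [ix_ng]
    exact Rn_a2 (ix_lt a) (ix_lt c) (ix_lt e) (ix_ne h1) (ix_ne_ng h2) (ix_ne h3) (ix_ne_ng h4)
      (ix_ne h5) (ix_ne_ng h6)

/-- the family of root elements -/
noncomputable def XS : I8 → I8 → ZMod 3 → G := fun a c t => R a c ^ t.val

theorem XS_one (a c : I8) : XS a c 1 = R a c := by
  show R a c ^ (1 : ZMod 3).val = R a c
  rw [ZMod.val_one, pow_one]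

theorem R_mem (a c : I8) : R a c ∈ rootClosure XS := by
  apply Subgroup.subset_closure
  exact ⟨a, c, 1, (XS_one a c).symm⟩

theorem XS_mem (a c : I8) (t : ZMod 3) : XS a c t ∈ rootClosure XS :=
  Subgroup.pow_mem _ (R_mem a c) _

theorem ι_ten_ne : ι 10 ≠ 1 := by
  have h := ne_one_of_moves (w := [10]) (x := 0) (y := 327) (by norm_num) (by norm_num) movedR
  simpa [wprod] using h

theorem Rn_01 : Rn 0 1 = ι 10 ^ 2 := by
  rw [Rn_eq]
  have h1 : ltr 0 1 = 10 := by decide +kernel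
  have h2 : ex 0 1 = 2 := by decide +kernel
  rw [h1, h2]

theorem xs_nc : ∃ a c d e t u, XS a c t * XS d e u ≠ XS d e u * XS a c t := by
  refine ⟨Sum.inl 0, Sum.inl 2, ng (Sum.inl 2), Sum.inl 1, 1, 1, ?_⟩
  rw [XS_one, XS_one]
  intro h
  have h2 := unitRel_R.a2 (Sum.inl 0) (Sum.inl 2) (Sum.inl 1) (by decide) (by decide) (by decide)
    (by decide) (by decide) (by decide)
  rw [h, mul_inv_cancel_right, mul_inv_cancel] at h2
  have h3 : R (Sum.inl 0) (Sum.inl 1) = ι 10 ^ 2 := Rn_01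
  rw [h3] at h2
  have h4 : ι 10 ^ 3 = 1 := ι_cube 0 (by norm_num)
  apply ι_ten_ne
  calc ι 10 = ι 10 ^ 3 * (ι 10 ^ 2)⁻¹ := by group
    _ = 1 := by rw [h4, ← h2]; group

/-! ### the triality element -/

/-- the triality element `d * e'` -/
noncomputable def gT : G := wprod ι gtW

theorem gT_cube : gT ^ 3 = 1 := by
  have h := eq_of_eqW gtCubeOK
  rw [wprod_append, wprod_append] at h
  rw [pow_succ, pow_two, mul_assoc]
  exact h

theorem gt_tab_lt : ∀ n, nthV gtT n < 64 :=
  nthV_mem (fun v => v < 64) (by norm_num) gtT (by decide)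

theorem gT_conj (a c : ℕ) (ha : a < 8) (hc : c < 8) :
    gT * Rn a c = Rn (nthV gtT (8 * a + c) / 8) (nthV gtT (8 * a + c) % 8) * gT := by
  have h := allB_sound _ 8 (gt_all a ha) c hc
  have h2 := eq_of_eqW h
  rw [wprod_append, wprod_append] at h2
  exact h2

theorem gT_norm : ∀ a c t, gT * XS a c t * gT⁻¹ ∈ rootClosure XS := by
  intro a c t
  have h := gT_conj (ix a) (ix c) (ix_lt a) (ix_lt c)
  have hn : nthV gtT (8 * ix a + ix c) < 64 := gt_tab_lt _
  have e : gT * R a c * gT⁻¹ =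
      R (xi (nthV gtT (8 * ix a + ix c) / 8)) (xi (nthV gtT (8 * ix a + ix c) % 8)) := by
    show gT * Rn (ix a) (ix c) * gT⁻¹ = Rn (ix (xi _)) (ix (xi _))
    rw [ix_xi (by omega), ix_xi (by omega), h]
    group
  have e2 : gT * XS a c t * gT⁻¹ = (gT * R a c * gT⁻¹) ^ t.val := by
    show gT * R a c ^ t.val * gT⁻¹ = _
    rw [conj_pow]
  rw [e2, e]
  exact Subgroup.pow_mem _ (R_mem _ _) _

/-- membership in the orbit of length 1080 -/
def inD (x : ℕ) : Bool := Nat.testBit d1bits x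

/-- the elements preserving the orbit of length 1080 -/
def presSub : Subgroup G where
  carrier := {g | ∀ x : Fin 31671, inD (((psi g)⁻¹ x : Fin 31671) : ℕ) = inD x}
  one_mem' := by
    intro x
    simp
  mul_mem' := by
    intro g h hg hh x
    rw [map_mul, mul_inv_rev, Equiv.Perm.mul_apply, hh, hg]
  inv_mem' := by
    intro g hg x
    have h := hg (psi g x)
    have e : (psi g)⁻¹ (psi g x) = x := by simp
    rw [e] at h
    rw [map_inv, inv_inv]
    exact h.symm

theorem ι_root_pres (s : ℕ) (hs : s < 24) : ι (10 + s) ∈ presSub := by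
  intro x
  rw [rep_ι (10 + s) x]
  have h := Nat.eq_of_beq_eq_true (allB_sound _ 24 d1OK s hs)
  have h2 := congrArg (fun z => Nat.testBit z x) h
  simp only [testBit_net _ (hok (10 + s))] at h2
  exact h2

theorem Rn_pres {a c : ℕ} (ha : a < 8) (hc : c < 8) : Rn a c ∈ presSub := by
  rw [Rn_eq]
  rcases F2 a ha c hc with h0 | ⟨h1, h2⟩
  · rw [h0, pow_zero]; exact presSub.one_mem
  · apply Subgroup.pow_mem
    have := ι_root_pres (ltr a c - 10) (by omega)
    rwa [show 10 + (ltr a c - 10) = ltr a c by omega] at this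

theorem rootClosure_le : rootClosure XS ≤ presSub := by
  apply (Subgroup.closure_le _).mpr
  rintro g ⟨a, c, t, rfl⟩
  exact Subgroup.pow_mem _ (Rn_pres (ix_lt a) (ix_lt c)) _

theorem gT_not_mem : gT ∉ rootClosure XS := by
  intro h
  have h1 := rootClosure_le h ⟨0, by norm_num⟩
  have h2 := rep_word gtW ⟨0, by norm_num⟩
  have h3 : tr A gtW 0 = 28335 := tr_of_check hok gtMoves
  rw [show (((psi gT)⁻¹ ⟨0, by norm_num⟩ : Fin 31671) : ℕ) = 28335 from h2.trans h3] at h1
  have h4 : inD 28335 = false := d1out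
  have h5 : inD 0 = true := d1in
  rw [h4] at h1
  rw [h5] at h1
  cases h1

/-! ### the translations -/

/-- the translations `t_c, t_d, t_e, t_f, t_h` -/
noncomputable def τ (k : Fin 5) : G := ι (35 + k.val)

theorem τ_cube : ∀ k, τ k ^ 3 = 1 := by
  intro k
  have h := eq_of_eqW (allB_sound _ 5 tauCubeOK k.val k.2)
  simp only [wprod, mul_one] at h
  rw [pow_succ, pow_two, mul_assoc]
  exact h

theorem tauComm_all : ∀ k < 5, allB 5 (fun l => tauCommChk k l) = true := by
  intro k hk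
  interval_cases k
  · exact tauCommOK_0
  · exact tauCommOK_1
  · exact tauCommOK_2
  · exact tauCommOK_3
  · exact tauCommOK_4

theorem τ_comm : ∀ k l, τ k * τ l = τ l * τ k := by
  intro k l
  have h := eq_of_eqW (allB_sound _ 5 (tauComm_all k.val k.2) l.val l.2)
  simp only [wprod, mul_one] at h
  exact h

/-- the seven generators of the affine E6 subgroup, numbered `0 b, 1 h, 2 c, 3 d, 4 e, 5 f, 6 i` -/
def g7 : Fin 7 → Fi23.Gen := ![.b, .h, .c, .d, .e, .f, .i]

theorem gen_eq_ι (x : Fi23.Gen) : gen x = ι (idx x) := by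
  rw [ι_gen (idx x) (idx_lt x), S_idx]

theorem gen_g7 (i : Fin 7) : gen (g7 i) = ι (nthV g7T i.val) := by
  rw [gen_eq_ι]
  fin_cases i <;> rfl

theorem tauNorm_all : ∀ i < 7, allB 5 (fun k => tauNormChk i k) = true := by
  intro i hi
  interval_cases i
  · exact tauNormOK_0
  · exact tauNormOK_1
  · exact tauNormOK_2
  · exact tauNormOK_3
  · exact tauNormOK_4
  · exact tauNormOK_5
  · exact tauNormOK_6

theorem wprod_tau_mem : ∀ (w : List ℕ), (∀ s ∈ w, 35 ≤ s ∧ s < 40) →
    wprod ι w ∈ Subgroup.closure (Set.range τ)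
  | [], _ => Subgroup.one_mem _
  | s :: w, h => by
    have hs := h s (by simp)
    refine Subgroup.mul_mem _ ?_ (wprod_tau_mem w fun t ht => h t (by simp [ht]))
    apply Subgroup.subset_closure
    refine ⟨⟨s - 35, by omega⟩, ?_⟩
    show ι (35 + (s - 35)) = ι s
    rw [show 35 + (s - 35) = s by omega]

theorem tw_letters : ∀ n, ∀ s ∈ nthW twT n, 35 ≤ s ∧ s < 40 := by
  apply nthW_mem (fun w => ∀ s ∈ w, 35 ≤ s ∧ s < 40) (by simp)
  decide

theorem τ_norm : ∀ i k, gen (g7 i) * τ k * (gen (g7 i))⁻¹ ∈ Subgroup.closure (Set.range τ) := by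
  intro i k
  have h := eq_of_eqW (allB_sound _ 5 (tauNorm_all i.val i.2) k.val k.2)
  rw [wprod_append] at h
  simp only [wprod, mul_one] at h
  rw [gen_g7]
  have e : ι (nthV g7T i.val) * τ k * (ι (nthV g7T i.val))⁻¹ = wprod ι (nthW twT (5 * i.val + k.val)) := by
    show ι (nthV g7T i.val) * ι (35 + k.val) * (ι (nthV g7T i.val))⁻¹ = _
    rw [h]
    group
  rw [e]
  exact wprod_tau_mem _ (tw_letters _)

/-! ### the generator `i` modulo the translations -/

theorem ι_inv (s : ℕ) (hs : s < 10) : (ι s)⁻¹ = ι s := by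
  rw [ι_gen s hs]
  apply psi_injective
  rw [map_inv, psi_S s hs, q_inv s hs]

theorem wprod_reverse_inv : ∀ (w : List ℕ), (∀ s ∈ w, s < 10) →
    wprod ι w.reverse = (wprod ι w)⁻¹
  | [], _ => by simp [wprod]
  | s :: w, h => by
    rw [List.reverse_cons, wprod_append, wprod_reverse_inv w fun t ht => h t (by simp [ht])]
    show (wprod ι w)⁻¹ * (ι s * 1) = (ι s * wprod ι w)⁻¹
    rw [mul_one, mul_inv_rev, ι_inv s (h s (by simp))]

/-- the word `h d e c d h f e b c` -/
def vW : List ℕ := [8, 3, 4, 2, 3, 8, 5, 4, 1, 2]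

theorem uW_eq : uW = vW ++ (3 :: vW.reverse) := by decide

theorem uword_eq : (uword fun i => gen (g7 i)) = wprod ι uW := by
  have h1 : (uword fun i => gen (g7 i)) =
      (gen .h * gen .d * gen .e * gen .c * gen .d * gen .h * gen .f * gen .e * gen .b * gen .c) *
        gen .d *
        (gen .h * gen .d * gen .e * gen .c * gen .d * gen .h * gen .f * gen .e * gen .b * gen .c)⁻¹ :=
    rfl
  have h2 : gen .h * gen .d * gen .e * gen .c * gen .d * gen .h * gen .f * gen .e * gen .b * gen .c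
      = wprod ι vW := by
    simp only [gen_eq_ι, idx, vW, wprod, mul_one, mul_assoc]
  rw [h1, h2, uW_eq, wprod_append]
  show _ = wprod ι vW * (ι 3 * wprod ι vW.reverse)
  rw [wprod_reverse_inv vW (by decide), gen_eq_ι, mul_assoc]
  rfl

theorem uword_inv : (uword fun i => gen (g7 i))⁻¹ = uword fun i => gen (g7 i) := by
  have h : (uword fun i => gen (g7 i)) = wprod ι vW * ι 3 * (wprod ι vW)⁻¹ := by
    rw [uword_eq, uW_eq, wprod_append]
    show wprod ι vW * (ι 3 * wprod ι vW.reverse) = _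
    rw [wprod_reverse_inv vW (by decide), mul_assoc]
  rw [h, mul_inv_rev, mul_inv_rev, inv_inv, ι_inv 3 (by norm_num), mul_assoc]

theorem i_mem : gen (g7 6) * (uword fun i => gen (g7 i))⁻¹ ∈ Subgroup.closure (Set.range τ) := by
  rw [uword_inv, uword_eq]
  have h := eq_of_eqW iuOK
  have e : gen (g7 6) * wprod ι uW = wprod ι iuW := by
    rw [gen_g7]
    rfl
  rw [e, h]
  exact wprod_tau_mem _ (by decide)

/-! ### the order of the affine subgroup -/

/-- the action on the numbers -/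
noncomputable def actN (g : G) (x : ℕ) : ℕ :=
  if h : x < 31671 then ((psi g ⟨x, h⟩ : Fin 31671) : ℕ) else x

theorem actN_of_lt (g : G) {x : ℕ} (h : x < 31671) : actN g x = ((psi g ⟨x, h⟩ : Fin 31671) : ℕ) := by
  simp [actN, h]

theorem actN_lt (g : G) {x : ℕ} (h : x < 31671) : actN g x < 31671 := by
  rw [actN_of_lt g h]
  exact (psi g ⟨x, h⟩).2

theorem actN_one (x : ℕ) : actN 1 x = x := by
  by_cases h : x < 31671
  · rw [actN_of_lt 1 h]; simp
  · simp [actN, h]

theorem actN_mul (g h : G) (x : ℕ) : actN (g * h) x = actN g (actN h x) := by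
  by_cases hx : x < 31671
  · rw [actN_of_lt _ hx, actN_of_lt h hx, actN_of_lt g (psi h ⟨x, hx⟩).2, map_mul,
      Equiv.Perm.mul_apply]
  · simp [actN, hx]

theorem actN_S (s : ℕ) (hs : s < 10) {x : ℕ} (hx : x < 31671) : actN (S s) x = A s x := by
  rw [actN_of_lt _ hx, psi_S s hs, ← q_inv s hs, q, inv_inv, perm_apply isAction hs]

/-- the generators of the chain -/
noncomputable def rC (i : ℕ) : G := S (nthV chainT i)

theorem chain_lt : ∀ i, nthV chainT i < 10 :=
  nthV_mem (fun v => v < 10) (by norm_num) chainT (by decide)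

theorem base_lt : ∀ k, nthV baseT k < 31671 :=
  nthV_mem (fun v => v < 31671) (by norm_num) baseT (by decide)

theorem pts_lt : ∀ k, ∀ u ∈ nthW ptsT k, u < 31671 := by
  apply nthW_mem (fun w => ∀ u ∈ w, u < 31671) (by simp)
  decide +kernel

theorem take_chain : ∀ k < 7, ∀ s ∈ List.take (k + 1) chainT, ∃ i < k + 1, nthV chainT i = s := by
  decide

theorem conn_elt {ls : List ℕ} (hls : ∀ s ∈ ls, s < 10) {v : ℕ} (hv : v < 31671) {x : ℕ}
    (h : Conn A ls v x) : x < 31671 → ∃ g ∈ Subgroup.closure (S '' {s | s ∈ ls}), actN g v = x := by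
  induction h with
  | base => exact fun _ => ⟨1, Subgroup.one_mem _, actN_one v⟩
  | step s hs y _ ih =>
    intro hy
    obtain ⟨g, hg, hgv⟩ := ih (hlt s y hy)
    refine ⟨S s * g, Subgroup.mul_mem _ (Subgroup.subset_closure ⟨s, hs, rfl⟩) hg, ?_⟩
    rw [actN_mul, hgv, actN_S s (hls s hs) (hlt s y hy)]
    exact isAction.cancel s (hls s hs) y hy

theorem orb_elt (k : ℕ) (hk : k < 7) : ∀ u ∈ nthW ptsT k,
    ∃ g ∈ Subgroup.closure (rC '' {i | i < k + 1}), actN g (nthV baseT k) = u := by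
  intro u hu
  have h := Nat.eq_of_beq_eq_true (allB_sound _ 7 orbOK k hk)
  have h2 := congrArg (fun z => Nat.testBit z u) h
  have h3 : (bitsOf (nthW ptsT k)).testBit u = true := (testBit_bitsOf u _).mpr hu
  change (bitsOf (nthW ptsT k) &&& orbBits nets (List.take (k + 1) chainT) 8 (nthV baseT k)).testBit u
    = (bitsOf (nthW ptsT k)).testBit u at h2
  rw [Nat.testBit_and, h3, Bool.true_and] at h2
  have hc := conn_of_orbBits hok 8 u h2
  have hls : ∀ s ∈ List.take (k + 1) chainT, s < 10 := by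
    intro s hs
    obtain ⟨i, _, rfl⟩ := take_chain k hk s hs
    exact chain_lt i
  obtain ⟨g, hg, hgv⟩ := conn_elt hls (base_lt k) hc (pts_lt k u hu)
  refine ⟨g, ?_, hgv⟩
  refine Subgroup.closure_mono ?_ hg
  rintro _ ⟨s, hs, rfl⟩
  obtain ⟨i, hi, rfl⟩ := take_chain k hk s hs
  exact ⟨i, hi, rfl⟩

theorem fix_elt (k : ℕ) (hk : k < 7) : ∀ i < k, actN (rC i) (nthV baseT k) = nthV baseT k := by
  intro i hi
  have h := allB_sound _ k (allB_sound _ 7 fixOK k hk) i hi
  have h2 : tr A [nthV chainT i] (nthV baseT k) = nthV baseT k := tr_of_check hok h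
  rw [tr_single] at h2
  rw [rC, actN_S _ (chain_lt i) (base_lt k), h2]

instance finG : Finite G := Cfsg.Agent.Lib.Helper28_Fi23Order.finiteG

theorem pts_nodup : ∀ k < 7, (nthW ptsT k).Nodup := by
  decide +kernel

theorem step_le (k : ℕ) (hk : k < 7) :
    (nthW ptsT k).length * Nat.card (Subgroup.closure (rC '' {i | i < k})) ≤
      Nat.card (Subgroup.closure (rC '' {i | i < k + 1})) :=
  Cfsg.Agent.Lib.helper19_CoxChain.lb_step actN actN_one actN_mul rC k (nthV baseT k)
    (fix_elt k hk) (nthW ptsT k) (pts_nodup k hk) (orb_elt k hk) inferInstance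

theorem card_chain : 3 ^ 5 * 51840 ≤ Nat.card (Subgroup.closure (rC '' {i | i < 7})) := by
  have h0 := step_le 0 (by norm_num)
  have h1 := step_le 1 (by norm_num)
  have h2 := step_le 2 (by norm_num)
  have h3 := step_le 3 (by norm_num)
  have h4 := step_le 4 (by norm_num)
  have h5 := step_le 5 (by norm_num)
  have h6 := step_le 6 (by norm_num)
  have l0 : (nthW ptsT 0).length = 2 := by decide +kernel
  have l1 : (nthW ptsT 1).length = 3 := by decide +kernel
  have l2 : (nthW ptsT 2).length = 4 := by decide +kernel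
  have l3 : (nthW ptsT 3).length = 5 := by decide +kernel
  have l4 : (nthW ptsT 4).length = 6 := by decide +kernel
  have l5 : (nthW ptsT 5).length = 72 := by decide +kernel
  have l6 : (nthW ptsT 6).length = 243 := by decide +kernel
  rw [l0] at h0
  rw [l1] at h1
  rw [l2] at h2
  rw [l3] at h3
  rw [l4] at h4
  rw [l5] at h5
  rw [l6] at h6
  have hpos : 1 ≤ Nat.card (Subgroup.closure (rC '' {i | i < 0})) := Nat.card_pos
  simp only [Nat.zero_add] at h0 h1 h2 h3 h4 h5 h6
  norm_num at h0 h1 h2 h3 h4 h5 h6 ⊢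
  omega

theorem card_S : 3 ^ 5 * 51840 ≤ Nat.card (Subgroup.closure (Set.range fun i => gen (g7 i))) := by
  refine card_chain.trans ?_
  apply Subgroup.card_le_of_le
  apply (Subgroup.closure_le _).mpr
  rintro _ ⟨i, hi, rfl⟩
  apply Subgroup.subset_closure
  have hi' : i < 7 := hi
  have e : ∀ x : Fi23.Gen, S (idx x) = gen x := fun x => S_idx x
  interval_cases i
  · exact ⟨6, (e .i).symm⟩
  · exact ⟨1, (e .h).symm⟩
  · exact ⟨3, (e .d).symm⟩
  · exact ⟨2, (e .c).symm⟩
  · exact ⟨0, (e .b).symm⟩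
  · exact ⟨4, (e .e).symm⟩
  · exact ⟨5, (e .f).symm⟩

end Cfsg.Agent.Lib.helper19_M23Data
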