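import Cfsg.Agent.S1697
import Cfsg.Agent.Lib.helper19_M23C1
import Cfsg.Agent.Lib.helper19_M23C2
import Cfsg.Agent.Lib.helper19_M23C3

/-!
# S2054: the permutation representation of `Fi23` on 31671 points given by the networks (helper19)

The ten generator networks satisfy the relators of the presentation, whence a homomorphism `psi`
to the permutations of `Fin 31671`; it is injective because `Fi23` is simple.  A group element `g`
*represents* a map `f` of the points if `(psi g)⁻¹` is `f`; words in the 40 letters are compared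
through their networks.
-/

set_option autoImplicit false
set_option linter.constructorNameAsVariable false

namespace Cfsg.Agent.Lib.helper19_M23Rep

open Cfsg Cfsg.Spor Cfsg.Agent.Lib.helper19_TC2 Cfsg.Agent.Lib.helper19_TC2L
  Cfsg.Agent.Lib.helper19_TC2P Cfsg.Agent.Lib.helper19_Benes Cfsg.Agent.Lib.helper19_BenesFix
  Cfsg.Agent.Lib.Helper28_BenesOrb Cfsg.Agent.Lib.helper19_M23W

/-- the group -/
abbrev G : Type := Spor.Fi23

theorem hok : ∀ s, (nthN nets s).Ok := okNets_sound nets netsOK

theorem nthN_of_le : ∀ (l : List Net) (n : ℕ), l.length ≤ n → nthN l n = .nil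
  | [], _, _ => rfl
  | t :: l, 0, h => by simp at h
  | t :: l, n + 1, h => by
    rw [nthN_cons_succ]
    exact nthN_of_le l n (by simpa using h)

theorem nets_length : nets.length = 40 := rfl

theorem hlt : ∀ s, ∀ x < 31671, A s x < 31671 := by
  intro s x hx
  by_cases hs : s < 40
  · exact act_lt hok (checkRange_sound nets 31671 40 0 rangeOK s (by omega) (by omega)) hx
  · have : nthN nets s = .nil := nthN_of_le nets s (by rw [nets_length]; omega)
    show swN (nthN nets s) x < 31671
    rw [this]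
    exact hx

theorem tr_lt' : ∀ (w : List ℕ) (x : ℕ), x < 31671 → tr A w x < 31671
  | [], _, hx => hx
  | s :: w, x, hx => tr_lt' w _ (hlt s x hx)

/-- two words with the same networks have the same traces -/
theorem tr_eq_of_planes {w1 w2 : List ℕ}
    (h : ∀ j < 15, applyW nets w1 (plane j 15) = applyW nets w2 (plane j 15)) :
    ∀ x < 31671, tr A w1 x = tr A w2 x :=
  eq_of_planes hok hok (N := 31671) (n := 15) (by norm_num) w1 w2 (fun x hx => tr_lt' w1 x hx)
    (fun x hx => tr_lt' w2 x hx) h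

theorem tr_eq_of_eqW {w1 w2 : List ℕ} (h : eqW w1 w2 = true) :
    ∀ x < 31671, tr A w1 x = tr A w2 x :=
  tr_eq_of_planes fun j hj => checkEqPlanes_sound nets w1 nets w2 15 15 0 h j (by omega) (by omega)

theorem tr_eq_of_eqWp {w1 w2 : List ℕ} (h0 : eqWp 0 w1 w2 = true) (h1 : eqWp 1 w1 w2 = true)
    (h2 : eqWp 2 w1 w2 = true) : ∀ x < 31671, tr A w1 x = tr A w2 x := by
  apply tr_eq_of_planes
  intro j hj
  by_cases c1 : j < 5
  · exact checkEqPlanes_sound nets w1 nets w2 15 5 (5 * 0) h0 j (by omega) (by omega)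
  · by_cases c2 : j < 10
    · exact checkEqPlanes_sound nets w1 nets w2 15 5 (5 * 1) h1 j (by omega) (by omega)
    · exact checkEqPlanes_sound nets w1 nets w2 15 5 (5 * 2) h2 j (by omega) (by omega)

theorem tr_fix_of_planes {w : List ℕ}
    (h : ∀ j < 15, applyW nets w (plane j 15) = plane j 15) : ∀ x < 31671, tr A w x = x := by
  have := tr_eq_of_planes (w1 := w) (w2 := []) (fun j hj => by rw [h j hj]; rfl)
  exact this

/-! ### the Coxeter relations -/

theorem cox_all : ∀ i < 10, allB 10 (fun j => coxChk i j) = true := by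
  intro i hi
  interval_cases i
  · exact coxOK_0
  · exact coxOK_1
  · exact coxOK_2
  · exact coxOK_3
  · exact coxOK_4
  · exact coxOK_5
  · exact coxOK_6
  · exact coxOK_7
  · exact coxOK_8
  · exact coxOK_9

theorem cox_fix (i j : ℕ) (hi : i < 10) (hj : j < 10) :
    ∀ x < 31671, tr A (altWord i j (labN i j)) x = x := by
  have h := allB_sound _ 10 (cox_all i hi) j hj
  apply tr_fix_of_planes
  intro k hk
  exact checkPlanes_sound nets 15 _ 15 0 h k (by omega) (by omega)

theorem isAction : IsAction 31671 10 A id where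
  lt := fun s _ x hx => hlt s x hx
  invk := fun s hs => hs
  invinv := fun s _ => rfl
  cancel := by
    intro s hs x hx
    have h := cox_fix s s hs hs x hx
    have hl : labN s s = 1 := by simp [labN]
    rw [hl] at h
    exact h

/-- the images of the letters -/
noncomputable def q (s : ℕ) : Equiv.Perm (Fin 31671) := (perm isAction s)⁻¹

theorem q_mul_self (s : ℕ) (hs : s < 10) : q s * q s = 1 := by
  have h := (pair_perm isAction s s 1 hs hs (by
    have h := cox_fix s s hs hs
    have hl : labN s s = 1 := by simp [labN]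
    rw [hl] at h
    exact h)).1
  rw [pow_one] at h
  exact h

theorem q_inv (s : ℕ) (hs : s < 10) : (q s)⁻¹ = q s :=
  inv_eq_of_mul_eq_one_right (q_mul_self s hs)

theorem pword_eq_wprod (word : List ℕ) : pword isAction word = wprod q word := by
  induction word with
  | nil => rfl
  | cons s word ih => rw [pword_cons, ih]; rfl

/-- the index of a generator -/
def idx : Fi23.Gen → ℕ
  | .a => 0
  | .b => 1
  | .c => 2
  | .d => 3
  | .e => 4
  | .f => 5
  | .g => 6
  | .j => 7
  | .h => 8
  | .i => 9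

theorem idx_lt (x : Fi23.Gen) : idx x < 10 := by cases x <;> decide

/-- the images of the generators, by name -/
noncomputable def fq (x : Fi23.Gen) : Equiv.Perm (Fin 31671) := q (idx x)

theorem lab_eq (x y : Fi23.Gen) : coxLabel Fi23.edges x y = labN (idx x) (idx y) := by
  cases x <;> cases y <;> rfl

theorem cox_ok (x y : Fi23.Gen) : (fq x * fq y) ^ coxLabel Fi23.edges x y = 1 := by
  rw [lab_eq]
  exact (pair_perm isAction (idx x) (idx y) _ (idx_lt x) (idx_lt y)
    (cox_fix _ _ (idx_lt x) (idx_lt y))).1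

theorem wprod_repW {Γ : Type*} [Group Γ] (S : ℕ → Γ) (w : List ℕ) :
    ∀ n, wprod S (repW n w) = wprod S w ^ n
  | 0 => by simp [repW, wprod]
  | n + 1 => by rw [repW, wprod_append, wprod_repW S w n, pow_succ']

theorem spider_fix : ∀ x < 31671, tr A (repW 10 spiderB) x = x := by
  apply tr_fix_of_planes
  intro j hj
  by_cases c1 : j < 5
  · exact checkPlanes_sound nets 15 _ 5 0 spiderOK_0 j (by omega) (by omega)
  · by_cases c2 : j < 10
    · exact checkPlanes_sound nets 15 _ 5 5 spiderOK_1 j (by omega) (by omega)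
    · exact checkPlanes_sound nets 15 _ 5 10 spiderOK_2 j (by omega) (by omega)

theorem e7_fix : ∀ x < 31671, tr A (repW 9 e7B) x = x := by
  apply tr_fix_of_planes
  intro j hj
  by_cases c1 : j < 5
  · exact checkPlanes_sound nets 15 _ 5 0 e7OK_0 j (by omega) (by omega)
  · by_cases c2 : j < 10
    · exact checkPlanes_sound nets 15 _ 5 5 e7OK_1 j (by omega) (by omega)
    · exact checkPlanes_sound nets 15 _ 5 10 e7OK_2 j (by omega) (by omega)

theorem mem_repW {n : ℕ} {w : List ℕ} {s : ℕ} (h : s ∈ repW n w) : s ∈ w := by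
  induction n with
  | zero => simp [repW] at h
  | succ n ih =>
    rw [repW, List.mem_append] at h
    rcases h with h | h
    · exact h
    · exact ih h

theorem rels_ok : ∀ r ∈ coxRelators Fi23.edges ∪ {r | r ∈ Fi23.extra}, FreeGroup.lift fq r = 1 := by
  intro r hr
  rcases hr with ⟨x, -, y, -, rfl⟩ | hr
  · rw [map_pow, map_mul, FreeGroup.lift_apply_of, FreeGroup.lift_apply_of]
    exact cox_ok x y
  · have hr' : r ∈ Fi23.extra := hr
    simp only [Fi23.extra, List.mem_cons, List.not_mem_nil, or_false] at hr'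
    rcases hr' with rfl | rfl
    · have h1 : pword isAction (repW 10 spiderB) = 1 :=
        pword_eq_one isAction _ (fun s hs => by
          have := mem_repW hs
          simp only [spiderB, List.mem_cons, List.not_mem_nil, or_false] at this
          omega) spider_fix
      rw [pword_eq_wprod, wprod_repW] at h1
      simp only [map_pow, map_mul, FreeGroup.lift_apply_of]
      rw [← h1]
      simp only [spiderB, wprod, mul_one, fq, idx, mul_assoc]
    · have h1 : pword isAction (repW 9 e7B) = 1 :=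
        pword_eq_one isAction _ (fun s hs => by
          have := mem_repW hs
          simp only [e7B, List.mem_cons, List.not_mem_nil, or_false] at this
          omega) e7_fix
      rw [pword_eq_wprod, wprod_repW] at h1
      simp only [map_pow, map_mul, FreeGroup.lift_apply_of]
      rw [← h1]
      simp only [e7B, wprod, mul_one, fq, idx, mul_assoc]

/-- the permutation representation -/
noncomputable def psi : G →* Equiv.Perm (Fin 31671) := PresentedGroup.toGroup rels_ok

theorem psi_of (x : Fi23.Gen) : psi (PresentedGroup.of x) = q (idx x) := by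
  show PresentedGroup.toGroup rels_ok (PresentedGroup.of x) = _
  rw [PresentedGroup.toGroup.of]; rfl

/-- the generator of a letter -/
def genOf (s : ℕ) : Fi23.Gen :=
  [Fi23.Gen.a, .b, .c, .d, .e, .f, .g, .j, .h, .i].getD s .a

theorem idx_genOf (s : ℕ) (hs : s < 10) : idx (genOf s) = s := by
  interval_cases s <;> rfl

theorem genOf_idx (x : Fi23.Gen) : genOf (idx x) = x := by cases x <;> rfl

/-- the letters `0..9` in the group -/
noncomputable def S (s : ℕ) : G := PresentedGroup.of (genOf s)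

theorem psi_S (s : ℕ) (hs : s < 10) : psi (S s) = q s := by
  rw [S, psi_of, idx_genOf s hs]

theorem S_idx (x : Fi23.Gen) : S (idx x) = PresentedGroup.of x := by rw [S, genOf_idx]

theorem tr_single (a : ℕ → ℕ → ℕ) (s x : ℕ) : tr a [s] x = a s x := rfl

/-! ### injectivity -/

theorem psi_injective : Function.Injective psi := by
  have hs : IsSimpleGroup G := Cfsg.Agent.S1697.result.1
  rcases hs.eq_bot_or_eq_top_of_normal psi.ker inferInstance with h | h
  · exact (MonoidHom.ker_eq_bot_iff psi).mp h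
  · exfalso
    have h1 : psi (S 0) = 1 := by
      have : S 0 ∈ psi.ker := by rw [h]; exact Subgroup.mem_top _
      exact MonoidHom.mem_ker.mp this
    rw [psi_S 0 (by norm_num)] at h1
    have h2 : perm isAction 0 = 1 := by
      have : (perm isAction 0)⁻¹ = 1 := h1
      exact inv_eq_one.mp this
    have h3 := perm_apply isAction (s := 0) (by norm_num) ⟨8, by norm_num⟩
    rw [h2] at h3
    have h4 : tr A [0] 8 = 11 := tr_of_check hok movedA
    rw [tr_single] at h4
    rw [h4] at h3
    simp at h3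

/-! ### representing maps of the points -/

/-- `(psi g)⁻¹` is the map `f` -/
def Rep (g : G) (f : ℕ → ℕ) : Prop := ∀ x : Fin 31671, (((psi g)⁻¹ x : Fin 31671) : ℕ) = f x

theorem rep_one : Rep 1 (fun x => x) := by
  intro x
  simp

theorem rep_mul {g g' : G} {f f' : ℕ → ℕ} (h : Rep g f) (h' : Rep g' f') :
    Rep (g * g') (fun x => f' (f x)) := by
  intro x
  rw [map_mul, mul_inv_rev, Equiv.Perm.mul_apply, h', h]

theorem rep_congr {g : G} {f f' : ℕ → ℕ} (h : Rep g f) (hf : ∀ x < 31671, f x = f' x) :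
    Rep g f' := by
  intro x
  rw [h, hf x x.2]

theorem rep_inj {g g' : G} {f : ℕ → ℕ} (h : Rep g f) (h' : Rep g' f) : g = g' := by
  apply psi_injective
  have : (psi g)⁻¹ = (psi g')⁻¹ := by
    ext x
    rw [h, h']
  exact inv_injective this

theorem rep_S (s : ℕ) (hs : s < 10) : Rep (S s) (A s) := by
  intro x
  rw [psi_S s hs, q, inv_inv, perm_apply isAction hs]

theorem rep_wprod (ι : ℕ → G) : ∀ (w : List ℕ), (∀ s ∈ w, Rep (ι s) (A s)) →
    Rep (wprod ι w) (tr A w)
  | [], _ => rep_one
  | s :: w, h => by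
    have h1 := rep_mul (h s (by simp)) (rep_wprod ι w fun t ht => h t (by simp [ht]))
    exact h1

/-! ### the letters in the group -/

theorem nthW_of_le : ∀ (l : List (List ℕ)) (n : ℕ), l.length ≤ n → nthW l n = []
  | [], _, _ => rfl
  | t :: l, 0, h => by simp at h
  | t :: l, n + 1, h => by
    show nthW l n = []
    exact nthW_of_le l n (by simpa using h)

theorem nthW_cons_succ (t : List ℕ) (l : List (List ℕ)) (n : ℕ) :
    nthW (t :: l) (n + 1) = nthW l n := rfl

theorem nthW_mem (P : List ℕ → Prop) (hnil : P []) :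
    ∀ (l : List (List ℕ)), (∀ w ∈ l, P w) → ∀ n, P (nthW l n)
  | [], _, _ => hnil
  | t :: l, h, 0 => h t (by simp)
  | t :: l, h, n + 1 => nthW_mem P hnil l (fun w hw => h w (by simp [hw])) n

theorem nthV_mem (P : ℕ → Prop) (h0 : P 0) :
    ∀ (l : List ℕ), (∀ v ∈ l, P v) → ∀ n, P (nthV l n)
  | [], _, _ => h0
  | t :: l, h, 0 => h t (by simp)
  | t :: l, h, n + 1 => nthV_mem P h0 l (fun w hw => h w (by simp [hw])) n

theorem dw_lt : ∀ s, ∀ t ∈ nthW dwT s, t < 10 := by
  apply nthW_mem (fun w => ∀ t ∈ w, t < 10) (by simp)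
  decide +kernel

/-- the letters in the group -/
noncomputable def ι (s : ℕ) : G := wprod S (nthW dwT s)

theorem rep_dw (s : ℕ) : Rep (ι s) (tr A (nthW dwT s)) :=
  rep_wprod S _ fun t ht => rep_S t (dw_lt s t ht)

theorem bsel3 {a b c : Bool} (h : bsel a (bsel b c false) false = true) :
    a = true ∧ b = true ∧ c = true := by
  cases a <;> cases b <;> cases c <;> first | exact ⟨rfl, rfl, rfl⟩ | cases h

theorem dw_all : ∀ s < 40, dwChk 0 s = true ∧ dwChk 1 s = true ∧ dwChk 2 s = true := by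
  intro s hs
  by_cases h10 : s < 10
  · exact bsel3 (allB_sound _ 10 dwOK_gen s h10)
  · interval_cases s
    · exact ⟨dwOK_10_0, dwOK_10_1, dwOK_10_2⟩
    · exact ⟨dwOK_11_0, dwOK_11_1, dwOK_11_2⟩
    · exact ⟨dwOK_12_0, dwOK_12_1, dwOK_12_2⟩
    · exact ⟨dwOK_13_0, dwOK_13_1, dwOK_13_2⟩
    · exact ⟨dwOK_14_0, dwOK_14_1, dwOK_14_2⟩
    · exact ⟨dwOK_15_0, dwOK_15_1, dwOK_15_2⟩
    · exact ⟨dwOK_16_0, dwOK_16_1, dwOK_16_2⟩
    · exact ⟨dwOK_17_0, dwOK_17_1, dwOK_17_2⟩
    · exact ⟨dwOK_18_0, dwOK_18_1, dwOK_18_2⟩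
    · exact ⟨dwOK_19_0, dwOK_19_1, dwOK_19_2⟩
    · exact ⟨dwOK_20_0, dwOK_20_1, dwOK_20_2⟩
    · exact ⟨dwOK_21_0, dwOK_21_1, dwOK_21_2⟩
    · exact ⟨dwOK_22_0, dwOK_22_1, dwOK_22_2⟩
    · exact ⟨dwOK_23_0, dwOK_23_1, dwOK_23_2⟩
    · exact ⟨dwOK_24_0, dwOK_24_1, dwOK_24_2⟩
    · exact ⟨dwOK_25_0, dwOK_25_1, dwOK_25_2⟩
    · exact ⟨dwOK_26_0, dwOK_26_1, dwOK_26_2⟩
    · exact ⟨dwOK_27_0, dwOK_27_1, dwOK_27_2⟩
    · exact ⟨dwOK_28_0, dwOK_28_1, dwOK_28_2⟩
    · exact ⟨dwOK_29_0, dwOK_29_1, dwOK_29_2⟩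
    · exact ⟨dwOK_30_0, dwOK_30_1, dwOK_30_2⟩
    · exact ⟨dwOK_31_0, dwOK_31_1, dwOK_31_2⟩
    · exact ⟨dwOK_32_0, dwOK_32_1, dwOK_32_2⟩
    · exact ⟨dwOK_33_0, dwOK_33_1, dwOK_33_2⟩
    · exact ⟨dwOK_34_0, dwOK_34_1, dwOK_34_2⟩
    · exact ⟨dwOK_35_0, dwOK_35_1, dwOK_35_2⟩
    · exact ⟨dwOK_36_0, dwOK_36_1, dwOK_36_2⟩
    · exact ⟨dwOK_37_0, dwOK_37_1, dwOK_37_2⟩
    · exact ⟨dwOK_38_0, dwOK_38_1, dwOK_38_2⟩
    · exact ⟨dwOK_39_0, dwOK_39_1, dwOK_39_2⟩

theorem dwT_length : dwT.length = 40 := rfl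

theorem dw_eq (s : ℕ) : ∀ x < 31671, tr A (nthW dwT s) x = A s x := by
  intro x hx
  by_cases hs : s < 40
  · obtain ⟨h0, h1, h2⟩ := dw_all s hs
    exact (tr_eq_of_eqWp h0 h1 h2 x hx).symm
  · have e1 : nthW dwT s = [] := nthW_of_le dwT s (by rw [dwT_length]; omega)
    have e2 : nthN nets s = .nil := nthN_of_le nets s (by rw [nets_length]; omega)
    rw [e1]
    show x = swN (nthN nets s) x
    rw [e2]
    rfl

theorem rep_ι (s : ℕ) : Rep (ι s) (A s) := rep_congr (rep_dw s) (dw_eq s)

theorem rep_word (w : List ℕ) : Rep (wprod ι w) (tr A w) := rep_wprod ι w fun s _ => rep_ι s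

/-- words with the same networks are equal in the group -/
theorem eq_of_eqW {w1 w2 : List ℕ} (h : eqW w1 w2 = true) : wprod ι w1 = wprod ι w2 :=
  rep_inj (rep_congr (rep_word w1) (tr_eq_of_eqW h)) (rep_word w2)

theorem ι_gen (s : ℕ) (hs : s < 10) : ι s = S s := rep_inj (rep_ι s) (rep_S s hs)

/-- a word moving a point is not trivial -/
theorem ne_one_of_moves {w : List ℕ} {x y : ℕ} (hx : x < 31671) (hxy : x ≠ y)
    (h : checkTr nets w x y = true) : wprod ι w ≠ 1 := by
  intro h1
  have h2 := rep_word w ⟨x, hx⟩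
  rw [h1, map_one, inv_one] at h2
  have h3 : tr A w x = y := tr_of_check hok h
  rw [h3] at h2
  exact hxy h2

end Cfsg.Agent.Lib.helper19_M23Rep
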