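import Mathlib
import Cfsg.Prelude.Def_SporCoxeter
import Cfsg.Agent.Lib.helper19_TC2
import Cfsg.Agent.Lib.helper19_TC2L

/-!
Glue between the coset-enumeration checkers (`helper19_TC2`, `helper19_TC2L`) and groups presented
by a Coxeter graph and further relators (`Cfsg.Spor.CoxPresented`).  By helper19.
-/

set_option autoImplicit false

namespace Cfsg.Agent.Lib.helper19_TC2P

open Cfsg.Spor Cfsg.Agent.Lib.helper19_TC2 Cfsg.Agent.Lib.helper19_TC2L

/-- the alternating word `[i, j, i, j, …]` of length `2 m`. -/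
def altWord (i j : ℕ) : ℕ → List ℕ
  | 0 => []
  | m + 1 => i :: j :: altWord i j m

theorem wprod_altWord {G : Type*} [Group G] (S : ℕ → G) (i j m : ℕ) :
    wprod S (altWord i j m) = (S i * S j) ^ m := by
  induction m with
  | zero => simp [altWord, wprod]
  | succ m ih => simp [altWord, wprod, ih, pow_succ', mul_assoc]

theorem pword_altWord {N k : ℕ} {a : ℕ → ℕ → ℕ} {inv : ℕ → ℕ} (h : IsAction N k a inv)
    (i j m : ℕ) : pword h (altWord i j m) = ((perm h i)⁻¹ * (perm h j)⁻¹) ^ m := by
  induction m with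
  | zero => simp [altWord, pword_nil]
  | succ m ih => simp [altWord, pword_cons, ih, pow_succ', mul_assoc]

theorem mem_altWord {i j m s : ℕ} (hs : s ∈ altWord i j m) : s = i ∨ s = j := by
  induction m with
  | zero => simp [altWord] at hs
  | succ m ih =>
    simp only [altWord, List.mem_cons] at hs
    rcases hs with h | h | h
    · exact Or.inl h
    · exact Or.inr h
    · exact ih h

/-- the relation of a pair of letters, in both orders, from the closing of the alternating word. -/
theorem pair_perm {N k : ℕ} {a : ℕ → ℕ → ℕ} {inv : ℕ → ℕ} (h : IsAction N k a inv)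
    (i j m : ℕ) (hi : i < k) (hj : j < k) (hfix : ∀ x < N, tr a (altWord i j m) x = x) :
    ((perm h i)⁻¹ * (perm h j)⁻¹) ^ m = 1 ∧ ((perm h j)⁻¹ * (perm h i)⁻¹) ^ m = 1 := by
  have h1 : ((perm h i)⁻¹ * (perm h j)⁻¹) ^ m = 1 := by
    rw [← pword_altWord]
    apply pword_eq_one h _ _ hfix
    intro s hs
    rcases mem_altWord hs with rfl | rfl <;> assumption
  refine ⟨h1, ?_⟩
  have : ((perm h j)⁻¹ * (perm h i)⁻¹) ^ m =
      (perm h i) * ((perm h i)⁻¹ * (perm h j)⁻¹) ^ m * (perm h i)⁻¹ := by
    rw [← conj_pow]; group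
  rw [this, h1]; simp

section presented
variable {α : Type*} [DecidableEq α] {edges : List (α × ℕ × α)} {extra : List (FreeGroup α)}

theorem pair_rel {x y : α} (hx : x ∈ coxNodes edges) (hy : y ∈ coxNodes edges) :
    ((PresentedGroup.of x : PresentedGroup (coxRelators edges ∪ {r | r ∈ extra})) *
      PresentedGroup.of y) ^ coxLabel edges x y = 1 := by
  have hmem : (FreeGroup.of x * FreeGroup.of y) ^ coxLabel edges x y ∈
      coxRelators edges ∪ {r | r ∈ extra} := Or.inl ⟨x, hx, y, hy, rfl⟩
  have h := PresentedGroup.one_of_mem hmem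
  simpa [PresentedGroup.of, map_pow, map_mul] using h

theorem sq_rel {x : α} (hx : x ∈ coxNodes edges) :
    (PresentedGroup.of x : PresentedGroup (coxRelators edges ∪ {r | r ∈ extra})) *
      PresentedGroup.of x = 1 := by
  have := pair_rel (extra := extra) hx hx
  simpa [coxLabel] using this

theorem inv_of {x : α} (hx : x ∈ coxNodes edges) :
    (PresentedGroup.of x : PresentedGroup (coxRelators edges ∪ {r | r ∈ extra}))⁻¹ =
      PresentedGroup.of x :=
  inv_eq_of_mul_eq_one_right (sq_rel hx)

theorem extra_rel {r : FreeGroup α} (hr : r ∈ extra) :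
    PresentedGroup.mk (coxRelators edges ∪ {r | r ∈ extra}) r = 1 :=
  PresentedGroup.one_of_mem (Or.inr hr)

end presented

/-- both bounds give the index. -/
theorem index_eq_of_bounds {G : Type*} [Group G] (H : Subgroup G) (N : ℕ)
    (hu : H.index ≠ 0 ∧ H.index ≤ N) (hl : Finite (G ⧸ H) → N ≤ H.index) : H.index = N := by
  have : Finite (G ⧸ H) := by
    have := hu.1
    rw [Subgroup.index] at this
    exact Nat.finite_of_card_ne_zero this
  exact le_antisymm hu.2 (hl this)

end Cfsg.Agent.Lib.helper19_TC2P
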