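import Cfsg.Agent.Lib.helper19_BenesFix
import Cfsg.Agent.Lib.helper19_TC2P
import Cfsg.Agent.Lib.helper19_M23N0
import Cfsg.Agent.Lib.helper19_M23N1
import Cfsg.Agent.Lib.helper19_M23N2
import Cfsg.Agent.Lib.helper19_M23N3
import Cfsg.Agent.Lib.helper19_M23N4

/-!
# S2054: the 40 networks on the 31671 points, tables and check functions (helper19; generated)

Letters `0..9`: the generators `a b c d e f g j h i`; `10..33`: the 24 root elements `r_ac` (`a < c`);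
`34`: the transposition `e'`; `35..39`: the translations `t_c t_d t_e t_f t_h`.
-/

set_option autoImplicit false
set_option maxRecDepth 1000000
set_option Elab.async false

namespace Cfsg.Agent.Lib.helper19_M23W
open Cfsg.Agent.Lib.helper19_TC2 Cfsg.Agent.Lib.helper19_TC2L Cfsg.Agent.Lib.helper19_TC2P
  Cfsg.Agent.Lib.helper19_Benes Cfsg.Agent.Lib.helper19_BenesFix Cfsg.Agent.Lib.Helper28_BenesOrb
  Cfsg.Agent.Lib.helper19_M23Net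

/-- the networks -/
def nets : List Net := [net_g_a, net_g_b, net_g_c, net_g_d, net_g_e, net_g_f, net_g_g, net_g_j, net_g_h, net_g_i, net_r_01, net_r_02, net_r_03, net_r_05, net_r_06, net_r_07, net_r_12, net_r_13, net_r_14, net_r_16, net_r_17, net_r_23, net_r_24, net_r_25, net_r_27, net_r_34, net_r_35, net_r_36, net_r_45, net_r_46, net_r_47, net_r_56, net_r_57, net_r_67, net_ep, net_t_c, net_t_d, net_t_e, net_t_f, net_t_h]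

/-- the action of the letters on the points -/
noncomputable abbrev A : ℕ → ℕ → ℕ := act nets

/-- all `i < n` pass -/
noncomputable def allB (n : ℕ) (f : ℕ → Bool) : Bool :=
  Nat.rec (motive := fun _ => Bool) true (fun m ih => bsel (f m) ih false) n

theorem allB_sound (f : ℕ → Bool) : ∀ n, allB n f = true → ∀ i < n, f i = true
  | 0, _, i, hi => by omega
  | n + 1, h, i, hi => by
    change bsel (f n) (allB n f) false = true at h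
    cases hb : f n with
    | false => rw [hb] at h; cases h
    | true =>
      rw [hb] at h
      rcases Nat.lt_succ_iff_lt_or_eq.mp hi with h1 | h1
      · exact allB_sound f n h i h1
      · rw [h1]; exact hb

/-- `n`-th word of a list -/
noncomputable def nthW (l : List (List ℕ)) : ℕ → List ℕ :=
  List.rec (motive := fun _ => ℕ → List ℕ) (fun _ => [])
    (fun t _ ih n => Nat.rec (motive := fun _ => List ℕ) t (fun m _ => ih m) n) l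

/-- `n`-th number of a list -/
noncomputable def nthV (l : List ℕ) : ℕ → ℕ :=
  List.rec (motive := fun _ => ℕ → ℕ) (fun _ => nat_lit 0)
    (fun t _ ih n => Nat.rec (motive := fun _ => ℕ) t (fun m _ => ih m) n) l

/-- the two words agree on all points -/
noncomputable def eqW (w1 w2 : List ℕ) : Bool := checkEqPlanes nets w1 nets w2 15 15 0

/-- the two words agree on the planes `5 p, …, 5 p + 4` -/
noncomputable def eqWp (p : ℕ) (w1 w2 : List ℕ) : Bool := checkEqPlanes nets w1 nets w2 15 5 (5 * p)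

/-- the opposite index -/
def ngN (a : ℕ) : ℕ := (a + 4) % 8

/-- a word repeated -/
def repW : ℕ → List ℕ → List ℕ
  | 0, _ => []
  | n + 1, w => w ++ repW n w

/-- the definition words of the letters in the generators -/
def dwT : List (List ℕ) := [
  [0],
  [1],
  [2],
  [3],
  [4],
  [5],
  [6],
  [7],
  [8],
  [9],
  [5, 4, 3, 8, 9, 2, 3, 8, 7, 6, 5, 4, 3, 2, 1, 2, 3, 4, 5, 6, 7, 8, 3, 2, 9, 8, 3, 4, 5, 7, 6, 7, 5, 4, 3, 8, 9, 2, 3, 8, 6, 5, 4, 3, 2, 1, 2, 3, 4, 5, 6, 8, 3, 2, 9, 8, 3, 4, 5, 6],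
  [9, 8, 3, 4, 2, 3, 8, 6, 5, 4, 3, 2, 1, 2, 3, 4, 5, 6, 8, 3, 2, 4, 3, 8, 9, 3, 4, 2, 3, 8, 6, 5, 4, 3, 2, 1, 2, 3, 4, 5, 6, 8, 3, 2, 4, 3, 5, 4, 3, 8, 9, 2, 3, 8, 5, 4, 3, 2, 1, 2, 3, 4, 5, 8, 3, 2, 9, 8, 3, 4],
  [2, 3, 8, 9, 4, 3, 8, 7, 6, 5, 4, 3, 2, 3, 4, 5, 6, 7, 8, 3, 4, 9, 8, 3, 2, 3, 8, 9, 4, 3, 8, 7, 6, 5, 4, 3, 2, 1, 2, 3, 4, 5, 6, 7, 8, 3, 4, 9, 8, 3, 5, 4, 3, 8, 9, 2, 3, 8, 5, 4, 3, 2, 1, 2, 3, 4, 5, 8, 3, 2, 9, 8, 3, 4],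
  [4, 3, 8, 9, 2, 3, 8, 6, 5, 4, 3, 2, 1, 2, 3, 4, 5, 6, 8, 3, 2, 9, 8, 3, 4, 6, 5, 6, 7, 6, 5, 4, 3, 8, 9, 2, 3, 8, 7, 6, 5, 4, 3, 2, 1, 2, 3, 4, 5, 6, 7, 8, 3, 2, 9, 8, 3, 4, 5, 6],
  [9, 3, 4, 2, 3, 8, 6, 5, 4, 3, 2, 1, 2, 3, 4, 5, 6, 8, 3, 2, 4, 3, 9, 8, 3, 4, 2, 3, 8, 6, 5, 4, 3, 2, 1, 2, 3, 4, 5, 6, 8, 3, 2, 4, 3, 8, 4, 3, 8, 9, 2, 3, 8, 5, 4, 3, 2, 1, 2, 3, 4, 5, 8, 3, 2, 9, 8, 3, 4, 5],
  [2, 3, 8, 9, 4, 3, 8, 7, 6, 5, 4, 3, 2, 1, 2, 3, 4, 5, 6, 7, 8, 3, 4, 9, 8, 3, 2, 3, 8, 9, 4, 3, 8, 7, 6, 5, 4, 3, 2, 3, 4, 5, 6, 7, 8, 3, 4, 9, 8, 3, 4, 3, 8, 9, 2, 3, 8, 5, 4, 3, 2, 1, 2, 3, 4, 5, 8, 3, 2, 9, 8, 3, 4, 5],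
  [5, 4, 3, 8, 9, 8, 5, 3, 4, 2, 3, 8, 7, 6, 5, 4, 3, 2, 1, 2, 3, 4, 5, 6, 7, 8, 3, 2, 4, 3, 5, 8, 9, 8, 3, 4, 5, 6, 5, 4, 3, 8, 9, 8, 5, 3, 4, 2, 3, 8, 6, 5, 4, 3, 2, 1, 2, 3, 4, 5, 6, 8, 3, 2, 4, 3, 5, 8, 9, 8, 3, 4, 5, 6, 3, 8, 9, 3, 8, 5, 6, 4, 5, 3, 4, 2, 3, 8, 7, 6, 5, 4, 3, 2, 1, 2, 3, 4, 5, 6, 7, 8, 3, 2, 4, 3, 5, 4, 6, 5, 8, 3, 9, 8],
  [6, 5, 4, 2, 3, 8, 9, 5, 4, 2, 3, 8, 7, 6, 5, 4, 3, 2, 1, 2, 3, 4, 5, 6, 7, 8, 3, 2, 4, 5, 9, 8, 3, 2, 4, 5, 6, 5, 4, 2, 3, 8, 9, 5, 4, 2, 3, 8, 6, 5, 4, 3, 2, 1, 2, 3, 4, 5, 6, 8, 3, 2, 4, 5, 9, 8, 3, 2, 4, 5, 3, 8, 9, 3, 8, 5, 6, 4, 5, 3, 4, 2, 3, 8, 7, 6, 5, 4, 3, 2, 1, 2, 3, 4, 5, 6, 7, 8, 3, 2, 4, 3, 5, 4, 6, 5, 8, 3, 9, 8],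
  [6, 5, 4, 3, 8, 9, 4, 2, 3, 8, 6, 5, 4, 3, 2, 1, 2, 3, 4, 5, 6, 8, 3, 2, 4, 9, 8, 3, 4, 5, 6, 5, 4, 3, 8, 9, 4, 2, 3, 8, 7, 6, 5, 4, 3, 2, 1, 2, 3, 4, 5, 6, 7, 8, 3, 2, 4, 9, 8, 3, 4, 5, 6, 7],
  [6, 5, 4, 3, 8, 9, 5, 3, 4, 2, 3, 8, 6, 5, 4, 3, 2, 1, 2, 3, 4, 5, 6, 8, 3, 2, 4, 3, 5, 9, 8, 3, 4, 5, 6, 5, 4, 3, 8, 9, 5, 3, 4, 2, 3, 8, 7, 6, 5, 4, 3, 2, 1, 2, 3, 4, 5, 6, 7, 8, 3, 2, 4, 3, 5, 9, 8, 3, 4, 5, 8, 9, 3, 8, 5, 6, 4, 5, 3, 4, 2, 3, 8, 7, 6, 5, 4, 3, 2, 1, 2, 3, 4, 5, 6, 7, 8, 3, 2, 4, 3, 5, 4, 6, 5, 8, 3, 9, 8, 3],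
  [7, 6, 5, 4, 1, 2, 3, 8, 9, 5, 4, 2, 3, 8, 6, 5, 4, 3, 2, 1, 2, 3, 4, 5, 6, 8, 3, 2, 4, 5, 9, 8, 3, 2, 1, 4, 5, 6, 7, 5, 4, 1, 2, 3, 8, 9, 5, 4, 2, 3, 8, 6, 5, 4, 3, 2, 1, 2, 3, 4, 5, 6, 8, 3, 2, 4, 5, 9, 8, 3, 2, 1, 4, 5, 8, 9, 3, 8, 5, 6, 4, 5, 3, 4, 2, 3, 8, 7, 6, 5, 4, 3, 2, 1, 2, 3, 4, 5, 6, 7, 8, 3, 2, 4, 3, 5, 4, 6, 5, 8, 3, 9, 8, 3],
  [6, 5, 4, 3, 8, 9, 5, 6, 4, 5, 3, 4, 2, 3, 8, 7, 6, 5, 4, 3, 2, 1, 2, 3, 4, 5, 6, 7, 8, 3, 2, 4, 3, 5, 4, 6, 5, 9, 8, 3, 4, 5, 6, 9, 2, 3, 8, 7, 6, 5, 4, 3, 2, 1, 2, 3, 4, 5, 6, 7, 8, 3, 2, 9, 8, 9, 3, 8, 6, 5, 4, 3, 2, 3, 4, 5, 6, 8, 3, 9, 8, 9, 4, 3, 8, 5, 4, 3, 2, 3, 4, 5, 8, 3, 4, 9],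
  [5, 4, 2, 3, 8, 6, 5, 4, 3, 2, 1, 2, 3, 4, 5, 6, 8, 3, 2, 4, 5, 4, 3, 8, 9, 4, 2, 3, 8, 5, 4, 3, 2, 1, 2, 3, 4, 5, 8, 3, 2, 4, 9, 8, 3, 4, 9, 8, 3, 4, 2, 3, 8, 6, 5, 4, 3, 2, 1, 2, 3, 4, 5, 6, 8, 3, 2, 4, 3, 8, 9, 5],
  [8, 9, 3, 8, 6, 4, 5, 3, 4, 2, 3, 8, 7, 6, 5, 4, 3, 2, 1, 2, 3, 4, 5, 6, 7, 8, 3, 2, 4, 3, 5, 4, 6, 8, 3, 9, 8, 4, 3, 8, 9, 8, 5, 3, 4, 2, 3, 8, 7, 6, 5, 4, 3, 2, 1, 2, 3, 4, 5, 6, 7, 8, 3, 2, 4, 3, 5, 8, 9, 8, 3, 4, 6, 5, 4, 3, 8, 9, 8, 5, 3, 4, 2, 3, 8, 6, 5, 4, 3, 2, 1, 2, 3, 4, 5, 6, 8, 3, 2, 4, 3, 5, 8, 9, 8, 3, 4, 5, 6, 3],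
  [8, 3, 4, 2, 3, 8, 9, 8, 6, 5, 3, 4, 2, 3, 8, 7, 6, 5, 4, 3, 2, 1, 2, 3, 4, 5, 6, 7, 8, 3, 2, 4, 3, 5, 6, 8, 9, 8, 3, 2, 4, 3, 8, 1, 2, 3, 8, 9, 5, 4, 3, 8, 7, 6, 5, 4, 3, 2, 3, 4, 5, 6, 7, 8, 3, 4, 5, 9, 8, 3, 2, 1, 9, 8, 3, 4, 2, 3, 8, 6, 5, 4, 3, 2, 1, 2, 3, 4, 5, 6, 8, 3, 2, 4, 3, 8, 9, 5],
  [8, 9, 4, 3, 8, 5, 4, 3, 2, 3, 4, 5, 8, 3, 4, 9, 8, 8, 9, 2, 3, 8, 7, 6, 5, 4, 3, 2, 1, 2, 3, 4, 5, 6, 7, 8, 3, 2, 9, 8, 7, 6, 5, 4, 3, 4, 5, 6, 7, 2, 3, 8, 9, 4, 2, 3, 8, 5, 4, 3, 2, 1, 2, 3, 4, 5, 8, 3, 2, 4, 9, 8, 3, 2],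
  [8, 9, 3, 8, 6, 4, 5, 3, 4, 2, 3, 8, 7, 6, 5, 4, 3, 2, 1, 2, 3, 4, 5, 6, 7, 8, 3, 2, 4, 3, 5, 4, 6, 8, 3, 9, 8, 4, 2, 3, 8, 9, 5, 4, 2, 3, 8, 6, 5, 4, 3, 2, 1, 2, 3, 4, 5, 6, 8, 3, 2, 4, 5, 9, 8, 3, 2, 4, 7, 6, 5, 4, 2, 3, 8, 9, 5, 4, 2, 3, 8, 6, 5, 4, 3, 2, 1, 2, 3, 4, 5, 6, 8, 3, 2, 4, 5, 9, 8, 3, 2, 4, 5, 6, 7, 3],
  [6, 5, 4, 3, 8, 7, 6, 5, 4, 3, 2, 3, 4, 5, 6, 7, 8, 3, 4, 5, 6, 2, 3, 8, 9, 4, 5, 3, 4, 2, 3, 8, 6, 5, 4, 3, 2, 1, 2, 3, 4, 5, 6, 8, 3, 2, 4, 3, 5, 4, 9, 8, 3, 2, 8, 7, 6, 5, 4, 3, 4, 5, 6, 7, 8, 2, 3, 8, 9, 3, 4, 2, 3, 8, 5, 4, 3, 2, 1, 2, 3, 4, 5, 8, 3, 2, 4, 3, 9, 8, 3, 2],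
  [6, 5, 6, 4, 3, 8, 9, 4, 2, 3, 8, 6, 5, 4, 3, 2, 1, 2, 3, 4, 5, 6, 8, 3, 2, 4, 9, 8, 3, 4, 6, 5, 4, 3, 8, 9, 4, 2, 3, 8, 7, 6, 5, 4, 3, 2, 1, 2, 3, 4, 5, 6, 7, 8, 3, 2, 4, 9, 8, 3, 4, 5, 6, 7],
  [4, 2, 3, 8, 5, 4, 3, 2, 1, 2, 3, 4, 5, 8, 3, 2, 4, 9, 8, 3, 4, 2, 3, 8, 5, 4, 3, 2, 1, 2, 3, 4, 5, 8, 3, 2, 4, 3, 8, 9, 8, 9, 2, 3, 8, 6, 5, 4, 3, 2, 1, 2, 3, 4, 5, 6, 8, 3, 2, 9, 8, 6, 5, 4, 3, 4, 5, 6],
  [8, 9, 4, 3, 8, 5, 4, 3, 2, 1, 2, 3, 4, 5, 8, 3, 4, 9, 8, 2, 3, 8, 9, 4, 3, 8, 5, 4, 3, 2, 3, 4, 5, 8, 3, 4, 9, 8, 3, 2, 8, 9, 2, 3, 8, 7, 6, 5, 4, 3, 2, 1, 2, 3, 4, 5, 6, 7, 8, 3, 2, 9, 8, 7, 6, 5, 4, 3, 4, 5, 6, 7],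
  [4, 3, 8, 9, 5, 3, 4, 2, 3, 8, 7, 6, 5, 4, 3, 2, 1, 2, 3, 4, 5, 6, 7, 8, 3, 2, 4, 3, 5, 9, 8, 3, 4, 6, 5, 4, 3, 8, 9, 5, 3, 4, 2, 3, 8, 6, 5, 4, 3, 2, 1, 2, 3, 4, 5, 6, 8, 3, 2, 4, 3, 5, 9, 8, 3, 4, 5, 6, 3, 8, 9, 3, 8, 6, 4, 5, 3, 4, 2, 3, 8, 7, 6, 5, 4, 3, 2, 1, 2, 3, 4, 5, 6, 7, 8, 3, 2, 4, 3, 5, 4, 6, 8, 3, 9, 8],
  [4, 1, 2, 3, 8, 9, 5, 4, 2, 3, 8, 6, 5, 4, 3, 2, 1, 2, 3, 4, 5, 6, 8, 3, 2, 4, 5, 9, 8, 3, 2, 1, 4, 7, 6, 5, 4, 1, 2, 3, 8, 9, 5, 4, 2, 3, 8, 6, 5, 4, 3, 2, 1, 2, 3, 4, 5, 6, 8, 3, 2, 4, 5, 9, 8, 3, 2, 1, 4, 5, 6, 7, 3, 8, 9, 3, 8, 6, 4, 5, 3, 4, 2, 3, 8, 7, 6, 5, 4, 3, 2, 1, 2, 3, 4, 5, 6, 7, 8, 3, 2, 4, 3, 5, 4, 6, 8, 3, 9, 8],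
  [6, 4, 5, 3, 4, 2, 3, 8, 9, 6, 5, 3, 4, 2, 3, 8, 7, 6, 5, 4, 3, 2, 1, 2, 3, 4, 5, 6, 7, 8, 3, 2, 4, 3, 5, 6, 9, 8, 3, 2, 4, 3, 5, 4, 6, 1, 2, 3, 8, 9, 4, 3, 8, 7, 6, 5, 4, 3, 2, 3, 4, 5, 6, 7, 8, 3, 4, 9, 8, 3, 2, 1, 8, 3, 4, 2, 3, 8, 6, 5, 4, 3, 2, 1, 2, 3, 4, 5, 6, 8, 3, 2, 4, 3, 8, 5],
  [4, 0, 1, 2, 3, 8, 9, 5, 4, 1, 2, 3, 8, 5, 6, 4, 5, 2, 3, 4, 1, 2, 3, 8, 9, 6, 5, 3, 4, 1, 2, 3, 8, 7, 6, 5, 4, 3, 2, 1, 0, 1, 2, 3, 4, 5, 6, 7, 8, 3, 2, 1, 4, 3, 5, 6, 9, 8, 3, 2, 1, 4, 3, 2, 5, 4, 6, 5, 8, 3, 2, 1, 4, 5, 9, 8, 3, 2, 1, 0, 4],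
  [3, 8, 9, 4, 3, 8, 5, 4, 1, 2, 3, 2, 1, 4, 5, 8, 3, 4, 9, 8, 3, 2],
  [8, 9, 4, 2, 3, 8, 5, 4, 1, 2, 3, 2, 1, 4, 5, 8, 3, 2, 4, 9, 8, 3],
  [3, 8, 9, 2, 3, 8, 5, 4, 1, 2, 3, 2, 1, 4, 5, 8, 3, 2, 9, 8, 3, 4],
  [4, 3, 8, 9, 2, 3, 8, 4, 1, 2, 3, 2, 1, 4, 8, 3, 2, 9, 8, 3, 4, 5],
  [9, 3, 4, 2, 3, 8, 5, 4, 1, 2, 3, 2, 1, 4, 5, 8, 3, 2, 4, 3, 9, 8]]

/-- the letters of the root elements `R a c`, at `8 * a + c` -/
def ltrT : List ℕ := [0, 10, 11, 12, 0, 13, 14, 15, 10, 0, 16, 17, 18, 0, 19, 20, 11, 16, 0, 21, 22, 23, 0, 24, 12, 17, 21, 0, 25, 26, 27, 0, 0, 18, 22, 25, 0, 28, 29, 30, 13, 0, 23, 26, 28, 0, 31, 32, 14, 19, 0, 27, 29, 31, 0, 33, 15, 20, 24, 0, 30, 32, 33, 0]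

/-- the exponents of the root elements `R a c`, at `8 * a + c` -/
def exT : List ℕ := [0, 2, 2, 2, 0, 2, 2, 2, 1, 0, 2, 2, 2, 0, 2, 2, 1, 1, 0, 2, 2, 2, 0, 2, 1, 1, 1, 0, 2, 2, 2, 0, 0, 1, 1, 1, 0, 2, 2, 2, 1, 0, 1, 1, 1, 0, 2, 2, 1, 1, 0, 1, 1, 1, 0, 2, 1, 1, 1, 0, 1, 1, 1, 0]

/-- the letter of `R a c` -/
noncomputable def ltr (a c : ℕ) : ℕ := nthV ltrT (8 * a + c)

/-- the exponent of `R a c` -/
noncomputable def ex (a c : ℕ) : ℕ := nthV exT (8 * a + c)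

/-- the word of `R a c` -/
noncomputable def rw (a c : ℕ) : List ℕ := List.replicate (ex a c) (ltr a c)

/-- the commuting pairs `s < t` of root letters `10 + s`, `10 + t`: the bit `t` of the entry `s` -/
def cmT : List ℕ := [8540158, 4291836, 2337528, 15165488, 15402656, 15754816, 1113984, 761600, 10411520, 12223488, 14176256, 520192, 6152192, 7716864, 13893632, 4128768, 7208960, 11272192, 16252928, 15728640, 14680064, 12582912, 8388608, 0]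

/-- the action of the triality element on the root elements: `8 * a' + c'` at `8 * a + c` -/
def gtT : List ℕ := [0, 12, 25, 28, 4, 51, 52, 14, 33, 9, 10, 34, 58, 13, 60, 15, 11, 17, 18, 19, 2, 3, 22, 8, 35, 20, 26, 27, 21, 29, 37, 31, 32, 23, 16, 42, 36, 40, 61, 56, 30, 41, 24, 43, 5, 45, 46, 6, 38, 39, 50, 44, 47, 53, 54, 55, 49, 57, 1, 59, 7, 48, 62, 63]

/-- the word of the triality element `d * e'` -/
def gtW : List ℕ := [3, 34]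

/-- the conjugates of the translations by the seven generators `b h c d e f i`, at `5 * i + k` -/
def twT : List (List ℕ) := [
  [35, 35, 37, 37, 38],
  [36],
  [37],
  [38],
  [39],
  [35],
  [36, 39],
  [37],
  [38],
  [39, 39],
  [35, 35],
  [35, 36],
  [37],
  [38],
  [39],
  [35, 36],
  [36, 36],
  [36, 37],
  [38],
  [36, 39],
  [35],
  [36, 37],
  [37, 37],
  [37, 38],
  [39],
  [35],
  [36],
  [37, 38],
  [38, 38],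
  [39],
  [35],
  [36],
  [37],
  [38],
  [37, 37, 38, 39, 39]]

/-- the seven generators of the affine subgroup -/
def g7T : List ℕ := [1, 8, 2, 3, 4, 5, 9]

/-- the word of the reflection `u` in the highest root -/
def uW : List ℕ := [8, 3, 4, 2, 3, 8, 5, 4, 1, 2, 3, 2, 1, 4, 5, 8, 3, 2, 4, 3, 8]

/-- the word of `i * u` -/
def iuW : List ℕ := 9 :: uW

/-- the same as a product of translations -/
def imW : List ℕ := [37, 38, 38, 39, 39]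

/-- the spider word -/
def spiderB : List ℕ := [3, 2, 1, 3, 4, 5, 3, 8, 9]

/-- the Coxeter word of `E7` -/
def e7B : List ℕ := [0, 1, 2, 3, 4, 5, 8]

/-- the Coxeter labels of the letters `0..9` -/
def labN (i j : ℕ) : ℕ :=
  if i = j then 1
  else if (i, j) ∈ [(0, 1), (1, 0), (1, 2), (2, 1), (2, 3), (3, 2), (3, 4), (4, 3), (3, 8), (8, 3),
    (4, 5), (5, 4), (5, 6), (6, 5), (6, 7), (7, 6), (8, 9), (9, 8)] then 3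
  else 2

/-- the points of the orbit of length 1080 of `⟨b, …, j⟩` -/
def d1bits : ℕ := 0xff8000000000000000000000000000000000000000000000000000000000000000000000000000000000000000000000000000000000000000000000000000000000000000000000000000000000000000000000000000000000000000000000000000000000000000000000000000000000000000000000000000000000000000000000000000000000000000000000000000000000000000000000000000000000000000000000000000000000000000000000000000820ffc0000000000000000000000000000000000000000000000000000000000000000000000000000000000000000000000000000000000000000000000000000000000000000000000000000000000000000000000000000000000000000000000000000000000000000000000000000000000000000000000000000000000000000000000000000000000000000000000000000000000000000002043807fff0000000000000000000000000000000000000000000000000000000000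000000000000000000000000000000000000000000000000000000000000000000000000000000000000000000000000000000000000000000000000000000000000000000000000000000000000000000000000000000000000000000000000000006003ff000386073fffffffffff80000000000000000000000000000000000000000000000000000000000000000000000000000000000000000000000000000000000000000000000000000000000000000000000000000000000000000000000000000000000000000000000000000000001a98f01fffe019fc63f9cfcffffffffffffffffffff0000000000000000000000000000000000000000000000000000000000000000000000000000000000000000000000000000000000000000000000000000000000010000000000000000000000000f7c7e3f9f83ffe03f1fcfe7e7e7efffffffffffffffffe00000000000000000000000000000000000000000000000000000000000000000000000000000000000000000000000000000000000000000001f2f99fcfcfc1ff87f3f3f3f7ef7ffffffffffffff000000000000000000000000000000000000000000000000000000000000000000000000000000000002f9be3cfcfdf8ff3f3f7ef7bfffffffffffe00000000000000000000000000000000000000000000000000000000000df39f5f3f7bf3f7ef7bffffffffff8000000000000000000000000000000000000000001cf9ef6fdeff7bdfffffffff000000000000000000000000000000f7b77ef7fdfffffffe00000000000000000000377dff7ffffffe00000000000006fbffffffe000000000ffffffc000007ffff8000fffe00ffe07f8fcf77ff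

/-- the chain of generators `i h d c b e f` of the affine subgroup -/
def chainT : List ℕ := [9, 8, 3, 2, 1, 4, 5]

/-- the base points of the chain -/
def baseT : List ℕ := [7999, 8000, 8003, 8004, 11589, 8002, 8005]

/-- the orbits of the base points -/
def ptsT : List (List ℕ) := [
  [6537, 7999],
  [5286, 6522, 8000],
  [4234, 5258, 6525, 8003],
  [4134, 5260, 5261, 6526, 8004],
  [4964, 6290, 6291, 7834, 9592, 11589],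
  [429, 494, 620, 621, 695, 707, 883, 884, 885, 984, 993, 995, 1237, 1238, 1239, 1240, 1241, 1362, 1364, 1372, 1373, 1375, 1712, 1713, 1714, 1716, 1717, 1718, 1719, 1720, 1864, 1865, 1867, 1872, 1874, 2341, 2342, 2344, 2346, 2347, 2348, 2349, 2350, 2351, 2352, 2514, 2515, 2516, 2522, 3152, 3155, 3156, 3159, 3160, 3161, 3162, 3163, 3164, 3165, 3317, 3320, 4131, 4133, 4138, 4139, 4140, 4141, 5257, 5263, 6524, 6527, 8002],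
  [52, 72, 76, 101, 106, 110, 141, 148, 154, 159, 202, 208, 209, 217, 225, 231, 232, 293, 296, 297, 305, 306, 317, 328, 329, 336, 337, 338, 430, 431, 435, 436, 437, 448, 449, 466, 467, 480, 481, 482, 491, 492, 493, 622, 623, 624, 630, 631, 632, 633, 646, 647, 648, 673, 674, 675, 692, 693, 694, 703, 704, 705, 706, 886, 887, 888, 889, 890, 899, 900, 901, 902, 903, 904, 918, 919, 920, 921, 922, 959, 960, 961, 962, 980, 981, 982, 983, 992, 994, 996, 1242, 1243, 1244, 1245, 1246, 1247, 1248, 1249, 1260, 1261, 1262, 1263, 1264, 1265, 1283, 1284, 1285, 1287, 1288, 1289, 1290, 1338, 1339, 1340, 1341, 1342, 1361, 1363, 1365, 1371, 1374, 1721, 1722, 1723, 1724, 1725, 1726, 1727, 1728, 1729, 1730, 1742, 1743, 1744, 1745, 1746, 1747, 1748, 1772, 1773, 1774, 1775, 1777, 1778, 1779, 1780, 1781, 1842, 1843, 1844, 1845, 1846, 1863, 1866, 1875,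 2353, 2354, 2355, 2356, 2357, 2358, 2359, 2360, 2361, 2362, 2363, 2377, 2378, 2379, 2380, 2381, 2382, 2383, 2384, 2385, 2413, 2414, 2415, 2416, 2417, 2421, 2422, 2423, 2424, 2425, 2495, 2496, 2498, 2499, 2501, 2517, 2523, 3166, 3167, 3168, 3169, 3170, 3171, 3172, 3173, 3174, 3175, 3176, 3177, 3178, 3194, 3195, 3196, 3198, 3199, 3200, 3201, 3202, 3203, 3204, 3234, 3235, 3236, 3237, 3238, 3242, 3243, 3311, 4142, 4143, 4144, 4145, 4146, 4147, 4149, 4160, 4161, 4162, 4163, 4180, 4181, 5264, 5265, 5266, 6528, 6529, 6543, 8005]]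

/-! ### the check functions -/

/-- the Coxeter relations of the generators -/
noncomputable def coxChk (i j : ℕ) : Bool := checkPlanes nets 15 (altWord i j (labN i j)) 15 0

/-- the letter `s` is its definition word, on the planes `5 p, …, 5 p + 4` -/
noncomputable def dwChk (p s : ℕ) : Bool := eqWp p [s] (nthW dwT s)

/-- the root letter `10 + s` has order dividing 3 -/
noncomputable def cubeChk (s : ℕ) : Bool := eqW [10 + s, 10 + s, 10 + s] []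

/-- the root letters `10 + s`, `10 + t` commute if the table says so -/
noncomputable def cmChk (s t : ℕ) : Bool :=
  bsel (Nat.testBit (nthV cmT s) t) (eqW [10 + s, 10 + t] [10 + t, 10 + s]) true

/-- skip the check when `x = y` -/
noncomputable def skipEq (x y : ℕ) (b : Bool) : Bool := bsel (Nat.beq x y) true b

theorem skipEq_sound {x y : ℕ} {b : Bool} (h : skipEq x y b = true) (hne : x ≠ y) : b = true := by
  unfold skipEq at h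
  cases hb : Nat.beq x y with
  | true => exact absurd (Nat.eq_of_beq_eq_true hb) hne
  | false => rw [hb] at h; exact h

noncomputable def a2Chk (a c e : ℕ) : Bool :=
  skipEq a c (skipEq a (ngN c) (skipEq a e (skipEq a (ngN e) (skipEq c e (skipEq c (ngN e)
    (eqW (rw a c ++ (rw (ngN c) e ++ (rw c a ++ rw e (ngN c)))) (rw a e)))))))

noncomputable def gtChk (a c : ℕ) : Bool :=
  eqW (gtW ++ rw a c) (rw (nthV gtT (8 * a + c) / 8) (nthV gtT (8 * a + c) % 8) ++ gtW)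

/-- the root letter `10 + s` preserves the set `d1bits` -/
noncomputable def d1Chk (s : ℕ) : Bool := Nat.beq (net (nthN nets (10 + s)) d1bits) d1bits

noncomputable def tauCubeChk (k : ℕ) : Bool := eqW [35 + k, 35 + k, 35 + k] []

noncomputable def tauCommChk (k l : ℕ) : Bool := eqW [35 + k, 35 + l] [35 + l, 35 + k]

noncomputable def tauNormChk (i k : ℕ) : Bool :=
  eqW [nthV g7T i, 35 + k] (nthW twT (5 * i + k) ++ [nthV g7T i])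

/-- the first `k` generators of the chain fix the base point `k` -/
noncomputable def fixChk (k : ℕ) : Bool :=
  allB k fun i => checkTr nets [nthV chainT i] (nthV baseT k) (nthV baseT k)

/-- the listed points lie in the orbit of the base point `k` under the first `k + 1` generators -/
noncomputable def orbChk (k : ℕ) : Bool :=
  Nat.beq (Nat.land (bitsOf (nthW ptsT k)) (orbBits nets (List.take (k + 1) chainT) 8 (nthV baseT k)))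
    (bitsOf (nthW ptsT k))

/-! ### the basic checks -/

theorem netsOK : okNets nets = true := by decide +kernel

theorem rangeOK : checkRange nets 31671 40 0 = true := by decide +kernel

end Cfsg.Agent.Lib.helper19_M23W
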