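import Cfsg.Agent.Lib.helper19_ONL

/-! Generated: relator checks, file 1; by helper19. -/

set_option autoImplicit false
set_option maxRecDepth 1000000
set_option Elab.async false

namespace Cfsg.Agent.Lib.helper19_ONL
open Cfsg.Agent.Lib.helper19_TC2 Cfsg.Agent.Lib.helper19_TC2L

theorem fix1_5 : checkFix 17 131071 (colsOf cols [3, 7, 4, 7, 4, 3, 4, 0, 4, 0]) 10000 50000 = true := by
  decide +kernel

theorem fix1_6 : checkFix 17 131071 (colsOf cols [3, 7, 4, 7, 4, 3, 4, 0, 4, 0]) 10000 60000 = true := by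
  decide +kernel

theorem fix1_7 : checkFix 17 131071 (colsOf cols [3, 7, 4, 7, 4, 3, 4, 0, 4, 0]) 10000 70000 = true := by
  decide +kernel

theorem fix1_8 : checkFix 17 131071 (colsOf cols [3, 7, 4, 7, 4, 3, 4, 0, 4, 0]) 10000 80000 = true := by
  decide +kernel

theorem fix1_9 : checkFix 17 131071 (colsOf cols [3, 7, 4, 7, 4, 3, 4, 0, 4, 0]) 10000 90000 = true := by
  decide +kernel

theorem fix1_10 : checkFix 17 131071 (colsOf cols [3, 7, 4, 7, 4, 3, 4, 0, 4, 0]) 10000 100000 = true := by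
  decide +kernel

theorem fix1_11 : checkFix 17 131071 (colsOf cols [3, 7, 4, 7, 4, 3, 4, 0, 4, 0]) 10000 110000 = true := by
  decide +kernel

theorem fix1_12 : checkFix 17 131071 (colsOf cols [3, 7, 4, 7, 4, 3, 4, 0, 4, 0]) 2760 120000 = true := by
  decide +kernel

theorem fix2_0 : checkFix 17 131071 (colsOf cols [0, 5, 4, 0, 4, 5, 0, 5, 4, 0, 4]) 9090 0 = true := by
  decide +kernel

theorem fix2_1 : checkFix 17 131071 (colsOf cols [0, 5, 4, 0, 4, 5, 0, 5, 4, 0, 4]) 9090 9090 = true := by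
  decide +kernel

end Cfsg.Agent.Lib.helper19_ONL
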