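import Cfsg.Agent.Lib.helper19_ONL

/-! Generated: relator checks, file 11; by helper19. -/

set_option autoImplicit false
set_option maxRecDepth 1000000
set_option Elab.async false

namespace Cfsg.Agent.Lib.helper19_ONL
open Cfsg.Agent.Lib.helper19_TC2 Cfsg.Agent.Lib.helper19_TC2L

theorem fix19_0 : checkFix 17 131071 (colsOf cols [1, 4, 1, 4]) 25000 0 = true := by
  decide +kernel

theorem fix19_1 : checkFix 17 131071 (colsOf cols [1, 4, 1, 4]) 25000 25000 = true := by
  decide +kernel

theorem fix19_2 : checkFix 17 131071 (colsOf cols [1, 4, 1, 4]) 25000 50000 = true := by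
  decide +kernel

theorem fix19_3 : checkFix 17 131071 (colsOf cols [1, 4, 1, 4]) 25000 75000 = true := by
  decide +kernel

theorem fix19_4 : checkFix 17 131071 (colsOf cols [1, 4, 1, 4]) 22760 100000 = true := by
  decide +kernel

theorem fix20_0 : checkFix 17 131071 (colsOf cols [2, 6, 2, 6]) 25000 0 = true := by
  decide +kernel

theorem fix20_1 : checkFix 17 131071 (colsOf cols [2, 6, 2, 6]) 25000 25000 = true := by
  decide +kernel

theorem fix20_2 : checkFix 17 131071 (colsOf cols [2, 6, 2, 6]) 25000 50000 = true := by
  decide +kernel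

theorem fix20_3 : checkFix 17 131071 (colsOf cols [2, 6, 2, 6]) 25000 75000 = true := by
  decide +kernel

theorem fix20_4 : checkFix 17 131071 (colsOf cols [2, 6, 2, 6]) 22760 100000 = true := by
  decide +kernel

end Cfsg.Agent.Lib.helper19_ONL
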