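import Cfsg.Agent.Lib.helper19_ONL

/-! Generated: relator checks, file 15; by helper19. -/

set_option autoImplicit false
set_option maxRecDepth 1000000
set_option Elab.async false

namespace Cfsg.Agent.Lib.helper19_ONL
open Cfsg.Agent.Lib.helper19_TC2 Cfsg.Agent.Lib.helper19_TC2L

theorem fix25_4 : checkFix 17 131071 (colsOf cols [2, 3, 2, 3, 2, 3]) 16666 66664 = true := by
  decide +kernel

theorem fix25_5 : checkFix 17 131071 (colsOf cols [2, 3, 2, 3, 2, 3]) 16666 83330 = true := by
  decide +kernel

theorem fix25_6 : checkFix 17 131071 (colsOf cols [2, 3, 2, 3, 2, 3]) 16666 99996 = true := by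
  decide +kernel

theorem fix25_7 : checkFix 17 131071 (colsOf cols [2, 3, 2, 3, 2, 3]) 6098 116662 = true := by
  decide +kernel

theorem fix26_0 : checkFix 17 131071 (colsOf cols [1, 2, 1, 2, 1, 2]) 16666 0 = true := by
  decide +kernel

theorem fix26_1 : checkFix 17 131071 (colsOf cols [1, 2, 1, 2, 1, 2]) 16666 16666 = true := by
  decide +kernel

theorem fix26_2 : checkFix 17 131071 (colsOf cols [1, 2, 1, 2, 1, 2]) 16666 33332 = true := by
  decide +kernel

theorem fix26_3 : checkFix 17 131071 (colsOf cols [1, 2, 1, 2, 1, 2]) 16666 49998 = true := by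
  decide +kernel

theorem fix26_4 : checkFix 17 131071 (colsOf cols [1, 2, 1, 2, 1, 2]) 16666 66664 = true := by
  decide +kernel

theorem fix26_5 : checkFix 17 131071 (colsOf cols [1, 2, 1, 2, 1, 2]) 16666 83330 = true := by
  decide +kernel

end Cfsg.Agent.Lib.helper19_ONL
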