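import Cfsg.Agent.Lib.helper19_ONL

/-! Generated: relator checks, file 16; by helper19. -/

set_option autoImplicit false
set_option maxRecDepth 1000000
set_option Elab.async false

namespace Cfsg.Agent.Lib.helper19_ONL
open Cfsg.Agent.Lib.helper19_TC2 Cfsg.Agent.Lib.helper19_TC2L

theorem fix26_6 : checkFix 17 131071 (colsOf cols [1, 2, 1, 2, 1, 2]) 16666 99996 = true := by
  decide +kernel

theorem fix26_7 : checkFix 17 131071 (colsOf cols [1, 2, 1, 2, 1, 2]) 6098 116662 = true := by
  decide +kernel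

theorem fix27_0 : checkFix 17 131071 (colsOf cols [1, 6, 4, 3, 4, 3, 4, 3, 4, 3]) 10000 0 = true := by
  decide +kernel

theorem fix27_1 : checkFix 17 131071 (colsOf cols [1, 6, 4, 3, 4, 3, 4, 3, 4, 3]) 10000 10000 = true := by
  decide +kernel

theorem fix27_2 : checkFix 17 131071 (colsOf cols [1, 6, 4, 3, 4, 3, 4, 3, 4, 3]) 10000 20000 = true := by
  decide +kernel

theorem fix27_3 : checkFix 17 131071 (colsOf cols [1, 6, 4, 3, 4, 3, 4, 3, 4, 3]) 10000 30000 = true := by
  decide +kernel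

theorem fix27_4 : checkFix 17 131071 (colsOf cols [1, 6, 4, 3, 4, 3, 4, 3, 4, 3]) 10000 40000 = true := by
  decide +kernel

theorem fix27_5 : checkFix 17 131071 (colsOf cols [1, 6, 4, 3, 4, 3, 4, 3, 4, 3]) 10000 50000 = true := by
  decide +kernel

theorem fix27_6 : checkFix 17 131071 (colsOf cols [1, 6, 4, 3, 4, 3, 4, 3, 4, 3]) 10000 60000 = true := by
  decide +kernel

theorem fix27_7 : checkFix 17 131071 (colsOf cols [1, 6, 4, 3, 4, 3, 4, 3, 4, 3]) 10000 70000 = true := by
  decide +kernel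

end Cfsg.Agent.Lib.helper19_ONL
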