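import Cfsg.Agent.Lib.helper19_ONL

/-! Generated: relator checks, file 18; by helper19. -/

set_option autoImplicit false
set_option maxRecDepth 1000000
set_option Elab.async false

namespace Cfsg.Agent.Lib.helper19_ONL
open Cfsg.Agent.Lib.helper19_TC2 Cfsg.Agent.Lib.helper19_TC2L

theorem fix28_5 : checkFix 17 131071 (colsOf cols [3, 4, 3, 4, 3, 4, 3, 4, 3, 4, 3, 4, 3, 4, 3, 4]) 6250 31250 = true := by
  decide +kernel

theorem fix28_6 : checkFix 17 131071 (colsOf cols [3, 4, 3, 4, 3, 4, 3, 4, 3, 4, 3, 4, 3, 4, 3, 4]) 6250 37500 = true := by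
  decide +kernel

theorem fix28_7 : checkFix 17 131071 (colsOf cols [3, 4, 3, 4, 3, 4, 3, 4, 3, 4, 3, 4, 3, 4, 3, 4]) 6250 43750 = true := by
  decide +kernel

theorem fix28_8 : checkFix 17 131071 (colsOf cols [3, 4, 3, 4, 3, 4, 3, 4, 3, 4, 3, 4, 3, 4, 3, 4]) 6250 50000 = true := by
  decide +kernel

theorem fix28_9 : checkFix 17 131071 (colsOf cols [3, 4, 3, 4, 3, 4, 3, 4, 3, 4, 3, 4, 3, 4, 3, 4]) 6250 56250 = true := by
  decide +kernel

theorem fix28_10 : checkFix 17 131071 (colsOf cols [3, 4, 3, 4, 3, 4, 3, 4, 3, 4, 3, 4, 3, 4, 3, 4]) 6250 62500 = true := by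
  decide +kernel

theorem fix28_11 : checkFix 17 131071 (colsOf cols [3, 4, 3, 4, 3, 4, 3, 4, 3, 4, 3, 4, 3, 4, 3, 4]) 6250 68750 = true := by
  decide +kernel

theorem fix28_12 : checkFix 17 131071 (colsOf cols [3, 4, 3, 4, 3, 4, 3, 4, 3, 4, 3, 4, 3, 4, 3, 4]) 6250 75000 = true := by
  decide +kernel

theorem fix28_13 : checkFix 17 131071 (colsOf cols [3, 4, 3, 4, 3, 4, 3, 4, 3, 4, 3, 4, 3, 4, 3, 4]) 6250 81250 = true := by
  decide +kernel

theorem fix28_14 : checkFix 17 131071 (colsOf cols [3, 4, 3, 4, 3, 4, 3, 4, 3, 4, 3, 4, 3, 4, 3, 4]) 6250 87500 = true := by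
  decide +kernel

end Cfsg.Agent.Lib.helper19_ONL
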