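import Cfsg.Agent.Lib.helper19_ONL

/-! Generated: relator checks, file 19; by helper19. -/

set_option autoImplicit false
set_option maxRecDepth 1000000
set_option Elab.async false

namespace Cfsg.Agent.Lib.helper19_ONL
open Cfsg.Agent.Lib.helper19_TC2 Cfsg.Agent.Lib.helper19_TC2L

theorem fix28_15 : checkFix 17 131071 (colsOf cols [3, 4, 3, 4, 3, 4, 3, 4, 3, 4, 3, 4, 3, 4, 3, 4]) 6250 93750 = true := by
  decide +kernel

theorem fix28_16 : checkFix 17 131071 (colsOf cols [3, 4, 3, 4, 3, 4, 3, 4, 3, 4, 3, 4, 3, 4, 3, 4]) 6250 100000 = true := by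
  decide +kernel

theorem fix28_17 : checkFix 17 131071 (colsOf cols [3, 4, 3, 4, 3, 4, 3, 4, 3, 4, 3, 4, 3, 4, 3, 4]) 6250 106250 = true := by
  decide +kernel

theorem fix28_18 : checkFix 17 131071 (colsOf cols [3, 4, 3, 4, 3, 4, 3, 4, 3, 4, 3, 4, 3, 4, 3, 4]) 6250 112500 = true := by
  decide +kernel

theorem fix28_19 : checkFix 17 131071 (colsOf cols [3, 4, 3, 4, 3, 4, 3, 4, 3, 4, 3, 4, 3, 4, 3, 4]) 4010 118750 = true := by
  decide +kernel

theorem fix29_0 : checkFix 17 131071 (colsOf cols [2, 3, 4, 0, 2, 3, 4, 0, 2, 3, 4, 0, 2, 3, 4, 0, 2, 3, 4, 0]) 5000 0 = true := by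
  decide +kernel

theorem fix29_1 : checkFix 17 131071 (colsOf cols [2, 3, 4, 0, 2, 3, 4, 0, 2, 3, 4, 0, 2, 3, 4, 0, 2, 3, 4, 0]) 5000 5000 = true := by
  decide +kernel

theorem fix29_2 : checkFix 17 131071 (colsOf cols [2, 3, 4, 0, 2, 3, 4, 0, 2, 3, 4, 0, 2, 3, 4, 0, 2, 3, 4, 0]) 5000 10000 = true := by
  decide +kernel

theorem fix29_3 : checkFix 17 131071 (colsOf cols [2, 3, 4, 0, 2, 3, 4, 0, 2, 3, 4, 0, 2, 3, 4, 0, 2, 3, 4, 0]) 5000 15000 = true := by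
  decide +kernel

theorem fix29_4 : checkFix 17 131071 (colsOf cols [2, 3, 4, 0, 2, 3, 4, 0, 2, 3, 4, 0, 2, 3, 4, 0, 2, 3, 4, 0]) 5000 20000 = true := by
  decide +kernel

end Cfsg.Agent.Lib.helper19_ONL
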