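import Cfsg.Agent.Lib.helper19_ONL

/-! Generated: relator checks, file 2; by helper19. -/

set_option autoImplicit false
set_option maxRecDepth 1000000
set_option Elab.async false

namespace Cfsg.Agent.Lib.helper19_ONL
open Cfsg.Agent.Lib.helper19_TC2 Cfsg.Agent.Lib.helper19_TC2L

theorem fix2_2 : checkFix 17 131071 (colsOf cols [0, 5, 4, 0, 4, 5, 0, 5, 4, 0, 4]) 9090 18180 = true := by
  decide +kernel

theorem fix2_3 : checkFix 17 131071 (colsOf cols [0, 5, 4, 0, 4, 5, 0, 5, 4, 0, 4]) 9090 27270 = true := by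
  decide +kernel

theorem fix2_4 : checkFix 17 131071 (colsOf cols [0, 5, 4, 0, 4, 5, 0, 5, 4, 0, 4]) 9090 36360 = true := by
  decide +kernel

theorem fix2_5 : checkFix 17 131071 (colsOf cols [0, 5, 4, 0, 4, 5, 0, 5, 4, 0, 4]) 9090 45450 = true := by
  decide +kernel

theorem fix2_6 : checkFix 17 131071 (colsOf cols [0, 5, 4, 0, 4, 5, 0, 5, 4, 0, 4]) 9090 54540 = true := by
  decide +kernel

theorem fix2_7 : checkFix 17 131071 (colsOf cols [0, 5, 4, 0, 4, 5, 0, 5, 4, 0, 4]) 9090 63630 = true := by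
  decide +kernel

theorem fix2_8 : checkFix 17 131071 (colsOf cols [0, 5, 4, 0, 4, 5, 0, 5, 4, 0, 4]) 9090 72720 = true := by
  decide +kernel

theorem fix2_9 : checkFix 17 131071 (colsOf cols [0, 5, 4, 0, 4, 5, 0, 5, 4, 0, 4]) 9090 81810 = true := by
  decide +kernel

theorem fix2_10 : checkFix 17 131071 (colsOf cols [0, 5, 4, 0, 4, 5, 0, 5, 4, 0, 4]) 9090 90900 = true := by
  decide +kernel

theorem fix2_11 : checkFix 17 131071 (colsOf cols [0, 5, 4, 0, 4, 5, 0, 5, 4, 0, 4]) 9090 99990 = true := by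
  decide +kernel

end Cfsg.Agent.Lib.helper19_ONL
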