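import Cfsg.Agent.Lib.helper19_ONL

/-! Generated: relator checks, file 20; by helper19. -/

set_option autoImplicit false
set_option maxRecDepth 1000000
set_option Elab.async false

namespace Cfsg.Agent.Lib.helper19_ONL
open Cfsg.Agent.Lib.helper19_TC2 Cfsg.Agent.Lib.helper19_TC2L

theorem fix29_5 : checkFix 17 131071 (colsOf cols [2, 3, 4, 0, 2, 3, 4, 0, 2, 3, 4, 0, 2, 3, 4, 0, 2, 3, 4, 0]) 5000 25000 = true := by
  decide +kernel

theorem fix29_6 : checkFix 17 131071 (colsOf cols [2, 3, 4, 0, 2, 3, 4, 0, 2, 3, 4, 0, 2, 3, 4, 0, 2, 3, 4, 0]) 5000 30000 = true := by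
  decide +kernel

theorem fix29_7 : checkFix 17 131071 (colsOf cols [2, 3, 4, 0, 2, 3, 4, 0, 2, 3, 4, 0, 2, 3, 4, 0, 2, 3, 4, 0]) 5000 35000 = true := by
  decide +kernel

theorem fix29_8 : checkFix 17 131071 (colsOf cols [2, 3, 4, 0, 2, 3, 4, 0, 2, 3, 4, 0, 2, 3, 4, 0, 2, 3, 4, 0]) 5000 40000 = true := by
  decide +kernel

theorem fix29_9 : checkFix 17 131071 (colsOf cols [2, 3, 4, 0, 2, 3, 4, 0, 2, 3, 4, 0, 2, 3, 4, 0, 2, 3, 4, 0]) 5000 45000 = true := by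
  decide +kernel

theorem fix29_10 : checkFix 17 131071 (colsOf cols [2, 3, 4, 0, 2, 3, 4, 0, 2, 3, 4, 0, 2, 3, 4, 0, 2, 3, 4, 0]) 5000 50000 = true := by
  decide +kernel

theorem fix29_11 : checkFix 17 131071 (colsOf cols [2, 3, 4, 0, 2, 3, 4, 0, 2, 3, 4, 0, 2, 3, 4, 0, 2, 3, 4, 0]) 5000 55000 = true := by
  decide +kernel

theorem fix29_12 : checkFix 17 131071 (colsOf cols [2, 3, 4, 0, 2, 3, 4, 0, 2, 3, 4, 0, 2, 3, 4, 0, 2, 3, 4, 0]) 5000 60000 = true := by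
  decide +kernel

theorem fix29_13 : checkFix 17 131071 (colsOf cols [2, 3, 4, 0, 2, 3, 4, 0, 2, 3, 4, 0, 2, 3, 4, 0, 2, 3, 4, 0]) 5000 65000 = true := by
  decide +kernel

theorem fix29_14 : checkFix 17 131071 (colsOf cols [2, 3, 4, 0, 2, 3, 4, 0, 2, 3, 4, 0, 2, 3, 4, 0, 2, 3, 4, 0]) 5000 70000 = true := by
  decide +kernel

end Cfsg.Agent.Lib.helper19_ONL
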