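import Cfsg.Agent.Lib.helper19_ONL

/-! Generated: relator checks, file 21; by helper19. -/

set_option autoImplicit false
set_option maxRecDepth 1000000
set_option Elab.async false

namespace Cfsg.Agent.Lib.helper19_ONL
open Cfsg.Agent.Lib.helper19_TC2 Cfsg.Agent.Lib.helper19_TC2L

theorem fix29_15 : checkFix 17 131071 (colsOf cols [2, 3, 4, 0, 2, 3, 4, 0, 2, 3, 4, 0, 2, 3, 4, 0, 2, 3, 4, 0]) 5000 75000 = true := by
  decide +kernel

theorem fix29_16 : checkFix 17 131071 (colsOf cols [2, 3, 4, 0, 2, 3, 4, 0, 2, 3, 4, 0, 2, 3, 4, 0, 2, 3, 4, 0]) 5000 80000 = true := by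
  decide +kernel

theorem fix29_17 : checkFix 17 131071 (colsOf cols [2, 3, 4, 0, 2, 3, 4, 0, 2, 3, 4, 0, 2, 3, 4, 0, 2, 3, 4, 0]) 5000 85000 = true := by
  decide +kernel

theorem fix29_18 : checkFix 17 131071 (colsOf cols [2, 3, 4, 0, 2, 3, 4, 0, 2, 3, 4, 0, 2, 3, 4, 0, 2, 3, 4, 0]) 5000 90000 = true := by
  decide +kernel

theorem fix29_19 : checkFix 17 131071 (colsOf cols [2, 3, 4, 0, 2, 3, 4, 0, 2, 3, 4, 0, 2, 3, 4, 0, 2, 3, 4, 0]) 5000 95000 = true := by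
  decide +kernel

theorem fix29_20 : checkFix 17 131071 (colsOf cols [2, 3, 4, 0, 2, 3, 4, 0, 2, 3, 4, 0, 2, 3, 4, 0, 2, 3, 4, 0]) 5000 100000 = true := by
  decide +kernel

theorem fix29_21 : checkFix 17 131071 (colsOf cols [2, 3, 4, 0, 2, 3, 4, 0, 2, 3, 4, 0, 2, 3, 4, 0, 2, 3, 4, 0]) 5000 105000 = true := by
  decide +kernel

theorem fix29_22 : checkFix 17 131071 (colsOf cols [2, 3, 4, 0, 2, 3, 4, 0, 2, 3, 4, 0, 2, 3, 4, 0, 2, 3, 4, 0]) 5000 110000 = true := by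
  decide +kernel

theorem fix29_23 : checkFix 17 131071 (colsOf cols [2, 3, 4, 0, 2, 3, 4, 0, 2, 3, 4, 0, 2, 3, 4, 0, 2, 3, 4, 0]) 5000 115000 = true := by
  decide +kernel

theorem fix29_24 : checkFix 17 131071 (colsOf cols [2, 3, 4, 0, 2, 3, 4, 0, 2, 3, 4, 0, 2, 3, 4, 0, 2, 3, 4, 0]) 2760 120000 = true := by
  decide +kernel

end Cfsg.Agent.Lib.helper19_ONL
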