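import Cfsg.Agent.Lib.helper19_ONL

/-! Generated: relator checks, file 3; by helper19. -/

set_option autoImplicit false
set_option maxRecDepth 1000000
set_option Elab.async false

namespace Cfsg.Agent.Lib.helper19_ONL
open Cfsg.Agent.Lib.helper19_TC2 Cfsg.Agent.Lib.helper19_TC2L

theorem fix2_12 : checkFix 17 131071 (colsOf cols [0, 5, 4, 0, 4, 5, 0, 5, 4, 0, 4]) 9090 109080 = true := by
  decide +kernel

theorem fix2_13 : checkFix 17 131071 (colsOf cols [0, 5, 4, 0, 4, 5, 0, 5, 4, 0, 4]) 4590 118170 = true := by
  decide +kernel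

theorem fix3_0 : checkFix 17 131071 (colsOf cols [5, 5]) 50000 0 = true := by
  decide +kernel

theorem fix3_1 : checkFix 17 131071 (colsOf cols [5, 5]) 50000 50000 = true := by
  decide +kernel

theorem fix3_2 : checkFix 17 131071 (colsOf cols [5, 5]) 22760 100000 = true := by
  decide +kernel

theorem fix4_0 : checkFix 17 131071 (colsOf cols [4, 4]) 50000 0 = true := by
  decide +kernel

theorem fix4_1 : checkFix 17 131071 (colsOf cols [4, 4]) 50000 50000 = true := by
  decide +kernel

theorem fix4_2 : checkFix 17 131071 (colsOf cols [4, 4]) 22760 100000 = true := by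
  decide +kernel

theorem fix5_0 : checkFix 17 131071 (colsOf cols [6, 6]) 50000 0 = true := by
  decide +kernel

theorem fix5_1 : checkFix 17 131071 (colsOf cols [6, 6]) 50000 50000 = true := by
  decide +kernel

theorem fix5_2 : checkFix 17 131071 (colsOf cols [6, 6]) 22760 100000 = true := by
  decide +kernel

theorem fix6_0 : checkFix 17 131071 (colsOf cols [0, 7]) 50000 0 = true := by
  decide +kernel

end Cfsg.Agent.Lib.helper19_ONL
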