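import Cfsg.Agent.Lib.helper19_ONL

/-! Generated: relator checks, file 4; by helper19. -/

set_option autoImplicit false
set_option maxRecDepth 1000000
set_option Elab.async false

namespace Cfsg.Agent.Lib.helper19_ONL
open Cfsg.Agent.Lib.helper19_TC2 Cfsg.Agent.Lib.helper19_TC2L

theorem fix6_1 : checkFix 17 131071 (colsOf cols [0, 7]) 50000 50000 = true := by
  decide +kernel

theorem fix6_2 : checkFix 17 131071 (colsOf cols [0, 7]) 22760 100000 = true := by
  decide +kernel

theorem fix7_0 : checkFix 17 131071 (colsOf cols [3, 5, 3, 5]) 25000 0 = true := by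
  decide +kernel

theorem fix7_1 : checkFix 17 131071 (colsOf cols [3, 5, 3, 5]) 25000 25000 = true := by
  decide +kernel

theorem fix7_2 : checkFix 17 131071 (colsOf cols [3, 5, 3, 5]) 25000 50000 = true := by
  decide +kernel

theorem fix7_3 : checkFix 17 131071 (colsOf cols [3, 5, 3, 5]) 25000 75000 = true := by
  decide +kernel

theorem fix7_4 : checkFix 17 131071 (colsOf cols [3, 5, 3, 5]) 22760 100000 = true := by
  decide +kernel

theorem fix8_0 : checkFix 17 131071 (colsOf cols [7, 0]) 50000 0 = true := by
  decide +kernel

theorem fix8_1 : checkFix 17 131071 (colsOf cols [7, 0]) 50000 50000 = true := by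
  decide +kernel

theorem fix8_2 : checkFix 17 131071 (colsOf cols [7, 0]) 22760 100000 = true := by
  decide +kernel

theorem fix9_0 : checkFix 17 131071 (colsOf cols [3, 3]) 50000 0 = true := by
  decide +kernel

end Cfsg.Agent.Lib.helper19_ONL
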