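import Cfsg.Agent.Lib.helper19_ONL

/-! Generated: relator checks, file 5; by helper19. -/

set_option autoImplicit false
set_option maxRecDepth 1000000
set_option Elab.async false

namespace Cfsg.Agent.Lib.helper19_ONL
open Cfsg.Agent.Lib.helper19_TC2 Cfsg.Agent.Lib.helper19_TC2L

theorem fix9_1 : checkFix 17 131071 (colsOf cols [3, 3]) 50000 50000 = true := by
  decide +kernel

theorem fix9_2 : checkFix 17 131071 (colsOf cols [3, 3]) 22760 100000 = true := by
  decide +kernel

theorem fix10_0 : checkFix 17 131071 (colsOf cols [4, 7, 3, 7, 3, 4, 3, 0, 3, 0]) 10000 0 = true := by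
  decide +kernel

theorem fix10_1 : checkFix 17 131071 (colsOf cols [4, 7, 3, 7, 3, 4, 3, 0, 3, 0]) 10000 10000 = true := by
  decide +kernel

theorem fix10_2 : checkFix 17 131071 (colsOf cols [4, 7, 3, 7, 3, 4, 3, 0, 3, 0]) 10000 20000 = true := by
  decide +kernel

theorem fix10_3 : checkFix 17 131071 (colsOf cols [4, 7, 3, 7, 3, 4, 3, 0, 3, 0]) 10000 30000 = true := by
  decide +kernel

theorem fix10_4 : checkFix 17 131071 (colsOf cols [4, 7, 3, 7, 3, 4, 3, 0, 3, 0]) 10000 40000 = true := by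
  decide +kernel

theorem fix10_5 : checkFix 17 131071 (colsOf cols [4, 7, 3, 7, 3, 4, 3, 0, 3, 0]) 10000 50000 = true := by
  decide +kernel

theorem fix10_6 : checkFix 17 131071 (colsOf cols [4, 7, 3, 7, 3, 4, 3, 0, 3, 0]) 10000 60000 = true := by
  decide +kernel

theorem fix10_7 : checkFix 17 131071 (colsOf cols [4, 7, 3, 7, 3, 4, 3, 0, 3, 0]) 10000 70000 = true := by
  decide +kernel

end Cfsg.Agent.Lib.helper19_ONL
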