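import Mathlib
import Cfsg.Agent.Lib.helper19_TC2L

/-!
Further checks on packed permutation representations: intervals closed under some letters and
spanning trees inside intervals (for orbits of the subgroup).  By helper19.
-/

set_option autoImplicit false

namespace Cfsg.Agent.Lib.helper19_TC2L2

open Cfsg.Agent.Lib.helper19_TC2 Cfsg.Agent.Lib.helper19_TC2L

/-- all points `x, x+1, …` (`n` of them) are mapped into `[lo, hi)` by the column `c`. -/
noncomputable def checkIn (w emask lo hi : ℕ) (c : Tr) (n : ℕ) : ℕ → Bool :=
  Nat.rec (motive := fun _ => ℕ → Bool) (fun _ => true)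
    (fun _ ih x => force (look w emask c x) fun y =>
      bsel (Nat.ble lo y) (bsel (Nat.ble hi y) false
        (force (Nat.add x (nat_lit 1)) fun x' => ih x')) false) n

theorem checkIn_sound (w emask lo hi : ℕ) (c : Tr) : ∀ (n x : ℕ),
    checkIn w emask lo hi c n x = true →
    ∀ i < n, lo ≤ look w emask c (x + i) ∧ look w emask c (x + i) < hi := by
  intro n
  induction n with
  | zero => intro x _ i hi; omega
  | succ n ih =>
    intro x h i hi'
    change bsel (Nat.ble lo (look w emask c x)) (bsel (Nat.ble hi (look w emask c x)) false
      (checkIn w emask lo hi c n (Nat.add x 1))) false = true at h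
    cases h1 : Nat.ble lo (look w emask c x) with
    | false => rw [h1, bsel_false] at h; cases h
    | true =>
      rw [h1, bsel_true] at h
      cases h2 : Nat.ble hi (look w emask c x) with
      | true => rw [h2, bsel_true] at h; cases h
      | false =>
        rw [h2, bsel_false] at h
        cases i with
        | zero => exact ⟨le_of_ble_true h1, lt_of_ble_false h2⟩
        | succ i =>
          have := ih (x + 1) h i (by omega)
          rwa [show x + 1 + i = x + (i + 1) by omega] at this

theorem in_of_part (w emask lo hi : ℕ) (cols : List Tr) (s : ℕ) {n x0 : ℕ}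
    (h : checkIn w emask lo hi (nthT cols s) n x0 = true) (x : ℕ) (h1 : x0 ≤ x) (h2 : x < x0 + n) :
    lo ≤ act w emask cols s x ∧ act w emask cols s x < hi := by
  have := checkIn_sound w emask lo hi _ n x0 h (x - x0) (by omega)
  rwa [show x0 + (x - x0) = x by omega] at this

/-- the parent of `x` in the tree `t`. -/
noncomputable def treePar (emask wt tmask : ℕ) (t : Tr) (x : ℕ) : ℕ :=
  Nat.land (look wt tmask t x) emask

/-- the letter of `x` in the tree `t`. -/
noncomputable def treeGen (w wt tmask : ℕ) (t : Tr) (x : ℕ) : ℕ :=
  Nat.shiftRight (look wt tmask t x) w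

/-- the tree entries of the points `x, x+1, …` (`n` of them) have parents `≥ lo` and letters whose
bit is set in `sub`. -/
noncomputable def checkTreeIn (w emask wt tmask lo sub : ℕ) (t : Tr) (n : ℕ) : ℕ → Bool :=
  Nat.rec (motive := fun _ => ℕ → Bool) (fun _ => true)
    (fun _ ih x => force (look wt tmask t x) fun e =>
      bsel (Nat.ble lo (Nat.land e emask))
        (bsel (Nat.beq (Nat.land (Nat.shiftRight sub (Nat.shiftRight e w)) (nat_lit 1)) (nat_lit 1))
          (force (Nat.add x (nat_lit 1)) fun x' => ih x') false) false) n

theorem checkTreeIn_sound (w emask wt tmask lo sub : ℕ) (t : Tr) : ∀ (n x : ℕ),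
    checkTreeIn w emask wt tmask lo sub t n x = true →
    ∀ i < n, lo ≤ treePar emask wt tmask t (x + i) ∧
      Nat.land (Nat.shiftRight sub (treeGen w wt tmask t (x + i))) 1 = 1 := by
  intro n
  induction n with
  | zero => intro x _ i hi; omega
  | succ n ih =>
    intro x h i hi'
    change bsel (Nat.ble lo (Nat.land (look wt tmask t x) emask))
      (bsel (Nat.beq (Nat.land (Nat.shiftRight sub (Nat.shiftRight (look wt tmask t x) w)) 1) 1)
        (checkTreeIn w emask wt tmask lo sub t n (Nat.add x 1)) false) false = true at h
    cases h1 : Nat.ble lo (Nat.land (look wt tmask t x) emask) with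
    | false => rw [h1, bsel_false] at h; cases h
    | true =>
      rw [h1, bsel_true] at h
      cases h2 : Nat.beq (Nat.land (Nat.shiftRight sub (Nat.shiftRight (look wt tmask t x) w)) 1) 1
        with
      | false => rw [h2, bsel_false] at h; cases h
      | true =>
        rw [h2, bsel_true] at h
        cases i with
        | zero => exact ⟨le_of_ble_true h1, Nat.eq_of_beq_eq_true h2⟩
        | succ i =>
          have := ih (x + 1) h i (by omega)
          rwa [show x + 1 + i = x + (i + 1) by omega] at this

theorem checkTree_sound' (w emask wt tmask k : ℕ) (cols : List Tr) (t : Tr) :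
    ∀ (n x : ℕ), checkTree w emask wt tmask k cols t n x = true →
    ∀ i < n, treePar emask wt tmask t (x + i) < x + i ∧ treeGen w wt tmask t (x + i) < k ∧
      act w emask cols (treeGen w wt tmask t (x + i)) (treePar emask wt tmask t (x + i)) = x + i := by
  intro n
  induction n with
  | zero => intro x _ i hi; omega
  | succ n ih =>
    intro x h i hi
    change bsel (Nat.ble x (Nat.land (look wt tmask t x) emask)) false
      (bsel (Nat.ble k (Nat.shiftRight (look wt tmask t x) w)) false
        (bsel (Nat.beq (look w emask (nthT cols (Nat.shiftRight (look wt tmask t x) w))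
            (Nat.land (look wt tmask t x) emask)) x)
          (checkTree w emask wt tmask k cols t n (Nat.add x 1)) false)) = true at h
    cases h1 : Nat.ble x (Nat.land (look wt tmask t x) emask) with
    | true => rw [h1, bsel_true] at h; cases h
    | false =>
      rw [h1, bsel_false] at h
      cases h3 : Nat.ble k (Nat.shiftRight (look wt tmask t x) w) with
      | true => rw [h3, bsel_true] at h; cases h
      | false =>
      rw [h3, bsel_false] at h
      cases h2 : Nat.beq (look w emask (nthT cols (Nat.shiftRight (look wt tmask t x) w))
          (Nat.land (look wt tmask t x) emask)) x with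
      | false => rw [h2, bsel_false] at h; cases h
      | true =>
        rw [h2, bsel_true] at h
        cases i with
        | zero => exact ⟨lt_of_ble_false h1, lt_of_ble_false h3, Nat.eq_of_beq_eq_true h2⟩
        | succ i =>
          have := ih (x + 1) h i (by omega)
          rwa [show x + 1 + i = x + (i + 1) by omega] at this

/-- the tree inside an interval: parents stay in the interval and letters are in `sub`. -/
theorem treeIn_of_parts (w emask wt tmask k lo sub : ℕ) (cols : List Tr) (t : Tr) {n x0 n' x0' : ℕ}
    (h : checkTree w emask wt tmask k cols t n x0 = true)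
    (h' : checkTreeIn w emask wt tmask lo sub t n' x0' = true)
    (x : ℕ) (h1 : x0 ≤ x) (h2 : x < x0 + n) (h1' : x0' ≤ x) (h2' : x < x0' + n') :
    ∃ p s, lo ≤ p ∧ p < x ∧ s < k ∧ Nat.land (Nat.shiftRight sub s) 1 = 1 ∧
      act w emask cols s p = x := by
  have a1 := checkTree_sound' w emask wt tmask k cols t n x0 h (x - x0) (by omega)
  rw [show x0 + (x - x0) = x by omega] at a1
  have a2 := checkTreeIn_sound w emask wt tmask lo sub t n' x0' h' (x - x0') (by omega)
  rw [show x0' + (x - x0') = x by omega] at a2
  exact ⟨_, _, a2.1, a1.1, a1.2.1, a2.2, a1.2.2⟩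

end Cfsg.Agent.Lib.helper19_TC2L2
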