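import Cfsg.Agent.Lib.helper19_TC2
import Cfsg.Agent.Lib.helper19_TC2U2
import Cfsg.Agent.Lib.helper19_TC2L
import Cfsg.Agent.Lib.helper19_TC2L2
import Cfsg.Agent.Lib.helper19_ONU
import Cfsg.Agent.Lib.helper19_ONUD0
import Cfsg.Agent.Lib.helper19_ONUD1
import Cfsg.Agent.Lib.helper19_ONUD2
import Cfsg.Agent.Lib.helper19_ONUD3
import Cfsg.Agent.Lib.helper19_ONUN0
import Cfsg.Agent.Lib.helper19_ONUN1
import Cfsg.Agent.Lib.helper19_ONUN2
import Cfsg.Agent.Lib.helper19_ONUN3
import Cfsg.Agent.Lib.helper19_ONUN4
import Cfsg.Agent.Lib.helper19_ONUR0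
import Cfsg.Agent.Lib.helper19_ONUR1
import Cfsg.Agent.Lib.helper19_ONUR2
import Cfsg.Agent.Lib.helper19_ONUR3
import Cfsg.Agent.Lib.helper19_ONUR4
import Cfsg.Agent.Lib.helper19_ONUR5
import Cfsg.Agent.Lib.helper19_ONUR6
import Cfsg.Agent.Lib.helper19_ONUR7
import Cfsg.Agent.Lib.helper19_ONUR8
import Cfsg.Agent.Lib.helper19_ONUR9
import Cfsg.Agent.Lib.helper19_ONUR10
import Cfsg.Agent.Lib.helper19_ONUR11
import Cfsg.Agent.Lib.helper19_ONUR12
import Cfsg.Agent.Lib.helper19_ONUR13
import Cfsg.Agent.Lib.helper19_ONUR14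
import Cfsg.Agent.Lib.helper19_ONUR15
import Cfsg.Agent.Lib.helper19_ONUR16
import Cfsg.Agent.Lib.helper19_ONUR17
import Cfsg.Agent.Lib.helper19_ONUR18
import Cfsg.Agent.Lib.helper19_ONUR19
import Cfsg.Agent.Lib.helper19_ONUR20
import Cfsg.Agent.Lib.helper19_ONUC0
import Cfsg.Agent.Lib.helper19_ONUC1
import Cfsg.Agent.Lib.helper19_ONUC2
import Cfsg.Agent.Lib.helper19_ONUC3
import Cfsg.Agent.Lib.helper19_ONUC4
import Cfsg.Agent.Lib.helper19_ONUC5
import Cfsg.Agent.Lib.helper19_ONUC6
import Cfsg.Agent.Lib.helper19_ONUC7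
import Cfsg.Agent.Lib.helper19_ONUC8
import Cfsg.Agent.Lib.helper19_ONUC9
import Cfsg.Agent.Lib.helper19_ONUC10
import Cfsg.Agent.Lib.helper19_ONUC11
import Cfsg.Agent.Lib.helper19_ONUC12
import Cfsg.Agent.Lib.helper19_ONUC13
import Cfsg.Agent.Lib.helper19_ONUC14
import Cfsg.Agent.Lib.helper19_ONUC15
import Cfsg.Agent.Lib.helper19_ONUC16
import Cfsg.Agent.Lib.helper19_ONUC17
import Cfsg.Agent.Lib.helper19_ONUC18
import Cfsg.Agent.Lib.helper19_ONUC19
import Cfsg.Agent.Lib.helper19_ONUC20
import Cfsg.Agent.Lib.helper19_ONUC21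
import Cfsg.Agent.Lib.helper19_ONUC22
import Cfsg.Agent.Lib.helper19_ONUC23
import Cfsg.Agent.Lib.helper19_ONUC24
import Cfsg.Agent.Lib.helper19_ONUC25
import Cfsg.Agent.Lib.helper19_ONUC26
import Cfsg.Agent.Lib.helper19_ONUC27
import Cfsg.Agent.Lib.helper19_ONUC28
import Cfsg.Agent.Lib.helper19_ONUC29
import Cfsg.Agent.Lib.helper19_ONUC30
import Cfsg.Agent.Lib.helper19_ONUC31
import Cfsg.Agent.Lib.helper19_ONUC32
import Cfsg.Agent.Lib.helper19_ONUC33
import Cfsg.Agent.Lib.helper19_ONUC34
import Cfsg.Agent.Lib.helper19_ONUC35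
import Cfsg.Agent.Lib.helper19_ONUC36
import Cfsg.Agent.Lib.helper19_ONUC37
import Cfsg.Agent.Lib.helper19_ONUC38
import Cfsg.Agent.Lib.helper19_ONUC39
import Cfsg.Agent.Lib.helper19_ONUC40
import Cfsg.Agent.Lib.helper19_ONUC41
import Cfsg.Agent.Lib.helper19_ONUC42
import Cfsg.Agent.Lib.helper19_ONUC43
import Cfsg.Agent.Lib.helper19_ONUC44
import Cfsg.Agent.Lib.helper19_ONUC45
import Cfsg.Agent.Lib.helper19_ONUC46
import Cfsg.Agent.Lib.helper19_ONUC47
import Cfsg.Agent.Lib.helper19_ONUC48
import Cfsg.Agent.Lib.helper19_ONUC49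
import Cfsg.Agent.Lib.helper19_ONUC50
import Cfsg.Agent.Lib.helper19_ONUC51
import Cfsg.Agent.Lib.helper19_ONUC52
import Cfsg.Agent.Lib.helper19_ONUC53
import Cfsg.Agent.Lib.helper19_ONUC54
import Cfsg.Agent.Lib.helper19_ONUC55
import Cfsg.Agent.Lib.helper19_ONUC56
import Cfsg.Agent.Lib.helper19_ONUC57
import Cfsg.Agent.Lib.helper19_ONUC58
import Cfsg.Agent.Lib.helper19_ONUC59
import Cfsg.Agent.Lib.helper19_ONUC60
import Cfsg.Agent.Lib.helper19_ONUC61
import Cfsg.Agent.Lib.helper19_ONUC62
import Cfsg.Agent.Lib.helper19_ONUC63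
import Cfsg.Agent.Lib.helper19_ONUC64
import Cfsg.Agent.Lib.helper19_ONUC65
import Cfsg.Agent.Lib.helper19_ONUC66
import Cfsg.Agent.Lib.helper19_ONUC67
import Cfsg.Agent.Lib.helper19_ONUC68
import Cfsg.Agent.Lib.helper19_ONUC69
import Cfsg.Agent.Lib.helper19_ONUC70
import Cfsg.Agent.Lib.helper19_ONUC71
import Cfsg.Agent.Lib.helper19_ONUC72
import Cfsg.Agent.Lib.helper19_ONUC73
import Cfsg.Agent.Lib.helper19_ONUC74
import Cfsg.Agent.Lib.helper19_ONUC75
import Cfsg.Agent.Lib.helper19_ONUC76
import Cfsg.Agent.Lib.helper19_ONUC77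
import Cfsg.Agent.Lib.helper19_ONUC78
import Cfsg.Agent.Lib.helper19_ONUC79
import Cfsg.Agent.Lib.helper19_ONUC80
import Cfsg.Agent.Lib.helper19_ONUC81
import Cfsg.Agent.Lib.helper19_ONUC82
import Cfsg.Agent.Lib.helper19_ONUC83
import Cfsg.Agent.Lib.helper19_ONUC84
import Cfsg.Agent.Lib.helper19_ONUC85
import Cfsg.Agent.Lib.helper19_ONUC86
import Cfsg.Agent.Lib.helper19_ONUC87
import Cfsg.Agent.Lib.helper19_ONUC88
import Cfsg.Agent.Lib.helper19_ONUC89
import Cfsg.Agent.Lib.helper19_ONUC90
import Cfsg.Agent.Lib.helper19_ONUC91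
import Cfsg.Agent.Lib.helper19_ONUC92
import Cfsg.Agent.Lib.helper19_ONUC93
import Cfsg.Agent.Lib.helper19_ONUC94
import Cfsg.Agent.Lib.helper19_ONUC95
import Cfsg.Agent.Lib.helper19_ONUC96
import Cfsg.Agent.Lib.helper19_ONUC97
import Cfsg.Agent.Lib.helper19_ONUC98
import Cfsg.Agent.Lib.helper19_ONUC99
import Cfsg.Agent.Lib.helper19_ONUC100
import Cfsg.Agent.Lib.helper19_ONUC101
import Cfsg.Agent.Lib.helper19_ONUC102
import Cfsg.Agent.Lib.helper19_ONUC103
import Cfsg.Agent.Lib.helper19_ONUC104
import Cfsg.Agent.Lib.helper19_ONUC105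
import Cfsg.Agent.Lib.helper19_ONUC106
import Cfsg.Agent.Lib.helper19_ONUC107
import Cfsg.Agent.Lib.helper19_ONUC108
import Cfsg.Agent.Lib.helper19_ONUC109
import Cfsg.Agent.Lib.helper19_ONUC110
import Cfsg.Agent.Lib.helper19_ONUC111
import Cfsg.Agent.Lib.helper19_ONUC112
import Cfsg.Agent.Lib.helper19_ONUC113
import Cfsg.Agent.Lib.helper19_ONUC114
import Cfsg.Agent.Lib.helper19_ONUC115
import Cfsg.Agent.Lib.helper19_ONUC116
import Cfsg.Agent.Lib.helper19_ONUC117
import Cfsg.Agent.Lib.helper19_ONUC118
import Cfsg.Agent.Lib.helper19_ONUC119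
import Cfsg.Agent.Lib.helper19_ONUC120
import Cfsg.Agent.Lib.helper19_ONUC121
import Cfsg.Agent.Lib.helper19_ONUC122
import Cfsg.Agent.Lib.helper19_ONUC123
import Cfsg.Agent.Lib.helper19_ONUC124
import Cfsg.Agent.Lib.helper19_ONUC125
import Cfsg.Agent.Lib.helper19_ONUC126
import Cfsg.Agent.Lib.helper19_ONUC127
import Cfsg.Agent.Lib.helper19_ONUC128
import Cfsg.Agent.Lib.helper19_ONUC129
import Cfsg.Agent.Lib.helper19_ONUC130
import Cfsg.Agent.Lib.helper19_ONUC131
import Cfsg.Agent.Lib.helper19_ONUC132
import Cfsg.Agent.Lib.helper19_ONUC133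
import Cfsg.Agent.Lib.helper19_ONUC134
import Cfsg.Agent.Lib.helper19_ONUC135
import Cfsg.Agent.Lib.helper19_ONUC136
import Cfsg.Agent.Lib.helper19_ONUC137
import Cfsg.Agent.Lib.helper19_ONUC138
import Cfsg.Agent.Lib.helper19_ONUC139
import Cfsg.Agent.Lib.helper19_ONUC140
import Cfsg.Agent.Lib.helper19_ONUC141
import Cfsg.Agent.Lib.helper19_ONUC142
import Cfsg.Agent.Lib.helper19_ONUC143
import Cfsg.Agent.Lib.helper19_ONUC144
import Cfsg.Agent.Lib.helper19_ONUC145
import Cfsg.Agent.Lib.helper19_ONUC146
import Cfsg.Agent.Lib.helper19_ONUC147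
import Cfsg.Agent.Lib.helper19_ONUC148
import Cfsg.Agent.Lib.helper19_ONUC149
import Cfsg.Agent.Lib.helper19_ONUC150
import Cfsg.Agent.Lib.helper19_ONUC151
import Cfsg.Agent.Lib.helper19_ONL
import Cfsg.Agent.Lib.helper19_ONLW0
import Cfsg.Agent.Lib.helper19_ONLW1
import Cfsg.Agent.Lib.helper19_ONLW2
import Cfsg.Agent.Lib.helper19_ONLW3
import Cfsg.Agent.Lib.helper19_ONLW4
import Cfsg.Agent.Lib.helper19_ONLW5
import Cfsg.Agent.Lib.helper19_ONLW6
import Cfsg.Agent.Lib.helper19_ONLW7
import Cfsg.Agent.Lib.helper19_ONLW8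
import Cfsg.Agent.Lib.helper19_ONLW9
import Cfsg.Agent.Lib.helper19_ONLW10
import Cfsg.Agent.Lib.helper19_ONLW11
import Cfsg.Agent.Lib.helper19_ONLW12
import Cfsg.Agent.Lib.helper19_ONLW13
import Cfsg.Agent.Lib.helper19_ONLW14
import Cfsg.Agent.Lib.helper19_ONLW15
import Cfsg.Agent.Lib.helper19_ONLW16
import Cfsg.Agent.Lib.helper19_ONLW17
import Cfsg.Agent.Lib.helper19_ONLW18
import Cfsg.Agent.Lib.helper19_ONLW19
import Cfsg.Agent.Lib.helper19_ONLW20
import Cfsg.Agent.Lib.helper19_ONLW21

/-! Generated: the combined certificate facts for the presentation `on`; by helper19. -/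

set_option autoImplicit false
set_option maxRecDepth 1000000
set_option Elab.async false

namespace Cfsg.Agent.Lib.helper19_ONA
open Cfsg.Agent.Lib.helper19_TC2 Cfsg.Agent.Lib.helper19_TC2U2 Cfsg.Agent.Lib.helper19_TC2L Cfsg.Agent.Lib.helper19_TC2L2 Cfsg.Agent.Lib.helper19_ONU Cfsg.Agent.Lib.helper19_ONL

theorem cntOK : countLive P P.M 0 0 = 122760 := by
  have c0 := cnt0
  have c1 : countLive P (40000 + 40000) 0 0 = 48809 := countLive_step P c0 cnt1
  have c2 : countLive P (80000 + 40000) 0 0 = 71099 := countLive_step P c1 cnt2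
  have c3 : countLive P (120000 + 40000) 0 0 = 91261 := countLive_step P c2 cnt3
  have c4 : countLive P (160000 + 31790) 0 0 = 122760 := countLive_step P c3 cnt4
  exact c4

section upper
variable {G : Type*} [Group G] (Mo : Model P G)

theorem good : ∀ id < P.Fn, Good Mo id := by
  have h0 : ∀ id < 191789, Good Mo id := by
    intro id hid
    rcases Nat.lt_or_ge id 60000 with hd0 | hd0
    · exact good_of_checkDefs_part Mo defs0 (by decide) id (by omega) (by omega)
    rcases Nat.lt_or_ge id 120000 with hd1 | hd1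
    · exact good_of_checkDefs_part Mo defs1 (by decide) id (by omega) (by omega)
    rcases Nat.lt_or_ge id 180000 with hd2 | hd2
    · exact good_of_checkDefs_part Mo defs2 (by decide) id (by omega) (by omega)
    exact good_of_checkDefs_part Mo defs3 (by decide) id (by omega) (by omega)
  have g0 : ∀ id < 195764, Good Mo id := good_step Mo recs0 h0 part0 (by decide)
  have g1 : ∀ id < 199895, Good Mo id := good_step Mo recs1 g0 part1 (by decide)
  have g2 : ∀ id < 203893, Good Mo id := good_step Mo recs2 g1 part2 (by decide)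
  have g3 : ∀ id < 207999, Good Mo id := good_step Mo recs3 g2 part3 (by decide)
  have g4 : ∀ id < 212131, Good Mo id := good_step Mo recs4 g3 part4 (by decide)
  have g5 : ∀ id < 215876, Good Mo id := good_step Mo recs5 g4 part5 (by decide)
  have g6 : ∀ id < 220019, Good Mo id := good_step Mo recs6 g5 part6 (by decide)
  have g7 : ∀ id < 224205, Good Mo id := good_step Mo recs7 g6 part7 (by decide)
  have g8 : ∀ id < 228105, Good Mo id := good_step Mo recs8 g7 part8 (by decide)
  have g9 : ∀ id < 232122, Good Mo id := good_step Mo recs9 g8 part9 (by decide)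
  have g10 : ∀ id < 235883, Good Mo id := good_step Mo recs10 g9 part10 (by decide)
  have g11 : ∀ id < 239879, Good Mo id := good_step Mo recs11 g10 part11 (by decide)
  have g12 : ∀ id < 243563, Good Mo id := good_step Mo recs12 g11 part12 (by decide)
  have g13 : ∀ id < 247570, Good Mo id := good_step Mo recs13 g12 part13 (by decide)
  have g14 : ∀ id < 251427, Good Mo id := good_step Mo recs14 g13 part14 (by decide)
  have g15 : ∀ id < 255281, Good Mo id := good_step Mo recs15 g14 part15 (by decide)
  have g16 : ∀ id < 259179, Good Mo id := good_step Mo recs16 g15 part16 (by decide)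
  have g17 : ∀ id < 263449, Good Mo id := good_step Mo recs17 g16 part17 (by decide)
  have g18 : ∀ id < 267490, Good Mo id := good_step Mo recs18 g17 part18 (by decide)
  have g19 : ∀ id < 271231, Good Mo id := good_step Mo recs19 g18 part19 (by decide)
  have g20 : ∀ id < 274940, Good Mo id := good_step Mo recs20 g19 part20 (by decide)
  have g21 : ∀ id < 278589, Good Mo id := good_step Mo recs21 g20 part21 (by decide)
  have g22 : ∀ id < 282441, Good Mo id := good_step Mo recs22 g21 part22 (by decide)
  have g23 : ∀ id < 286500, Good Mo id := good_step Mo recs23 g22 part23 (by decide)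
  have g24 : ∀ id < 290154, Good Mo id := good_step Mo recs24 g23 part24 (by decide)
  have g25 : ∀ id < 293978, Good Mo id := good_step Mo recs25 g24 part25 (by decide)
  have g26 : ∀ id < 297914, Good Mo id := good_step Mo recs26 g25 part26 (by decide)
  have g27 : ∀ id < 301725, Good Mo id := good_step Mo recs27 g26 part27 (by decide)
  have g28 : ∀ id < 305632, Good Mo id := good_step Mo recs28 g27 part28 (by decide)
  have g29 : ∀ id < 309448, Good Mo id := good_step Mo recs29 g28 part29 (by decide)
  have g30 : ∀ id < 313815, Good Mo id := good_step Mo recs30 g29 part30 (by decide)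
  have g31 : ∀ id < 318127, Good Mo id := good_step Mo recs31 g30 part31 (by decide)
  have g32 : ∀ id < 322403, Good Mo id := good_step Mo recs32 g31 part32 (by decide)
  have g33 : ∀ id < 326451, Good Mo id := good_step Mo recs33 g32 part33 (by decide)
  have g34 : ∀ id < 330193, Good Mo id := good_step Mo recs34 g33 part34 (by decide)
  have g35 : ∀ id < 333916, Good Mo id := good_step Mo recs35 g34 part35 (by decide)
  have g36 : ∀ id < 337559, Good Mo id := good_step Mo recs36 g35 part36 (by decide)
  have g37 : ∀ id < 341210, Good Mo id := good_step Mo recs37 g36 part37 (by decide)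
  have g38 : ∀ id < 345368, Good Mo id := good_step Mo recs38 g37 part38 (by decide)
  have g39 : ∀ id < 349235, Good Mo id := good_step Mo recs39 g38 part39 (by decide)
  have g40 : ∀ id < 353025, Good Mo id := good_step Mo recs40 g39 part40 (by decide)
  have g41 : ∀ id < 357229, Good Mo id := good_step Mo recs41 g40 part41 (by decide)
  have g42 : ∀ id < 361121, Good Mo id := good_step Mo recs42 g41 part42 (by decide)
  have g43 : ∀ id < 364948, Good Mo id := good_step Mo recs43 g42 part43 (by decide)
  have g44 : ∀ id < 368925, Good Mo id := good_step Mo recs44 g43 part44 (by decide)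
  have g45 : ∀ id < 372984, Good Mo id := good_step Mo recs45 g44 part45 (by decide)
  have g46 : ∀ id < 376948, Good Mo id := good_step Mo recs46 g45 part46 (by decide)
  have g47 : ∀ id < 381310, Good Mo id := good_step Mo recs47 g46 part47 (by decide)
  have g48 : ∀ id < 385142, Good Mo id := good_step Mo recs48 g47 part48 (by decide)
  have g49 : ∀ id < 389116, Good Mo id := good_step Mo recs49 g48 part49 (by decide)
  have g50 : ∀ id < 392912, Good Mo id := good_step Mo recs50 g49 part50 (by decide)
  have g51 : ∀ id < 396797, Good Mo id := good_step Mo recs51 g50 part51 (by decide)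
  have g52 : ∀ id < 400682, Good Mo id := good_step Mo recs52 g51 part52 (by decide)
  have g53 : ∀ id < 404648, Good Mo id := good_step Mo recs53 g52 part53 (by decide)
  have g54 : ∀ id < 408338, Good Mo id := good_step Mo recs54 g53 part54 (by decide)
  have g55 : ∀ id < 412157, Good Mo id := good_step Mo recs55 g54 part55 (by decide)
  have g56 : ∀ id < 416106, Good Mo id := good_step Mo recs56 g55 part56 (by decide)
  have g57 : ∀ id < 419893, Good Mo id := good_step Mo recs57 g56 part57 (by decide)
  have g58 : ∀ id < 423629, Good Mo id := good_step Mo recs58 g57 part58 (by decide)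
  have g59 : ∀ id < 427464, Good Mo id := good_step Mo recs59 g58 part59 (by decide)
  have g60 : ∀ id < 431200, Good Mo id := good_step Mo recs60 g59 part60 (by decide)
  have g61 : ∀ id < 434911, Good Mo id := good_step Mo recs61 g60 part61 (by decide)
  have g62 : ∀ id < 438850, Good Mo id := good_step Mo recs62 g61 part62 (by decide)
  have g63 : ∀ id < 442559, Good Mo id := good_step Mo recs63 g62 part63 (by decide)
  have g64 : ∀ id < 446466, Good Mo id := good_step Mo recs64 g63 part64 (by decide)
  have g65 : ∀ id < 450166, Good Mo id := good_step Mo recs65 g64 part65 (by decide)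
  have g66 : ∀ id < 453887, Good Mo id := good_step Mo recs66 g65 part66 (by decide)
  have g67 : ∀ id < 457781, Good Mo id := good_step Mo recs67 g66 part67 (by decide)
  have g68 : ∀ id < 462439, Good Mo id := good_step Mo recs68 g67 part68 (by decide)
  have g69 : ∀ id < 467759, Good Mo id := good_step Mo recs69 g68 part69 (by decide)
  have g70 : ∀ id < 473079, Good Mo id := good_step Mo recs70 g69 part70 (by decide)
  have g71 : ∀ id < 478399, Good Mo id := good_step Mo recs71 g70 part71 (by decide)
  have g72 : ∀ id < 483719, Good Mo id := good_step Mo recs72 g71 part72 (by decide)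
  have g73 : ∀ id < 489039, Good Mo id := good_step Mo recs73 g72 part73 (by decide)
  have g74 : ∀ id < 494359, Good Mo id := good_step Mo recs74 g73 part74 (by decide)
  have g75 : ∀ id < 499679, Good Mo id := good_step Mo recs75 g74 part75 (by decide)
  have g76 : ∀ id < 504999, Good Mo id := good_step Mo recs76 g75 part76 (by decide)
  have g77 : ∀ id < 510319, Good Mo id := good_step Mo recs77 g76 part77 (by decide)
  have g78 : ∀ id < 515639, Good Mo id := good_step Mo recs78 g77 part78 (by decide)
  have g79 : ∀ id < 520959, Good Mo id := good_step Mo recs79 g78 part79 (by decide)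
  have g80 : ∀ id < 526279, Good Mo id := good_step Mo recs80 g79 part80 (by decide)
  have g81 : ∀ id < 531599, Good Mo id := good_step Mo recs81 g80 part81 (by decide)
  have g82 : ∀ id < 536919, Good Mo id := good_step Mo recs82 g81 part82 (by decide)
  have g83 : ∀ id < 542239, Good Mo id := good_step Mo recs83 g82 part83 (by decide)
  have g84 : ∀ id < 547559, Good Mo id := good_step Mo recs84 g83 part84 (by decide)
  have g85 : ∀ id < 552879, Good Mo id := good_step Mo recs85 g84 part85 (by decide)
  have g86 : ∀ id < 558199, Good Mo id := good_step Mo recs86 g85 part86 (by decide)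
  have g87 : ∀ id < 563519, Good Mo id := good_step Mo recs87 g86 part87 (by decide)
  have g88 : ∀ id < 568806, Good Mo id := good_step Mo recs88 g87 part88 (by decide)
  have g89 : ∀ id < 573251, Good Mo id := good_step Mo recs89 g88 part89 (by decide)
  have g90 : ∀ id < 577369, Good Mo id := good_step Mo recs90 g89 part90 (by decide)
  have g91 : ∀ id < 581444, Good Mo id := good_step Mo recs91 g90 part91 (by decide)
  have g92 : ∀ id < 585555, Good Mo id := good_step Mo recs92 g91 part92 (by decide)
  have g93 : ∀ id < 589526, Good Mo id := good_step Mo recs93 g92 part93 (by decide)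
  have g94 : ∀ id < 593359, Good Mo id := good_step Mo recs94 g93 part94 (by decide)
  have g95 : ∀ id < 597125, Good Mo id := good_step Mo recs95 g94 part95 (by decide)
  have g96 : ∀ id < 600840, Good Mo id := good_step Mo recs96 g95 part96 (by decide)
  have g97 : ∀ id < 604589, Good Mo id := good_step Mo recs97 g96 part97 (by decide)
  have g98 : ∀ id < 608222, Good Mo id := good_step Mo recs98 g97 part98 (by decide)
  have g99 : ∀ id < 611830, Good Mo id := good_step Mo recs99 g98 part99 (by decide)
  have g100 : ∀ id < 615373, Good Mo id := good_step Mo recs100 g99 part100 (by decide)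
  have g101 : ∀ id < 618951, Good Mo id := good_step Mo recs101 g100 part101 (by decide)
  have g102 : ∀ id < 622461, Good Mo id := good_step Mo recs102 g101 part102 (by decide)
  have g103 : ∀ id < 625974, Good Mo id := good_step Mo recs103 g102 part103 (by decide)
  have g104 : ∀ id < 629419, Good Mo id := good_step Mo recs104 g103 part104 (by decide)
  have g105 : ∀ id < 632929, Good Mo id := good_step Mo recs105 g104 part105 (by decide)
  have g106 : ∀ id < 636403, Good Mo id := good_step Mo recs106 g105 part106 (by decide)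
  have g107 : ∀ id < 639874, Good Mo id := good_step Mo recs107 g106 part107 (by decide)
  have g108 : ∀ id < 643339, Good Mo id := good_step Mo recs108 g107 part108 (by decide)
  have g109 : ∀ id < 646791, Good Mo id := good_step Mo recs109 g108 part109 (by decide)
  have g110 : ∀ id < 650243, Good Mo id := good_step Mo recs110 g109 part110 (by decide)
  have g111 : ∀ id < 653702, Good Mo id := good_step Mo recs111 g110 part111 (by decide)
  have g112 : ∀ id < 657136, Good Mo id := good_step Mo recs112 g111 part112 (by decide)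
  have g113 : ∀ id < 660517, Good Mo id := good_step Mo recs113 g112 part113 (by decide)
  have g114 : ∀ id < 663872, Good Mo id := good_step Mo recs114 g113 part114 (by decide)
  have g115 : ∀ id < 667231, Good Mo id := good_step Mo recs115 g114 part115 (by decide)
  have g116 : ∀ id < 670602, Good Mo id := good_step Mo recs116 g115 part116 (by decide)
  have g117 : ∀ id < 674006, Good Mo id := good_step Mo recs117 g116 part117 (by decide)
  have g118 : ∀ id < 677362, Good Mo id := good_step Mo recs118 g117 part118 (by decide)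
  have g119 : ∀ id < 680685, Good Mo id := good_step Mo recs119 g118 part119 (by decide)
  have g120 : ∀ id < 684060, Good Mo id := good_step Mo recs120 g119 part120 (by decide)
  have g121 : ∀ id < 687380, Good Mo id := good_step Mo recs121 g120 part121 (by decide)
  have g122 : ∀ id < 690695, Good Mo id := good_step Mo recs122 g121 part122 (by decide)
  have g123 : ∀ id < 694043, Good Mo id := good_step Mo recs123 g122 part123 (by decide)
  have g124 : ∀ id < 697373, Good Mo id := good_step Mo recs124 g123 part124 (by decide)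
  have g125 : ∀ id < 700740, Good Mo id := good_step Mo recs125 g124 part125 (by decide)
  have g126 : ∀ id < 704077, Good Mo id := good_step Mo recs126 g125 part126 (by decide)
  have g127 : ∀ id < 707371, Good Mo id := good_step Mo recs127 g126 part127 (by decide)
  have g128 : ∀ id < 710678, Good Mo id := good_step Mo recs128 g127 part128 (by decide)
  have g129 : ∀ id < 714002, Good Mo id := good_step Mo recs129 g128 part129 (by decide)
  have g130 : ∀ id < 717359, Good Mo id := good_step Mo recs130 g129 part130 (by decide)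
  have g131 : ∀ id < 720661, Good Mo id := good_step Mo recs131 g130 part131 (by decide)
  have g132 : ∀ id < 723998, Good Mo id := good_step Mo recs132 g131 part132 (by decide)
  have g133 : ∀ id < 727315, Good Mo id := good_step Mo recs133 g132 part133 (by decide)
  have g134 : ∀ id < 730654, Good Mo id := good_step Mo recs134 g133 part134 (by decide)
  have g135 : ∀ id < 733945, Good Mo id := good_step Mo recs135 g134 part135 (by decide)
  have g136 : ∀ id < 737261, Good Mo id := good_step Mo recs136 g135 part136 (by decide)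
  have g137 : ∀ id < 740589, Good Mo id := good_step Mo recs137 g136 part137 (by decide)
  have g138 : ∀ id < 743928, Good Mo id := good_step Mo recs138 g137 part138 (by decide)
  have g139 : ∀ id < 747158, Good Mo id := good_step Mo recs139 g138 part139 (by decide)
  have g140 : ∀ id < 750452, Good Mo id := good_step Mo recs140 g139 part140 (by decide)
  have g141 : ∀ id < 753716, Good Mo id := good_step Mo recs141 g140 part141 (by decide)
  have g142 : ∀ id < 756966, Good Mo id := good_step Mo recs142 g141 part142 (by decide)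
  have g143 : ∀ id < 760248, Good Mo id := good_step Mo recs143 g142 part143 (by decide)
  have g144 : ∀ id < 763495, Good Mo id := good_step Mo recs144 g143 part144 (by decide)
  have g145 : ∀ id < 766737, Good Mo id := good_step Mo recs145 g144 part145 (by decide)
  have g146 : ∀ id < 769962, Good Mo id := good_step Mo recs146 g145 part146 (by decide)
  have g147 : ∀ id < 773185, Good Mo id := good_step Mo recs147 g146 part147 (by decide)
  have g148 : ∀ id < 776424, Good Mo id := good_step Mo recs148 g147 part148 (by decide)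
  have g149 : ∀ id < 779686, Good Mo id := good_step Mo recs149 g148 part149 (by decide)
  have g150 : ∀ id < 782920, Good Mo id := good_step Mo recs150 g149 part150 (by decide)
  have g151 : ∀ id < 785350, Good Mo id := good_step Mo recs151 g150 part151 (by decide)
  exact g151

theorem hedge (z : ℕ) (hz : P.isLive z = true) (s : ℕ) (hs : s < P.k) :
    ∃ y, P.isLive y = true ∧ Edge Mo z s y := by
  have hzM : z < 191790 := lt_of_isLive liveM hz
  rcases Nat.lt_or_ge z 9133 with h0 | h0
  · exact edge_of_rows Mo (good Mo) rows0 z (by omega) (by omega) hz s hs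
  rcases Nat.lt_or_ge z 18266 with h1 | h1
  · exact edge_of_rows Mo (good Mo) rows1 z (by omega) (by omega) hz s hs
  rcases Nat.lt_or_ge z 27399 with h2 | h2
  · exact edge_of_rows Mo (good Mo) rows2 z (by omega) (by omega) hz s hs
  rcases Nat.lt_or_ge z 36532 with h3 | h3
  · exact edge_of_rows Mo (good Mo) rows3 z (by omega) (by omega) hz s hs
  rcases Nat.lt_or_ge z 45665 with h4 | h4
  · exact edge_of_rows Mo (good Mo) rows4 z (by omega) (by omega) hz s hs
  rcases Nat.lt_or_ge z 54798 with h5 | h5
  · exact edge_of_rows Mo (good Mo) rows5 z (by omega) (by omega) hz s hs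
  rcases Nat.lt_or_ge z 63931 with h6 | h6
  · exact edge_of_rows Mo (good Mo) rows6 z (by omega) (by omega) hz s hs
  rcases Nat.lt_or_ge z 73064 with h7 | h7
  · exact edge_of_rows Mo (good Mo) rows7 z (by omega) (by omega) hz s hs
  rcases Nat.lt_or_ge z 82197 with h8 | h8
  · exact edge_of_rows Mo (good Mo) rows8 z (by omega) (by omega) hz s hs
  rcases Nat.lt_or_ge z 91330 with h9 | h9
  · exact edge_of_rows Mo (good Mo) rows9 z (by omega) (by omega) hz s hs
  rcases Nat.lt_or_ge z 100463 with h10 | h10
  · exact edge_of_rows Mo (good Mo) rows10 z (by omega) (by omega) hz s hs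
  rcases Nat.lt_or_ge z 109596 with h11 | h11
  · exact edge_of_rows Mo (good Mo) rows11 z (by omega) (by omega) hz s hs
  rcases Nat.lt_or_ge z 118729 with h12 | h12
  · exact edge_of_rows Mo (good Mo) rows12 z (by omega) (by omega) hz s hs
  rcases Nat.lt_or_ge z 127862 with h13 | h13
  · exact edge_of_rows Mo (good Mo) rows13 z (by omega) (by omega) hz s hs
  rcases Nat.lt_or_ge z 136995 with h14 | h14
  · exact edge_of_rows Mo (good Mo) rows14 z (by omega) (by omega) hz s hs
  rcases Nat.lt_or_ge z 146128 with h15 | h15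
  · exact edge_of_rows Mo (good Mo) rows15 z (by omega) (by omega) hz s hs
  rcases Nat.lt_or_ge z 155261 with h16 | h16
  · exact edge_of_rows Mo (good Mo) rows16 z (by omega) (by omega) hz s hs
  rcases Nat.lt_or_ge z 164394 with h17 | h17
  · exact edge_of_rows Mo (good Mo) rows17 z (by omega) (by omega) hz s hs
  rcases Nat.lt_or_ge z 173527 with h18 | h18
  · exact edge_of_rows Mo (good Mo) rows18 z (by omega) (by omega) hz s hs
  rcases Nat.lt_or_ge z 182660 with h19 | h19
  · exact edge_of_rows Mo (good Mo) rows19 z (by omega) (by omega) hz s hs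
  exact edge_of_rows Mo (good Mo) rows20 z (by omega) (by omega) hz s hs

/-- the upper bound -/
theorem upper (hgen : Subgroup.closure (Mo.S '' {s | s < P.k}) = ⊤) :
    Mo.H.index ≠ 0 ∧ Mo.H.index ≤ 122760 :=
  index_le Mo hgen invk (hedge Mo) live0 liveM 122760 cntOK

end upper

theorem fix0 : ∀ x < 122760, tr A [1, 6, 7, 7] x = x := by
  intro x hx
  rcases Nat.lt_or_ge x 25000 with h0 | h0
  · exact fix_of_part 17 131071 cols _ fix0_0 x (by omega) (by omega)
  rcases Nat.lt_or_ge x 50000 with h1 | h1
  · exact fix_of_part 17 131071 cols _ fix0_1 x (by omega) (by omega)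
  rcases Nat.lt_or_ge x 75000 with h2 | h2
  · exact fix_of_part 17 131071 cols _ fix0_2 x (by omega) (by omega)
  rcases Nat.lt_or_ge x 100000 with h3 | h3
  · exact fix_of_part 17 131071 cols _ fix0_3 x (by omega) (by omega)
  exact fix_of_part 17 131071 cols _ fix0_4 x (by omega) (by omega)

theorem fix1 : ∀ x < 122760, tr A [3, 7, 4, 7, 4, 3, 4, 0, 4, 0] x = x := by
  intro x hx
  rcases Nat.lt_or_ge x 10000 with h0 | h0
  · exact fix_of_part 17 131071 cols _ fix1_0 x (by omega) (by omega)
  rcases Nat.lt_or_ge x 20000 with h1 | h1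
  · exact fix_of_part 17 131071 cols _ fix1_1 x (by omega) (by omega)
  rcases Nat.lt_or_ge x 30000 with h2 | h2
  · exact fix_of_part 17 131071 cols _ fix1_2 x (by omega) (by omega)
  rcases Nat.lt_or_ge x 40000 with h3 | h3
  · exact fix_of_part 17 131071 cols _ fix1_3 x (by omega) (by omega)
  rcases Nat.lt_or_ge x 50000 with h4 | h4
  · exact fix_of_part 17 131071 cols _ fix1_4 x (by omega) (by omega)
  rcases Nat.lt_or_ge x 60000 with h5 | h5
  · exact fix_of_part 17 131071 cols _ fix1_5 x (by omega) (by omega)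
  rcases Nat.lt_or_ge x 70000 with h6 | h6
  · exact fix_of_part 17 131071 cols _ fix1_6 x (by omega) (by omega)
  rcases Nat.lt_or_ge x 80000 with h7 | h7
  · exact fix_of_part 17 131071 cols _ fix1_7 x (by omega) (by omega)
  rcases Nat.lt_or_ge x 90000 with h8 | h8
  · exact fix_of_part 17 131071 cols _ fix1_8 x (by omega) (by omega)
  rcases Nat.lt_or_ge x 100000 with h9 | h9
  · exact fix_of_part 17 131071 cols _ fix1_9 x (by omega) (by omega)
  rcases Nat.lt_or_ge x 110000 with h10 | h10
  · exact fix_of_part 17 131071 cols _ fix1_10 x (by omega) (by omega)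
  rcases Nat.lt_or_ge x 120000 with h11 | h11
  · exact fix_of_part 17 131071 cols _ fix1_11 x (by omega) (by omega)
  exact fix_of_part 17 131071 cols _ fix1_12 x (by omega) (by omega)

theorem fix2 : ∀ x < 122760, tr A [0, 5, 4, 0, 4, 5, 0, 5, 4, 0, 4] x = x := by
  intro x hx
  rcases Nat.lt_or_ge x 9090 with h0 | h0
  · exact fix_of_part 17 131071 cols _ fix2_0 x (by omega) (by omega)
  rcases Nat.lt_or_ge x 18180 with h1 | h1
  · exact fix_of_part 17 131071 cols _ fix2_1 x (by omega) (by omega)
  rcases Nat.lt_or_ge x 27270 with h2 | h2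
  · exact fix_of_part 17 131071 cols _ fix2_2 x (by omega) (by omega)
  rcases Nat.lt_or_ge x 36360 with h3 | h3
  · exact fix_of_part 17 131071 cols _ fix2_3 x (by omega) (by omega)
  rcases Nat.lt_or_ge x 45450 with h4 | h4
  · exact fix_of_part 17 131071 cols _ fix2_4 x (by omega) (by omega)
  rcases Nat.lt_or_ge x 54540 with h5 | h5
  · exact fix_of_part 17 131071 cols _ fix2_5 x (by omega) (by omega)
  rcases Nat.lt_or_ge x 63630 with h6 | h6
  · exact fix_of_part 17 131071 cols _ fix2_6 x (by omega) (by omega)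
  rcases Nat.lt_or_ge x 72720 with h7 | h7
  · exact fix_of_part 17 131071 cols _ fix2_7 x (by omega) (by omega)
  rcases Nat.lt_or_ge x 81810 with h8 | h8
  · exact fix_of_part 17 131071 cols _ fix2_8 x (by omega) (by omega)
  rcases Nat.lt_or_ge x 90900 with h9 | h9
  · exact fix_of_part 17 131071 cols _ fix2_9 x (by omega) (by omega)
  rcases Nat.lt_or_ge x 99990 with h10 | h10
  · exact fix_of_part 17 131071 cols _ fix2_10 x (by omega) (by omega)
  rcases Nat.lt_or_ge x 109080 with h11 | h11
  · exact fix_of_part 17 131071 cols _ fix2_11 x (by omega) (by omega)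
  rcases Nat.lt_or_ge x 118170 with h12 | h12
  · exact fix_of_part 17 131071 cols _ fix2_12 x (by omega) (by omega)
  exact fix_of_part 17 131071 cols _ fix2_13 x (by omega) (by omega)

theorem fix3 : ∀ x < 122760, tr A [5, 5] x = x := by
  intro x hx
  rcases Nat.lt_or_ge x 50000 with h0 | h0
  · exact fix_of_part 17 131071 cols _ fix3_0 x (by omega) (by omega)
  rcases Nat.lt_or_ge x 100000 with h1 | h1
  · exact fix_of_part 17 131071 cols _ fix3_1 x (by omega) (by omega)
  exact fix_of_part 17 131071 cols _ fix3_2 x (by omega) (by omega)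

theorem fix4 : ∀ x < 122760, tr A [4, 4] x = x := by
  intro x hx
  rcases Nat.lt_or_ge x 50000 with h0 | h0
  · exact fix_of_part 17 131071 cols _ fix4_0 x (by omega) (by omega)
  rcases Nat.lt_or_ge x 100000 with h1 | h1
  · exact fix_of_part 17 131071 cols _ fix4_1 x (by omega) (by omega)
  exact fix_of_part 17 131071 cols _ fix4_2 x (by omega) (by omega)

theorem fix5 : ∀ x < 122760, tr A [6, 6] x = x := by
  intro x hx
  rcases Nat.lt_or_ge x 50000 with h0 | h0
  · exact fix_of_part 17 131071 cols _ fix5_0 x (by omega) (by omega)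
  rcases Nat.lt_or_ge x 100000 with h1 | h1
  · exact fix_of_part 17 131071 cols _ fix5_1 x (by omega) (by omega)
  exact fix_of_part 17 131071 cols _ fix5_2 x (by omega) (by omega)

theorem fix6 : ∀ x < 122760, tr A [0, 7] x = x := by
  intro x hx
  rcases Nat.lt_or_ge x 50000 with h0 | h0
  · exact fix_of_part 17 131071 cols _ fix6_0 x (by omega) (by omega)
  rcases Nat.lt_or_ge x 100000 with h1 | h1
  · exact fix_of_part 17 131071 cols _ fix6_1 x (by omega) (by omega)
  exact fix_of_part 17 131071 cols _ fix6_2 x (by omega) (by omega)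

theorem fix7 : ∀ x < 122760, tr A [3, 5, 3, 5] x = x := by
  intro x hx
  rcases Nat.lt_or_ge x 25000 with h0 | h0
  · exact fix_of_part 17 131071 cols _ fix7_0 x (by omega) (by omega)
  rcases Nat.lt_or_ge x 50000 with h1 | h1
  · exact fix_of_part 17 131071 cols _ fix7_1 x (by omega) (by omega)
  rcases Nat.lt_or_ge x 75000 with h2 | h2
  · exact fix_of_part 17 131071 cols _ fix7_2 x (by omega) (by omega)
  rcases Nat.lt_or_ge x 100000 with h3 | h3
  · exact fix_of_part 17 131071 cols _ fix7_3 x (by omega) (by omega)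
  exact fix_of_part 17 131071 cols _ fix7_4 x (by omega) (by omega)

theorem fix8 : ∀ x < 122760, tr A [7, 0] x = x := by
  intro x hx
  rcases Nat.lt_or_ge x 50000 with h0 | h0
  · exact fix_of_part 17 131071 cols _ fix8_0 x (by omega) (by omega)
  rcases Nat.lt_or_ge x 100000 with h1 | h1
  · exact fix_of_part 17 131071 cols _ fix8_1 x (by omega) (by omega)
  exact fix_of_part 17 131071 cols _ fix8_2 x (by omega) (by omega)

theorem fix9 : ∀ x < 122760, tr A [3, 3] x = x := by
  intro x hx
  rcases Nat.lt_or_ge x 50000 with h0 | h0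
  · exact fix_of_part 17 131071 cols _ fix9_0 x (by omega) (by omega)
  rcases Nat.lt_or_ge x 100000 with h1 | h1
  · exact fix_of_part 17 131071 cols _ fix9_1 x (by omega) (by omega)
  exact fix_of_part 17 131071 cols _ fix9_2 x (by omega) (by omega)

theorem fix10 : ∀ x < 122760, tr A [4, 7, 3, 7, 3, 4, 3, 0, 3, 0] x = x := by
  intro x hx
  rcases Nat.lt_or_ge x 10000 with h0 | h0
  · exact fix_of_part 17 131071 cols _ fix10_0 x (by omega) (by omega)
  rcases Nat.lt_or_ge x 20000 with h1 | h1
  · exact fix_of_part 17 131071 cols _ fix10_1 x (by omega) (by omega)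
  rcases Nat.lt_or_ge x 30000 with h2 | h2
  · exact fix_of_part 17 131071 cols _ fix10_2 x (by omega) (by omega)
  rcases Nat.lt_or_ge x 40000 with h3 | h3
  · exact fix_of_part 17 131071 cols _ fix10_3 x (by omega) (by omega)
  rcases Nat.lt_or_ge x 50000 with h4 | h4
  · exact fix_of_part 17 131071 cols _ fix10_4 x (by omega) (by omega)
  rcases Nat.lt_or_ge x 60000 with h5 | h5
  · exact fix_of_part 17 131071 cols _ fix10_5 x (by omega) (by omega)
  rcases Nat.lt_or_ge x 70000 with h6 | h6
  · exact fix_of_part 17 131071 cols _ fix10_6 x (by omega) (by omega)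
  rcases Nat.lt_or_ge x 80000 with h7 | h7
  · exact fix_of_part 17 131071 cols _ fix10_7 x (by omega) (by omega)
  rcases Nat.lt_or_ge x 90000 with h8 | h8
  · exact fix_of_part 17 131071 cols _ fix10_8 x (by omega) (by omega)
  rcases Nat.lt_or_ge x 100000 with h9 | h9
  · exact fix_of_part 17 131071 cols _ fix10_9 x (by omega) (by omega)
  rcases Nat.lt_or_ge x 110000 with h10 | h10
  · exact fix_of_part 17 131071 cols _ fix10_10 x (by omega) (by omega)
  rcases Nat.lt_or_ge x 120000 with h11 | h11
  · exact fix_of_part 17 131071 cols _ fix10_11 x (by omega) (by omega)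
  exact fix_of_part 17 131071 cols _ fix10_12 x (by omega) (by omega)

theorem fix11 : ∀ x < 122760, tr A [2, 5, 2, 5] x = x := by
  intro x hx
  rcases Nat.lt_or_ge x 25000 with h0 | h0
  · exact fix_of_part 17 131071 cols _ fix11_0 x (by omega) (by omega)
  rcases Nat.lt_or_ge x 50000 with h1 | h1
  · exact fix_of_part 17 131071 cols _ fix11_1 x (by omega) (by omega)
  rcases Nat.lt_or_ge x 75000 with h2 | h2
  · exact fix_of_part 17 131071 cols _ fix11_2 x (by omega) (by omega)
  rcases Nat.lt_or_ge x 100000 with h3 | h3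
  · exact fix_of_part 17 131071 cols _ fix11_3 x (by omega) (by omega)
  exact fix_of_part 17 131071 cols _ fix11_4 x (by omega) (by omega)

theorem fix12 : ∀ x < 122760, tr A [0, 2, 3, 0, 3, 2, 0, 2, 3, 0, 3] x = x := by
  intro x hx
  rcases Nat.lt_or_ge x 9090 with h0 | h0
  · exact fix_of_part 17 131071 cols _ fix12_0 x (by omega) (by omega)
  rcases Nat.lt_or_ge x 18180 with h1 | h1
  · exact fix_of_part 17 131071 cols _ fix12_1 x (by omega) (by omega)
  rcases Nat.lt_or_ge x 27270 with h2 | h2
  · exact fix_of_part 17 131071 cols _ fix12_2 x (by omega) (by omega)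
  rcases Nat.lt_or_ge x 36360 with h3 | h3
  · exact fix_of_part 17 131071 cols _ fix12_3 x (by omega) (by omega)
  rcases Nat.lt_or_ge x 45450 with h4 | h4
  · exact fix_of_part 17 131071 cols _ fix12_4 x (by omega) (by omega)
  rcases Nat.lt_or_ge x 54540 with h5 | h5
  · exact fix_of_part 17 131071 cols _ fix12_5 x (by omega) (by omega)
  rcases Nat.lt_or_ge x 63630 with h6 | h6
  · exact fix_of_part 17 131071 cols _ fix12_6 x (by omega) (by omega)
  rcases Nat.lt_or_ge x 72720 with h7 | h7
  · exact fix_of_part 17 131071 cols _ fix12_7 x (by omega) (by omega)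
  rcases Nat.lt_or_ge x 81810 with h8 | h8
  · exact fix_of_part 17 131071 cols _ fix12_8 x (by omega) (by omega)
  rcases Nat.lt_or_ge x 90900 with h9 | h9
  · exact fix_of_part 17 131071 cols _ fix12_9 x (by omega) (by omega)
  rcases Nat.lt_or_ge x 99990 with h10 | h10
  · exact fix_of_part 17 131071 cols _ fix12_10 x (by omega) (by omega)
  rcases Nat.lt_or_ge x 109080 with h11 | h11
  · exact fix_of_part 17 131071 cols _ fix12_11 x (by omega) (by omega)
  rcases Nat.lt_or_ge x 118170 with h12 | h12
  · exact fix_of_part 17 131071 cols _ fix12_12 x (by omega) (by omega)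
  exact fix_of_part 17 131071 cols _ fix12_13 x (by omega) (by omega)

theorem fix13 : ∀ x < 122760, tr A [4, 6, 4, 6] x = x := by
  intro x hx
  rcases Nat.lt_or_ge x 25000 with h0 | h0
  · exact fix_of_part 17 131071 cols _ fix13_0 x (by omega) (by omega)
  rcases Nat.lt_or_ge x 50000 with h1 | h1
  · exact fix_of_part 17 131071 cols _ fix13_1 x (by omega) (by omega)
  rcases Nat.lt_or_ge x 75000 with h2 | h2
  · exact fix_of_part 17 131071 cols _ fix13_2 x (by omega) (by omega)
  rcases Nat.lt_or_ge x 100000 with h3 | h3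
  · exact fix_of_part 17 131071 cols _ fix13_3 x (by omega) (by omega)
  exact fix_of_part 17 131071 cols _ fix13_4 x (by omega) (by omega)

theorem fix14 : ∀ x < 122760, tr A [2, 4, 2, 4] x = x := by
  intro x hx
  rcases Nat.lt_or_ge x 25000 with h0 | h0
  · exact fix_of_part 17 131071 cols _ fix14_0 x (by omega) (by omega)
  rcases Nat.lt_or_ge x 50000 with h1 | h1
  · exact fix_of_part 17 131071 cols _ fix14_1 x (by omega) (by omega)
  rcases Nat.lt_or_ge x 75000 with h2 | h2
  · exact fix_of_part 17 131071 cols _ fix14_2 x (by omega) (by omega)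
  rcases Nat.lt_or_ge x 100000 with h3 | h3
  · exact fix_of_part 17 131071 cols _ fix14_3 x (by omega) (by omega)
  exact fix_of_part 17 131071 cols _ fix14_4 x (by omega) (by omega)

theorem fix15 : ∀ x < 122760, tr A [2, 2] x = x := by
  intro x hx
  rcases Nat.lt_or_ge x 50000 with h0 | h0
  · exact fix_of_part 17 131071 cols _ fix15_0 x (by omega) (by omega)
  rcases Nat.lt_or_ge x 100000 with h1 | h1
  · exact fix_of_part 17 131071 cols _ fix15_1 x (by omega) (by omega)
  exact fix_of_part 17 131071 cols _ fix15_2 x (by omega) (by omega)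

theorem fix16 : ∀ x < 122760, tr A [3, 6, 3, 6] x = x := by
  intro x hx
  rcases Nat.lt_or_ge x 25000 with h0 | h0
  · exact fix_of_part 17 131071 cols _ fix16_0 x (by omega) (by omega)
  rcases Nat.lt_or_ge x 50000 with h1 | h1
  · exact fix_of_part 17 131071 cols _ fix16_1 x (by omega) (by omega)
  rcases Nat.lt_or_ge x 75000 with h2 | h2
  · exact fix_of_part 17 131071 cols _ fix16_2 x (by omega) (by omega)
  rcases Nat.lt_or_ge x 100000 with h3 | h3
  · exact fix_of_part 17 131071 cols _ fix16_3 x (by omega) (by omega)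
  exact fix_of_part 17 131071 cols _ fix16_4 x (by omega) (by omega)

theorem fix17 : ∀ x < 122760, tr A [1, 5, 1, 5] x = x := by
  intro x hx
  rcases Nat.lt_or_ge x 25000 with h0 | h0
  · exact fix_of_part 17 131071 cols _ fix17_0 x (by omega) (by omega)
  rcases Nat.lt_or_ge x 50000 with h1 | h1
  · exact fix_of_part 17 131071 cols _ fix17_1 x (by omega) (by omega)
  rcases Nat.lt_or_ge x 75000 with h2 | h2
  · exact fix_of_part 17 131071 cols _ fix17_2 x (by omega) (by omega)
  rcases Nat.lt_or_ge x 100000 with h3 | h3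
  · exact fix_of_part 17 131071 cols _ fix17_3 x (by omega) (by omega)
  exact fix_of_part 17 131071 cols _ fix17_4 x (by omega) (by omega)

theorem fix18 : ∀ x < 122760, tr A [1, 1] x = x := by
  intro x hx
  rcases Nat.lt_or_ge x 50000 with h0 | h0
  · exact fix_of_part 17 131071 cols _ fix18_0 x (by omega) (by omega)
  rcases Nat.lt_or_ge x 100000 with h1 | h1
  · exact fix_of_part 17 131071 cols _ fix18_1 x (by omega) (by omega)
  exact fix_of_part 17 131071 cols _ fix18_2 x (by omega) (by omega)

theorem fix19 : ∀ x < 122760, tr A [1, 4, 1, 4] x = x := by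
  intro x hx
  rcases Nat.lt_or_ge x 25000 with h0 | h0
  · exact fix_of_part 17 131071 cols _ fix19_0 x (by omega) (by omega)
  rcases Nat.lt_or_ge x 50000 with h1 | h1
  · exact fix_of_part 17 131071 cols _ fix19_1 x (by omega) (by omega)
  rcases Nat.lt_or_ge x 75000 with h2 | h2
  · exact fix_of_part 17 131071 cols _ fix19_2 x (by omega) (by omega)
  rcases Nat.lt_or_ge x 100000 with h3 | h3
  · exact fix_of_part 17 131071 cols _ fix19_3 x (by omega) (by omega)
  exact fix_of_part 17 131071 cols _ fix19_4 x (by omega) (by omega)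

theorem fix20 : ∀ x < 122760, tr A [2, 6, 2, 6] x = x := by
  intro x hx
  rcases Nat.lt_or_ge x 25000 with h0 | h0
  · exact fix_of_part 17 131071 cols _ fix20_0 x (by omega) (by omega)
  rcases Nat.lt_or_ge x 50000 with h1 | h1
  · exact fix_of_part 17 131071 cols _ fix20_1 x (by omega) (by omega)
  rcases Nat.lt_or_ge x 75000 with h2 | h2
  · exact fix_of_part 17 131071 cols _ fix20_2 x (by omega) (by omega)
  rcases Nat.lt_or_ge x 100000 with h3 | h3
  · exact fix_of_part 17 131071 cols _ fix20_3 x (by omega) (by omega)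
  exact fix_of_part 17 131071 cols _ fix20_4 x (by omega) (by omega)

theorem fix21 : ∀ x < 122760, tr A [1, 6, 1, 6] x = x := by
  intro x hx
  rcases Nat.lt_or_ge x 25000 with h0 | h0
  · exact fix_of_part 17 131071 cols _ fix21_0 x (by omega) (by omega)
  rcases Nat.lt_or_ge x 50000 with h1 | h1
  · exact fix_of_part 17 131071 cols _ fix21_1 x (by omega) (by omega)
  rcases Nat.lt_or_ge x 75000 with h2 | h2
  · exact fix_of_part 17 131071 cols _ fix21_2 x (by omega) (by omega)
  rcases Nat.lt_or_ge x 100000 with h3 | h3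
  · exact fix_of_part 17 131071 cols _ fix21_3 x (by omega) (by omega)
  exact fix_of_part 17 131071 cols _ fix21_4 x (by omega) (by omega)

theorem fix22 : ∀ x < 122760, tr A [1, 3, 1, 3] x = x := by
  intro x hx
  rcases Nat.lt_or_ge x 25000 with h0 | h0
  · exact fix_of_part 17 131071 cols _ fix22_0 x (by omega) (by omega)
  rcases Nat.lt_or_ge x 50000 with h1 | h1
  · exact fix_of_part 17 131071 cols _ fix22_1 x (by omega) (by omega)
  rcases Nat.lt_or_ge x 75000 with h2 | h2
  · exact fix_of_part 17 131071 cols _ fix22_2 x (by omega) (by omega)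
  rcases Nat.lt_or_ge x 100000 with h3 | h3
  · exact fix_of_part 17 131071 cols _ fix22_3 x (by omega) (by omega)
  exact fix_of_part 17 131071 cols _ fix22_4 x (by omega) (by omega)

theorem fix23 : ∀ x < 122760, tr A [4, 5, 4, 5, 4, 5] x = x := by
  intro x hx
  rcases Nat.lt_or_ge x 16666 with h0 | h0
  · exact fix_of_part 17 131071 cols _ fix23_0 x (by omega) (by omega)
  rcases Nat.lt_or_ge x 33332 with h1 | h1
  · exact fix_of_part 17 131071 cols _ fix23_1 x (by omega) (by omega)
  rcases Nat.lt_or_ge x 49998 with h2 | h2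
  · exact fix_of_part 17 131071 cols _ fix23_2 x (by omega) (by omega)
  rcases Nat.lt_or_ge x 66664 with h3 | h3
  · exact fix_of_part 17 131071 cols _ fix23_3 x (by omega) (by omega)
  rcases Nat.lt_or_ge x 83330 with h4 | h4
  · exact fix_of_part 17 131071 cols _ fix23_4 x (by omega) (by omega)
  rcases Nat.lt_or_ge x 99996 with h5 | h5
  · exact fix_of_part 17 131071 cols _ fix23_5 x (by omega) (by omega)
  rcases Nat.lt_or_ge x 116662 with h6 | h6
  · exact fix_of_part 17 131071 cols _ fix23_6 x (by omega) (by omega)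
  exact fix_of_part 17 131071 cols _ fix23_7 x (by omega) (by omega)

theorem fix24 : ∀ x < 122760, tr A [5, 6, 5, 6, 5, 6] x = x := by
  intro x hx
  rcases Nat.lt_or_ge x 16666 with h0 | h0
  · exact fix_of_part 17 131071 cols _ fix24_0 x (by omega) (by omega)
  rcases Nat.lt_or_ge x 33332 with h1 | h1
  · exact fix_of_part 17 131071 cols _ fix24_1 x (by omega) (by omega)
  rcases Nat.lt_or_ge x 49998 with h2 | h2
  · exact fix_of_part 17 131071 cols _ fix24_2 x (by omega) (by omega)
  rcases Nat.lt_or_ge x 66664 with h3 | h3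
  · exact fix_of_part 17 131071 cols _ fix24_3 x (by omega) (by omega)
  rcases Nat.lt_or_ge x 83330 with h4 | h4
  · exact fix_of_part 17 131071 cols _ fix24_4 x (by omega) (by omega)
  rcases Nat.lt_or_ge x 99996 with h5 | h5
  · exact fix_of_part 17 131071 cols _ fix24_5 x (by omega) (by omega)
  rcases Nat.lt_or_ge x 116662 with h6 | h6
  · exact fix_of_part 17 131071 cols _ fix24_6 x (by omega) (by omega)
  exact fix_of_part 17 131071 cols _ fix24_7 x (by omega) (by omega)

theorem fix25 : ∀ x < 122760, tr A [2, 3, 2, 3, 2, 3] x = x := by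
  intro x hx
  rcases Nat.lt_or_ge x 16666 with h0 | h0
  · exact fix_of_part 17 131071 cols _ fix25_0 x (by omega) (by omega)
  rcases Nat.lt_or_ge x 33332 with h1 | h1
  · exact fix_of_part 17 131071 cols _ fix25_1 x (by omega) (by omega)
  rcases Nat.lt_or_ge x 49998 with h2 | h2
  · exact fix_of_part 17 131071 cols _ fix25_2 x (by omega) (by omega)
  rcases Nat.lt_or_ge x 66664 with h3 | h3
  · exact fix_of_part 17 131071 cols _ fix25_3 x (by omega) (by omega)
  rcases Nat.lt_or_ge x 83330 with h4 | h4
  · exact fix_of_part 17 131071 cols _ fix25_4 x (by omega) (by omega)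
  rcases Nat.lt_or_ge x 99996 with h5 | h5
  · exact fix_of_part 17 131071 cols _ fix25_5 x (by omega) (by omega)
  rcases Nat.lt_or_ge x 116662 with h6 | h6
  · exact fix_of_part 17 131071 cols _ fix25_6 x (by omega) (by omega)
  exact fix_of_part 17 131071 cols _ fix25_7 x (by omega) (by omega)

theorem fix26 : ∀ x < 122760, tr A [1, 2, 1, 2, 1, 2] x = x := by
  intro x hx
  rcases Nat.lt_or_ge x 16666 with h0 | h0
  · exact fix_of_part 17 131071 cols _ fix26_0 x (by omega) (by omega)
  rcases Nat.lt_or_ge x 33332 with h1 | h1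
  · exact fix_of_part 17 131071 cols _ fix26_1 x (by omega) (by omega)
  rcases Nat.lt_or_ge x 49998 with h2 | h2
  · exact fix_of_part 17 131071 cols _ fix26_2 x (by omega) (by omega)
  rcases Nat.lt_or_ge x 66664 with h3 | h3
  · exact fix_of_part 17 131071 cols _ fix26_3 x (by omega) (by omega)
  rcases Nat.lt_or_ge x 83330 with h4 | h4
  · exact fix_of_part 17 131071 cols _ fix26_4 x (by omega) (by omega)
  rcases Nat.lt_or_ge x 99996 with h5 | h5
  · exact fix_of_part 17 131071 cols _ fix26_5 x (by omega) (by omega)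
  rcases Nat.lt_or_ge x 116662 with h6 | h6
  · exact fix_of_part 17 131071 cols _ fix26_6 x (by omega) (by omega)
  exact fix_of_part 17 131071 cols _ fix26_7 x (by omega) (by omega)

theorem fix27 : ∀ x < 122760, tr A [1, 6, 4, 3, 4, 3, 4, 3, 4, 3] x = x := by
  intro x hx
  rcases Nat.lt_or_ge x 10000 with h0 | h0
  · exact fix_of_part 17 131071 cols _ fix27_0 x (by omega) (by omega)
  rcases Nat.lt_or_ge x 20000 with h1 | h1
  · exact fix_of_part 17 131071 cols _ fix27_1 x (by omega) (by omega)
  rcases Nat.lt_or_ge x 30000 with h2 | h2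
  · exact fix_of_part 17 131071 cols _ fix27_2 x (by omega) (by omega)
  rcases Nat.lt_or_ge x 40000 with h3 | h3
  · exact fix_of_part 17 131071 cols _ fix27_3 x (by omega) (by omega)
  rcases Nat.lt_or_ge x 50000 with h4 | h4
  · exact fix_of_part 17 131071 cols _ fix27_4 x (by omega) (by omega)
  rcases Nat.lt_or_ge x 60000 with h5 | h5
  · exact fix_of_part 17 131071 cols _ fix27_5 x (by omega) (by omega)
  rcases Nat.lt_or_ge x 70000 with h6 | h6
  · exact fix_of_part 17 131071 cols _ fix27_6 x (by omega) (by omega)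
  rcases Nat.lt_or_ge x 80000 with h7 | h7
  · exact fix_of_part 17 131071 cols _ fix27_7 x (by omega) (by omega)
  rcases Nat.lt_or_ge x 90000 with h8 | h8
  · exact fix_of_part 17 131071 cols _ fix27_8 x (by omega) (by omega)
  rcases Nat.lt_or_ge x 100000 with h9 | h9
  · exact fix_of_part 17 131071 cols _ fix27_9 x (by omega) (by omega)
  rcases Nat.lt_or_ge x 110000 with h10 | h10
  · exact fix_of_part 17 131071 cols _ fix27_10 x (by omega) (by omega)
  rcases Nat.lt_or_ge x 120000 with h11 | h11
  · exact fix_of_part 17 131071 cols _ fix27_11 x (by omega) (by omega)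
  exact fix_of_part 17 131071 cols _ fix27_12 x (by omega) (by omega)

theorem fix28 : ∀ x < 122760, tr A [3, 4, 3, 4, 3, 4, 3, 4, 3, 4, 3, 4, 3, 4, 3, 4] x = x := by
  intro x hx
  rcases Nat.lt_or_ge x 6250 with h0 | h0
  · exact fix_of_part 17 131071 cols _ fix28_0 x (by omega) (by omega)
  rcases Nat.lt_or_ge x 12500 with h1 | h1
  · exact fix_of_part 17 131071 cols _ fix28_1 x (by omega) (by omega)
  rcases Nat.lt_or_ge x 18750 with h2 | h2
  · exact fix_of_part 17 131071 cols _ fix28_2 x (by omega) (by omega)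
  rcases Nat.lt_or_ge x 25000 with h3 | h3
  · exact fix_of_part 17 131071 cols _ fix28_3 x (by omega) (by omega)
  rcases Nat.lt_or_ge x 31250 with h4 | h4
  · exact fix_of_part 17 131071 cols _ fix28_4 x (by omega) (by omega)
  rcases Nat.lt_or_ge x 37500 with h5 | h5
  · exact fix_of_part 17 131071 cols _ fix28_5 x (by omega) (by omega)
  rcases Nat.lt_or_ge x 43750 with h6 | h6
  · exact fix_of_part 17 131071 cols _ fix28_6 x (by omega) (by omega)
  rcases Nat.lt_or_ge x 50000 with h7 | h7
  · exact fix_of_part 17 131071 cols _ fix28_7 x (by omega) (by omega)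
  rcases Nat.lt_or_ge x 56250 with h8 | h8
  · exact fix_of_part 17 131071 cols _ fix28_8 x (by omega) (by omega)
  rcases Nat.lt_or_ge x 62500 with h9 | h9
  · exact fix_of_part 17 131071 cols _ fix28_9 x (by omega) (by omega)
  rcases Nat.lt_or_ge x 68750 with h10 | h10
  · exact fix_of_part 17 131071 cols _ fix28_10 x (by omega) (by omega)
  rcases Nat.lt_or_ge x 75000 with h11 | h11
  · exact fix_of_part 17 131071 cols _ fix28_11 x (by omega) (by omega)
  rcases Nat.lt_or_ge x 81250 with h12 | h12
  · exact fix_of_part 17 131071 cols _ fix28_12 x (by omega) (by omega)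
  rcases Nat.lt_or_ge x 87500 with h13 | h13
  · exact fix_of_part 17 131071 cols _ fix28_13 x (by omega) (by omega)
  rcases Nat.lt_or_ge x 93750 with h14 | h14
  · exact fix_of_part 17 131071 cols _ fix28_14 x (by omega) (by omega)
  rcases Nat.lt_or_ge x 100000 with h15 | h15
  · exact fix_of_part 17 131071 cols _ fix28_15 x (by omega) (by omega)
  rcases Nat.lt_or_ge x 106250 with h16 | h16
  · exact fix_of_part 17 131071 cols _ fix28_16 x (by omega) (by omega)
  rcases Nat.lt_or_ge x 112500 with h17 | h17
  · exact fix_of_part 17 131071 cols _ fix28_17 x (by omega) (by omega)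
  rcases Nat.lt_or_ge x 118750 with h18 | h18
  · exact fix_of_part 17 131071 cols _ fix28_18 x (by omega) (by omega)
  exact fix_of_part 17 131071 cols _ fix28_19 x (by omega) (by omega)

theorem fix29 : ∀ x < 122760, tr A [2, 3, 4, 0, 2, 3, 4, 0, 2, 3, 4, 0, 2, 3, 4, 0, 2, 3, 4, 0] x = x := by
  intro x hx
  rcases Nat.lt_or_ge x 5000 with h0 | h0
  · exact fix_of_part 17 131071 cols _ fix29_0 x (by omega) (by omega)
  rcases Nat.lt_or_ge x 10000 with h1 | h1
  · exact fix_of_part 17 131071 cols _ fix29_1 x (by omega) (by omega)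
  rcases Nat.lt_or_ge x 15000 with h2 | h2
  · exact fix_of_part 17 131071 cols _ fix29_2 x (by omega) (by omega)
  rcases Nat.lt_or_ge x 20000 with h3 | h3
  · exact fix_of_part 17 131071 cols _ fix29_3 x (by omega) (by omega)
  rcases Nat.lt_or_ge x 25000 with h4 | h4
  · exact fix_of_part 17 131071 cols _ fix29_4 x (by omega) (by omega)
  rcases Nat.lt_or_ge x 30000 with h5 | h5
  · exact fix_of_part 17 131071 cols _ fix29_5 x (by omega) (by omega)
  rcases Nat.lt_or_ge x 35000 with h6 | h6
  · exact fix_of_part 17 131071 cols _ fix29_6 x (by omega) (by omega)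
  rcases Nat.lt_or_ge x 40000 with h7 | h7
  · exact fix_of_part 17 131071 cols _ fix29_7 x (by omega) (by omega)
  rcases Nat.lt_or_ge x 45000 with h8 | h8
  · exact fix_of_part 17 131071 cols _ fix29_8 x (by omega) (by omega)
  rcases Nat.lt_or_ge x 50000 with h9 | h9
  · exact fix_of_part 17 131071 cols _ fix29_9 x (by omega) (by omega)
  rcases Nat.lt_or_ge x 55000 with h10 | h10
  · exact fix_of_part 17 131071 cols _ fix29_10 x (by omega) (by omega)
  rcases Nat.lt_or_ge x 60000 with h11 | h11
  · exact fix_of_part 17 131071 cols _ fix29_11 x (by omega) (by omega)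
  rcases Nat.lt_or_ge x 65000 with h12 | h12
  · exact fix_of_part 17 131071 cols _ fix29_12 x (by omega) (by omega)
  rcases Nat.lt_or_ge x 70000 with h13 | h13
  · exact fix_of_part 17 131071 cols _ fix29_13 x (by omega) (by omega)
  rcases Nat.lt_or_ge x 75000 with h14 | h14
  · exact fix_of_part 17 131071 cols _ fix29_14 x (by omega) (by omega)
  rcases Nat.lt_or_ge x 80000 with h15 | h15
  · exact fix_of_part 17 131071 cols _ fix29_15 x (by omega) (by omega)
  rcases Nat.lt_or_ge x 85000 with h16 | h16
  · exact fix_of_part 17 131071 cols _ fix29_16 x (by omega) (by omega)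
  rcases Nat.lt_or_ge x 90000 with h17 | h17
  · exact fix_of_part 17 131071 cols _ fix29_17 x (by omega) (by omega)
  rcases Nat.lt_or_ge x 95000 with h18 | h18
  · exact fix_of_part 17 131071 cols _ fix29_18 x (by omega) (by omega)
  rcases Nat.lt_or_ge x 100000 with h19 | h19
  · exact fix_of_part 17 131071 cols _ fix29_19 x (by omega) (by omega)
  rcases Nat.lt_or_ge x 105000 with h20 | h20
  · exact fix_of_part 17 131071 cols _ fix29_20 x (by omega) (by omega)
  rcases Nat.lt_or_ge x 110000 with h21 | h21
  · exact fix_of_part 17 131071 cols _ fix29_21 x (by omega) (by omega)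
  rcases Nat.lt_or_ge x 115000 with h22 | h22
  · exact fix_of_part 17 131071 cols _ fix29_22 x (by omega) (by omega)
  rcases Nat.lt_or_ge x 120000 with h23 | h23
  · exact fix_of_part 17 131071 cols _ fix29_23 x (by omega) (by omega)
  exact fix_of_part 17 131071 cols _ fix29_24 x (by omega) (by omega)

/-- the inverse letters -/
def invL (s : ℕ) : ℕ := [7, 1, 2, 3, 4, 5, 6, 0].getD s 0

theorem isAction : IsAction 122760 8 A invL where
  lt := by
    intro s hs x hx
    interval_cases s
    · exact lt_of_part 17 131071 122760 cols 0 lt0 x (by omega) (by omega)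
    · exact lt_of_part 17 131071 122760 cols 1 lt1 x (by omega) (by omega)
    · exact lt_of_part 17 131071 122760 cols 2 lt2 x (by omega) (by omega)
    · exact lt_of_part 17 131071 122760 cols 3 lt3 x (by omega) (by omega)
    · exact lt_of_part 17 131071 122760 cols 4 lt4 x (by omega) (by omega)
    · exact lt_of_part 17 131071 122760 cols 5 lt5 x (by omega) (by omega)
    · exact lt_of_part 17 131071 122760 cols 6 lt6 x (by omega) (by omega)
    · exact lt_of_part 17 131071 122760 cols 7 lt7 x (by omega) (by omega)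
  invk := by decide
  invinv := by decide
  cancel := by
    intro s hs x hx
    interval_cases s
    · exact fix6 x hx
    · exact fix18 x hx
    · exact fix15 x hx
    · exact fix9 x hx
    · exact fix4 x hx
    · exact fix3 x hx
    · exact fix5 x hx
    · exact fix8 x hx

theorem tree_ok (x : ℕ) (h0 : 0 < x) (hx : x < 122760) : ∃ p s, p < x ∧ s < 8 ∧ A s p = x :=
  tree_of_part 17 131071 25 33554431 8 cols tree treeOK x (by omega) (by omega)

theorem subMask_ok : ∀ s < 8, Nat.land (Nat.shiftRight 126 s) 1 = 1 → s ∈ [1, 2, 3, 4, 5, 6] := by decide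

end Cfsg.Agent.Lib.helper19_ONA
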