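import Cfsg.Agent.Lib.helper19_Benes
import Cfsg.Agent.Lib.helper19_PG
import Cfsg.Agent.Lib.helper19_ONBLN0
import Cfsg.Agent.Lib.helper19_ONBLN1
import Cfsg.Agent.Lib.helper19_ONBLN2
import Cfsg.Agent.Lib.helper19_ONBLN3
import Cfsg.Agent.Lib.helper19_ONBLN4
import Cfsg.Agent.Lib.helper19_ONBLN5
import Cfsg.Agent.Lib.helper19_ONBLN6
import Cfsg.Agent.Lib.helper19_ONBLN7

/-! Generated permutation representation data for the O'Nan group on 122760 points; by helper19. -/

set_option autoImplicit false
set_option maxRecDepth 1000000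
set_option Elab.async false

namespace Cfsg.Agent.Lib.helper19_ONBL
open Cfsg.Agent.Lib.helper19_TC2 Cfsg.Agent.Lib.helper19_TC2L Cfsg.Agent.Lib.helper19_Benes Cfsg.Agent.Lib.helper19_PG

/-- the networks -/
def nets : List Net := [net0, net1, net2, net3, net4, net5, net6, net7]

/-- the action -/
noncomputable abbrev A : ℕ → ℕ → ℕ := act nets

theorem netsOK : okNets nets = true := by decide +kernel

theorem rangeOK : checkRange nets 122760 8 0 = true := by decide +kernel

theorem reachOK : checkReach nets 122760 8 5 = true := by decide +kernel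

end Cfsg.Agent.Lib.helper19_ONBL
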