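import Cfsg.Agent.Lib.helper19_ONBL

/-! Generated: relator checks, file 0, for the O'Nan group on 122760 points; by helper19. -/

set_option autoImplicit false
set_option maxRecDepth 1000000
set_option Elab.async false

namespace Cfsg.Agent.Lib.helper19_ONBL
open Cfsg.Agent.Lib.helper19_TC2 Cfsg.Agent.Lib.helper19_TC2L Cfsg.Agent.Lib.helper19_Benes

theorem plp0_0 : checkPlanes nets 17 [0, 7] 17 0 = true := by
  decide +kernel

theorem plp1_0 : checkPlanes nets 17 [1, 1] 17 0 = true := by
  decide +kernel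

theorem plp2_0 : checkPlanes nets 17 [2, 2] 17 0 = true := by
  decide +kernel

theorem plp3_0 : checkPlanes nets 17 [3, 3] 17 0 = true := by
  decide +kernel

theorem plp4_0 : checkPlanes nets 17 [4, 4] 17 0 = true := by
  decide +kernel

theorem plp5_0 : checkPlanes nets 17 [5, 5] 17 0 = true := by
  decide +kernel

theorem plp6_0 : checkPlanes nets 17 [6, 6] 17 0 = true := by
  decide +kernel

theorem plp7_0 : checkPlanes nets 17 [7, 0] 17 0 = true := by
  decide +kernel

theorem pl0_0 : checkPlanes nets 17 [1, 6, 7, 7] 17 0 = true := by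
  decide +kernel

theorem pl1_0 : checkPlanes nets 17 [3, 7, 4, 7, 4, 3, 4, 0, 4, 0] 17 0 = true := by
  decide +kernel

theorem pl2_0 : checkPlanes nets 17 [0, 5, 4, 0, 4, 5, 0, 5, 4, 0, 4] 17 0 = true := by
  decide +kernel

theorem pl3_0 : checkPlanes nets 17 [5, 5] 17 0 = true := by
  decide +kernel

theorem pl4_0 : checkPlanes nets 17 [4, 4] 17 0 = true := by
  decide +kernel

theorem pl5_0 : checkPlanes nets 17 [6, 6] 17 0 = true := by
  decide +kernel

theorem pl6_0 : checkPlanes nets 17 [0, 7] 17 0 = true := by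
  decide +kernel

theorem pl7_0 : checkPlanes nets 17 [3, 5, 3, 5] 17 0 = true := by
  decide +kernel

theorem pl8_0 : checkPlanes nets 17 [7, 0] 17 0 = true := by
  decide +kernel

theorem pl9_0 : checkPlanes nets 17 [3, 3] 17 0 = true := by
  decide +kernel

theorem pl10_0 : checkPlanes nets 17 [4, 7, 3, 7, 3, 4, 3, 0, 3, 0] 17 0 = true := by
  decide +kernel

theorem pl11_0 : checkPlanes nets 17 [2, 5, 2, 5] 17 0 = true := by
  decide +kernel

theorem pl12_0 : checkPlanes nets 17 [0, 2, 3, 0, 3, 2, 0, 2, 3, 0, 3] 17 0 = true := by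
  decide +kernel

theorem pl13_0 : checkPlanes nets 17 [4, 6, 4, 6] 17 0 = true := by
  decide +kernel

theorem pl14_0 : checkPlanes nets 17 [2, 4, 2, 4] 17 0 = true := by
  decide +kernel

theorem pl15_0 : checkPlanes nets 17 [2, 2] 17 0 = true := by
  decide +kernel

theorem pl16_0 : checkPlanes nets 17 [3, 6, 3, 6] 17 0 = true := by
  decide +kernel

theorem pl17_0 : checkPlanes nets 17 [1, 5, 1, 5] 17 0 = true := by
  decide +kernel

theorem pl18_0 : checkPlanes nets 17 [1, 1] 17 0 = true := by
  decide +kernel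

theorem pl19_0 : checkPlanes nets 17 [1, 4, 1, 4] 17 0 = true := by
  decide +kernel

end Cfsg.Agent.Lib.helper19_ONBL
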