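import Cfsg.Agent.Lib.helper19_ONBL

/-! Generated: relator checks, file 1, for the O'Nan group on 122760 points; by helper19. -/

set_option autoImplicit false
set_option maxRecDepth 1000000
set_option Elab.async false

namespace Cfsg.Agent.Lib.helper19_ONBL
open Cfsg.Agent.Lib.helper19_TC2 Cfsg.Agent.Lib.helper19_TC2L Cfsg.Agent.Lib.helper19_Benes

theorem pl20_0 : checkPlanes nets 17 [2, 6, 2, 6] 17 0 = true := by
  decide +kernel

theorem pl21_0 : checkPlanes nets 17 [1, 6, 1, 6] 17 0 = true := by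
  decide +kernel

theorem pl22_0 : checkPlanes nets 17 [1, 3, 1, 3] 17 0 = true := by
  decide +kernel

theorem pl23_0 : checkPlanes nets 17 [4, 5, 4, 5, 4, 5] 17 0 = true := by
  decide +kernel

theorem pl24_0 : checkPlanes nets 17 [5, 6, 5, 6, 5, 6] 17 0 = true := by
  decide +kernel

theorem pl25_0 : checkPlanes nets 17 [2, 3, 2, 3, 2, 3] 17 0 = true := by
  decide +kernel

theorem pl26_0 : checkPlanes nets 17 [1, 2, 1, 2, 1, 2] 17 0 = true := by
  decide +kernel

theorem pl27_0 : checkPlanes nets 17 [1, 6, 4, 3, 4, 3, 4, 3, 4, 3] 17 0 = true := by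
  decide +kernel

theorem pl28_0 : checkPlanes nets 17 [3, 4, 3, 4, 3, 4, 3, 4, 3, 4, 3, 4, 3, 4, 3, 4] 17 0 = true := by
  decide +kernel

theorem pl29_0 : checkPlanes nets 17 [2, 3, 4, 0, 2, 3, 4, 0, 2, 3, 4, 0, 2, 3, 4, 0, 2, 3, 4, 0] 17 0 = true := by
  decide +kernel

theorem plJ0_0 : checkPlanes nets 17 [1, 1] 17 0 = true := by
  decide +kernel

end Cfsg.Agent.Lib.helper19_ONBL
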