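import Cfsg.Agent.Lib.helper19_ONBL

/-! Generated: relator checks, file 41, for the O'Nan group on 122760 points; by helper19. -/

set_option autoImplicit false
set_option maxRecDepth 1000000
set_option Elab.async false

namespace Cfsg.Agent.Lib.helper19_ONBL
open Cfsg.Agent.Lib.helper19_TC2 Cfsg.Agent.Lib.helper19_TC2L Cfsg.Agent.Lib.helper19_Benes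

theorem plM1_0 : checkPlanes nets 17 [2, 3, 4, 0, 3, 5, 6, 0, 5, 6, 7, 5, 2, 3, 5, 4, 3, 4, 2, 5, 4, 6, 4, 3, 5, 7, 4, 5, 2, 3, 4, 5, 1, 3, 4, 3, 4, 1, 5, 4, 3, 2, 5, 4, 0, 5, 3, 4, 6, 4, 5, 2, 4, 3, 4, 5, 3, 2, 5, 0, 6, 5, 7, 6, 5, 3, 7, 4, 3, 2, 2, 3, 4, 0, 3, 5, 6, 0, 5, 6, 7, 5, 2, 3, 5, 4, 3, 4, 2, 5, 4, 6, 4, 3, 5, 7, 4, 5, 2, 3, 4, 5, 1, 3, 4, 3, 4, 1, 5, 4, 3, 2, 5, 4, 0, 5, 3, 4, 6, 4, 5, 2, 4, 3, 4, 5, 3, 2, 5, 0, 6, 5, 7, 6, 5, 3, 7, 4, 3, 2, 2, 3, 4, 0, 3, 5, 6, 0, 5, 6, 7, 5, 2, 3, 5, 4, 3, 4, 2, 5, 4, 6, 4, 3, 5, 7, 4, 5, 2, 3, 4, 5, 1, 3, 4, 3, 4, 1, 5, 4, 3, 2, 5, 4, 0, 5, 3, 4, 6, 4, 5, 2, 4, 3, 4, 5, 3, 2, 5, 0, 6,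 5, 7, 6, 5, 3, 7, 4, 3, 2, 2, 3, 4, 0, 3, 5, 6, 0, 5, 6, 7, 5, 2, 3, 5, 4, 3, 4, 2, 5, 4, 6, 4, 3, 5, 7, 4, 5, 2, 3, 4, 5, 1, 3, 4, 3, 4, 1, 5, 4, 3, 2, 5, 4, 0, 5, 3, 4, 6, 4, 5, 2, 4, 3, 4, 5, 3, 2, 5, 0, 6, 5, 7, 6, 5, 3, 7, 4, 3, 2] 1 0 = true := by
  decide +kernel

theorem plM1_1 : checkPlanes nets 17 [2, 3, 4, 0, 3, 5, 6, 0, 5, 6, 7, 5, 2, 3, 5, 4, 3, 4, 2, 5, 4, 6, 4, 3, 5, 7, 4, 5, 2, 3, 4, 5, 1, 3, 4, 3, 4, 1, 5, 4, 3, 2, 5, 4, 0, 5, 3, 4, 6, 4, 5, 2, 4, 3, 4, 5, 3, 2, 5, 0, 6, 5, 7, 6, 5, 3, 7, 4, 3, 2, 2, 3, 4, 0, 3, 5, 6, 0, 5, 6, 7, 5, 2, 3, 5, 4, 3, 4, 2, 5, 4, 6, 4, 3, 5, 7, 4, 5, 2, 3, 4, 5, 1, 3, 4, 3, 4, 1, 5, 4, 3,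 2, 5, 4, 0, 5, 3, 4, 6, 4, 5, 2, 4, 3, 4, 5, 3, 2, 5, 0, 6, 5, 7, 6, 5, 3, 7, 4, 3, 2, 2, 3, 4, 0, 3, 5, 6, 0, 5, 6, 7, 5, 2, 3, 5, 4, 3, 4, 2, 5, 4, 6, 4, 3, 5, 7, 4, 5, 2, 3, 4, 5, 1, 3, 4, 3, 4, 1, 5, 4, 3, 2, 5, 4, 0, 5, 3, 4, 6, 4, 5, 2, 4, 3, 4, 5, 3, 2, 5, 0, 6, 5, 7, 6, 5, 3, 7, 4, 3, 2, 2, 3, 4, 0, 3, 5, 6, 0, 5, 6, 7, 5, 2, 3, 5, 4, 3, 4, 2, 5, 4, 6, 4, 3, 5, 7, 4, 5, 2, 3, 4, 5, 1, 3, 4, 3, 4, 1, 5, 4, 3, 2, 5, 4, 0, 5, 3, 4, 6, 4, 5, 2, 4, 3, 4, 5, 3, 2, 5, 0, 6, 5, 7, 6, 5, 3, 7, 4, 3, 2] 1 1 = true := by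
  decide +kernel

theorem plM1_2 : checkPlanes nets 17 [2, 3, 4, 0, 3, 5, 6, 0, 5, 6, 7, 5, 2, 3, 5, 4, 3, 4, 2, 5, 4, 6, 4, 3, 5, 7, 4, 5, 2, 3, 4, 5, 1, 3, 4, 3, 4, 1, 5, 4, 3, 2, 5, 4, 0, 5, 3, 4, 6, 4, 5, 2, 4, 3, 4, 5, 3, 2, 5, 0, 6, 5, 7, 6, 5, 3, 7, 4, 3, 2, 2, 3, 4, 0, 3, 5, 6, 0, 5, 6, 7, 5, 2, 3, 5, 4, 3, 4, 2, 5, 4, 6, 4, 3, 5, 7, 4, 5, 2, 3, 4, 5, 1, 3, 4, 3, 4, 1, 5, 4, 3, 2, 5, 4, 0, 5, 3, 4, 6, 4, 5, 2, 4, 3, 4, 5, 3, 2, 5, 0, 6, 5, 7, 6, 5, 3, 7, 4, 3, 2, 2, 3, 4, 0, 3, 5, 6, 0, 5, 6, 7, 5, 2, 3, 5, 4, 3, 4, 2, 5, 4, 6, 4, 3, 5, 7, 4, 5, 2, 3, 4, 5, 1, 3, 4, 3, 4, 1, 5, 4, 3, 2, 5, 4, 0, 5, 3, 4, 6, 4, 5, 2, 4, 3, 4,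 5, 3, 2, 5, 0, 6, 5, 7, 6, 5, 3, 7, 4, 3, 2, 2, 3, 4, 0, 3, 5, 6, 0, 5, 6, 7, 5, 2, 3, 5, 4, 3, 4, 2, 5, 4, 6, 4, 3, 5, 7, 4, 5, 2, 3, 4, 5, 1, 3, 4, 3, 4, 1, 5, 4, 3, 2, 5, 4, 0, 5, 3, 4, 6, 4, 5, 2, 4, 3, 4, 5, 3, 2, 5, 0, 6, 5, 7, 6, 5, 3, 7, 4, 3, 2] 1 2 = true := by
  decide +kernel

theorem plM1_3 : checkPlanes nets 17 [2, 3, 4, 0, 3, 5, 6, 0, 5, 6, 7, 5, 2, 3, 5, 4, 3, 4, 2, 5, 4, 6, 4, 3, 5, 7, 4, 5, 2, 3, 4, 5, 1, 3, 4, 3, 4, 1, 5, 4, 3, 2, 5, 4, 0, 5, 3, 4, 6, 4, 5, 2, 4, 3, 4, 5, 3, 2, 5, 0, 6, 5, 7, 6, 5, 3, 7, 4, 3, 2, 2, 3, 4, 0, 3, 5, 6, 0, 5, 6, 7, 5, 2, 3, 5, 4, 3, 4, 2, 5, 4, 6, 4, 3, 5, 7, 4, 5, 2, 3, 4, 5, 1, 3, 4,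 3, 4, 1, 5, 4, 3, 2, 5, 4, 0, 5, 3, 4, 6, 4, 5, 2, 4, 3, 4, 5, 3, 2, 5, 0, 6, 5, 7, 6, 5, 3, 7, 4, 3, 2, 2, 3, 4, 0, 3, 5, 6, 0, 5, 6, 7, 5, 2, 3, 5, 4, 3, 4, 2, 5, 4, 6, 4, 3, 5, 7, 4, 5, 2, 3, 4, 5, 1, 3, 4, 3, 4, 1, 5, 4, 3, 2, 5, 4, 0, 5, 3, 4, 6, 4, 5, 2, 4, 3, 4, 5, 3, 2, 5, 0, 6, 5, 7, 6, 5, 3, 7, 4, 3, 2, 2, 3, 4, 0, 3, 5, 6, 0, 5, 6, 7, 5, 2, 3, 5, 4, 3, 4, 2, 5, 4, 6, 4, 3, 5, 7, 4, 5, 2, 3, 4, 5, 1, 3, 4, 3, 4, 1, 5, 4, 3, 2, 5, 4, 0, 5, 3, 4, 6, 4, 5, 2, 4, 3, 4, 5, 3, 2, 5, 0, 6, 5, 7, 6, 5, 3, 7, 4, 3, 2] 1 3 = true := by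
  decide +kernel

theorem plM1_4 : checkPlanes nets 17 [2, 3, 4, 0, 3, 5, 6, 0, 5, 6, 7, 5, 2, 3, 5, 4, 3, 4, 2, 5, 4, 6, 4, 3, 5, 7, 4, 5, 2, 3, 4, 5, 1, 3, 4, 3, 4, 1, 5, 4, 3, 2, 5, 4, 0, 5, 3, 4, 6, 4, 5, 2, 4, 3, 4, 5, 3, 2, 5, 0, 6, 5, 7, 6, 5, 3, 7, 4, 3, 2, 2, 3, 4, 0, 3, 5, 6, 0, 5, 6, 7, 5, 2, 3, 5, 4, 3, 4, 2, 5, 4, 6, 4, 3, 5, 7, 4, 5, 2, 3, 4, 5, 1, 3, 4, 3, 4, 1, 5, 4, 3, 2, 5, 4, 0, 5, 3, 4, 6, 4, 5, 2, 4, 3, 4, 5, 3, 2, 5, 0, 6, 5, 7, 6, 5, 3, 7, 4, 3, 2, 2, 3, 4, 0, 3, 5, 6, 0, 5, 6, 7, 5, 2, 3, 5, 4, 3, 4, 2, 5, 4, 6, 4, 3, 5, 7, 4, 5, 2, 3, 4, 5, 1, 3, 4, 3, 4, 1, 5, 4, 3, 2, 5, 4, 0, 5, 3, 4, 6, 4, 5, 2, 4, 3, 4,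 5, 3, 2, 5, 0, 6, 5, 7, 6, 5, 3, 7, 4, 3, 2, 2, 3, 4, 0, 3, 5, 6, 0, 5, 6, 7, 5, 2, 3, 5, 4, 3, 4, 2, 5, 4, 6, 4, 3, 5, 7, 4, 5, 2, 3, 4, 5, 1, 3, 4, 3, 4, 1, 5, 4, 3, 2, 5, 4, 0, 5, 3, 4, 6, 4, 5, 2, 4, 3, 4, 5, 3, 2, 5, 0, 6, 5, 7, 6, 5, 3, 7, 4, 3, 2] 1 4 = true := by
  decide +kernel

theorem plM1_5 : checkPlanes nets 17 [2, 3, 4, 0, 3, 5, 6, 0, 5, 6, 7, 5, 2, 3, 5, 4, 3, 4, 2, 5, 4, 6, 4, 3, 5, 7, 4, 5, 2, 3, 4, 5, 1, 3, 4, 3, 4, 1, 5, 4, 3, 2, 5, 4, 0, 5, 3, 4, 6, 4, 5, 2, 4, 3, 4, 5, 3, 2, 5, 0, 6, 5, 7, 6, 5, 3, 7, 4, 3, 2, 2, 3, 4, 0, 3, 5, 6, 0, 5, 6, 7, 5, 2, 3, 5, 4, 3, 4, 2, 5, 4, 6, 4, 3, 5, 7, 4, 5, 2, 3, 4, 5, 1, 3, 4,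 3, 4, 1, 5, 4, 3, 2, 5, 4, 0, 5, 3, 4, 6, 4, 5, 2, 4, 3, 4, 5, 3, 2, 5, 0, 6, 5, 7, 6, 5, 3, 7, 4, 3, 2, 2, 3, 4, 0, 3, 5, 6, 0, 5, 6, 7, 5, 2, 3, 5, 4, 3, 4, 2, 5, 4, 6, 4, 3, 5, 7, 4, 5, 2, 3, 4, 5, 1, 3, 4, 3, 4, 1, 5, 4, 3, 2, 5, 4, 0, 5, 3, 4, 6, 4, 5, 2, 4, 3, 4, 5, 3, 2, 5, 0, 6, 5, 7, 6, 5, 3, 7, 4, 3, 2, 2, 3, 4, 0, 3, 5, 6, 0, 5, 6, 7, 5, 2, 3, 5, 4, 3, 4, 2, 5, 4, 6, 4, 3, 5, 7, 4, 5, 2, 3, 4, 5, 1, 3, 4, 3, 4, 1, 5, 4, 3, 2, 5, 4, 0, 5, 3, 4, 6, 4, 5, 2, 4, 3, 4, 5, 3, 2, 5, 0, 6, 5, 7, 6, 5, 3, 7, 4, 3, 2] 1 5 = true := by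
  decide +kernel

end Cfsg.Agent.Lib.helper19_ONBL
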