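import Cfsg.Agent.Lib.helper19_TC2
import Cfsg.Agent.Lib.helper19_TC2L
import Cfsg.Agent.Lib.helper19_Benes
import Cfsg.Agent.Lib.helper19_PG
import Cfsg.Agent.Lib.helper19_ONBLN0
import Cfsg.Agent.Lib.helper19_ONBLN1
import Cfsg.Agent.Lib.helper19_ONBLN2
import Cfsg.Agent.Lib.helper19_ONBLN3
import Cfsg.Agent.Lib.helper19_ONBLN4
import Cfsg.Agent.Lib.helper19_ONBLN5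
import Cfsg.Agent.Lib.helper19_ONBLN6
import Cfsg.Agent.Lib.helper19_ONBLN7
import Cfsg.Agent.Lib.helper19_ONBL
import Cfsg.Agent.Lib.helper19_ONBLW0
import Cfsg.Agent.Lib.helper19_ONBLW1
import Cfsg.Agent.Lib.helper19_ONBLW2
import Cfsg.Agent.Lib.helper19_ONBLW3
import Cfsg.Agent.Lib.helper19_ONBLW4
import Cfsg.Agent.Lib.helper19_ONBLW5
import Cfsg.Agent.Lib.helper19_ONBLW6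
import Cfsg.Agent.Lib.helper19_ONBLW7
import Cfsg.Agent.Lib.helper19_ONBLW8
import Cfsg.Agent.Lib.helper19_ONBLW9
import Cfsg.Agent.Lib.helper19_ONBLW10
import Cfsg.Agent.Lib.helper19_ONBLW11
import Cfsg.Agent.Lib.helper19_ONBLW12
import Cfsg.Agent.Lib.helper19_ONBLW13
import Cfsg.Agent.Lib.helper19_ONBLW14
import Cfsg.Agent.Lib.helper19_ONBLW15
import Cfsg.Agent.Lib.helper19_ONBLW16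
import Cfsg.Agent.Lib.helper19_ONBLW17
import Cfsg.Agent.Lib.helper19_ONBLW18
import Cfsg.Agent.Lib.helper19_ONBLW19
import Cfsg.Agent.Lib.helper19_ONBLW20
import Cfsg.Agent.Lib.helper19_ONBLW21
import Cfsg.Agent.Lib.helper19_ONBLW22
import Cfsg.Agent.Lib.helper19_ONBLW23
import Cfsg.Agent.Lib.helper19_ONBLW24
import Cfsg.Agent.Lib.helper19_ONBLW25
import Cfsg.Agent.Lib.helper19_ONBLW26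
import Cfsg.Agent.Lib.helper19_ONBLW27
import Cfsg.Agent.Lib.helper19_ONBLW28
import Cfsg.Agent.Lib.helper19_ONBLW29
import Cfsg.Agent.Lib.helper19_ONBLW30
import Cfsg.Agent.Lib.helper19_ONBLW31
import Cfsg.Agent.Lib.helper19_ONBLW32
import Cfsg.Agent.Lib.helper19_ONBLW33
import Cfsg.Agent.Lib.helper19_ONBLW34
import Cfsg.Agent.Lib.helper19_ONBLW35
import Cfsg.Agent.Lib.helper19_ONBLW36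
import Cfsg.Agent.Lib.helper19_ONBLW37
import Cfsg.Agent.Lib.helper19_ONBLW38
import Cfsg.Agent.Lib.helper19_ONBLW39
import Cfsg.Agent.Lib.helper19_ONBLW40
import Cfsg.Agent.Lib.helper19_ONBLW41
import Cfsg.Agent.Lib.helper19_ONBLW42
import Cfsg.Agent.Lib.helper19_ONBLW43
import Cfsg.Agent.Lib.helper19_ONBLW44
import Cfsg.Agent.Lib.helper19_ONBLW45
import Cfsg.Agent.Lib.helper19_ONBLW46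
import Cfsg.Agent.Lib.helper19_ONBLW47
import Cfsg.Agent.Lib.helper19_ONBLW48
import Cfsg.Agent.Lib.helper19_ONBLW49
import Cfsg.Agent.Lib.helper19_ONBLW50
import Cfsg.Agent.Lib.helper19_ONBLW51
import Cfsg.Agent.Lib.helper19_ONBLW52
import Cfsg.Agent.Lib.helper19_ONBLW53
import Cfsg.Agent.Lib.helper19_ONBLW54
import Cfsg.Agent.Lib.helper19_ONBLW55
import Cfsg.Agent.Lib.helper19_ONBLW56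
import Cfsg.Agent.Lib.helper19_ONBLW57
import Cfsg.Agent.Lib.helper19_ONBLW58
import Cfsg.Agent.Lib.helper19_ONBLW59
import Cfsg.Agent.Lib.helper19_ONBLW60
import Cfsg.Agent.Lib.helper19_ONBLW61
import Cfsg.Agent.Lib.helper19_ONBLW62
import Cfsg.Agent.Lib.helper19_ONBLW63
import Cfsg.Agent.Lib.helper19_ONBLW64
import Cfsg.Agent.Lib.helper19_ONBLW65
import Cfsg.Agent.Lib.helper19_ONBLW66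
import Cfsg.Agent.Lib.helper19_ONBLW67
import Cfsg.Agent.Lib.helper19_ONBLW68
import Cfsg.Agent.Lib.helper19_ONBLW69

/-! Generated: the verified permutation representation for the O'Nan group on 122760 points; by helper19. -/

set_option autoImplicit false
set_option maxRecDepth 1000000
set_option Elab.async false

namespace Cfsg.Agent.Lib.helper19_ONBB
open Cfsg.Agent.Lib.helper19_TC2 Cfsg.Agent.Lib.helper19_TC2L Cfsg.Agent.Lib.helper19_Benes Cfsg.Agent.Lib.helper19_PG Cfsg.Agent.Lib.helper19_ONBL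

theorem hok : ∀ s, (nthN nets s).Ok := okNets_sound nets netsOK

theorem hlt : ∀ s < 8, ∀ x < 122760, A s x < 122760 := fun s hs x hx =>
  act_lt hok (checkRange_sound nets 122760 8 0 rangeOK s (by omega) (by omega)) hx

theorem fixp0 : ∀ x < 122760, tr A [0, 7] x = x := by
  apply fix_of_planes hok (n := 17) (by norm_num) hlt [0, 7] (by decide)
  intro j hj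
  exact checkPlanes_sound nets 17 _ 17 0 plp0_0 j (by omega) (by omega)

theorem fixp1 : ∀ x < 122760, tr A [1, 1] x = x := by
  apply fix_of_planes hok (n := 17) (by norm_num) hlt [1, 1] (by decide)
  intro j hj
  exact checkPlanes_sound nets 17 _ 17 0 plp1_0 j (by omega) (by omega)

theorem fixp2 : ∀ x < 122760, tr A [2, 2] x = x := by
  apply fix_of_planes hok (n := 17) (by norm_num) hlt [2, 2] (by decide)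
  intro j hj
  exact checkPlanes_sound nets 17 _ 17 0 plp2_0 j (by omega) (by omega)

theorem fixp3 : ∀ x < 122760, tr A [3, 3] x = x := by
  apply fix_of_planes hok (n := 17) (by norm_num) hlt [3, 3] (by decide)
  intro j hj
  exact checkPlanes_sound nets 17 _ 17 0 plp3_0 j (by omega) (by omega)

theorem fixp4 : ∀ x < 122760, tr A [4, 4] x = x := by
  apply fix_of_planes hok (n := 17) (by norm_num) hlt [4, 4] (by decide)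
  intro j hj
  exact checkPlanes_sound nets 17 _ 17 0 plp4_0 j (by omega) (by omega)

theorem fixp5 : ∀ x < 122760, tr A [5, 5] x = x := by
  apply fix_of_planes hok (n := 17) (by norm_num) hlt [5, 5] (by decide)
  intro j hj
  exact checkPlanes_sound nets 17 _ 17 0 plp5_0 j (by omega) (by omega)

theorem fixp6 : ∀ x < 122760, tr A [6, 6] x = x := by
  apply fix_of_planes hok (n := 17) (by norm_num) hlt [6, 6] (by decide)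
  intro j hj
  exact checkPlanes_sound nets 17 _ 17 0 plp6_0 j (by omega) (by omega)

theorem fixp7 : ∀ x < 122760, tr A [7, 0] x = x := by
  apply fix_of_planes hok (n := 17) (by norm_num) hlt [7, 0] (by decide)
  intro j hj
  exact checkPlanes_sound nets 17 _ 17 0 plp7_0 j (by omega) (by omega)

theorem fix0 : ∀ x < 122760, tr A [1, 6, 7, 7] x = x := by
  apply fix_of_planes hok (n := 17) (by norm_num) hlt [1, 6, 7, 7] (by decide)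
  intro j hj
  exact checkPlanes_sound nets 17 _ 17 0 pl0_0 j (by omega) (by omega)

theorem fix1 : ∀ x < 122760, tr A [3, 7, 4, 7, 4, 3, 4, 0, 4, 0] x = x := by
  apply fix_of_planes hok (n := 17) (by norm_num) hlt [3, 7, 4, 7, 4, 3, 4, 0, 4, 0] (by decide)
  intro j hj
  exact checkPlanes_sound nets 17 _ 17 0 pl1_0 j (by omega) (by omega)

theorem fix2 : ∀ x < 122760, tr A [0, 5, 4, 0, 4, 5, 0, 5, 4, 0, 4] x = x := by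
  apply fix_of_planes hok (n := 17) (by norm_num) hlt [0, 5, 4, 0, 4, 5, 0, 5, 4, 0, 4] (by decide)
  intro j hj
  exact checkPlanes_sound nets 17 _ 17 0 pl2_0 j (by omega) (by omega)

theorem fix3 : ∀ x < 122760, tr A [5, 5] x = x := by
  apply fix_of_planes hok (n := 17) (by norm_num) hlt [5, 5] (by decide)
  intro j hj
  exact checkPlanes_sound nets 17 _ 17 0 pl3_0 j (by omega) (by omega)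

theorem fix4 : ∀ x < 122760, tr A [4, 4] x = x := by
  apply fix_of_planes hok (n := 17) (by norm_num) hlt [4, 4] (by decide)
  intro j hj
  exact checkPlanes_sound nets 17 _ 17 0 pl4_0 j (by omega) (by omega)

theorem fix5 : ∀ x < 122760, tr A [6, 6] x = x := by
  apply fix_of_planes hok (n := 17) (by norm_num) hlt [6, 6] (by decide)
  intro j hj
  exact checkPlanes_sound nets 17 _ 17 0 pl5_0 j (by omega) (by omega)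

theorem fix6 : ∀ x < 122760, tr A [0, 7] x = x := by
  apply fix_of_planes hok (n := 17) (by norm_num) hlt [0, 7] (by decide)
  intro j hj
  exact checkPlanes_sound nets 17 _ 17 0 pl6_0 j (by omega) (by omega)

theorem fix7 : ∀ x < 122760, tr A [3, 5, 3, 5] x = x := by
  apply fix_of_planes hok (n := 17) (by norm_num) hlt [3, 5, 3, 5] (by decide)
  intro j hj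
  exact checkPlanes_sound nets 17 _ 17 0 pl7_0 j (by omega) (by omega)

theorem fix8 : ∀ x < 122760, tr A [7, 0] x = x := by
  apply fix_of_planes hok (n := 17) (by norm_num) hlt [7, 0] (by decide)
  intro j hj
  exact checkPlanes_sound nets 17 _ 17 0 pl8_0 j (by omega) (by omega)

theorem fix9 : ∀ x < 122760, tr A [3, 3] x = x := by
  apply fix_of_planes hok (n := 17) (by norm_num) hlt [3, 3] (by decide)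
  intro j hj
  exact checkPlanes_sound nets 17 _ 17 0 pl9_0 j (by omega) (by omega)

theorem fix10 : ∀ x < 122760, tr A [4, 7, 3, 7, 3, 4, 3, 0, 3, 0] x = x := by
  apply fix_of_planes hok (n := 17) (by norm_num) hlt [4, 7, 3, 7, 3, 4, 3, 0, 3, 0] (by decide)
  intro j hj
  exact checkPlanes_sound nets 17 _ 17 0 pl10_0 j (by omega) (by omega)

theorem fix11 : ∀ x < 122760, tr A [2, 5, 2, 5] x = x := by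
  apply fix_of_planes hok (n := 17) (by norm_num) hlt [2, 5, 2, 5] (by decide)
  intro j hj
  exact checkPlanes_sound nets 17 _ 17 0 pl11_0 j (by omega) (by omega)

theorem fix12 : ∀ x < 122760, tr A [0, 2, 3, 0, 3, 2, 0, 2, 3, 0, 3] x = x := by
  apply fix_of_planes hok (n := 17) (by norm_num) hlt [0, 2, 3, 0, 3, 2, 0, 2, 3, 0, 3] (by decide)
  intro j hj
  exact checkPlanes_sound nets 17 _ 17 0 pl12_0 j (by omega) (by omega)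

theorem fix13 : ∀ x < 122760, tr A [4, 6, 4, 6] x = x := by
  apply fix_of_planes hok (n := 17) (by norm_num) hlt [4, 6, 4, 6] (by decide)
  intro j hj
  exact checkPlanes_sound nets 17 _ 17 0 pl13_0 j (by omega) (by omega)

theorem fix14 : ∀ x < 122760, tr A [2, 4, 2, 4] x = x := by
  apply fix_of_planes hok (n := 17) (by norm_num) hlt [2, 4, 2, 4] (by decide)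
  intro j hj
  exact checkPlanes_sound nets 17 _ 17 0 pl14_0 j (by omega) (by omega)

theorem fix15 : ∀ x < 122760, tr A [2, 2] x = x := by
  apply fix_of_planes hok (n := 17) (by norm_num) hlt [2, 2] (by decide)
  intro j hj
  exact checkPlanes_sound nets 17 _ 17 0 pl15_0 j (by omega) (by omega)

theorem fix16 : ∀ x < 122760, tr A [3, 6, 3, 6] x = x := by
  apply fix_of_planes hok (n := 17) (by norm_num) hlt [3, 6, 3, 6] (by decide)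
  intro j hj
  exact checkPlanes_sound nets 17 _ 17 0 pl16_0 j (by omega) (by omega)

theorem fix17 : ∀ x < 122760, tr A [1, 5, 1, 5] x = x := by
  apply fix_of_planes hok (n := 17) (by norm_num) hlt [1, 5, 1, 5] (by decide)
  intro j hj
  exact checkPlanes_sound nets 17 _ 17 0 pl17_0 j (by omega) (by omega)

theorem fix18 : ∀ x < 122760, tr A [1, 1] x = x := by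
  apply fix_of_planes hok (n := 17) (by norm_num) hlt [1, 1] (by decide)
  intro j hj
  exact checkPlanes_sound nets 17 _ 17 0 pl18_0 j (by omega) (by omega)

theorem fix19 : ∀ x < 122760, tr A [1, 4, 1, 4] x = x := by
  apply fix_of_planes hok (n := 17) (by norm_num) hlt [1, 4, 1, 4] (by decide)
  intro j hj
  exact checkPlanes_sound nets 17 _ 17 0 pl19_0 j (by omega) (by omega)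

theorem fix20 : ∀ x < 122760, tr A [2, 6, 2, 6] x = x := by
  apply fix_of_planes hok (n := 17) (by norm_num) hlt [2, 6, 2, 6] (by decide)
  intro j hj
  exact checkPlanes_sound nets 17 _ 17 0 pl20_0 j (by omega) (by omega)

theorem fix21 : ∀ x < 122760, tr A [1, 6, 1, 6] x = x := by
  apply fix_of_planes hok (n := 17) (by norm_num) hlt [1, 6, 1, 6] (by decide)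
  intro j hj
  exact checkPlanes_sound nets 17 _ 17 0 pl21_0 j (by omega) (by omega)

theorem fix22 : ∀ x < 122760, tr A [1, 3, 1, 3] x = x := by
  apply fix_of_planes hok (n := 17) (by norm_num) hlt [1, 3, 1, 3] (by decide)
  intro j hj
  exact checkPlanes_sound nets 17 _ 17 0 pl22_0 j (by omega) (by omega)

theorem fix23 : ∀ x < 122760, tr A [4, 5, 4, 5, 4, 5] x = x := by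
  apply fix_of_planes hok (n := 17) (by norm_num) hlt [4, 5, 4, 5, 4, 5] (by decide)
  intro j hj
  exact checkPlanes_sound nets 17 _ 17 0 pl23_0 j (by omega) (by omega)

theorem fix24 : ∀ x < 122760, tr A [5, 6, 5, 6, 5, 6] x = x := by
  apply fix_of_planes hok (n := 17) (by norm_num) hlt [5, 6, 5, 6, 5, 6] (by decide)
  intro j hj
  exact checkPlanes_sound nets 17 _ 17 0 pl24_0 j (by omega) (by omega)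

theorem fix25 : ∀ x < 122760, tr A [2, 3, 2, 3, 2, 3] x = x := by
  apply fix_of_planes hok (n := 17) (by norm_num) hlt [2, 3, 2, 3, 2, 3] (by decide)
  intro j hj
  exact checkPlanes_sound nets 17 _ 17 0 pl25_0 j (by omega) (by omega)

theorem fix26 : ∀ x < 122760, tr A [1, 2, 1, 2, 1, 2] x = x := by
  apply fix_of_planes hok (n := 17) (by norm_num) hlt [1, 2, 1, 2, 1, 2] (by decide)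
  intro j hj
  exact checkPlanes_sound nets 17 _ 17 0 pl26_0 j (by omega) (by omega)

theorem fix27 : ∀ x < 122760, tr A [1, 6, 4, 3, 4, 3, 4, 3, 4, 3] x = x := by
  apply fix_of_planes hok (n := 17) (by norm_num) hlt [1, 6, 4, 3, 4, 3, 4, 3, 4, 3] (by decide)
  intro j hj
  exact checkPlanes_sound nets 17 _ 17 0 pl27_0 j (by omega) (by omega)

theorem fix28 : ∀ x < 122760, tr A [3, 4, 3, 4, 3, 4, 3, 4, 3, 4, 3, 4, 3, 4, 3, 4] x = x := by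
  apply fix_of_planes hok (n := 17) (by norm_num) hlt [3, 4, 3, 4, 3, 4, 3, 4, 3, 4, 3, 4, 3, 4, 3, 4] (by decide)
  intro j hj
  exact checkPlanes_sound nets 17 _ 17 0 pl28_0 j (by omega) (by omega)

theorem fix29 : ∀ x < 122760, tr A [2, 3, 4, 0, 2, 3, 4, 0, 2, 3, 4, 0, 2, 3, 4, 0, 2, 3, 4, 0] x = x := by
  apply fix_of_planes hok (n := 17) (by norm_num) hlt [2, 3, 4, 0, 2, 3, 4, 0, 2, 3, 4, 0, 2, 3, 4, 0, 2, 3, 4, 0] (by decide)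
  intro j hj
  exact checkPlanes_sound nets 17 _ 17 0 pl29_0 j (by omega) (by omega)

theorem fixJ0 : ∀ x < 122760, tr A [1, 1] x = x := by
  apply fix_of_planes hok (n := 17) (by norm_num) hlt [1, 1] (by decide)
  intro j hj
  exact checkPlanes_sound nets 17 _ 17 0 plJ0_0 j (by omega) (by omega)

theorem fixJ1 : ∀ x < 122760, tr A [4, 0, 4, 2, 1, 3, 2, 4, 5, 3, 6, 2, 1, 4, 3, 4, 0, 2, 3, 5, 1, 2, 1, 2, 2, 1, 5, 3, 2, 7, 4, 3, 4, 1, 2, 6, 3, 5, 4, 2, 3, 1, 2, 4, 7, 4, 4, 0, 4, 2, 1, 3, 2, 4, 5, 3, 6, 2, 1, 4, 3, 4, 0, 2, 3, 5, 1, 2, 1, 2, 2, 1, 5, 3, 2, 7, 4, 3, 4, 1, 2, 6, 3, 5, 4, 2, 3, 1, 2, 4, 7, 4, 4, 0, 4, 2, 1, 3, 2, 4, 5, 3, 6, 2, 1, 4, 3, 4, 0, 2, 3, 5, 1, 2, 1, 2, 2, 1, 5, 3, 2, 7, 4, 3, 4, 1, 2, 6,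 3, 5, 4, 2, 3, 1, 2, 4, 7, 4] x = x := by
  apply fix_of_planes hok (n := 17) (by norm_num) hlt [4, 0, 4, 2, 1, 3, 2, 4, 5, 3, 6, 2, 1, 4, 3, 4, 0, 2, 3, 5, 1, 2, 1, 2, 2, 1, 5, 3, 2, 7, 4, 3, 4, 1, 2, 6, 3, 5, 4, 2, 3, 1, 2, 4, 7, 4, 4, 0, 4, 2, 1, 3, 2, 4, 5, 3, 6, 2, 1, 4, 3, 4, 0, 2, 3, 5, 1, 2, 1, 2, 2, 1, 5, 3, 2, 7, 4, 3, 4, 1, 2, 6, 3, 5, 4, 2, 3, 1, 2, 4, 7, 4, 4, 0, 4, 2, 1, 3, 2, 4, 5, 3, 6, 2, 1, 4, 3, 4, 0, 2, 3, 5, 1, 2, 1, 2, 2, 1, 5, 3, 2, 7, 4, 3, 4, 1, 2, 6, 3, 5, 4, 2, 3, 1, 2, 4, 7, 4] (by decide)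
  intro j hj
  rcases Nat.lt_or_ge j 3 with h0 | h0
  · exact checkPlanes_sound nets 17 _ 3 0 plJ1_0 j (by omega) (by omega)
  rcases Nat.lt_or_ge j 6 with h1 | h1
  · exact checkPlanes_sound nets 17 _ 3 3 plJ1_1 j (by omega) (by omega)
  rcases Nat.lt_or_ge j 9 with h2 | h2
  · exact checkPlanes_sound nets 17 _ 3 6 plJ1_2 j (by omega) (by omega)
  rcases Nat.lt_or_ge j 12 with h3 | h3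
  · exact checkPlanes_sound nets 17 _ 3 9 plJ1_3 j (by omega) (by omega)
  rcases Nat.lt_or_ge j 15 with h4 | h4
  · exact checkPlanes_sound nets 17 _ 3 12 plJ1_4 j (by omega) (by omega)
  exact checkPlanes_sound nets 17 _ 2 15 plJ1_5 j (by omega) (by omega)

theorem fixJ2 : ∀ x < 122760, tr A [1, 4, 0, 4, 2, 1, 3, 2, 4, 5, 3, 6, 2, 1, 4, 3, 4, 0, 2, 3, 5, 1, 2, 1, 2, 2, 1, 5, 3, 2, 7, 4, 3, 4, 1, 2, 6, 3, 5, 4, 2, 3, 1, 2, 4, 7, 4, 1, 4, 0, 4, 2, 1, 3, 2, 4, 5, 3, 6, 2, 1, 4, 3, 4, 0, 2, 3, 5, 1, 2, 1, 2, 2, 1, 5, 3, 2, 7, 4, 3, 4, 1, 2, 6, 3, 5, 4, 2, 3, 1, 2, 4, 7, 4, 1, 4, 0, 4, 2, 1, 3, 2, 4, 5, 3, 6, 2, 1, 4, 3, 4, 0, 2, 3, 5, 1, 2, 1, 2, 2, 1, 5, 3, 2, 7, 4, 3, 4, 1, 2, 6, 3, 5, 4, 2, 3, 1, 2, 4, 7, 4,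 1, 4, 0, 4, 2, 1, 3, 2, 4, 5, 3, 6, 2, 1, 4, 3, 4, 0, 2, 3, 5, 1, 2, 1, 2, 2, 1, 5, 3, 2, 7, 4, 3, 4, 1, 2, 6, 3, 5, 4, 2, 3, 1, 2, 4, 7, 4, 1, 4, 0, 4, 2, 1, 3, 2, 4, 5, 3, 6, 2, 1, 4, 3, 4, 0, 2, 3, 5, 1, 2, 1, 2, 2, 1, 5, 3, 2, 7, 4, 3, 4, 1, 2, 6, 3, 5, 4, 2, 3, 1, 2, 4, 7, 4, 1, 4, 0, 4, 2, 1, 3, 2, 4, 5, 3, 6, 2, 1, 4, 3, 4, 0, 2, 3, 5, 1, 2, 1, 2, 2, 1, 5, 3, 2, 7, 4, 3, 4, 1, 2, 6, 3, 5, 4, 2, 3, 1, 2, 4, 7, 4, 1, 4, 0, 4, 2, 1, 3, 2, 4, 5, 3, 6, 2, 1, 4, 3, 4, 0, 2, 3, 5, 1, 2, 1, 2, 2, 1, 5, 3, 2, 7, 4, 3, 4, 1, 2, 6, 3, 5, 4, 2, 3, 1, 2, 4, 7, 4] x = x := by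
  apply fix_of_planes hok (n := 17) (by norm_num) hlt [1, 4, 0, 4, 2, 1, 3, 2, 4, 5, 3, 6, 2, 1, 4, 3, 4, 0, 2, 3, 5, 1, 2, 1, 2, 2, 1, 5, 3, 2, 7, 4, 3, 4, 1, 2, 6, 3, 5, 4, 2, 3, 1, 2, 4, 7, 4, 1, 4, 0, 4, 2, 1, 3, 2, 4, 5, 3, 6, 2, 1, 4, 3, 4, 0, 2, 3, 5, 1, 2, 1, 2, 2, 1, 5, 3, 2, 7, 4, 3, 4, 1, 2, 6, 3, 5, 4, 2, 3, 1, 2, 4, 7, 4, 1, 4, 0, 4, 2, 1, 3, 2, 4, 5, 3, 6, 2, 1, 4, 3, 4, 0, 2, 3, 5, 1, 2, 1, 2, 2, 1, 5, 3, 2, 7, 4, 3, 4, 1, 2, 6, 3, 5, 4, 2, 3, 1, 2, 4, 7, 4, 1, 4, 0, 4, 2, 1, 3, 2, 4, 5, 3, 6, 2, 1, 4, 3, 4, 0, 2, 3, 5, 1, 2, 1, 2, 2, 1, 5, 3, 2, 7, 4, 3, 4, 1, 2, 6, 3, 5, 4, 2, 3, 1, 2, 4, 7, 4, 1, 4, 0, 4, 2, 1, 3, 2, 4, 5, 3, 6, 2, 1, 4, 3, 4, 0, 2, 3, 5, 1, 2, 1, 2, 2, 1, 5, 3, 2, 7, 4, 3, 4,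 1, 2, 6, 3, 5, 4, 2, 3, 1, 2, 4, 7, 4, 1, 4, 0, 4, 2, 1, 3, 2, 4, 5, 3, 6, 2, 1, 4, 3, 4, 0, 2, 3, 5, 1, 2, 1, 2, 2, 1, 5, 3, 2, 7, 4, 3, 4, 1, 2, 6, 3, 5, 4, 2, 3, 1, 2, 4, 7, 4, 1, 4, 0, 4, 2, 1, 3, 2, 4, 5, 3, 6, 2, 1, 4, 3, 4, 0, 2, 3, 5, 1, 2, 1, 2, 2, 1, 5, 3, 2, 7, 4, 3, 4, 1, 2, 6, 3, 5, 4, 2, 3, 1, 2, 4, 7, 4] (by decide)
  intro j hj
  rcases Nat.lt_or_ge j 1 with h0 | h0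
  · exact checkPlanes_sound nets 17 _ 1 0 plJ2_0 j (by omega) (by omega)
  rcases Nat.lt_or_ge j 2 with h1 | h1
  · exact checkPlanes_sound nets 17 _ 1 1 plJ2_1 j (by omega) (by omega)
  rcases Nat.lt_or_ge j 3 with h2 | h2
  · exact checkPlanes_sound nets 17 _ 1 2 plJ2_2 j (by omega) (by omega)
  rcases Nat.lt_or_ge j 4 with h3 | h3
  · exact checkPlanes_sound nets 17 _ 1 3 plJ2_3 j (by omega) (by omega)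
  rcases Nat.lt_or_ge j 5 with h4 | h4
  · exact checkPlanes_sound nets 17 _ 1 4 plJ2_4 j (by omega) (by omega)
  rcases Nat.lt_or_ge j 6 with h5 | h5
  · exact checkPlanes_sound nets 17 _ 1 5 plJ2_5 j (by omega) (by omega)
  rcases Nat.lt_or_ge j 7 with h6 | h6
  · exact checkPlanes_sound nets 17 _ 1 6 plJ2_6 j (by omega) (by omega)
  rcases Nat.lt_or_ge j 8 with h7 | h7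
  · exact checkPlanes_sound nets 17 _ 1 7 plJ2_7 j (by omega) (by omega)
  rcases Nat.lt_or_ge j 9 with h8 | h8
  · exact checkPlanes_sound nets 17 _ 1 8 plJ2_8 j (by omega) (by omega)
  rcases Nat.lt_or_ge j 10 with h9 | h9
  · exact checkPlanes_sound nets 17 _ 1 9 plJ2_9 j (by omega) (by omega)
  rcases Nat.lt_or_ge j 11 with h10 | h10
  · exact checkPlanes_sound nets 17 _ 1 10 plJ2_10 j (by omega) (by omega)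
  rcases Nat.lt_or_ge j 12 with h11 | h11
  · exact checkPlanes_sound nets 17 _ 1 11 plJ2_11 j (by omega) (by omega)
  rcases Nat.lt_or_ge j 13 with h12 | h12
  · exact checkPlanes_sound nets 17 _ 1 12 plJ2_12 j (by omega) (by omega)
  rcases Nat.lt_or_ge j 14 with h13 | h13
  · exact checkPlanes_sound nets 17 _ 1 13 plJ2_13 j (by omega) (by omega)
  rcases Nat.lt_or_ge j 15 with h14 | h14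
  · exact checkPlanes_sound nets 17 _ 1 14 plJ2_14 j (by omega) (by omega)
  rcases Nat.lt_or_ge j 16 with h15 | h15
  · exact checkPlanes_sound nets 17 _ 1 15 plJ2_15 j (by omega) (by omega)
  exact checkPlanes_sound nets 17 _ 1 16 plJ2_16 j (by omega) (by omega)

theorem fixJ3 : ∀ x < 122760, tr A [1, 4, 0, 4, 2, 1, 3, 2, 4, 5, 3, 6, 2, 1, 4, 3, 4, 0, 2, 3, 5, 1, 2, 1, 2, 2, 1, 5, 3, 2, 7, 4, 3, 4, 1, 2, 6, 3, 5, 4, 2, 3, 1, 2, 4, 7, 4, 1, 4, 0, 4, 2, 1, 3, 2, 4, 5, 3, 6, 2, 1, 4, 3, 4, 0, 2, 3, 5, 1, 2, 1, 2, 2, 1, 5, 3, 2, 7, 4, 3, 4, 1, 2, 6, 3, 5, 4, 2, 3, 1, 2, 4, 7, 4, 1, 4, 0, 4, 2, 1, 3, 2, 4, 5, 3, 6, 2, 1, 4, 3, 4, 0, 2, 3, 5, 1, 2, 2, 1, 2, 1, 5, 3, 2, 7, 4, 3, 4, 1, 2, 6, 3, 5, 4, 2, 3, 1, 2, 4,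 7, 4, 1, 4, 0, 4, 2, 1, 3, 2, 4, 5, 3, 6, 2, 1, 4, 3, 4, 0, 2, 3, 5, 1, 2, 1, 2, 2, 1, 5, 3, 2, 7, 4, 3, 4, 1, 2, 6, 3, 5, 4, 2, 3, 1, 2, 4, 7, 4, 1, 4, 0, 4, 2, 1, 3, 2, 4, 5, 3, 6, 2, 1, 4, 3, 4, 0, 2, 3, 5, 1, 2, 2, 1, 2, 1, 5, 3, 2, 7, 4, 3, 4, 1, 2, 6, 3, 5, 4, 2, 3, 1, 2, 4, 7, 4, 1, 4, 0, 4, 2, 1, 3, 2, 4, 5, 3, 6, 2, 1, 4, 3, 4, 0, 2, 3, 5, 1, 2, 1, 2, 2, 1, 5, 3, 2, 7, 4, 3, 4, 1, 2, 6, 3, 5, 4, 2, 3, 1, 2, 4, 7, 4, 1, 4, 0, 4, 2, 1, 3, 2, 4, 5, 3, 6, 2, 1, 4, 3, 4, 0, 2, 3, 5, 1, 2, 2, 1, 2, 1, 5, 3, 2, 7, 4, 3, 4, 1, 2, 6, 3, 5, 4, 2, 3, 1, 2, 4, 7, 4, 1, 4, 0, 4, 2, 1, 3, 2, 4, 5, 3, 6, 2, 1, 4, 3, 4, 0, 2, 3, 5, 1, 2, 1, 2, 2, 1, 5, 3, 2, 7, 4, 3, 4, 1, 2, 6, 3, 5, 4, 2, 3, 1, 2, 4, 7, 4, 1, 4, 0,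 4, 2, 1, 3, 2, 4, 5, 3, 6, 2, 1, 4, 3, 4, 0, 2, 3, 5, 1, 2, 1, 2, 2, 1, 5, 3, 2, 7, 4, 3, 4, 1, 2, 6, 3, 5, 4, 2, 3, 1, 2, 4, 7, 4, 1, 4, 0, 4, 2, 1, 3, 2, 4, 5, 3, 6, 2, 1, 4, 3, 4, 0, 2, 3, 5, 1, 2, 2, 1, 2, 1, 5, 3, 2, 7, 4, 3, 4, 1, 2, 6, 3, 5, 4, 2, 3, 1, 2, 4, 7, 4, 1, 4, 0, 4, 2, 1, 3, 2, 4, 5, 3, 6, 2, 1, 4, 3, 4, 0, 2, 3, 5, 1, 2, 1, 2, 2, 1, 5, 3, 2, 7, 4, 3, 4, 1, 2, 6, 3, 5, 4, 2, 3, 1, 2, 4, 7, 4, 1, 4, 0, 4, 2, 1, 3, 2, 4, 5, 3, 6, 2, 1, 4, 3, 4, 0, 2, 3, 5, 1, 2, 2, 1, 2, 1, 5, 3, 2, 7, 4, 3, 4, 1, 2, 6, 3, 5, 4, 2, 3, 1, 2, 4, 7, 4, 1, 4, 0, 4, 2, 1, 3, 2, 4, 5, 3, 6, 2, 1, 4, 3, 4, 0, 2, 3, 5, 1, 2, 1, 2, 2, 1, 5, 3, 2, 7, 4, 3, 4, 1, 2, 6, 3, 5, 4, 2, 3, 1, 2, 4, 7, 4, 1, 4, 0, 4, 2, 1, 3, 2,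 4, 5, 3, 6, 2, 1, 4, 3, 4, 0, 2, 3, 5, 1, 2, 2, 1, 2, 1, 5, 3, 2, 7, 4, 3, 4, 1, 2, 6, 3, 5, 4, 2, 3, 1, 2, 4, 7, 4, 1, 4, 0, 4, 2, 1, 3, 2, 4, 5, 3, 6, 2, 1, 4, 3, 4, 0, 2, 3, 5, 1, 2, 1, 2, 2, 1, 5, 3, 2, 7, 4, 3, 4, 1, 2, 6, 3, 5, 4, 2, 3, 1, 2, 4, 7, 4, 1, 4, 0, 4, 2, 1, 3, 2, 4, 5, 3, 6, 2, 1, 4, 3, 4, 0, 2, 3, 5, 1, 2, 1, 2, 2, 1, 5, 3, 2, 7, 4, 3, 4, 1, 2, 6, 3, 5, 4, 2, 3, 1, 2, 4, 7, 4, 1, 4, 0, 4, 2, 1, 3, 2, 4, 5, 3, 6, 2, 1, 4, 3, 4, 0, 2, 3, 5, 1, 2, 2, 1, 2, 1, 5, 3, 2, 7, 4, 3, 4, 1, 2, 6, 3, 5, 4, 2, 3, 1, 2, 4, 7, 4, 1, 4, 0, 4, 2, 1, 3, 2, 4, 5, 3, 6, 2, 1, 4, 3, 4, 0, 2, 3, 5, 1, 2, 1, 2, 2, 1, 5, 3, 2, 7, 4, 3, 4, 1, 2, 6, 3, 5, 4, 2, 3, 1, 2, 4, 7, 4, 1, 4, 0, 4, 2, 1, 3, 2, 4, 5, 3, 6, 2,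 1, 4, 3, 4, 0, 2, 3, 5, 1, 2, 2, 1, 2, 1, 5, 3, 2, 7, 4, 3, 4, 1, 2, 6, 3, 5, 4, 2, 3, 1, 2, 4, 7, 4, 1, 4, 0, 4, 2, 1, 3, 2, 4, 5, 3, 6, 2, 1, 4, 3, 4, 0, 2, 3, 5, 1, 2, 1, 2, 2, 1, 5, 3, 2, 7, 4, 3, 4, 1, 2, 6, 3, 5, 4, 2, 3, 1, 2, 4, 7, 4, 1, 4, 0, 4, 2, 1, 3, 2, 4, 5, 3, 6, 2, 1, 4, 3, 4, 0, 2, 3, 5, 1, 2, 2, 1, 2, 1, 5, 3, 2, 7, 4, 3, 4, 1, 2, 6, 3, 5, 4, 2, 3, 1, 2, 4, 7, 4, 1, 4, 0, 4, 2, 1, 3, 2, 4, 5, 3, 6, 2, 1, 4, 3, 4, 0, 2, 3, 5, 1, 2, 1, 2, 2, 1, 5, 3, 2, 7, 4, 3, 4, 1, 2, 6, 3, 5, 4, 2, 3, 1, 2, 4, 7, 4, 1, 4, 0, 4, 2, 1, 3, 2, 4, 5, 3, 6, 2, 1, 4, 3, 4, 0, 2, 3, 5, 1, 2, 1, 2, 2, 1, 5, 3, 2, 7, 4, 3, 4, 1, 2, 6, 3, 5, 4, 2, 3, 1, 2, 4, 7, 4, 1, 4, 0, 4, 2, 1, 3, 2, 4, 5, 3, 6, 2, 1, 4, 3, 4, 0,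 2, 3, 5, 1, 2, 2, 1, 2, 1, 5, 3, 2, 7, 4, 3, 4, 1, 2, 6, 3, 5, 4, 2, 3, 1, 2, 4, 7, 4, 1, 4, 0, 4, 2, 1, 3, 2, 4, 5, 3, 6, 2, 1, 4, 3, 4, 0, 2, 3, 5, 1, 2, 1, 2, 2, 1, 5, 3, 2, 7, 4, 3, 4, 1, 2, 6, 3, 5, 4, 2, 3, 1, 2, 4, 7, 4, 1, 4, 0, 4, 2, 1, 3, 2, 4, 5, 3, 6, 2, 1, 4, 3, 4, 0, 2, 3, 5, 1, 2, 2, 1, 2, 1, 5, 3, 2, 7, 4, 3, 4, 1, 2, 6, 3, 5, 4, 2, 3, 1, 2, 4, 7, 4, 1, 4, 0, 4, 2, 1, 3, 2, 4, 5, 3, 6, 2, 1, 4, 3, 4, 0, 2, 3, 5, 1, 2, 1, 2, 2, 1, 5, 3, 2, 7, 4, 3, 4, 1, 2, 6, 3, 5, 4, 2, 3, 1, 2, 4, 7, 4, 1, 4, 0, 4, 2, 1, 3, 2, 4, 5, 3, 6, 2, 1, 4, 3, 4, 0, 2, 3, 5, 1, 2, 2, 1, 2, 1, 5, 3, 2, 7, 4, 3, 4, 1, 2, 6, 3, 5, 4, 2, 3, 1, 2, 4, 7, 4, 1, 4, 0, 4, 2, 1, 3, 2, 4, 5, 3, 6, 2, 1, 4, 3, 4, 0, 2, 3, 5, 1, 2,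 1, 2, 2, 1, 5, 3, 2, 7, 4, 3, 4, 1, 2, 6, 3, 5, 4, 2, 3, 1, 2, 4, 7, 4, 1, 4, 0, 4, 2, 1, 3, 2, 4, 5, 3, 6, 2, 1, 4, 3, 4, 0, 2, 3, 5, 1, 2, 1, 2, 2, 1, 5, 3, 2, 7, 4, 3, 4, 1, 2, 6, 3, 5, 4, 2, 3, 1, 2, 4, 7, 4, 1, 4, 0, 4, 2, 1, 3, 2, 4, 5, 3, 6, 2, 1, 4, 3, 4, 0, 2, 3, 5, 1, 2, 2, 1, 2, 1, 5, 3, 2, 7, 4, 3, 4, 1, 2, 6, 3, 5, 4, 2, 3, 1, 2, 4, 7, 4, 1, 4, 0, 4, 2, 1, 3, 2, 4, 5, 3, 6, 2, 1, 4, 3, 4, 0, 2, 3, 5, 1, 2, 1, 2, 2, 1, 5, 3, 2, 7, 4, 3, 4, 1, 2, 6, 3, 5, 4, 2, 3, 1, 2, 4, 7, 4, 1, 4, 0, 4, 2, 1, 3, 2, 4, 5, 3, 6, 2, 1, 4, 3, 4, 0, 2, 3, 5, 1, 2, 2, 1, 2, 1, 5, 3, 2, 7, 4, 3, 4, 1, 2, 6, 3, 5, 4, 2, 3, 1, 2, 4, 7, 4, 1, 4, 0, 4, 2, 1, 3, 2, 4, 5, 3, 6, 2, 1, 4, 3, 4, 0, 2, 3, 5, 1, 2, 1, 2, 2, 1, 5,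 3, 2, 7, 4, 3, 4, 1, 2, 6, 3, 5, 4, 2, 3, 1, 2, 4, 7, 4, 1, 4, 0, 4, 2, 1, 3, 2, 4, 5, 3, 6, 2, 1, 4, 3, 4, 0, 2, 3, 5, 1, 2, 2, 1, 2, 1, 5, 3, 2, 7, 4, 3, 4, 1, 2, 6, 3, 5, 4, 2, 3, 1, 2, 4, 7, 4] x = x := by
  apply fix_of_planes hok (n := 17) (by norm_num) hlt [1, 4, 0, 4, 2, 1, 3, 2, 4, 5, 3, 6, 2, 1, 4, 3, 4, 0, 2, 3, 5, 1, 2, 1, 2, 2, 1, 5, 3, 2, 7, 4, 3, 4, 1, 2, 6, 3, 5, 4, 2, 3, 1, 2, 4, 7, 4, 1, 4, 0, 4, 2, 1, 3, 2, 4, 5, 3, 6, 2, 1, 4, 3, 4, 0, 2, 3, 5, 1, 2, 1, 2, 2, 1, 5, 3, 2, 7, 4, 3, 4, 1, 2, 6, 3, 5, 4, 2, 3, 1, 2, 4, 7, 4, 1, 4, 0, 4, 2, 1, 3, 2, 4, 5, 3, 6, 2, 1, 4, 3, 4, 0, 2, 3, 5, 1, 2, 2, 1, 2, 1, 5, 3, 2, 7, 4, 3, 4, 1, 2, 6, 3, 5, 4, 2, 3, 1, 2, 4, 7, 4, 1, 4, 0, 4, 2, 1, 3, 2, 4, 5, 3,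 6, 2, 1, 4, 3, 4, 0, 2, 3, 5, 1, 2, 1, 2, 2, 1, 5, 3, 2, 7, 4, 3, 4, 1, 2, 6, 3, 5, 4, 2, 3, 1, 2, 4, 7, 4, 1, 4, 0, 4, 2, 1, 3, 2, 4, 5, 3, 6, 2, 1, 4, 3, 4, 0, 2, 3, 5, 1, 2, 2, 1, 2, 1, 5, 3, 2, 7, 4, 3, 4, 1, 2, 6, 3, 5, 4, 2, 3, 1, 2, 4, 7, 4, 1, 4, 0, 4, 2, 1, 3, 2, 4, 5, 3, 6, 2, 1, 4, 3, 4, 0, 2, 3, 5, 1, 2, 1, 2, 2, 1, 5, 3, 2, 7, 4, 3, 4, 1, 2, 6, 3, 5, 4, 2, 3, 1, 2, 4, 7, 4, 1, 4, 0, 4, 2, 1, 3, 2, 4, 5, 3, 6, 2, 1, 4, 3, 4, 0, 2, 3, 5, 1, 2, 2, 1, 2, 1, 5, 3, 2, 7, 4, 3, 4, 1, 2, 6, 3, 5, 4, 2, 3, 1, 2, 4, 7, 4, 1, 4, 0, 4, 2, 1, 3, 2, 4, 5, 3, 6, 2, 1, 4, 3, 4, 0, 2, 3, 5, 1, 2, 1, 2, 2, 1, 5, 3, 2, 7, 4, 3, 4, 1, 2, 6, 3, 5, 4, 2, 3, 1, 2, 4, 7, 4, 1, 4, 0, 4, 2, 1, 3, 2, 4, 5, 3, 6, 2, 1, 4, 3,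 4, 0, 2, 3, 5, 1, 2, 1, 2, 2, 1, 5, 3, 2, 7, 4, 3, 4, 1, 2, 6, 3, 5, 4, 2, 3, 1, 2, 4, 7, 4, 1, 4, 0, 4, 2, 1, 3, 2, 4, 5, 3, 6, 2, 1, 4, 3, 4, 0, 2, 3, 5, 1, 2, 2, 1, 2, 1, 5, 3, 2, 7, 4, 3, 4, 1, 2, 6, 3, 5, 4, 2, 3, 1, 2, 4, 7, 4, 1, 4, 0, 4, 2, 1, 3, 2, 4, 5, 3, 6, 2, 1, 4, 3, 4, 0, 2, 3, 5, 1, 2, 1, 2, 2, 1, 5, 3, 2, 7, 4, 3, 4, 1, 2, 6, 3, 5, 4, 2, 3, 1, 2, 4, 7, 4, 1, 4, 0, 4, 2, 1, 3, 2, 4, 5, 3, 6, 2, 1, 4, 3, 4, 0, 2, 3, 5, 1, 2, 2, 1, 2, 1, 5, 3, 2, 7, 4, 3, 4, 1, 2, 6, 3, 5, 4, 2, 3, 1, 2, 4, 7, 4, 1, 4, 0, 4, 2, 1, 3, 2, 4, 5, 3, 6, 2, 1, 4, 3, 4, 0, 2, 3, 5, 1, 2, 1, 2, 2, 1, 5, 3, 2, 7, 4, 3, 4, 1, 2, 6, 3, 5, 4, 2, 3, 1, 2, 4, 7, 4, 1, 4, 0, 4, 2, 1, 3, 2, 4, 5, 3, 6, 2, 1, 4, 3, 4, 0, 2, 3, 5,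 1, 2, 2, 1, 2, 1, 5, 3, 2, 7, 4, 3, 4, 1, 2, 6, 3, 5, 4, 2, 3, 1, 2, 4, 7, 4, 1, 4, 0, 4, 2, 1, 3, 2, 4, 5, 3, 6, 2, 1, 4, 3, 4, 0, 2, 3, 5, 1, 2, 1, 2, 2, 1, 5, 3, 2, 7, 4, 3, 4, 1, 2, 6, 3, 5, 4, 2, 3, 1, 2, 4, 7, 4, 1, 4, 0, 4, 2, 1, 3, 2, 4, 5, 3, 6, 2, 1, 4, 3, 4, 0, 2, 3, 5, 1, 2, 1, 2, 2, 1, 5, 3, 2, 7, 4, 3, 4, 1, 2, 6, 3, 5, 4, 2, 3, 1, 2, 4, 7, 4, 1, 4, 0, 4, 2, 1, 3, 2, 4, 5, 3, 6, 2, 1, 4, 3, 4, 0, 2, 3, 5, 1, 2, 2, 1, 2, 1, 5, 3, 2, 7, 4, 3, 4, 1, 2, 6, 3, 5, 4, 2, 3, 1, 2, 4, 7, 4, 1, 4, 0, 4, 2, 1, 3, 2, 4, 5, 3, 6, 2, 1, 4, 3, 4, 0, 2, 3, 5, 1, 2, 1, 2, 2, 1, 5, 3, 2, 7, 4, 3, 4, 1, 2, 6, 3, 5, 4, 2, 3, 1, 2, 4, 7, 4, 1, 4, 0, 4, 2, 1, 3, 2, 4, 5, 3, 6, 2, 1, 4, 3, 4, 0, 2, 3, 5, 1, 2, 2, 1, 2,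 1, 5, 3, 2, 7, 4, 3, 4, 1, 2, 6, 3, 5, 4, 2, 3, 1, 2, 4, 7, 4, 1, 4, 0, 4, 2, 1, 3, 2, 4, 5, 3, 6, 2, 1, 4, 3, 4, 0, 2, 3, 5, 1, 2, 1, 2, 2, 1, 5, 3, 2, 7, 4, 3, 4, 1, 2, 6, 3, 5, 4, 2, 3, 1, 2, 4, 7, 4, 1, 4, 0, 4, 2, 1, 3, 2, 4, 5, 3, 6, 2, 1, 4, 3, 4, 0, 2, 3, 5, 1, 2, 2, 1, 2, 1, 5, 3, 2, 7, 4, 3, 4, 1, 2, 6, 3, 5, 4, 2, 3, 1, 2, 4, 7, 4, 1, 4, 0, 4, 2, 1, 3, 2, 4, 5, 3, 6, 2, 1, 4, 3, 4, 0, 2, 3, 5, 1, 2, 1, 2, 2, 1, 5, 3, 2, 7, 4, 3, 4, 1, 2, 6, 3, 5, 4, 2, 3, 1, 2, 4, 7, 4, 1, 4, 0, 4, 2, 1, 3, 2, 4, 5, 3, 6, 2, 1, 4, 3, 4, 0, 2, 3, 5, 1, 2, 1, 2, 2, 1, 5, 3, 2, 7, 4, 3, 4, 1, 2, 6, 3, 5, 4, 2, 3, 1, 2, 4, 7, 4, 1, 4, 0, 4, 2, 1, 3, 2, 4, 5, 3, 6, 2, 1, 4, 3, 4, 0, 2, 3, 5, 1, 2, 2, 1, 2, 1, 5, 3, 2, 7,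 4, 3, 4, 1, 2, 6, 3, 5, 4, 2, 3, 1, 2, 4, 7, 4, 1, 4, 0, 4, 2, 1, 3, 2, 4, 5, 3, 6, 2, 1, 4, 3, 4, 0, 2, 3, 5, 1, 2, 1, 2, 2, 1, 5, 3, 2, 7, 4, 3, 4, 1, 2, 6, 3, 5, 4, 2, 3, 1, 2, 4, 7, 4, 1, 4, 0, 4, 2, 1, 3, 2, 4, 5, 3, 6, 2, 1, 4, 3, 4, 0, 2, 3, 5, 1, 2, 2, 1, 2, 1, 5, 3, 2, 7, 4, 3, 4, 1, 2, 6, 3, 5, 4, 2, 3, 1, 2, 4, 7, 4, 1, 4, 0, 4, 2, 1, 3, 2, 4, 5, 3, 6, 2, 1, 4, 3, 4, 0, 2, 3, 5, 1, 2, 1, 2, 2, 1, 5, 3, 2, 7, 4, 3, 4, 1, 2, 6, 3, 5, 4, 2, 3, 1, 2, 4, 7, 4, 1, 4, 0, 4, 2, 1, 3, 2, 4, 5, 3, 6, 2, 1, 4, 3, 4, 0, 2, 3, 5, 1, 2, 2, 1, 2, 1, 5, 3, 2, 7, 4, 3, 4, 1, 2, 6, 3, 5, 4, 2, 3, 1, 2, 4, 7, 4, 1, 4, 0, 4, 2, 1, 3, 2, 4, 5, 3, 6, 2, 1, 4, 3, 4, 0, 2, 3, 5, 1, 2, 1, 2, 2, 1, 5, 3, 2, 7, 4, 3, 4, 1, 2,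 6, 3, 5, 4, 2, 3, 1, 2, 4, 7, 4, 1, 4, 0, 4, 2, 1, 3, 2, 4, 5, 3, 6, 2, 1, 4, 3, 4, 0, 2, 3, 5, 1, 2, 1, 2, 2, 1, 5, 3, 2, 7, 4, 3, 4, 1, 2, 6, 3, 5, 4, 2, 3, 1, 2, 4, 7, 4, 1, 4, 0, 4, 2, 1, 3, 2, 4, 5, 3, 6, 2, 1, 4, 3, 4, 0, 2, 3, 5, 1, 2, 2, 1, 2, 1, 5, 3, 2, 7, 4, 3, 4, 1, 2, 6, 3, 5, 4, 2, 3, 1, 2, 4, 7, 4, 1, 4, 0, 4, 2, 1, 3, 2, 4, 5, 3, 6, 2, 1, 4, 3, 4, 0, 2, 3, 5, 1, 2, 1, 2, 2, 1, 5, 3, 2, 7, 4, 3, 4, 1, 2, 6, 3, 5, 4, 2, 3, 1, 2, 4, 7, 4, 1, 4, 0, 4, 2, 1, 3, 2, 4, 5, 3, 6, 2, 1, 4, 3, 4, 0, 2, 3, 5, 1, 2, 2, 1, 2, 1, 5, 3, 2, 7, 4, 3, 4, 1, 2, 6, 3, 5, 4, 2, 3, 1, 2, 4, 7, 4, 1, 4, 0, 4, 2, 1, 3, 2, 4, 5, 3, 6, 2, 1, 4, 3, 4, 0, 2, 3, 5, 1, 2, 1, 2, 2, 1, 5, 3, 2, 7, 4, 3, 4, 1, 2, 6, 3, 5, 4, 2,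 3, 1, 2, 4, 7, 4, 1, 4, 0, 4, 2, 1, 3, 2, 4, 5, 3, 6, 2, 1, 4, 3, 4, 0, 2, 3, 5, 1, 2, 2, 1, 2, 1, 5, 3, 2, 7, 4, 3, 4, 1, 2, 6, 3, 5, 4, 2, 3, 1, 2, 4, 7, 4] (by decide)
  intro j hj
  rcases Nat.lt_or_ge j 1 with h0 | h0
  · exact checkPlanes_sound nets 17 _ 1 0 plJ3_0 j (by omega) (by omega)
  rcases Nat.lt_or_ge j 2 with h1 | h1
  · exact checkPlanes_sound nets 17 _ 1 1 plJ3_1 j (by omega) (by omega)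
  rcases Nat.lt_or_ge j 3 with h2 | h2
  · exact checkPlanes_sound nets 17 _ 1 2 plJ3_2 j (by omega) (by omega)
  rcases Nat.lt_or_ge j 4 with h3 | h3
  · exact checkPlanes_sound nets 17 _ 1 3 plJ3_3 j (by omega) (by omega)
  rcases Nat.lt_or_ge j 5 with h4 | h4
  · exact checkPlanes_sound nets 17 _ 1 4 plJ3_4 j (by omega) (by omega)
  rcases Nat.lt_or_ge j 6 with h5 | h5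
  · exact checkPlanes_sound nets 17 _ 1 5 plJ3_5 j (by omega) (by omega)
  rcases Nat.lt_or_ge j 7 with h6 | h6
  · exact checkPlanes_sound nets 17 _ 1 6 plJ3_6 j (by omega) (by omega)
  rcases Nat.lt_or_ge j 8 with h7 | h7
  · exact checkPlanes_sound nets 17 _ 1 7 plJ3_7 j (by omega) (by omega)
  rcases Nat.lt_or_ge j 9 with h8 | h8
  · exact checkPlanes_sound nets 17 _ 1 8 plJ3_8 j (by omega) (by omega)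
  rcases Nat.lt_or_ge j 10 with h9 | h9
  · exact checkPlanes_sound nets 17 _ 1 9 plJ3_9 j (by omega) (by omega)
  rcases Nat.lt_or_ge j 11 with h10 | h10
  · exact checkPlanes_sound nets 17 _ 1 10 plJ3_10 j (by omega) (by omega)
  rcases Nat.lt_or_ge j 12 with h11 | h11
  · exact checkPlanes_sound nets 17 _ 1 11 plJ3_11 j (by omega) (by omega)
  rcases Nat.lt_or_ge j 13 with h12 | h12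
  · exact checkPlanes_sound nets 17 _ 1 12 plJ3_12 j (by omega) (by omega)
  rcases Nat.lt_or_ge j 14 with h13 | h13
  · exact checkPlanes_sound nets 17 _ 1 13 plJ3_13 j (by omega) (by omega)
  rcases Nat.lt_or_ge j 15 with h14 | h14
  · exact checkPlanes_sound nets 17 _ 1 14 plJ3_14 j (by omega) (by omega)
  rcases Nat.lt_or_ge j 16 with h15 | h15
  · exact checkPlanes_sound nets 17 _ 1 15 plJ3_15 j (by omega) (by omega)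
  exact checkPlanes_sound nets 17 _ 1 16 plJ3_16 j (by omega) (by omega)

theorem fixJ4 : ∀ x < 122760, tr A [1, 4, 0, 4, 2, 1, 3, 2, 4, 5, 3, 6, 2, 1, 4, 3, 4, 0, 2, 3, 5, 1, 2, 1, 2, 2, 1, 5, 3, 2, 7, 4, 3, 4, 1, 2, 6, 3, 5, 4, 2, 3, 1, 2, 4, 7, 4, 1, 4, 0, 4, 2, 1, 3, 2, 4, 5, 3, 6, 2, 1, 4, 3, 4, 0, 2, 3, 5, 1, 2, 1, 2, 2, 1, 5, 3, 2, 7, 4, 3, 4, 1, 2, 6, 3, 5, 4, 2, 3, 1, 2, 4, 7, 4, 1, 4, 0, 4, 2, 1, 3, 2, 4, 5, 3, 6, 2, 1, 4, 3, 4, 0, 2, 3, 5, 1, 2, 2, 1, 2, 1, 5, 3, 2, 7, 4, 3, 4, 1, 2, 6, 3, 5, 4, 2, 3, 1, 2, 4, 7, 4, 1, 4, 0, 4, 2, 1, 3, 2, 4, 5, 3, 6, 2, 1, 4, 3, 4, 0, 2, 3, 5, 1, 2, 1, 2, 2, 1, 5, 3, 2, 7, 4, 3, 4, 1, 2, 6, 3, 5, 4, 2, 3, 1, 2, 4, 7, 4, 1, 4, 0, 4, 2, 1, 3, 2, 4, 5, 3, 6, 2, 1, 4,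 3, 4, 0, 2, 3, 5, 1, 2, 2, 1, 2, 1, 5, 3, 2, 7, 4, 3, 4, 1, 2, 6, 3, 5, 4, 2, 3, 1, 2, 4, 7, 4, 1, 4, 0, 4, 2, 1, 3, 2, 4, 5, 3, 6, 2, 1, 4, 3, 4, 0, 2, 3, 5, 1, 2, 1, 2, 2, 1, 5, 3, 2, 7, 4, 3, 4, 1, 2, 6, 3, 5, 4, 2, 3, 1, 2, 4, 7, 4, 1, 4, 0, 4, 2, 1, 3, 2, 4, 5, 3, 6, 2, 1, 4, 3, 4, 0, 2, 3, 5, 1, 2, 2, 1, 2, 1, 5, 3, 2, 7, 4, 3, 4, 1, 2, 6, 3, 5, 4, 2, 3, 1, 2, 4, 7, 4, 1, 4, 0, 4, 2, 1, 3, 2, 4, 5, 3, 6, 2, 1, 4, 3, 4, 0, 2, 3, 5, 1, 2, 1, 2, 2, 1, 5, 3, 2, 7, 4, 3, 4, 1, 2, 6, 3, 5, 4, 2, 3, 1, 2, 4, 7, 4, 1, 4, 0, 4, 2, 1, 3, 2, 4, 5, 3, 6, 2, 1, 4, 3, 4, 0, 2, 3, 5, 1, 2, 2, 1, 2, 1, 5, 3, 2, 7, 4, 3, 4, 1, 2, 6, 3, 5, 4, 2, 3, 1, 2, 4, 7, 4, 1, 4, 0, 4, 2, 1, 3, 2, 4, 5, 3, 6, 2, 1, 4, 3, 4, 0, 2, 3,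 5, 1, 2, 1, 2, 2, 1, 5, 3, 2, 7, 4, 3, 4, 1, 2, 6, 3, 5, 4, 2, 3, 1, 2, 4, 7, 4, 1, 4, 0, 4, 2, 1, 3, 2, 4, 5, 3, 6, 2, 1, 4, 3, 4, 0, 2, 3, 5, 1, 2, 2, 1, 2, 1, 5, 3, 2, 7, 4, 3, 4, 1, 2, 6, 3, 5, 4, 2, 3, 1, 2, 4, 7, 4, 1, 4, 0, 4, 2, 1, 3, 2, 4, 5, 3, 6, 2, 1, 4, 3, 4, 0, 2, 3, 5, 1, 2, 1, 2, 2, 1, 5, 3, 2, 7, 4, 3, 4, 1, 2, 6, 3, 5, 4, 2, 3, 1, 2, 4, 7, 4, 1, 4, 0, 4, 2, 1, 3, 2, 4, 5, 3, 6, 2, 1, 4, 3, 4, 0, 2, 3, 5, 1, 2, 2, 1, 2, 1, 5, 3, 2, 7, 4, 3, 4, 1, 2, 6, 3, 5, 4, 2, 3, 1, 2, 4, 7, 4, 1, 4, 0, 4, 2, 1, 3, 2, 4, 5, 3, 6, 2, 1, 4, 3, 4, 0, 2, 3, 5, 1, 2, 1, 2, 2, 1, 5, 3, 2, 7, 4, 3, 4, 1, 2, 6, 3, 5, 4, 2, 3, 1, 2, 4, 7, 4, 1, 4, 0, 4, 2, 1, 3, 2, 4, 5, 3, 6, 2, 1, 4, 3, 4, 0, 2, 3, 5, 1, 2, 1, 2,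 2, 1, 5, 3, 2, 7, 4, 3, 4, 1, 2, 6, 3, 5, 4, 2, 3, 1, 2, 4, 7, 4, 1, 4, 0, 4, 2, 1, 3, 2, 4, 5, 3, 6, 2, 1, 4, 3, 4, 0, 2, 3, 5, 1, 2, 2, 1, 2, 1, 5, 3, 2, 7, 4, 3, 4, 1, 2, 6, 3, 5, 4, 2, 3, 1, 2, 4, 7, 4, 1, 4, 0, 4, 2, 1, 3, 2, 4, 5, 3, 6, 2, 1, 4, 3, 4, 0, 2, 3, 5, 1, 2, 2, 1, 2, 1, 5, 3, 2, 7, 4, 3, 4, 1, 2, 6, 3, 5, 4, 2, 3, 1, 2, 4, 7, 4, 1, 4, 0, 4, 2, 1, 3, 2, 4, 5, 3, 6, 2, 1, 4, 3, 4, 0, 2, 3, 5, 1, 2, 1, 2, 2, 1, 5, 3, 2, 7, 4, 3, 4, 1, 2, 6, 3, 5, 4, 2, 3, 1, 2, 4, 7, 4, 1, 4, 0, 4, 2, 1, 3, 2, 4, 5, 3, 6, 2, 1, 4, 3, 4, 0, 2, 3, 5, 1, 2, 1, 2, 2, 1, 5, 3, 2, 7, 4, 3, 4, 1, 2, 6, 3, 5, 4, 2, 3, 1, 2, 4, 7, 4, 1, 4, 0, 4, 2, 1, 3, 2, 4, 5, 3, 6, 2, 1, 4, 3, 4, 0, 2, 3, 5, 1, 2, 2, 1, 2, 1, 5, 3, 2,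 7, 4, 3, 4, 1, 2, 6, 3, 5, 4, 2, 3, 1, 2, 4, 7, 4, 1, 4, 0, 4, 2, 1, 3, 2, 4, 5, 3, 6, 2, 1, 4, 3, 4, 0, 2, 3, 5, 1, 2, 1, 2, 2, 1, 5, 3, 2, 7, 4, 3, 4, 1, 2, 6, 3, 5, 4, 2, 3, 1, 2, 4, 7, 4, 1, 4, 0, 4, 2, 1, 3, 2, 4, 5, 3, 6, 2, 1, 4, 3, 4, 0, 2, 3, 5, 1, 2, 2, 1, 2, 1, 5, 3, 2, 7, 4, 3, 4, 1, 2, 6, 3, 5, 4, 2, 3, 1, 2, 4, 7, 4, 1, 4, 0, 4, 2, 1, 3, 2, 4, 5, 3, 6, 2, 1, 4, 3, 4, 0, 2, 3, 5, 1, 2, 1, 2, 2, 1, 5, 3, 2, 7, 4, 3, 4, 1, 2, 6, 3, 5, 4, 2, 3, 1, 2, 4, 7, 4, 1, 4, 0, 4, 2, 1, 3, 2, 4, 5, 3, 6, 2, 1, 4, 3, 4, 0, 2, 3, 5, 1, 2, 2, 1, 2, 1, 5, 3, 2, 7, 4, 3, 4, 1, 2, 6, 3, 5, 4, 2, 3, 1, 2, 4, 7, 4, 1, 4, 0, 4, 2, 1, 3, 2, 4, 5, 3, 6, 2, 1, 4, 3, 4, 0, 2, 3, 5, 1, 2, 1, 2, 2, 1, 5, 3, 2, 7, 4, 3, 4, 1,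 2, 6, 3, 5, 4, 2, 3, 1, 2, 4, 7, 4, 1, 4, 0, 4, 2, 1, 3, 2, 4, 5, 3, 6, 2, 1, 4, 3, 4, 0, 2, 3, 5, 1, 2, 2, 1, 2, 1, 5, 3, 2, 7, 4, 3, 4, 1, 2, 6, 3, 5, 4, 2, 3, 1, 2, 4, 7, 4, 1, 4, 0, 4, 2, 1, 3, 2, 4, 5, 3, 6, 2, 1, 4, 3, 4, 0, 2, 3, 5, 1, 2, 1, 2, 2, 1, 5, 3, 2, 7, 4, 3, 4, 1, 2, 6, 3, 5, 4, 2, 3, 1, 2, 4, 7, 4, 1, 4, 0, 4, 2, 1, 3, 2, 4, 5, 3, 6, 2, 1, 4, 3, 4, 0, 2, 3, 5, 1, 2, 2, 1, 2, 1, 5, 3, 2, 7, 4, 3, 4, 1, 2, 6, 3, 5, 4, 2, 3, 1, 2, 4, 7, 4, 1, 4, 0, 4, 2, 1, 3, 2, 4, 5, 3, 6, 2, 1, 4, 3, 4, 0, 2, 3, 5, 1, 2, 1, 2, 2, 1, 5, 3, 2, 7, 4, 3, 4, 1, 2, 6, 3, 5, 4, 2, 3, 1, 2, 4, 7, 4, 1, 4, 0, 4, 2, 1, 3, 2, 4, 5, 3, 6, 2, 1, 4, 3, 4, 0, 2, 3, 5, 1, 2, 2, 1, 2, 1, 5, 3, 2, 7, 4, 3, 4, 1, 2, 6, 3, 5, 4,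 2, 3, 1, 2, 4, 7, 4, 1, 4, 0, 4, 2, 1, 3, 2, 4, 5, 3, 6, 2, 1, 4, 3, 4, 0, 2, 3, 5, 1, 2, 1, 2, 2, 1, 5, 3, 2, 7, 4, 3, 4, 1, 2, 6, 3, 5, 4, 2, 3, 1, 2, 4, 7, 4, 1, 4, 0, 4, 2, 1, 3, 2, 4, 5, 3, 6, 2, 1, 4, 3, 4, 0, 2, 3, 5, 1, 2, 1, 2, 2, 1, 5, 3, 2, 7, 4, 3, 4, 1, 2, 6, 3, 5, 4, 2, 3, 1, 2, 4, 7, 4, 1, 4, 0, 4, 2, 1, 3, 2, 4, 5, 3, 6, 2, 1, 4, 3, 4, 0, 2, 3, 5, 1, 2, 2, 1, 2, 1, 5, 3, 2, 7, 4, 3, 4, 1, 2, 6, 3, 5, 4, 2, 3, 1, 2, 4, 7, 4, 1, 4, 0, 4, 2, 1, 3, 2, 4, 5, 3, 6, 2, 1, 4, 3, 4, 0, 2, 3, 5, 1, 2, 2, 1, 2, 1, 5, 3, 2, 7, 4, 3, 4, 1, 2, 6, 3, 5, 4, 2, 3, 1, 2, 4, 7, 4] x = x := by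
  apply fix_of_planes hok (n := 17) (by norm_num) hlt [1, 4, 0, 4, 2, 1, 3, 2, 4, 5, 3, 6, 2, 1, 4, 3, 4, 0, 2, 3, 5, 1, 2, 1, 2, 2, 1, 5, 3, 2, 7, 4, 3, 4, 1, 2, 6, 3, 5, 4, 2, 3, 1, 2, 4, 7, 4, 1, 4, 0, 4, 2, 1, 3, 2, 4, 5, 3, 6, 2, 1, 4, 3, 4, 0, 2, 3, 5, 1, 2, 1, 2, 2, 1, 5, 3, 2, 7, 4, 3, 4, 1, 2, 6, 3, 5, 4, 2, 3, 1, 2, 4, 7, 4, 1, 4, 0, 4, 2, 1, 3, 2, 4, 5, 3, 6, 2, 1, 4, 3, 4, 0, 2, 3, 5, 1, 2, 2, 1, 2, 1, 5, 3, 2, 7, 4, 3, 4, 1, 2, 6, 3, 5, 4, 2, 3, 1, 2, 4, 7, 4, 1, 4, 0, 4, 2, 1, 3, 2, 4, 5, 3, 6, 2, 1, 4, 3, 4, 0, 2, 3, 5, 1, 2, 1, 2, 2, 1, 5, 3, 2, 7, 4, 3, 4, 1, 2, 6, 3, 5, 4, 2, 3, 1, 2, 4, 7, 4, 1, 4, 0, 4, 2, 1, 3, 2, 4, 5, 3, 6, 2, 1, 4, 3, 4, 0, 2, 3, 5, 1, 2, 2, 1, 2, 1, 5, 3, 2, 7, 4, 3, 4,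 1, 2, 6, 3, 5, 4, 2, 3, 1, 2, 4, 7, 4, 1, 4, 0, 4, 2, 1, 3, 2, 4, 5, 3, 6, 2, 1, 4, 3, 4, 0, 2, 3, 5, 1, 2, 1, 2, 2, 1, 5, 3, 2, 7, 4, 3, 4, 1, 2, 6, 3, 5, 4, 2, 3, 1, 2, 4, 7, 4, 1, 4, 0, 4, 2, 1, 3, 2, 4, 5, 3, 6, 2, 1, 4, 3, 4, 0, 2, 3, 5, 1, 2, 2, 1, 2, 1, 5, 3, 2, 7, 4, 3, 4, 1, 2, 6, 3, 5, 4, 2, 3, 1, 2, 4, 7, 4, 1, 4, 0, 4, 2, 1, 3, 2, 4, 5, 3, 6, 2, 1, 4, 3, 4, 0, 2, 3, 5, 1, 2, 1, 2, 2, 1, 5, 3, 2, 7, 4, 3, 4, 1, 2, 6, 3, 5, 4, 2, 3, 1, 2, 4, 7, 4, 1, 4, 0, 4, 2, 1, 3, 2, 4, 5, 3, 6, 2, 1, 4, 3, 4, 0, 2, 3, 5, 1, 2, 2, 1, 2, 1, 5, 3, 2, 7, 4, 3, 4, 1, 2, 6, 3, 5, 4, 2, 3, 1, 2, 4, 7, 4, 1, 4, 0, 4, 2, 1, 3, 2, 4, 5, 3, 6, 2, 1, 4, 3, 4, 0, 2, 3, 5, 1, 2, 1, 2, 2, 1, 5, 3, 2, 7, 4, 3, 4, 1, 2, 6, 3, 5,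 4, 2, 3, 1, 2, 4, 7, 4, 1, 4, 0, 4, 2, 1, 3, 2, 4, 5, 3, 6, 2, 1, 4, 3, 4, 0, 2, 3, 5, 1, 2, 2, 1, 2, 1, 5, 3, 2, 7, 4, 3, 4, 1, 2, 6, 3, 5, 4, 2, 3, 1, 2, 4, 7, 4, 1, 4, 0, 4, 2, 1, 3, 2, 4, 5, 3, 6, 2, 1, 4, 3, 4, 0, 2, 3, 5, 1, 2, 1, 2, 2, 1, 5, 3, 2, 7, 4, 3, 4, 1, 2, 6, 3, 5, 4, 2, 3, 1, 2, 4, 7, 4, 1, 4, 0, 4, 2, 1, 3, 2, 4, 5, 3, 6, 2, 1, 4, 3, 4, 0, 2, 3, 5, 1, 2, 2, 1, 2, 1, 5, 3, 2, 7, 4, 3, 4, 1, 2, 6, 3, 5, 4, 2, 3, 1, 2, 4, 7, 4, 1, 4, 0, 4, 2, 1, 3, 2, 4, 5, 3, 6, 2, 1, 4, 3, 4, 0, 2, 3, 5, 1, 2, 1, 2, 2, 1, 5, 3, 2, 7, 4, 3, 4, 1, 2, 6, 3, 5, 4, 2, 3, 1, 2, 4, 7, 4, 1, 4, 0, 4, 2, 1, 3, 2, 4, 5, 3, 6, 2, 1, 4, 3, 4, 0, 2, 3, 5, 1, 2, 1, 2, 2, 1, 5, 3, 2, 7, 4, 3, 4, 1, 2, 6, 3, 5, 4, 2, 3, 1, 2,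 4, 7, 4, 1, 4, 0, 4, 2, 1, 3, 2, 4, 5, 3, 6, 2, 1, 4, 3, 4, 0, 2, 3, 5, 1, 2, 2, 1, 2, 1, 5, 3, 2, 7, 4, 3, 4, 1, 2, 6, 3, 5, 4, 2, 3, 1, 2, 4, 7, 4, 1, 4, 0, 4, 2, 1, 3, 2, 4, 5, 3, 6, 2, 1, 4, 3, 4, 0, 2, 3, 5, 1, 2, 2, 1, 2, 1, 5, 3, 2, 7, 4, 3, 4, 1, 2, 6, 3, 5, 4, 2, 3, 1, 2, 4, 7, 4, 1, 4, 0, 4, 2, 1, 3, 2, 4, 5, 3, 6, 2, 1, 4, 3, 4, 0, 2, 3, 5, 1, 2, 1, 2, 2, 1, 5, 3, 2, 7, 4, 3, 4, 1, 2, 6, 3, 5, 4, 2, 3, 1, 2, 4, 7, 4, 1, 4, 0, 4, 2, 1, 3, 2, 4, 5, 3, 6, 2, 1, 4, 3, 4, 0, 2, 3, 5, 1, 2, 1, 2, 2, 1, 5, 3, 2, 7, 4, 3, 4, 1, 2, 6, 3, 5, 4, 2, 3, 1, 2, 4, 7, 4, 1, 4, 0, 4, 2, 1, 3, 2, 4, 5, 3, 6, 2, 1, 4, 3, 4, 0, 2, 3, 5, 1, 2, 2, 1, 2, 1, 5, 3, 2, 7, 4, 3, 4, 1, 2, 6, 3, 5, 4, 2, 3, 1, 2, 4, 7, 4, 1, 4,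 0, 4, 2, 1, 3, 2, 4, 5, 3, 6, 2, 1, 4, 3, 4, 0, 2, 3, 5, 1, 2, 1, 2, 2, 1, 5, 3, 2, 7, 4, 3, 4, 1, 2, 6, 3, 5, 4, 2, 3, 1, 2, 4, 7, 4, 1, 4, 0, 4, 2, 1, 3, 2, 4, 5, 3, 6, 2, 1, 4, 3, 4, 0, 2, 3, 5, 1, 2, 2, 1, 2, 1, 5, 3, 2, 7, 4, 3, 4, 1, 2, 6, 3, 5, 4, 2, 3, 1, 2, 4, 7, 4, 1, 4, 0, 4, 2, 1, 3, 2, 4, 5, 3, 6, 2, 1, 4, 3, 4, 0, 2, 3, 5, 1, 2, 1, 2, 2, 1, 5, 3, 2, 7, 4, 3, 4, 1, 2, 6, 3, 5, 4, 2, 3, 1, 2, 4, 7, 4, 1, 4, 0, 4, 2, 1, 3, 2, 4, 5, 3, 6, 2, 1, 4, 3, 4, 0, 2, 3, 5, 1, 2, 2, 1, 2, 1, 5, 3, 2, 7, 4, 3, 4, 1, 2, 6, 3, 5, 4, 2, 3, 1, 2, 4, 7, 4, 1, 4, 0, 4, 2, 1, 3, 2, 4, 5, 3, 6, 2, 1, 4, 3, 4, 0, 2, 3, 5, 1, 2, 1, 2, 2, 1, 5, 3, 2, 7, 4, 3, 4, 1, 2, 6, 3, 5, 4, 2, 3, 1, 2, 4, 7, 4, 1, 4, 0, 4, 2, 1, 3,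 2, 4, 5, 3, 6, 2, 1, 4, 3, 4, 0, 2, 3, 5, 1, 2, 2, 1, 2, 1, 5, 3, 2, 7, 4, 3, 4, 1, 2, 6, 3, 5, 4, 2, 3, 1, 2, 4, 7, 4, 1, 4, 0, 4, 2, 1, 3, 2, 4, 5, 3, 6, 2, 1, 4, 3, 4, 0, 2, 3, 5, 1, 2, 1, 2, 2, 1, 5, 3, 2, 7, 4, 3, 4, 1, 2, 6, 3, 5, 4, 2, 3, 1, 2, 4, 7, 4, 1, 4, 0, 4, 2, 1, 3, 2, 4, 5, 3, 6, 2, 1, 4, 3, 4, 0, 2, 3, 5, 1, 2, 2, 1, 2, 1, 5, 3, 2, 7, 4, 3, 4, 1, 2, 6, 3, 5, 4, 2, 3, 1, 2, 4, 7, 4, 1, 4, 0, 4, 2, 1, 3, 2, 4, 5, 3, 6, 2, 1, 4, 3, 4, 0, 2, 3, 5, 1, 2, 1, 2, 2, 1, 5, 3, 2, 7, 4, 3, 4, 1, 2, 6, 3, 5, 4, 2, 3, 1, 2, 4, 7, 4, 1, 4, 0, 4, 2, 1, 3, 2, 4, 5, 3, 6, 2, 1, 4, 3, 4, 0, 2, 3, 5, 1, 2, 2, 1, 2, 1, 5, 3, 2, 7, 4, 3, 4, 1, 2, 6, 3, 5, 4, 2, 3, 1, 2, 4, 7, 4, 1, 4, 0, 4, 2, 1, 3, 2, 4, 5, 3, 6,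 2, 1, 4, 3, 4, 0, 2, 3, 5, 1, 2, 1, 2, 2, 1, 5, 3, 2, 7, 4, 3, 4, 1, 2, 6, 3, 5, 4, 2, 3, 1, 2, 4, 7, 4, 1, 4, 0, 4, 2, 1, 3, 2, 4, 5, 3, 6, 2, 1, 4, 3, 4, 0, 2, 3, 5, 1, 2, 1, 2, 2, 1, 5, 3, 2, 7, 4, 3, 4, 1, 2, 6, 3, 5, 4, 2, 3, 1, 2, 4, 7, 4, 1, 4, 0, 4, 2, 1, 3, 2, 4, 5, 3, 6, 2, 1, 4, 3, 4, 0, 2, 3, 5, 1, 2, 2, 1, 2, 1, 5, 3, 2, 7, 4, 3, 4, 1, 2, 6, 3, 5, 4, 2, 3, 1, 2, 4, 7, 4, 1, 4, 0, 4, 2, 1, 3, 2, 4, 5, 3, 6, 2, 1, 4, 3, 4, 0, 2, 3, 5, 1, 2, 2, 1, 2, 1, 5, 3, 2, 7, 4, 3, 4, 1, 2, 6, 3, 5, 4, 2, 3, 1, 2, 4, 7, 4] (by decide)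
  intro j hj
  rcases Nat.lt_or_ge j 1 with h0 | h0
  · exact checkPlanes_sound nets 17 _ 1 0 plJ4_0 j (by omega) (by omega)
  rcases Nat.lt_or_ge j 2 with h1 | h1
  · exact checkPlanes_sound nets 17 _ 1 1 plJ4_1 j (by omega) (by omega)
  rcases Nat.lt_or_ge j 3 with h2 | h2
  · exact checkPlanes_sound nets 17 _ 1 2 plJ4_2 j (by omega) (by omega)
  rcases Nat.lt_or_ge j 4 with h3 | h3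
  · exact checkPlanes_sound nets 17 _ 1 3 plJ4_3 j (by omega) (by omega)
  rcases Nat.lt_or_ge j 5 with h4 | h4
  · exact checkPlanes_sound nets 17 _ 1 4 plJ4_4 j (by omega) (by omega)
  rcases Nat.lt_or_ge j 6 with h5 | h5
  · exact checkPlanes_sound nets 17 _ 1 5 plJ4_5 j (by omega) (by omega)
  rcases Nat.lt_or_ge j 7 with h6 | h6
  · exact checkPlanes_sound nets 17 _ 1 6 plJ4_6 j (by omega) (by omega)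
  rcases Nat.lt_or_ge j 8 with h7 | h7
  · exact checkPlanes_sound nets 17 _ 1 7 plJ4_7 j (by omega) (by omega)
  rcases Nat.lt_or_ge j 9 with h8 | h8
  · exact checkPlanes_sound nets 17 _ 1 8 plJ4_8 j (by omega) (by omega)
  rcases Nat.lt_or_ge j 10 with h9 | h9
  · exact checkPlanes_sound nets 17 _ 1 9 plJ4_9 j (by omega) (by omega)
  rcases Nat.lt_or_ge j 11 with h10 | h10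
  · exact checkPlanes_sound nets 17 _ 1 10 plJ4_10 j (by omega) (by omega)
  rcases Nat.lt_or_ge j 12 with h11 | h11
  · exact checkPlanes_sound nets 17 _ 1 11 plJ4_11 j (by omega) (by omega)
  rcases Nat.lt_or_ge j 13 with h12 | h12
  · exact checkPlanes_sound nets 17 _ 1 12 plJ4_12 j (by omega) (by omega)
  rcases Nat.lt_or_ge j 14 with h13 | h13
  · exact checkPlanes_sound nets 17 _ 1 13 plJ4_13 j (by omega) (by omega)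
  rcases Nat.lt_or_ge j 15 with h14 | h14
  · exact checkPlanes_sound nets 17 _ 1 14 plJ4_14 j (by omega) (by omega)
  rcases Nat.lt_or_ge j 16 with h15 | h15
  · exact checkPlanes_sound nets 17 _ 1 15 plJ4_15 j (by omega) (by omega)
  exact checkPlanes_sound nets 17 _ 1 16 plJ4_16 j (by omega) (by omega)

theorem fixM0 : ∀ x < 122760, tr A [1, 1] x = x := by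
  apply fix_of_planes hok (n := 17) (by norm_num) hlt [1, 1] (by decide)
  intro j hj
  exact checkPlanes_sound nets 17 _ 17 0 plM0_0 j (by omega) (by omega)

theorem fixM1 : ∀ x < 122760, tr A [2, 3, 4, 0, 3, 5, 6, 0, 5, 6, 7, 5, 2, 3, 5, 4, 3, 4, 2, 5, 4, 6, 4, 3, 5, 7, 4, 5, 2, 3, 4, 5, 1, 3, 4, 3, 4, 1, 5, 4, 3, 2, 5, 4, 0, 5, 3, 4, 6, 4, 5, 2, 4, 3, 4, 5, 3, 2, 5, 0, 6, 5, 7, 6, 5, 3, 7, 4, 3, 2, 2, 3, 4, 0, 3, 5, 6, 0, 5, 6, 7, 5, 2, 3, 5, 4, 3, 4, 2, 5, 4, 6, 4, 3, 5, 7, 4, 5, 2, 3, 4, 5, 1, 3, 4, 3, 4, 1, 5, 4, 3, 2, 5, 4, 0, 5, 3, 4, 6, 4, 5, 2, 4, 3, 4, 5, 3, 2, 5, 0, 6, 5, 7, 6, 5, 3, 7, 4, 3, 2, 2, 3, 4, 0, 3, 5, 6, 0, 5, 6, 7, 5, 2, 3, 5, 4, 3, 4, 2, 5, 4, 6, 4, 3, 5, 7, 4, 5, 2, 3, 4, 5, 1, 3, 4,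 3, 4, 1, 5, 4, 3, 2, 5, 4, 0, 5, 3, 4, 6, 4, 5, 2, 4, 3, 4, 5, 3, 2, 5, 0, 6, 5, 7, 6, 5, 3, 7, 4, 3, 2, 2, 3, 4, 0, 3, 5, 6, 0, 5, 6, 7, 5, 2, 3, 5, 4, 3, 4, 2, 5, 4, 6, 4, 3, 5, 7, 4, 5, 2, 3, 4, 5, 1, 3, 4, 3, 4, 1, 5, 4, 3, 2, 5, 4, 0, 5, 3, 4, 6, 4, 5, 2, 4, 3, 4, 5, 3, 2, 5, 0, 6, 5, 7, 6, 5, 3, 7, 4, 3, 2] x = x := by
  apply fix_of_planes hok (n := 17) (by norm_num) hlt [2, 3, 4, 0, 3, 5, 6, 0, 5, 6, 7, 5, 2, 3, 5, 4, 3, 4, 2, 5, 4, 6, 4, 3, 5, 7, 4, 5, 2, 3, 4, 5, 1, 3, 4, 3, 4, 1, 5, 4, 3, 2, 5, 4, 0, 5, 3, 4, 6, 4, 5, 2, 4, 3, 4, 5, 3, 2, 5, 0, 6, 5, 7, 6, 5, 3, 7, 4, 3, 2, 2, 3, 4, 0, 3, 5, 6, 0, 5, 6, 7, 5, 2, 3, 5, 4, 3, 4, 2, 5, 4, 6, 4, 3, 5, 7, 4, 5, 2, 3, 4, 5, 1, 3, 4, 3, 4, 1, 5, 4, 3, 2, 5,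 4, 0, 5, 3, 4, 6, 4, 5, 2, 4, 3, 4, 5, 3, 2, 5, 0, 6, 5, 7, 6, 5, 3, 7, 4, 3, 2, 2, 3, 4, 0, 3, 5, 6, 0, 5, 6, 7, 5, 2, 3, 5, 4, 3, 4, 2, 5, 4, 6, 4, 3, 5, 7, 4, 5, 2, 3, 4, 5, 1, 3, 4, 3, 4, 1, 5, 4, 3, 2, 5, 4, 0, 5, 3, 4, 6, 4, 5, 2, 4, 3, 4, 5, 3, 2, 5, 0, 6, 5, 7, 6, 5, 3, 7, 4, 3, 2, 2, 3, 4, 0, 3, 5, 6, 0, 5, 6, 7, 5, 2, 3, 5, 4, 3, 4, 2, 5, 4, 6, 4, 3, 5, 7, 4, 5, 2, 3, 4, 5, 1, 3, 4, 3, 4, 1, 5, 4, 3, 2, 5, 4, 0, 5, 3, 4, 6, 4, 5, 2, 4, 3, 4, 5, 3, 2, 5, 0, 6, 5, 7, 6, 5, 3, 7, 4, 3, 2] (by decide)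
  intro j hj
  rcases Nat.lt_or_ge j 1 with h0 | h0
  · exact checkPlanes_sound nets 17 _ 1 0 plM1_0 j (by omega) (by omega)
  rcases Nat.lt_or_ge j 2 with h1 | h1
  · exact checkPlanes_sound nets 17 _ 1 1 plM1_1 j (by omega) (by omega)
  rcases Nat.lt_or_ge j 3 with h2 | h2
  · exact checkPlanes_sound nets 17 _ 1 2 plM1_2 j (by omega) (by omega)
  rcases Nat.lt_or_ge j 4 with h3 | h3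
  · exact checkPlanes_sound nets 17 _ 1 3 plM1_3 j (by omega) (by omega)
  rcases Nat.lt_or_ge j 5 with h4 | h4
  · exact checkPlanes_sound nets 17 _ 1 4 plM1_4 j (by omega) (by omega)
  rcases Nat.lt_or_ge j 6 with h5 | h5
  · exact checkPlanes_sound nets 17 _ 1 5 plM1_5 j (by omega) (by omega)
  rcases Nat.lt_or_ge j 7 with h6 | h6
  · exact checkPlanes_sound nets 17 _ 1 6 plM1_6 j (by omega) (by omega)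
  rcases Nat.lt_or_ge j 8 with h7 | h7
  · exact checkPlanes_sound nets 17 _ 1 7 plM1_7 j (by omega) (by omega)
  rcases Nat.lt_or_ge j 9 with h8 | h8
  · exact checkPlanes_sound nets 17 _ 1 8 plM1_8 j (by omega) (by omega)
  rcases Nat.lt_or_ge j 10 with h9 | h9
  · exact checkPlanes_sound nets 17 _ 1 9 plM1_9 j (by omega) (by omega)
  rcases Nat.lt_or_ge j 11 with h10 | h10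
  · exact checkPlanes_sound nets 17 _ 1 10 plM1_10 j (by omega) (by omega)
  rcases Nat.lt_or_ge j 12 with h11 | h11
  · exact checkPlanes_sound nets 17 _ 1 11 plM1_11 j (by omega) (by omega)
  rcases Nat.lt_or_ge j 13 with h12 | h12
  · exact checkPlanes_sound nets 17 _ 1 12 plM1_12 j (by omega) (by omega)
  rcases Nat.lt_or_ge j 14 with h13 | h13
  · exact checkPlanes_sound nets 17 _ 1 13 plM1_13 j (by omega) (by omega)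
  rcases Nat.lt_or_ge j 15 with h14 | h14
  · exact checkPlanes_sound nets 17 _ 1 14 plM1_14 j (by omega) (by omega)
  rcases Nat.lt_or_ge j 16 with h15 | h15
  · exact checkPlanes_sound nets 17 _ 1 15 plM1_15 j (by omega) (by omega)
  exact checkPlanes_sound nets 17 _ 1 16 plM1_16 j (by omega) (by omega)

theorem fixM2 : ∀ x < 122760, tr A [1, 2, 3, 4, 0, 3, 5, 6, 0, 5, 6, 7, 5, 2, 3, 5, 4, 3, 4, 2, 5, 4, 6, 4, 3, 5, 7, 4, 5, 2, 3, 4, 5, 1, 3, 4, 3, 4, 1, 5, 4, 3, 2, 5, 4, 0, 5, 3, 4, 6, 4, 5, 2, 4, 3, 4, 5, 3, 2, 5, 0, 6, 5, 7, 6, 5, 3, 7, 4, 3, 2, 1, 2, 3, 4, 0, 3, 5, 6, 0, 5, 6, 7, 5, 2, 3, 5, 4, 3, 4, 2, 5, 4, 6, 4, 3, 5, 7, 4, 5, 2, 3, 4, 5, 1, 3, 4, 3, 4, 1, 5, 4, 3, 2, 5, 4, 0, 5, 3, 4, 6, 4, 5, 2, 4,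 3, 4, 5, 3, 2, 5, 0, 6, 5, 7, 6, 5, 3, 7, 4, 3, 2, 1, 2, 3, 4, 0, 3, 5, 6, 0, 5, 6, 7, 5, 2, 3, 5, 4, 3, 4, 2, 5, 4, 6, 4, 3, 5, 7, 4, 5, 2, 3, 4, 5, 1, 3, 4, 3, 4, 1, 5, 4, 3, 2, 5, 4, 0, 5, 3, 4, 6, 4, 5, 2, 4, 3, 4, 5, 3, 2, 5, 0, 6, 5, 7, 6, 5, 3, 7, 4, 3, 2, 1, 2, 3, 4, 0, 3, 5, 6, 0, 5, 6, 7, 5, 2, 3, 5, 4, 3, 4, 2, 5, 4, 6, 4, 3, 5, 7, 4, 5, 2, 3, 4, 5, 1, 3, 4, 3, 4, 1, 5, 4, 3, 2, 5, 4, 0, 5, 3, 4, 6, 4, 5, 2, 4, 3, 4, 5, 3, 2, 5, 0, 6, 5, 7, 6, 5, 3, 7, 4, 3, 2, 1, 2, 3, 4, 0, 3, 5, 6, 0, 5, 6, 7, 5, 2, 3, 5, 4, 3, 4, 2, 5, 4, 6, 4, 3, 5, 7, 4, 5, 2, 3, 4, 5, 1, 3, 4, 3, 4, 1, 5, 4, 3, 2, 5, 4, 0, 5, 3, 4, 6, 4, 5, 2, 4, 3, 4, 5, 3, 2, 5, 0, 6, 5, 7, 6, 5, 3, 7, 4, 3, 2, 1, 2, 3, 4, 0, 3, 5, 6, 0, 5,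 6, 7, 5, 2, 3, 5, 4, 3, 4, 2, 5, 4, 6, 4, 3, 5, 7, 4, 5, 2, 3, 4, 5, 1, 3, 4, 3, 4, 1, 5, 4, 3, 2, 5, 4, 0, 5, 3, 4, 6, 4, 5, 2, 4, 3, 4, 5, 3, 2, 5, 0, 6, 5, 7, 6, 5, 3, 7, 4, 3, 2, 1, 2, 3, 4, 0, 3, 5, 6, 0, 5, 6, 7, 5, 2, 3, 5, 4, 3, 4, 2, 5, 4, 6, 4, 3, 5, 7, 4, 5, 2, 3, 4, 5, 1, 3, 4, 3, 4, 1, 5, 4, 3, 2, 5, 4, 0, 5, 3, 4, 6, 4, 5, 2, 4, 3, 4, 5, 3, 2, 5, 0, 6, 5, 7, 6, 5, 3, 7, 4, 3, 2, 1, 2, 3, 4, 0, 3, 5, 6, 0, 5, 6, 7, 5, 2, 3, 5, 4, 3, 4, 2, 5, 4, 6, 4, 3, 5, 7, 4, 5, 2, 3, 4, 5, 1, 3, 4, 3, 4, 1, 5, 4, 3, 2, 5, 4, 0, 5, 3, 4, 6, 4, 5, 2, 4, 3, 4, 5, 3, 2, 5, 0, 6, 5, 7, 6, 5, 3, 7, 4, 3, 2, 1, 2, 3, 4, 0, 3, 5, 6, 0, 5, 6, 7, 5, 2, 3, 5, 4, 3, 4, 2, 5, 4, 6, 4, 3, 5, 7, 4, 5, 2, 3, 4, 5, 1, 3, 4, 3,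 4, 1, 5, 4, 3, 2, 5, 4, 0, 5, 3, 4, 6, 4, 5, 2, 4, 3, 4, 5, 3, 2, 5, 0, 6, 5, 7, 6, 5, 3, 7, 4, 3, 2, 1, 2, 3, 4, 0, 3, 5, 6, 0, 5, 6, 7, 5, 2, 3, 5, 4, 3, 4, 2, 5, 4, 6, 4, 3, 5, 7, 4, 5, 2, 3, 4, 5, 1, 3, 4, 3, 4, 1, 5, 4, 3, 2, 5, 4, 0, 5, 3, 4, 6, 4, 5, 2, 4, 3, 4, 5, 3, 2, 5, 0, 6, 5, 7, 6, 5, 3, 7, 4, 3, 2, 1, 2, 3, 4, 0, 3, 5, 6, 0, 5, 6, 7, 5, 2, 3, 5, 4, 3, 4, 2, 5, 4, 6, 4, 3, 5, 7, 4, 5, 2, 3, 4, 5, 1, 3, 4, 3, 4, 1, 5, 4, 3, 2, 5, 4, 0, 5, 3, 4, 6, 4, 5, 2, 4, 3, 4, 5, 3, 2, 5, 0, 6, 5, 7, 6, 5, 3, 7, 4, 3, 2] x = x := by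
  apply fix_of_planes hok (n := 17) (by norm_num) hlt [1, 2, 3, 4, 0, 3, 5, 6, 0, 5, 6, 7, 5, 2, 3, 5, 4, 3, 4, 2, 5, 4, 6, 4, 3, 5, 7, 4, 5, 2, 3, 4, 5, 1, 3, 4, 3, 4, 1, 5, 4, 3, 2, 5, 4, 0, 5, 3, 4, 6, 4, 5, 2, 4, 3, 4, 5, 3, 2, 5, 0, 6, 5, 7, 6, 5, 3, 7, 4, 3, 2, 1, 2, 3, 4, 0, 3, 5, 6, 0, 5, 6, 7, 5, 2, 3, 5, 4, 3, 4, 2, 5, 4, 6, 4, 3, 5, 7, 4, 5, 2, 3, 4, 5, 1, 3, 4, 3, 4, 1, 5, 4, 3, 2, 5, 4, 0, 5, 3, 4, 6, 4, 5, 2, 4, 3, 4, 5, 3, 2, 5, 0, 6, 5, 7, 6, 5, 3, 7, 4, 3, 2, 1, 2, 3, 4, 0, 3, 5, 6, 0, 5, 6, 7, 5, 2, 3, 5, 4, 3, 4, 2, 5, 4, 6, 4, 3, 5, 7, 4, 5, 2, 3, 4, 5, 1, 3, 4, 3, 4, 1, 5, 4, 3, 2, 5, 4, 0, 5, 3, 4, 6, 4, 5, 2, 4, 3, 4, 5, 3, 2, 5, 0, 6, 5, 7, 6, 5, 3, 7, 4, 3, 2, 1, 2, 3, 4, 0, 3, 5, 6, 0,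 5, 6, 7, 5, 2, 3, 5, 4, 3, 4, 2, 5, 4, 6, 4, 3, 5, 7, 4, 5, 2, 3, 4, 5, 1, 3, 4, 3, 4, 1, 5, 4, 3, 2, 5, 4, 0, 5, 3, 4, 6, 4, 5, 2, 4, 3, 4, 5, 3, 2, 5, 0, 6, 5, 7, 6, 5, 3, 7, 4, 3, 2, 1, 2, 3, 4, 0, 3, 5, 6, 0, 5, 6, 7, 5, 2, 3, 5, 4, 3, 4, 2, 5, 4, 6, 4, 3, 5, 7, 4, 5, 2, 3, 4, 5, 1, 3, 4, 3, 4, 1, 5, 4, 3, 2, 5, 4, 0, 5, 3, 4, 6, 4, 5, 2, 4, 3, 4, 5, 3, 2, 5, 0, 6, 5, 7, 6, 5, 3, 7, 4, 3, 2, 1, 2, 3, 4, 0, 3, 5, 6, 0, 5, 6, 7, 5, 2, 3, 5, 4, 3, 4, 2, 5, 4, 6, 4, 3, 5, 7, 4, 5, 2, 3, 4, 5, 1, 3, 4, 3, 4, 1, 5, 4, 3, 2, 5, 4, 0, 5, 3, 4, 6, 4, 5, 2, 4, 3, 4, 5, 3, 2, 5, 0, 6, 5, 7, 6, 5, 3, 7, 4, 3, 2, 1, 2, 3, 4, 0, 3, 5, 6, 0, 5, 6, 7, 5, 2, 3, 5, 4, 3, 4, 2, 5, 4, 6, 4, 3, 5, 7, 4, 5, 2, 3, 4, 5, 1, 3, 4,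 3, 4, 1, 5, 4, 3, 2, 5, 4, 0, 5, 3, 4, 6, 4, 5, 2, 4, 3, 4, 5, 3, 2, 5, 0, 6, 5, 7, 6, 5, 3, 7, 4, 3, 2, 1, 2, 3, 4, 0, 3, 5, 6, 0, 5, 6, 7, 5, 2, 3, 5, 4, 3, 4, 2, 5, 4, 6, 4, 3, 5, 7, 4, 5, 2, 3, 4, 5, 1, 3, 4, 3, 4, 1, 5, 4, 3, 2, 5, 4, 0, 5, 3, 4, 6, 4, 5, 2, 4, 3, 4, 5, 3, 2, 5, 0, 6, 5, 7, 6, 5, 3, 7, 4, 3, 2, 1, 2, 3, 4, 0, 3, 5, 6, 0, 5, 6, 7, 5, 2, 3, 5, 4, 3, 4, 2, 5, 4, 6, 4, 3, 5, 7, 4, 5, 2, 3, 4, 5, 1, 3, 4, 3, 4, 1, 5, 4, 3, 2, 5, 4, 0, 5, 3, 4, 6, 4, 5, 2, 4, 3, 4, 5, 3, 2, 5, 0, 6, 5, 7, 6, 5, 3, 7, 4, 3, 2, 1, 2, 3, 4, 0, 3, 5, 6, 0, 5, 6, 7, 5, 2, 3, 5, 4, 3, 4, 2, 5, 4, 6, 4, 3, 5, 7, 4, 5, 2, 3, 4, 5, 1, 3, 4, 3, 4, 1, 5, 4, 3, 2, 5, 4, 0, 5, 3, 4, 6, 4, 5, 2, 4, 3, 4, 5, 3, 2, 5, 0, 6, 5,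 7, 6, 5, 3, 7, 4, 3, 2, 1, 2, 3, 4, 0, 3, 5, 6, 0, 5, 6, 7, 5, 2, 3, 5, 4, 3, 4, 2, 5, 4, 6, 4, 3, 5, 7, 4, 5, 2, 3, 4, 5, 1, 3, 4, 3, 4, 1, 5, 4, 3, 2, 5, 4, 0, 5, 3, 4, 6, 4, 5, 2, 4, 3, 4, 5, 3, 2, 5, 0, 6, 5, 7, 6, 5, 3, 7, 4, 3, 2] (by decide)
  intro j hj
  rcases Nat.lt_or_ge j 1 with h0 | h0
  · exact checkPlanes_sound nets 17 _ 1 0 plM2_0 j (by omega) (by omega)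
  rcases Nat.lt_or_ge j 2 with h1 | h1
  · exact checkPlanes_sound nets 17 _ 1 1 plM2_1 j (by omega) (by omega)
  rcases Nat.lt_or_ge j 3 with h2 | h2
  · exact checkPlanes_sound nets 17 _ 1 2 plM2_2 j (by omega) (by omega)
  rcases Nat.lt_or_ge j 4 with h3 | h3
  · exact checkPlanes_sound nets 17 _ 1 3 plM2_3 j (by omega) (by omega)
  rcases Nat.lt_or_ge j 5 with h4 | h4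
  · exact checkPlanes_sound nets 17 _ 1 4 plM2_4 j (by omega) (by omega)
  rcases Nat.lt_or_ge j 6 with h5 | h5
  · exact checkPlanes_sound nets 17 _ 1 5 plM2_5 j (by omega) (by omega)
  rcases Nat.lt_or_ge j 7 with h6 | h6
  · exact checkPlanes_sound nets 17 _ 1 6 plM2_6 j (by omega) (by omega)
  rcases Nat.lt_or_ge j 8 with h7 | h7
  · exact checkPlanes_sound nets 17 _ 1 7 plM2_7 j (by omega) (by omega)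
  rcases Nat.lt_or_ge j 9 with h8 | h8
  · exact checkPlanes_sound nets 17 _ 1 8 plM2_8 j (by omega) (by omega)
  rcases Nat.lt_or_ge j 10 with h9 | h9
  · exact checkPlanes_sound nets 17 _ 1 9 plM2_9 j (by omega) (by omega)
  rcases Nat.lt_or_ge j 11 with h10 | h10
  · exact checkPlanes_sound nets 17 _ 1 10 plM2_10 j (by omega) (by omega)
  rcases Nat.lt_or_ge j 12 with h11 | h11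
  · exact checkPlanes_sound nets 17 _ 1 11 plM2_11 j (by omega) (by omega)
  rcases Nat.lt_or_ge j 13 with h12 | h12
  · exact checkPlanes_sound nets 17 _ 1 12 plM2_12 j (by omega) (by omega)
  rcases Nat.lt_or_ge j 14 with h13 | h13
  · exact checkPlanes_sound nets 17 _ 1 13 plM2_13 j (by omega) (by omega)
  rcases Nat.lt_or_ge j 15 with h14 | h14
  · exact checkPlanes_sound nets 17 _ 1 14 plM2_14 j (by omega) (by omega)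
  rcases Nat.lt_or_ge j 16 with h15 | h15
  · exact checkPlanes_sound nets 17 _ 1 15 plM2_15 j (by omega) (by omega)
  exact checkPlanes_sound nets 17 _ 1 16 plM2_16 j (by omega) (by omega)

theorem fixM3 : ∀ x < 122760, tr A [1, 2, 3, 4, 0, 3, 5, 6, 0, 5, 6, 7, 5, 2, 3, 5, 4, 3, 4, 2, 5, 4, 6, 4, 3, 5, 7, 4, 5, 2, 3, 4, 5, 1, 3, 4, 3, 4, 1, 5, 4, 3, 2, 5, 4, 0, 5, 3, 4, 6, 4, 5, 2, 4, 3, 4, 5, 3, 2, 5, 0, 6, 5, 7, 6, 5, 3, 7, 4, 3, 2, 2, 3, 4, 0, 3, 5, 6, 0, 5, 6, 7, 5, 2, 3, 5, 4, 3, 4, 2, 5, 4, 6, 4, 3, 5, 7, 4, 5, 2, 3, 4, 5, 1, 3, 4, 3, 4, 1, 5, 4, 3, 2, 5, 4, 0, 5, 3, 4, 6, 4, 5, 2, 4, 3, 4, 5, 3, 2, 5, 0, 6, 5, 7, 6, 5, 3, 7, 4, 3, 2, 1, 2, 3, 4, 0, 3, 5, 6, 0, 5, 6, 7, 5, 2, 3, 5, 4, 3, 4, 2, 5, 4, 6,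 4, 3, 5, 7, 4, 5, 2, 3, 4, 5, 1, 3, 4, 3, 4, 1, 5, 4, 3, 2, 5, 4, 0, 5, 3, 4, 6, 4, 5, 2, 4, 3, 4, 5, 3, 2, 5, 0, 6, 5, 7, 6, 5, 3, 7, 4, 3, 2, 2, 3, 4, 0, 3, 5, 6, 0, 5, 6, 7, 5, 2, 3, 5, 4, 3, 4, 2, 5, 4, 6, 4, 3, 5, 7, 4, 5, 2, 3, 4, 5, 1, 3, 4, 3, 4, 1, 5, 4, 3, 2, 5, 4, 0, 5, 3, 4, 6, 4, 5, 2, 4, 3, 4, 5, 3, 2, 5, 0, 6, 5, 7, 6, 5, 3, 7, 4, 3, 2, 1, 2, 3, 4, 0, 3, 5, 6, 0, 5, 6, 7, 5, 2, 3, 5, 4, 3, 4, 2, 5, 4, 6, 4, 3, 5, 7, 4, 5, 2, 3, 4, 5, 1, 3, 4, 3, 4, 1, 5, 4, 3, 2, 5, 4, 0, 5, 3, 4, 6, 4, 5, 2, 4, 3, 4, 5, 3, 2, 5, 0, 6, 5, 7, 6, 5, 3, 7, 4, 3, 2, 2, 3, 4, 0, 3, 5, 6, 0, 5, 6, 7, 5, 2, 3, 5, 4, 3, 4, 2, 5, 4, 6, 4, 3, 5, 7, 4, 5, 2, 3, 4, 5, 1, 3, 4, 3, 4, 1, 5, 4, 3, 2, 5, 4, 0, 5, 3, 4, 6, 4, 5,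 2, 4, 3, 4, 5, 3, 2, 5, 0, 6, 5, 7, 6, 5, 3, 7, 4, 3, 2, 1, 2, 3, 4, 0, 3, 5, 6, 0, 5, 6, 7, 5, 2, 3, 5, 4, 3, 4, 2, 5, 4, 6, 4, 3, 5, 7, 4, 5, 2, 3, 4, 5, 1, 3, 4, 3, 4, 1, 5, 4, 3, 2, 5, 4, 0, 5, 3, 4, 6, 4, 5, 2, 4, 3, 4, 5, 3, 2, 5, 0, 6, 5, 7, 6, 5, 3, 7, 4, 3, 2, 2, 3, 4, 0, 3, 5, 6, 0, 5, 6, 7, 5, 2, 3, 5, 4, 3, 4, 2, 5, 4, 6, 4, 3, 5, 7, 4, 5, 2, 3, 4, 5, 1, 3, 4, 3, 4, 1, 5, 4, 3, 2, 5, 4, 0, 5, 3, 4, 6, 4, 5, 2, 4, 3, 4, 5, 3, 2, 5, 0, 6, 5, 7, 6, 5, 3, 7, 4, 3, 2, 1, 2, 3, 4, 0, 3, 5, 6, 0, 5, 6, 7, 5, 2, 3, 5, 4, 3, 4, 2, 5, 4, 6, 4, 3, 5, 7, 4, 5, 2, 3, 4, 5, 1, 3, 4, 3, 4, 1, 5, 4, 3, 2, 5, 4, 0, 5, 3, 4, 6, 4, 5, 2, 4, 3, 4, 5, 3, 2, 5, 0, 6, 5, 7, 6, 5, 3, 7, 4, 3, 2, 2, 3, 4, 0, 3, 5, 6, 0, 5,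 6, 7, 5, 2, 3, 5, 4, 3, 4, 2, 5, 4, 6, 4, 3, 5, 7, 4, 5, 2, 3, 4, 5, 1, 3, 4, 3, 4, 1, 5, 4, 3, 2, 5, 4, 0, 5, 3, 4, 6, 4, 5, 2, 4, 3, 4, 5, 3, 2, 5, 0, 6, 5, 7, 6, 5, 3, 7, 4, 3, 2, 1, 2, 3, 4, 0, 3, 5, 6, 0, 5, 6, 7, 5, 2, 3, 5, 4, 3, 4, 2, 5, 4, 6, 4, 3, 5, 7, 4, 5, 2, 3, 4, 5, 1, 3, 4, 3, 4, 1, 5, 4, 3, 2, 5, 4, 0, 5, 3, 4, 6, 4, 5, 2, 4, 3, 4, 5, 3, 2, 5, 0, 6, 5, 7, 6, 5, 3, 7, 4, 3, 2, 2, 3, 4, 0, 3, 5, 6, 0, 5, 6, 7, 5, 2, 3, 5, 4, 3, 4, 2, 5, 4, 6, 4, 3, 5, 7, 4, 5, 2, 3, 4, 5, 1, 3, 4, 3, 4, 1, 5, 4, 3, 2, 5, 4, 0, 5, 3, 4, 6, 4, 5, 2, 4, 3, 4, 5, 3, 2, 5, 0, 6, 5, 7, 6, 5, 3, 7, 4, 3, 2] x = x := by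
  apply fix_of_planes hok (n := 17) (by norm_num) hlt [1, 2, 3, 4, 0, 3, 5, 6, 0, 5, 6, 7, 5, 2, 3, 5, 4, 3, 4, 2, 5, 4, 6, 4, 3, 5, 7, 4, 5, 2, 3, 4, 5, 1, 3, 4, 3, 4, 1, 5, 4, 3, 2, 5, 4, 0, 5, 3, 4, 6, 4, 5, 2, 4, 3, 4, 5, 3, 2, 5, 0, 6, 5, 7, 6, 5, 3, 7, 4, 3, 2, 2, 3, 4, 0, 3, 5, 6, 0, 5, 6, 7, 5, 2, 3, 5, 4, 3, 4, 2, 5, 4, 6, 4, 3, 5, 7, 4, 5, 2, 3, 4, 5, 1, 3, 4, 3, 4, 1, 5, 4, 3, 2, 5, 4, 0, 5, 3, 4, 6, 4, 5, 2, 4, 3, 4, 5, 3, 2, 5, 0, 6, 5, 7, 6, 5, 3, 7, 4, 3, 2, 1, 2, 3, 4, 0, 3, 5, 6, 0, 5, 6, 7, 5, 2, 3, 5, 4, 3, 4, 2, 5, 4, 6, 4, 3, 5, 7, 4, 5, 2, 3, 4, 5, 1, 3, 4, 3, 4, 1, 5, 4, 3, 2, 5, 4, 0, 5, 3, 4, 6, 4, 5, 2, 4, 3, 4, 5, 3, 2, 5, 0, 6, 5, 7, 6, 5, 3, 7, 4, 3, 2, 2, 3, 4, 0, 3, 5, 6, 0, 5, 6,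 7, 5, 2, 3, 5, 4, 3, 4, 2, 5, 4, 6, 4, 3, 5, 7, 4, 5, 2, 3, 4, 5, 1, 3, 4, 3, 4, 1, 5, 4, 3, 2, 5, 4, 0, 5, 3, 4, 6, 4, 5, 2, 4, 3, 4, 5, 3, 2, 5, 0, 6, 5, 7, 6, 5, 3, 7, 4, 3, 2, 1, 2, 3, 4, 0, 3, 5, 6, 0, 5, 6, 7, 5, 2, 3, 5, 4, 3, 4, 2, 5, 4, 6, 4, 3, 5, 7, 4, 5, 2, 3, 4, 5, 1, 3, 4, 3, 4, 1, 5, 4, 3, 2, 5, 4, 0, 5, 3, 4, 6, 4, 5, 2, 4, 3, 4, 5, 3, 2, 5, 0, 6, 5, 7, 6, 5, 3, 7, 4, 3, 2, 2, 3, 4, 0, 3, 5, 6, 0, 5, 6, 7, 5, 2, 3, 5, 4, 3, 4, 2, 5, 4, 6, 4, 3, 5, 7, 4, 5, 2, 3, 4, 5, 1, 3, 4, 3, 4, 1, 5, 4, 3, 2, 5, 4, 0, 5, 3, 4, 6, 4, 5, 2, 4, 3, 4, 5, 3, 2, 5, 0, 6, 5, 7, 6, 5, 3, 7, 4, 3, 2, 1, 2, 3, 4, 0, 3, 5, 6, 0, 5, 6, 7, 5, 2, 3, 5, 4, 3, 4, 2, 5, 4, 6, 4, 3, 5, 7, 4, 5, 2, 3, 4, 5, 1, 3, 4, 3, 4, 1,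 5, 4, 3, 2, 5, 4, 0, 5, 3, 4, 6, 4, 5, 2, 4, 3, 4, 5, 3, 2, 5, 0, 6, 5, 7, 6, 5, 3, 7, 4, 3, 2, 2, 3, 4, 0, 3, 5, 6, 0, 5, 6, 7, 5, 2, 3, 5, 4, 3, 4, 2, 5, 4, 6, 4, 3, 5, 7, 4, 5, 2, 3, 4, 5, 1, 3, 4, 3, 4, 1, 5, 4, 3, 2, 5, 4, 0, 5, 3, 4, 6, 4, 5, 2, 4, 3, 4, 5, 3, 2, 5, 0, 6, 5, 7, 6, 5, 3, 7, 4, 3, 2, 1, 2, 3, 4, 0, 3, 5, 6, 0, 5, 6, 7, 5, 2, 3, 5, 4, 3, 4, 2, 5, 4, 6, 4, 3, 5, 7, 4, 5, 2, 3, 4, 5, 1, 3, 4, 3, 4, 1, 5, 4, 3, 2, 5, 4, 0, 5, 3, 4, 6, 4, 5, 2, 4, 3, 4, 5, 3, 2, 5, 0, 6, 5, 7, 6, 5, 3, 7, 4, 3, 2, 2, 3, 4, 0, 3, 5, 6, 0, 5, 6, 7, 5, 2, 3, 5, 4, 3, 4, 2, 5, 4, 6, 4, 3, 5, 7, 4, 5, 2, 3, 4, 5, 1, 3, 4, 3, 4, 1, 5, 4, 3, 2, 5, 4, 0, 5, 3, 4, 6, 4, 5, 2, 4, 3, 4, 5, 3, 2, 5, 0, 6, 5, 7, 6, 5, 3, 7,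 4, 3, 2, 1, 2, 3, 4, 0, 3, 5, 6, 0, 5, 6, 7, 5, 2, 3, 5, 4, 3, 4, 2, 5, 4, 6, 4, 3, 5, 7, 4, 5, 2, 3, 4, 5, 1, 3, 4, 3, 4, 1, 5, 4, 3, 2, 5, 4, 0, 5, 3, 4, 6, 4, 5, 2, 4, 3, 4, 5, 3, 2, 5, 0, 6, 5, 7, 6, 5, 3, 7, 4, 3, 2, 2, 3, 4, 0, 3, 5, 6, 0, 5, 6, 7, 5, 2, 3, 5, 4, 3, 4, 2, 5, 4, 6, 4, 3, 5, 7, 4, 5, 2, 3, 4, 5, 1, 3, 4, 3, 4, 1, 5, 4, 3, 2, 5, 4, 0, 5, 3, 4, 6, 4, 5, 2, 4, 3, 4, 5, 3, 2, 5, 0, 6, 5, 7, 6, 5, 3, 7, 4, 3, 2] (by decide)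
  intro j hj
  rcases Nat.lt_or_ge j 1 with h0 | h0
  · exact checkPlanes_sound nets 17 _ 1 0 plM3_0 j (by omega) (by omega)
  rcases Nat.lt_or_ge j 2 with h1 | h1
  · exact checkPlanes_sound nets 17 _ 1 1 plM3_1 j (by omega) (by omega)
  rcases Nat.lt_or_ge j 3 with h2 | h2
  · exact checkPlanes_sound nets 17 _ 1 2 plM3_2 j (by omega) (by omega)
  rcases Nat.lt_or_ge j 4 with h3 | h3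
  · exact checkPlanes_sound nets 17 _ 1 3 plM3_3 j (by omega) (by omega)
  rcases Nat.lt_or_ge j 5 with h4 | h4
  · exact checkPlanes_sound nets 17 _ 1 4 plM3_4 j (by omega) (by omega)
  rcases Nat.lt_or_ge j 6 with h5 | h5
  · exact checkPlanes_sound nets 17 _ 1 5 plM3_5 j (by omega) (by omega)
  rcases Nat.lt_or_ge j 7 with h6 | h6
  · exact checkPlanes_sound nets 17 _ 1 6 plM3_6 j (by omega) (by omega)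
  rcases Nat.lt_or_ge j 8 with h7 | h7
  · exact checkPlanes_sound nets 17 _ 1 7 plM3_7 j (by omega) (by omega)
  rcases Nat.lt_or_ge j 9 with h8 | h8
  · exact checkPlanes_sound nets 17 _ 1 8 plM3_8 j (by omega) (by omega)
  rcases Nat.lt_or_ge j 10 with h9 | h9
  · exact checkPlanes_sound nets 17 _ 1 9 plM3_9 j (by omega) (by omega)
  rcases Nat.lt_or_ge j 11 with h10 | h10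
  · exact checkPlanes_sound nets 17 _ 1 10 plM3_10 j (by omega) (by omega)
  rcases Nat.lt_or_ge j 12 with h11 | h11
  · exact checkPlanes_sound nets 17 _ 1 11 plM3_11 j (by omega) (by omega)
  rcases Nat.lt_or_ge j 13 with h12 | h12
  · exact checkPlanes_sound nets 17 _ 1 12 plM3_12 j (by omega) (by omega)
  rcases Nat.lt_or_ge j 14 with h13 | h13
  · exact checkPlanes_sound nets 17 _ 1 13 plM3_13 j (by omega) (by omega)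
  rcases Nat.lt_or_ge j 15 with h14 | h14
  · exact checkPlanes_sound nets 17 _ 1 14 plM3_14 j (by omega) (by omega)
  rcases Nat.lt_or_ge j 16 with h15 | h15
  · exact checkPlanes_sound nets 17 _ 1 15 plM3_15 j (by omega) (by omega)
  exact checkPlanes_sound nets 17 _ 1 16 plM3_16 j (by omega) (by omega)

theorem fixM4 : ∀ x < 122760, tr A [1, 2, 3, 4, 0, 3, 5, 6, 0, 5, 6, 7, 5, 2, 3, 5, 4, 3, 4, 2, 5, 4, 6, 4, 3, 5, 7, 4, 5, 2, 3, 4, 5, 1, 3, 4, 3, 4, 1, 5, 4, 3, 2, 5, 4, 0, 5, 3, 4, 6, 4, 5, 2, 4, 3, 4, 5, 3, 2, 5, 0, 6, 5, 7, 6, 5, 3, 7, 4, 3, 2, 1, 2, 3, 4, 0, 3, 5, 6, 0, 5, 6, 7, 5, 2, 3, 5, 4, 3, 4, 2, 5, 4, 6, 4, 3, 5, 7, 4, 5, 2, 3, 4, 5, 1, 3, 4, 3, 4, 1, 5, 4, 3, 2, 5, 4, 0, 5, 3, 4, 6, 4, 5, 2, 4,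 3, 4, 5, 3, 2, 5, 0, 6, 5, 7, 6, 5, 3, 7, 4, 3, 2, 1, 2, 3, 4, 0, 3, 5, 6, 0, 5, 6, 7, 5, 2, 3, 5, 4, 3, 4, 2, 5, 4, 6, 4, 3, 5, 7, 4, 5, 2, 3, 4, 5, 1, 4, 3, 4, 3, 1, 5, 4, 3, 2, 5, 4, 0, 5, 3, 4, 6, 4, 5, 2, 4, 3, 4, 5, 3, 2, 5, 0, 6, 5, 7, 6, 5, 3, 7, 4, 3, 2, 1, 2, 3, 4, 0, 3, 5, 6, 0, 5, 6, 7, 5, 2, 3, 5, 4, 3, 4, 2, 5, 4, 6, 4, 3, 5, 7, 4, 5, 2, 3, 4, 5, 1, 3, 4, 3, 4, 1, 5, 4, 3, 2, 5, 4, 0, 5, 3, 4, 6, 4, 5, 2, 4, 3, 4, 5, 3, 2, 5, 0, 6, 5, 7, 6, 5, 3, 7, 4, 3, 2, 1, 2, 3, 4, 0, 3, 5, 6, 0, 5, 6, 7, 5, 2, 3, 5, 4, 3, 4, 2, 5, 4, 6, 4, 3, 5, 7, 4, 5, 2, 3, 4, 5, 1, 3, 4, 3, 4, 1, 5, 4, 3, 2, 5, 4, 0, 5, 3, 4, 6, 4, 5, 2, 4, 3, 4, 5, 3, 2, 5, 0, 6, 5, 7, 6, 5, 3, 7, 4, 3, 2, 2, 3, 4, 0, 3, 5, 6, 0, 5, 6,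 7, 5, 2, 3, 5, 4, 3, 4, 2, 5, 4, 6, 4, 3, 5, 7, 4, 5, 2, 3, 4, 5, 1, 3, 4, 3, 4, 1, 5, 4, 3, 2, 5, 4, 0, 5, 3, 4, 6, 4, 5, 2, 4, 3, 4, 5, 3, 2, 5, 0, 6, 5, 7, 6, 5, 3, 7, 4, 3, 2, 1, 2, 3, 4, 0, 3, 5, 6, 0, 5, 6, 7, 5, 2, 3, 5, 4, 3, 4, 2, 5, 4, 6, 4, 3, 5, 7, 4, 5, 2, 3, 4, 5, 1, 4, 3, 4, 3, 1, 5, 4, 3, 2, 5, 4, 0, 5, 3, 4, 6, 4, 5, 2, 4, 3, 4, 5, 3, 2, 5, 0, 6, 5, 7, 6, 5, 3, 7, 4, 3, 2, 1, 2, 3, 4, 0, 3, 5, 6, 0, 5, 6, 7, 5, 2, 3, 5, 4, 3, 4, 2, 5, 4, 6, 4, 3, 5, 7, 4, 5, 2, 3, 4, 5, 1, 3, 4, 3, 4, 1, 5, 4, 3, 2, 5, 4, 0, 5, 3, 4, 6, 4, 5, 2, 4, 3, 4, 5, 3, 2, 5, 0, 6, 5, 7, 6, 5, 3, 7, 4, 3, 2, 1, 2, 3, 4, 0, 3, 5, 6, 0, 5, 6, 7, 5, 2, 3, 5, 4, 3, 4, 2, 5, 4, 6, 4, 3, 5, 7, 4, 5, 2, 3, 4, 5, 1, 4, 3, 4, 3,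 1, 5, 4, 3, 2, 5, 4, 0, 5, 3, 4, 6, 4, 5, 2, 4, 3, 4, 5, 3, 2, 5, 0, 6, 5, 7, 6, 5, 3, 7, 4, 3, 2, 1, 2, 3, 4, 0, 3, 5, 6, 0, 5, 6, 7, 5, 2, 3, 5, 4, 3, 4, 2, 5, 4, 6, 4, 3, 5, 7, 4, 5, 2, 3, 4, 5, 1, 4, 3, 4, 3, 1, 5, 4, 3, 2, 5, 4, 0, 5, 3, 4, 6, 4, 5, 2, 4, 3, 4, 5, 3, 2, 5, 0, 6, 5, 7, 6, 5, 3, 7, 4, 3, 2] x = x := by
  apply fix_of_planes hok (n := 17) (by norm_num) hlt [1, 2, 3, 4, 0, 3, 5, 6, 0, 5, 6, 7, 5, 2, 3, 5, 4, 3, 4, 2, 5, 4, 6, 4, 3, 5, 7, 4, 5, 2, 3, 4, 5, 1, 3, 4, 3, 4, 1, 5, 4, 3, 2, 5, 4, 0, 5, 3, 4, 6, 4, 5, 2, 4, 3, 4, 5, 3, 2, 5, 0, 6, 5, 7, 6, 5, 3, 7, 4, 3, 2, 1, 2, 3, 4, 0, 3, 5, 6, 0, 5, 6, 7, 5, 2, 3, 5, 4, 3, 4, 2, 5, 4, 6, 4, 3, 5, 7, 4, 5, 2, 3, 4, 5, 1, 3, 4, 3, 4, 1, 5, 4, 3, 2,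 5, 4, 0, 5, 3, 4, 6, 4, 5, 2, 4, 3, 4, 5, 3, 2, 5, 0, 6, 5, 7, 6, 5, 3, 7, 4, 3, 2, 1, 2, 3, 4, 0, 3, 5, 6, 0, 5, 6, 7, 5, 2, 3, 5, 4, 3, 4, 2, 5, 4, 6, 4, 3, 5, 7, 4, 5, 2, 3, 4, 5, 1, 4, 3, 4, 3, 1, 5, 4, 3, 2, 5, 4, 0, 5, 3, 4, 6, 4, 5, 2, 4, 3, 4, 5, 3, 2, 5, 0, 6, 5, 7, 6, 5, 3, 7, 4, 3, 2, 1, 2, 3, 4, 0, 3, 5, 6, 0, 5, 6, 7, 5, 2, 3, 5, 4, 3, 4, 2, 5, 4, 6, 4, 3, 5, 7, 4, 5, 2, 3, 4, 5, 1, 3, 4, 3, 4, 1, 5, 4, 3, 2, 5, 4, 0, 5, 3, 4, 6, 4, 5, 2, 4, 3, 4, 5, 3, 2, 5, 0, 6, 5, 7, 6, 5, 3, 7, 4, 3, 2, 1, 2, 3, 4, 0, 3, 5, 6, 0, 5, 6, 7, 5, 2, 3, 5, 4, 3, 4, 2, 5, 4, 6, 4, 3, 5, 7, 4, 5, 2, 3, 4, 5, 1, 3, 4, 3, 4, 1, 5, 4, 3, 2, 5, 4, 0, 5, 3, 4, 6, 4, 5, 2, 4, 3, 4, 5, 3, 2, 5, 0, 6, 5, 7, 6, 5, 3, 7, 4, 3,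 2, 2, 3, 4, 0, 3, 5, 6, 0, 5, 6, 7, 5, 2, 3, 5, 4, 3, 4, 2, 5, 4, 6, 4, 3, 5, 7, 4, 5, 2, 3, 4, 5, 1, 3, 4, 3, 4, 1, 5, 4, 3, 2, 5, 4, 0, 5, 3, 4, 6, 4, 5, 2, 4, 3, 4, 5, 3, 2, 5, 0, 6, 5, 7, 6, 5, 3, 7, 4, 3, 2, 1, 2, 3, 4, 0, 3, 5, 6, 0, 5, 6, 7, 5, 2, 3, 5, 4, 3, 4, 2, 5, 4, 6, 4, 3, 5, 7, 4, 5, 2, 3, 4, 5, 1, 4, 3, 4, 3, 1, 5, 4, 3, 2, 5, 4, 0, 5, 3, 4, 6, 4, 5, 2, 4, 3, 4, 5, 3, 2, 5, 0, 6, 5, 7, 6, 5, 3, 7, 4, 3, 2, 1, 2, 3, 4, 0, 3, 5, 6, 0, 5, 6, 7, 5, 2, 3, 5, 4, 3, 4, 2, 5, 4, 6, 4, 3, 5, 7, 4, 5, 2, 3, 4, 5, 1, 3, 4, 3, 4, 1, 5, 4, 3, 2, 5, 4, 0, 5, 3, 4, 6, 4, 5, 2, 4, 3, 4, 5, 3, 2, 5, 0, 6, 5, 7, 6, 5, 3, 7, 4, 3, 2, 1, 2, 3, 4, 0, 3, 5, 6, 0, 5, 6, 7, 5, 2, 3, 5, 4, 3, 4, 2, 5, 4, 6, 4, 3, 5, 7,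 4, 5, 2, 3, 4, 5, 1, 4, 3, 4, 3, 1, 5, 4, 3, 2, 5, 4, 0, 5, 3, 4, 6, 4, 5, 2, 4, 3, 4, 5, 3, 2, 5, 0, 6, 5, 7, 6, 5, 3, 7, 4, 3, 2, 1, 2, 3, 4, 0, 3, 5, 6, 0, 5, 6, 7, 5, 2, 3, 5, 4, 3, 4, 2, 5, 4, 6, 4, 3, 5, 7, 4, 5, 2, 3, 4, 5, 1, 4, 3, 4, 3, 1, 5, 4, 3, 2, 5, 4, 0, 5, 3, 4, 6, 4, 5, 2, 4, 3, 4, 5, 3, 2, 5, 0, 6, 5, 7, 6, 5, 3, 7, 4, 3, 2] (by decide)
  intro j hj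
  rcases Nat.lt_or_ge j 1 with h0 | h0
  · exact checkPlanes_sound nets 17 _ 1 0 plM4_0 j (by omega) (by omega)
  rcases Nat.lt_or_ge j 2 with h1 | h1
  · exact checkPlanes_sound nets 17 _ 1 1 plM4_1 j (by omega) (by omega)
  rcases Nat.lt_or_ge j 3 with h2 | h2
  · exact checkPlanes_sound nets 17 _ 1 2 plM4_2 j (by omega) (by omega)
  rcases Nat.lt_or_ge j 4 with h3 | h3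
  · exact checkPlanes_sound nets 17 _ 1 3 plM4_3 j (by omega) (by omega)
  rcases Nat.lt_or_ge j 5 with h4 | h4
  · exact checkPlanes_sound nets 17 _ 1 4 plM4_4 j (by omega) (by omega)
  rcases Nat.lt_or_ge j 6 with h5 | h5
  · exact checkPlanes_sound nets 17 _ 1 5 plM4_5 j (by omega) (by omega)
  rcases Nat.lt_or_ge j 7 with h6 | h6
  · exact checkPlanes_sound nets 17 _ 1 6 plM4_6 j (by omega) (by omega)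
  rcases Nat.lt_or_ge j 8 with h7 | h7
  · exact checkPlanes_sound nets 17 _ 1 7 plM4_7 j (by omega) (by omega)
  rcases Nat.lt_or_ge j 9 with h8 | h8
  · exact checkPlanes_sound nets 17 _ 1 8 plM4_8 j (by omega) (by omega)
  rcases Nat.lt_or_ge j 10 with h9 | h9
  · exact checkPlanes_sound nets 17 _ 1 9 plM4_9 j (by omega) (by omega)
  rcases Nat.lt_or_ge j 11 with h10 | h10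
  · exact checkPlanes_sound nets 17 _ 1 10 plM4_10 j (by omega) (by omega)
  rcases Nat.lt_or_ge j 12 with h11 | h11
  · exact checkPlanes_sound nets 17 _ 1 11 plM4_11 j (by omega) (by omega)
  rcases Nat.lt_or_ge j 13 with h12 | h12
  · exact checkPlanes_sound nets 17 _ 1 12 plM4_12 j (by omega) (by omega)
  rcases Nat.lt_or_ge j 14 with h13 | h13
  · exact checkPlanes_sound nets 17 _ 1 13 plM4_13 j (by omega) (by omega)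
  rcases Nat.lt_or_ge j 15 with h14 | h14
  · exact checkPlanes_sound nets 17 _ 1 14 plM4_14 j (by omega) (by omega)
  rcases Nat.lt_or_ge j 16 with h15 | h15
  · exact checkPlanes_sound nets 17 _ 1 15 plM4_15 j (by omega) (by omega)
  exact checkPlanes_sound nets 17 _ 1 16 plM4_16 j (by omega) (by omega)

/-- the inverse letters -/
def invL (s : ℕ) : ℕ := [7, 1, 2, 3, 4, 5, 6, 0].getD s 0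

theorem isAction : IsAction 122760 8 A invL where
  lt := hlt
  invk := by decide
  invinv := by decide
  cancel := by
    intro s hs x hx
    interval_cases s
    · exact fixp0 x hx
    · exact fixp1 x hx
    · exact fixp2 x hx
    · exact fixp3 x hx
    · exact fixp4 x hx
    · exact fixp5 x hx
    · exact fixp6 x hx
    · exact fixp7 x hx

theorem reach_ok : ∀ x < 122760, Reach A 8 x := reach_of_check hok isAction reachOK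

end Cfsg.Agent.Lib.helper19_ONBB
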