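import Cfsg.Agent.Lib.helper19_ONL

/-! Generated: relator checks, file 8; by helper19. -/

set_option autoImplicit false
set_option maxRecDepth 1000000
set_option Elab.async false

namespace Cfsg.Agent.Lib.helper19_ONL
open Cfsg.Agent.Lib.helper19_TC2 Cfsg.Agent.Lib.helper19_TC2L

theorem fix12_10 : checkFix 17 131071 (colsOf cols [0, 2, 3, 0, 3, 2, 0, 2, 3, 0, 3]) 9090 90900 = true := by
  decide +kernel

theorem fix12_11 : checkFix 17 131071 (colsOf cols [0, 2, 3, 0, 3, 2, 0, 2, 3, 0, 3]) 9090 99990 = true := by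
  decide +kernel

theorem fix12_12 : checkFix 17 131071 (colsOf cols [0, 2, 3, 0, 3, 2, 0, 2, 3, 0, 3]) 9090 109080 = true := by
  decide +kernel

theorem fix12_13 : checkFix 17 131071 (colsOf cols [0, 2, 3, 0, 3, 2, 0, 2, 3, 0, 3]) 4590 118170 = true := by
  decide +kernel

theorem fix13_0 : checkFix 17 131071 (colsOf cols [4, 6, 4, 6]) 25000 0 = true := by
  decide +kernel

theorem fix13_1 : checkFix 17 131071 (colsOf cols [4, 6, 4, 6]) 25000 25000 = true := by
  decide +kernel

theorem fix13_2 : checkFix 17 131071 (colsOf cols [4, 6, 4, 6]) 25000 50000 = true := by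
  decide +kernel

theorem fix13_3 : checkFix 17 131071 (colsOf cols [4, 6, 4, 6]) 25000 75000 = true := by
  decide +kernel

theorem fix13_4 : checkFix 17 131071 (colsOf cols [4, 6, 4, 6]) 22760 100000 = true := by
  decide +kernel

theorem fix14_0 : checkFix 17 131071 (colsOf cols [2, 4, 2, 4]) 25000 0 = true := by
  decide +kernel

end Cfsg.Agent.Lib.helper19_ONL
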