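import Mathlib
import Cfsg.Agent.Lib.helper19_PG
import Cfsg.Agent.Lib.helper19_TC2P
import Cfsg.Agent.Lib.helper19_PJ1A
import Cfsg.Agent.Lib.Helper90_J1Simple

/-!
The group `⟨a, b | a², b³, (ab)⁷, (ab(abab⁻¹)³)⁵, (ab(abab⁻¹)⁶abab(ab⁻¹)²)²⟩` is simple of order
175560: at most `25080 · 7` elements by coset enumeration over `⟨ab⟩`, and it maps onto Janko's
matrix group `J₁ ≤ GL₇(11)` of order 175560 (helper90's `Helper90_J1Simple`).  By helper19.
-/

set_option autoImplicit false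
set_option maxRecDepth 100000

namespace Cfsg.Agent.Lib.helper19_PJ1

open Cfsg.Agent.Lib.helper19_TC2 Cfsg.Agent.Lib.helper19_TC2L Cfsg.Agent.Lib.helper19_TC2P
open Cfsg.Agent.Lib.helper19_PG Cfsg.Agent.Lib.helper19_PJ1U Cfsg.Agent.Lib.helper19_PJ1A
open Cfsg.Agent.Lib.Helper90_J1Core Cfsg.Agent.Lib.Helper90_J1Order Cfsg.Agent.Lib.Helper90_J1Simple

/-- the relators -/
def rels : List (List ℕ) :=
  [[0, 0], [1, 1, 1],
   [0, 1, 0, 1, 0, 1, 0, 1, 0, 1, 0, 1, 0, 1],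
   [0, 1, 0, 1, 0, 2, 0, 1, 0, 2, 0, 1, 0, 2, 0, 1, 0, 1, 0, 2, 0, 1, 0, 2, 0, 1, 0, 2, 0, 1, 0, 1, 0, 2, 0, 1, 0, 2, 0, 1, 0, 2, 0, 1, 0, 1, 0, 2, 0, 1, 0, 2, 0, 1, 0, 2, 0, 1, 0, 1, 0, 2, 0, 1, 0, 2, 0, 1, 0, 2],
   [0, 1, 0, 1, 0, 2, 0, 1, 0, 2, 0, 1, 0, 2, 0, 1, 0, 2, 0, 1, 0, 2, 0, 1, 0, 2, 0, 1, 0, 1, 0, 2, 0, 2, 0, 1, 0, 1, 0, 2, 0, 1, 0, 2, 0, 1, 0, 2, 0, 1, 0, 2, 0, 1, 0, 2, 0, 1, 0, 2, 0, 1, 0, 1, 0, 2, 0, 2]]

theorem rels_lt : ∀ w ∈ rels, ∀ l ∈ w, l < 3 := by decide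

/-- the presented group -/
abbrev G : Type := Grp rels

theorem S12 : wprod (S rels) [1, 2] = 1 := by
  simp only [wprod, mul_one, S_two]; simp

theorem S21 : wprod (S rels) [2, 1] = 1 := by
  simp only [wprod, mul_one, S_two]; simp

/-- the subgroup generated by `ab` -/
noncomputable abbrev Hab : Subgroup G := Subgroup.zpowers (S rels 0 * S rels 1)

/-- the model for the upper bound -/
noncomputable def Mo : Model P G where
  S := S rels
  H := Hab
  hinv := by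
    intro l hl
    have hl' : l < 3 := hl
    rw [inv_eq l hl']
    exact S_inv3 (by decide) l hl'
  hrel := by
    intro wid hwid hs
    have hwid' : wid < 10 := hwid
    interval_cases wid
    · exact rel_holds (rels := rels) (w := [1, 1, 1]) (by decide)
    · exact rel_holds (rels := rels) (w := [0, 1, 0, 1, 0, 1, 0, 1, 0, 1, 0, 1, 0, 1]) (by decide)
    · exact rel_holds (rels := rels)
        (w := [0, 1, 0, 1, 0, 2, 0, 1, 0, 2, 0, 1, 0, 2, 0, 1, 0, 1, 0, 2, 0, 1, 0, 2, 0, 1, 0, 2, 0, 1, 0, 1, 0, 2, 0, 1, 0, 2, 0, 1, 0, 2, 0, 1, 0, 1, 0, 2, 0, 1, 0, 2, 0, 1, 0, 2, 0, 1, 0, 1, 0, 2, 0, 1, 0, 2, 0, 1, 0, 2]) (by decide)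
    · exact rel_holds (rels := rels)
        (w := [0, 1, 0, 1, 0, 2, 0, 1, 0, 2, 0, 1, 0, 2, 0, 1, 0, 2, 0, 1, 0, 2, 0, 1, 0, 2, 0, 1, 0, 1, 0, 2, 0, 2, 0, 1, 0, 1, 0, 2, 0, 1, 0, 2, 0, 1, 0, 2, 0, 1, 0, 2, 0, 1, 0, 2, 0, 1, 0, 2, 0, 1, 0, 1, 0, 2, 0, 2]) (by decide)
    · exact rel_holds (rels := rels) (w := [0, 0]) (by decide)
    · exact S21
    · exact S12
    · exact absurd hs (by decide)
    · exact rel_holds (rels := rels) (w := [0, 0]) (by decide)
    · rfl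
  hsub := by
    intro wid hwid hs
    have hwid' : wid < 10 := hwid
    interval_cases wid
    · exact absurd hs (by decide)
    · exact absurd hs (by decide)
    · exact absurd hs (by decide)
    · exact absurd hs (by decide)
    · exact absurd hs (by decide)
    · exact absurd hs (by decide)
    · exact absurd hs (by decide)
    · show wprod (S rels) [0, 1] ∈ Hab
      simp only [wprod, mul_one]
      exact Subgroup.mem_zpowers _
    · exact absurd hs (by decide)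
    · exact absurd hs (by decide)

theorem index_bounds : Hab.index ≠ 0 ∧ Hab.index ≤ 25080 := upper Mo (closure_S rels)

theorem pow_seven : (S rels 0 * S rels 1) ^ 7 = 1 := by
  have h := rel_holds (rels := rels) (w := [0, 1, 0, 1, 0, 1, 0, 1, 0, 1, 0, 1, 0, 1]) (by decide)
  have e : ([0, 1, 0, 1, 0, 1, 0, 1, 0, 1, 0, 1, 0, 1] : List ℕ) = altWord 0 1 7 := rfl
  rw [e, wprod_altWord] at h
  exact h

theorem card_Hab : Nat.card Hab ≠ 0 ∧ Nat.card Hab ≤ 7 := by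
  have h7 : orderOf (S rels 0 * S rels 1) ≤ 7 := orderOf_le_of_pow_eq_one (by norm_num) pow_seven
  have hpos : 0 < orderOf (S rels 0 * S rels 1) :=
    orderOf_pos_iff.mpr (isOfFinOrder_iff_pow_eq_one.mpr ⟨7, by norm_num, pow_seven⟩)
  rw [Nat.card_zpowers]
  exact ⟨hpos.ne', h7⟩

theorem card_bounds : Nat.card G ≠ 0 ∧ Nat.card G ≤ 175560 := by
  have h1 := index_bounds
  have h2 := card_Hab
  have h3 : Hab.index * Nat.card Hab = Nat.card G := Subgroup.index_mul_card Hab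
  constructor
  · rw [← h3]; exact Nat.mul_ne_zero h1.1 h2.1
  · rw [← h3]
    calc Hab.index * Nat.card Hab ≤ 25080 * 7 := Nat.mul_le_mul h1.2 h2.2
      _ = 175560 := by norm_num

instance finiteG : Finite G := Nat.finite_of_card_ne_zero card_bounds.1

/-! ### the matrix representation -/

/-- the words of the letters in Janko's matrices -/
def lw : ℕ → List ℕ
  | 0 => [3, 2, 1, 2]
  | 1 => [0, 1, 2, 2, 2, 1, 1, 2, 1, 1, 0, 0, 3, 2]
  | _ => [0, 1, 2, 2, 3, 3, 0, 3, 3, 0, 0, 0, 3, 2]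

/-- the images of the letters -/
noncomputable def t (l : ℕ) : GL (Fin 7) (ZMod 11) := evalG (lw l)

theorem evalG_nil : evalG [] = 1 := by simp [evalG]

theorem wprod_t : ∀ w : List ℕ, wprod t w = evalG (w.flatMap lw)
  | [] => by simp [wprod, evalG_nil]
  | c :: w => by
    rw [wprod, wprod_t w, List.flatMap_cons, evalG_append]
    rfl

theorem code_rel0 : evalW (([0, 0] : List ℕ).flatMap lw) = evalW [] := by decide +kernel
theorem code_rel1 : evalW (([1, 1, 1] : List ℕ).flatMap lw) = evalW [] := by decide +kernel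
theorem code_rel2 : evalW (([0, 1, 0, 1, 0, 1, 0, 1, 0, 1, 0, 1, 0, 1] : List ℕ).flatMap lw) = evalW [] := by
  decide +kernel
theorem code_rel3 : evalW (([0, 1, 0, 1, 0, 2, 0, 1, 0, 2, 0, 1, 0, 2, 0, 1, 0, 1, 0, 2, 0, 1, 0, 2, 0, 1, 0, 2, 0, 1, 0, 1, 0, 2, 0, 1, 0, 2, 0, 1, 0, 2, 0, 1, 0, 1, 0, 2, 0, 1, 0, 2, 0, 1, 0, 2, 0, 1, 0, 1, 0, 2, 0, 1, 0, 2, 0, 1, 0, 2] : List ℕ).flatMap lw) = evalW [] := by
  decide +kernel
theorem code_rel4 : evalW (([0, 1, 0, 1, 0, 2, 0, 1, 0, 2, 0, 1, 0, 2, 0, 1, 0, 2, 0, 1, 0, 2, 0, 1, 0, 2, 0, 1, 0, 1, 0, 2, 0, 2, 0, 1, 0, 1, 0, 2, 0, 1, 0, 2, 0, 1, 0, 2, 0, 1, 0, 2, 0, 1, 0, 2, 0, 1, 0, 2, 0, 1, 0, 1, 0, 2, 0, 2] : List ℕ).flatMap lw) = evalW [] := by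
  decide +kernel
theorem code_inv : evalW (([1, 2] : List ℕ).flatMap lw) = evalW [] := by decide +kernel

/-- the word of Janko's `X` in `a`, `b` -/
def wX : List ℕ := [0, 1, 0, 2, 0, 2, 0, 1, 0, 1, 0, 2, 0, 1, 0, 2, 0, 2, 0, 1, 0, 1, 0, 2, 0, 2, 0, 1, 0, 1, 0, 2, 0, 1, 0, 2, 0, 2, 0, 1, 0]
/-- the word of Janko's `Y` in `a`, `b` -/
def wY : List ℕ := [0, 1, 0, 2, 0, 2, 0, 1, 0, 2, 0, 1, 0, 2, 0, 1, 0, 1, 0, 2, 0, 1, 0]

theorem code_X : evalW (wX.flatMap lw) = evalW [0] := by decide +kernel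
theorem code_Y : evalW (wY.flatMap lw) = evalW [1] := by decide +kernel

theorem t_rel : ∀ w ∈ rels, wprod t w = 1 := by
  intro w hw
  rw [wprod_t, ← evalG_nil]
  simp only [rels, List.mem_cons, List.not_mem_nil, or_false] at hw
  rcases hw with rfl | rfl | rfl | rfl | rfl
  · exact evalG_eq_of_code code_rel0
  · exact evalG_eq_of_code code_rel1
  · exact evalG_eq_of_code code_rel2
  · exact evalG_eq_of_code code_rel3
  · exact evalG_eq_of_code code_rel4

theorem t_two : t 2 = (t 1)⁻¹ := by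
  have h : wprod t [1, 2] = 1 := by
    rw [wprod_t, ← evalG_nil]
    exact evalG_eq_of_code code_inv
  simp only [wprod, mul_one] at h
  exact eq_inv_of_mul_eq_one_right h

/-- the matrix representation -/
noncomputable def theta : G →* GL (Fin 7) (ZMod 11) := homOf rels t rels_lt t_two t_rel

theorem theta_wprod (w : List ℕ) (hw : ∀ l ∈ w, l < 3) : theta (wprod (S rels) w) = wprod t w :=
  homOf_wprod rels t rels_lt t_two t_rel w hw

theorem theta_mem (g : G) : theta g ∈ Cfsg.Spor.J1 := by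
  have hr : theta g ∈ theta.range := ⟨g, rfl⟩
  have hrange : theta.range = Subgroup.closure {t 0, t 1} := range_homOf rels t rels_lt t_two t_rel
  rw [hrange] at hr
  refine (Subgroup.closure_le _).mpr ?_ hr
  intro x hx
  simp only [Set.mem_insert_iff, Set.mem_singleton_iff] at hx
  rcases hx with rfl | rfl
  · exact evalG_mem _
  · exact evalG_mem _

/-- the representation, into `J₁` -/
noncomputable def thetaJ : G →* Cfsg.Spor.J1 := theta.codRestrict Cfsg.Spor.J1 theta_mem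

theorem jankoX_mem : Cfsg.Spor.jankoX ∈ theta.range := by
  refine ⟨wprod (S rels) wX, ?_⟩
  rw [theta_wprod wX (by decide), wprod_t, evalG_eq_of_code code_X]
  simp [evalG, glet]

theorem jankoY_mem : Cfsg.Spor.jankoY ∈ theta.range := by
  refine ⟨wprod (S rels) wY, ?_⟩
  rw [theta_wprod wY (by decide), wprod_t, evalG_eq_of_code code_Y]
  simp [evalG, glet]

theorem thetaJ_surjective : Function.Surjective thetaJ := by
  intro g
  have hg : (g : GL (Fin 7) (ZMod 11)) ∈ theta.range := by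
    have hle : Cfsg.Spor.J1 ≤ theta.range := by
      rw [Cfsg.Spor.J1, Subgroup.closure_le]
      intro x hx
      simp only [Set.mem_insert_iff, Set.mem_singleton_iff] at hx
      rcases hx with rfl | rfl
      · exact jankoX_mem
      · exact jankoY_mem
    exact hle g.2
  obtain ⟨x, hx⟩ := hg
  exact ⟨x, Subtype.ext hx⟩

theorem thetaJ_bijective : Function.Bijective thetaJ := by
  apply Function.Surjective.bijective_of_nat_card_le thetaJ_surjective
  rw [card_J1]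
  exact card_bounds.2

/-- the presented group is Janko's group -/
noncomputable def equivJ1 : G ≃* Cfsg.Spor.J1 := MulEquiv.ofBijective thetaJ thetaJ_bijective

theorem card_G : Nat.card G = 175560 := by
  rw [Nat.card_congr equivJ1.toEquiv]; exact card_J1

theorem simple_G : IsSimpleGroup G := by
  have := isSimpleGroup_J1
  exact equivJ1.isSimpleGroup

end Cfsg.Agent.Lib.helper19_PJ1
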