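import Cfsg.Agent.Lib.helper19_PM11U

/-! Generated: count of the live names, part 0; by helper19. -/

set_option autoImplicit false
set_option maxRecDepth 1000000
set_option Elab.async false

namespace Cfsg.Agent.Lib.helper19_PM11U
open Cfsg.Agent.Lib.helper19_TC2

theorem cnt0 : countLive P 21899 0 0 = 7920 := by decide +kernel

end Cfsg.Agent.Lib.helper19_PM11U
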