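import Cfsg.Agent.Lib.helper19_TC2
import Cfsg.Agent.Lib.helper19_TC2U2
import Cfsg.Agent.Lib.helper19_PM11UT0
import Cfsg.Agent.Lib.helper19_PM11UT1
import Cfsg.Agent.Lib.helper19_PM11U
import Cfsg.Agent.Lib.helper19_PM11UD0
import Cfsg.Agent.Lib.helper19_PM11UN0
import Cfsg.Agent.Lib.helper19_PM11UR0
import Cfsg.Agent.Lib.helper19_PM11UC0
import Cfsg.Agent.Lib.helper19_PM11UC1
import Cfsg.Agent.Lib.helper19_PM11UC2
import Cfsg.Agent.Lib.helper19_PM11UC3
import Cfsg.Agent.Lib.helper19_PM11UC4
import Cfsg.Agent.Lib.helper19_PM11UC5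
import Cfsg.Agent.Lib.helper19_PM11UC6

/-! Generated: the combined certificate facts for the presentation `m11`; by helper19. -/

set_option autoImplicit false
set_option maxRecDepth 1000000
set_option Elab.async false

namespace Cfsg.Agent.Lib.helper19_PM11A
open Cfsg.Agent.Lib.helper19_TC2 Cfsg.Agent.Lib.helper19_TC2U2 Cfsg.Agent.Lib.helper19_PM11U

theorem cntOK : countLive P P.M 0 0 = 7920 := by
  have c0 := cnt0
  exact c0

section upper
variable {G : Type*} [Group G] (Mo : Model P G)

theorem good : ∀ id < P.Fn, Good Mo id := by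
  have h0 : ∀ id < 21898, Good Mo id := by
    intro id hid
    exact good_of_checkDefs_part Mo defs0 (by decide) id (by omega) (by omega)
  have g0 : ∀ id < 25214, Good Mo id := good_step Mo recs0 h0 part0 (by decide)
  have g1 : ∀ id < 27752, Good Mo id := good_step Mo recs1 g0 part1 (by decide)
  have g2 : ∀ id < 34162, Good Mo id := good_step Mo recs2 g1 part2 (by decide)
  have g3 : ∀ id < 40822, Good Mo id := good_step Mo recs3 g2 part3 (by decide)
  have g4 : ∀ id < 47482, Good Mo id := good_step Mo recs4 g3 part4 (by decide)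
  have g5 : ∀ id < 54142, Good Mo id := good_step Mo recs5 g4 part5 (by decide)
  have g6 : ∀ id < 56498, Good Mo id := good_step Mo recs6 g5 part6 (by decide)
  exact g6

theorem hedge (z : ℕ) (hz : P.isLive z = true) (s : ℕ) (hs : s < P.k) :
    ∃ y, P.isLive y = true ∧ Edge Mo z s y := by
  have hzM : z < 21899 := lt_of_isLive liveM hz
  exact edge_of_rows Mo (good Mo) rows0 z (by omega) (by omega) hz s hs

/-- the upper bound -/
theorem upper (hgen : Subgroup.closure (Mo.S '' {s | s < P.k}) = ⊤) :
    Mo.H.index ≠ 0 ∧ Mo.H.index ≤ 7920 :=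
  index_le Mo hgen invk (hedge Mo) live0 liveM 7920 cntOK

end upper


end Cfsg.Agent.Lib.helper19_PM11A
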