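import Mathlib
import Cfsg.Agent.Lib.helper19_PG
import Cfsg.Agent.Lib.helper19_PM11A
import Cfsg.Agent.Lib.helper19_M11PB
import Cfsg.Agent.S0418

/-!
The group `⟨a, b | a², b⁴, (ab)¹¹, (ab²)⁶, ababab⁻¹abab²ab⁻¹abab⁻¹ab⁻¹⟩` is simple of order 7920:
at most 7920 elements by coset enumeration over the trivial subgroup, at least 7920 in its
permutation representation on 11 points by a stabiliser chain 11 · 10 · 9 · 8, simple by the
criterion of `Cfsg.Agent.S0418`.  By helper19.
-/

set_option autoImplicit false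
set_option maxRecDepth 100000

namespace Cfsg.Agent.Lib.helper19_PM11

open Cfsg.Agent.Lib.helper19_TC2 Cfsg.Agent.Lib.helper19_TC2L Cfsg.Agent.Lib.helper19_Benes
open Cfsg.Agent.Lib.helper19_PG Cfsg.Agent.Lib.helper19_PM11U Cfsg.Agent.Lib.helper19_PM11A
open Cfsg.Agent.Lib.helper19_M11PL Cfsg.Agent.Lib.helper19_M11PB

/-- the relators -/
def rels : List (List ℕ) :=
  [[0, 0], [1, 1, 1, 1],
   [0, 1, 0, 1, 0, 1, 0, 1, 0, 1, 0, 1, 0, 1, 0, 1, 0, 1, 0, 1, 0, 1],
   [0, 1, 1, 0, 1, 1, 0, 1, 1, 0, 1, 1, 0, 1, 1, 0, 1, 1],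
   [0, 1, 0, 1, 0, 2, 0, 1, 0, 1, 1, 0, 2, 0, 1, 0, 2, 0, 2]]

theorem rels_lt : ∀ w ∈ rels, ∀ l ∈ w, l < 3 := by decide

/-- the presented group -/
abbrev G : Type := Grp rels

theorem S12 : wprod (S rels) [1, 2] = 1 := by
  simp only [wprod, mul_one, S_two]; simp

theorem S21 : wprod (S rels) [2, 1] = 1 := by
  simp only [wprod, mul_one, S_two]; simp

/-- the model for the upper bound -/
noncomputable def Mo : Model P G where
  S := S rels
  H := ⊥
  hinv := by
    intro l hl
    have hl' : l < 3 := hl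
    rw [inv_eq l hl']
    exact S_inv3 (by decide) l hl'
  hrel := by
    intro wid hwid _
    have hwid' : wid < 9 := hwid
    interval_cases wid
    · exact rel_holds (rels := rels) (w := [0, 0]) (by decide)
    · exact S12
    · exact S21
    · exact rel_holds (rels := rels) (w := [1, 1, 1, 1]) (by decide)
    · exact rel_holds (rels := rels)
        (w := [0, 1, 0, 1, 0, 2, 0, 1, 0, 1, 1, 0, 2, 0, 1, 0, 2, 0, 2]) (by decide)
    · exact rel_holds (rels := rels)
        (w := [0, 1, 1, 0, 1, 1, 0, 1, 1, 0, 1, 1, 0, 1, 1, 0, 1, 1]) (by decide)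
    · exact rel_holds (rels := rels)
        (w := [0, 1, 0, 1, 0, 1, 0, 1, 0, 1, 0, 1, 0, 1, 0, 1, 0, 1, 0, 1, 0, 1]) (by decide)
    · rfl
    · exact rel_holds (rels := rels) (w := [0, 0]) (by decide)
  hsub := by
    intro wid hwid hs
    have hwid' : wid < 9 := hwid
    interval_cases wid <;> exact absurd hs (by decide)

theorem card_bounds : Nat.card G ≠ 0 ∧ Nat.card G ≤ 7920 := by
  have h := upper Mo (closure_S rels)
  have hb : Mo.H.index = Nat.card G := Subgroup.index_bot
  rwa [hb] at h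

instance finiteG : Finite G := Nat.finite_of_card_ne_zero card_bounds.1

/-! ### the permutation representation on 11 points -/

theorem fix_rels : ∀ w ∈ rels, ∀ x < 11, tr A w x = x := by
  intro w hw
  simp only [rels, List.mem_cons, List.not_mem_nil, or_false] at hw
  rcases hw with rfl | rfl | rfl | rfl | rfl
  · exact fixp0
  · exact fixr1
  · exact fixr2
  · exact fixr3
  · exact fixr4

theorem exists_psi : ∃ ψ : G →* Equiv.Perm (Fin 11), ∀ w : List ℕ, (∀ l ∈ w, l < 3) →
    ψ (wprod (S rels) w) = wprod (q isAction) w :=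
  exists_actHom isAction rels rels_lt fix_rels

/-- the representation -/
noncomputable def psi : G →* Equiv.Perm (Fin 11) := exists_psi.choose

theorem psi_wprod (w : List ℕ) (hw : ∀ l ∈ w, l < 3) :
    psi (wprod (S rels) w) = wprod (q isAction) w := exists_psi.choose_spec w hw

theorem psi_S (s : ℕ) (hs : s < 3) : psi (S rels s) = (perm isAction s)⁻¹ := by
  have := psi_wprod [s] (by simpa using hs)
  simpa [wprod, q] using this

theorem mem_range (w : List ℕ) (hw : ∀ l ∈ w, l < 3) : wprod (q isAction) w ∈ psi.range :=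
  ⟨_, psi_wprod w hw⟩

/-- a word fixing a point gives a permutation in the stabiliser -/
theorem mem_stab (w : List ℕ) (hw : ∀ l ∈ w, l < 3) (p : ℕ) (hp : p < 11) (hfix : tr A w p = p) :
    wprod (q isAction) w ∈ MulAction.stabilizer (Equiv.Perm (Fin 11)) (⟨p, hp⟩ : Fin 11) := by
  rw [MulAction.mem_stabilizer_iff]
  have h1 := wprod_q_inv_apply isAction w hw ⟨p, hp⟩
  rw [hfix] at h1
  have h2 : (wprod (q isAction) w)⁻¹ ⟨p, hp⟩ = ⟨p, hp⟩ := Fin.ext h1
  have h3 : wprod (q isAction) w ⟨p, hp⟩ = ⟨p, hp⟩ := by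
    rw [Equiv.Perm.inv_eq_iff_eq] at h2
    exact h2.symm
  exact h3

/-- the points of the chain -/
abbrev b0 : Fin 11 := ⟨0, by decide⟩
/-- the points of the chain -/
abbrev b1 : Fin 11 := ⟨1, by decide⟩
/-- the points of the chain -/
abbrev b2 : Fin 11 := ⟨2, by decide⟩
/-- the points of the chain -/
abbrev b3 : Fin 11 := ⟨3, by decide⟩

/-- the chain of stabilisers -/
noncomputable abbrev H1 : Subgroup (Equiv.Perm (Fin 11)) :=
  psi.range ⊓ MulAction.stabilizer (Equiv.Perm (Fin 11)) b0
/-- the chain of stabilisers -/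
noncomputable abbrev H2 : Subgroup (Equiv.Perm (Fin 11)) :=
  H1 ⊓ MulAction.stabilizer (Equiv.Perm (Fin 11)) b1
/-- the chain of stabilisers -/
noncomputable abbrev H3 : Subgroup (Equiv.Perm (Fin 11)) :=
  H2 ⊓ MulAction.stabilizer (Equiv.Perm (Fin 11)) b2
/-- the chain of stabilisers -/
noncomputable abbrev H4 : Subgroup (Equiv.Perm (Fin 11)) :=
  H3 ⊓ MulAction.stabilizer (Equiv.Perm (Fin 11)) b3

theorem step0 : 11 * Nat.card H1 ≤ Nat.card psi.range := by
  refine card_step_of_sweeps hok isAction psi.range b0 ws0 ?_ 4 11 lv0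
  intro w hw
  have hl : ∀ s ∈ w, s < 3 := by
    revert w; decide
  exact ⟨hl, mem_range w hl⟩

theorem step1 : 10 * Nat.card H2 ≤ Nat.card H1 := by
  refine card_step_of_sweeps hok isAction H1 b1 ws1 ?_ 2 10 lv1
  intro w hw
  have hl : ∀ s ∈ w, s < 3 := by
    revert w; decide
  exact ⟨hl, mem_range w hl, mem_stab w hl 0 _ (lvfix1 w hw 0 (by decide))⟩

theorem step2 : 9 * Nat.card H3 ≤ Nat.card H2 := by
  refine card_step_of_sweeps hok isAction H2 b2 ws2 ?_ 2 9 lv2
  intro w hw
  have hl : ∀ s ∈ w, s < 3 := by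
    revert w; decide
  exact ⟨hl, ⟨mem_range w hl, mem_stab w hl 0 _ (lvfix2 w hw 0 (by decide))⟩,
    mem_stab w hl 1 _ (lvfix2 w hw 1 (by decide))⟩

theorem step3 : 8 * Nat.card H4 ≤ Nat.card H3 := by
  refine card_step_of_sweeps hok isAction H3 b3 ws3 ?_ 1 8 lv3
  intro w hw
  have hl : ∀ s ∈ w, s < 3 := by
    revert w; decide
  exact ⟨hl, ⟨⟨mem_range w hl, mem_stab w hl 0 _ (lvfix3 w hw 0 (by decide))⟩,
    mem_stab w hl 1 _ (lvfix3 w hw 1 (by decide))⟩,
    mem_stab w hl 2 _ (lvfix3 w hw 2 (by decide))⟩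

theorem card_range_ge : 7920 ≤ Nat.card psi.range := by
  have h4 : 1 ≤ Nat.card H4 := Nat.one_le_iff_ne_zero.mpr Nat.card_pos.ne'
  have h0 := step0
  have h1 := step1
  have h2 := step2
  have h3 := step3
  nlinarith

theorem psi_bijective : Function.Bijective psi.rangeRestrict := by
  apply Function.Surjective.bijective_of_nat_card_le psi.rangeRestrict_surjective
  exact le_trans card_bounds.2 card_range_ge

/-- the presented group is isomorphic to its image on 11 points -/
noncomputable def equivRange : G ≃* psi.range := MulEquiv.ofBijective psi.rangeRestrict psi_bijective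

theorem card_range : Nat.card psi.range = 7920 := by
  have h1 := card_range_ge
  have h2 : Nat.card psi.range ≤ Nat.card G :=
    Nat.card_le_card_of_surjective _ psi.rangeRestrict_surjective
  have h3 := card_bounds.2
  omega

theorem card_G : Nat.card G = 7920 := by
  rw [Nat.card_congr equivRange.toEquiv]; exact card_range

instance pretransitive : MulAction.IsPretransitive psi.range (Fin 11) :=
  pretransitive_range (by decide) isAction psi (S rels) psi_S reach_ok

theorem simple_range : IsSimpleGroup psi.range :=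
  Cfsg.Agent.S0418.isSimpleGroup_of_card (G := psi.range) (α := Fin 11) card_range (by simp)

theorem simple_G : IsSimpleGroup G := by
  have := simple_range
  exact equivRange.isSimpleGroup

end Cfsg.Agent.Lib.helper19_PM11
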