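import Mathlib
import Cfsg.Prelude.Def_Spor_ON
import Cfsg.Agent.Lib.helper19_TC2P
import Cfsg.Agent.Lib.helper19_PG
import Cfsg.Agent.Lib.helper19_ONBB
import Cfsg.Agent.Lib.helper19_PJ1
import Cfsg.Agent.Lib.helper19_PM11

/-!
The permutation representation of the presented O'Nan group on 122760 points (switching networks,
`helper19_ONBB`), its transitivity, and the subgroups `J₁` and `M₁₁` of its image: images of the
presented groups `helper19_PJ1.G` and `helper19_PM11.G` under homomorphisms given by words in the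
generators of O'N.  By helper19.
-/

set_option autoImplicit false
set_option maxRecDepth 1000000

namespace Cfsg.Agent.Lib.helper19_ONRep

open Cfsg.Spor Cfsg.Agent.Lib.helper19_TC2 Cfsg.Agent.Lib.helper19_TC2L Cfsg.Agent.Lib.helper19_TC2P
open Cfsg.Agent.Lib.helper19_Benes Cfsg.Agent.Lib.helper19_PG
open Cfsg.Agent.Lib.helper19_ONBL Cfsg.Agent.Lib.helper19_ONBB

/-- the relators -/
abbrev Rels : Set (FreeGroup ON.Gen) := coxRelators ON.edges ∪ {r | r ∈ ON.extra}

/-- the index of a generator -/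
def idx : ON.Gen → ℕ
  | .g => 0
  | .a => 1
  | .b => 2
  | .c => 3
  | .d => 4
  | .e => 5
  | .f => 6

/-- the generators by letter (letter `7` is the inverse of `g`) -/
def gen (s : ℕ) : ON.Gen := [ON.Gen.g, ON.Gen.a, ON.Gen.b, ON.Gen.c, ON.Gen.d, ON.Gen.e, ON.Gen.f].getD s ON.Gen.g

/-- the letters in the presented group -/
noncomputable def T (s : ℕ) : PresentedGroup Rels :=
  if s = 7 then (PresentedGroup.of ON.Gen.g)⁻¹ else PresentedGroup.of (gen s)

/-- the values of the further relators -/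
theorem extras_eq {Γ : Type*} [Group Γ] (t : ℕ → Γ) (hti : ∀ i ∈ [1, 2, 3, 4, 5, 6], (t i)⁻¹ = t i)
    (ht7 : t 7 = (t 0)⁻¹)
    (φ : FreeGroup ON.Gen →* Γ) (hφ : ∀ x, φ (FreeGroup.of x) = t (idx x)) :
    φ (ON.extra.getD 0 1) = wprod t [1, 6, 7, 7] ∧
    φ (ON.extra.getD 1 1) = wprod t [1, 6, 4, 3, 4, 3, 4, 3, 4, 3] ∧
    φ (ON.extra.getD 2 1) = wprod t [3, 7, 4, 7, 4, 3, 4, 0, 4, 0] ∧
    φ (ON.extra.getD 3 1) = wprod t [4, 7, 3, 7, 3, 4, 3, 0, 3, 0] ∧
    φ (ON.extra.getD 4 1) = wprod t [2, 3, 4, 0, 2, 3, 4, 0, 2, 3, 4, 0, 2, 3, 4, 0, 2, 3, 4, 0] ∧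
    φ (ON.extra.getD 5 1) = wprod t [0, 2, 3, 0, 3, 2, 0, 2, 3, 0, 3] ∧
    φ (ON.extra.getD 6 1) = wprod t [0, 5, 4, 0, 4, 5, 0, 5, 4, 0, 4] := by
  have h1 := hti 1 (by decide)
  have h2 := hti 2 (by decide)
  have h3 := hti 3 (by decide)
  have h4 := hti 4 (by decide)
  have h5 := hti 5 (by decide)
  have h6 := hti 6 (by decide)
  refine ⟨?_, ?_, ?_, ?_, ?_, ?_, ?_⟩ <;>
  simp only [ON.extra, List.getD_cons_zero, List.getD_cons_succ, ON.g, ON.a, ON.b, ON.c, ON.d, ON.e, ON.f,
    map_mul, map_inv, map_pow, hφ, idx, wprod, mul_inv_rev, inv_inv, h1, h2, h3, h4, h5, h6, ht7,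
    pow_succ, pow_zero, one_mul, mul_one, mul_assoc]


/-! ### the representation -/

/-- the images of the letters -/
noncomputable abbrev Q : ℕ → Equiv.Perm (Fin 122760) := q isAction

theorem Q_inv (s : ℕ) (h1 : 1 ≤ s) (h6 : s ≤ 6) : (Q s)⁻¹ = Q s := by
  have hs : s < 8 := by omega
  have h := q_inv isAction hs
  have hinv : invL s = s := by interval_cases s <;> rfl
  rw [hinv] at h
  exact h.symm

theorem Q_inv_list : ∀ i ∈ [1, 2, 3, 4, 5, 6], (Q i)⁻¹ = Q i := by
  intro i hi
  simp only [List.mem_cons, List.not_mem_nil, or_false] at hi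
  exact Q_inv i (by omega) (by omega)

theorem Q_seven : Q 7 = (Q 0)⁻¹ := q_inv isAction (s := 0) (by decide)

theorem Q_pair (i j m : ℕ) (hi : i < 8) (hj : j < 8)
    (hfix : ∀ x < 122760, tr A (altWord i j m) x = x) :
    (Q i * Q j) ^ m = 1 ∧ (Q j * Q i) ^ m = 1 := pair_perm isAction i j m hi hj hfix

theorem Q_sq (i : ℕ) (h1 : 1 ≤ i) (h6 : i ≤ 6) : (Q i * Q i) ^ 1 = 1 := by
  rw [pow_one]; exact mul_eq_one_iff_inv_eq.mpr (Q_inv i h1 h6)

/-- the images of the generators, by name -/
noncomputable def fq (x : ON.Gen) : Equiv.Perm (Fin 122760) := Q (idx x)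

theorem cox_ok (x y : ON.Gen) (hx : x ∈ coxNodes ON.edges) (hy : y ∈ coxNodes ON.edges) :
    (fq x * fq y) ^ coxLabel ON.edges x y = 1 := by
  have p1_2 := Q_pair 1 2 3 (by decide) (by decide) fix26
  have p1_3 := Q_pair 1 3 2 (by decide) (by decide) fix22
  have p1_4 := Q_pair 1 4 2 (by decide) (by decide) fix19
  have p1_5 := Q_pair 1 5 2 (by decide) (by decide) fix17
  have p1_6 := Q_pair 1 6 2 (by decide) (by decide) fix21
  have p2_3 := Q_pair 2 3 3 (by decide) (by decide) fix25
  have p2_4 := Q_pair 2 4 2 (by decide) (by decide) fix14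
  have p2_5 := Q_pair 2 5 2 (by decide) (by decide) fix11
  have p2_6 := Q_pair 2 6 2 (by decide) (by decide) fix20
  have p3_4 := Q_pair 3 4 8 (by decide) (by decide) fix28
  have p3_5 := Q_pair 3 5 2 (by decide) (by decide) fix7
  have p3_6 := Q_pair 3 6 2 (by decide) (by decide) fix16
  have p4_5 := Q_pair 4 5 3 (by decide) (by decide) fix23
  have p4_6 := Q_pair 4 6 2 (by decide) (by decide) fix13
  have p5_6 := Q_pair 5 6 3 (by decide) (by decide) fix24
  cases x <;> cases y
  · exact absurd hx (by decide)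
  · exact absurd hx (by decide)
  · exact absurd hx (by decide)
  · exact absurd hx (by decide)
  · exact absurd hx (by decide)
  · exact absurd hx (by decide)
  · exact absurd hx (by decide)
  · exact absurd hy (by decide)
  · exact Q_sq 1 (by decide) (by decide)
  · exact p1_2.1
  · exact p1_3.1
  · exact p1_4.1
  · exact p1_5.1
  · exact p1_6.1
  · exact absurd hy (by decide)
  · exact p1_2.2
  · exact Q_sq 2 (by decide) (by decide)
  · exact p2_3.1
  · exact p2_4.1
  · exact p2_5.1
  · exact p2_6.1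
  · exact absurd hy (by decide)
  · exact p1_3.2
  · exact p2_3.2
  · exact Q_sq 3 (by decide) (by decide)
  · exact p3_4.1
  · exact p3_5.1
  · exact p3_6.1
  · exact absurd hy (by decide)
  · exact p1_4.2
  · exact p2_4.2
  · exact p3_4.2
  · exact Q_sq 4 (by decide) (by decide)
  · exact p4_5.1
  · exact p4_6.1
  · exact absurd hy (by decide)
  · exact p1_5.2
  · exact p2_5.2
  · exact p3_5.2
  · exact p4_5.2
  · exact Q_sq 5 (by decide) (by decide)
  · exact p5_6.1
  · exact absurd hy (by decide)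
  · exact p1_6.2
  · exact p2_6.2
  · exact p3_6.2
  · exact p4_6.2
  · exact p5_6.2
  · exact Q_sq 6 (by decide) (by decide)


theorem lift_of (x : ON.Gen) : FreeGroup.lift fq (FreeGroup.of x) = Q (idx x) := by
  simp [fq]

theorem rels_ok : ∀ r ∈ Rels, FreeGroup.lift fq r = 1 := by
  intro r hr
  rcases hr with ⟨x, hx, y, hy, rfl⟩ | hr
  · rw [map_pow, map_mul, FreeGroup.lift_apply_of, FreeGroup.lift_apply_of]
    exact cox_ok x y hx hy
  · have he := extras_eq Q Q_inv_list Q_seven (FreeGroup.lift fq) lift_of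
    have hr' : r ∈ ON.extra := hr
    simp only [ON.extra, List.mem_cons, List.not_mem_nil, or_false] at hr'
    rcases hr' with rfl | rfl | rfl | rfl | rfl | rfl | rfl
    · have h := he.1
      simp only [ON.extra, List.getD_cons_zero, List.getD_cons_succ] at h
      rw [h]
      exact wprod_q_eq_one isAction _ (by decide) fix0
    · have h := he.2.1
      simp only [ON.extra, List.getD_cons_zero, List.getD_cons_succ] at h
      rw [h]
      exact wprod_q_eq_one isAction _ (by decide) fix27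
    · have h := he.2.2.1
      simp only [ON.extra, List.getD_cons_zero, List.getD_cons_succ] at h
      rw [h]
      exact wprod_q_eq_one isAction _ (by decide) fix1
    · have h := he.2.2.2.1
      simp only [ON.extra, List.getD_cons_zero, List.getD_cons_succ] at h
      rw [h]
      exact wprod_q_eq_one isAction _ (by decide) fix10
    · have h := he.2.2.2.2.1
      simp only [ON.extra, List.getD_cons_zero, List.getD_cons_succ] at h
      rw [h]
      exact wprod_q_eq_one isAction _ (by decide) fix29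
    · have h := he.2.2.2.2.2.1
      simp only [ON.extra, List.getD_cons_zero, List.getD_cons_succ] at h
      rw [h]
      exact wprod_q_eq_one isAction _ (by decide) fix12
    · have h := he.2.2.2.2.2.2
      simp only [ON.extra, List.getD_cons_zero, List.getD_cons_succ] at h
      rw [h]
      exact wprod_q_eq_one isAction _ (by decide) fix2


/-- the permutation representation -/
noncomputable def psi : PresentedGroup Rels →* Equiv.Perm (Fin 122760) := PresentedGroup.toGroup rels_ok

theorem psi_of (x : ON.Gen) : psi (PresentedGroup.of x) = Q (idx x) := by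
  show PresentedGroup.toGroup rels_ok (PresentedGroup.of x) = _
  rw [PresentedGroup.toGroup.of]; rfl

theorem psi_T (s : ℕ) (hs : s < 8) : psi (T s) = Q s := by
  interval_cases s
  · show psi (PresentedGroup.of ON.Gen.g) = _; rw [psi_of]; rfl
  · show psi (PresentedGroup.of ON.Gen.a) = _; rw [psi_of]; rfl
  · show psi (PresentedGroup.of ON.Gen.b) = _; rw [psi_of]; rfl
  · show psi (PresentedGroup.of ON.Gen.c) = _; rw [psi_of]; rfl
  · show psi (PresentedGroup.of ON.Gen.d) = _; rw [psi_of]; rfl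
  · show psi (PresentedGroup.of ON.Gen.e) = _; rw [psi_of]; rfl
  · show psi (PresentedGroup.of ON.Gen.f) = _; rw [psi_of]; rfl
  · show psi ((PresentedGroup.of ON.Gen.g)⁻¹) = _
    rw [map_inv, psi_of]
    show (Q 0)⁻¹ = Q 7
    rw [Q_seven]

theorem psi_T' (s : ℕ) (hs : s < 8) : psi (T s) = (perm isAction s)⁻¹ := psi_T s hs

theorem psi_wprod (w : List ℕ) (hw : ∀ s ∈ w, s < 8) : psi (wprod T w) = wprod Q w := by
  rw [wprod_map]
  exact wprod_congr w fun l hl => psi_T l (hw l hl)

theorem wprod_mem_range (w : List ℕ) (hw : ∀ s ∈ w, s < 8) : wprod Q w ∈ psi.range :=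
  ⟨_, psi_wprod w hw⟩

instance pretransitive : MulAction.IsPretransitive psi.range (Fin 122760) :=
  pretransitive_range (by decide) isAction psi T psi_T' reach_ok

/-! ### inverse words -/

theorem wprod_reverse_map {Γ : Type*} [Group Γ] (t : ℕ → Γ) (inv : ℕ → ℕ) :
    ∀ w : List ℕ, (∀ s ∈ w, t (inv s) = (t s)⁻¹) → wprod t (w.reverse.map inv) = (wprod t w)⁻¹
  | [], _ => by simp [wprod]
  | c :: w, h => by
    rw [List.reverse_cons, List.map_append, wprod_append,
      wprod_reverse_map t inv w (fun s hs => h s (by simp [hs]))]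
    simp only [List.map_cons, List.map_nil, wprod, mul_one, h c (by simp), mul_inv_rev]

theorem Q_invL (s : ℕ) (hs : s < 8) : Q (invL s) = (Q s)⁻¹ := q_inv isAction hs

/-- the generator `a` moves the point `2` -/
theorem mv_a : Nat.beq (applyW nets [1] (2 ^ 7)) (2 ^ 2) = true := by decide +kernel

theorem Q_one_ne : Q 1 ≠ 1 := by
  have h := wprod_q_ne_one isAction [1] (by decide) 2 (by decide)
    (by rw [tr_eq_of_applyW hok [1] 2 7 mv_a]; decide)
  simpa [wprod] using h

/-! ### the subgroup `J₁` -/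

/-- the word of the second generator of `J₁` -/
def yJ : List ℕ := [4, 0, 4, 2, 1, 3, 2, 4, 5, 3, 6, 2, 1, 4, 3, 4, 0, 2, 3, 5, 1, 2, 1, 2, 2, 1, 5, 3, 2, 7, 4, 3, 4, 1, 2, 6, 3, 5, 4, 2, 3, 1, 2, 4, 7, 4]

/-- the words of the letters of `J₁` -/
def lwJ : ℕ → List ℕ
  | 0 => [1]
  | 1 => yJ
  | _ => yJ.reverse.map invL

/-- the images of the letters of `J₁` -/
noncomputable def tJ (l : ℕ) : Equiv.Perm (Fin 122760) := wprod Q (lwJ l)

theorem tJ_two : tJ 2 = (tJ 1)⁻¹ :=
  wprod_reverse_map Q invL yJ fun s hs => Q_invL s (by revert s; decide)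

theorem lwJ_lt : ∀ l < 3, ∀ s ∈ lwJ l, s < 8 := by decide

theorem tJ_rel : ∀ w ∈ helper19_PJ1.rels, wprod tJ w = 1 := by
  intro w hw
  have hlt : ∀ s ∈ w.flatMap lwJ, s < 8 :=
    mem_flatMap_lt fun l hl => lwJ_lt l (helper19_PJ1.rels_lt w hw l hl)
  show wprod (fun l => wprod Q (lwJ l)) w = 1
  rw [wprod_flatMap]
  revert hlt
  simp only [helper19_PJ1.rels, List.mem_cons, List.not_mem_nil, or_false] at hw
  rcases hw with rfl | rfl | rfl | rfl | rfl <;> intro hlt
  · exact wprod_q_eq_one isAction _ hlt fixJ0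
  · exact wprod_q_eq_one isAction _ hlt fixJ1
  · exact wprod_q_eq_one isAction _ hlt fixJ2
  · exact wprod_q_eq_one isAction _ hlt fixJ3
  · exact wprod_q_eq_one isAction _ hlt fixJ4

/-- the homomorphism of the presented `J₁` -/
noncomputable def phiJ : helper19_PJ1.G →* Equiv.Perm (Fin 122760) :=
  homOf helper19_PJ1.rels tJ helper19_PJ1.rels_lt tJ_two tJ_rel

theorem phiJ_range_le : phiJ.range ≤ psi.range := by
  rw [phiJ, range_homOf, Subgroup.closure_le]
  intro x hx
  simp only [Set.mem_insert_iff, Set.mem_singleton_iff] at hx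
  rcases hx with rfl | rfl
  · exact wprod_mem_range _ (lwJ_lt 0 (by decide))
  · exact wprod_mem_range _ (lwJ_lt 1 (by decide))

theorem phiJ_injective : Function.Injective phiJ := by
  have := helper19_PJ1.simple_G
  rw [← MonoidHom.ker_eq_bot_iff]
  rcases (MonoidHom.normal_ker phiJ).eq_bot_or_eq_top with h | h
  · exact h
  · exfalso
    have h1 : S helper19_PJ1.rels 0 ∈ phiJ.ker := by rw [h]; trivial
    rw [MonoidHom.mem_ker, phiJ, homOf_S _ _ _ _ _ 0 (by decide)] at h1
    apply Q_one_ne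
    simpa [tJ, lwJ, wprod] using h1

/-! ### the subgroup `M₁₁` -/

/-- the word of the second generator of `M₁₁` -/
def yM : List ℕ := [2, 3, 4, 0, 3, 5, 6, 0, 5, 6, 7, 5, 2, 3, 5, 4, 3, 4, 2, 5, 4, 6, 4, 3, 5, 7, 4, 5, 2, 3, 4, 5, 1, 3, 4, 3, 4, 1, 5, 4, 3, 2, 5, 4, 0, 5, 3, 4, 6, 4, 5, 2, 4, 3, 4, 5, 3, 2, 5, 0, 6, 5, 7, 6, 5, 3, 7, 4, 3, 2]

/-- the words of the letters of `M₁₁` -/
def lwM : ℕ → List ℕ
  | 0 => [1]
  | 1 => yM
  | _ => yM.reverse.map invL

/-- the images of the letters of `M₁₁` -/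
noncomputable def tM (l : ℕ) : Equiv.Perm (Fin 122760) := wprod Q (lwM l)

theorem tM_two : tM 2 = (tM 1)⁻¹ :=
  wprod_reverse_map Q invL yM fun s hs => Q_invL s (by revert s; decide)

theorem lwM_lt : ∀ l < 3, ∀ s ∈ lwM l, s < 8 := by decide

theorem tM_rel : ∀ w ∈ helper19_PM11.rels, wprod tM w = 1 := by
  intro w hw
  have hlt : ∀ s ∈ w.flatMap lwM, s < 8 :=
    mem_flatMap_lt fun l hl => lwM_lt l (helper19_PM11.rels_lt w hw l hl)
  show wprod (fun l => wprod Q (lwM l)) w = 1
  rw [wprod_flatMap]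
  revert hlt
  simp only [helper19_PM11.rels, List.mem_cons, List.not_mem_nil, or_false] at hw
  rcases hw with rfl | rfl | rfl | rfl | rfl <;> intro hlt
  · exact wprod_q_eq_one isAction _ hlt fixM0
  · exact wprod_q_eq_one isAction _ hlt fixM1
  · exact wprod_q_eq_one isAction _ hlt fixM2
  · exact wprod_q_eq_one isAction _ hlt fixM3
  · exact wprod_q_eq_one isAction _ hlt fixM4

/-- the homomorphism of the presented `M₁₁` -/
noncomputable def phiM : helper19_PM11.G →* Equiv.Perm (Fin 122760) :=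
  homOf helper19_PM11.rels tM helper19_PM11.rels_lt tM_two tM_rel

theorem phiM_range_le : phiM.range ≤ psi.range := by
  rw [phiM, range_homOf, Subgroup.closure_le]
  intro x hx
  simp only [Set.mem_insert_iff, Set.mem_singleton_iff] at hx
  rcases hx with rfl | rfl
  · exact wprod_mem_range _ (lwM_lt 0 (by decide))
  · exact wprod_mem_range _ (lwM_lt 1 (by decide))

theorem phiM_injective : Function.Injective phiM := by
  have := helper19_PM11.simple_G
  rw [← MonoidHom.ker_eq_bot_iff]
  rcases (MonoidHom.normal_ker phiM).eq_bot_or_eq_top with h | h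
  · exact h
  · exfalso
    have h1 : S helper19_PM11.rels 0 ∈ phiM.ker := by rw [h]; trivial
    rw [MonoidHom.mem_ker, phiM, homOf_S _ _ _ _ _ 0 (by decide)] at h1
    apply Q_one_ne
    simpa [tM, lwM, wprod] using h1

end Cfsg.Agent.Lib.helper19_ONRep
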