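import Mathlib
import Cfsg.Prelude.Def_Sporadic
import Cfsg.Prelude.Def_SporadicB
import Cfsg.Agent.Lib.helper19_ONRep

/-!
The O'Nan group as a transitive permutation group of degree 122760, with its point stabiliser of
order 3753792 and simple subgroups of orders 175560 and 7920, given that the presented O'Nan group
is simple of order 460815505920.  By helper19.
-/

set_option autoImplicit false

namespace Cfsg.Agent.Lib.helper19_ONMain

open Cfsg.Spor Cfsg.Agent.Lib.helper19_PG Cfsg.Agent.Lib.helper19_ONRep

theorem psi_injective (hs : IsSimpleGroup Cfsg.Spor.ON) : Function.Injective psi := by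
  rw [← MonoidHom.ker_eq_bot_iff]
  rcases (MonoidHom.normal_ker psi).eq_bot_or_eq_top with h | h
  · exact h
  · exfalso
    have h1 : T 1 ∈ psi.ker := by rw [h]; trivial
    rw [MonoidHom.mem_ker, psi_T 1 (by decide)] at h1
    exact Q_one_ne h1

theorem main (hON : Cfsg.IsON Cfsg.Spor.ON) :
    ∃ H : Subgroup (Equiv.Perm (Fin 122760)), Cfsg.IsON H ∧
      MulAction.IsPretransitive H (Fin 122760) ∧
      Nat.card (MulAction.stabilizer H (0 : Fin 122760)) = 3753792 ∧
      (∃ K : Subgroup H, Cfsg.IsJ1 K) ∧ (∃ K : Subgroup H, Cfsg.IsM11 K) := by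
  obtain ⟨hsimple, hcard⟩ := hON
  have hinj := psi_injective hsimple
  let e : Cfsg.Spor.ON ≃* psi.range := MonoidHom.ofInjective hinj
  have hcardR : Nat.card psi.range = 460815505920 := by
    rw [← Nat.card_congr e.toEquiv]; exact hcard
  refine ⟨psi.range, ⟨e.symm.isSimpleGroup, hcardR⟩, pretransitive, ?_, ?_, ?_⟩
  · have h1 := card_orbit_mul_card_stabilizer (G := psi.range) (0 : Fin 122760)
    have h2 : Nat.card (MulAction.orbit psi.range (0 : Fin 122760)) = 122760 := by
      rw [MulAction.orbit_eq_univ]
      simp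
    rw [h2, hcardR] at h1
    omega
  · let eJ : helper19_PJ1.G ≃* phiJ.range := MonoidHom.ofInjective phiJ_injective
    let eJ' : phiJ.range.subgroupOf psi.range ≃* phiJ.range :=
      Subgroup.subgroupOfEquivOfLe phiJ_range_le
    have := helper19_PJ1.simple_G
    refine ⟨phiJ.range.subgroupOf psi.range, (eJ'.trans eJ.symm).isSimpleGroup, ?_⟩
    rw [Nat.card_congr (eJ'.trans eJ.symm).toEquiv]
    exact helper19_PJ1.card_G
  · let eM : helper19_PM11.G ≃* phiM.range := MonoidHom.ofInjective phiM_injective
    let eM' : phiM.range.subgroupOf psi.range ≃* phiM.range :=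
      Subgroup.subgroupOfEquivOfLe phiM_range_le
    have := helper19_PM11.simple_G
    refine ⟨phiM.range.subgroupOf psi.range, (eM'.trans eM.symm).isSimpleGroup, ?_⟩
    rw [Nat.card_congr (eM'.trans eM.symm).toEquiv]
    exact helper19_PM11.card_G

end Cfsg.Agent.Lib.helper19_ONMain
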