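import Mathlib
import Cfsg.Prelude.Def_LieRecognition

/-!
Basic consequences of `Cfsg.IsRankOneSetup` (Suzuki's doubly transitive set-up), by helper19.
-/

set_option autoImplicit false
open scoped Pointwise

namespace Cfsg.Agent.Lib.helper19_RankOne

open MulAction

variable {G Ω : Type*} [Group G] [MulAction G Ω] {a : Ω} {t : G} {Q : Subgroup G}

section basic
variable (hS : Cfsg.IsRankOneSetup G Ω a t Q)
include hS

lemma t_inv : t⁻¹ = t := inv_eq_of_mul_eq_one_right hS.mul_self

lemma ta_ne : t • a ≠ a := fun h => hS.not_mem (mem_stabilizer_iff.mpr h)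

lemma t_ta : t • t • a = a := by rw [smul_smul, hS.mul_self, one_smul]

/-- two-transitivity in usable form -/
lemma two_trans {c d e f : Ω} (h1 : c ≠ d) (h2 : e ≠ f) : ∃ g : G, g • c = e ∧ g • d = f :=
  (is_two_pretransitive_iff.mp hS.two_transitive) h1 h2

lemma pretrans : IsPretransitive G Ω :=
  haveI := hS.two_transitive
  isPretransitive_of_is_two_pretransitive

/-- every element of `G_a` is `x * d` with `x ∈ Q`, `d ∈ D`. -/
lemma exists_mul_of_mem_stab {g : G} (hg : g ∈ stabilizer G a) :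
    ∃ x ∈ Q, ∃ d ∈ stabilizer G a ⊓ stabilizer G (t • a), g = x * d := by
  have hle : (stabilizer G a ⊓ stabilizer G (t • a)) ≤ Subgroup.normalizer (Q : Set G) := by
    intro d hd
    rw [Subgroup.mem_set_normalizer_iff]
    intro h
    constructor
    · intro hh
      exact hS.conj_mem d hd.1 h hh
    · intro hh
      have := hS.conj_mem d⁻¹ ((stabilizer G a).inv_mem hd.1) _ hh
      have e : d⁻¹ * (d * h * d⁻¹) * d⁻¹⁻¹ = h := by group
      rwa [e] at this
  have h2 := Subgroup.coe_mul_of_right_le_normalizer_left Q _ hle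
  rw [hS.sup_eq] at h2
  have : g ∈ ((stabilizer G a : Subgroup G) : Set G) := hg
  rw [h2] at this
  obtain ⟨x, hx, d, hd, rfl⟩ := this
  exact ⟨x, hx, d, hd, rfl⟩

/-- `Q` moves `t • a` to any point other than `a`. -/
lemma exists_Q_smul_ta {c : Ω} (hc : c ≠ a) : ∃ x ∈ Q, x • (t • a) = c := by
  obtain ⟨g, hga, hgc⟩ := two_trans hS (ta_ne hS).symm hc.symm
  obtain ⟨x, hx, d, hd, rfl⟩ := exists_mul_of_mem_stab hS (mem_stabilizer_iff.mpr hga)
  refine ⟨x, hx, ?_⟩
  have hd2 : d • (t • a) = t • a := mem_stabilizer_iff.mp hd.2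
  rw [mul_smul, hd2] at hgc
  exact hgc

lemma Q_smul_a {x : G} (hx : x ∈ Q) : x • a = a := mem_stabilizer_iff.mp (hS.le hx)

/-- `Q` meets every point stabiliser other than `G_a` trivially. -/
lemma Q_inf_stab {c : Ω} (hc : c ≠ a) : Q ⊓ stabilizer G c = ⊥ := by
  obtain ⟨x, hx, rfl⟩ := exists_Q_smul_ta hS hc
  rw [eq_bot_iff]
  intro y hy
  rw [Subgroup.mem_bot]
  have hyQ : y ∈ Q := hy.1
  have hyc : y • (x • (t • a)) = x • (t • a) := mem_stabilizer_iff.mp hy.2
  have h1 : x⁻¹ * y * x ∈ Q ⊓ stabilizer G (t • a) := by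
    refine Subgroup.mem_inf.mpr ⟨Q.mul_mem (Q.mul_mem (Q.inv_mem hx) hyQ) hx, ?_⟩
    rw [mem_stabilizer_iff, mul_smul, mul_smul, hyc, inv_smul_smul]
  rw [hS.inf_eq_bot, Subgroup.mem_bot] at h1
  have : y = x * (x⁻¹ * y * x) * x⁻¹ := by group
  rw [this, h1]; group

/-- a non-identity element of `Q` fixes only `a`. -/
lemma eq_a_of_fixed {x : G} (hx : x ∈ Q) (hx1 : x ≠ 1) {c : Ω} (hc : x • c = c) : c = a := by
  by_contra hca
  have : x ∈ Q ⊓ stabilizer G c := ⟨hx, mem_stabilizer_iff.mpr hc⟩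
  rw [Q_inf_stab hS hca, Subgroup.mem_bot] at this
  exact hx1 this

/-- `Q` acts regularly on the points other than `a`. -/
lemma Q_regular {c d : Ω} (hc : c ≠ a) (hd : d ≠ a) : ∃! x : Q, (x : G) • c = d := by
  obtain ⟨x1, hx1, h1⟩ := exists_Q_smul_ta hS hc
  obtain ⟨x2, hx2, h2⟩ := exists_Q_smul_ta hS hd
  refine ⟨⟨x2 * x1⁻¹, Q.mul_mem hx2 (Q.inv_mem hx1)⟩, ?_, ?_⟩
  · show (x2 * x1⁻¹) • c = d
    rw [← h1, mul_smul, inv_smul_smul, h2]
  · rintro ⟨y, hy⟩ hyc
    have hyc' : y • c = d := hyc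
    apply Subtype.ext
    show y = x2 * x1⁻¹
    have h3 : (x2 * x1⁻¹)⁻¹ * y ∈ Q ⊓ stabilizer G c := by
      refine Subgroup.mem_inf.mpr ⟨Q.mul_mem (Q.inv_mem (Q.mul_mem hx2 (Q.inv_mem hx1))) hy, ?_⟩
      rw [mem_stabilizer_iff, mul_smul, hyc', ← h2, mul_inv_rev, inv_inv, mul_smul,
        inv_smul_smul, h1]
    rw [Q_inf_stab hS hc, Subgroup.mem_bot] at h3
    have : y = (x2 * x1⁻¹) * ((x2 * x1⁻¹)⁻¹ * y) := by group
    rw [this, h3, mul_one]

/-- `Q` contains a non-identity element. -/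
lemma exists_ne_one : ∃ x ∈ Q, x ≠ 1 := by
  by_contra h
  push Not at h
  have : Q = ⊥ := by
    rw [eq_bot_iff]
    intro x hx
    rw [Subgroup.mem_bot]; exact h x hx
  have h2 := hS.even_card
  rw [this, Subgroup.card_bot] at h2
  exact absurd h2 (by decide)

/-- an element fixing `a` whose conjugation moves a non-identity element of `Q` into `Q`... the
basic fixed point argument: if `g * x * g⁻¹ ∈ Q` with `x ∈ Q`, `x ≠ 1`, then `g ∈ G_a`. -/
lemma mem_stab_of_conj_mem {g x : G} (hx : x ∈ Q) (hx1 : x ≠ 1) (hgx : g * x * g⁻¹ ∈ Q) :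
    g ∈ stabilizer G a := by
  rw [mem_stabilizer_iff]
  have h1 : g * x * g⁻¹ ≠ 1 := by
    intro h
    apply hx1
    have : x = g⁻¹ * (g * x * g⁻¹) * g := by group
    rw [this, h]; group
  have h2 : (g * x * g⁻¹) • (g • a) = g • a := by
    rw [mul_smul, mul_smul, inv_smul_smul, Q_smul_a hS hx]
  exact eq_a_of_fixed hS hgx h1 h2

end basic

section counting
variable (hS : Cfsg.IsRankOneSetup G Ω a t Q)
include hS

lemma finite_Omega [Finite G] : Finite Ω := by
  have := pretrans hS
  exact Finite.of_surjective (fun g : G => g • a) (fun c => exists_smul_eq G a c)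

lemma Q_smul_ta_ne {x : G} (hx : x ∈ Q) : x • (t • a) ≠ a := by
  intro h
  have h1 : t • a = x⁻¹ • a := eq_inv_smul_iff.mpr h
  rw [Q_smul_a hS (Q.inv_mem hx)] at h1
  exact ta_ne hS h1

/-- `|Ω| = |Q| + 1`. -/
lemma card_Omega [Finite G] : Nat.card Ω = Nat.card Q + 1 := by
  classical
  let f : Option Q → Ω := fun o => o.elim a (fun x => (x : G) • (t • a))
  have hf : Function.Bijective f := by
    constructor
    · intro o1 o2 h
      cases o1 with
      | none =>
        cases o2 with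
        | none => rfl
        | some y =>
          exfalso
          have h' : a = (y : G) • (t • a) := h
          exact Q_smul_ta_ne hS y.2 h'.symm
      | some x =>
        cases o2 with
        | none =>
          exfalso
          have h' : (x : G) • (t • a) = a := h
          exact Q_smul_ta_ne hS x.2 h'
        | some y =>
          have h' : (x : G) • (t • a) = (y : G) • (t • a) := h
          obtain ⟨z, -, hz⟩ := Q_regular hS (ta_ne hS) (Q_smul_ta_ne hS y.2)
          rw [hz x h', hz y rfl]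
    · intro c
      by_cases hc : c = a
      · exact ⟨none, hc.symm⟩
      · obtain ⟨x, hx, hxc⟩ := exists_Q_smul_ta hS hc
        exact ⟨some ⟨x, hx⟩, hxc⟩
  rw [← Nat.card_congr (Equiv.ofBijective f hf), Finite.card_option]

/-- `|G_a| = |Q| |D|`. -/
lemma card_stab [Finite G] : Nat.card (stabilizer G a) =
    Nat.card Q * Nat.card ↥(stabilizer G a ⊓ stabilizer G (t • a)) := by
  let f : Q × ↥(stabilizer G a ⊓ stabilizer G (t • a)) → stabilizer G a :=
    fun p => ⟨(p.1 : G) * (p.2 : G), (stabilizer G a).mul_mem (hS.le p.1.2) p.2.2.1⟩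
  have hf : Function.Bijective f := by
    constructor
    · rintro ⟨⟨x1, hx1⟩, ⟨d1, hd1⟩⟩ ⟨⟨x2, hx2⟩, ⟨d2, hd2⟩⟩ h
      have h' : x1 * d1 = x2 * d2 := congrArg Subtype.val h
      have h3 : x2⁻¹ * x1 = d2 * d1⁻¹ := by
        calc x2⁻¹ * x1 = x2⁻¹ * (x1 * d1) * d1⁻¹ := by group
          _ = d2 * d1⁻¹ := by rw [h']; group
      have h4 : x2⁻¹ * x1 ∈ Q ⊓ stabilizer G (t • a) := by
        refine Subgroup.mem_inf.mpr ⟨Q.mul_mem (Q.inv_mem hx2) hx1, ?_⟩
        rw [h3]
        exact (stabilizer G (t • a)).mul_mem hd2.2 ((stabilizer G (t • a)).inv_mem hd1.2)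
      rw [hS.inf_eq_bot, Subgroup.mem_bot] at h4
      have e1 : x1 = x2 := by
        calc x1 = x2 * (x2⁻¹ * x1) := by group
          _ = x2 := by rw [h4, mul_one]
      have e2 : d1 = d2 := by
        rw [e1] at h'
        exact mul_left_cancel h'
      subst e1 e2
      rfl
    · rintro ⟨g, hg⟩
      obtain ⟨x, hx, d, hd, rfl⟩ := exists_mul_of_mem_stab hS hg
      exact ⟨(⟨x, hx⟩, ⟨d, hd⟩), rfl⟩
  rw [← Nat.card_prod]
  exact (Nat.card_congr (Equiv.ofBijective f hf)).symm

/-- `|G| = |Q| |D| (|Q| + 1)`. -/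
lemma card_G [Finite G] : Nat.card G =
    Nat.card Q * Nat.card ↥(stabilizer G a ⊓ stabilizer G (t • a)) * (Nat.card Q + 1) := by
  have := pretrans hS
  rw [← Subgroup.card_mul_index (stabilizer G a), index_stabilizer_of_transitive, card_stab hS,
    card_Omega hS]

end counting

section dihedral
variable {H : Type*} [Group H]

lemma inv_eq_self_of_mul_self {s : H} (hs : s * s = 1) : s⁻¹ = s := inv_eq_of_mul_eq_one_right hs

/-- an involution `s` inverts `s * u` when `u` is an involution too. -/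
lemma conj_mul_eq_inv {s u : H} (hs : s * s = 1) (hu : u * u = 1) : s * (s * u) * s⁻¹ = (s * u)⁻¹ := by
  rw [inv_eq_self_of_mul_self hs, mul_inv_rev, inv_eq_self_of_mul_self hs, inv_eq_self_of_mul_self hu,
    ← mul_assoc, hs, one_mul]

/-- two involutions whose product has odd order are conjugate. -/
lemma exists_conj_of_odd {s u : H} (hs : s * s = 1) (hu : u * u = 1) (hodd : Odd (orderOf (s * u))) :
    ∃ g : H, g * s * g⁻¹ = u := by
  obtain ⟨k, hk⟩ := hodd
  set w := s * u with hw
  have h1 : s * w * s⁻¹ = w⁻¹ := conj_mul_eq_inv hs hu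
  have h2 : s * w ^ k * s⁻¹ = (w ^ k)⁻¹ := by rw [← inv_pow, ← h1, conj_pow]
  have h3 : s * (w ^ k)⁻¹ = w ^ k * s := by
    have : s * (w ^ k)⁻¹ * s⁻¹ = w ^ k := by
      have := congrArg (fun z => z⁻¹) h2
      simp only [mul_inv_rev, inv_inv] at this
      rw [← mul_assoc] at this
      exact this
    calc s * (w ^ k)⁻¹ = (s * (w ^ k)⁻¹ * s⁻¹) * s := by group
      _ = w ^ k * s := by rw [this]
  have h4 : w ^ k * w ^ k = w⁻¹ := by
    have : w ^ k * w ^ k * w = 1 := by
      rw [← pow_add, ← pow_succ, ← two_mul, ← hk]; exact pow_orderOf_eq_one w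
    exact eq_inv_of_mul_eq_one_left this
  refine ⟨w ^ k, ?_⟩
  calc w ^ k * s * (w ^ k)⁻¹ = w ^ k * (s * (w ^ k)⁻¹) := by group
    _ = w ^ k * w ^ k * s := by rw [h3]; group
    _ = w⁻¹ * s := by rw [h4]
    _ = u := by
      rw [hw, mul_inv_rev, inv_eq_self_of_mul_self hs, inv_eq_self_of_mul_self hu, mul_assoc, hs, mul_one]

/-- two involutions whose product has even (positive) order both commute with a common involution. -/
lemma exists_central_invol_of_even {s u : H} (hs : s * s = 1) (hu : u * u = 1)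
    (hpos : 0 < orderOf (s * u)) (heven : Even (orderOf (s * u))) :
    ∃ z : H, z ≠ 1 ∧ z * z = 1 ∧ z * s = s * z ∧ z * u = u * z := by
  obtain ⟨k, hk⟩ := heven
  set w := s * u with hw
  have hkpos : 0 < k := by omega
  have hklt : k < orderOf w := by omega
  have h1 : s * w * s⁻¹ = w⁻¹ := conj_mul_eq_inv hs hu
  have h2 : s * w ^ k * s⁻¹ = (w ^ k)⁻¹ := by rw [← inv_pow, ← h1, conj_pow]
  have hzz : w ^ k * w ^ k = 1 := by
    rw [← pow_add, ← hk]; exact pow_orderOf_eq_one w
  have hzi : (w ^ k)⁻¹ = w ^ k := inv_eq_self_of_mul_self hzz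
  have hzs : w ^ k * s = s * w ^ k := by
    rw [hzi] at h2
    calc w ^ k * s = (s * w ^ k * s⁻¹) * s := by rw [h2]
      _ = s * w ^ k := by group
  refine ⟨w ^ k, pow_ne_one_of_lt_orderOf hkpos.ne' hklt, hzz, hzs, ?_⟩
  have hu' : u = s * w := by rw [hw, ← mul_assoc, hs, one_mul]
  have hwz : w ^ k * w = w * w ^ k := by rw [← pow_succ, ← pow_succ']
  calc w ^ k * u = w ^ k * s * w := by rw [hu']; group
    _ = s * (w ^ k * w) := by rw [hzs]; group
    _ = s * w * w ^ k := by rw [hwz]; group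
    _ = u * w ^ k := by rw [← hu']

/-- if `w` inverts `g` then `w ^ n` fixes or inverts `g` according to the parity of `n`. -/
lemma pow_conj_of_conj_eq_inv {w g : H} (hwg : w * g * w⁻¹ = g⁻¹) (n : ℕ) :
    w ^ n * g * (w ^ n)⁻¹ = if Even n then g else g⁻¹ := by
  induction n with
  | zero => simp
  | succ n ih =>
    have : w ^ (n + 1) * g * (w ^ (n + 1))⁻¹ = w * (w ^ n * g * (w ^ n)⁻¹) * w⁻¹ := by
      rw [pow_succ']; group
    rw [this, ih]
    by_cases hn : Even n
    · have hn1 : ¬ Even (n + 1) := by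
        rw [Nat.even_add_one]; exact not_not.mpr hn
      rw [if_pos hn, if_neg hn1, hwg]
    · have hn1 : Even (n + 1) := by
        rw [Nat.even_add_one]; exact hn
      rw [if_neg hn, if_pos hn1]
      calc w * g⁻¹ * w⁻¹ = (w * g * w⁻¹)⁻¹ := by group
        _ = g := by rw [hwg, inv_inv]

end dihedral

section involutions
variable (hS : Cfsg.IsRankOneSetup G Ω a t Q)
include hS

/-- an element of `G_a` with trivial square lies in `Q` (as `|D|` is odd). -/
lemma mem_Q_of_mul_self [Finite G] {s : G} (hs : s ∈ stabilizer G a) (hs2 : s * s = 1) : s ∈ Q := by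
  obtain ⟨x, hx, d, hd, rfl⟩ := exists_mul_of_mem_stab hS hs
  have hdx : d * x * d⁻¹ ∈ Q := hS.conj_mem d hd.1 x hx
  have hd2 : d * d = (x * (d * x * d⁻¹))⁻¹ := by
    have : x * (d * x * d⁻¹) * (d * d) = 1 := by
      calc x * (d * x * d⁻¹) * (d * d) = x * d * (x * d) := by group
        _ = 1 := hs2
    exact eq_inv_of_mul_eq_one_right this
  have hd2Q : d * d ∈ Q ⊓ stabilizer G (t • a) := by
    refine Subgroup.mem_inf.mpr ⟨?_, (stabilizer G (t • a)).mul_mem hd.2 hd.2⟩
    rw [hd2]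
    exact Q.inv_mem (Q.mul_mem hx hdx)
  rw [hS.inf_eq_bot, Subgroup.mem_bot] at hd2Q
  have h1 : orderOf d ∣ 2 := orderOf_dvd_of_pow_eq_one (by rw [pow_two]; exact hd2Q)
  have h2 : orderOf d ∣ Nat.card ↥(stabilizer G a ⊓ stabilizer G (t • a)) :=
    Subgroup.orderOf_dvd_natCard _ hd
  have h3 : orderOf d ∣ 1 := by
    have hcop : Nat.Coprime 2 (Nat.card ↥(stabilizer G a ⊓ stabilizer G (t • a))) :=
      (Nat.coprime_two_left).mpr hS.odd_card
    rw [← hcop]
    exact Nat.dvd_gcd h1 h2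
  have hd1 : d = 1 := orderOf_eq_one_iff.mp (Nat.dvd_one.mp h3)
  rw [hd1, mul_one]; exact hx

/-- an involution of `G_a` fixes only `a`. -/
lemma invol_eq_a_of_fixed [Finite G] {s : G} (hs : s ∈ stabilizer G a) (hs1 : s ≠ 1) (hs2 : s * s = 1)
    {c : Ω} (hc : s • c = c) : c = a :=
  eq_a_of_fixed hS (mem_Q_of_mul_self hS hs hs2) hs1 hc

/-- an involution commuting with an involution of `G_a` lies in `G_a`. -/
lemma mem_stab_of_commute_invol [Finite G] {s z : G} (hs : s ∈ stabilizer G a) (hs1 : s ≠ 1)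
    (hs2 : s * s = 1) (hzs : z * s = s * z) : z ∈ stabilizer G a := by
  rw [mem_stabilizer_iff]
  apply invol_eq_a_of_fixed hS hs hs1 hs2
  rw [smul_smul, ← hzs, mul_smul, mem_stabilizer_iff.mp hs]

/-- there is an involution in `Q`. -/
lemma exists_invol_Q [Finite G] : ∃ s ∈ Q, s ≠ 1 ∧ s * s = 1 := by
  have : Fact (Nat.Prime 2) := ⟨Nat.prime_two⟩
  obtain ⟨x, hx⟩ := exists_prime_orderOf_dvd_card' (G := Q) 2 (even_iff_two_dvd.mp hS.even_card)
  refine ⟨x, x.2, ?_, ?_⟩
  · intro h
    have : x = 1 := Subtype.ext h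
    rw [this, orderOf_one] at hx
    exact absurd hx (by decide)
  · have h2 : x ^ 2 = 1 := by rw [← hx]; exact pow_orderOf_eq_one x
    have := congrArg Subtype.val h2
    rw [pow_two] at this
    exact this

/-- an involution in `G_a` times an involution outside has odd order. -/
lemma odd_orderOf_mul [Finite G] {s u : G} (hs : s ∈ stabilizer G a) (hs1 : s ≠ 1) (hs2 : s * s = 1)
    (hu : u ∉ stabilizer G a) (hu2 : u * u = 1) : Odd (orderOf (s * u)) := by
  by_contra hodd
  rw [Nat.not_odd_iff_even] at hodd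
  obtain ⟨z, hz1, hz2, hzs, hzu⟩ := exists_central_invol_of_even hs2 hu2 (orderOf_pos _) hodd
  have hzG : z ∈ stabilizer G a := mem_stab_of_commute_invol hS hs hs1 hs2 hzs
  have huG : u ∈ stabilizer G a := mem_stab_of_commute_invol hS hzG hz1 hz2 hzu.symm
  exact hu huG

/-- all involutions of `G` are conjugate. -/
lemma invol_conj [Finite G] {u v : G} (hu1 : u ≠ 1) (hu2 : u * u = 1) (hv1 : v ≠ 1) (hv2 : v * v = 1) :
    ∃ g : G, g * u * g⁻¹ = v := by
  obtain ⟨s, hsQ, hs1, hs2⟩ := exists_invol_Q hS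
  have hsG : s ∈ stabilizer G a := hS.le hsQ
  -- every involution is conjugate to `s` or to `t`, and `s`, `t` are conjugate
  have key : ∀ w : G, w ≠ 1 → w * w = 1 → IsConj s w := by
    intro w hw1 hw2
    by_cases hw : w ∈ stabilizer G a
    · have h1 : IsConj s t :=
        isConj_iff.mpr (exists_conj_of_odd hs2 hS.mul_self
          (odd_orderOf_mul hS hsG hs1 hs2 hS.not_mem hS.mul_self))
      have h2 : IsConj w t :=
        isConj_iff.mpr (exists_conj_of_odd hw2 hS.mul_self
          (odd_orderOf_mul hS hw hw1 hw2 hS.not_mem hS.mul_self))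
      exact h1.trans h2.symm
    · exact isConj_iff.mpr (exists_conj_of_odd hs2 hw2 (odd_orderOf_mul hS hsG hs1 hs2 hw hw2))
  exact isConj_iff.mp ((key u hu1 hu2).symm.trans (key v hv1 hv2))

end involutions

section fixedpoints
variable (hS : Cfsg.IsRankOneSetup G Ω a t Q)
include hS

/-- every involution of `G` fixes exactly one point. -/
lemma invol_existsUnique_fixed [Finite G] {u : G} (hu1 : u ≠ 1) (hu2 : u * u = 1) :
    ∃! c : Ω, u • c = c := by
  obtain ⟨s, hsQ, hs1, hs2⟩ := exists_invol_Q hS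
  obtain ⟨g, hg⟩ := invol_conj hS hs1 hs2 hu1 hu2
  refine ⟨g • a, ?_, ?_⟩
  · show u • g • a = g • a
    rw [← hg, mul_smul, mul_smul, inv_smul_smul, Q_smul_a hS hsQ]
  · intro c hc
    have h1 : s • (g⁻¹ • c) = g⁻¹ • c := by
      have : s = g⁻¹ * u * g := by rw [← hg]; group
      rw [this, mul_smul, mul_smul, smul_inv_smul, hc]
    have h2 := eq_a_of_fixed hS hsQ hs1 h1
    exact eq_inv_smul_iff.mp h2.symm ▸ rfl

end fixedpoints

section KJ
variable (hS : Cfsg.IsRankOneSetup G Ω a t Q)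
include hS

/-- elements of `Q` agreeing at a point other than `a` are equal. -/
lemma Q_smul_inj {x y : G} (hx : x ∈ Q) (hy : y ∈ Q) {c : Ω} (hc : c ≠ a) (h : x • c = y • c) : x = y := by
  have h1 : y⁻¹ * x ∈ Q ⊓ stabilizer G c := by
    refine Subgroup.mem_inf.mpr ⟨Q.mul_mem (Q.inv_mem hy) hx, ?_⟩
    rw [mem_stabilizer_iff, mul_smul, h, inv_smul_smul]
  rw [Q_inf_stab hS hc, Subgroup.mem_bot] at h1
  calc x = y * (y⁻¹ * x) := by group
    _ = y := by rw [h1, mul_one]

/-- an element of odd-order `D` with trivial square is trivial. -/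
lemma D_eq_one_of_mul_self [Finite G] {d : G} (hd : d ∈ stabilizer G a ⊓ stabilizer G (t • a))
    (hd2 : d * d = 1) : d = 1 := by
  have h1 : orderOf d ∣ 2 := orderOf_dvd_of_pow_eq_one (by rw [pow_two]; exact hd2)
  have h2 : orderOf d ∣ Nat.card ↥(stabilizer G a ⊓ stabilizer G (t • a)) :=
    Subgroup.orderOf_dvd_natCard _ hd
  have h3 : orderOf d ∣ 1 := by
    have hcop : Nat.Coprime 2 (Nat.card ↥(stabilizer G a ⊓ stabilizer G (t • a))) :=
      (Nat.coprime_two_left).mpr hS.odd_card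
    rw [← hcop]
    exact Nat.dvd_gcd h1 h2
  exact orderOf_eq_one_iff.mp (Nat.dvd_one.mp h3)

omit hS in
/-- conjugating an involution of `G_a` by an element of `G_a` gives an involution of `G_a`. -/
lemma conj_mem_involutionsIn {s k : G} (hs : s ∈ Cfsg.involutionsIn (stabilizer G a : Set G))
    (hk : k ∈ stabilizer G a) : k⁻¹ * s * k ∈ Cfsg.involutionsIn (stabilizer G a : Set G) := by
  obtain ⟨hsa, hs1, hs2⟩ := hs
  refine ⟨(stabilizer G a).mul_mem ((stabilizer G a).mul_mem ((stabilizer G a).inv_mem hk) hsa) hk, ?_, ?_⟩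
  · intro h
    apply hs1
    calc s = k * (k⁻¹ * s * k) * k⁻¹ := by group
      _ = 1 := by rw [h]; group
  · calc k⁻¹ * s * k * (k⁻¹ * s * k) = k⁻¹ * (s * s) * k := by group
      _ = 1 := by rw [hs2]; group

/-- for an involution `s` of `G_a`, `k ↦ k⁻¹ s k` is injective on the set `K` of elements of `D`
inverted by `t`. -/
lemma conj_invertedBy_injective [Finite G] {s k k' : G}
    (hs : s ∈ Cfsg.involutionsIn (stabilizer G a : Set G))
    (hk : k ∈ Cfsg.invertedBy (stabilizer G a ⊓ stabilizer G (t • a)) t)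
    (hk' : k' ∈ Cfsg.invertedBy (stabilizer G a ⊓ stabilizer G (t • a)) t)
    (h : k⁻¹ * s * k = k'⁻¹ * s * k') : k = k' := by
  obtain ⟨hsa, hs1, hs2⟩ := hs
  obtain ⟨hkD, hkI⟩ := hk
  obtain ⟨hkD', hkI'⟩ := hk'
  have hti := t_inv hS
  rw [hti] at hkI hkI'
  set g := k' * k⁻¹ with hg
  have hgD : g ∈ stabilizer G a ⊓ stabilizer G (t • a) := Subgroup.mul_mem _ hkD' (Subgroup.inv_mem _ hkD)
  -- `g` commutes with `s`
  have hgs : g * s * g⁻¹ = s := by
    calc g * s * g⁻¹ = k' * (k⁻¹ * s * k) * k'⁻¹ := by rw [hg]; group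
      _ = s := by rw [h]; group
  -- `v = k t` is an involution outside `G_a` inverting `g`
  set v := k * t with hv
  have hv2 : v * v = 1 := by
    calc v * v = k * (t * k * t) := by rw [hv]; group
      _ = 1 := by rw [hkI]; group
  have hva : v ∉ stabilizer G a := by
    intro h1
    apply hS.not_mem
    have : t = k⁻¹ * v := by rw [hv]; group
    rw [this]
    exact (stabilizer G a).mul_mem ((stabilizer G a).inv_mem hkD.1) h1
  have hvg : v * g * v⁻¹ = g⁻¹ := by
    have e1 : t * g * t = k⁻¹ * g⁻¹ * k := by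
      calc t * g * t = (t * k' * t) * (t * k * t)⁻¹ := by
            rw [hg]
            calc t * (k' * k⁻¹) * t = t * k' * (t * t) * k⁻¹ * t := by rw [hS.mul_self]; group
              _ = (t * k' * t) * (t * k * t)⁻¹ := by
                  rw [mul_inv_rev, mul_inv_rev, hti]; group
        _ = k⁻¹ * g⁻¹ * k := by rw [hkI, hkI', hg]; group
    calc v * g * v⁻¹ = k * (t * g * t) * k⁻¹ := by rw [hv, mul_inv_rev, hti]; group
      _ = g⁻¹ := by rw [e1]; group
  -- `w = s v` has odd order and inverts `g`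
  have hodd : Odd (orderOf (s * v)) := odd_orderOf_mul hS hsa hs1 hs2 hva hv2
  have hwg : (s * v) * g * (s * v)⁻¹ = g⁻¹ := by
    calc (s * v) * g * (s * v)⁻¹ = s * (v * g * v⁻¹) * s⁻¹ := by group
      _ = (s * g * s⁻¹)⁻¹ := by rw [hvg]; group
      _ = g⁻¹ := by
        have : s * g * s⁻¹ = g := by
          calc s * g * s⁻¹ = (g * s * g⁻¹) * g * s⁻¹ := by rw [hgs]
            _ = g := by group
        rw [this]
  -- hence `g = g⁻¹`
  have hpow : ∀ n : ℕ, (s * v) ^ n * g * ((s * v) ^ n)⁻¹ = if Even n then g else g⁻¹ :=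
    fun n => pow_conj_of_conj_eq_inv hwg n
  have h5 := hpow (orderOf (s * v))
  rw [pow_orderOf_eq_one, if_neg (Nat.not_even_iff_odd.mpr hodd)] at h5
  have hgg : g * g = 1 := by
    have : g = g⁻¹ := by simpa using h5
    calc g * g = g * g⁻¹ := by rw [← this]
      _ = 1 := mul_inv_cancel g
  have hg1 : g = 1 := D_eq_one_of_mul_self hS hgD hgg
  calc k = (k' * k⁻¹)⁻¹ * k' := by group
    _ = k' := by rw [← hg, hg1]; group

/-- to each involution `s` of `G_a` corresponds an element of `K`: with `y ∈ Q` such that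
`y (t s t) y⁻¹` swaps `a` and `t • a`, the element `t * (y * (t * s * t) * y⁻¹)`. -/
lemma exists_invertedBy_of_invol [Finite G] {s : G}
    (hs : s ∈ Cfsg.involutionsIn (stabilizer G a : Set G)) :
    ∃ k ∈ Cfsg.invertedBy (stabilizer G a ⊓ stabilizer G (t • a)) t, ∃ y ∈ Q,
      k = t * (y * (t * s * t) * y⁻¹) := by
  obtain ⟨hsa, hs1, hs2⟩ := hs
  have hti := t_inv hS
  have htt := hS.mul_self
  have hsa' : s • a = a := mem_stabilizer_iff.mp hsa
  -- the point `c = (t s t) • a ≠ a`
  have hc : (t * s * t) • a ≠ a := by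
    intro h
    rw [mul_smul, mul_smul] at h
    have h1 : s • (t • a) = t • a := by
      have := congrArg (fun z => t • z) h
      simp only [smul_smul t t, htt, one_smul] at this
      exact this
    exact ta_ne hS (invol_eq_a_of_fixed hS hsa hs1 hs2 h1)
  obtain ⟨y, hy, -⟩ := Q_regular hS hc (ta_ne hS)
  have hy' : (y : G) • ((t * s * t) • a) = t • a := hy
  have hya : (y : G) • a = a := Q_smul_a hS y.2
  have hyia : (y : G)⁻¹ • a = a := Q_smul_a hS (Q.inv_mem y.2)
  set u := (y : G) * (t * s * t) * (y : G)⁻¹ with hu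
  have hua : u • a = t • a := by
    rw [hu, mul_smul, mul_smul, hyia, hy']
  have hu2 : u * u = 1 := by
    have e : (t * s * t) * (t * s * t) = 1 := by
      calc (t * s * t) * (t * s * t) = t * s * (t * t) * s * t := by group
        _ = t * (s * s) * t := by rw [htt]; group
        _ = 1 := by rw [hs2, mul_one, htt]
    calc u * u = (y : G) * ((t * s * t) * (t * s * t)) * (y : G)⁻¹ := by rw [hu]; group
      _ = 1 := by rw [e]; group
  have hub : u • (t • a) = a := by
    rw [← hua, smul_smul, hu2, one_smul]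
  have hui : u⁻¹ = u := inv_eq_self_of_mul_self hu2
  refine ⟨t * u, ⟨Subgroup.mem_inf.mpr ⟨?_, ?_⟩, ?_⟩, y, y.2, rfl⟩
  · rw [mem_stabilizer_iff, mul_smul, hua, t_ta hS]
  · rw [mem_stabilizer_iff, mul_smul, hub]
  · rw [mul_inv_rev, hti, hui]
    calc t * (t * u) * t = (t * t) * u * t := by group
      _ = u * t := by rw [htt, one_mul]

/-- the correspondence `s ↦ k` of `exists_invertedBy_of_invol` is injective. -/
lemma invol_eq_of_invertedBy_eq [Finite G] {s s' y y' : G}
    (hs : s ∈ Cfsg.involutionsIn (stabilizer G a : Set G))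
    (hs' : s' ∈ Cfsg.involutionsIn (stabilizer G a : Set G)) (hy : y ∈ Q) (hy' : y' ∈ Q)
    (h : t * (y * (t * s * t) * y⁻¹) = t * (y' * (t * s' * t) * y'⁻¹)) : s = s' := by
  have htt := hS.mul_self
  have h1 : y * (t * s * t) * y⁻¹ = y' * (t * s' * t) * y'⁻¹ := mul_left_cancel h
  obtain ⟨hsa, hs1, hs2⟩ := hs
  obtain ⟨hsa', hs1', hs2'⟩ := hs'
  set u := y * (t * s * t) * y⁻¹ with hu
  have hu1 : u ≠ 1 := by
    intro hu1
    apply hs1
    calc s = (t * t) * s * (t * t) := by rw [htt]; group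
      _ = t * (y⁻¹ * u * y) * t := by rw [hu]; group
      _ = 1 := by rw [hu1]; simp [htt]
  have hu2 : u * u = 1 := by
    have e : (t * s * t) * (t * s * t) = 1 := by
      calc (t * s * t) * (t * s * t) = t * s * (t * t) * s * t := by group
        _ = t * (s * s) * t := by rw [htt]; group
        _ = 1 := by rw [hs2, mul_one, htt]
    calc u * u = y * ((t * s * t) * (t * s * t)) * y⁻¹ := by rw [hu]; group
      _ = 1 := by rw [e]; group
  have hf1 : u • (y • (t • a)) = y • (t • a) := by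
    rw [hu, mul_smul, mul_smul, inv_smul_smul, mul_smul, mul_smul, t_ta hS,
      mem_stabilizer_iff.mp hsa]
  have hf2 : u • (y' • (t • a)) = y' • (t • a) := by
    rw [h1, mul_smul, mul_smul, inv_smul_smul, mul_smul, mul_smul, t_ta hS,
      mem_stabilizer_iff.mp hsa']
  obtain ⟨f, -, hfu⟩ := invol_existsUnique_fixed hS hu1 hu2
  have h2 : y • (t • a) = y' • (t • a) := (hfu _ hf1).trans (hfu _ hf2).symm
  have h3 : y = y' := Q_smul_inj hS hy hy' (ta_ne hS) h2
  subst h3
  have h4 : t * s * t = t * s' * t := by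
    calc t * s * t = y⁻¹ * u * y := by rw [hu]; group
      _ = t * s' * t := by rw [h1]; group
  calc s = (t * t) * s * (t * t) := by rw [htt]; group
    _ = t * (t * s * t) * t := by group
    _ = t * (t * s' * t) * t := by rw [h4]
    _ = (t * t) * s' * (t * t) := by group
    _ = s' := by rw [htt]; group

/-- `|K| = |J|`: the elements of `D` inverted by `t` are as many as the involutions of `G_a`. -/
lemma card_invertedBy_eq [Finite G] :
    Nat.card (Cfsg.invertedBy (stabilizer G a ⊓ stabilizer G (t • a)) t) =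
      Nat.card (Cfsg.involutionsIn (stabilizer G a : Set G)) := by
  classical
  obtain ⟨s0, hs0Q, hs01, hs02⟩ := exists_invol_Q hS
  have hs0 : s0 ∈ Cfsg.involutionsIn (stabilizer G a : Set G) := ⟨hS.le hs0Q, hs01, hs02⟩
  apply le_antisymm
  · let f : Cfsg.invertedBy (stabilizer G a ⊓ stabilizer G (t • a)) t →
        Cfsg.involutionsIn (stabilizer G a : Set G) :=
      fun k => ⟨(k : G)⁻¹ * s0 * k, conj_mem_involutionsIn hs0 k.2.1.1⟩
    have hf : Function.Injective f := by
      intro k k' h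
      have h' : (k : G)⁻¹ * s0 * k = (k' : G)⁻¹ * s0 * k' := congrArg Subtype.val h
      exact Subtype.ext (conj_invertedBy_injective hS hs0 k.2 k'.2 h')
    exact Nat.card_le_card_of_injective f hf
  · let g : Cfsg.involutionsIn (stabilizer G a : Set G) →
        Cfsg.invertedBy (stabilizer G a ⊓ stabilizer G (t • a)) t :=
      fun s => ⟨Classical.choose (exists_invertedBy_of_invol hS s.2),
        (Classical.choose_spec (exists_invertedBy_of_invol hS s.2)).1⟩
    have hg : Function.Injective g := by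
      intro s s' h
      have h' : Classical.choose (exists_invertedBy_of_invol hS s.2) =
          Classical.choose (exists_invertedBy_of_invol hS s'.2) := congrArg Subtype.val h
      obtain ⟨y, hy, e1⟩ := (Classical.choose_spec (exists_invertedBy_of_invol hS s.2)).2
      obtain ⟨y', hy', e2⟩ := (Classical.choose_spec (exists_invertedBy_of_invol hS s'.2)).2
      rw [e1, e2] at h'
      exact Subtype.ext (invol_eq_of_invertedBy_eq hS s.2 s'.2 hy hy' h')
    exact Nat.card_le_card_of_injective g hg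

/-- the `K`-conjugates of an involution of `G_a` are all the involutions of `G_a`. -/
lemma exists_invertedBy_conj [Finite G] {s s' : G}
    (hs : s ∈ Cfsg.involutionsIn (stabilizer G a : Set G))
    (hs' : s' ∈ Cfsg.involutionsIn (stabilizer G a : Set G)) :
    ∃ k ∈ Cfsg.invertedBy (stabilizer G a ⊓ stabilizer G (t • a)) t, k⁻¹ * s * k = s' := by
  let f : Cfsg.invertedBy (stabilizer G a ⊓ stabilizer G (t • a)) t →
      Cfsg.involutionsIn (stabilizer G a : Set G) :=
    fun k => ⟨(k : G)⁻¹ * s * k, conj_mem_involutionsIn hs k.2.1.1⟩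
  have hf : Function.Injective f := by
    intro k k' h
    have h' : (k : G)⁻¹ * s * k = (k' : G)⁻¹ * s * k' := congrArg Subtype.val h
    exact Subtype.ext (conj_invertedBy_injective hS hs k.2 k'.2 h')
  have hb := hf.bijective_of_nat_card_le (card_invertedBy_eq hS).ge
  obtain ⟨k, hk⟩ := hb.2 ⟨s', hs'⟩
  exact ⟨k, k.2, congrArg Subtype.val hk⟩

end KJ

end Cfsg.Agent.Lib.helper19_RankOne
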