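import Cfsg.Agent.Lib.helper19_RankOne
import Cfsg.Agent.S1123
import Cfsg.Agent.S1124

/-!
Further consequences of `Cfsg.IsRankOneSetup`, by helper19 (uses S1123, S1124).
-/

set_option autoImplicit false
open scoped Pointwise

namespace Cfsg.Agent.Lib.helper19_RankOne2

open MulAction Cfsg.Agent.Lib.helper19_RankOne

variable {G Ω : Type*} [Group G] [MulAction G Ω] {a : Ω} {t : G} {Q : Subgroup G}

section oddorder
variable {H : Type*} [Group H]

/-- in a finite subgroup of odd order, an element conjugate (inside the subgroup) to its inverse is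
trivial. -/
lemma eq_one_of_conj_eq_inv [Finite H] {D : Subgroup H} (hodd : Odd (Nat.card D)) {h g : H}
    (hh : h ∈ D) (hg : g ∈ D) (hc : h * g * h⁻¹ = g⁻¹) : g = 1 := by
  have hcop : Nat.Coprime 2 (Nat.card D) := (Nat.coprime_two_left).mpr hodd
  -- `h ^ 2` commutes with `g`
  have h2 : (h ^ 2) * g * (h ^ 2)⁻¹ = g := by
    calc (h ^ 2) * g * (h ^ 2)⁻¹ = h * (h * g * h⁻¹) * h⁻¹ := by rw [pow_two]; group
      _ = h * g⁻¹ * h⁻¹ := by rw [hc]
      _ = (h * g * h⁻¹)⁻¹ := by group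
      _ = g := by rw [hc, inv_inv]
  -- `h` is a power of `h ^ 2`
  obtain ⟨k, hk⟩ := hodd
  have hpow : h ^ (Nat.card D) = 1 := by
    have := pow_card_eq_one' (G := D) (x := ⟨h, hh⟩)
    have h3 := congrArg Subtype.val this
    rw [Subgroup.coe_pow] at h3
    exact h3
  have h4 : (h ^ 2) ^ (k + 1) = h := by
    rw [← pow_mul]
    have : 2 * (k + 1) = Nat.card D + 1 := by omega
    rw [this, pow_succ, hpow, one_mul]
  have h5 : ∀ n : ℕ, ((h ^ 2) ^ n) * g * ((h ^ 2) ^ n)⁻¹ = g := by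
    intro n
    induction n with
    | zero => simp
    | succ n ih =>
      calc (h ^ 2) ^ (n + 1) * g * ((h ^ 2) ^ (n + 1))⁻¹
          = (h ^ 2) * ((h ^ 2) ^ n * g * ((h ^ 2) ^ n)⁻¹) * (h ^ 2)⁻¹ := by rw [pow_succ']; group
        _ = g := by rw [ih, h2]
  have h6 : h * g * h⁻¹ = g := by
    have := h5 (k + 1)
    rwa [h4] at this
  have hgg : g * g = 1 := by
    have : g = g⁻¹ := h6.symm.trans hc
    calc g * g = g * g⁻¹ := by rw [← this]
      _ = 1 := mul_inv_cancel g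
  have h1 : orderOf g ∣ 2 := orderOf_dvd_of_pow_eq_one (by rw [pow_two]; exact hgg)
  have h2' : orderOf g ∣ Nat.card D := Subgroup.orderOf_dvd_natCard _ hg
  have h3 : orderOf g ∣ 1 := by
    rw [← hcop]; exact Nat.dvd_gcd h1 h2'
  exact orderOf_eq_one_iff.mp (Nat.dvd_one.mp h3)

end oddorder

section struct
variable (hS : Cfsg.IsRankOneSetup G Ω a t Q)
include hS

lemma orderOf_t : orderOf t = 2 :=
  orderOf_eq_prime (by rw [pow_two]; exact hS.mul_self) hS.ne_one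

/-- `t` normalises `D`. -/
lemma t_conj_mem_D {d : G} (hd : d ∈ stabilizer G a ⊓ stabilizer G (t • a)) :
    t * d * t⁻¹ ∈ stabilizer G a ⊓ stabilizer G (t • a) := by
  have hti := t_inv hS
  have h1 : d • a = a := mem_stabilizer_iff.mp hd.1
  have h2 : d • (t • a) = t • a := mem_stabilizer_iff.mp hd.2
  refine Subgroup.mem_inf.mpr ⟨?_, ?_⟩
  · rw [mem_stabilizer_iff, hti, mul_smul, mul_smul, h2, t_ta hS]
  · rw [mem_stabilizer_iff, hti, mul_smul, mul_smul, t_ta hS, h1]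

/-- the factorisation `|D| = |C_D(t)| |K|` (from S1124). -/
lemma card_D_eq_t [Finite G] :
    Nat.card ↥(stabilizer G a ⊓ stabilizer G (t • a)) =
      Nat.card ↥((stabilizer G a ⊓ stabilizer G (t • a)) ⊓ Subgroup.centralizer {t}) *
        Nat.card (Cfsg.invertedBy (stabilizer G a ⊓ stabilizer G (t • a)) t) :=
  (Cfsg.Agent.S1124.result t (orderOf_t hS) _ hS.odd_card (fun _ hx => t_conj_mem_D hS hx)).2.1

omit hS in
/-- `1 ∈ K`. -/
lemma one_mem_invertedBy : (1 : G) ∈ Cfsg.invertedBy (stabilizer G a ⊓ stabilizer G (t • a)) t :=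
  ⟨Subgroup.one_mem _, by simp⟩

/-- the factorisation `|D| = |C_D(s)| |K|` for an involution `s` of `G_a`. -/
lemma card_D_eq_s [Finite G] {s : G} (hs : s ∈ Cfsg.involutionsIn (stabilizer G a : Set G)) :
    Nat.card ↥(stabilizer G a ⊓ stabilizer G (t • a)) =
      Nat.card ↥((stabilizer G a ⊓ stabilizer G (t • a)) ⊓ Subgroup.centralizer {s}) *
        Nat.card (Cfsg.invertedBy (stabilizer G a ⊓ stabilizer G (t • a)) t) := by
  let f : ↥((stabilizer G a ⊓ stabilizer G (t • a)) ⊓ Subgroup.centralizer {s}) ×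
      ↥(Cfsg.invertedBy (stabilizer G a ⊓ stabilizer G (t • a)) t) →
      ↥(stabilizer G a ⊓ stabilizer G (t • a)) :=
    fun p => ⟨(p.1 : G) * (p.2 : G), Subgroup.mul_mem _ p.1.2.1 p.2.2.1⟩
  have hcomm : ∀ c ∈ (stabilizer G a ⊓ stabilizer G (t • a)) ⊓ Subgroup.centralizer {s},
      c⁻¹ * s * c = s := by
    intro c hc
    have h1 : s * c = c * s := Subgroup.mem_centralizer_iff.mp hc.2 s rfl
    calc c⁻¹ * s * c = c⁻¹ * (s * c) := by group
      _ = s := by rw [h1]; group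
  have hf : Function.Bijective f := by
    constructor
    · rintro ⟨⟨c1, hc1⟩, ⟨k1, hk1⟩⟩ ⟨⟨c2, hc2⟩, ⟨k2, hk2⟩⟩ h
      have h' : c1 * k1 = c2 * k2 := congrArg Subtype.val h
      have e1 : k1⁻¹ * s * k1 = k2⁻¹ * s * k2 := by
        calc k1⁻¹ * s * k1 = k1⁻¹ * (c1⁻¹ * s * c1) * k1 := by rw [hcomm c1 hc1]
          _ = (c1 * k1)⁻¹ * s * (c1 * k1) := by group
          _ = (c2 * k2)⁻¹ * s * (c2 * k2) := by rw [h']
          _ = k2⁻¹ * (c2⁻¹ * s * c2) * k2 := by group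
          _ = k2⁻¹ * s * k2 := by rw [hcomm c2 hc2]
      have e2 : k1 = k2 := conj_invertedBy_injective hS hs hk1 hk2 e1
      subst e2
      have e3 : c1 = c2 := mul_right_cancel h'
      subst e3
      rfl
    · rintro ⟨d, hd⟩
      have h1 : d⁻¹ * s * d ∈ Cfsg.involutionsIn (stabilizer G a : Set G) :=
        conj_mem_involutionsIn hs hd.1
      obtain ⟨k, hk, hks⟩ := exists_invertedBy_conj hS hs h1
      have hc : d * k⁻¹ ∈ (stabilizer G a ⊓ stabilizer G (t • a)) ⊓ Subgroup.centralizer {s} := by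
        refine Subgroup.mem_inf.mpr ⟨Subgroup.mul_mem _ hd (Subgroup.inv_mem _ hk.1), ?_⟩
        rw [Subgroup.mem_centralizer_iff]
        intro h hh
        rw [Set.mem_singleton_iff] at hh
        subst hh
        have e : h = d * (k⁻¹ * h * k) * d⁻¹ := by rw [hks]; group
        calc h * (d * k⁻¹) = d * (k⁻¹ * h * k) * d⁻¹ * (d * k⁻¹) := by rw [← e]
          _ = d * k⁻¹ * h := by group
      exact ⟨(⟨d * k⁻¹, hc⟩, ⟨k, hk⟩), Subtype.ext (by show d * k⁻¹ * k = d; group)⟩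
  rw [← Nat.card_prod]
  exact (Nat.card_congr (Equiv.ofBijective f hf)).symm

/-- if `t s t = r⁻¹ t r` then `C_D(t) = C_D(s)`. -/
lemma centralizer_t_eq_centralizer_s [Finite G] {s r : G}
    (hs : s ∈ Cfsg.involutionsIn (stabilizer G a : Set G)) (hr : r ∈ Q)
    (heq : t * s * t = r⁻¹ * t * r) :
    (stabilizer G a ⊓ stabilizer G (t • a)) ⊓ Subgroup.centralizer {t} =
      (stabilizer G a ⊓ stabilizer G (t • a)) ⊓ Subgroup.centralizer {s} := by
  have hle : (stabilizer G a ⊓ stabilizer G (t • a)) ⊓ Subgroup.centralizer {t} ≤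
      (stabilizer G a ⊓ stabilizer G (t • a)) ⊓ Subgroup.centralizer {s} := by
    intro d hd
    obtain ⟨hdD, hdt⟩ := Subgroup.mem_inf.mp hd
    have hdt' : t * d = d * t := Subgroup.mem_centralizer_iff.mp hdt t rfl
    refine Subgroup.mem_inf.mpr ⟨hdD, ?_⟩
    have hs' : d * s * d⁻¹ ∈ Cfsg.involutionsIn (stabilizer G a : Set G) := by
      have := conj_mem_involutionsIn hs ((stabilizer G a).inv_mem hdD.1)
      rwa [inv_inv] at this
    have hr' : d * r * d⁻¹ ∈ Q := hS.conj_mem d hdD.1 r hr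
    have hdt'' : d * t * d⁻¹ = t := by
      calc d * t * d⁻¹ = (t * d) * d⁻¹ := by rw [hdt']
        _ = t := by group
    have heq' : t * (d * s * d⁻¹) * t = (d * r * d⁻¹)⁻¹ * t * (d * r * d⁻¹) := by
      calc t * (d * s * d⁻¹) * t = (d * t * d⁻¹) * (d * s * d⁻¹) * (d * t * d⁻¹) := by rw [hdt'']
        _ = d * (t * s * t) * d⁻¹ := by group
        _ = d * (r⁻¹ * t * r) * d⁻¹ := by rw [heq]
        _ = (d * r * d⁻¹)⁻¹ * (d * t * d⁻¹) * (d * r * d⁻¹) := by group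
        _ = (d * r * d⁻¹)⁻¹ * t * (d * r * d⁻¹) := by rw [hdt'']
    obtain ⟨p, -, hp⟩ := Cfsg.Agent.S1123.result hS
    have e1 := hp (s, r) ⟨hs, hr, heq⟩
    have e2 := hp (d * s * d⁻¹, d * r * d⁻¹) ⟨hs', hr', heq'⟩
    have e3 : d * s * d⁻¹ = s := by
      have := e2.trans e1.symm
      exact (Prod.mk.injEq _ _ _ _ ▸ this).1
    rw [Subgroup.mem_centralizer_iff]
    intro h hh
    rw [Set.mem_singleton_iff] at hh
    subst hh
    calc h * d = (d * h * d⁻¹) * d := by rw [e3]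
      _ = d * h := by group
  apply Subgroup.eq_of_le_of_card_ge hle
  have h1 := card_D_eq_t hS
  have h2 := card_D_eq_s hS hs
  have hK : 0 < Nat.card (Cfsg.invertedBy (stabilizer G a ⊓ stabilizer G (t • a)) t) := by
    have : Nonempty (Cfsg.invertedBy (stabilizer G a ⊓ stabilizer G (t • a)) t) :=
      ⟨⟨1, one_mem_invertedBy⟩⟩
    exact Nat.card_pos
  rw [h1] at h2
  exact (Nat.eq_of_mul_eq_mul_right hK h2).ge

end struct

section fixedsets

omit [MulAction G Ω] in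
/-- among three distinct points one differs from two given points. -/
lemma exists_third {b c d p q : Ω} (hbc : b ≠ c) (hbd : b ≠ d) (hcd : c ≠ d) :
    ∃ e, (e = b ∨ e = c ∨ e = d) ∧ e ≠ p ∧ e ≠ q := by
  by_cases h1 : b ≠ p ∧ b ≠ q
  · exact ⟨b, Or.inl rfl, h1.1, h1.2⟩
  by_cases h2 : c ≠ p ∧ c ≠ q
  · exact ⟨c, Or.inr (Or.inl rfl), h2.1, h2.2⟩
  refine ⟨d, Or.inr (Or.inr rfl), ?_, ?_⟩
  · rintro rfl
    rw [not_and_or, not_not, not_not] at h1 h2
    rcases h1 with h1 | h1 <;> rcases h2 with h2 | h2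
    · exact hbd h1
    · exact hbd h1
    · exact hcd h2
    · exact hbc (h1.trans h2.symm)
  · rintro rfl
    rw [not_and_or, not_not, not_not] at h1 h2
    rcases h1 with h1 | h1 <;> rcases h2 with h2 | h2
    · exact hbc (h1.trans h2.symm)
    · exact hcd h2
    · exact hbd h1
    · exact hbd h1

variable (hS : Cfsg.IsRankOneSetup G Ω a t Q)
include hS

/-- if `X ⊆ G_a` fixes `c, c' ≠ a`, the element of `Q` taking `c` to `c'` centralises `X`. -/
lemma exists_Q_centralizer_smul {X : Set G} {c c' : Ω} (hXa : ∀ x ∈ X, x • a = a)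
    (hXc : ∀ x ∈ X, x • c = c) (hXc' : ∀ x ∈ X, x • c' = c') (hc : c ≠ a) (hc' : c' ≠ a) :
    ∃ q ∈ Q, q ∈ Subgroup.centralizer X ∧ q • c = c' := by
  obtain ⟨q, hq, -⟩ := Q_regular hS hc hc'
  refine ⟨q, q.2, ?_, hq⟩
  rw [Subgroup.mem_centralizer_iff]
  intro x hx
  have hxa : x ∈ stabilizer G a := mem_stabilizer_iff.mpr (hXa x hx)
  have h1 : x * q * x⁻¹ ∈ Q := hS.conj_mem x hxa q q.2
  have hxc : x⁻¹ • c = c := by
    rw [inv_smul_eq_iff, hXc x hx]
  have h2 : (x * q * x⁻¹) • c = (q : G) • c := by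
    rw [mul_smul, mul_smul, hxc, hq, hXc' x hx]
  have h3 : x * q * x⁻¹ = q := Q_smul_inj hS h1 q.2 hc h2
  calc x * q = (x * q * x⁻¹) * x := by group
    _ = q * x := by rw [h3]

/-- if `X` fixes `a'` and `c, c' ≠ a'`, some element of `C_G(X)` fixes `a'` and takes `c` to `c'`. -/
lemma exists_centralizer_smul {X : Set G} {a' c c' : Ω} (hXa : ∀ x ∈ X, x • a' = a')
    (hXc : ∀ x ∈ X, x • c = c) (hXc' : ∀ x ∈ X, x • c' = c') (hc : c ≠ a') (hc' : c' ≠ a') :
    ∃ g ∈ Subgroup.centralizer X, g • a' = a' ∧ g • c = c' := by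
  have := pretrans hS
  obtain ⟨h, hh⟩ := exists_smul_eq G a a'
  have hh' : h⁻¹ • a' = a := by rw [← hh, inv_smul_smul]
  set X' : Set G := (fun x => h⁻¹ * x * h) '' X with hX'
  have h1 : ∀ x ∈ X', x • a = a := by
    rintro _ ⟨x, hx, rfl⟩
    rw [mul_smul, mul_smul, hh, hXa x hx, hh']
  have h2 : ∀ x ∈ X', x • (h⁻¹ • c) = h⁻¹ • c := by
    rintro _ ⟨x, hx, rfl⟩
    rw [mul_smul, mul_smul, smul_inv_smul, hXc x hx]
  have h3 : ∀ x ∈ X', x • (h⁻¹ • c') = h⁻¹ • c' := by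
    rintro _ ⟨x, hx, rfl⟩
    rw [mul_smul, mul_smul, smul_inv_smul, hXc' x hx]
  have h4 : h⁻¹ • c ≠ a := by
    intro h5
    apply hc
    rw [← hh, ← h5, smul_inv_smul]
  have h5 : h⁻¹ • c' ≠ a := by
    intro h5
    apply hc'
    rw [← hh, ← h5, smul_inv_smul]
  obtain ⟨q, hqQ, hqC, hq⟩ := exists_Q_centralizer_smul hS h1 h2 h3 h4 h5
  refine ⟨h * q * h⁻¹, ?_, ?_, ?_⟩
  · rw [Subgroup.mem_centralizer_iff]
    intro x hx
    have h6 : (h⁻¹ * x * h) * q = q * (h⁻¹ * x * h) :=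
      Subgroup.mem_centralizer_iff.mp hqC _ ⟨x, hx, rfl⟩
    calc x * (h * q * h⁻¹) = h * ((h⁻¹ * x * h) * q) * h⁻¹ := by group
      _ = h * (q * (h⁻¹ * x * h)) * h⁻¹ := by rw [h6]
      _ = h * q * h⁻¹ * x := by group
  · rw [mul_smul, mul_smul, hh', Q_smul_a hS hqQ, hh]
  · rw [mul_smul, mul_smul, hq, smul_inv_smul]

omit hS in
/-- elements of `C_G(X)` permute the fixed points of `X`. -/
lemma centralizer_smul_fixed {X : Set G} {g : G} (hg : g ∈ Subgroup.centralizer X) {c : Ω}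
    (hXc : ∀ x ∈ X, x • c = c) : ∀ x ∈ X, x • (g • c) = g • c := by
  intro x hx
  have h1 : x * g = g * x := Subgroup.mem_centralizer_iff.mp hg x hx
  rw [smul_smul, h1, mul_smul, hXc x hx]

/-- `C_G(X)` is doubly transitive on the fixed points of `X` when there are at least three. -/
lemma centralizer_two_trans {X : Set G} {b c d : Ω} (hbc : b ≠ c) (hbd : b ≠ d) (hcd : c ≠ d)
    (hXb : ∀ x ∈ X, x • b = b) (hXc : ∀ x ∈ X, x • c = c) (hXd : ∀ x ∈ X, x • d = d)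
    {b₁ b₂ c₁ c₂ : Ω} (hb₁ : ∀ x ∈ X, x • b₁ = b₁) (hb₂ : ∀ x ∈ X, x • b₂ = b₂)
    (hc₁ : ∀ x ∈ X, x • c₁ = c₁) (hc₂ : ∀ x ∈ X, x • c₂ = c₂) (hb : b₁ ≠ b₂) (hc : c₁ ≠ c₂) :
    ∃ g ∈ Subgroup.centralizer X, g • b₁ = c₁ ∧ g • b₂ = c₂ := by
  -- first move `b₁` to `c₁`
  obtain ⟨g₁, hg₁, hg₁b⟩ : ∃ g₁ ∈ Subgroup.centralizer X, g₁ • b₁ = c₁ := by
    obtain ⟨e, he, he1, he2⟩ := exists_third (p := b₁) (q := c₁) hbc hbd hcd
    have hXe : ∀ x ∈ X, x • e = e := by
      rcases he with rfl | rfl | rfl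
      · exact hXb
      · exact hXc
      · exact hXd
    obtain ⟨g, hg, -, hgb⟩ := exists_centralizer_smul hS hXe hb₁ hc₁ he1.symm he2.symm
    exact ⟨g, hg, hgb⟩
  have h1 : g₁ • b₂ ≠ c₁ := by
    intro h
    apply hb
    rw [← hg₁b] at h
    exact (smul_left_cancel g₁ h).symm
  obtain ⟨g₂, hg₂, hg₂c, hg₂b⟩ :=
    exists_centralizer_smul hS hc₁ (centralizer_smul_fixed hg₁ hb₂) hc₂ h1 hc.symm
  refine ⟨g₂ * g₁, Subgroup.mul_mem _ hg₂ hg₁, ?_, ?_⟩
  · rw [mul_smul, hg₁b, hg₂c]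
  · rw [mul_smul, hg₂b]

end fixedsets

section evencentralizer

/-- an element swapping two distinct points has a power which is an involution. -/
lemma exists_invol_zpowers_of_swap [Finite G] {g : G} {c d : Ω} (hcd : c ≠ d) (h1 : g • c = d)
    (h2 : g • d = c) : ∃ m : ℕ, g ^ m ≠ 1 ∧ g ^ m * g ^ m = 1 := by
  have hpos : 0 < orderOf g := orderOf_pos g
  have hc2 : g ^ 2 • c = c := by rw [pow_two, mul_smul, h1, h2]
  have hsq : ∀ n : ℕ, (g ^ 2) ^ n • c = c := by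
    intro n
    induction n with
    | zero => simp
    | succ n ih => rw [pow_succ, mul_smul, hc2, ih]
  rcases Nat.even_or_odd (orderOf g) with ⟨m, hm⟩ | ⟨m, hm⟩
  · refine ⟨m, ?_, ?_⟩
    · apply pow_ne_one_of_lt_orderOf
      · omega
      · omega
    · rw [← pow_add, ← hm, pow_orderOf_eq_one]
  · exfalso
    apply hcd
    have h3 : (g ^ 2) ^ (m + 1) = g := by
      rw [← pow_mul]
      have : 2 * (m + 1) = orderOf g + 1 := by omega
      rw [this, pow_succ, pow_orderOf_eq_one, one_mul]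
    have := hsq (m + 1)
    rw [h3, h1] at this
    exact this.symm

end evencentralizer

end Cfsg.Agent.Lib.helper19_RankOne2
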