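import Mathlib
import Cfsg.Agent.S0765
import Cfsg.Agent.Lib.Helper13_Symp
import Cfsg.Agent.Lib.helper19_CoxE7

/-!
The Coxeter group of type E7 maps onto `Sp_6(2)`: the simple reflections go to the symplectic
transvections of seven vectors whose Gram matrix is the Dynkin diagram mod 2; every transvection
is the image of an explicit word.  Data generated by a script.  By helper19.
-/

set_option autoImplicit false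
set_option maxRecDepth 1000000

namespace Cfsg.Agent.Lib.helper19_Sp62A

open Matrix

/-- position of an index of `Fin 3 ⊕ Fin 3` in the order `inl 0, inl 1, inl 2, inr 0, inr 1, inr 2`. -/
def pos : Fin 3 ⊕ Fin 3 → ℕ := Sum.elim (fun i => i.val) (fun i => i.val + 3)

/-- the vector of `F_2^6` with bits given by the list. -/
def vecL (l : List ℕ) : Fin 3 ⊕ Fin 3 → ZMod 2 := fun a => if l.getD (pos a) 0 = 1 then 1 else 0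

/-- the vector of `F_2^6` with bits the binary digits of `k`. -/
def vecN (k : ℕ) : Fin 3 ⊕ Fin 3 → ZMod 2 := fun a => if (k / 2 ^ pos a) % 2 = 1 then 1 else 0

/-- the images of the simple roots. -/
def rootL : List (List ℕ) := [[0, 0, 0, 0, 0, 1], [0, 0, 0, 0, 1, 0], [0, 0, 1, 0, 0, 0], [0, 1, 0, 0, 0, 1], [0, 0, 0, 1, 1, 0], [1, 0, 0, 0, 0, 0], [0, 0, 0, 1, 0, 0]]

/-- words in the simple reflections mapping to the 64 transvections (the empty word for the zero vector). -/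
def wordL : List (List (Fin 7)) := [[], [5], [4, 5, 6, 3, 4, 5, 2, 3, 4, 1, 3, 2, 0, 2, 3, 1, 4, 3, 2, 5, 4, 3, 6, 5, 4], [1, 3, 4, 5, 2, 3, 4, 1, 3, 2, 0, 2, 3, 1, 4, 3, 2, 5, 4, 3, 1], [2], [6, 5, 3, 4, 2, 3, 1, 3, 2, 4, 3, 5, 6], [3, 2, 0, 2, 3], [6, 5, 4, 1, 3, 2, 0, 2, 3, 1, 4, 5, 6], [6], [6, 5, 6], [5, 6, 1, 3, 4, 5, 2, 3, 4, 1, 3, 2, 0, 2, 3, 1, 4, 3, 2, 5, 4, 3, 1, 6, 5], [6, 1, 3, 4, 5, 2, 3, 4, 1, 3, 2, 0, 2, 3, 1, 4, 3, 2, 5, 4, 3, 1, 6], [3, 4, 2, 3, 1, 3, 2, 4, 3], [5, 3, 4, 2, 3, 1, 3, 2, 4, 3, 5], [4, 1, 3, 2, 0, 2, 3, 1, 4], [5, 4, 1, 3, 2, 0, 2, 3, 1, 4, 5], [1], [6, 5, 4, 5, 6], [4, 5, 6, 1, 3, 4, 5, 2, 3, 4, 1, 3, 2, 0, 2, 3, 1, 4, 3, 2, 5, 4, 3, 1, 6, 5, 4], [3, 4, 5, 2, 3, 4, 1, 3, 2, 0, 2, 3, 1, 4, 3, 2, 5, 4, 3], [0, 2, 3, 4, 5, 6, 1, 3, 4, 5, 2, 3,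 4, 1, 3, 2, 0, 2, 3, 1, 4, 3, 2, 5, 4, 3, 1, 6, 5, 4, 3, 2, 0], [4, 5, 3, 4, 2, 3, 1, 3, 2, 4, 3, 5, 4], [1, 3, 2, 0, 2, 3, 1], [6, 5, 4, 3, 2, 0, 2, 3, 4, 5, 6], [4], [5, 4, 5], [5, 6, 3, 4, 5, 2, 3, 4, 1, 3, 2, 0, 2, 3, 1, 4, 3, 2, 5, 4, 3, 6, 5], [6, 3, 4, 5, 2, 3, 4, 1, 3, 2, 0, 2, 3, 1, 4, 3, 2, 5, 4, 3, 6], [5, 6, 4, 5, 3, 4, 2, 3, 1, 3, 2, 4, 3, 5, 4, 6, 5], [6, 4, 5, 3, 4, 2, 3, 1, 3, 2, 4, 3, 5, 4, 6], [4, 3, 2, 0, 2, 3, 4], [5, 4, 3, 2, 0, 2, 3, 4, 5], [0], [6, 5, 2, 3, 4, 1, 3, 2, 0, 2, 3, 1, 4, 3, 2, 5, 6], [3], [6, 5, 4, 3, 1, 3, 4, 5, 6], [2, 0, 2], [6, 5, 3, 4, 1, 3, 2, 0, 2, 3, 1, 4, 3, 5, 6], [3, 2, 3], [6, 5, 4, 2, 3, 1, 3, 2, 4, 5, 6], [2, 3, 4, 1, 3, 2, 0, 2, 3, 1, 4, 3, 2], [5, 2, 3, 4, 1, 3, 2, 0, 2, 3, 1, 4, 3, 2, 5], [4, 3, 1, 3, 4], [5, 4, 3, 1, 3,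 4, 5], [3, 4, 1, 3, 2, 0, 2, 3, 1, 4, 3], [5, 3, 4, 1, 3, 2, 0, 2, 3, 1, 4, 3, 5], [4, 2, 3, 1, 3, 2, 4], [5, 4, 2, 3, 1, 3, 2, 4, 5], [3, 4, 5, 6, 1, 3, 4, 5, 2, 3, 4, 1, 3, 2, 0, 2, 3, 1, 4, 3, 2, 5, 4, 3, 1, 6, 5, 4, 3], [4, 5, 2, 3, 4, 1, 3, 2, 0, 2, 3, 1, 4, 3, 2, 5, 4], [3, 1, 3], [6, 5, 4, 3, 4, 5, 6], [2, 3, 4, 5, 6, 1, 3, 4, 5, 2, 3, 4, 1, 3, 2, 0, 2, 3, 1, 4, 3, 2, 5, 4, 3, 1, 6, 5, 4, 3, 2], [4, 5, 3, 4, 1, 3, 2, 0, 2, 3, 1, 4, 3, 5, 4], [2, 3, 1, 3, 2], [6, 5, 4, 3, 2, 3, 4, 5, 6], [5, 6, 4, 5, 2, 3, 4, 1, 3, 2, 0, 2, 3, 1, 4, 3, 2, 5, 4, 6, 5], [6, 4, 5, 2, 3, 4, 1, 3, 2, 0, 2, 3, 1, 4, 3, 2, 5, 4, 6], [4, 3, 4], [5, 4, 3, 4, 5], [5, 6, 4, 5, 3, 4, 1, 3, 2, 0, 2, 3, 1, 4, 3, 5, 4, 6, 5], [6, 4, 5, 3, 4, 1, 3, 2, 0, 2, 3, 1, 4, 3, 5, 4, 6], [4, 3, 2, 3, 4], [5,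 4, 3, 2, 3, 4, 5]]

/-- the image of the `i`-th simple root. -/
def rootV (i : Fin 7) : Fin 3 ⊕ Fin 3 → ZMod 2 := vecL (rootL.getD i.val [])

/-- the transvection matrices. -/
def Tm (i : Fin 7) : Matrix (Fin 3 ⊕ Fin 3) (Fin 3 ⊕ Fin 3) (ZMod 2) :=
  Cfsg.sympTransvection 3 (rootV i) 1

/-- the transvections, in the symplectic group. -/
def T (i : Fin 7) : Matrix.symplecticGroup (Fin 3) (ZMod 2) :=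
  ⟨Tm i, Cfsg.Agent.Lib.Helper13_Symp.sympTransvection_mem 3 (rootV i) 1⟩

theorem hTm : ∀ i j : Fin 7, (Tm i * Tm j) ^ Cfsg.Agent.Lib.helper19_CoxE7.matf i j = 1 := by
  have h : ∀ p : Fin 7 × Fin 7,
      (Tm p.1 * Tm p.2) ^ Cfsg.Agent.Lib.helper19_CoxE7.matf p.1 p.2 = 1 := by decide +kernel
  exact fun i j => h (i, j)

theorem hT : ∀ i j : Fin 7, (T i * T j) ^ CoxeterMatrix.E₇ i j = 1 := by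
  intro i j
  apply Subtype.ext
  rw [Cfsg.Agent.Lib.helper19_CoxE7.hmat]
  simp only [SubmonoidClass.coe_pow, Submonoid.coe_mul, OneMemClass.coe_one]
  exact hTm i j

theorem hword : ∀ k : Fin 64,
    ((wordL.getD k.val []).map Tm).prod = Cfsg.sympTransvection 3 (vecN k.val) 1 := by
  decide +kernel

theorem vecN_inj : ∀ k k' : Fin 64, vecN k.val = vecN k'.val → k = k' := by decide +kernel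

end Cfsg.Agent.Lib.helper19_Sp62A
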