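import Mathlib
import Cfsg.Agent.Lib.helper19_Sp62A
import Cfsg.Agent.Lib.Helper5_SpOrder
import Cfsg.Agent.Lib.Helper5_SpPerfect

/-!
`W(E7)` maps onto `Sp_6(2)`, and its even subgroup is isomorphic to `Sp_6(2)`.  By helper19.
-/

set_option autoImplicit false

namespace Cfsg.Agent.Lib.helper19_Sp62B

open Matrix Cfsg.Agent.Lib.helper19_Sp62A

/-- the Coxeter group of type `E₇`. -/
abbrev W : Type := CoxeterMatrix.E₇.Group

/-- its Coxeter system. -/
noncomputable abbrev cs : CoxeterSystem CoxeterMatrix.E₇ W := CoxeterMatrix.E₇.toCoxeterSystem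

theorem card_W : Nat.card W = 2903040 := by
  have h := Cfsg.Agent.Lib.helper19_CoxE7.card7
  have h2 : Cfsg.Agent.Lib.helper19_CoxChain.truncTo CoxeterMatrix.E₇ 7 (by decide) = CoxeterMatrix.E₇ :=
    Cfsg.Agent.Lib.helper19_CoxChain.truncTo_self CoxeterMatrix.E₇
  rw [h2] at h
  exact h

instance finite_W : Finite W := by
  apply Nat.finite_of_card_ne_zero
  rw [card_W]; norm_num

/-- the map to `Sp_6(2)`. -/
noncomputable def phi : W →* Matrix.symplecticGroup (Fin 3) (ZMod 2) := cs.lift ⟨T, hT⟩

theorem phi_simple (i : Fin 7) : phi (cs.simple i) = T i := cs.lift_apply_simple hT i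

/-- the element of `W` given by a word. -/
noncomputable def wd (l : List (Fin 7)) : W := (l.map cs.simple).prod

theorem phi_wd (l : List (Fin 7)) : (phi (wd l)).1 = (l.map Tm).prod := by
  unfold wd
  induction l with
  | nil => simp
  | cons a l ih =>
    rw [List.map_cons, List.prod_cons, map_mul, List.map_cons, List.prod_cons, Submonoid.coe_mul, ih,
      phi_simple]
    rfl

theorem vecN_surj : Function.Surjective (fun k : Fin 64 => vecN k.val) := by
  have hinj : Function.Injective (fun k : Fin 64 => vecN k.val) := fun k k' h => vecN_inj k k' h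
  refine ((Fintype.bijective_iff_injective_and_card _).2 ⟨hinj, ?_⟩).2
  simp

theorem phi_surjective : Function.Surjective phi := by
  rw [← MonoidHom.range_eq_top, ← top_le_iff, ← Cfsg.Agent.S0765.result (F := ZMod 2) 3,
    Subgroup.closure_le]
  rintro A ⟨w, c, hA⟩
  have hc : c = 0 ∨ c = 1 := by
    fin_cases c
    · left; rfl
    · right; rfl
  rcases hc with rfl | rfl
  · refine ⟨1, ?_⟩
    apply Subtype.ext
    rw [hA, map_one]
    unfold Cfsg.sympTransvection
    simp
  · obtain ⟨k, rfl⟩ := vecN_surj w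
    refine ⟨wd (wordL.getD k.val []), ?_⟩
    apply Subtype.ext
    rw [phi_wd, hA]
    exact hword k

theorem card_sp : Nat.card (Matrix.symplecticGroup (Fin 3) (ZMod 2)) = 1451520 := by
  rw [Cfsg.Agent.Lib.Helper5_SpOrder.card_sp (F := ZMod 2) (q := 2) (by simp [ZMod.card]) 3]
  decide

theorem sp_perfect : commutator (Matrix.symplecticGroup (Fin 3) (ZMod 2)) = ⊤ :=
  Cfsg.Agent.Lib.Helper5_SpPerfect.sp_perfect 3 (Or.inl le_rfl)

/-- the sign character. -/
noncomputable def sgn : W →* Multiplicative (ZMod 2) :=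
  cs.lift ⟨fun _ => Multiplicative.ofAdd 1, fun i j => by
    have : (Multiplicative.ofAdd (1 : ZMod 2)) * Multiplicative.ofAdd 1 = 1 := by decide
    rw [this, one_pow]⟩

theorem sgn_simple (i : Fin 7) : sgn (cs.simple i) = Multiplicative.ofAdd 1 :=
  cs.lift_apply_simple _ i

/-- the even subgroup. -/
noncomputable abbrev Wp : Subgroup W := sgn.ker

theorem card_Wp : Nat.card Wp = 1451520 := by
  have hs : Function.Surjective sgn := by
    intro x
    have hx : x = 1 ∨ x = Multiplicative.ofAdd 1 := by
      revert x; decide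
    rcases hx with rfl | rfl
    · exact ⟨1, map_one _⟩
    · exact ⟨cs.simple 0, sgn_simple 0⟩
  have h1 : sgn.ker.index = 2 := by
    rw [Subgroup.index_ker, MonoidHom.range_eq_top.2 hs, Nat.card_congr Subgroup.topEquiv.toEquiv]
    simp [Nat.card_eq_fintype_card, ZMod.card]
  have h2 := Subgroup.card_mul_index (sgn.ker)
  rw [h1, card_W] at h2
  have h3 : Nat.card Wp * 2 = 2903040 := h2
  omega

/-- `phi` restricted to the even subgroup. -/
noncomputable def phiP : Wp →* Matrix.symplecticGroup (Fin 3) (ZMod 2) := phi.comp Wp.subtype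

theorem phiP_surjective : Function.Surjective phiP := by
  rw [← MonoidHom.range_eq_top, ← top_le_iff, ← sp_perfect]
  have h1 : commutator (Matrix.symplecticGroup (Fin 3) (ZMod 2)) = Subgroup.map phi (commutator W) := by
    rw [commutator_def, commutator_def, Subgroup.map_commutator, ← MonoidHom.range_eq_map,
      MonoidHom.range_eq_top.2 phi_surjective]
  rw [h1]
  rintro _ ⟨x, hx, rfl⟩
  have hx' : x ∈ sgn.ker := Abelianization.commutator_subset_ker sgn hx
  exact ⟨⟨x, hx'⟩, rfl⟩

theorem phiP_bijective : Function.Bijective phiP := by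
  have : Finite Wp := inferInstance
  have : Finite (Matrix.symplecticGroup (Fin 3) (ZMod 2)) := Nat.finite_of_card_ne_zero (by rw [card_sp]; norm_num)
  exact (Nat.bijective_iff_surjective_and_card phiP).2 ⟨phiP_surjective, by rw [card_Wp, card_sp]⟩

/-- the even subgroup of `W(E₇)` is `Sp_6(2)`. -/
noncomputable def equivSp : Wp ≃* Matrix.symplecticGroup (Fin 3) (ZMod 2) :=
  MulEquiv.ofBijective phiP phiP_bijective

end Cfsg.Agent.Lib.helper19_Sp62B
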