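import Mathlib
import Cfsg.Agent.Lib.helper19_CoxE7

/-!
Seven `8 × 8` matrices over `F_3` with `R_i ^ 2 = -1`, `(R_i R_j) ^ 3 = -1` on the edges of the
Dynkin diagram of type `E₇` and `(R_i R_j) ^ 2 = -1` off the edges (a projective "Pin" lift of the
Weyl group, from a Clifford algebra), and the resulting homomorphism from the Coxeter group to
`GL_8(3) / ⟨-1⟩`.  Data generated by a script.  By helper19.
-/

set_option autoImplicit false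
set_option maxRecDepth 1000000

namespace Cfsg.Agent.Lib.helper19_Sp62C

open Matrix

/-- the matrices, as lists of rows. -/
def RL : List (List (List ℕ)) := [[[0, 0, 0, 0, 0, 0, 0, 2], [0, 0, 0, 0, 0, 0, 1, 0], [0, 0, 0, 0, 0, 1, 0, 0], [0, 0, 0, 0, 2, 0, 0, 0], [0, 0, 0, 1, 0, 0, 0, 0], [0, 0, 2, 0, 0, 0, 0, 0], [0, 2, 0, 0, 0, 0, 0, 0], [1, 0, 0, 0, 0, 0, 0, 0]], [[0, 0, 0, 0, 0, 0, 1, 1], [0, 0, 0, 0, 0, 0, 1, 2], [0, 0, 0, 0, 2, 2, 0, 0], [0, 0, 0, 0, 2, 1, 0, 0], [0, 0, 2, 2, 0, 0, 0, 0], [0, 0, 2, 1, 0, 0, 0, 0], [1, 1, 0, 0, 0, 0, 0, 0], [1, 2, 0, 0, 0, 0, 0, 0]], [[0, 0, 0, 0, 2, 0, 1, 0], [0, 0, 0, 0, 0, 2, 2, 0], [0, 0, 0, 0, 0, 0, 1, 0], [0, 0, 0, 0, 1, 1, 0, 1], [1, 0, 2, 0, 0, 0, 0, 0], [0, 1, 1, 0, 0, 0, 0, 0], [0, 0, 2, 0, 0, 0, 0, 0], [2, 2, 0, 2, 0, 0, 0, 0]], [[0, 0, 0, 0, 2, 0, 1, 0], [0, 0, 0, 0, 0, 2, 0, 0], [0, 0, 0, 0, 0, 0, 1,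 0], [0, 0, 0, 0, 0, 1, 0, 1], [1, 0, 2, 0, 0, 0, 0, 0], [0, 1, 0, 0, 0, 0, 0, 0], [0, 0, 2, 0, 0, 0, 0, 0], [0, 2, 0, 2, 0, 0, 0, 0]], [[1, 0, 0, 0, 1, 0, 2, 1], [0, 1, 0, 0, 0, 1, 1, 1], [0, 0, 1, 0, 1, 2, 2, 0], [0, 0, 0, 1, 2, 2, 0, 2], [2, 0, 1, 2, 2, 0, 0, 0], [0, 2, 2, 2, 0, 2, 0, 0], [2, 1, 1, 0, 0, 0, 2, 0], [1, 1, 0, 1, 0, 0, 0, 2]], [[0, 0, 0, 0, 2, 0, 2, 0], [0, 0, 0, 0, 0, 2, 0, 2], [0, 0, 0, 0, 2, 0, 0, 0], [0, 0, 0, 0, 0, 2, 0, 0], [0, 0, 1, 0, 0, 0, 0, 0], [0, 0, 0, 1, 0, 0, 0, 0], [1, 0, 2, 0, 0, 0, 0, 0], [0, 1, 0, 2, 0, 0, 0, 0]], [[2, 0, 0, 0, 2, 0, 1, 0], [0, 2, 0, 0, 0, 2, 0, 1], [0, 0, 2, 0, 1, 0, 1, 0], [0, 0, 0, 2, 0, 1, 0, 1], [1, 0, 2, 0, 1, 0, 0, 0], [0, 1, 0, 2, 0, 1, 0, 0], [2, 0, 2, 0, 0, 0, 1, 0], [0, 2, 0, 2, 0, 0, 0, 1]]]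

/-- the matrices. -/
def Rm (i : Fin 7) : Matrix (Fin 8) (Fin 8) (ZMod 3) :=
  fun a b => ((((RL.getD i.val []).getD a.val []).getD b.val 0 : ℕ) : ZMod 3)

theorem hRm : ∀ i j : Fin 7, (Rm i * Rm j) ^ Cfsg.Agent.Lib.helper19_CoxE7.matf i j = -1 := by
  have h : ∀ p : Fin 7 × Fin 7,
      (Rm p.1 * Rm p.2) ^ Cfsg.Agent.Lib.helper19_CoxE7.matf p.1 p.2 = -1 := by decide +kernel
  exact fun i j => h (i, j)

theorem Rm_sq (i : Fin 7) : Rm i * Rm i = -1 := by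
  have h := hRm i i
  have h1 : Cfsg.Agent.Lib.helper19_CoxE7.matf i i = 1 := by revert i; decide
  rw [h1, pow_one] at h
  exact h

/-- the ambient group `GL_8(3)`. -/
abbrev P : Type := (Matrix (Fin 8) (Fin 8) (ZMod 3))ˣ

/-- the matrices as units. -/
def R (i : Fin 7) : P :=
  ⟨Rm i, -Rm i, by rw [mul_neg, Rm_sq, neg_neg], by rw [neg_mul, Rm_sq, neg_neg]⟩

/-- the central involution `-1`. -/
def z : P := -1

theorem z_val : (z : Matrix (Fin 8) (Fin 8) (ZMod 3)) = -1 := rfl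

theorem z_center : z ∈ Subgroup.center P := by
  rw [Subgroup.mem_center_iff]
  intro g
  apply Units.ext
  rw [Units.val_mul, Units.val_mul, z_val, mul_neg, mul_one, neg_mul, one_mul]

theorem z_ne_one : z ≠ 1 := by
  intro h
  have h1 : (z : Matrix (Fin 8) (Fin 8) (ZMod 3)) 0 0 = (1 : Matrix (Fin 8) (Fin 8) (ZMod 3)) 0 0 := by
    rw [h]; rfl
  rw [z_val] at h1
  revert h1
  decide

theorem z_mul_self : z * z = 1 := by
  apply Units.ext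
  rw [Units.val_mul, z_val, neg_mul_neg, mul_one]
  rfl

/-- the subgroup `{1, -1}`. -/
def N : Subgroup P := Subgroup.zpowers z

instance N_normal : N.Normal := by
  constructor
  intro n hn g
  have hc : n ∈ Subgroup.center P := (Subgroup.zpowers_le.2 z_center) hn
  have h : g * n * g⁻¹ = n := by
    rw [Subgroup.mem_center_iff.1 hc g, mul_assoc, mul_inv_cancel, mul_one]
  rw [h]
  exact hn

theorem mem_N (p : P) : p ∈ N ↔ p = 1 ∨ p = z := by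
  unfold N
  constructor
  · intro hp
    obtain ⟨k, rfl⟩ := Subgroup.mem_zpowers_iff.1 hp
    rcases Int.even_or_odd k with ⟨m, rfl⟩ | ⟨m, rfl⟩
    · left
      rw [← two_mul, _root_.zpow_mul, zpow_two, z_mul_self, _root_.one_zpow]
    · right
      rw [_root_.zpow_add, zpow_one, _root_.zpow_mul, zpow_two, z_mul_self, _root_.one_zpow, one_mul]
  · rintro (rfl | rfl)
    · exact one_mem _
    · exact Subgroup.mem_zpowers z

theorem hR : ∀ i j : Fin 7, (R i * R j) ^ Cfsg.Agent.Lib.helper19_CoxE7.matf i j = z := by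
  intro i j
  apply Units.ext
  rw [Units.val_pow_eq_pow_val, Units.val_mul, z_val]
  exact hRm i j

/-- the images of the generators in the quotient. -/
def Rq (i : Fin 7) : P ⧸ N := QuotientGroup.mk (R i)

theorem hRq : ∀ i j : Fin 7, (Rq i * Rq j) ^ CoxeterMatrix.E₇ i j = 1 := by
  intro i j
  rw [Cfsg.Agent.Lib.helper19_CoxE7.hmat]
  unfold Rq
  rw [← QuotientGroup.mk_mul, ← QuotientGroup.mk_pow, hR, QuotientGroup.eq_one_iff]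
  exact (mem_N z).2 (Or.inr rfl)

/-- the projective lift of the Coxeter group. -/
noncomputable def theta : CoxeterMatrix.E₇.Group →* P ⧸ N :=
  CoxeterMatrix.E₇.toCoxeterSystem.lift ⟨Rq, hRq⟩

theorem theta_simple (i : Fin 7) :
    theta (CoxeterMatrix.E₇.toCoxeterSystem.simple i) = Rq i :=
  CoxeterMatrix.E₇.toCoxeterSystem.lift_apply_simple hRq i

/-- the witness: `(R_0 R_1)^2 = -1`, where nodes `0` and `1` are not joined. -/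
theorem witness : (R 0 * R 1) * (R 0 * R 1) = z := by
  have h := hR 0 1
  have h1 : Cfsg.Agent.Lib.helper19_CoxE7.matf (0 : Fin 7) (1 : Fin 7) = 2 := by decide
  rw [h1, pow_two] at h
  exact h

end Cfsg.Agent.Lib.helper19_Sp62C
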