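import Mathlib
import Cfsg.Prelude.Def_KGroupFacts

/-!
A pullback construction of stem extensions: if `S` is perfect, `z` is a central involution of `P`,
`θ : S →* P ⧸ ⟨z⟩` and some involution `s₀` of `S` lifts to an element `p₀` with `p₀ ^ 2 = z`, then the
pullback `{(p, s) | [p] = θ s}` is a stem extension of `S` with kernel of order 2.  By helper19.
-/

set_option autoImplicit false

namespace Cfsg.Agent.Lib.helper19_Sp62D

universe u v

variable {P : Type v} {S : Type u} [Group P] [Group S]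

/-- the pullback of `P → P ⧸ N ← S`. -/
def pull (N : Subgroup P) [N.Normal] (θ : S →* P ⧸ N) : Subgroup (P × S) :=
  ((QuotientGroup.mk' N).comp (MonoidHom.fst P S)).eqLocus (θ.comp (MonoidHom.snd P S))

theorem mem_pull (N : Subgroup P) [N.Normal] (θ : S →* P ⧸ N) (x : P × S) :
    x ∈ pull N θ ↔ (QuotientGroup.mk x.1 : P ⧸ N) = θ x.2 := Iff.rfl

/-- the projection of the pullback to `S`. -/
def proj (N : Subgroup P) [N.Normal] (θ : S →* P ⧸ N) : pull N θ →* S :=
  (MonoidHom.snd P S).comp (pull N θ).subtype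

theorem proj_apply (N : Subgroup P) [N.Normal] (θ : S →* P ⧸ N) (x : pull N θ) :
    proj N θ x = x.1.2 := rfl

theorem proj_surjective (N : Subgroup P) [N.Normal] (θ : S →* P ⧸ N) :
    Function.Surjective (proj N θ) := by
  intro s
  obtain ⟨p, hp⟩ := QuotientGroup.mk_surjective (θ s)
  exact ⟨⟨(p, s), (mem_pull N θ _).2 hp⟩, rfl⟩

theorem mem_ker_proj (N : Subgroup P) [N.Normal] (θ : S →* P ⧸ N) (x : pull N θ) :
    x ∈ (proj N θ).ker ↔ x.1.1 ∈ N ∧ x.1.2 = 1 := by
  rw [MonoidHom.mem_ker, proj_apply]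
  constructor
  · intro h
    refine ⟨?_, h⟩
    have hx := (mem_pull N θ x.1).1 x.2
    rw [h, map_one] at hx
    exact (QuotientGroup.eq_one_iff _).1 hx
  · exact fun h => h.2

variable (z : P) (hzc : z ∈ Subgroup.center P) (hz1 : z ≠ 1) (hz2 : z * z = 1)
  (N : Subgroup P) [N.Normal] (hN : ∀ p, p ∈ N ↔ p = 1 ∨ p = z) (θ : S →* P ⧸ N)

include hN in
theorem z_mem : ((z, 1) : P × S) ∈ pull N θ := by
  rw [mem_pull]
  show (QuotientGroup.mk z : P ⧸ N) = θ 1
  rw [map_one]
  exact (QuotientGroup.eq_one_iff _).2 ((hN z).2 (Or.inr rfl))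

include hN in
theorem ker_cases (x : pull N θ) (hx : x ∈ (proj N θ).ker) :
    x = 1 ∨ x = ⟨(z, 1), z_mem z N hN θ⟩ := by
  obtain ⟨h1, h2⟩ := (mem_ker_proj N θ x).1 hx
  rcases (hN _).1 h1 with h | h
  · left
    apply Subtype.ext
    exact Prod.ext h h2
  · right
    apply Subtype.ext
    exact Prod.ext h h2

include hzc hN in
theorem ker_le_center : (proj N θ).ker ≤ Subgroup.center (pull N θ) := by
  intro x hx
  rw [Subgroup.mem_center_iff]
  intro y
  have hzc' : ∀ p : P, p * z = z * p := fun p => (Subgroup.mem_center_iff.1 hzc p)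
  rcases ker_cases z N hN θ x hx with rfl | rfl
  · simp
  · apply Subtype.ext
    apply Prod.ext
    · exact hzc' _
    · show y.1.2 * 1 = 1 * y.1.2
      rw [mul_one, one_mul]

include hz1 hN in
theorem card_ker : Nat.card (proj N θ).ker = 2 := by
  classical
  have hzk : (⟨(z, 1), z_mem z N hN θ⟩ : pull N θ) ∈ (proj N θ).ker :=
    (mem_ker_proj N θ _).2 ⟨(hN z).2 (Or.inr rfl), rfl⟩
  let a : (proj N θ).ker := 1
  let b : (proj N θ).ker := ⟨_, hzk⟩
  have hab : a ≠ b := by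
    intro h
    have h1 : ((1 : pull N θ) : P × S).1 = z := congrArg (fun t : (proj N θ).ker => (t.1.1).1) h
    exact hz1 h1.symm
  have huniv : ∀ t : (proj N θ).ker, t = a ∨ t = b := by
    intro t
    rcases ker_cases z N hN θ t.1 t.2 with h | h
    · left; exact Subtype.ext h
    · right; exact Subtype.ext h
  have hfin : Fintype (proj N θ).ker :=
    ⟨{a, b}, fun t => by rcases huniv t with h | h <;> simp [h]⟩
  rw [Nat.card_eq_fintype_card]
  have : (Finset.univ : Finset (proj N θ).ker) = {a, b} := by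
    ext t
    rcases huniv t with h | h <;> simp [h]
  rw [← Finset.card_univ, this, Finset.card_pair hab]

include hzc hz2 hN in
theorem ker_le_commutator (hS : commutator S = ⊤) (s₀ : S) (p₀ : P)
    (h0 : (QuotientGroup.mk p₀ : P ⧸ N) = θ s₀) (hs₀ : s₀ * s₀ = 1) (hp₀ : p₀ * p₀ = z) :
    (proj N θ).ker ≤ commutator (pull N θ) := by
  have hmap : Subgroup.map (proj N θ) (commutator (pull N θ)) = ⊤ := by
    rw [commutator_def, Subgroup.map_commutator, ← MonoidHom.range_eq_map,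
      MonoidHom.range_eq_top.2 (proj_surjective N θ), ← commutator_def, hS]
  let x₀ : pull N θ := ⟨(p₀, s₀), (mem_pull N θ _).2 h0⟩
  obtain ⟨y, hy, hyx⟩ : proj N θ x₀ ∈ Subgroup.map (proj N θ) (commutator (pull N θ)) := by
    rw [hmap]; trivial
  have hk : y⁻¹ * x₀ ∈ (proj N θ).ker := by
    rw [MonoidHom.mem_ker, map_mul, map_inv, hyx, inv_mul_cancel]
  have hkc := ker_le_center z hzc N hN θ hk
  have hk2 : (y⁻¹ * x₀) * (y⁻¹ * x₀) = 1 := by
    rcases ker_cases z N hN θ _ hk with h | h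
    · rw [h, mul_one]
    · rw [h]
      apply Subtype.ext
      apply Prod.ext
      · exact hz2
      · show (1 : S) * 1 = 1
        rw [mul_one]
  have hx0 : x₀ * x₀ = y * y := by
    have e : x₀ = y * (y⁻¹ * x₀) := by group
    have hc : ∀ g : pull N θ, g * (y⁻¹ * x₀) = (y⁻¹ * x₀) * g := Subgroup.mem_center_iff.1 hkc
    calc x₀ * x₀ = (y * (y⁻¹ * x₀)) * (y * (y⁻¹ * x₀)) := by rw [← e]
      _ = y * ((y⁻¹ * x₀) * y) * (y⁻¹ * x₀) := by group
      _ = y * (y * (y⁻¹ * x₀)) * (y⁻¹ * x₀) := by rw [← hc y]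
      _ = y * y * ((y⁻¹ * x₀) * (y⁻¹ * x₀)) := by group
      _ = y * y := by rw [hk2, mul_one]
  have hzz : (⟨(z, 1), z_mem z N hN θ⟩ : pull N θ) = x₀ * x₀ := by
    apply Subtype.ext
    apply Prod.ext
    · exact hp₀.symm
    · exact hs₀.symm
  intro t ht
  rcases ker_cases z N hN θ t ht with rfl | rfl
  · exact one_mem _
  · rw [hzz, hx0]
    exact mul_mem hy hy

include hzc hz1 hz2 hN in
/-- the pullback is a stem extension with kernel of order two. -/
theorem pull_stem (hS : commutator S = ⊤) (s₀ : S) (p₀ : P)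
    (h0 : (QuotientGroup.mk p₀ : P ⧸ N) = θ s₀) (hs₀ : s₀ * s₀ = 1) (hp₀ : p₀ * p₀ = z) :
    Cfsg.IsStemExtension (proj N θ) ∧ Nonempty ((proj N θ).ker ≃* Multiplicative (ZMod 2)) := by
  refine ⟨⟨proj_surjective N θ, ker_le_center z hzc N hN θ,
    ker_le_commutator z hzc hz2 N hN θ hS s₀ p₀ h0 hs₀ hp₀⟩, ?_⟩
  haveI : Fact (Nat.Prime 2) := ⟨Nat.prime_two⟩
  exact ⟨mulEquivOfPrimeCardEq (p := 2) (card_ker z hz1 N hN θ) (by
    rw [Nat.card_eq_fintype_card]; simp [ZMod.card])⟩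

end Cfsg.Agent.Lib.helper19_Sp62D
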