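import Mathlib
import Cfsg.Prelude.Def_Classical
import Cfsg.Prelude.Def_KGroupFacts
import Cfsg.Agent.S0246
import Cfsg.Agent.Lib.helper19_Sp62B
import Cfsg.Agent.Lib.helper19_Sp62C
import Cfsg.Agent.Lib.helper19_Sp62D
import Cfsg.Agent.Lib.Helper61_PSpTools

/-!
A finite stem extension of `PSp_6(2)` with kernel of order two (the lower bound for the Schur
multiplier): the pullback of `GL_8(3) → GL_8(3) / ⟨-1⟩ ← W(E₇)⁺ ≃ Sp_6(2)`.  By helper19.
-/

set_option autoImplicit false

namespace Cfsg.Agent.Lib.helper19_Sp62E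

open Cfsg.Agent.Lib.helper19_Sp62B Cfsg.Agent.Lib.helper19_Sp62C Cfsg.Agent.Lib.helper19_Sp62D

universe u

theorem commutator_top_of_surjective {G H : Type*} [Group G] [Group H] (f : G →* H)
    (hf : Function.Surjective f) (hG : commutator G = ⊤) : commutator H = ⊤ := by
  rw [commutator_def, ← MonoidHom.range_eq_top.2 hf, MonoidHom.range_eq_map,
    ← Subgroup.map_commutator, ← commutator_def, hG]

section

variable {F : Type u} [Field F] [Fintype F]

/-- the quotient map `Sp_6(F) → PSp_6(F)`. -/
def quot : Matrix.symplecticGroup (Fin 3) F →* Cfsg.PSp 3 F :=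
  QuotientGroup.mk' (Subgroup.center (Matrix.symplecticGroup (Fin 3) F))

theorem quot_bijective (hF : Fintype.card F = 2) : Function.Bijective (quot (F := F)) := by
  refine ⟨?_, QuotientGroup.mk'_surjective _⟩
  have h1 : Nat.card (Subgroup.center (Matrix.symplecticGroup (Fin 3) F)) = 1 := by
    rw [Cfsg.Agent.S0246.result hF 3 (by norm_num)]
    decide
  have h2 : Subgroup.center (Matrix.symplecticGroup (Fin 3) F) = ⊥ := Subgroup.card_eq_one.1 h1
  rw [← MonoidHom.ker_eq_bot_iff]
  unfold quot
  rw [QuotientGroup.ker_mk', h2]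

/-- `W(E₇)⁺ ≃* PSp_6(F)` for the field with two elements. -/
noncomputable def equivPSp (hF : Fintype.card F = 2) : Wp ≃* Cfsg.PSp 3 F :=
  (equivSp.trans (Cfsg.Agent.Lib.Helper61_PSpTools.spEquiv
    (ZMod.ringEquivOfPrime F Nat.prime_two hF))).trans
    (MulEquiv.ofBijective quot (quot_bijective hF))

theorem psp_perfect (hF : Fintype.card F = 2) : commutator (Cfsg.PSp 3 F) = ⊤ :=
  commutator_top_of_surjective quot (quot_bijective hF).2
    (Cfsg.Agent.Lib.Helper5_SpPerfect.sp_perfect 3 (Or.inl le_rfl))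

/-- the projective lift, transported to `PSp_6(F)`. -/
noncomputable def thetaF (hF : Fintype.card F = 2) : Cfsg.PSp 3 F →* P ⧸ N :=
  (theta.comp Wp.subtype).comp (equivPSp hF).symm.toMonoidHom

/-- the product of two commuting simple reflections, an involution of `W(E₇)⁺`. -/
noncomputable def w01 : Wp :=
  ⟨cs.simple 0 * cs.simple 1, by
    rw [MonoidHom.mem_ker, map_mul, sgn_simple, sgn_simple]
    decide⟩

theorem w01_sq : w01 * w01 = 1 := by
  apply Subtype.ext
  show (cs.simple 0 * cs.simple 1) * (cs.simple 0 * cs.simple 1) = 1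
  have h := cs.simple_mul_simple_pow 0 1
  have h2 : CoxeterMatrix.E₇ 0 1 = 2 := by decide
  rw [h2, pow_two] at h
  exact h

theorem theta_w01 : theta (w01 : W) = QuotientGroup.mk (R 0 * R 1) := by
  show theta (cs.simple 0 * cs.simple 1) = _
  rw [map_mul, theta_simple, theta_simple]
  rfl

/-- the lower bound: a finite stem extension of `PSp_6(2)` with kernel of order `2`. -/
theorem exists_cover (hF : Fintype.card F = 2) :
    ∃ (Γ : Type u) (_ : Group Γ) (_ : Finite Γ) (σ : Γ →* Cfsg.PSp 3 F),
      Cfsg.IsStemExtension σ ∧ Nonempty (σ.ker ≃* Multiplicative (ZMod 2)) := by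
  have hfinS : Finite (Cfsg.PSp 3 F) := inferInstance
  have hfinP : Finite P := inferInstance
  refine ⟨pull N (thetaF hF), inferInstance, inferInstance, proj N (thetaF hF), ?_⟩
  refine pull_stem z z_center z_ne_one z_mul_self N mem_N (thetaF hF) (psp_perfect hF)
    (equivPSp hF w01) (R 0 * R 1) ?_ ?_ witness
  · unfold thetaF
    simp only [MonoidHom.comp_apply, MulEquiv.coe_toMonoidHom, MulEquiv.symm_apply_apply,
      Subgroup.coe_subtype]
    exact theta_w01.symm
  · rw [← map_mul, w01_sq, map_one]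

end

end Cfsg.Agent.Lib.helper19_Sp62E
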