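import Cfsg.Agent.Lib.helper19_SuzL

/-! Generated: relator checks, file 0; by helper19. -/

set_option autoImplicit false
set_option maxRecDepth 1000000

namespace Cfsg.Agent.Lib.helper19_SuzL
open Cfsg.Agent.Lib.helper19_TC2 Cfsg.Agent.Lib.helper19_TC2L

theorem fix0_0 : checkFix 15 32767 (colsOf cols [2, 5, 2, 5]) 22880 0 = true := by
  decide +kernel

theorem fix1_0 : checkFix 15 32767 (colsOf cols [1, 3, 1, 3]) 22880 0 = true := by
  decide +kernel

theorem fix2_0 : checkFix 15 32767 (colsOf cols [2, 6, 2, 6]) 22880 0 = true := by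
  decide +kernel

theorem fix3_0 : checkFix 15 32767 (colsOf cols [1, 4, 1, 4]) 22880 0 = true := by
  decide +kernel

theorem fix4_0 : checkFix 15 32767 (colsOf cols [3, 5, 3, 5]) 22880 0 = true := by
  decide +kernel

theorem fix5_0 : checkFix 15 32767 (colsOf cols [0, 5, 0, 5]) 22880 0 = true := by
  decide +kernel

theorem fix6_0 : checkFix 15 32767 (colsOf cols [3, 6, 3, 6]) 22880 0 = true := by
  decide +kernel

theorem fix7_0 : checkFix 15 32767 (colsOf cols [4, 5, 4, 5]) 22880 0 = true := by
  decide +kernel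

theorem fix8_0 : checkFix 15 32767 (colsOf cols [4, 6, 4, 6]) 22880 0 = true := by
  decide +kernel

theorem fix9_0 : checkFix 15 32767 (colsOf cols [0, 6, 0, 6]) 22880 0 = true := by
  decide +kernel

theorem fix10_0 : checkFix 15 32767 (colsOf cols [1, 5, 1, 5, 1, 5]) 22880 0 = true := by
  decide +kernel

theorem fix11_0 : checkFix 15 32767 (colsOf cols [1, 6, 1, 6, 1, 6]) 22880 0 = true := by
  decide +kernel

end Cfsg.Agent.Lib.helper19_SuzL
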