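import Cfsg.Agent.Lib.helper19_SuzL

/-! Generated: relator checks, file 1; by helper19. -/

set_option autoImplicit false
set_option maxRecDepth 1000000

namespace Cfsg.Agent.Lib.helper19_SuzL
open Cfsg.Agent.Lib.helper19_TC2 Cfsg.Agent.Lib.helper19_TC2L

theorem fix12_0 : checkFix 15 32767 (colsOf cols [1, 2, 1, 2, 1, 2]) 22880 0 = true := by
  decide +kernel

theorem fix13_0 : checkFix 15 32767 (colsOf cols [2, 4, 2, 4]) 22880 0 = true := by
  decide +kernel

theorem fix14_0 : checkFix 15 32767 (colsOf cols [0, 6, 5, 6, 5]) 22880 0 = true := by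
  decide +kernel

theorem fix15_0 : checkFix 15 32767 (colsOf cols [0, 3, 0, 3]) 22880 0 = true := by
  decide +kernel

theorem fix16_0 : checkFix 15 32767 (colsOf cols [5, 6, 5, 6, 5, 6, 5, 6]) 22880 0 = true := by
  decide +kernel

theorem fix17_0 : checkFix 15 32767 (colsOf cols [0, 2, 0, 2]) 22880 0 = true := by
  decide +kernel

theorem fix18_0 : checkFix 15 32767 (colsOf cols [1, 1]) 22880 0 = true := by
  decide +kernel

theorem fix19_0 : checkFix 15 32767 (colsOf cols [0, 4, 0, 4]) 22880 0 = true := by
  decide +kernel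

theorem fix20_0 : checkFix 15 32767 (colsOf cols [6, 6]) 22880 0 = true := by
  decide +kernel

theorem fix21_0 : checkFix 15 32767 (colsOf cols [5, 5]) 22880 0 = true := by
  decide +kernel

theorem fix22_0 : checkFix 15 32767 (colsOf cols [2, 2]) 22880 0 = true := by
  decide +kernel

theorem fix23_0 : checkFix 15 32767 (colsOf cols [3, 3]) 22880 0 = true := by
  decide +kernel

theorem fix24_0 : checkFix 15 32767 (colsOf cols [0, 0]) 22880 0 = true := by
  decide +kernel

theorem fix25_0 : checkFix 15 32767 (colsOf cols [3, 4, 3, 4, 3, 4]) 22880 0 = true := by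
  decide +kernel

end Cfsg.Agent.Lib.helper19_SuzL
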