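import Cfsg.Agent.Lib.helper19_SuzL

/-! Generated: relator checks, file 2; by helper19. -/

set_option autoImplicit false
set_option maxRecDepth 1000000

namespace Cfsg.Agent.Lib.helper19_SuzL
open Cfsg.Agent.Lib.helper19_TC2 Cfsg.Agent.Lib.helper19_TC2L

theorem fix26_0 : checkFix 15 32767 (colsOf cols [0, 1, 0, 1, 0, 1, 0, 1, 0, 1]) 22880 0 = true := by
  decide +kernel

theorem fix27_0 : checkFix 15 32767 (colsOf cols [4, 4]) 22880 0 = true := by
  decide +kernel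

theorem fix28_0 : checkFix 15 32767 (colsOf cols [0, 3, 2, 3, 2, 3, 2, 3, 2]) 22880 0 = true := by
  decide +kernel

theorem fix29_0 : checkFix 15 32767 (colsOf cols [2, 3, 2, 3, 2, 3, 2, 3, 2, 3, 2, 3, 2, 3, 2, 3]) 16250 0 = true := by
  decide +kernel

theorem fix29_1 : checkFix 15 32767 (colsOf cols [2, 3, 2, 3, 2, 3, 2, 3, 2, 3, 2, 3, 2, 3, 2, 3]) 6630 16250 = true := by
  decide +kernel

theorem fix30_0 : checkFix 15 32767 (colsOf cols [1, 5, 6, 1, 5, 6, 1, 5, 6, 1, 5, 6, 1, 5, 6]) 17333 0 = true := by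
  decide +kernel

theorem fix30_1 : checkFix 15 32767 (colsOf cols [1, 5, 6, 1, 5, 6, 1, 5, 6, 1, 5, 6, 1, 5, 6]) 5547 17333 = true := by
  decide +kernel

end Cfsg.Agent.Lib.helper19_SuzL
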