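import Cfsg.Agent.Lib.helper19_TC2
import Cfsg.Agent.Lib.helper19_TC2L
import Cfsg.Agent.Lib.helper19_SuzU
import Cfsg.Agent.Lib.helper19_SuzUR0
import Cfsg.Agent.Lib.helper19_SuzUR1
import Cfsg.Agent.Lib.helper19_SuzUR2
import Cfsg.Agent.Lib.helper19_SuzUC0
import Cfsg.Agent.Lib.helper19_SuzUC1
import Cfsg.Agent.Lib.helper19_SuzUC2
import Cfsg.Agent.Lib.helper19_SuzUC3
import Cfsg.Agent.Lib.helper19_SuzUC4
import Cfsg.Agent.Lib.helper19_SuzUC5
import Cfsg.Agent.Lib.helper19_SuzUC6
import Cfsg.Agent.Lib.helper19_SuzUC7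
import Cfsg.Agent.Lib.helper19_SuzUC8
import Cfsg.Agent.Lib.helper19_SuzUC9
import Cfsg.Agent.Lib.helper19_SuzUC10
import Cfsg.Agent.Lib.helper19_SuzL
import Cfsg.Agent.Lib.helper19_SuzLW0
import Cfsg.Agent.Lib.helper19_SuzLW1
import Cfsg.Agent.Lib.helper19_SuzLW2
import Cfsg.Agent.Lib.helper19_SuzLW3
import Cfsg.Agent.Lib.helper19_SuzLW4

/-! Generated: the combined certificate facts for the presentation `suz`; by helper19. -/

set_option autoImplicit false
set_option maxRecDepth 1000000

namespace Cfsg.Agent.Lib.helper19_SuzA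
open Cfsg.Agent.Lib.helper19_TC2 Cfsg.Agent.Lib.helper19_TC2L Cfsg.Agent.Lib.helper19_SuzU Cfsg.Agent.Lib.helper19_SuzL

section upper
variable {G : Type*} [Group G] (Mo : Model P G)

theorem good : ∀ id < P.Fn, Good Mo id := by
  have h0 : ∀ id < 27416, Good Mo id := good_of_checkDefs Mo defsOK
  have g0 : ∀ id < 34323, Good Mo id := good_step Mo recs0 h0 part0 (by decide)
  have g1 : ∀ id < 42240, Good Mo id := good_step Mo recs1 g0 part1 (by decide)
  have g2 : ∀ id < 49044, Good Mo id := good_step Mo recs2 g1 part2 (by decide)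
  have g3 : ∀ id < 56579, Good Mo id := good_step Mo recs3 g2 part3 (by decide)
  have g4 : ∀ id < 63337, Good Mo id := good_step Mo recs4 g3 part4 (by decide)
  have g5 : ∀ id < 69919, Good Mo id := good_step Mo recs5 g4 part5 (by decide)
  have g6 : ∀ id < 76444, Good Mo id := good_step Mo recs6 g5 part6 (by decide)
  have g7 : ∀ id < 82938, Good Mo id := good_step Mo recs7 g6 part7 (by decide)
  have g8 : ∀ id < 89563, Good Mo id := good_step Mo recs8 g7 part8 (by decide)
  have g9 : ∀ id < 95934, Good Mo id := good_step Mo recs9 g8 part9 (by decide)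
  have g10 : ∀ id < 99410, Good Mo id := good_step Mo recs10 g9 part10 (by decide)
  exact g10

theorem hedge (z : ℕ) (hz : P.isLive z = true) (s : ℕ) (hs : s < P.k) :
    ∃ y, P.isLive y = true ∧ Edge Mo z s y := by
  have hzM : z < 27417 := lt_of_isLive liveM hz
  rcases Nat.lt_or_ge z 9139 with h0 | h0
  · exact edge_of_rows Mo (good Mo) rows0 z (by omega) (by omega) hz s hs
  rcases Nat.lt_or_ge z 18278 with h1 | h1
  · exact edge_of_rows Mo (good Mo) rows1 z (by omega) (by omega) hz s hs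
  exact edge_of_rows Mo (good Mo) rows2 z (by omega) (by omega) hz s hs

/-- the upper bound -/
theorem upper (hgen : Subgroup.closure (Mo.S '' {s | s < P.k}) = ⊤) :
    Mo.H.index ≠ 0 ∧ Mo.H.index ≤ 22880 :=
  index_le Mo hgen invk (hedge Mo) live0 liveM 22880 cntOK

end upper

theorem fix0 : ∀ x < 22880, tr A [2, 5, 2, 5] x = x := by
  intro x hx
  exact fix_of_part 15 32767 cols _ fix0_0 x (by omega) (by omega)

theorem fix1 : ∀ x < 22880, tr A [1, 3, 1, 3] x = x := by
  intro x hx
  exact fix_of_part 15 32767 cols _ fix1_0 x (by omega) (by omega)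

theorem fix2 : ∀ x < 22880, tr A [2, 6, 2, 6] x = x := by
  intro x hx
  exact fix_of_part 15 32767 cols _ fix2_0 x (by omega) (by omega)

theorem fix3 : ∀ x < 22880, tr A [1, 4, 1, 4] x = x := by
  intro x hx
  exact fix_of_part 15 32767 cols _ fix3_0 x (by omega) (by omega)

theorem fix4 : ∀ x < 22880, tr A [3, 5, 3, 5] x = x := by
  intro x hx
  exact fix_of_part 15 32767 cols _ fix4_0 x (by omega) (by omega)

theorem fix5 : ∀ x < 22880, tr A [0, 5, 0, 5] x = x := by
  intro x hx
  exact fix_of_part 15 32767 cols _ fix5_0 x (by omega) (by omega)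

theorem fix6 : ∀ x < 22880, tr A [3, 6, 3, 6] x = x := by
  intro x hx
  exact fix_of_part 15 32767 cols _ fix6_0 x (by omega) (by omega)

theorem fix7 : ∀ x < 22880, tr A [4, 5, 4, 5] x = x := by
  intro x hx
  exact fix_of_part 15 32767 cols _ fix7_0 x (by omega) (by omega)

theorem fix8 : ∀ x < 22880, tr A [4, 6, 4, 6] x = x := by
  intro x hx
  exact fix_of_part 15 32767 cols _ fix8_0 x (by omega) (by omega)

theorem fix9 : ∀ x < 22880, tr A [0, 6, 0, 6] x = x := by
  intro x hx
  exact fix_of_part 15 32767 cols _ fix9_0 x (by omega) (by omega)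

theorem fix10 : ∀ x < 22880, tr A [1, 5, 1, 5, 1, 5] x = x := by
  intro x hx
  exact fix_of_part 15 32767 cols _ fix10_0 x (by omega) (by omega)

theorem fix11 : ∀ x < 22880, tr A [1, 6, 1, 6, 1, 6] x = x := by
  intro x hx
  exact fix_of_part 15 32767 cols _ fix11_0 x (by omega) (by omega)

theorem fix12 : ∀ x < 22880, tr A [1, 2, 1, 2, 1, 2] x = x := by
  intro x hx
  exact fix_of_part 15 32767 cols _ fix12_0 x (by omega) (by omega)

theorem fix13 : ∀ x < 22880, tr A [2, 4, 2, 4] x = x := by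
  intro x hx
  exact fix_of_part 15 32767 cols _ fix13_0 x (by omega) (by omega)

theorem fix14 : ∀ x < 22880, tr A [0, 6, 5, 6, 5] x = x := by
  intro x hx
  exact fix_of_part 15 32767 cols _ fix14_0 x (by omega) (by omega)

theorem fix15 : ∀ x < 22880, tr A [0, 3, 0, 3] x = x := by
  intro x hx
  exact fix_of_part 15 32767 cols _ fix15_0 x (by omega) (by omega)

theorem fix16 : ∀ x < 22880, tr A [5, 6, 5, 6, 5, 6, 5, 6] x = x := by
  intro x hx
  exact fix_of_part 15 32767 cols _ fix16_0 x (by omega) (by omega)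

theorem fix17 : ∀ x < 22880, tr A [0, 2, 0, 2] x = x := by
  intro x hx
  exact fix_of_part 15 32767 cols _ fix17_0 x (by omega) (by omega)

theorem fix18 : ∀ x < 22880, tr A [1, 1] x = x := by
  intro x hx
  exact fix_of_part 15 32767 cols _ fix18_0 x (by omega) (by omega)

theorem fix19 : ∀ x < 22880, tr A [0, 4, 0, 4] x = x := by
  intro x hx
  exact fix_of_part 15 32767 cols _ fix19_0 x (by omega) (by omega)

theorem fix20 : ∀ x < 22880, tr A [6, 6] x = x := by
  intro x hx
  exact fix_of_part 15 32767 cols _ fix20_0 x (by omega) (by omega)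

theorem fix21 : ∀ x < 22880, tr A [5, 5] x = x := by
  intro x hx
  exact fix_of_part 15 32767 cols _ fix21_0 x (by omega) (by omega)

theorem fix22 : ∀ x < 22880, tr A [2, 2] x = x := by
  intro x hx
  exact fix_of_part 15 32767 cols _ fix22_0 x (by omega) (by omega)

theorem fix23 : ∀ x < 22880, tr A [3, 3] x = x := by
  intro x hx
  exact fix_of_part 15 32767 cols _ fix23_0 x (by omega) (by omega)

theorem fix24 : ∀ x < 22880, tr A [0, 0] x = x := by
  intro x hx
  exact fix_of_part 15 32767 cols _ fix24_0 x (by omega) (by omega)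

theorem fix25 : ∀ x < 22880, tr A [3, 4, 3, 4, 3, 4] x = x := by
  intro x hx
  exact fix_of_part 15 32767 cols _ fix25_0 x (by omega) (by omega)

theorem fix26 : ∀ x < 22880, tr A [0, 1, 0, 1, 0, 1, 0, 1, 0, 1] x = x := by
  intro x hx
  exact fix_of_part 15 32767 cols _ fix26_0 x (by omega) (by omega)

theorem fix27 : ∀ x < 22880, tr A [4, 4] x = x := by
  intro x hx
  exact fix_of_part 15 32767 cols _ fix27_0 x (by omega) (by omega)

theorem fix28 : ∀ x < 22880, tr A [0, 3, 2, 3, 2, 3, 2, 3, 2] x = x := by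
  intro x hx
  exact fix_of_part 15 32767 cols _ fix28_0 x (by omega) (by omega)

theorem fix29 : ∀ x < 22880, tr A [2, 3, 2, 3, 2, 3, 2, 3, 2, 3, 2, 3, 2, 3, 2, 3] x = x := by
  intro x hx
  rcases Nat.lt_or_ge x 16250 with h0 | h0
  · exact fix_of_part 15 32767 cols _ fix29_0 x (by omega) (by omega)
  exact fix_of_part 15 32767 cols _ fix29_1 x (by omega) (by omega)

theorem fix30 : ∀ x < 22880, tr A [1, 5, 6, 1, 5, 6, 1, 5, 6, 1, 5, 6, 1, 5, 6] x = x := by
  intro x hx
  rcases Nat.lt_or_ge x 17333 with h0 | h0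
  · exact fix_of_part 15 32767 cols _ fix30_0 x (by omega) (by omega)
  exact fix_of_part 15 32767 cols _ fix30_1 x (by omega) (by omega)

theorem fix31 : ∀ x < 22880, tr A [0, 1, 2, 5, 0, 1, 2, 5, 0, 1, 2, 5, 0, 1, 2, 5, 0, 1, 2, 5] x = x := by
  intro x hx
  rcases Nat.lt_or_ge x 13000 with h0 | h0
  · exact fix_of_part 15 32767 cols _ fix31_0 x (by omega) (by omega)
  exact fix_of_part 15 32767 cols _ fix31_1 x (by omega) (by omega)

theorem fix32 : ∀ x < 22880, tr A [1, 2, 3, 2, 3, 1, 2, 3, 2, 3, 1, 2, 3, 2, 3, 1, 2, 3, 2, 3, 1, 2, 3, 2, 3, 4, 1, 2, 3, 2, 3, 1, 2, 3, 2, 3, 1, 2, 3, 2, 3, 1, 2, 3, 2, 3, 1, 2, 3, 2, 3, 4, 1, 2, 3, 2, 3, 1, 2, 3, 2, 3, 1, 2, 3, 2, 3, 1, 2, 3, 2, 3, 1, 2, 3, 2, 3, 4] x = x := by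
  intro x hx
  rcases Nat.lt_or_ge x 3333 with h0 | h0
  · exact fix_of_part 15 32767 cols _ fix32_0 x (by omega) (by omega)
  rcases Nat.lt_or_ge x 6666 with h1 | h1
  · exact fix_of_part 15 32767 cols _ fix32_1 x (by omega) (by omega)
  rcases Nat.lt_or_ge x 9999 with h2 | h2
  · exact fix_of_part 15 32767 cols _ fix32_2 x (by omega) (by omega)
  rcases Nat.lt_or_ge x 13332 with h3 | h3
  · exact fix_of_part 15 32767 cols _ fix32_3 x (by omega) (by omega)
  rcases Nat.lt_or_ge x 16665 with h4 | h4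
  · exact fix_of_part 15 32767 cols _ fix32_4 x (by omega) (by omega)
  rcases Nat.lt_or_ge x 19998 with h5 | h5
  · exact fix_of_part 15 32767 cols _ fix32_5 x (by omega) (by omega)
  exact fix_of_part 15 32767 cols _ fix32_6 x (by omega) (by omega)

/-- the inverse letters -/
def invL (s : ℕ) : ℕ := [0, 1, 2, 3, 4, 5, 6].getD s 0

theorem isAction : IsAction 22880 7 A invL where
  lt := by
    intro s hs x hx
    interval_cases s
    · exact lt_of_part 15 32767 22880 cols 0 lt0 x (by omega) (by omega)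
    · exact lt_of_part 15 32767 22880 cols 1 lt1 x (by omega) (by omega)
    · exact lt_of_part 15 32767 22880 cols 2 lt2 x (by omega) (by omega)
    · exact lt_of_part 15 32767 22880 cols 3 lt3 x (by omega) (by omega)
    · exact lt_of_part 15 32767 22880 cols 4 lt4 x (by omega) (by omega)
    · exact lt_of_part 15 32767 22880 cols 5 lt5 x (by omega) (by omega)
    · exact lt_of_part 15 32767 22880 cols 6 lt6 x (by omega) (by omega)
  invk := by decide
  invinv := by decide
  cancel := by
    intro s hs x hx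
    interval_cases s
    · exact fix24 x hx
    · exact fix18 x hx
    · exact fix22 x hx
    · exact fix23 x hx
    · exact fix27 x hx
    · exact fix21 x hx
    · exact fix20 x hx

theorem tree_ok (x : ℕ) (h0 : 0 < x) (hx : x < 22880) : ∃ p s, p < x ∧ s < 7 ∧ A s p = x :=
  tree_of_part 15 32767 23 8388607 7 cols tree treeOK x (by omega) (by omega)

end Cfsg.Agent.Lib.helper19_SuzA
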