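import Mathlib
import Cfsg.Agent.Lib.helper19_TC2L

/-!
Orbits of a subgroup `H` on its cosets, read off from a verified permutation representation in
which the orbits are intervals of points.  By helper19.
-/

set_option autoImplicit false

namespace Cfsg.Agent.Lib.helper19_TC2O

open Cfsg.Agent.Lib.helper19_TC2 Cfsg.Agent.Lib.helper19_TC2L

section
variable {G : Type*} [Group G] (H : Subgroup G) {N k : ℕ} {a : ℕ → ℕ → ℕ} {inv : ℕ → ℕ}
  (hN : 0 < N) (h : IsAction N k a inv) (ψ : G →* Equiv.Perm (Fin N))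
  (hH : ∀ g ∈ H, ψ g ⟨0, hN⟩ = ⟨0, hN⟩)

/-- the point of a coset. -/
noncomputable def pt : G ⧸ H → Fin N :=
  fun q => Quotient.liftOn' q (fun g => ψ g ⟨0, hN⟩) (by
    intro g1 g2 hg
    rw [QuotientGroup.leftRel_apply] at hg
    have := hH _ hg
    rw [map_mul, map_inv, Equiv.Perm.mul_apply, Equiv.Perm.inv_eq_iff_eq] at this
    exact this.symm)

theorem pt_mk (g : G) : pt H hN ψ hH (QuotientGroup.mk g) = ψ g ⟨0, hN⟩ := rfl

theorem pt_smul (g : G) (q : G ⧸ H) : pt H hN ψ hH (g • q) = ψ g (pt H hN ψ hH q) := by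
  induction q using QuotientGroup.induction_on with
  | H g' =>
    rw [MulAction.Quotient.smul_mk, pt_mk, pt_mk, smul_eq_mul, map_mul, Equiv.Perm.mul_apply]

theorem pt_surjective (hreach : ∀ x (hx : x < N), ∃ g : G, ψ g ⟨0, hN⟩ = ⟨x, hx⟩) :
    Function.Surjective (pt H hN ψ hH) := by
  intro x
  obtain ⟨g, hg⟩ := hreach x.1 x.2
  exact ⟨QuotientGroup.mk g, by rw [pt_mk, hg]⟩

theorem pt_bijective (hidx : H.index = N)
    (hreach : ∀ x (hx : x < N), ∃ g : G, ψ g ⟨0, hN⟩ = ⟨x, hx⟩) :
    Function.Bijective (pt H hN ψ hH) := by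
  have hfin : Finite (G ⧸ H) := by
    have : Nat.card (G ⧸ H) ≠ 0 := by
      have := hidx; rw [Subgroup.index] at this; omega
    exact Nat.finite_of_card_ne_zero this
  have hs := pt_surjective H hN ψ hH hreach
  have := Fintype.ofFinite (G ⧸ H)
  rw [Fintype.bijective_iff_surjective_and_card]
  refine ⟨hs, ?_⟩
  have := hidx
  rw [Subgroup.index, Nat.card_eq_fintype_card] at this
  rw [this, Fintype.card_fin]

/-- a permutation mapping a set of a finite type into itself has an inverse doing the same. -/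
theorem perm_inv_mapsTo {α : Type*} [Finite α] (σ : Equiv.Perm α) (I : Set α)
    (hI : ∀ x ∈ I, σ x ∈ I) : ∀ x ∈ I, σ⁻¹ x ∈ I := by
  have himg : σ '' I = I := by
    apply Set.eq_of_subset_of_ncard_le
    · rintro _ ⟨z, hz, rfl⟩; exact hI z hz
    · rw [Set.ncard_image_of_injective _ σ.injective]
    · exact Set.toFinite I
  intro x hx
  rw [← himg] at hx
  obtain ⟨z, hz, rfl⟩ := hx
  simpa using hz

end

/-- reachability of all points from the tree. -/
theorem reach_of_tree {G : Type*} [Group G] {N k : ℕ} {a : ℕ → ℕ → ℕ} {inv : ℕ → ℕ} (hN : 0 < N)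
    (h : IsAction N k a inv) (S : ℕ → G) (ψ : G →* Equiv.Perm (Fin N))
    (hψ : ∀ s < k, ψ (S s) = (perm h s)⁻¹)
    (htree : ∀ x, 0 < x → x < N → ∃ p s, p < x ∧ s < k ∧ a s p = x) :
    ∀ x (hx : x < N), ∃ g : G, ψ g ⟨0, hN⟩ = ⟨x, hx⟩ := by
  intro x
  induction x using Nat.strong_induction_on with
  | _ x ih =>
    intro hx
    rcases Nat.eq_zero_or_pos x with h0 | hpos
    · subst h0; exact ⟨1, by simp⟩
    · obtain ⟨p, s, hp, hs, hps⟩ := htree x hpos hx
      obtain ⟨g, hg⟩ := ih p hp (by omega)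
      refine ⟨(S s)⁻¹ * g, ?_⟩
      rw [map_mul, map_inv, hψ s hs, inv_inv, Equiv.Perm.mul_apply, hg]
      apply Fin.ext
      rw [perm_apply h hs]
      exact hps

/-- an interval of points closed under the generators of `H` and connected from its first point
is the image of an orbit of `H` on the cosets. -/
theorem orbit_ncard {G : Type*} [Group G] (H : Subgroup G) {N k : ℕ} {a : ℕ → ℕ → ℕ}
    {inv : ℕ → ℕ} (hN : 0 < N) (h : IsAction N k a inv) (S : ℕ → G)
    (ψ : G →* Equiv.Perm (Fin N)) (hψ : ∀ s < k, ψ (S s) = (perm h s)⁻¹)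
    (hH : ∀ g ∈ H, ψ g ⟨0, hN⟩ = ⟨0, hN⟩) (hidx : H.index = N)
    (htree : ∀ x, 0 < x → x < N → ∃ p s, p < x ∧ s < k ∧ a s p = x)
    (subW : List (List ℕ)) (hsubk : ∀ w ∈ subW, ∀ s ∈ w, s < k)
    (hHle : H ≤ Subgroup.closure ((fun w => wprod S w) '' {w | w ∈ subW}))
    (hHge : ∀ w ∈ subW, wprod S w ∈ H)
    (lo hi : ℕ) (hlo : lo < hi) (hhi : hi ≤ N)
    (hclosed : ∀ w ∈ subW, ∀ x, lo ≤ x → x < hi → lo ≤ tr a w x ∧ tr a w x < hi)
    (hreach : ∀ x, lo < x → x < hi → ∃ p w, lo ≤ p ∧ p < x ∧ w ∈ subW ∧ tr a w p = x) :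
    ∃ q : G ⧸ H, (MulAction.orbit H q).ncard = hi - lo := by
  classical
  have hreachAll := reach_of_tree hN h S ψ hψ htree
  have hbij := pt_bijective H hN ψ hH hidx hreachAll
  set e := pt H hN ψ hH with he
  -- the interval as a set of points
  let I : Set (Fin N) := {x | lo ≤ x.1 ∧ x.1 < hi}
  -- the word maps: ψ (wprod S w)⁻¹ x = tr a w x
  have hword : ∀ w, (∀ s ∈ w, s < k) → ∀ x : Fin N,
      (((ψ (wprod S w))⁻¹ x : Fin N) : ℕ) = tr a w x := by
    intro w hw x
    have : ψ (wprod S w) = pword h w := by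
      clear x
      induction w with
      | nil => simp [wprod, pword_nil]
      | cons s w ih =>
        rw [wprod, map_mul, pword_cons, hψ s (hw s (by simp)),
          ih (fun t ht => hw t (by simp [ht]))]
    rw [this, pword_inv_apply h w hw]
  -- each generator's inverse permutation preserves I, hence so does the generator (finite)
  have hpres_inv : ∀ w ∈ subW, ∀ x ∈ I, (ψ (wprod S w))⁻¹ x ∈ I := by
    intro w hw x hx
    have := hclosed w hw x.1 hx.1 hx.2
    show lo ≤ ((ψ (wprod S w))⁻¹ x).1 ∧ ((ψ (wprod S w))⁻¹ x).1 < hi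
    rw [hword w (hsubk w hw) x]
    exact this
  have hpres : ∀ w ∈ subW, ∀ x ∈ I, ψ (wprod S w) x ∈ I := by
    intro w hw x hx
    have := perm_inv_mapsTo (ψ (wprod S w))⁻¹ I (hpres_inv w hw) x hx
    simpa using this
  -- every element of H preserves I
  have hHpres : ∀ g ∈ H, ∀ x ∈ I, ψ g x ∈ I := by
    intro g hg
    have hg' := hHle hg
    clear hg
    induction hg' using Subgroup.closure_induction with
    | mem y hy =>
      obtain ⟨w, hw, rfl⟩ := hy
      exact hpres w hw
    | one => intro x hx; simpa using hx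
    | mul y z _ _ ihy ihz => intro x hx; rw [map_mul, Equiv.Perm.mul_apply]; exact ihy _ (ihz x hx)
    | inv y hy ihy =>
      rw [map_inv]
      exact perm_inv_mapsTo (ψ y) I ihy
  -- the base coset
  have hloN : lo < N := by omega
  obtain ⟨q, hq⟩ := hbij.2 ⟨lo, hloN⟩
  refine ⟨q, ?_⟩
  have himage : e '' (MulAction.orbit H q) = I := by
    apply Set.eq_of_subset_of_subset
    · rintro _ ⟨_, ⟨g, rfl⟩, rfl⟩
      show e ((g : G) • q) ∈ I
      rw [he, pt_smul, ← he, hq]
      exact hHpres g.1 g.2 _ ⟨le_refl _, hlo⟩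
    · intro x hx
      -- reach x from lo inside I
      have key : ∀ y (hy : y < N), lo ≤ y → y < hi → ∃ g ∈ H, ψ g ⟨lo, hloN⟩ = ⟨y, hy⟩ := by
        intro y
        induction y using Nat.strong_induction_on with
        | _ y ih =>
          intro hy h1 h2
          rcases Nat.eq_or_lt_of_le h1 with h0 | hpos
          · subst h0; exact ⟨1, H.one_mem, by simp⟩
          · obtain ⟨p, w, hp1, hp2, hw, hpw⟩ := hreach y hpos h2
            obtain ⟨g, hgH, hg⟩ := ih p hp2 (by omega) hp1 (by omega)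
            refine ⟨(wprod S w)⁻¹ * g, H.mul_mem (H.inv_mem (hHge w hw)) hgH, ?_⟩
            rw [map_mul, Equiv.Perm.mul_apply, hg, map_inv]
            apply Fin.ext
            rw [hword w (hsubk w hw)]
            exact hpw
      obtain ⟨g, hgH, hg⟩ := key x.1 x.2 hx.1 hx.2
      refine ⟨(⟨g, hgH⟩ : H) • q, ⟨⟨g, hgH⟩, rfl⟩, ?_⟩
      show e (g • q) = x
      rw [he, pt_smul, ← he, hq, hg]
  have hcard : (MulAction.orbit H q).ncard = I.ncard := by
    rw [← himage, Set.ncard_image_of_injective _ hbij.1]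
  rw [hcard]
  -- the cardinality of the interval
  have hI : I.ncard = hi - lo := by
    have hIeq : I = ((Finset.univ.filter fun x : Fin N => lo ≤ x.1 ∧ x.1 < hi : Finset (Fin N)) :
        Set (Fin N)) := by
      ext x; simp [I]
    rw [hIeq, Set.ncard_coe_finset]
    have : (Finset.univ.filter fun x : Fin N => lo ≤ x.1 ∧ x.1 < hi).card =
        (Finset.Ico lo hi).card := by
      apply Finset.card_bij (fun x _ => x.1)
      · intro x hx
        simp only [Finset.mem_filter, Finset.mem_univ, true_and] at hx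
        simp [hx.1, hx.2]
      · intro x _ y _ hxy; exact Fin.ext hxy
      · intro y hy
        simp only [Finset.mem_Ico] at hy
        exact ⟨⟨y, by omega⟩, by simp [hy.1, hy.2], rfl⟩
    rw [this, Nat.card_Ico]
  exact hI

end Cfsg.Agent.Lib.helper19_TC2O
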